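import Cfsg.Statements.S3515
import Cfsg.Agent.Lib.Helper64.Affine

set_option autoImplicit false
open Cfsg

namespace Cfsg.Agent.S3515

theorem enum2 : ∀ x : Fin 2 → ZMod 2,
    x = 0 ∨ x = Pi.single 0 1 ∨ x = Pi.single 1 1 ∨ x = Pi.single 0 1 + Pi.single 1 1 := by
  decide

theorem ne2 : (Pi.single 0 1 + Pi.single 1 1 : Fin 2 → ZMod 2) ≠ 0 ∧
    (Pi.single 0 1 + Pi.single 1 1 : Fin 2 → ZMod 2) ≠ Pi.single 0 1 ∧
    (Pi.single 0 1 + Pi.single 1 1 : Fin 2 → ZMod 2) ≠ Pi.single 1 1 := by
  decide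

/-- two affine maps of the plane agreeing on `0, e₀, e₁` are equal -/
theorem aff_ext {K : Type*} [Field K]
    (A A' : (Fin 2 → K) ≃ₗ[K] (Fin 2 → K)) (b b' : Fin 2 → K)
    (h0 : A 0 + b = A' 0 + b') (h1 : A (Pi.single 0 1) + b = A' (Pi.single 0 1) + b')
    (h2 : A (Pi.single 1 1) + b = A' (Pi.single 1 1) + b') (x : Fin 2 → K) :
    A x + b = A' x + b' := by
  have hb : b = b' := by simpa using h0
  subst hb
  have e1 : A (Pi.single 0 1) = A' (Pi.single 0 1) := add_right_cancel h1
  have e2 : A (Pi.single 1 1) = A' (Pi.single 1 1) := add_right_cancel h2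
  have : (A : (Fin 2 → K) →ₗ[K] (Fin 2 → K)) = A' := by
    apply LinearMap.pi_ext'
    intro i
    apply LinearMap.ext_ring
    fin_cases i
    · simpa using e1
    · simpa using e2
  have hx : A x = A' x := by
    have := congrArg (fun f : (Fin 2 → K) →ₗ[K] (Fin 2 → K) => f x) this
    simpa using this
  rw [hx]

/-- Every primitive affine permutation group of degree p² is 3-closed. Let p be a prime and G a group of permutations of the plane V = F_p² consisting of affine maps x ↦ Ax + b, containing all translations, and acting primitively on V. Then any permutation σ of V that agrees on every triple of points with some element of G (σ preserves every G-orbit on ordered triples) already lies in G. -/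
theorem result (p : ℕ) [Fact p.Prime] (G : Subgroup (Equiv.Perm (Fin 2 → ZMod p)))
    (haff : (G : Set (Equiv.Perm (Fin 2 → ZMod p))) ⊆ {τ : Equiv.Perm (Fin 2 → ZMod p) | ∃ (A : (Fin 2 → ZMod p) ≃ₗ[ZMod p] (Fin 2 → ZMod p)) (b : Fin 2 → ZMod p), ∀ x, τ x = A x + b})
    (htrans : ∀ b : Fin 2 → ZMod p, ∃ g ∈ G, ∀ x, g x = x + b) (hprim : MulAction.IsPreprimitive G (Fin 2 → ZMod p))
    (σ : Equiv.Perm (Fin 2 → ZMod p)) (hσ : (∀ t : Fin 3 → (Fin 2 → ZMod p), ∃ g ∈ G, ∀ i, σ (t i) = g (t i))) : σ ∈ G := by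
  obtain ⟨g, hgG, hg⟩ := hσ ![0, Pi.single 0 1, Pi.single 1 1]
  have hg0 : σ 0 = g 0 := hg 0
  have hg1 : σ (Pi.single 0 1) = g (Pi.single 0 1) := hg 1
  have hg2 : σ (Pi.single 1 1) = g (Pi.single 1 1) := hg 2
  suffices h : σ = g by rw [h]; exact hgG
  by_cases hp : p = 2
  · subst hp
    ext1 x
    rcases enum2 x with rfl | rfl | rfl | rfl
    · exact hg0
    · exact hg1
    · exact hg2
    · -- the fourth point
      set w : Fin 2 → ZMod 2 := Pi.single 0 1 + Pi.single 1 1 with hw
      have hw0 : w ≠ 0 := ne2.1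
      have hw1 : w ≠ Pi.single 0 1 := ne2.2.1
      have hw2 : w ≠ Pi.single 1 1 := ne2.2.2
      rcases enum2 (g.symm (σ w)) with h | h | h | h
      · exfalso
        rw [Equiv.symm_apply_eq, ← hg0] at h
        exact hw0 (σ.injective h)
      · exfalso
        rw [Equiv.symm_apply_eq, ← hg1] at h
        exact hw1 (σ.injective h)
      · exfalso
        rw [Equiv.symm_apply_eq, ← hg2] at h
        exact hw2 (σ.injective h)
      · rw [Equiv.symm_apply_eq] at h
        exact h
  · have hσaff := Cfsg.Agent.Lib.Helper64.aff_of_triples hp σ (by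
      intro t
      obtain ⟨g', hg'G, hg'⟩ := hσ t
      obtain ⟨A, b, hAb⟩ := haff hg'G
      exact ⟨A, b, fun i => by rw [hg' i, hAb]⟩)
    obtain ⟨A, b, hAb⟩ := hσaff
    obtain ⟨A', b', hAb'⟩ := haff hgG
    ext1 x
    rw [hAb, hAb']
    apply aff_ext
    · rw [← hAb, ← hAb']; exact hg0
    · rw [← hAb, ← hAb']; exact hg1
    · rw [← hAb, ← hAb']; exact hg2

end Cfsg.Agent.S3515
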