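import Cfsg.Statements.S3516
import Cfsg.Agent.Lib.Helper64.Affine
import Cfsg.Agent.Lib.Helper64.LinAlg

set_option autoImplicit false
open Cfsg

namespace Cfsg.Agent.S3516

/-- Let p be an odd prime, d ≥ 3, and G a group of affine permutations x ↦ Ax + b of V = F_p^d containing all translations and all maps x ↦ Ax with A of determinant 1. Then the 3-closure of G is the full affine group: a permutation σ of V agrees on every triple of points with some element of G if and only if σ is an affine map. -/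
theorem result (p : ℕ) [Fact p.Prime] (hp : p ≠ 2) (d : ℕ) (hd : 3 ≤ d) (G : Subgroup (Equiv.Perm (Fin d → ZMod p)))
    (haff : (G : Set (Equiv.Perm (Fin d → ZMod p))) ⊆ {τ : Equiv.Perm (Fin d → ZMod p) | ∃ (A : (Fin d → ZMod p) ≃ₗ[ZMod p] (Fin d → ZMod p)) (b : Fin d → ZMod p), ∀ x, τ x = A x + b})
    (htrans : ∀ b : Fin d → ZMod p, ∃ g ∈ G, ∀ x, g x = x + b)
    (hsl : ∀ A : (Fin d → ZMod p) ≃ₗ[ZMod p] (Fin d → ZMod p), LinearMap.det (A : (Fin d → ZMod p) →ₗ[ZMod p] (Fin d → ZMod p)) = 1 → ∃ g ∈ G, ∀ x, g x = A x)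
    (σ : Equiv.Perm (Fin d → ZMod p)) :
    (∀ t : Fin 3 → (Fin d → ZMod p), ∃ g ∈ G, ∀ i, σ (t i) = g (t i)) ↔ σ ∈ {τ : Equiv.Perm (Fin d → ZMod p) | ∃ (A : (Fin d → ZMod p) ≃ₗ[ZMod p] (Fin d → ZMod p)) (b : Fin d → ZMod p), ∀ x, τ x = A x + b} := by
  constructor
  · intro hσ
    exact Cfsg.Agent.Lib.Helper64.aff_of_triples hp σ (by
      intro t
      obtain ⟨g', hg'G, hg'⟩ := hσ t
      obtain ⟨A, b, hAb⟩ := haff hg'G
      exact ⟨A, b, fun i => by rw [hg' i, hAb]⟩)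
  · rintro ⟨A, b, hAb⟩ t
    set W : Submodule (ZMod p) (Fin d → ZMod p) :=
      Submodule.span (ZMod p) (Set.range ![t 1 - t 0, t 2 - t 0]) with hWdef
    have hWlt : W < ⊤ := by
      rw [lt_top_iff_ne_top]
      intro htop
      have h1 : Module.finrank (ZMod p) W ≤ 2 := by
        have := finrank_range_le_card (R := ZMod p) ![t 1 - t 0, t 2 - t 0]
        rw [Set.finrank] at this
        simpa [hWdef] using this
      rw [htop, finrank_top, Module.finrank_fin_fun] at h1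
      omega
    obtain ⟨B, hBdet, hBW⟩ := Cfsg.Agent.Lib.Helper64.exists_det_one_agree W hWlt A
    obtain ⟨g₁, hg₁G, hg₁⟩ := hsl B hBdet
    obtain ⟨g₀, hg₀G, hg₀⟩ := htrans (- t 0)
    obtain ⟨g₂, hg₂G, hg₂⟩ := htrans (σ (t 0))
    refine ⟨g₂ * g₁ * g₀, G.mul_mem (G.mul_mem hg₂G hg₁G) hg₀G, ?_⟩
    have hmem : ∀ i, t i - t 0 ∈ W := by
      intro i
      fin_cases i
      · simp
      · exact Submodule.subset_span ⟨0, rfl⟩
      · exact Submodule.subset_span ⟨1, rfl⟩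
    intro i
    rw [Equiv.Perm.mul_apply, Equiv.Perm.mul_apply, hg₀, hg₁, hg₂, ← sub_eq_add_neg,
      hBW _ (hmem i), hAb, hAb, map_sub]
    abel

end Cfsg.Agent.S3516
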