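import Cfsg.Statements.S3517
import Cfsg.Agent.Lib.Helper64.LinAlg

set_option autoImplicit false
open Cfsg

namespace Cfsg.Agent.S3517

theorem zmod2_cases : ∀ a : ZMod 2, a = 0 ∨ a = 1 := by decide

/-- For d ≥ 3, the 3-closure of the affine group AGL_d(2) acting on F_2^d is the full symmetric group: every permutation of F_2^d agrees on every ordered triple of points with some affine map (AGL_d(2) is 3-transitive). -/
theorem result (d : ℕ) (hd : 3 ≤ d) (σ : Equiv.Perm (Fin d → ZMod 2)) (t : Fin 3 → (Fin d → ZMod 2)) :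
    ∃ (A : (Fin d → ZMod 2) ≃ₗ[ZMod 2] (Fin d → ZMod 2)) (b : Fin d → ZMod 2), ∀ i, σ (t i) = A (t i) + b := by
  have hchar : ∀ x : Fin d → ZMod 2, x + x = 0 := fun x => by
    ext i; exact CharTwo.add_self_eq_zero (x i)
  have hsub : ∀ x y : Fin d → ZMod 2, x - y = x + y := fun x y => by
    ext i; exact CharTwo.sub_eq_add (x i) (y i)
  set u₁ := t 1 - t 0 with hu₁
  set u₂ := t 2 - t 0 with hu₂
  set v₁ := σ (t 1) - σ (t 0) with hv₁
  set v₂ := σ (t 2) - σ (t 0) with hv₂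
  let f : (ZMod 2 × ZMod 2) →ₗ[ZMod 2] (Fin d → ZMod 2) :=
    LinearMap.coprod (LinearMap.toSpanSingleton _ _ u₁) (LinearMap.toSpanSingleton _ _ u₂)
  let g : (ZMod 2 × ZMod 2) →ₗ[ZMod 2] (Fin d → ZMod 2) :=
    LinearMap.coprod (LinearMap.toSpanSingleton _ _ v₁) (LinearMap.toSpanSingleton _ _ v₂)
  have hf : ∀ a b : ZMod 2, f (a, b) = a • u₁ + b • u₂ := fun a b => by
    simp [f, LinearMap.coprod_apply, LinearMap.toSpanSingleton_apply]
  have hg : ∀ a b : ZMod 2, g (a, b) = a • v₁ + b • v₂ := fun a b => by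
    simp [g, LinearMap.coprod_apply, LinearMap.toSpanSingleton_apply]
  have e1 : u₁ = 0 ↔ v₁ = 0 := by
    rw [hu₁, hv₁, sub_eq_zero, sub_eq_zero, σ.apply_eq_iff_eq]
  have e2 : u₂ = 0 ↔ v₂ = 0 := by
    rw [hu₂, hv₂, sub_eq_zero, sub_eq_zero, σ.apply_eq_iff_eq]
  have e3 : u₁ + u₂ = 0 ↔ v₁ + v₂ = 0 := by
    have h1 : u₁ + u₂ = t 1 - t 2 := by
      rw [hu₁, hu₂, hsub, hsub, hsub]
      have := hchar (t 0)
      calc t 1 + t 0 + (t 2 + t 0) = t 1 + t 2 + (t 0 + t 0) := by abel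
        _ = t 1 + t 2 := by rw [this, add_zero]
    have h2 : v₁ + v₂ = σ (t 1) - σ (t 2) := by
      rw [hv₁, hv₂, hsub, hsub, hsub]
      have := hchar (σ (t 0))
      calc σ (t 1) + σ (t 0) + (σ (t 2) + σ (t 0)) = σ (t 1) + σ (t 2) + (σ (t 0) + σ (t 0)) := by abel
        _ = σ (t 1) + σ (t 2) := by rw [this, add_zero]
    rw [h1, h2, sub_eq_zero, sub_eq_zero, σ.apply_eq_iff_eq]
  have hker : LinearMap.ker f = LinearMap.ker g := by
    ext ⟨a, b⟩
    rw [LinearMap.mem_ker, LinearMap.mem_ker, hf, hg]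
    rcases zmod2_cases a with rfl | rfl <;> rcases zmod2_cases b with rfl | rfl
    · simp
    · simpa using e2
    · simpa using e1
    · simpa using e3
  obtain ⟨A, hA⟩ := Cfsg.Agent.Lib.Helper64.exists_linearEquiv_of_ker_eq f g hker
  have hA1 : A u₁ = v₁ := by
    have := hA (1, 0)
    rw [hf, hg] at this
    simpa using this
  have hA2 : A u₂ = v₂ := by
    have := hA (0, 1)
    rw [hf, hg] at this
    simpa using this
  refine ⟨A, σ (t 0) - A (t 0), ?_⟩
  intro i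
  fin_cases i
  · simp
  · have : A (t 1) = A u₁ + A (t 0) := by rw [← map_add, hu₁, sub_add_cancel]
    show σ (t 1) = A (t 1) + (σ (t 0) - A (t 0))
    rw [this, hA1, hv₁]; abel
  · have : A (t 2) = A u₂ + A (t 0) := by rw [← map_add, hu₂, sub_add_cancel]
    show σ (t 2) = A (t 2) + (σ (t 0) - A (t 0))
    rw [this, hA2, hv₂]; abel

end Cfsg.Agent.S3517
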