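import Cfsg.Statements.S3518
import Cfsg.Agent.Lib.Helper64.McConnel

set_option autoImplicit false
open Cfsg

namespace Cfsg.Agent.S3518

open Cfsg.Agent.Lib.Helper64

/-- the affine permutation `x ↦ a x + b` -/
def affPerm {R : Type*} [Ring R] (a : Rˣ) (b : R) : Equiv.Perm R where
  toFun x := (a : R) * x + b
  invFun y := ((a⁻¹ : Rˣ) : R) * (y - b)
  left_inv x := by simp
  right_inv y := by simp

theorem affPerm_apply {R : Type*} [Ring R] (a : Rˣ) (b : R) (x : R) :
    affPerm a b x = (a : R) * x + b := rfl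

theorem affPerm_mem {R : Type*} [Ring R] (a : Rˣ) (b : R) : affPerm a b ∈ Cfsg.affineGroup R :=
  ⟨a, b, fun _ => rfl⟩

/-- Closures of subgroups of the one-dimensional affine group. Let p be a prime and G a group of permutations of F_p lying in the affine group AGL₁(p) = {x ↦ ax + b, a ≠ 0} and containing all translations. (1) If G is a proper subgroup of AGL₁(p), then G is 2-closed: a permutation of F_p agreeing on every ordered pair of points with some element of G lies in G. (2) Every permutation of F_p agrees on every ordered pair with some element of AGL₁(p) (the 2-closure of AGL₁(p) is the symmetric group). (3) AGL₁(p) is 3-closed: a permutation agreeing on every ordered triple with some affine map is affine. -/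
theorem result (p : ℕ) [Fact p.Prime] (G : Subgroup (Equiv.Perm (ZMod p))) (hG : G ≤ Cfsg.affineGroup (ZMod p))
    (htrans : ∀ b : ZMod p, ∃ g ∈ G, ∀ x, g x = x + b) :
    (G ≠ Cfsg.affineGroup (ZMod p) → ∀ σ : Equiv.Perm (ZMod p), (∀ t : Fin 2 → ZMod p, ∃ g ∈ G, ∀ i, σ (t i) = g (t i)) → σ ∈ G) ∧
    (∀ σ : Equiv.Perm (ZMod p), (∀ t : Fin 2 → ZMod p, ∃ g ∈ Cfsg.affineGroup (ZMod p), ∀ i, σ (t i) = g (t i))) ∧
    (∀ σ : Equiv.Perm (ZMod p), (∀ t : Fin 3 → ZMod p, ∃ g ∈ Cfsg.affineGroup (ZMod p), ∀ i, σ (t i) = g (t i)) → σ ∈ Cfsg.affineGroup (ZMod p)) := by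
  refine ⟨?_, ?_, ?_⟩
  · intro hne σ hσ
    -- every affine map with multiplier in A lies in G
    have hmemG : ∀ (a : (ZMod p)ˣ) (b c : ZMod p), affPerm a b ∈ G → affPerm a c ∈ G := by
      intro a b c hab
      obtain ⟨τ, hτG, hτ⟩ := htrans (c - b)
      have : affPerm a c = τ * affPerm a b := by
        ext x
        rw [Equiv.Perm.mul_apply, hτ, affPerm_apply, affPerm_apply]
        ring
      rw [this]
      exact G.mul_mem hτG hab
    let A : Subgroup (ZMod p)ˣ :=
      { carrier := {a | affPerm a 0 ∈ G}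
        one_mem' := by
          have : affPerm (1 : (ZMod p)ˣ) 0 = 1 := by
            ext x; simp [affPerm_apply]
          show affPerm (1 : (ZMod p)ˣ) 0 ∈ G
          rw [this]; exact G.one_mem
        mul_mem' := by
          intro a b ha hb
          have : affPerm (a * b) 0 = affPerm a 0 * affPerm b 0 := by
            ext x
            rw [Equiv.Perm.mul_apply, affPerm_apply, affPerm_apply, affPerm_apply, Units.val_mul]
            ring
          show affPerm (a * b) 0 ∈ G
          rw [this]; exact G.mul_mem ha hb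
        inv_mem' := by
          intro a ha
          have : affPerm a⁻¹ 0 = (affPerm a 0)⁻¹ := by
            rw [eq_inv_iff_mul_eq_one]
            ext x
            rw [Equiv.Perm.mul_apply, affPerm_apply, affPerm_apply, Equiv.Perm.one_apply, add_zero,
              add_zero, ← mul_assoc, Units.inv_mul, one_mul]
          show affPerm a⁻¹ 0 ∈ G
          rw [this]; exact G.inv_mem ha }
    have hAmem : ∀ a : (ZMod p)ˣ, a ∈ A ↔ affPerm a 0 ∈ G := fun a => Iff.rfl
    have hGA : ∀ g ∈ G, ∃ a ∈ A, ∃ b, g = affPerm a b := by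
      intro g hg
      obtain ⟨a, b, hab⟩ := hG hg
      have hge : g = affPerm a b := by
        ext x; rw [hab, affPerm_apply]
      refine ⟨a, ?_, b, hge⟩
      rw [hAmem]
      exact hmemG a b 0 (hge ▸ hg)
    have hAtop : A ≠ ⊤ := by
      intro htop
      apply hne
      apply le_antisymm hG
      rintro g ⟨a, b, hab⟩
      have hge : g = affPerm a b := by
        ext x; rw [hab, affPerm_apply]
      have ha : a ∈ A := by rw [htop]; trivial
      rw [hge]
      exact hmemG a 0 b ((hAmem a).mp ha)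
    have hf : ∀ x y, x ≠ y → ∃ a ∈ A, σ x - σ y = ((a : (ZMod p)ˣ) : ZMod p) * (x - y) := by
      intro x y _
      obtain ⟨g, hgG, hg⟩ := hσ ![x, y]
      obtain ⟨a, ha, b, rfl⟩ := hGA g hgG
      refine ⟨a, ha, ?_⟩
      have h0 : σ x = affPerm a b x := hg 0
      have h1 : σ y = affPerm a b y := hg 1
      rw [h0, h1, affPerm_apply, affPerm_apply]
      ring
    obtain ⟨a, ha, b, hab⟩ := mcconnel A hAtop σ σ.injective hf
    have : σ = affPerm a b := by
      ext x; rw [hab, affPerm_apply]
    rw [this]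
    exact hmemG a 0 b ((hAmem a).mp ha)
  · intro σ t
    by_cases h : t 0 = t 1
    · refine ⟨affPerm 1 (σ (t 0) - t 0), affPerm_mem _ _, ?_⟩
      intro i
      fin_cases i
      · simp [affPerm_apply]
      · simp [affPerm_apply, ← h]
    · have hne : t 0 - t 1 ≠ 0 := sub_ne_zero.mpr h
      have hne' : σ (t 0) - σ (t 1) ≠ 0 := sub_ne_zero.mpr (fun h' => h (σ.injective h'))
      set a : (ZMod p)ˣ := Units.mk0 ((σ (t 0) - σ (t 1)) / (t 0 - t 1)) (div_ne_zero hne' hne) with ha
      have hav : ((a : (ZMod p)ˣ) : ZMod p) * (t 0 - t 1) = σ (t 0) - σ (t 1) := by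
        rw [ha, Units.val_mk0, div_mul_cancel₀ _ hne]
      refine ⟨affPerm a (σ (t 0) - a * t 0), affPerm_mem _ _, ?_⟩
      intro i
      fin_cases i
      · simp [affPerm_apply]
      · show σ (t 1) = affPerm a (σ (t 0) - a * t 0) (t 1)
        rw [affPerm_apply]
        have : ((a : (ZMod p)ˣ) : ZMod p) * t 1 = a * t 0 - (σ (t 0) - σ (t 1)) := by
          rw [← hav]; ring
        rw [this]; ring
  · intro σ hσ
    have key : ∀ x : ZMod p, σ x = (σ 1 - σ 0) * x + σ 0 := by
      intro x
      obtain ⟨g, ⟨a, b, hab⟩, hg⟩ := hσ ![0, 1, x]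
      have h0 : σ 0 = g 0 := hg 0
      have h1 : σ 1 = g 1 := hg 1
      have h2 : σ x = g x := hg 2
      rw [h0, h1, h2, hab, hab, hab]
      ring
    obtain ⟨g, ⟨a, b, hab⟩, hg⟩ := hσ ![0, 1, 0]
    have h0 : σ 0 = g 0 := hg 0
    have h1 : σ 1 = g 1 := hg 1
    have ha : σ 1 - σ 0 = a := by
      rw [h0, h1, hab, hab]; ring
    refine ⟨a, σ 0, fun x => ?_⟩
    rw [key x, ha]

end Cfsg.Agent.S3518
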