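import Cfsg.Statements.S3520
import Cfsg.Agent.Lib.Helper64.ThreeClasses

set_option autoImplicit false
open Cfsg

namespace Cfsg.Agent.S3520


open Cfsg.Agent.Lib.Helper64 MulAction in
/-- three pairwise non-conjugate derangements contradict two classes -/
theorem not_three {G : Type*} [Group G] {Ω : Type*} [MulAction G Ω] {x₀ x₁ x₂ : G}
    (h0 : ∀ ω : Ω, x₀ • ω ≠ ω) (h1 : ∀ ω : Ω, x₁ • ω ≠ ω) (h2 : ∀ ω : Ω, x₂ • ω ≠ ω)
    (h01 : ¬ IsConj x₀ x₁) (h02 : ¬ IsConj x₀ x₂) (h12 : ¬ IsConj x₁ x₂)
    (hκ : Nat.card {c : ConjClasses G // ∃ g : G, ConjClasses.mk g = c ∧ ∀ ω : Ω, g • ω ≠ ω} = 2) :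
    False := by
  obtain ⟨a, b, hab, huniv⟩ := Nat.card_eq_two_iff.mp hκ
  let d : (x : G) → (∀ ω : Ω, x • ω ≠ ω) →
      {c : ConjClasses G // ∃ g : G, ConjClasses.mk g = c ∧ ∀ ω : Ω, g • ω ≠ ω} :=
    fun x hx => ⟨ConjClasses.mk x, x, rfl, hx⟩
  have hd : ∀ x hx y hy, d x hx = d y hy → IsConj x y := by
    intro x hx y hy h
    have := congrArg Subtype.val h
    exact ConjClasses.mk_eq_mk_iff_isConj.mp this
  have mem : ∀ c, c = a ∨ c = b := fun c => by
    have : c ∈ ({a, b} : Set _) := by rw [huniv]; trivial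
    simpa using this
  rcases mem (d x₀ h0) with e0 | e0 <;> rcases mem (d x₁ h1) with e1 | e1 <;>
    rcases mem (d x₂ h2) with e2 | e2
  all_goals
    first
    | exact h01 (hd x₀ h0 x₁ h1 (e0.trans e1.symm))
    | exact h02 (hd x₀ h0 x₂ h2 (e0.trans e2.symm))
    | exact h12 (hd x₁ h1 x₂ h2 (e1.trans e2.symm))

open Cfsg.Agent.Lib.Helper64 MulAction in
/-- conjugation of an element of the abelian regular normal subgroup can be done inside a point
stabiliser -/
theorem conj_eq_stab {G : Type*} [Group G] {Ω : Type*} [MulAction G Ω]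
    (N : Subgroup G) (hN : N.Normal)
    (hcomm : ∀ x ∈ N, ∀ y ∈ N, x * y = y * x) (hNt : IsPretransitive N Ω) (α : Ω)
    {x : G} (hx : x ∈ N) (g : G) :
    ∃ u ∈ stabilizer G α, g * x * g⁻¹ = u * x * u⁻¹ := by
  obtain ⟨m, hm⟩ := hNt.exists_smul_eq α (g • α)
  have hm' : (m : G) • α = g • α := hm
  refine ⟨(m : G)⁻¹ * g, ?_, ?_⟩
  · rw [mem_stabilizer_iff, mul_smul, ← hm', smul_smul, inv_mul_cancel, one_smul]
  · have h1 : ((m : G)⁻¹ * g) * x * ((m : G)⁻¹ * g)⁻¹ ∈ N := hN.conj_mem x hx _
    have h2 := hcomm _ m.2 _ h1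
    have e : g * x * g⁻¹ = (m : G) * (((m : G)⁻¹ * g) * x * ((m : G)⁻¹ * g)⁻¹) * (m : G)⁻¹ := by
      group
    rw [e, h2]
    group

open Cfsg.Agent.Lib.Helper64 MulAction in
/-- The affine case. -/
theorem affine_case {G : Type*} [Group G] [Finite G] {Ω : Type*} [MulAction G Ω] [Finite Ω]
    [FaithfulSMul G Ω] (htr : IsPretransitive G Ω)
    (N : Subgroup G) (hN : N.Normal) (hN1 : N ≠ ⊥)
    (hcomm : ∀ x ∈ N, ∀ y ∈ N, x * y = y * x) (hNt : IsPretransitive N Ω)
    (hsr : ∀ x ∈ N, x ≠ 1 → ∀ ω : Ω, x • ω ≠ ω)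
    (hκ : Nat.card {c : ConjClasses G // ∃ g : G, ConjClasses.mk g = c ∧ ∀ ω : Ω, g • ω ≠ ω} = 2)
    (α : Ω) :
    ((∀ g : G, g ≠ 1 → Nat.card (fixedBy Ω g) ≤ 1) ∧
        2 * Nat.card (stabilizer G α) + 1 = Nat.card Ω) ∨
    (IsMultiplyPretransitive G Ω 2 ∧ ∃ g : G, g ≠ 1 ∧ 2 ≤ Nat.card (fixedBy Ω g)) := by
  classical
  have hne : Nonempty Ω := ⟨α⟩
  have hder1 : ∀ g : G, (∀ ω : Ω, g • ω ≠ ω) → g ≠ 1 := by
    rintro g hg rfl
    exact hg α (one_smul _ _)
  have hcardN : Nat.card N = Nat.card Ω := card_eq_of_regular N hNt hsr α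
  obtain ⟨c₁, c₂, hc12, huniv⟩ := Nat.card_eq_two_iff.mp hκ
  have mem : ∀ c, c = c₁ ∨ c = c₂ := fun c => by
    have : c ∈ ({c₁, c₂} : Set _) := by rw [huniv]; trivial
    simpa using this
  obtain ⟨x₁, hx₁c, hx₁d⟩ := c₁.2
  obtain ⟨x₂, hx₂c, hx₂d⟩ := c₂.2
  have hx12 : ¬ IsConj x₁ x₂ := by
    intro h
    apply hc12
    apply Subtype.ext
    rw [← hx₁c, ← hx₂c]
    exact ConjClasses.mk_eq_mk_iff_isConj.mpr h
  -- every derangement is conjugate to `x₁` or `x₂`
  have hcl : ∀ g : G, (∀ ω : Ω, g • ω ≠ ω) → IsConj x₁ g ∨ IsConj x₂ g := by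
    intro g hg
    rcases mem ⟨ConjClasses.mk g, g, rfl, hg⟩ with h | h
    · left
      have := congrArg Subtype.val h
      simp only at this
      rw [← hx₁c] at this
      exact ConjClasses.mk_eq_mk_iff_isConj.mp this.symm
    · right
      have := congrArg Subtype.val h
      simp only at this
      rw [← hx₂c] at this
      exact ConjClasses.mk_eq_mk_iff_isConj.mp this.symm
  by_cases hA : ∀ g : G, (∀ ω : Ω, g • ω ≠ ω) → g ∈ N
  · left
    -- Frobenius property
    have hF : ∀ g : G, g ≠ 1 → Nat.card (fixedBy Ω g) ≤ 1 := by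
      intro g hg1
      by_cases hgN : g ∈ N
      · have : IsEmpty (fixedBy Ω g) := ⟨fun ⟨ω, hω⟩ => hsr g hgN hg1 ω hω⟩
        rw [Nat.card_of_isEmpty]; omega
      · exact ((der_count N hA).2 g hgN).le
    refine ⟨hF, ?_⟩
    have hx₁N : x₁ ∈ N := hA x₁ hx₁d
    have hx₂N : x₂ ∈ N := hA x₂ hx₂d
    -- the size of a class
    have hclass : ∀ x ∈ N, x ≠ 1 → ({g | IsConj x g} : Set G).ncard = Nat.card (stabilizer G α) := by
      intro x hxN hx1
      have hrange : ({g | IsConj x g} : Set G) =
          Set.range (fun u : stabilizer G α => (u : G) * x * (u : G)⁻¹) := by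
        ext g
        constructor
        · intro hg
          obtain ⟨k, rfl⟩ := isConj_iff.mp hg
          obtain ⟨u, hu, he⟩ := conj_eq_stab N hN hcomm hNt α hxN k
          exact ⟨⟨u, hu⟩, he.symm⟩
        · rintro ⟨u, rfl⟩
          exact isConj_iff.mpr ⟨u, rfl⟩
      rw [hrange, Set.ncard_range_of_injective]
      intro u u' huu
      simp only at huu
      by_contra hne'
      set w : G := (u' : G)⁻¹ * u with hw
      have hw1 : w ≠ 1 := by
        intro h
        apply hne'
        ext
        have := eq_of_inv_mul_eq_one h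
        exact this.symm
      have hwx : w * x = x * w := by
        have : x = (u' : G)⁻¹ * ((u : G) * x * (u : G)⁻¹) * u' := by rw [huu]; group
        calc w * x = (u' : G)⁻¹ * ((u : G) * x * (u : G)⁻¹) * u := by rw [hw]; group
          _ = (u' : G)⁻¹ * ((u' : G) * x * (u' : G)⁻¹) * u := by rw [huu]
          _ = x * w := by rw [hw]; group
      have hwα : w • α = α := by
        have h1 : (u : G) • α = α := u.2
        have h2 : (u' : G)⁻¹ • α = α := by
          have : (u' : G) • α = α := u'.2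
          rw [inv_smul_eq_iff, this]
        rw [hw, mul_smul, h1, h2]
      have hwxα : w • (x • α) = x • α := by
        rw [smul_smul, hwx, ← smul_smul, hwα]
      have hsub := Finite.card_le_one_iff_subsingleton.mp (hF w hw1)
      have : (⟨α, hwα⟩ : fixedBy Ω w) = ⟨x • α, hwxα⟩ := Subsingleton.elim _ _
      have : α = x • α := congrArg Subtype.val this
      exact hsr x hxN hx1 α this.symm
    -- the derangements are the non-identity elements of `N`
    have hS : ((N : Set G) \ {1}) = {g | IsConj x₁ g} ∪ {g | IsConj x₂ g} := by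
      ext g
      constructor
      · rintro ⟨hgN, hg1⟩
        exact hcl g (hsr g hgN hg1)
      · rintro (hg | hg)
        · obtain ⟨k, rfl⟩ := isConj_iff.mp hg
          refine ⟨hN.conj_mem _ hx₁N k, ?_⟩
          intro h
          rw [Set.mem_singleton_iff, conj_eq_one_iff] at h
          exact hder1 x₁ hx₁d h
        · obtain ⟨k, rfl⟩ := isConj_iff.mp hg
          refine ⟨hN.conj_mem _ hx₂N k, ?_⟩
          intro h
          rw [Set.mem_singleton_iff, conj_eq_one_iff] at h
          exact hder1 x₂ hx₂d h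
    have hdisj : Disjoint ({g | IsConj x₁ g} : Set G) {g | IsConj x₂ g} := by
      rw [Set.disjoint_left]
      intro g hg1 hg2
      exact hx12 (hg1.trans hg2.symm)
    have hcount := congrArg Set.ncard hS
    rw [Set.ncard_union_eq hdisj, hclass x₁ hx₁N (hder1 x₁ hx₁d), hclass x₂ hx₂N (hder1 x₂ hx₂d),
      Set.ncard_sdiff_singleton_of_mem (N.one_mem)] at hcount
    have hNc : (N : Set G).ncard = Nat.card Ω := by
      rw [← hcardN]; rfl
    rw [hNc] at hcount
    have hpos : 0 < Nat.card Ω := Nat.card_pos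
    omega
  · right
    push Not at hA
    obtain ⟨y, hyd, hyN⟩ := hA
    -- an element of `N \ {1}`
    obtain ⟨x, hxN, hx1⟩ : ∃ x ∈ N, x ≠ 1 := by
      by_contra h
      push Not at h
      exact hN1 ((Subgroup.eq_bot_iff_forall N).mpr h)
    -- `N \ {1}` is one class
    have hone : ∀ x' ∈ N, x' ≠ 1 → IsConj x x' := by
      intro x' hx'N hx'1
      -- the class of `y` is different from the classes of `x`, `x'`
      have hxy : ∀ z ∈ N, ¬ IsConj z y := by
        intro z hz h
        rw [isConj_iff] at h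
        obtain ⟨k, rfl⟩ := h
        exact hyN (hN.conj_mem z hz k)
      rcases hcl y hyd with h1 | h1
      · -- `y ~ x₁`, so `x, x' ~ x₂`
        have hx2 : IsConj x₂ x := by
          rcases hcl x (hsr x hxN hx1) with h | h
          · exact absurd (h.symm.trans h1) (hxy x hxN)
          · exact h
        have hx2' : IsConj x₂ x' := by
          rcases hcl x' (hsr x' hx'N hx'1) with h | h
          · exact absurd (h.symm.trans h1) (hxy x' hx'N)
          · exact h
        exact hx2.symm.trans hx2'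
      · have hx2 : IsConj x₁ x := by
          rcases hcl x (hsr x hxN hx1) with h | h
          · exact h
          · exact absurd (h.symm.trans h1) (hxy x hxN)
        have hx2' : IsConj x₁ x' := by
          rcases hcl x' (hsr x' hx'N hx'1) with h | h
          · exact h
          · exact absurd (h.symm.trans h1) (hxy x' hx'N)
        exact hx2.symm.trans hx2'
    refine ⟨?_, ?_⟩
    · -- 2-transitivity
      have hstab : ∀ c β γ : Ω, β ≠ c → γ ≠ c → ∃ h : G, h • c = c ∧ h • β = γ := by
        intro c β γ hβ hγ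
        obtain ⟨m, hm⟩ := hNt.exists_smul_eq c β
        obtain ⟨m', hm'⟩ := hNt.exists_smul_eq c γ
        have hmc : (m : G) • c = β := hm
        have hmc' : (m' : G) • c = γ := hm'
        have hm1 : (m : G) ≠ 1 := by
          intro h; rw [h, one_smul] at hmc; exact hβ hmc.symm
        have hm1' : (m' : G) ≠ 1 := by
          intro h; rw [h, one_smul] at hmc'; exact hγ hmc'.symm
        have hconj : IsConj (m : G) (m' : G) :=
          (hone m m.2 hm1).symm.trans (hone m' m'.2 hm1')
        rw [isConj_iff] at hconj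
        obtain ⟨k, hk⟩ := hconj
        obtain ⟨u, hu, he⟩ := conj_eq_stab N hN hcomm hNt c m.2 k
        refine ⟨u, hu, ?_⟩
        have hu' : u • c = c := hu
        have : u * (m : G) = (m' : G) * u := by
          rw [← hk, he]; group
        rw [← hmc, smul_smul, this, ← smul_smul, hu', hmc']
      rw [is_two_pretransitive_iff]
      intro a b c d hab hcd
      obtain ⟨k, hk⟩ := htr.exists_smul_eq a c
      have hkb : k • b ≠ c := by
        intro h
        rw [← hk] at h
        exact hab (smul_left_cancel k h).symm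
      obtain ⟨h, hh1, hh2⟩ := hstab c (k • b) d hkb (Ne.symm hcd)
      exact ⟨h * k, by rw [mul_smul, hk, hh1], by rw [mul_smul, hh2]⟩
    · -- not a Frobenius group
      by_contra hcon
      push Not at hcon
      have hF : ∀ g : G, g ≠ 1 → Nat.card (fixedBy Ω g) ≤ 1 := fun g hg => by
        have := hcon g hg; omega
      have := Fintype.ofFinite G
      have htot : (∑ g : G, Nat.card (fixedBy Ω g)) = Nat.card G := by
        rw [burnside_sum, card_orbits_eq_one_of_pretransitive, one_mul]
      have hD' := burnside_sum_subgroup (X := Ω) N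
      have hNorb : Nat.card (orbitRel.Quotient N Ω) = 1 :=
        card_orbits_eq_one_of_pretransitive
      rw [hNorb, one_mul] at hD'
      have hsplit := Finset.sum_filter_add_sum_filter_not (Finset.univ : Finset G) (· ∈ N)
        (fun g => Nat.card (fixedBy Ω g))
      rw [htot, hD'] at hsplit
      have hcardsplit := Finset.card_filter_add_card_filter_not (s := (Finset.univ : Finset G))
        (· ∈ N)
      rw [card_filter_mem_subgroup, Finset.card_univ, ← Nat.card_eq_fintype_card] at hcardsplit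
      have hy : y ∈ Finset.univ.filter (fun g : G => ¬ g ∈ N) := by simp [hyN]
      have hle : ∑ g ∈ Finset.univ.filter (fun g : G => ¬ g ∈ N), Nat.card (fixedBy Ω g) + 1 ≤
          (Finset.univ.filter (fun g : G => ¬ g ∈ N)).card := by
        rw [← Finset.add_sum_erase _ _ hy]
        have hy0 : Nat.card (fixedBy Ω y) = 0 := by
          have : IsEmpty (fixedBy Ω y) := ⟨fun ⟨ω, hω⟩ => hyd ω hω⟩
          exact Nat.card_of_isEmpty
        rw [hy0, zero_add]
        have : ∑ g ∈ (Finset.univ.filter (fun g : G => ¬ g ∈ N)).erase y,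
            Nat.card (fixedBy Ω g) ≤ ∑ g ∈ (Finset.univ.filter (fun g : G => ¬ g ∈ N)).erase y, 1 := by
          apply Finset.sum_le_sum
          intro g hg
          apply hF
          rintro rfl
          exact (Finset.mem_filter.mp (Finset.mem_of_mem_erase hg)).2 N.one_mem
        rw [Finset.sum_const, smul_eq_mul, mul_one, Finset.card_erase_of_mem hy] at this
        have hpos : 0 < (Finset.univ.filter (fun g : G => ¬ g ∈ N)).card :=
          Finset.card_pos.mpr ⟨y, hy⟩
        omega
      omega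

/-- Let a finite group G act faithfully and primitively on a finite set Ω with at least two points, suppose G is not almost simple (no non-abelian simple normal subgroup with trivial centralizer), and suppose the derangements of G form exactly two conjugacy classes. Then either Ω has 3 points and G has order 3; or G has a non-trivial abelian normal subgroup N acting regularly, every non-identity element of G fixes at most one point (so, when n > 3, G is a Frobenius group with kernel N), the number n of points is odd and a point stabilizer has order (n − 1)/2; or G is 2-transitive with a non-trivial abelian regular normal subgroup and some non-identity element fixes at least two points (a non-Frobenius 2-transitive affine group). -/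
theorem result {G : Type*} [Group G] [Finite G] {Ω : Type*} [Fintype Ω] [MulAction G Ω] [FaithfulSMul G Ω] (hΩ : 2 ≤ Fintype.card Ω) (hprim : MulAction.IsPreprimitive G Ω) (hnas : ¬ ∃ T : Subgroup G, T.Normal ∧ IsSimpleGroup T ∧ ¬ IsMulCommutative T ∧ Subgroup.centralizer (T : Set G) = ⊥)
    (hκ : Nat.card {c : ConjClasses G // ∃ g : G, ConjClasses.mk g = c ∧ ∀ ω : Ω, g • ω ≠ ω} = 2) (α : Ω) :
    (Fintype.card Ω = 3 ∧ Nat.card G = 3) ∨
    ((∃ N : Subgroup G, N.Normal ∧ N ≠ ⊥ ∧ IsMulCommutative N ∧ ∀ ω : Ω, MulAction.stabilizer N ω = ⊥) ∧ (∀ g : G, g ≠ 1 → Nat.card (MulAction.fixedBy Ω g) ≤ 1) ∧ ¬ 2 ∣ Fintype.card Ω ∧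
        2 * Nat.card (MulAction.stabilizer G α) = Fintype.card Ω - 1) ∨
    ((∃ N : Subgroup G, N.Normal ∧ N ≠ ⊥ ∧ IsMulCommutative N ∧ ∀ ω : Ω, MulAction.stabilizer N ω = ⊥) ∧ MulAction.IsMultiplyPretransitive G Ω 2 ∧ ∃ g : G, g ≠ 1 ∧ 2 ≤ Nat.card (MulAction.fixedBy Ω g)) := by
  classical
  have hΩ' : 2 ≤ Nat.card Ω := by rw [Nat.card_eq_fintype_card]; exact hΩ
  have hnt : Nontrivial G := by
    have : Nontrivial Ω := by
      rw [← Fintype.one_lt_card_iff_nontrivial]; omega
    obtain ⟨a, b, hab⟩ := exists_pair_ne Ω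
    have htr : MulAction.IsPretransitive G Ω := hprim.toIsPretransitive
    obtain ⟨g, hg⟩ := htr.exists_smul_eq a b
    refine ⟨⟨g, 1, ?_⟩⟩
    rintro rfl
    rw [one_smul] at hg
    exact hab hg
  obtain ⟨N, hN, hN1, hmin⟩ := Cfsg.Agent.Lib.Helper64.exists_minimal_normal (G := G)
  by_cases hcomm : ∀ x ∈ N, ∀ y ∈ N, x * y = y * x
  · obtain ⟨h1, -, h3, h4, h5⟩ :=
      Cfsg.Agent.Lib.Helper64.affine_of_comm_minNormal hprim N hN hN1 hmin hcomm
    have hex : ∃ N : Subgroup G, N.Normal ∧ N ≠ ⊥ ∧ IsMulCommutative N ∧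
        ∀ ω : Ω, MulAction.stabilizer N ω = ⊥ := ⟨N, hN, hN1, h1, h4⟩
    rcases affine_case hprim.toIsPretransitive N hN hN1 hcomm h3 h5 hκ α with ⟨hF, hc⟩ | ⟨h2t, hg⟩
    · right; left
      rw [Nat.card_eq_fintype_card (α := Ω)] at hc
      refine ⟨hex, hF, ?_, ?_⟩
      · omega
      · omega
    · right; right
      exact ⟨hex, h2t, hg⟩
  · exfalso
    obtain ⟨x₀, x₁, x₂, h0, h1, h2, h01, h02, h12⟩ :=
      Cfsg.Agent.Lib.Helper64.exists_three_derangements hprim N hN hN1 hmin hcomm hnas
    exact not_three h0 h1 h2 h01 h02 h12 hκ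

end Cfsg.Agent.S3520
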