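import Mathlib
import Cfsg.Statements.S3532
import Cfsg.Agent.S2475
import Cfsg.Agent.Lib.Helper48.AffineSpec

set_option autoImplicit false
open Cfsg

namespace Cfsg.Agent.S3532

open Cfsg.Agent.Lib.Helper48

theorem range_orderOf_prod {A B : Type*} [Monoid A] [Monoid B] :
    Set.range (orderOf : A × B → ℕ) =
      Set.image2 Nat.lcm (Set.range (orderOf : A → ℕ)) (Set.range (orderOf : B → ℕ)) := by
  ext n
  simp only [Set.mem_range, Set.mem_image2]
  constructor
  · rintro ⟨⟨a, b⟩, rfl⟩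
    exact ⟨_, ⟨a, rfl⟩, _, ⟨b, rfl⟩, (Prod.orderOf_mk).symm⟩
  · rintro ⟨_, ⟨a, rfl⟩, _, ⟨b, rfl⟩, rfl⟩
    exact ⟨(a, b), Prod.orderOf_mk⟩

/-- the combinatorial heart: both sets of least common multiples agree -/
theorem image2_lcm_eq (p m1 m2 : ℕ) :
    Set.image2 Nat.lcm {n : ℕ | n ∣ p ∨ n ∣ m1} {n : ℕ | n ∣ p ∨ n ∣ m2} =
      Set.image2 Nat.lcm {n : ℕ | n ∣ p ∨ n ∣ m1 ∨ n ∣ m2} {n : ℕ | n ∣ p ∨ n ∣ m1 ∨ n ∣ m2} := by
  ext n
  simp only [Set.mem_image2, Set.mem_ofPred_eq]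
  constructor
  · rintro ⟨a, ha, b, hb, rfl⟩
    refine ⟨a, ?_, b, ?_, rfl⟩
    · rcases ha with h | h
      · exact Or.inl h
      · exact Or.inr (Or.inl h)
    · rcases hb with h | h
      · exact Or.inl h
      · exact Or.inr (Or.inr h)
  · rintro ⟨a, ha, b, hb, rfl⟩
    rcases ha with ha | ha | ha <;> rcases hb with hb | hb | hb
    · exact ⟨a, Or.inl ha, b, Or.inl hb, rfl⟩
    · exact ⟨b, Or.inr hb, a, Or.inl ha, Nat.lcm_comm b a⟩
    · exact ⟨a, Or.inl ha, b, Or.inr hb, rfl⟩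
    · exact ⟨a, Or.inr ha, b, Or.inl hb, rfl⟩
    · exact ⟨Nat.lcm a b, Or.inr (Nat.lcm_dvd ha hb), 1, Or.inl (one_dvd p), Nat.lcm_one_right _⟩
    · exact ⟨a, Or.inr ha, b, Or.inr hb, rfl⟩
    · exact ⟨b, Or.inl hb, a, Or.inr ha, Nat.lcm_comm b a⟩
    · exact ⟨b, Or.inr hb, a, Or.inr ha, Nat.lcm_comm b a⟩
    · exact ⟨1, Or.inl (one_dvd p), Nat.lcm a b, Or.inr (Nat.lcm_dvd ha hb), Nat.lcm_one_left _⟩

/-- Let q ≥ 4 be a prime power and L = PSL(2,q). There is a finite solvable group with the same set of element orders as L × L (so L × L is not determined by its spectrum). -/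
theorem result {F : Type*} [Field F] [Fintype F] (hF : 4 ≤ Fintype.card F) :
    ∃ (H : Type) (_ : Group H) (_ : Finite H), Group.IsSolvable H ∧
      Set.range (orderOf : H → ℕ) = Set.range (orderOf : Matrix.ProjectiveSpecialLinearGroup (Fin 2) F × Matrix.ProjectiveSpecialLinearGroup (Fin 2) F → ℕ) := by
  obtain ⟨p, hp⟩ := CharP.exists F
  have hpp : Fact p.Prime := ⟨CharP.char_is_prime F p⟩
  obtain ⟨n, -, hq⟩ := FiniteField.card F p
  set q := Fintype.card F with hqdef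
  set d := Nat.gcd 2 (q - 1) with hd
  have hn0 : (n : ℕ) ≠ 0 := n.pos.ne'
  have hn20 : 2 * (n : ℕ) ≠ 0 := by omega
  have c1 : Nat.card (GaloisField p n) = q := by rw [GaloisField.card p n hn0, hq]
  have c2 : Nat.card (GaloisField p (2 * n)) = q ^ 2 := by
    rw [GaloisField.card p (2 * n) hn20, hq, ← pow_mul, mul_comm]
  have hd1 : d ∣ q - 1 := Nat.gcd_dvd_right 2 (q - 1)
  have hd2 : d ∣ q + 1 := by
    have h2 : d ∣ 2 := Nat.gcd_dvd_left 2 (q - 1)
    have : q + 1 = (q - 1) + 2 := by omega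
    rw [this]
    exact dvd_add hd1 h2
  have hm1 : (q - 1) / d ∣ Nat.card (GaloisField p n) - 1 := by
    rw [c1]; exact Nat.div_dvd_of_dvd hd1
  have hm2 : (q + 1) / d ∣ Nat.card (GaloisField p (2 * n)) - 1 := by
    rw [c2]
    have : q ^ 2 - 1 = (q + 1) * (q - 1) := by
      have h1 : 1 ≤ q := by omega
      obtain ⟨k, hk⟩ : ∃ k, q = k + 1 := ⟨q - 1, by omega⟩
      rw [hk]
      simp only [Nat.add_sub_cancel]
      have : (k + 1) ^ 2 = (k + 1 + 1) * k + 1 := by ring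
      omega
    rw [this]
    exact (Nat.div_dvd_of_dvd hd2).mul_right _
  refine ⟨AffGroup (GaloisField p n) ((q - 1) / d) × AffGroup (GaloisField p (2 * n)) ((q + 1) / d),
    inferInstance, inferInstance, ?_, ?_⟩
  · have := affGroup_isSolvable (GaloisField p n) ((q - 1) / d)
    have := affGroup_isSolvable (GaloisField p (2 * n)) ((q + 1) / d)
    infer_instance
  · rw [range_orderOf_prod, range_orderOf_prod, range_orderOf_affGroup p _ hm1,
      range_orderOf_affGroup p _ hm2, Cfsg.Agent.S2475.result p hF]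
    exact image2_lcm_eq p _ _

end Cfsg.Agent.S3532
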