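import Cfsg.Statements.S3549
import Cfsg.Agent.Lib.Helper64.DerIndex

set_option autoImplicit false
open Cfsg

namespace Cfsg.Agent.S3549

open MulAction Cfsg.Agent.Lib.Helper64
open scoped Pointwise

theorem block_card_sub_one_dvd {G Ω : Type*} [Group G] [Finite G] [MulAction G Ω] [Finite Ω]
    [IsPretransitive G Ω] (D : Subgroup G)
    (hD : ∀ g : G, (∀ x : Ω, g • x ≠ x) → g ∈ D) {B : Set Ω} (hB : IsBlock G B) {α : Ω}
    (hα : α ∈ B) : D.index ∣ B.ncard - 1 := by
  classical
  let S : SubMulAction (stabilizer G α) Ω :=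
    { carrier := B
      smul_mem' := by
        intro h x hx
        have h1 : (h : G) ∈ stabilizer G B := hB.stabilizer_le hα h.2
        rw [mem_stabilizer_iff] at h1
        have h2 : (h : G) • x ∈ (h : G) • B := Set.smul_mem_smul_set hx
        rw [h1] at h2
        exact h2 }
  have hcard : Nat.card S = B.ncard := Nat.card_coe_set_eq B
  rw [← hcard]
  refine card_sub_one_dvd (H := stabilizer G α) (X := S) D.index ⟨α, hα⟩ ?_ ?_
  · intro h
    apply Subtype.ext
    exact h.2
  · intro y hy
    have hy' : (y : Ω) ≠ α := fun h => hy (Subtype.ext h)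
    have h1 := der_index_dvd_suborbit D hD hy'
    rw [Nat.card_coe_set_eq, ← index_stabilizer] at h1 ⊢
    rw [SubMulAction.stabilizer_of_subMul]
    exact h1

/-- Let G act faithfully, transitively but imprimitively on a finite set with n points, and let D be the subgroup generated by the derangements. Then the index of D in G is at most √n − 1. -/
theorem result {G Ω : Type*} [Group G] [Finite G] [MulAction G Ω] [FaithfulSMul G Ω] [Finite Ω]
    (htrans : MulAction.IsPretransitive G Ω) (himp : ¬ MulAction.IsPreprimitive G Ω) :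
    ((Subgroup.closure {g : G | ∀ ω : Ω, g • ω ≠ ω}).index : ℝ) ≤ Real.sqrt (Nat.card Ω) - 1 := by
  classical
  obtain ⟨B, hB, hBt⟩ : ∃ B : Set Ω, IsBlock G B ∧ ¬ IsTrivialBlock B := by
    by_contra h
    push Not at h
    exact himp { toIsPretransitive := htrans, isTrivialBlock_of_isBlock := fun {B} hB => h B hB }
  rw [IsTrivialBlock, not_or] at hBt
  obtain ⟨hB1, hB2⟩ := hBt
  have hBne : B.Nonempty := by
    by_contra h
    rw [Set.not_nonempty_iff_eq_empty] at h
    rw [h] at hB1
    exact hB1 Set.subsingleton_empty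
  obtain ⟨α, hα⟩ := hBne
  set D := Subgroup.closure {g : G | ∀ ω : Ω, g • ω ≠ ω} with hDdef
  have hD : ∀ g : G, (∀ x : Ω, g • x ≠ x) → g ∈ D := fun g hg => Subgroup.subset_closure hg
  have h1 : D.index ∣ B.ncard - 1 := block_card_sub_one_dvd D hD hB hα
  have h2 : D.index ∣ Nat.card Ω - 1 := der_index_dvd_card_sub_one D hD α
  have h3 : B.ncard * (orbit G B).ncard = Nat.card Ω := hB.ncard_block_mul_ncard_orbit_eq ⟨α, hα⟩
  have hb : 2 ≤ B.ncard := by
    by_contra h
    apply hB1
    rw [← Set.ncard_le_one_iff_subsingleton]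
    omega
  have hlt : B.ncard < Nat.card Ω := by
    rw [← Set.ncard_univ]
    apply Set.ncard_lt_ncard _ Set.finite_univ
    exact Set.ssubset_univ_iff.mpr hB2
  generalize B.ncard = b at *
  generalize (orbit G B).ncard = a at *
  generalize Nat.card Ω = n at *
  generalize D.index = k at *
  have ha : 2 ≤ a := by
    by_contra h
    have : a ≤ 1 := by omega
    have : b * a ≤ b * 1 := Nat.mul_le_mul_left b this
    omega
  have h4 : k ∣ a - 1 := by
    have e : n - 1 = a * (b - 1) + (a - 1) := by
      obtain ⟨b', rfl⟩ : ∃ b', b = b' + 1 := ⟨b - 1, by omega⟩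
      obtain ⟨a', rfl⟩ : ∃ a', a = a' + 1 := ⟨a - 1, by omega⟩
      rw [← h3]
      simp only [Nat.add_sub_cancel]
      ring_nf
      omega
    rw [e] at h2
    exact (Nat.dvd_add_right (Dvd.dvd.mul_left h1 a)).mp h2
  have hk1 : k ≤ b - 1 := Nat.le_of_dvd (by omega) h1
  have hk2 : k ≤ a - 1 := Nat.le_of_dvd (by omega) h4
  have hsq : (k + 1) * (k + 1) ≤ n := by
    rw [← h3]
    exact Nat.mul_le_mul (by omega) (by omega)
  have : ((k : ℝ) + 1) ≤ Real.sqrt n := by
    apply Real.le_sqrt_of_sq_le
    have : (((k + 1) * (k + 1) : ℕ) : ℝ) ≤ (n : ℝ) := by exact_mod_cast hsq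
    push_cast at this
    nlinarith
  linarith

end Cfsg.Agent.S3549
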