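import Cfsg.Statements.S3554

set_option autoImplicit false
open Cfsg

namespace Cfsg.Agent.S3554

theorem mem_zpowers_of_pow_prime_eq_one {C : Type*} [Group C] [Finite C] [IsCyclic C] {p : ℕ}
    (hp : p.Prime) {x y : C} (hx : orderOf x = p) (hy : y ^ p = 1) : y ∈ Subgroup.zpowers x := by
  classical
  have := Fintype.ofFinite C
  have hle : (Finset.univ.filter (fun a : C => a ^ p = 1)).card ≤ p :=
    IsCyclic.card_pow_eq_one_le hp.pos
  have hsub : (Subgroup.zpowers x : Set C).toFinset ⊆ Finset.univ.filter (fun a : C => a ^ p = 1) := by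
    intro a ha
    rw [Set.mem_toFinset] at ha
    rw [Finset.mem_filter]
    refine ⟨Finset.mem_univ _, ?_⟩
    obtain ⟨k, rfl⟩ := Subgroup.mem_zpowers_iff.mp ha
    rw [← zpow_natCast, ← zpow_mul, mul_comm, zpow_mul, zpow_natCast, ← hx, pow_orderOf_eq_one,
      one_zpow]
  have hcard : (Subgroup.zpowers x : Set C).toFinset.card = p := by
    rw [Set.toFinset_card]
    rw [← hx]
    exact Fintype.card_zpowers
  have heq := Finset.eq_of_subset_of_card_le hsub (by rw [hcard]; exact hle)
  have hmem : y ∈ Finset.univ.filter (fun a : C => a ^ p = 1) := by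
    rw [Finset.mem_filter]; exact ⟨Finset.mem_univ _, hy⟩
  rw [← heq, Set.mem_toFinset] at hmem
  exact hmem

/-- Let G act faithfully and transitively on a finite set and suppose G has a non-trivial cyclic normal subgroup. Then some element of G of prime order fixes no point. -/
theorem result {G Ω : Type*} [Group G] [Finite G] [MulAction G Ω] [FaithfulSMul G Ω] [Finite Ω]
    (htrans : MulAction.IsPretransitive G Ω) (C : Subgroup G) (hC : C.Normal) (hC1 : C ≠ ⊥) (hcyc : IsCyclic ↥C) :
    ∃ g : G, (orderOf g).Prime ∧ ∀ ω : Ω, g • ω ≠ ω := by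
  have hcard : Nat.card C ≠ 1 := by
    intro h
    exact hC1 (Subgroup.card_eq_one.mp h)
  obtain ⟨p, hp, hpC⟩ := Nat.exists_prime_and_dvd hcard
  have : Fact p.Prime := ⟨hp⟩
  obtain ⟨x, hx⟩ := exists_prime_orderOf_dvd_card' p hpC
  have hxo : orderOf (x : G) = p := by rw [Subgroup.orderOf_coe, hx]
  refine ⟨x, by rw [hxo]; exact hp, ?_⟩
  intro ω hω
  -- x fixes every point
  have hall : ∀ ω' : Ω, (x : G) • ω' = ω' := by
    intro ω'
    obtain ⟨g, rfl⟩ := MulAction.exists_smul_eq G ω ω'
    have hy : g⁻¹ * (x : G) * g ∈ C := by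
      have := hC.conj_mem x x.2 g⁻¹
      simpa using this
    have hyp : (⟨g⁻¹ * (x : G) * g, hy⟩ : C) ^ p = 1 := by
      apply Subtype.ext
      rw [Subgroup.coe_pow]
      show (g⁻¹ * (x : G) * g) ^ p = 1
      have : g⁻¹ * (x : G) * g = g⁻¹ * (x : G) * g⁻¹⁻¹ := by rw [inv_inv]
      rw [this, conj_pow, ← hxo, pow_orderOf_eq_one]
      simp
    have hmem := mem_zpowers_of_pow_prime_eq_one hp hx hyp
    obtain ⟨k, hk⟩ := Subgroup.mem_zpowers_iff.mp hmem
    have hk' : (x : G) ^ k = g⁻¹ * (x : G) * g := by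
      have := congrArg Subtype.val hk
      simpa using this
    have hfix : ((x : G) ^ k) • ω = ω := by
      have : (x : G) ∈ MulAction.stabilizer G ω := MulAction.mem_stabilizer_iff.mpr hω
      exact MulAction.mem_stabilizer_iff.mp (Subgroup.zpow_mem _ this k)
    rw [hk', mul_smul, mul_smul, inv_smul_eq_iff] at hfix
    exact hfix
  have hx1 : (x : G) = 1 := by
    apply FaithfulSMul.eq_of_smul_eq_smul (α := Ω)
    intro a
    rw [hall a, one_smul]
  rw [hx1, orderOf_one] at hxo
  exact hp.ne_one hxo.symm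

end Cfsg.Agent.S3554
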