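import Cfsg.Statements.S3555
import Cfsg.Agent.Lib.Helper64.Derangement
import Cfsg.Agent.Lib.Helper64.SquareCount

set_option autoImplicit false
open Cfsg

namespace Cfsg.Agent.S3555

open MulAction Cfsg.Agent.Lib.Helper64
open scoped Pointwise

theorem comm_of_sq_one {G : Type*} [Group G] {a b : G} (h1 : a * b * (a * b) = 1)
    (h2 : a * a = 1) (h3 : b * b = 1) : a * b = b * a := by
  symm
  calc b * a = (a * a) * (b * a) * (b * b) := by rw [h2, h3, one_mul, mul_one]
    _ = a * ((a * b) * (a * b)) * b := by group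
    _ = a * b := by rw [h1, mul_one]

theorem fix_le_one {G Ω : Type*} [Group G] [Finite G] [MulAction G Ω] [FaithfulSMul G Ω] [Finite Ω]
    [Nonempty Ω] [IsPretransitive G Ω] (hinv : ∀ g : G, (∀ ω : Ω, g • ω ≠ ω) → g * g = 1) :
    ∀ g : G, g ≠ 1 → Nat.card (fixedBy Ω g) ≤ 1 := by
  classical
  have := Fintype.ofFinite G
  set f : G → ℕ := fun g => Nat.card (fixedBy Ω g) with hf
  set n := Nat.card Ω with hn
  have h0 : ∀ g : G, f g = 0 ↔ ∀ ω : Ω, g • ω ≠ ω := by
    intro g
    simp only [hf]
    rw [Nat.card_eq_zero]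
    constructor
    · rintro (h | h)
      · intro ω hω
        exact h.false ⟨ω, hω⟩
      · exact absurd (inferInstance : Finite (fixedBy Ω g)) (not_finite_iff_infinite.mpr h)
    · intro h
      left
      exact ⟨fun x => h x.1 x.2⟩
  have hfle : ∀ g : G, f g ≤ n := by
    intro g
    exact Nat.card_le_card_of_injective _ Subtype.val_injective
  have hfn : ∀ g : G, f g = n → g = 1 := by
    intro g hg
    apply FaithfulSMul.eq_of_smul_eq_smul (α := Ω)
    intro ω
    rw [one_smul]
    have h1 : (fixedBy Ω g) = Set.univ := by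
      apply Set.eq_of_subset_of_ncard_le (Set.subset_univ _)
      rw [Set.ncard_univ, ← Nat.card_coe_set_eq]
      exact hg.ge
    have : ω ∈ fixedBy Ω g := by rw [h1]; trivial
    exact this
  set T := Finset.univ.filter (fun g : G => f g ≠ 0) with hT
  set Dl := Finset.univ.filter (fun g : G => f g = 0) with hDl
  have hcardG : Dl.card + T.card = Fintype.card G := by
    rw [hT, hDl]
    have := Finset.card_filter_add_card_filter_not (s := (Finset.univ : Finset G)) (fun g => f g = 0)
    rw [Finset.card_univ] at this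
    exact this
  have hB : (∑ g : G, f g) = Fintype.card G := by
    simp only [hf]
    rw [burnside_sum, card_orbits_eq_one_of_pretransitive, one_mul, Nat.card_eq_fintype_card]
  have split : ∀ F : G → ℕ, (∑ g : G, F g) = ∑ g ∈ Dl, F g + ∑ g ∈ T, F g := by
    intro F
    rw [hT, hDl]
    exact (Finset.sum_filter_add_sum_filter_not Finset.univ (fun g => f g = 0) F).symm
  have h1 : ∑ g ∈ T, f g = Dl.card + T.card := by
    have := split f
    have hz : ∑ g ∈ Dl, f g = 0 := Finset.sum_eq_zero fun g hg => (Finset.mem_filter.mp hg).2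
    rw [hz, zero_add, hB] at this
    rw [← this, hcardG]
  have hS : (∑ g : G, f (g * g)) ≤ ∑ g : G, f g ^ 2 := sum_fix_sq_le
  have h2 : n * Dl.card + ∑ g ∈ T, f g ≤ ∑ g ∈ T, f g ^ 2 := by
    have e1 := split (fun g => f (g * g))
    have e2 := split (fun g => f g ^ 2)
    have hz : ∑ g ∈ Dl, f g ^ 2 = 0 := Finset.sum_eq_zero fun g hg => by
      rw [(Finset.mem_filter.mp hg).2]; rfl
    have hn' : ∑ g ∈ Dl, f (g * g) = n * Dl.card := by
      rw [mul_comm, ← smul_eq_mul, ← Finset.sum_const]
      refine Finset.sum_congr rfl fun g hg => ?_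
      have := hinv g ((h0 g).mp (Finset.mem_filter.mp hg).2)
      rw [this]
      simp only [hf, hn]
      have hu : fixedBy Ω (1 : G) = Set.univ := by
        ext ω; simp
      rw [hu, Nat.card_coe_set_eq, Set.ncard_univ]
    have hge : ∑ g ∈ T, f g ≤ ∑ g ∈ T, f (g * g) := by
      apply Finset.sum_le_sum
      intro g _
      simp only [hf]
      apply Nat.card_le_card_of_injective (fun x : fixedBy Ω g => (⟨x.1, by
        have := x.2
        rw [mem_fixedBy] at this ⊢
        rw [mul_smul, this, this]⟩ : fixedBy Ω (g * g)))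
      intro a b hab
      have : (a : Ω) = (b : Ω) := congrArg (fun t : fixedBy Ω (g * g) => (t : Ω)) hab
      exact Subtype.ext this
    rw [e1, e2, hz, hn', zero_add] at hS
    omega
  have hterm : ∀ g ∈ T, f g ^ 2 + n ≤ (n + 1) * f g := by
    intro g hg
    have hpos : 1 ≤ f g := Nat.one_le_iff_ne_zero.mpr (Finset.mem_filter.mp hg).2
    have hle := hfle g
    obtain ⟨a, ha⟩ : ∃ a, f g = a + 1 := ⟨f g - 1, by omega⟩
    obtain ⟨b, hb⟩ : ∃ b, n = f g + b := ⟨n - f g, by omega⟩
    rw [hb, ha]
    nlinarith [Nat.zero_le (a * b)]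
  have hsum : ∑ g ∈ T, (n + 1) * f g ≤ ∑ g ∈ T, (f g ^ 2 + n) := by
    rw [← Finset.mul_sum, h1, Finset.sum_add_distrib, Finset.sum_const, smul_eq_mul]
    have : (n + 1) * (Dl.card + T.card) = n * Dl.card + (Dl.card + T.card) + T.card * n := by ring
    rw [this]
    rw [h1] at h2
    omega
  have heq : ∀ g ∈ T, f g ^ 2 + n = (n + 1) * f g :=
    (Finset.sum_eq_sum_iff_of_le hterm).mp (le_antisymm (Finset.sum_le_sum hterm) hsum)
  intro g hg1
  by_cases hgT : f g = 0
  · show f g ≤ 1
    omega
  · have hgT' : g ∈ T := Finset.mem_filter.mpr ⟨Finset.mem_univ _, hgT⟩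
    have e := heq g hgT'
    have hle := hfle g
    show f g ≤ 1
    by_contra hlt
    push Not at hlt
    have hne : f g ≠ n := fun h => hg1 (hfn g h)
    obtain ⟨a, ha⟩ : ∃ a, f g = a + 2 := ⟨f g - 2, by omega⟩
    obtain ⟨b, hb⟩ : ∃ b, n = f g + (b + 1) := ⟨n - f g - 1, by omega⟩
    rw [hb, ha] at e
    nlinarith [Nat.zero_le (a * b), Nat.zero_le a, Nat.zero_le b]


theorem two_fixed_eq_one {G Ω : Type*} [Group G] [MulAction G Ω]
    (hle : ∀ g : G, g ≠ 1 → Nat.card (fixedBy Ω g) ≤ 1) [Finite Ω] {x : G} {a b : Ω} (hab : a ≠ b)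
    (ha : x • a = a) (hb : x • b = b) : x = 1 := by
  by_contra hx
  have h1 := hle x hx
  have h2 : Nat.card (fixedBy Ω x) ≤ 1 := h1
  rw [Nat.card_coe_set_eq, Set.ncard_le_one_iff_subsingleton] at h2
  exact hab (h2 ha hb)

theorem mem_conj_smul_iff {G Ω : Type*} [Group G] [MulAction G Ω] (α : Ω) (g x : G) :
    x ∈ MulAut.conj g • stabilizer G α ↔ x • (g • α) = g • α := by
  rw [Subgroup.mem_pointwise_smul_iff_inv_smul_mem, MulAut.smul_def, MulAut.conj_inv_apply,
    mem_stabilizer_iff, mul_smul, mul_smul, inv_smul_eq_iff]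

/-- Let G act faithfully and transitively on a finite set and suppose every element of G fixing no point is an involution. Then either G is an elementary abelian 2-group, or G is a Frobenius group whose Frobenius kernel is an elementary abelian 2-group: G has a Frobenius complement H, and the elements lying in no conjugate of H, together with the identity, pairwise commute and square to the identity. -/
theorem result {G Ω : Type*} [Group G] [Finite G] [MulAction G Ω] [FaithfulSMul G Ω] [Finite Ω]
    (htrans : MulAction.IsPretransitive G Ω) (hinv : ∀ g : G, (∀ ω : Ω, g • ω ≠ ω) → orderOf g = 2) :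
    (IsMulCommutative G ∧ ∀ g : G, g ^ 2 = 1) ∨
    (∃ H : Subgroup G, Cfsg.IsFrobeniusComplement H ∧
      (∀ x ∈ Cfsg.frobeniusKernel H, x ^ 2 = 1) ∧
      ∀ x ∈ Cfsg.frobeniusKernel H, ∀ y ∈ Cfsg.frobeniusKernel H, x * y = y * x) := by
  have hinv' : ∀ g : G, (∀ ω : Ω, g • ω ≠ ω) → g * g = 1 := by
    intro g hg
    have := hinv g hg
    rw [← pow_two, ← this, pow_orderOf_eq_one]
  have comm_of_sq : (∀ g : G, g ^ 2 = 1) → IsMulCommutative G := by
    intro h
    refine ⟨⟨fun a b => ?_⟩⟩
    have h1 := h (a * b)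
    have h2 := h a
    have h3 := h b
    rw [pow_two] at h1 h2 h3
    exact comm_of_sq_one h1 h2 h3
  rcases isEmpty_or_nonempty Ω with hΩ | hΩ
  · left
    have hall : ∀ g : G, g = 1 := fun g =>
      FaithfulSMul.eq_of_smul_eq_smul (α := Ω) fun a => (hΩ.false a).elim
    have hsq : ∀ g : G, g ^ 2 = 1 := fun g => by rw [hall g, one_pow]
    exact ⟨comm_of_sq hsq, hsq⟩
  obtain ⟨α⟩ := hΩ
  have : Nonempty Ω := ⟨α⟩
  have hle := fix_le_one (G := G) (Ω := Ω) hinv'
  by_cases hH : stabilizer G α = ⊥
  · left
    have hsq : ∀ g : G, g ^ 2 = 1 := by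
      intro g
      by_cases hg : g = 1
      · rw [hg, one_pow]
      · rw [pow_two]
        apply hinv'
        intro ω hω
        obtain ⟨x, rfl⟩ := exists_smul_eq G α ω
        have : x⁻¹ * g * x ∈ stabilizer G α := by
          rw [mem_stabilizer_iff, mul_smul, mul_smul, hω, inv_smul_smul]
        rw [hH, Subgroup.mem_bot] at this
        apply hg
        have h2 := congrArg (fun t => x * t * x⁻¹) this
        simpa [mul_assoc] using h2
    exact ⟨comm_of_sq hsq, hsq⟩
  · right
    refine ⟨stabilizer G α, ⟨hH, ?_, ?_⟩, ?_, ?_⟩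
    · intro htop
      apply hH
      rw [eq_bot_iff]
      intro g _
      rw [Subgroup.mem_bot]
      apply FaithfulSMul.eq_of_smul_eq_smul (α := Ω)
      intro ω
      obtain ⟨x, rfl⟩ := exists_smul_eq G α ω
      have h1 : g * x ∈ stabilizer G α := by rw [htop]; trivial
      have h2 : x ∈ stabilizer G α := by rw [htop]; trivial
      rw [mem_stabilizer_iff] at h1 h2
      rw [one_smul, ← mul_smul, h1, h2]
    · intro g hg
      rw [eq_bot_iff]
      intro x hx
      rw [Subgroup.mem_bot]
      obtain ⟨hx1, hx2⟩ := Subgroup.mem_inf.mp hx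
      rw [mem_conj_smul_iff] at hx2
      rw [mem_stabilizer_iff] at hx1 hg
      exact two_fixed_eq_one hle (Ne.symm hg) hx1 hx2
    · intro x hx
      rcases hx with rfl | hx
      · exact one_pow 2
      · rw [pow_two]
        apply hinv'
        intro ω hω
        obtain ⟨g, rfl⟩ := exists_smul_eq G α ω
        exact hx g ((mem_conj_smul_iff α g x).mpr hω)
    · have hder : ∀ x ∈ Cfsg.frobeniusKernel (stabilizer G α), x ≠ 1 → ∀ ω : Ω, x • ω ≠ ω := by
        intro x hx hx1 ω hω
        rcases hx with rfl | hx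
        · exact hx1 rfl
        · obtain ⟨g, rfl⟩ := exists_smul_eq G α ω
          exact hx g ((mem_conj_smul_iff α g x).mpr hω)
      intro x hx y hy
      by_cases hx1 : x = 1
      · rw [hx1, one_mul, mul_one]
      by_cases hy1 : y = 1
      · rw [hy1, one_mul, mul_one]
      have hxd := hder x hx hx1
      have hyd := hder y hy hy1
      have hxx := hinv' x hxd
      have hyy := hinv' y hyd
      by_cases hxy : x * y = 1
      · have : x = y := by
          calc x = x * (y * y) := by rw [hyy, mul_one]
            _ = (x * y) * y := by rw [mul_assoc]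
            _ = y := by rw [hxy, one_mul]
        rw [this]
      -- x * y is a derangement
      have hxyd : ∀ ω : Ω, (x * y) • ω ≠ ω := by
        intro ω hω
        have hinvxy : y * x = (x * y)⁻¹ := by
          rw [eq_inv_iff_mul_eq_one]
          calc y * x * (x * y) = y * (x * x) * y := by group
            _ = 1 := by rw [hxx, mul_one, hyy]
        have h1 : (y * x) • ω = ω := by
          rw [hinvxy, inv_smul_eq_iff, hω]
        have h2 : (y * x) • (y • ω) = y • ω := by
          rw [← mul_smul]
          have : y * x * y = y * (x * y) := by group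
          rw [this, mul_smul, hω]
        have hyx1 : y * x ≠ 1 := by
          intro h
          apply hxy
          rw [h] at hinvxy
          exact inv_eq_one.mp hinvxy.symm
        exact hyx1 (two_fixed_eq_one hle (Ne.symm (hyd ω)) h1 h2)
      have h3 := hinv' (x * y) hxyd
      exact comm_of_sq_one h3 hxx hyy

end Cfsg.Agent.S3555
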