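import Cfsg.Statements.S3556
import Cfsg.Agent.Lib.Helper64.PrimDer

set_option autoImplicit false
open Cfsg

namespace Cfsg.Agent.S3556

/-- Let G act faithfully and primitively on a finite set with at least two points, and suppose that for some fixed prime p every element of G fixing no point has order a power of p. Then G is of affine type (it has a regular normal subgroup that is an elementary abelian r-group for some prime r) or almost simple (it has a non-abelian simple normal subgroup with trivial centralizer). -/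
theorem result {G Ω : Type*} [Group G] [Finite G] [MulAction G Ω] [FaithfulSMul G Ω] [Finite Ω]
    (hprim : MulAction.IsPreprimitive G Ω) (hΩ : 2 ≤ Nat.card Ω) (p : ℕ) (hp : p.Prime)
    (hder : ∀ g : G, (∀ ω : Ω, g • ω ≠ ω) → ∃ k : ℕ, orderOf g = p ^ k) :
    (∃ (N : Subgroup G) (r : ℕ), r.Prime ∧ N.Normal ∧ Cfsg.IsElementaryAbelian r N ∧
      MulAction.IsPretransitive N Ω ∧ ∀ a : Ω, MulAction.stabilizer N a = ⊥) ∨
    (∃ T : Subgroup G, T.Normal ∧ IsSimpleGroup ↥T ∧ ¬ IsMulCommutative ↥T ∧
      Subgroup.centralizer (T : Set G) = ⊥) := by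
  classical
  open Cfsg.Agent.Lib.Helper64 in
  -- `G` is non-trivial
  have hnt : Nontrivial G := by
    have : Nontrivial Ω := by
      rw [← Finite.one_lt_card_iff_nontrivial]; omega
    obtain ⟨a, b, hab⟩ := exists_pair_ne Ω
    have htr : MulAction.IsPretransitive G Ω := hprim.toIsPretransitive
    obtain ⟨g, hg⟩ := htr.exists_smul_eq a b
    refine ⟨⟨g, 1, ?_⟩⟩
    rintro rfl
    rw [one_smul] at hg
    exact hab hg
  obtain ⟨N, hN, hN1, hmin⟩ := exists_minimal_normal (G := G)
  by_cases hcomm : ∀ x ∈ N, ∀ y ∈ N, x * y = y * x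
  · left
    obtain ⟨h1, ⟨r, hr, hexp⟩, h3, h4, -⟩ := affine_of_comm_minNormal hprim N hN hN1 hmin hcomm
    exact ⟨N, r, hr, hN, ⟨h1, hexp⟩, h3, h4⟩
  · by_cases hnas : ∃ T : Subgroup G, T.Normal ∧ IsSimpleGroup ↥T ∧ ¬ IsMulCommutative ↥T ∧
        Subgroup.centralizer (T : Set G) = ⊥
    · exact Or.inr hnas
    · exfalso
      obtain ⟨x, hx, hxo⟩ := exists_derangement_not_primePow hprim N hN hN1 hmin hcomm hnas
      obtain ⟨k, hk⟩ := hder x hx
      exact hxo p k hp hk

end Cfsg.Agent.S3556
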