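import Cfsg.Statements.S3559
import Cfsg.Agent.Lib.Helper64.SchurCyc

set_option autoImplicit false
open Cfsg

namespace Cfsg.Agent.S3559

theorem exists_two_primes_of_not_primePow {n : ℕ} (hn : 2 ≤ n) (hnp : ¬ IsPrimePow n) :
    ∃ p q : ℕ, p.Prime ∧ q.Prime ∧ p ≠ q ∧ p ∣ n ∧ q ∣ n := by
  have hn1 : n ≠ 1 := by omega
  have hp : n.minFac.Prime := Nat.minFac_prime hn1
  by_contra hcon
  push Not at hcon
  have hall : ∀ {d : ℕ}, d.Prime → d ∣ n → d = n.minFac := by
    intro d hd hdn
    by_contra hne
    exact hcon n.minFac d hp hd (Ne.symm hne) (Nat.minFac_dvd n) hdn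
  have hpow := Nat.eq_prime_pow_of_unique_prime_dvd (by omega : n ≠ 0) hall
  apply hnp
  rw [isPrimePow_nat_iff]
  refine ⟨n.minFac, n.primeFactorsList.length, hp, ?_, hpow.symm⟩
  rcases Nat.eq_zero_or_pos n.primeFactorsList.length with h0 | hpos
  · rw [h0, pow_zero] at hpow; omega
  · exact hpos

/-- Let G act faithfully and transitively on a finite set whose number of points n ≥ 2 is not a prime power, and suppose G has a cyclic subgroup acting regularly (transitively with trivial point stabilizers). Then G is imprimitive or doubly transitive. -/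
theorem result {G Ω : Type*} [Group G] [Finite G] [MulAction G Ω] [FaithfulSMul G Ω] [Finite Ω]
    (htrans : MulAction.IsPretransitive G Ω) (hn : 2 ≤ Nat.card Ω) (hnp : ¬ IsPrimePow (Nat.card Ω))
    (C : Subgroup G) (hcyc : IsCyclic ↥C) (hC : MulAction.IsPretransitive ↥C Ω ∧ ∀ a : Ω, MulAction.stabilizer ↥C a = ⊥) :
    ¬ MulAction.IsPreprimitive G Ω ∨ MulAction.IsMultiplyPretransitive G Ω 2 := by
  by_cases hprim : MulAction.IsPreprimitive G Ω
  · right
    have hne : Nonempty Ω := by
      rw [← Finite.card_pos_iff]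
      omega
    obtain ⟨ω₀⟩ := hne
    have hreg : Cfsg.Agent.Lib.Helper64.RegAb C ω₀ := by
      refine ⟨?_, ?_, ?_⟩
      · intro ω
        obtain ⟨x, hx⟩ := hC.1.exists_smul_eq ω₀ ω
        exact ⟨x, hx⟩
      · intro x hx
        have : x ∈ MulAction.stabilizer C ω₀ := hx
        rw [hC.2] at this
        exact Subgroup.mem_bot.mp this
      · intro x y
        exact (IsCyclic.commGroup (α := C)).mul_comm x y
    have hcard : Nat.card C = Nat.card Ω := by
      apply Nat.card_eq_of_bijective (fun x : C => (x : G) • ω₀)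
      constructor
      · intro x y hxy
        exact hreg.inj hxy
      · intro ω
        exact hreg.trans ω
    obtain ⟨p, q, hp, hq, hpq, hpn, hqn⟩ := exists_two_primes_of_not_primePow hn hnp
    rw [← hcard] at hpn hqn
    exact Cfsg.Agent.Lib.Helper64.schur_two_trans hreg hprim hcyc hp hq hpq hpn hqn
  · left
    exact hprim

end Cfsg.Agent.S3559
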