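import Cfsg.Statements.S3560
import Cfsg.Agent.Lib.Helper64.Hamming
import Cfsg.Agent.Lib.Helper64.PermTransport

set_option autoImplicit false
open Cfsg

namespace Cfsg.Agent.S3560

open MulAction Cfsg.Agent.Lib.Helper64

/-- Let K be a finite group isomorphic to a direct product of r ≥ 2 groups all of the same order m ≥ 3. Then K is not a B-group: there is a primitive but not doubly transitive permutation group (on some finite set) containing a regular subgroup isomorphic to K. -/
theorem result {K : Type*} [Group K] [Finite K] {ι : Type*} [Fintype ι] (F : ι → Type*) [∀ i, Group (F i)]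
    (hr : 2 ≤ Fintype.card ι) (m : ℕ) (hm : 3 ≤ m) (hcard : ∀ i, Nat.card (F i) = m) (e : K ≃* (∀ i, F i)) :
    ∃ (n : ℕ) (G R : Subgroup (Equiv.Perm (Fin n))), R ≤ G ∧ Nonempty (↥R ≃* K) ∧
      MulAction.IsPretransitive ↥R (Fin n) ∧ (∀ a : Fin n, MulAction.stabilizer ↥R a = ⊥) ∧
      MulAction.IsPreprimitive ↥G (Fin n) ∧ ¬ MulAction.IsMultiplyPretransitive ↥G (Fin n) 2 := by
  classical
  have hfin : ∀ i, Finite (F i) := fun i =>
    Nat.finite_of_card_ne_zero (by rw [hcard i]; omega)
  let ei : ∀ i, F i ≃ Fin m := fun i => Finite.equivFinOfCardEq (hcard i)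
  let ε : (∀ i, F i) ≃ (ι → Fin m) := Equiv.piCongrRight ei
  let ρ : K →* Equiv.Perm (ι → Fin m) :=
    (ε.permCongrHom.toMonoidHom).comp
      ((MulAction.toPermHom (∀ i, F i) (∀ i, F i)).comp e.toMonoidHom)
  have hρ : ∀ (k : K) (x : ι → Fin m) (i : ι),
      ρ k x i = ei i ((e k) i * (ei i).symm (x i)) := fun k x i => rfl
  have hρinj : Function.Injective ρ := by
    intro k k' hkk
    apply e.injective
    funext i
    have h1 := congrFun (congrArg (fun σ : Equiv.Perm (ι → Fin m) => σ (fun i => ei i 1)) hkk) i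
    simp only [hρ, Equiv.symm_apply_apply, mul_one] at h1
    exact (ei i).injective h1
  have hρmem : ρ.range ≤ hammingAut ι (Fin m) := by
    rintro _ ⟨k, rfl⟩
    apply mem_hammingAut_of_coordwise
    intro x y i
    rw [hρ, hρ]
    simp
  have hRtrans : IsPretransitive ρ.range (ι → Fin m) := by
    refine ⟨fun x y => ?_⟩
    refine ⟨⟨ρ (e.symm (fun i => (ei i).symm (y i) * ((ei i).symm (x i))⁻¹)), ⟨_, rfl⟩⟩, ?_⟩
    funext i
    show ρ _ x i = y i
    rw [hρ, MulEquiv.apply_symm_apply]
    simp
  have hRstab : ∀ x : ι → Fin m, stabilizer ρ.range x = ⊥ := by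
    intro x
    rw [eq_bot_iff]
    rintro ⟨_, ⟨k, rfl⟩⟩ hk
    rw [mem_stabilizer_iff] at hk
    rw [Subgroup.mem_bot]
    apply Subtype.ext
    show ρ k = 1
    have hk1 : e k = 1 := by
      funext i
      have h1 : ρ k x i = x i := congrFun hk i
      rw [hρ] at h1
      have h2 : (e k) i * (ei i).symm (x i) = (ei i).symm (x i) := by
        apply (ei i).injective
        rw [h1, Equiv.apply_symm_apply]
      exact mul_eq_right.mp h2
    have : k = 1 := e.injective (by rw [hk1, map_one])
    rw [this, map_one]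
  let β := Fintype.equivFin (ι → Fin m)
  refine ⟨Fintype.card (ι → Fin m), (hammingAut ι (Fin m)).map β.permCongrHom.toMonoidHom,
    ρ.range.map β.permCongrHom.toMonoidHom, Subgroup.map_mono hρmem, ?_, ?_, ?_, ?_, ?_⟩
  · obtain ⟨e1⟩ := transport_equiv β ρ.range
    exact ⟨e1.trans (MonoidHom.ofInjective hρinj).symm⟩
  · exact transport_isPretransitive β ρ.range hRtrans
  · exact transport_stabilizer β ρ.range hRstab
  · apply transport_isPreprimitive β
    apply hammingAut_isPreprimitive
    rw [Fintype.card_fin]; exact hm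
  · apply transport_not_two β
    obtain ⟨i₀, j₀, hij⟩ := Fintype.exists_pair_of_one_lt_card (α := ι) (by omega)
    have h0 : (⟨0, by omega⟩ : Fin m) ≠ ⟨1, by omega⟩ := by
      intro h
      have := congrArg Fin.val h
      simp at this
    exact hammingAut_not_two_transitive hij h0

end Cfsg.Agent.S3560
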