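import Mathlib
import Cfsg.Statements.S3573

set_option autoImplicit false
open Cfsg

namespace Cfsg.Agent.S3573

open Equiv Equiv.Perm

/-- forward invariance of a finite set under a permutation -/
def Inv {α : Type*} (σ : Perm α) (s : Finset α) : Prop := ∀ x ∈ s, σ x ∈ s

theorem Inv.image_eq {α : Type*} [DecidableEq α] {σ : Perm α} {s : Finset α} (h : Inv σ s) :
    s.image σ = s := by
  apply Finset.eq_of_subset_of_card_le
  · intro y hy
    obtain ⟨x, hx, rfl⟩ := Finset.mem_image.mp hy
    exact h x hx
  · rw [Finset.card_image_of_injective _ σ.injective]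

theorem Inv.pow {α : Type*} {σ : Perm α} {s : Finset α} (h : Inv σ s) (i : ℕ) :
    ∀ x ∈ s, (σ ^ i) x ∈ s := by
  induction i with
  | zero => intro x hx; simpa using hx
  | succ i ih =>
    intro x hx
    rw [pow_succ', Perm.mul_apply]
    exact h _ (ih x hx)

/-- invariant subsets of the support of a permutation of prime order, of every admissible size -/
theorem exists_inv_subset_support {α : Type*} [Fintype α] [DecidableEq α] (σ : Perm α) (r : ℕ)
    (hr : r.Prime) (hσ : orderOf σ = r) :
    ∀ j : ℕ, j * r ≤ σ.support.card → ∃ U : Finset α, U ⊆ σ.support ∧ Inv σ U ∧ U.card = j * r := by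
  intro j
  induction j with
  | zero =>
    intro _
    exact ⟨∅, Finset.empty_subset _, fun x hx => absurd hx (Finset.notMem_empty x), by simp⟩
  | succ j ih =>
    intro hj
    obtain ⟨U, hUs, hUi, hUc⟩ := ih (by nlinarith)
    have hlt : U.card < σ.support.card := by
      rw [hUc]
      have := hr.pos
      nlinarith
    obtain ⟨x, hxT, hxU⟩ := Finset.exists_mem_notMem_of_card_lt_card hlt
    have hx : σ x ≠ x := Perm.mem_support.mp hxT
    set C := (σ.cycleOf x).support with hC
    have hCcard : C.card = r := by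
      have hcyc : IsCycle (σ.cycleOf x) := isCycle_cycleOf σ hx
      rw [hC, ← hcyc.orderOf]
      have hd : orderOf (σ.cycleOf x) ∣ r := hσ ▸ orderOf_cycleOf_dvd_orderOf σ x
      rcases (Nat.dvd_prime hr).mp hd with h1 | h1
      · exfalso
        rw [orderOf_eq_one_iff, cycleOf_eq_one_iff] at h1
        exact hx h1
      · exact h1
    have hCsub : C ⊆ σ.support := support_cycleOf_le σ x
    have hCinv : Inv σ C := by
      intro y hy
      rw [hC, mem_support_cycleOf_iff] at hy ⊢
      exact ⟨sameCycle_apply_right.mpr hy.1, hy.2⟩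
    have hdisj : Disjoint U C := by
      rw [Finset.disjoint_left]
      intro y hyU hyC
      rw [hC, mem_support_cycleOf_iff] at hyC
      obtain ⟨i, -, hi⟩ := hyC.1.symm.exists_pow_eq'
      apply hxU
      rw [← hi]
      exact hUi.pow i y hyU
    refine ⟨U ∪ C, Finset.union_subset hUs hCsub, ?_, ?_⟩
    · intro y hy
      rcases Finset.mem_union.mp hy with h | h
      · exact Finset.mem_union_left _ (hUi y h)
      · exact Finset.mem_union_right _ (hCinv y h)
    · rw [Finset.card_union_of_disjoint hdisj, hUc, hCcard]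
      ring

/-- every permutation of prime order `r` has an invariant `k`-subset when `k % r ≤ n % r` -/
theorem exists_inv_of_mod_le {α : Type*} [Fintype α] [DecidableEq α] (σ : Perm α) (r : ℕ)
    (hr : r.Prime) (hσ : orderOf σ = r) (k : ℕ) (hk : k ≤ Fintype.card α)
    (hmod : k % r ≤ Fintype.card α % r) :
    ∃ s : Finset α, s.card = k ∧ Inv σ s := by
  obtain ⟨a', ha'⟩ := cycleType_prime_order (σ := σ) (hσ ▸ hr)
  rw [hσ] at ha'
  have hT : σ.support.card = (a' + 1) * r := by
    rw [← sum_cycleType, ha', Multiset.sum_replicate, smul_eq_mul]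
  set n := Fintype.card α with hn
  have hTn : σ.support.card ≤ n := Finset.card_le_univ _
  have hF : σ.supportᶜ.card = n - σ.support.card := Finset.card_compl _
  set a := a' + 1 with ha
  set b := min a (k / r) with hb
  have hba : b ≤ a := min_le_left _ _
  have hbk : b ≤ k / r := min_le_right _ _
  have hbr : b * r ≤ σ.support.card := by
    rw [hT]; exact Nat.mul_le_mul_right r hba
  have hbrk : b * r ≤ k := by
    calc b * r ≤ (k / r) * r := Nat.mul_le_mul_right r hbk
      _ ≤ k := Nat.div_mul_le_self k r
  obtain ⟨U, hUs, hUi, hUc⟩ := exists_inv_subset_support σ r hr hσ b hbr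
  have hc : k - b * r ≤ σ.supportᶜ.card := by
    rw [hF, hT]
    have hanr : a ≤ n / r := by
      rw [Nat.le_div_iff_mul_le hr.pos, ← hT]; exact hTn
    have h1 : a * r ≤ (n / r) * r := Nat.mul_le_mul_right r hanr
    have h2 := Nat.div_add_mod n r
    have h3 := Nat.div_add_mod k r
    have h4 : r * (n / r) = (n / r) * r := Nat.mul_comm _ _
    have h5 : r * (k / r) = (k / r) * r := Nat.mul_comm _ _
    rcases le_total a (k / r) with hle | hle
    · have : b = a := min_eq_left hle
      rw [this]
      omega
    · have : b = k / r := min_eq_right hle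
      rw [this]
      omega
  obtain ⟨W, hWs, hWc⟩ := Finset.exists_subset_card_eq hc
  have hWfix : ∀ x ∈ W, σ x = x := by
    intro x hx
    have := hWs hx
    rw [Finset.mem_compl] at this
    exact Perm.notMem_support.mp this
  have hdisj : Disjoint U W := by
    rw [Finset.disjoint_left]
    intro y hyU hyW
    have h1 := hUs hyU
    have h2 := hWs hyW
    rw [Finset.mem_compl] at h2
    exact h2 h1
  refine ⟨U ∪ W, ?_, ?_⟩
  · rw [Finset.card_union_of_disjoint hdisj, hUc, hWc]
    omega
  · intro y hy
    rcases Finset.mem_union.mp hy with h | h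
    · exact Finset.mem_union_left _ (hUi y h)
    · rw [hWfix y h]
      exact Finset.mem_union_right _ h

/-- for an invariant set of a permutation with `σ ^ r = 1`, the size is congruent mod `r` to the
number of fixed points inside it -/
theorem card_mod_le_of_inv {α : Type*} [Fintype α] [DecidableEq α] (σ : Perm α) (r : ℕ)
    (hr : r.Prime) (hσ : σ ^ r = 1) (s : Finset α) (hs : Inv σ s)
    (hfix : σ.supportᶜ.card < r) : s.card % r ≤ σ.supportᶜ.card := by
  have : Fact r.Prime := ⟨hr⟩
  have himg : s.image σ = s := hs.image_eq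
  have hiff : ∀ x, σ x ∈ s ↔ x ∈ s := by
    intro x
    constructor
    · intro hx
      rw [← himg] at hx
      obtain ⟨y, hy, hyx⟩ := Finset.mem_image.mp hx
      rwa [← σ.injective hyx]
    · exact hs x
  set τ : Perm {x // x ∈ s} := σ.subtypePerm hiff with hτ
  have hτr : τ ^ r ^ 1 = 1 := by
    rw [pow_one, hτ, subtypePerm_pow]
    ext x
    simp [hσ]
  have hmod := card_compl_support_modEq hτr
  rw [Fintype.card_coe] at hmod
  -- the fixed points of τ inject into the fixed points of σ
  have hle : τ.supportᶜ.card ≤ σ.supportᶜ.card := by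
    refine Finset.card_le_card_of_injOn (s := τ.supportᶜ) (t := σ.supportᶜ)
      (fun x : {x // x ∈ s} => (x : α)) ?_ ?_
    · intro x hx
      have hx' : x ∉ τ.support := Finset.mem_compl.mp (Finset.mem_coe.mp hx)
      rw [Perm.notMem_support] at hx'
      have : σ (x : α) = x := congrArg Subtype.val hx'
      exact Finset.mem_coe.mpr (Finset.mem_compl.mpr (Perm.notMem_support.mpr this))
    · intro x _ y _ hxy
      exact Subtype.ext hxy
  have h1 : s.card % r = τ.supportᶜ.card % r := hmod.symm
  rw [h1, Nat.mod_eq_of_lt (lt_of_le_of_lt hle hfix)]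
  exact hle

/-- a permutation of order `r` with exactly `n % r` fixed points -/
theorem exists_perm_many_cycles (n r : ℕ) (hr : r.Prime) (hrn : r ≤ n) :
    ∃ σ : Perm (Fin n), orderOf σ = r ∧ σ.supportᶜ.card = n % r := by
  have hpos : 0 < n / r := Nat.div_pos hrn hr.pos
  obtain ⟨σ, hσ⟩ := (exists_with_cycleType_iff (Fin n) (m := Multiset.replicate (n / r) r)).mpr
    ⟨by
      rw [Multiset.sum_replicate, smul_eq_mul, Fintype.card_fin]
      exact Nat.div_mul_le_self n r,
     fun a ha => by
      rw [Multiset.eq_of_mem_replicate ha]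
      exact hr.two_le⟩
  refine ⟨σ, ?_, ?_⟩
  · rw [← lcm_cycleType, hσ]
    obtain ⟨m, hm⟩ := Nat.exists_eq_succ_of_ne_zero hpos.ne'
    rw [hm]
    clear hm hσ
    induction m with
    | zero => simp
    | succ m ih =>
      rw [Multiset.replicate_succ, Multiset.lcm_cons, ih]
      simp
  · rw [Finset.card_compl, ← sum_cycleType, hσ, Multiset.sum_replicate, smul_eq_mul,
      Fintype.card_fin]
    have := Nat.div_add_mod n r
    have h2 : r * (n / r) = n / r * r := Nat.mul_comm _ _
    omega

/-- the core equivalence -/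
theorem core (n k r : ℕ) (hkn : k ≤ n) (hr : r.Prime) (hrn : r ≤ n) :
    (∀ σ : Perm (Fin n), orderOf σ = r → ∃ s : Finset (Fin n), s.card = k ∧ s.image σ = s) ↔
      k % r ≤ n % r := by
  constructor
  · intro h
    obtain ⟨σ, hσ, hfix⟩ := exists_perm_many_cycles n r hr hrn
    obtain ⟨s, hsk, hsi⟩ := h σ hσ
    have hinv : Inv σ s := by
      intro x hx
      rw [← hsi]
      exact Finset.mem_image_of_mem _ hx
    have hσr : σ ^ r = 1 := by rw [← hσ]; exact pow_orderOf_eq_one σ
    have := card_mod_le_of_inv σ r hr hσr s hinv (by rw [hfix]; exact Nat.mod_lt _ hr.pos)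
    rwa [hsk, hfix] at this
  · intro hmod σ hσ
    obtain ⟨s, hsk, hsi⟩ := exists_inv_of_mod_le σ r hr hσ k
      (by rw [Fintype.card_fin]; exact hkn) (by rw [Fintype.card_fin]; exact hmod)
    exact ⟨s, hsk, hsi.image_eq⟩

/-- Lucas: if `r ∣ C(n,k)` and `k % r ≤ n % r` then `r ≤ k` -/
theorem le_of_dvd_choose (n k r : ℕ) (hr : r.Prime) (hrd : r ∣ Nat.choose n k)
    (hmod : k % r ≤ n % r) : r ≤ k := by
  by_contra hlt
  push Not at hlt
  have : Fact r.Prime := ⟨hr⟩
  have hL := Choose.choose_modEq_choose_mod_mul_choose_div_nat (n := n) (k := k) (p := r)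
  rw [Nat.mod_eq_of_lt hlt, Nat.div_eq_of_lt hlt, Nat.choose_zero_right, mul_one] at hL
  rw [Nat.mod_eq_of_lt hlt] at hmod
  have hd : r ∣ Nat.choose (n % r) k := (Nat.modEq_zero_iff_dvd.mp
    (hL.symm.trans (Nat.modEq_zero_iff_dvd.mpr hrd)))
  have h1 := Nat.choose_mul_factorial_mul_factorial hmod
  have h2 : r ∣ (n % r).factorial := by
    rw [← h1]
    exact Dvd.dvd.mul_right (Dvd.dvd.mul_right hd _) _
  have h3 := (Nat.Prime.dvd_factorial hr).mp h2
  have h4 := Nat.mod_lt n hr.pos
  omega

theorem le_of_dvd_choose' (n k r : ℕ) (hkn : k ≤ n) (hr : r.Prime) (hrd : r ∣ Nat.choose n k) :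
    r ≤ n := by
  have h1 := Nat.choose_mul_factorial_mul_factorial hkn
  have h2 : r ∣ n.factorial := by
    rw [← h1]
    exact Dvd.dvd.mul_right (Dvd.dvd.mul_right hrd _) _
  exact (Nat.Prime.dvd_factorial hr).mp h2

/-- Let 1 ≤ k with 2k < n and consider the symmetric group of degree n acting on the k-subsets of an n-set. Let r be a prime dividing the number C(n,k) of k-subsets. If r is odd, then every permutation of order r fixes some k-subset if and only if r ≤ k and the remainder of k modulo r is at most the remainder of n modulo r. If r = 2, then every involution fixes some k-subset if and only if k is even or n is odd. -/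
theorem result (n k : ℕ) (hk : 1 ≤ k) (hkn : 2 * k < n) (r : ℕ) (hr : r.Prime) (hrd : r ∣ Nat.choose n k) :
    (r ≠ 2 → ((∀ σ : Equiv.Perm (Fin n), orderOf σ = r → ∃ s : Finset (Fin n), s.card = k ∧ s.image σ = s) ↔
      (r ≤ k ∧ k % r ≤ n % r))) ∧
    (r = 2 → ((∀ σ : Equiv.Perm (Fin n), orderOf σ = 2 → ∃ s : Finset (Fin n), s.card = k ∧ s.image σ = s) ↔
      (Even k ∨ Odd n))) := by
  have hkn' : k ≤ n := by omega
  have hrn : r ≤ n := le_of_dvd_choose' n k r hkn' hr hrd
  have hcore := core n k r hkn' hr hrn
  constructor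
  · intro _
    rw [hcore]
    constructor
    · intro h
      exact ⟨le_of_dvd_choose n k r hr hrd h, h⟩
    · intro h
      exact h.2
  · intro h2
    subst h2
    rw [hcore, Nat.even_iff, Nat.odd_iff]
    omega

end Cfsg.Agent.S3573
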