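import Cfsg.Statements.S3575
import Cfsg.Agent.Lib.Helper98.Unif4

set_option autoImplicit false
set_option linter.style.haveILetI false
open Cfsg

namespace Cfsg.Agent.S3575

/-- Let a, b ≥ 2 and consider the symmetric group of degree a·b acting on the partitions of an (a·b)-set into b parts of size a (encoded as maps onto a b-element set all of whose fibres have a elements; a permutation fixes such a partition when it permutes the fibres). Let r be a prime dividing the number (ab)!/((a!)^b·b!) of such partitions, and let ℓ and k be the remainders of a and b modulo r. Then every permutation of order r fixes some such partition if and only if r ≤ a and one of the following holds: ℓ = 0; or k = 0 and ℓ = 1; or ℓ and k are non-zero, k·ℓ < r, and either b < r or (k + r)·ℓ ≤ k·a + r. -/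
theorem result (a b : ℕ) (ha : 2 ≤ a) (hb : 2 ≤ b) (r : ℕ) (hr : r.Prime)
    (hrd : r ∣ (a * b).factorial / (a.factorial ^ b * b.factorial)) :
    (∀ σ : Equiv.Perm (Fin (a * b)), orderOf σ = r →
        ∃ f : Fin (a * b) → Fin b, (∀ j : Fin b, Nat.card {x : Fin (a * b) // f x = j} = a) ∧
          ∃ π : Equiv.Perm (Fin b), ∀ x : Fin (a * b), f (σ x) = π (f x)) ↔
      (r ≤ a ∧ (a % r = 0 ∨ (b % r = 0 ∧ a % r = 1) ∨
        (a % r ≠ 0 ∧ b % r ≠ 0 ∧ (b % r) * (a % r) < r ∧ (b < r ∨ (b % r + r) * (a % r) ≤ (b % r) * a + r)))) := by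
  classical
  haveI : Fact r.Prime := ⟨hr⟩
  have hr0 : 0 < r := hr.pos
  have hrab : r ≤ a * b := Lib.Helper98.Unif.prime_le_of_dvd a b r (by omega) hr hrd
  rw [← Lib.Helper98.Unif.cov_iff a b r ha hb hr hrab]
  have hamod := Nat.div_add_mod a r
  constructor
  · -- every permutation of order `r` fixes a partition ⇒ every `j` is covered
    intro hL j hj1 hj2
    obtain ⟨σ, hσ⟩ := (Equiv.Perm.exists_with_cycleType_iff (α := Fin (a * b))
      (m := Multiset.replicate j r)).mpr ⟨by
        rw [Multiset.sum_replicate, smul_eq_mul, Fintype.card_fin, mul_comm]; exact hj2,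
      fun x hx => by rw [Multiset.eq_of_mem_replicate hx]; exact hr.two_le⟩
    have hord : orderOf σ = r := by
      rw [← Equiv.Perm.lcm_cycleType, hσ]
      apply Nat.dvd_antisymm
      · apply Multiset.lcm_dvd.mpr
        intro x hx
        rw [Multiset.eq_of_mem_replicate hx]
      · apply Multiset.dvd_lcm
        rw [Multiset.mem_replicate]
        exact ⟨by omega, rfl⟩
    have hsupp : σ.support.card = j * r := by
      rw [← Equiv.Perm.sum_cycleType, hσ, Multiset.sum_replicate, smul_eq_mul]
    obtain ⟨f, hf, π, hπ⟩ := hL σ hord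
    obtain ⟨s, hs1, hs2, hs3⟩ := Lib.Helper98.Unif.extract (r := r) σ
      (by rw [← hord]; exact pow_orderOf_eq_one σ)
      rfl (by omega) f hf π hπ
    rw [hsupp] at hs2 hs3
    refine ⟨s, hs1, ?_, ?_⟩
    · have : a * s * r ≤ j * r := hs2
      exact Nat.le_of_mul_le_mul_right this hr0
    · obtain ⟨t, ht⟩ := Nat.exists_eq_add_of_le hs1
      rw [ht, Nat.add_sub_cancel_left] at hs3 ⊢
      have h1 : a * (r * s + t) = r * (a * s) + a * t := by ring
      have h2 : a * t = r * (t * (a / r)) + t * (a % r) := by
        nth_rewrite 1 [← hamod]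
        ring
      have h3 : r * j ≤ r * (a * s + t * (a / r)) := by
        rw [h1, h2] at hs3
        rw [mul_add]
        rw [mul_comm j r] at hs3
        omega
      exact Nat.le_of_mul_le_mul_left h3 hr0
  · -- every `j` is covered ⇒ every permutation of order `r` fixes a partition
    intro hcov σ hord
    obtain ⟨k, hk⟩ := Equiv.Perm.cycleType_prime_order (σ := σ) (by rw [hord]; exact hr)
    have hsupp : σ.support.card = (k + 1) * r := by
      rw [← Equiv.Perm.sum_cycleType, hk, Multiset.sum_replicate, smul_eq_mul, hord]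
    have hle : r * (k + 1) ≤ a * b := by
      have := Finset.card_le_univ σ.support
      rw [Fintype.card_fin, hsupp] at this
      rw [mul_comm]
      exact this
    obtain ⟨s, hs1, hs2, hs3⟩ := hcov (k + 1) (by omega) hle
    obtain ⟨t, ht⟩ := Nat.exists_eq_add_of_le hs1
    rw [ht, Nat.add_sub_cancel_left] at hs3
    obtain ⟨J, hJ⟩ := Nat.exists_eq_add_of_le hs2
    have hJt : J ≤ t * (a / r) := by omega
    -- the model
    have hX : Fintype.card (Lib.Helper98.Unif.MX r (a / r) (a % r) s t) = a * b := by
      have e1 : a * b = (r * (a / r) + a % r) * (r * s + t) := by rw [hamod, ht]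
      simp only [Fintype.card_sum, Fintype.card_prod, Fintype.card_fin, ZMod.card]
      rw [e1]
      ring
    have hY : Fintype.card (Lib.Helper98.Unif.MY r s t) = b := by
      simp only [Fintype.card_sum, Fintype.card_prod, Fintype.card_fin, ZMod.card]
      rw [ht]
      ring
    obtain ⟨τ', hτ'r, hτ's, f, hf, π', hπ'⟩ := Lib.Helper98.Unif.transport_model (a * b) b a r hX hY
      (Lib.Helper98.Unif.mτ r (a / r) (a % r) s t J) (Lib.Helper98.Unif.mF r (a / r) (a % r) s t)
      (fun y => by rw [Lib.Helper98.Unif.mF_fiber, hamod])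
      (Lib.Helper98.Unif.mπ r s t) (Lib.Helper98.Unif.mF_mτ r (a / r) (a % r) s t J)
      (Lib.Helper98.Unif.mτ_pow_r r (a / r) (a % r) s t J)
    rw [Lib.Helper98.Unif.mτ_support_card r (a / r) (a % r) s t J hJt, hamod, ← hJ] at hτ's
    have hconj : IsConj σ τ' := Lib.Helper98.Unif.isConj_of_prime_order hr σ τ' hord hτ'r
      (by rw [hsupp, hτ's, mul_comm])
    obtain ⟨c, hc⟩ := isConj_iff.mp hconj
    refine ⟨fun x => f (c x), ?_, π', ?_⟩
    · intro i
      exact (Nat.card_congr (Equiv.subtypeEquiv c (fun x => Iff.rfl))).trans (hf i)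
    · intro x
      have h1 : c (σ x) = τ' (c x) := by
        rw [← hc]
        simp
      show f (c (σ x)) = π' (f (c x))
      rw [h1, hπ']

end Cfsg.Agent.S3575
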