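import Mathlib
import Cfsg.Statements.S3599
import Cfsg.Agent.Lib.Helper65.PClosed
import Cfsg.Agent.Lib.Helper65.FrobGroup
import Cfsg.Agent.Lib.Helper65.Critical

set_option autoImplicit false
open Cfsg

namespace Cfsg.Agent.S3599

open Cfsg.Agent.Lib.Helper65

/-- The set of products of choices. -/
def Om (s : ℕ) (p : Fin s → Fin 2 → ℕ) : Set ℕ :=
  {m : ℕ | ∃ c : Fin s → ℕ, (∀ j, c j = 1 ∨ c j = p j 0 ∨ c j = p j 1) ∧ m = ∏ j, c j}

theorem fin_two_key : ∀ i : Fin 2, (i = 0 ∧ 1 - i = 1) ∨ (i = 1 ∧ 1 - i = 0) := by decide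

theorem c_eq_of_dvd {s : ℕ} {p : Fin s → Fin 2 → ℕ}
    (hp : ∀ j i, (p j i).Prime) (hinj : ∀ j i j' i', p j i = p j' i' → j = j' ∧ i = i')
    (c : Fin s → ℕ) (hc : ∀ j, c j = 1 ∨ c j = p j 0 ∨ c j = p j 1) (j : Fin s) (i : Fin 2)
    (h : p j i ∣ ∏ j', c j') : c j = p j i := by
  obtain ⟨j', _, hj'⟩ := (Prime.dvd_finsetProd_iff (Nat.Prime.prime (hp j i)) _).1 h
  rcases hc j' with h1 | h1 | h1
  · rw [h1, Nat.dvd_one] at hj'
    exact absurd hj' (hp j i).ne_one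
  · rw [h1] at hj'
    have h2 := (Nat.prime_dvd_prime_iff_eq (hp j i) (hp j' 0)).1 hj'
    obtain ⟨rfl, rfl⟩ := hinj _ _ _ _ h2
    exact h1
  · rw [h1] at hj'
    have h2 := (Nat.prime_dvd_prime_iff_eq (hp j i) (hp j' 1)).1 hj'
    obtain ⟨rfl, rfl⟩ := hinj _ _ _ _ h2
    exact h1

theorem coprime_of_ne {s : ℕ} {p : Fin s → Fin 2 → ℕ}
    (hp : ∀ j i, (p j i).Prime) (hinj : ∀ j i j' i', p j i = p j' i' → j = j' ∧ i = i')
    {j j' : Fin s} (hjj : j ≠ j') {a b : ℕ} (ha : a = 1 ∨ a = p j 0 ∨ a = p j 1)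
    (hb : b = 1 ∨ b = p j' 0 ∨ b = p j' 1) : Nat.Coprime a b := by
  rcases ha with rfl | rfl | rfl
  · exact Nat.coprime_one_left _
  · rcases hb with rfl | rfl | rfl
    · exact Nat.coprime_one_right _
    · exact (Nat.coprime_primes (hp _ _) (hp _ _)).2 (fun h => hjj (hinj _ _ _ _ h).1)
    · exact (Nat.coprime_primes (hp _ _) (hp _ _)).2 (fun h => hjj (hinj _ _ _ _ h).1)
  · rcases hb with rfl | rfl | rfl
    · exact Nat.coprime_one_right _
    · exact (Nat.coprime_primes (hp _ _) (hp _ _)).2 (fun h => hjj (hinj _ _ _ _ h).1)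
    · exact (Nat.coprime_primes (hp _ _) (hp _ _)).2 (fun h => hjj (hinj _ _ _ _ h).1)

theorem mem_iff {s : ℕ} (p : Fin s → Fin 2 → ℕ) (j : Fin s) (i : Fin 2) (n : ℕ) :
    n ∈ ({1, p j i, p j (1 - i)} : Set ℕ) ↔ (n = 1 ∨ n = p j 0 ∨ n = p j 1) := by
  simp only [Set.mem_insert_iff, Set.mem_singleton_iff]
  rcases fin_two_key i with ⟨h0, h1⟩ | ⟨h0, h1⟩
  · rw [h1, h0]
  · rw [h1, h0]
    tauto

theorem spec_pi {s : ℕ} {p : Fin s → Fin 2 → ℕ}
    (hp : ∀ j i, (p j i).Prime) (hinj : ∀ j i j' i', p j i = p j' i' → j = j' ∧ i = i')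
    (F : Fin s → Type) [∀ j, Group (F j)] (α : Fin s → Fin 2)
    (hF : ∀ j, Set.range (orderOf : F j → ℕ) = {1, p j (α j), p j (1 - α j)}) :
    Set.range (orderOf : (∀ j, F j) → ℕ) = Om s p := by
  have hmem : ∀ j (n : ℕ), n ∈ Set.range (orderOf : F j → ℕ) ↔
      (n = 1 ∨ n = p j 0 ∨ n = p j 1) := by
    intro j n
    rw [hF j, mem_iff]
  apply Set.Subset.antisymm
  · rintro _ ⟨x, rfl⟩
    have hc : ∀ j, orderOf (x j) = 1 ∨ orderOf (x j) = p j 0 ∨ orderOf (x j) = p j 1 :=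
      fun j => (hmem j _).1 ⟨x j, rfl⟩
    refine ⟨fun j => orderOf (x j), hc, ?_⟩
    apply orderOf_pi_eq_prod
    intro j j' hjj
    exact coprime_of_ne hp hinj hjj (hc j) (hc j')
  · rintro _ ⟨c, hc, rfl⟩
    have h1 : ∀ j, ∃ x : F j, orderOf x = c j := fun j => (hmem j _).2 (hc j)
    choose x hx using h1
    refine ⟨x, ?_⟩
    rw [orderOf_pi_eq_prod]
    · exact Finset.prod_congr rfl (fun j _ => hx j)
    · intro j j' hjj
      rw [hx j, hx j']
      exact coprime_of_ne hp hinj hjj (hc j) (hc j')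

theorem prime_mem_Om {s : ℕ} (p : Fin s → Fin 2 → ℕ) (j : Fin s) (i : Fin 2) :
    p j i ∈ Om s p := by
  classical
  refine ⟨fun j' => if j' = j then p j i else 1, ?_, ?_⟩
  · intro j'
    by_cases h : j' = j
    · subst h
      simp only [if_true]
      rcases fin_two_key i with ⟨h0, _⟩ | ⟨h0, _⟩
      · rw [h0]; tauto
      · rw [h0]; tauto
    · simp only [h, if_false]
      tauto
  · rw [Finset.prod_ite_eq' Finset.univ j (fun _ => p j i)]
    simp

/-- A finite group is critical with respect to a set Ω of natural numbers when its set of element orders is Ω while no proper section H/N (H a subgroup, N normal in H, (H, N) ≠ (whole group, 1)) has Ω as its set of element orders. Let s ≥ 1 and let p(j,0), p(j,1) (j < s) be 2s pairwise distinct primes, and let Ω be the set of all products c(0)·…·c(s−1) with each c(j) ∈ {1, p(j,0), p(j,1)}. Then there are 2^s pairwise non-isomorphic finite groups critical with respect to Ω. -/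
theorem result (s : ℕ) (hs : 1 ≤ s) (p : Fin s → Fin 2 → ℕ)
    (hp : ∀ j i, (p j i).Prime) (hinj : ∀ j i j' i', p j i = p j' i' → j = j' ∧ i = i') :
    ∃ (G : Fin (2 ^ s) → Type) (_ : ∀ a, Group (G a)) (_ : ∀ a, Fintype (G a)),
      (∀ a b, a ≠ b → ¬ Nonempty (G a ≃* G b)) ∧
      ∀ a, Set.range (orderOf : (G a) → ℕ) = {m : ℕ | ∃ c : Fin s → ℕ, (∀ j, c j = 1 ∨ c j = p j 0 ∨ c j = p j 1) ∧ m = ∏ j, c j} ∧
      ∀ (H : Subgroup (G a)) (N : Subgroup ↥H) [N.Normal], (H ≠ ⊤ ∨ N ≠ ⊥) → Set.range (orderOf : (↥H ⧸ N) → ℕ) ≠ {m : ℕ | ∃ c : Fin s → ℕ, (∀ j, c j = 1 ∨ c j = p j 0 ∨ c j = p j 1) ∧ m = ∏ j, c j} := by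
  classical
  have hF : ∀ (j : Fin s) (i : Fin 2), ∃ (F : Type) (_ : Group F) (_ : Finite F),
      Set.range (orderOf : F → ℕ) = {1, p j i, p j (1 - i)} ∧ PClosed (p j i) F := by
    intro j i
    apply exists_frob _ _ (hp j i) (hp j (1 - i))
    intro h
    have h2 := (hinj _ _ _ _ h).2
    rcases fin_two_key i with ⟨h0, h1⟩ | ⟨h0, h1⟩
    · rw [h1, h0] at h2
      exact absurd h2 (by decide)
    · rw [h1, h0] at h2
      exact absurd h2 (by decide)
  choose F instG instF hFspec hFpc using hF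
  have hZ : ∀ α : Fin s → Fin 2, ∃ (Z : Type) (_ : Group Z) (_ : Finite Z),
      (∀ j, PClosed (p j (α j)) Z) ∧ Set.range (orderOf : Z → ℕ) = Om s p ∧
      ∀ (H : Subgroup Z) (N : Subgroup H) [N.Normal], (H ≠ ⊤ ∨ N ≠ ⊥) →
        Set.range (orderOf : (H ⧸ N) → ℕ) ≠ Om s p := by
    intro α
    apply exists_critical (Om s p) (fun Z _ => ∀ j, PClosed (p j (α j)) Z) ?_
      (∀ j, F j (α j)) ?_ ?_
    · intro Z _ _ H N _ hZ j
      exact (hZ j).section (hp j (α j)) H N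
    · intro j
      apply PClosed.pi
      intro j'
      by_cases hjj : j' = j
      · subst hjj
        exact hFpc j' (α j')
      · apply PClosed.of_coprime_orderOf
        intro x
        have h1 : orderOf x ∈ Set.range (orderOf : F j' (α j') → ℕ) := ⟨x, rfl⟩
        rw [hFspec, mem_iff] at h1
        refine coprime_of_ne hp hinj hjj h1 ?_
        rcases fin_two_key (α j) with ⟨h0, _⟩ | ⟨h0, _⟩
        · rw [h0]; tauto
        · rw [h0]; tauto
    · exact spec_pi hp hinj (fun j => F j (α j)) α (fun j => hFspec j (α j))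
  choose Z instZG instZF hZpc hZspec hZcrit using hZ
  let e : Fin (2 ^ s) ≃ (Fin s → Fin 2) := finFunctionFinEquiv.symm
  refine ⟨fun a => Z (e a), fun a => instZG (e a),
    fun a => @Fintype.ofFinite _ (instZF (e a)), ?_, ?_⟩
  · rintro a b hab ⟨φ⟩
    have hne : e a ≠ e b := fun h => hab (e.injective h)
    obtain ⟨j, hj⟩ := Function.ne_iff.1 hne
    have h1 : PClosed (p j (e a j)) (Z (e a)) := hZpc (e a) j
    have h2 : PClosed (p j (e b j)) (Z (e a)) :=
      (hZpc (e b) j).of_surjective (hp _ _) φ.symm.toMonoidHom φ.symm.surjective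
    obtain ⟨x, hx⟩ : p j (e a j) ∈ Set.range (orderOf : Z (e a) → ℕ) := by
      rw [hZspec]; exact prime_mem_Om p j _
    obtain ⟨y, hy⟩ : p j (e b j) ∈ Set.range (orderOf : Z (e a) → ℕ) := by
      rw [hZspec]; exact prime_mem_Om p j _
    have hcop : Nat.Coprime (p j (e a j)) (p j (e b j)) :=
      (Nat.coprime_primes (hp _ _) (hp _ _)).2 (fun h => hj (hinj _ _ _ _ h).2)
    have hcomm : Commute x y :=
      PClosed.commute hcop h1 h2 (isPElem_of_orderOf_eq hx) (isPElem_of_orderOf_eq hy)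
    have hxy : orderOf (x * y) = p j (e a j) * p j (e b j) := by
      rw [hcomm.orderOf_mul_eq_mul_orderOf_of_coprime (by rw [hx, hy]; exact hcop), hx, hy]
    have hmem : p j (e a j) * p j (e b j) ∈ Om s p := by
      rw [← hZspec (e a), ← hxy]
      exact ⟨_, rfl⟩
    obtain ⟨c, hc, hm⟩ := hmem
    have e1 := c_eq_of_dvd hp hinj c hc j (e a j) (hm ▸ dvd_mul_right _ _)
    have e2 := c_eq_of_dvd hp hinj c hc j (e b j) (hm ▸ dvd_mul_left _ _)
    exact hj (hinj _ _ _ _ (e1.symm.trans e2)).2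
  · intro a
    exact ⟨hZspec (e a), hZcrit (e a)⟩

end Cfsg.Agent.S3599
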