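import Cfsg.Statements.S3619

set_option autoImplicit false
open Cfsg

namespace Cfsg.Agent.S3619

open MulAction SubMulAction
open scoped Pointwise

/-- A quasiprimitive group with a Jordan set on which the pointwise stabilizer of the complement
acts primitively is primitive. -/
theorem isPreprimitive_of_jordan {G Ω : Type*} [Group G] [MulAction G Ω] [Finite Ω]
    (hqp : ∀ N : Subgroup G, N.Normal → N ≠ ⊥ → MulAction.IsPretransitive ↥N Ω)
    (Γ : Set Ω) (hΓ1 : 1 < Γ.ncard)
    (hJp : MulAction.IsPreprimitive ↥(fixingSubgroup G Γᶜ) ↥(SubMulAction.ofFixingSubgroup G Γᶜ)) :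
    MulAction.IsPreprimitive G Ω := by
  classical
  -- two distinct points of Γ
  obtain ⟨x, hx, y, hy, hxy⟩ := (Set.one_lt_ncard (Set.toFinite Γ)).mp hΓ1
  have hxm : x ∈ SubMulAction.ofFixingSubgroup G Γᶜ := by
    rw [mem_ofFixingSubgroup_iff]; simpa using hx
  have hym : y ∈ SubMulAction.ofFixingSubgroup G Γᶜ := by
    rw [mem_ofFixingSubgroup_iff]; simpa using hy
  -- an element of H moving x to y
  have hJ : MulAction.IsPretransitive ↥(fixingSubgroup G Γᶜ)
      ↥(SubMulAction.ofFixingSubgroup G Γᶜ) := hJp.toIsPretransitive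
  obtain ⟨h0, hh0⟩ := hJ.exists_smul_eq ⟨x, hxm⟩ ⟨y, hym⟩
  have hh0' : (h0 : G) • x = y := by
    exact congrArg Subtype.val hh0
  have hh0ne : (h0 : G) ≠ 1 := by
    intro h1
    rw [h1, one_smul] at hh0'
    exact hxy hh0'
  have hGnt : (⊤ : Subgroup G) ≠ ⊥ := by
    intro h
    have : (h0 : G) ∈ (⊥ : Subgroup G) := by rw [← h]; trivial
    exact hh0ne (Subgroup.mem_bot.mp this)
  have htop := hqp ⊤ inferInstance hGnt
  have htrans : MulAction.IsPretransitive G Ω := by
    constructor
    intro a b
    obtain ⟨g, hg⟩ := htop.exists_smul_eq a b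
    exact ⟨(g : G), hg⟩
  refine { toIsPretransitive := htrans, isTrivialBlock_of_isBlock := ?_ }
  intro B hB
  by_contra hBt
  have hBns : ¬ B.Subsingleton := fun h => hBt (Or.inl h)
  have hBnu : B ≠ Set.univ := fun h => hBt (Or.inr h)
  -- the kernel of the action on the translates of B
  have hKbot : (stabilizer G B).normalCore = ⊥ := by
    by_contra hK
    have hKt := hqp _ (Subgroup.normalCore_normal _) hK
    apply hBnu
    obtain ⟨b, hb⟩ : B.Nonempty := by
      by_contra hne
      rw [Set.not_nonempty_iff_eq_empty] at hne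
      exact hBns (hne ▸ Set.subsingleton_empty)
    ext z
    simp only [Set.mem_univ, iff_true]
    obtain ⟨k, hk⟩ := hKt.exists_smul_eq b z
    have hkB : (k : G) ∈ stabilizer G B := Subgroup.normalCore_le _ k.2
    rw [mem_stabilizer_iff] at hkB
    rw [← hkB]
    exact ⟨b, hb, hk⟩
  -- every element of H fixes every translate of B
  have hfix : ∀ h ∈ fixingSubgroup G Γᶜ, ∀ g : G, h • (g • B) = g • B := by
    intro h hh g
    have hB' : IsBlock G (g • B) := hB.translate g
    by_cases hsub : g • B ⊆ Γ
    · -- the translate lies inside Γ: it is a block for H, hence everything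
      have hblk : IsBlock ↥(fixingSubgroup G Γᶜ)
          ((ofFixingSubgroup_equivariantMap G Γᶜ) ⁻¹' (g • B)) :=
        hB'.preimage (ofFixingSubgroup_equivariantMap G Γᶜ)
      have htriv := hJp.isTrivialBlock_of_isBlock hblk
      have hns : ¬ ((ofFixingSubgroup_equivariantMap G Γᶜ) ⁻¹' (g • B)).Subsingleton := by
        intro hs
        apply hBns
        intro u hu v hv
        have hgu : g • u ∈ g • B := Set.smul_mem_smul_set hu
        have hgv : g • v ∈ g • B := Set.smul_mem_smul_set hv
        have hgum : g • u ∈ SubMulAction.ofFixingSubgroup G Γᶜ := by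
          rw [mem_ofFixingSubgroup_iff]; simpa using hsub hgu
        have hgvm : g • v ∈ SubMulAction.ofFixingSubgroup G Γᶜ := by
          rw [mem_ofFixingSubgroup_iff]; simpa using hsub hgv
        have hum : (⟨g • u, hgum⟩ : ↥(SubMulAction.ofFixingSubgroup G Γᶜ)) ∈
            (ofFixingSubgroup_equivariantMap G Γᶜ) ⁻¹' (g • B) := hgu
        have hvm : (⟨g • v, hgvm⟩ : ↥(SubMulAction.ofFixingSubgroup G Γᶜ)) ∈
            (ofFixingSubgroup_equivariantMap G Γᶜ) ⁻¹' (g • B) := hgv
        have := hs hum hvm
        have h2 : g • u = g • v := congrArg Subtype.val this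
        exact smul_left_cancel g h2
      have huniv : (ofFixingSubgroup_equivariantMap G Γᶜ) ⁻¹' (g • B) = Set.univ :=
        htriv.resolve_left hns
      have hΓsub : Γ ⊆ g • B := by
        intro z hz
        have hzm : z ∈ SubMulAction.ofFixingSubgroup G Γᶜ := by
          rw [mem_ofFixingSubgroup_iff]; simpa using hz
        have : (⟨z, hzm⟩ : ↥(SubMulAction.ofFixingSubgroup G Γᶜ)) ∈
            (ofFixingSubgroup_equivariantMap G Γᶜ) ⁻¹' (g • B) := by
          rw [huniv]; trivial
        exact this
      have hEq : g • B = Γ := Set.Subset.antisymm hsub hΓsub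
      -- some point of Γ is moved by h into Γ
      have hxΓ : x ∈ g • B := hEq ▸ hx
      have hhx : h • x ∈ g • B := by
        rw [hEq]
        by_contra hnot
        have hfixed : h⁻¹ • (h • x) = h • x := by
          have hinv : h⁻¹ ∈ fixingSubgroup G Γᶜ := Subgroup.inv_mem _ hh
          exact (mem_fixingSubgroup_iff G).mp hinv (h • x) hnot
        rw [inv_smul_smul] at hfixed
        exact hnot (hfixed ▸ hx)
      exact hB'.smul_eq_of_mem hxΓ hhx
    · -- the translate has a point outside Γ, fixed by h
      obtain ⟨δ, hδB, hδΓ⟩ := Set.not_subset.mp hsub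
      have hδfix : h • δ = δ := (mem_fixingSubgroup_iff G).mp hh δ hδΓ
      exact hB'.smul_eq_of_mem hδB (hδfix.symm ▸ hδB)
  -- hence H lies in the kernel, which is trivial
  have hmem : (h0 : G) ∈ (stabilizer G B).normalCore := by
    intro g
    rw [mem_stabilizer_iff, mul_smul, mul_smul]
    rw [hfix (h0 : G) h0.2 (g⁻¹), smul_inv_smul]
  rw [hKbot] at hmem
  exact hh0ne (Subgroup.mem_bot.mp hmem)

/-- Let G act faithfully on a finite set in such a way that every non-trivial normal subgroup of G is transitive (G is quasiprimitive). Let Γ be a subset with more than one point and not the whole set, such that the pointwise stabilizer of the complement of Γ acts transitively on Γ (a Jordan set). If that pointwise stabilizer acts primitively on Γ, then G is k-fold transitive where k is one more than the number of points outside Γ (the Jordan set is a trivial one). -/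
theorem result {G Ω : Type*} [Group G] [Finite G] [MulAction G Ω] [FaithfulSMul G Ω] [Finite Ω]
    (hqp : ∀ N : Subgroup G, N.Normal → N ≠ ⊥ → MulAction.IsPretransitive ↥N Ω)
    (Γ : Set Ω) (hΓ1 : 1 < Γ.ncard) (hΓ2 : Γ.ncard < Nat.card Ω)
    (hJ : MulAction.IsPretransitive ↥(fixingSubgroup G Γᶜ) ↥(SubMulAction.ofFixingSubgroup G Γᶜ))
    (hJp : MulAction.IsPreprimitive ↥(fixingSubgroup G Γᶜ) ↥(SubMulAction.ofFixingSubgroup G Γᶜ)) :
    MulAction.IsMultiplyPretransitive G Ω (Nat.card Ω - Γ.ncard + 1) := by
  have hprim : MulAction.IsPreprimitive G Ω := isPreprimitive_of_jordan hqp Γ hΓ1 hJp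
  have hcard : Γ.ncard + Γᶜ.ncard = Nat.card Ω := Set.ncard_add_ncard_compl Γ
  obtain ⟨n, hn⟩ : ∃ n, Γᶜ.ncard = n + 1 := ⟨Γᶜ.ncard - 1, by omega⟩
  have hn2 : n + 2 < Nat.card Ω := by omega
  have hmp := hprim.isMultiplyPreprimitive hn hn2 hJp
  have heq : n + 2 = Nat.card Ω - Γ.ncard + 1 := by omega
  rw [← heq]
  exact hmp.isMultiplyPretransitive

end Cfsg.Agent.S3619
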