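import Mathlib
import Cfsg.Statements.S3633
import Cfsg.Agent.Lib.Helper65.Lucido
import Cfsg.Agent.Lib.Helper65.SolvableSup

set_option autoImplicit false
open Cfsg

namespace Cfsg.Agent.S3633

open Cfsg.Agent.Lib.Helper65

theorem aux {G : Type*} [Group G] [Finite G] (ρ : Finset ℕ) (hρ : 3 ≤ ρ.card)
    (hc1 : ∀ r ∈ ρ, r.Prime ∧ r ∣ Nat.card G)
    (hc2 : ∀ r ∈ ρ, ∀ s ∈ ρ, r ≠ s → ¬ ∃ x : G, orderOf x = r * s)
    (K : Subgroup G) [K.Normal] (hK : Group.IsSolvable ↥K) :
    ∀ r ∈ ρ, ∀ s ∈ ρ, r ∣ Nat.card ↥K → s ∣ Nat.card ↥K → r = s := by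
  classical
  intro r hr s hs hrK hsK
  by_contra hrs
  have h1 : 1 ≤ ((ρ.erase r).erase s).card := by
    rw [Finset.card_erase_of_mem (Finset.mem_erase.mpr ⟨Ne.symm hrs, hs⟩),
      Finset.card_erase_of_mem hr]
    omega
  obtain ⟨t, ht⟩ := Finset.card_pos.mp h1
  have hts : t ≠ s := Finset.ne_of_mem_erase ht
  have ht' := Finset.mem_of_mem_erase ht
  have htr : t ≠ r := Finset.ne_of_mem_erase ht'
  have htρ : t ∈ ρ := Finset.mem_of_mem_erase ht'
  have : Fact t.Prime := ⟨(hc1 t htρ).1⟩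
  obtain ⟨y, hy⟩ := exists_prime_orderOf_dvd_card' t (hc1 t htρ).2
  have hLE : Subgroup.zpowers y ≤ Subgroup.normalizer (K : Set G) := by
    rw [Subgroup.normalizer_eq_top]
    exact le_top
  have hsz := isSolvable_zpowers y
  have hsL : Group.IsSolvable ↥(Subgroup.zpowers y ⊔ K) :=
    isSolvable_sup_of_le_normalizer _ _ hLE
  have hsub : ∀ q ∈ ({r, s, t} : Finset ℕ), q ∈ ρ := by
    intro q hq
    simp only [Finset.mem_insert, Finset.mem_singleton] at hq
    rcases hq with rfl | rfl | rfl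
    · exact hr
    · exact hs
    · exact htρ
  have hKL : Nat.card ↥K ∣ Nat.card ↥(Subgroup.zpowers y ⊔ K) :=
    Subgroup.card_dvd_of_le le_sup_right
  have hyL : t ∣ Nat.card ↥(Subgroup.zpowers y ⊔ K) := by
    have h2 : Nat.card ↥(Subgroup.zpowers y) ∣ Nat.card ↥(Subgroup.zpowers y ⊔ K) :=
      Subgroup.card_dvd_of_le le_sup_left
    rwa [Nat.card_zpowers, hy] at h2
  have hle := solvable_coclique_card_le_two ↥(Subgroup.zpowers y ⊔ K) {r, s, t} ?_ ?_
  · have hc3 : ({r, s, t} : Finset ℕ).card = 3 := by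
      rw [Finset.card_insert_of_notMem, Finset.card_insert_of_notMem, Finset.card_singleton]
      · simp only [Finset.mem_singleton]
        exact fun h => hts h.symm
      · simp only [Finset.mem_insert, Finset.mem_singleton, not_or]
        exact ⟨hrs, fun h => htr h.symm⟩
    omega
  · intro q hq
    refine ⟨(hc1 q (hsub q hq)).1, ?_⟩
    simp only [Finset.mem_insert, Finset.mem_singleton] at hq
    rcases hq with rfl | rfl | rfl
    · exact hrK.trans hKL
    · exact hsK.trans hKL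
    · exact hyL
  · intro q1 hq1 q2 hq2 hne ⟨x, hx⟩
    exact hc2 q1 (hsub q1 hq1) q2 (hsub q2 hq2) hne ⟨(x : G), by rw [Subgroup.orderOf_coe, hx]⟩

/-- Let G be a finite group and ρ a set of at least three prime divisors of the order of G that are pairwise non-adjacent in the prime graph (no element of order rs for distinct r, s ∈ ρ). Then at most one prime of ρ divides the order of any given solvable normal subgroup of G; in particular G is not solvable. -/
theorem result {G : Type*} [Group G] [Finite G] (ρ : Finset ℕ) (hρ : 3 ≤ ρ.card) (hc : ((∀ r ∈ ρ, r.Prime ∧ r ∣ Nat.card G) ∧ (∀ r ∈ ρ, ∀ s ∈ ρ, r ≠ s → ¬ ∃ x : G, orderOf x = r * s)))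
    (K : Subgroup G) [K.Normal] (hK : Group.IsSolvable ↥K) :
    (∀ r ∈ ρ, ∀ s ∈ ρ, r ∣ Nat.card ↥K → s ∣ Nat.card ↥K → r = s) ∧ ¬ Group.IsSolvable G := by
  refine ⟨aux ρ hρ hc.1 hc.2 K hK, ?_⟩
  intro hG
  have htop : Group.IsSolvable ↥(⊤ : Subgroup G) := inferInstance
  have h := aux ρ hρ hc.1 hc.2 ⊤ htop
  have hle : ρ.card ≤ 1 := by
    rw [Finset.card_le_one]
    intro a ha b hb
    apply h a ha b hb
    · rw [Subgroup.card_top]; exact (hc.1 a ha).2
    · rw [Subgroup.card_top]; exact (hc.1 b hb).2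
  omega

end Cfsg.Agent.S3633
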