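import Mathlib
import Cfsg.Statements.S3634
import Cfsg.Agent.Lib.Helper65.Lucido
import Cfsg.Agent.Lib.Helper65.SolvableSup
import Cfsg.Agent.Lib.Helper65.Frattini

set_option autoImplicit false
open Cfsg

namespace Cfsg.Agent.S3634

open Cfsg.Agent.Lib.Helper65

/-- Let G be a finite group with normal subgroups K ≤ M, and let p, q, r be distinct primes with p dividing the order of K, q dividing the order of M/K and r dividing the order of G/M. Then p, q, r are not pairwise non-adjacent in the prime graph of G: G has an element of order pq, pr or qr. -/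
theorem result {G : Type*} [Group G] [Finite G] (K M : Subgroup G) [K.Normal] [M.Normal] (hKM : K ≤ M)
    (p q r : ℕ) (hp : p.Prime) (hq : q.Prime) (hr : r.Prime) (hpq : p ≠ q) (hpr : p ≠ r) (hqr : q ≠ r)
    (hpK : p ∣ Nat.card ↥K) (hqM : q ∣ Nat.card ↥M / Nat.card ↥K) (hrG : r ∣ Nat.card G / Nat.card ↥M) :
    (∃ x : G, orderOf x = p * q) ∨ (∃ x : G, orderOf x = p * r) ∨ (∃ x : G, orderOf x = q * r) := by
  classical
  by_contra hno
  have hFp : Fact p.Prime := ⟨hp⟩
  have hFq : Fact q.Prime := ⟨hq⟩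
  have hFr : Fact r.Prime := ⟨hr⟩
  -- rewrite the divisibility hypotheses with indices
  have hMidx : Nat.card G / Nat.card ↥M = M.index := by
    rw [← M.index_mul_card]
    exact Nat.mul_div_cancel _ Nat.card_pos
  have hKrel : Nat.card ↥M / Nat.card ↥K = K.relIndex M := by
    have h1 : Nat.card ↥(K.subgroupOf M) = Nat.card ↥K :=
      Nat.card_congr (Subgroup.subgroupOfEquivOfLe hKM).toEquiv
    have h2 := (K.subgroupOf M).index_mul_card
    rw [h1] at h2
    rw [← h2]
    exact Nat.mul_div_cancel _ Nat.card_pos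
  rw [hMidx] at hrG
  rw [hKrel] at hqM
  -- Step 1: Frattini for K
  obtain ⟨P, hPK, hPp, hPne, hPN⟩ := exists_pgroup_normalizer_sup_eq_top K p
  have hPne' : P ≠ ⊥ := hPne hpK
  have hN1M : Subgroup.normalizer (P : Set G) ⊔ M = ⊤ := by
    apply top_le_iff.mp
    rw [← hPN]
    exact sup_le_sup_left hKM _
  have hM1idx : (M.subgroupOf (Subgroup.normalizer (P : Set G))).index = M.index :=
    relIndex_eq_index_of_sup_eq_top _ M hN1M
  have hK1idx : (K.subgroupOf (Subgroup.normalizer (P : Set G))).index = K.index :=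
    relIndex_eq_index_of_sup_eq_top _ K hPN
  have hK1M1 : K.subgroupOf (Subgroup.normalizer (P : Set G)) ≤
      M.subgroupOf (Subgroup.normalizer (P : Set G)) := Subgroup.comap_mono hKM
  have hrel : (K.subgroupOf (Subgroup.normalizer (P : Set G))).relIndex
      (M.subgroupOf (Subgroup.normalizer (P : Set G))) = K.relIndex M := by
    have e1 := Subgroup.relIndex_mul_index hK1M1
    have e2 := Subgroup.relIndex_mul_index hKM
    rw [hM1idx, hK1idx, ← e2] at e1
    exact Nat.eq_of_mul_eq_mul_right (Nat.pos_of_ne_zero Subgroup.index_ne_zero_of_finite) e1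
  have hqM1 : q ∣ Nat.card ↥(M.subgroupOf (Subgroup.normalizer (P : Set G))) := by
    rw [← hrel] at hqM
    exact hqM.trans (Subgroup.relIndex_dvd_card _ _)
  -- Step 2: Frattini for M ∩ N(P) inside N(P)
  obtain ⟨Q1, hQM, hQq, hQne, hQN⟩ :=
    exists_pgroup_normalizer_sup_eq_top (M.subgroupOf (Subgroup.normalizer (P : Set G))) q
  have hQne' : Q1 ≠ ⊥ := hQne hqM1
  have hrN2 : r ∣ Nat.card ↥(Subgroup.normalizer (Q1 : Set ↥(Subgroup.normalizer (P : Set G)))) := by
    have h1 := relIndex_eq_index_of_sup_eq_top _ _ hQN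
    rw [hM1idx] at h1
    rw [← h1] at hrG
    exact hrG.trans (Subgroup.relIndex_dvd_card _ _)
  obtain ⟨x1, hx1⟩ := exists_prime_orderOf_dvd_card' r hrN2
  have hx : orderOf (x1 : ↥(Subgroup.normalizer (P : Set G))) = r := by
    rw [Subgroup.orderOf_coe, hx1]
  -- Step 3: the normal p-subgroup
  have hP1n : (P.subgroupOf (Subgroup.normalizer (P : Set G))).Normal :=
    Subgroup.normal_in_normalizer
  have hP1p : IsPGroup p ↥(P.subgroupOf (Subgroup.normalizer (P : Set G))) :=
    hPp.comap_subtype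
  have hP1card : Nat.card ↥(P.subgroupOf (Subgroup.normalizer (P : Set G))) = Nat.card ↥P :=
    Nat.card_congr (Subgroup.subgroupOfEquivOfLe Subgroup.le_normalizer).toEquiv
  -- Step 4: the solvable subgroup
  have hs1 : Group.IsSolvable ↥(Subgroup.zpowers (x1 : ↥(Subgroup.normalizer (P : Set G)))) :=
    isSolvable_zpowers _
  have hs2 : Group.IsSolvable ↥Q1 := isSolvable_of_isPGroup hq hQq
  have hs3 : Group.IsSolvable ↥(P.subgroupOf (Subgroup.normalizer (P : Set G))) :=
    isSolvable_of_isPGroup hp hP1p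
  have hLE1 : Subgroup.zpowers (x1 : ↥(Subgroup.normalizer (P : Set G))) ≤
      Subgroup.normalizer (Q1 : Set ↥(Subgroup.normalizer (P : Set G))) := by
    rw [Subgroup.zpowers_le]
    exact x1.2
  have hs4 : Group.IsSolvable
      ↥(Subgroup.zpowers (x1 : ↥(Subgroup.normalizer (P : Set G))) ⊔ Q1) :=
    isSolvable_sup_of_le_normalizer _ _ hLE1
  have hLE2 : Subgroup.zpowers (x1 : ↥(Subgroup.normalizer (P : Set G))) ⊔ Q1 ≤
      Subgroup.normalizer
        ((P.subgroupOf (Subgroup.normalizer (P : Set G)) :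
          Subgroup ↥(Subgroup.normalizer (P : Set G))) :
          Set ↥(Subgroup.normalizer (P : Set G))) := by
    have h := @Subgroup.normalizer_eq_top _ _ (P.subgroupOf (Subgroup.normalizer (P : Set G))) hP1n
    rw [h]
    exact le_top
  have hs5 : Group.IsSolvable
      ↥((Subgroup.zpowers (x1 : ↥(Subgroup.normalizer (P : Set G))) ⊔ Q1) ⊔
        P.subgroupOf (Subgroup.normalizer (P : Set G))) :=
    isSolvable_sup_of_le_normalizer _ _ hLE2
  -- divisibility of the order of L
  have hpL : p ∣ Nat.card ↥((Subgroup.zpowers (x1 : ↥(Subgroup.normalizer (P : Set G))) ⊔ Q1) ⊔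
        P.subgroupOf (Subgroup.normalizer (P : Set G))) := by
    have h1 : p ∣ Nat.card ↥P := dvd_card_of_isPGroup_ne_bot hp P hPp hPne'
    rw [← hP1card] at h1
    exact h1.trans (Subgroup.card_dvd_of_le le_sup_right)
  have hqL : q ∣ Nat.card ↥((Subgroup.zpowers (x1 : ↥(Subgroup.normalizer (P : Set G))) ⊔ Q1) ⊔
        P.subgroupOf (Subgroup.normalizer (P : Set G))) := by
    have h1 : q ∣ Nat.card ↥Q1 := dvd_card_of_isPGroup_ne_bot hq Q1 hQq hQne'
    exact h1.trans (Subgroup.card_dvd_of_le (le_sup_right.trans le_sup_left))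
  have hrL : r ∣ Nat.card ↥((Subgroup.zpowers (x1 : ↥(Subgroup.normalizer (P : Set G))) ⊔ Q1) ⊔
        P.subgroupOf (Subgroup.normalizer (P : Set G))) := by
    have h1 : Nat.card ↥(Subgroup.zpowers (x1 : ↥(Subgroup.normalizer (P : Set G)))) = r := by
      rw [Nat.card_zpowers, hx]
    rw [← h1]
    exact Subgroup.card_dvd_of_le (le_sup_left.trans le_sup_left)
  -- Step 5: Lucido's lemma
  have hle := solvable_coclique_card_le_two
    ↥((Subgroup.zpowers (x1 : ↥(Subgroup.normalizer (P : Set G))) ⊔ Q1) ⊔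
        P.subgroupOf (Subgroup.normalizer (P : Set G))) {p, q, r} ?_ ?_
  · have hc3 : ({p, q, r} : Finset ℕ).card = 3 := by
      rw [Finset.card_insert_of_notMem, Finset.card_insert_of_notMem, Finset.card_singleton]
      · simp only [Finset.mem_singleton]
        exact hqr
      · simp only [Finset.mem_insert, Finset.mem_singleton, not_or]
        exact ⟨hpq, hpr⟩
    omega
  · intro t ht
    simp only [Finset.mem_insert, Finset.mem_singleton] at ht
    rcases ht with rfl | rfl | rfl
    · exact ⟨hp, hpL⟩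
    · exact ⟨hq, hqL⟩
    · exact ⟨hr, hrL⟩
  · intro t1 ht1 t2 ht2 hne ⟨z, hz⟩
    have hzG : orderOf (((z : ↥(Subgroup.normalizer (P : Set G))) : G)) = t1 * t2 := by
      rw [Subgroup.orderOf_coe, Subgroup.orderOf_coe, hz]
    simp only [Finset.mem_insert, Finset.mem_singleton] at ht1 ht2
    rcases ht1 with rfl | rfl | rfl <;> rcases ht2 with rfl | rfl | rfl
    · exact hne rfl
    · exact hno (Or.inl ⟨_, hzG⟩)
    · exact hno (Or.inr (Or.inl ⟨_, hzG⟩))
    · exact hno (Or.inl ⟨_, by rw [hzG, mul_comm]⟩)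
    · exact hne rfl
    · exact hno (Or.inr (Or.inr ⟨_, hzG⟩))
    · exact hno (Or.inr (Or.inl ⟨_, by rw [hzG, mul_comm]⟩))
    · exact hno (Or.inr (Or.inr ⟨_, by rw [hzG, mul_comm]⟩))
    · exact hne rfl

end Cfsg.Agent.S3634
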