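import Cfsg.Statements.S3639
import Cfsg.Agent.Lib.Helper09.SuzukiPrimeGraph

set_option autoImplicit false
open Cfsg

namespace Cfsg.Agent.S3639

/-- Let S be the Suzuki group over the field with q = 2^(2m+1) ≥ 8 elements. Then there are finite groups of arbitrarily large order with the same prime graph as S. -/
theorem result {F : Type*} [Field F] [Fintype F] {m : ℕ} (hm : 1 ≤ m) (hF : Fintype.card F = 2 ^ (2 * m + 1)) (N : ℕ) :
    ∃ (H : Type) (_ : Group H) (_ : Fintype H), N < Fintype.card H ∧ ((∀ r : ℕ, r.Prime → (r ∣ Nat.card ↥(Cfsg.Lie.Sz F (2 ^ (m + 1))) ↔ r ∣ Nat.card H)) ∧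
      (∀ r s : ℕ, r.Prime → s.Prime → r ≠ s → ((∃ x : ↥(Cfsg.Lie.Sz F (2 ^ (m + 1))), orderOf x = r * s) ↔ (∃ y : H, orderOf y = r * s)))) := by
  open Cfsg.Agent.Lib.Helper09 in
  obtain ⟨H, hG, hFin, ⟨e⟩⟩ := exists_small_copy (SzExt F m N)
  refine ⟨H, hG, hFin, ?_, ?_, ?_⟩
  · rw [← Nat.card_eq_fintype_card, Nat.card_congr e.toEquiv, card_szExt hF]
    have h1 : N < 2 ^ N := Nat.lt_two_pow_self
    have h2 : 2 ^ N ≤ 2 ^ ((2 * m + 1) * 4 * N) :=
      Nat.pow_le_pow_right (by norm_num) (by nlinarith)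
    have h3 : 0 < Nat.card ↥(Cfsg.Sz F m) := Nat.card_pos
    nlinarith
  · intro r hr
    rw [Nat.card_congr e.toEquiv, ← szExt_prime_dvd hm hF N hr,
      Nat.card_congr (lieEquiv hm hF).toEquiv]
  · intro r s hr hs hrs
    constructor
    · rintro ⟨x, hx⟩
      obtain ⟨y, hy⟩ := (szExt_order hm hF N hr hs hrs).1
        ⟨(lieEquiv hm hF).symm x, by rw [MulEquiv.orderOf_eq, hx]⟩
      exact ⟨e.symm y, by rw [MulEquiv.orderOf_eq, hy]⟩
    · rintro ⟨y, hy⟩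
      obtain ⟨x, hx⟩ := (szExt_order hm hF N hr hs hrs).2
        ⟨e y, by rw [MulEquiv.orderOf_eq, hy]⟩
      exact ⟨lieEquiv hm hF x, by rw [MulEquiv.orderOf_eq, hx]⟩

end Cfsg.Agent.S3639
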