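import Mathlib
import Cfsg.Statements.S3660

set_option autoImplicit false
open Cfsg

namespace Cfsg.Agent.S3660

open Matrix SemidirectProduct

abbrev SL2 (F : Type*) [Field F] := Matrix.SpecialLinearGroup (Fin 2) F

abbrev Mod (F : Type*) (k : ℕ) := Fin k → Fin 2 → F

theorem mulVec_inv_mulVec {F : Type*} [Field F] (A : SL2 F) (x : Fin 2 → F) :
    ((A⁻¹ : SL2 F) : Matrix (Fin 2) (Fin 2) F).mulVec
      ((A : Matrix (Fin 2) (Fin 2) F).mulVec x) = x := by
  rw [Matrix.mulVec_mulVec, ← Matrix.SpecialLinearGroup.coe_mul, inv_mul_cancel]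
  simp

theorem mulVec_mulVec_inv {F : Type*} [Field F] (A : SL2 F) (x : Fin 2 → F) :
    (A : Matrix (Fin 2) (Fin 2) F).mulVec
      (((A⁻¹ : SL2 F) : Matrix (Fin 2) (Fin 2) F).mulVec x) = x := by
  rw [Matrix.mulVec_mulVec, ← Matrix.SpecialLinearGroup.coe_mul, mul_inv_cancel]
  simp

/-- The action of `SL2 F` on `k` copies of the natural module, as multiplicative automorphisms. -/
def act (F : Type*) [Field F] (k : ℕ) : SL2 F →* MulAut (Multiplicative (Mod F k)) where
  toFun A :=
    { toFun := fun v => Multiplicative.ofAdd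
        (fun i => (A : Matrix (Fin 2) (Fin 2) F).mulVec (Multiplicative.toAdd v i))
      invFun := fun v => Multiplicative.ofAdd
        (fun i => ((A⁻¹ : SL2 F) : Matrix (Fin 2) (Fin 2) F).mulVec (Multiplicative.toAdd v i))
      left_inv := by
        intro v
        apply Multiplicative.toAdd.injective
        funext i
        exact mulVec_inv_mulVec A _
      right_inv := by
        intro v
        apply Multiplicative.toAdd.injective
        funext i
        exact mulVec_mulVec_inv A _
      map_mul' := by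
        intro v w
        apply Multiplicative.toAdd.injective
        funext i
        exact Matrix.mulVec_add (A : Matrix (Fin 2) (Fin 2) F)
          (Multiplicative.toAdd v i) (Multiplicative.toAdd w i) }
  map_one' := by
    apply MulEquiv.ext
    intro v
    apply Multiplicative.toAdd.injective
    funext i
    exact Matrix.one_mulVec (Multiplicative.toAdd v i)
  map_mul' := by
    intro A B
    apply MulEquiv.ext
    intro v
    apply Multiplicative.toAdd.injective
    funext i
    exact (Matrix.mulVec_mulVec (Multiplicative.toAdd v i)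
      (A : Matrix (Fin 2) (Fin 2) F) (B : Matrix (Fin 2) (Fin 2) F)).symm

abbrev H0 (F : Type*) [Field F] (k : ℕ) := Multiplicative (Mod F k) ⋊[act F k] SL2 F

instance finite_H0 {F : Type*} [Field F] [Fintype F] (k : ℕ) : Finite (H0 F k) :=
  Finite.of_equiv _ (SemidirectProduct.equivProd (φ := act F k)).symm

theorem conj_of_isUnit {F : Type*} [Field F] (k : ℕ) (g : H0 F k)
    (h : IsUnit ((1 : Matrix (Fin 2) (Fin 2) F) - (g.right : Matrix (Fin 2) (Fin 2) F)).det) :
    ∃ c : H0 F k, g = c * inr g.right * c⁻¹ := by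
  set A := g.right with hA
  set M : Matrix (Fin 2) (Fin 2) F :=
    (1 : Matrix (Fin 2) (Fin 2) F) - (A : Matrix (Fin 2) (Fin 2) F) with hM
  let w : Multiplicative (Mod F k) :=
    Multiplicative.ofAdd (fun i => M⁻¹.mulVec (Multiplicative.toAdd g.left i))
  refine ⟨inl w, ?_⟩
  ext1
  · have h1 : (inl w * inr A * (inl w)⁻¹ : H0 F k).left = w * act F k A w⁻¹ := by
      simp [mul_left, inv_left]
    rw [h1]
    apply Multiplicative.toAdd.injective
    funext i
    show Multiplicative.toAdd g.left i =
      Multiplicative.toAdd w i +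
        (A : Matrix (Fin 2) (Fin 2) F).mulVec (- Multiplicative.toAdd w i)
    have hw : Multiplicative.toAdd w i = M⁻¹.mulVec (Multiplicative.toAdd g.left i) := rfl
    rw [hw, Matrix.mulVec_neg, ← sub_eq_add_neg]
    have : M.mulVec (M⁻¹.mulVec (Multiplicative.toAdd g.left i)) =
        Multiplicative.toAdd g.left i := by
      rw [Matrix.mulVec_mulVec, Matrix.mul_nonsing_inv M h, Matrix.one_mulVec]
    conv_lhs => rw [← this]
    rw [hM, Matrix.sub_mulVec, Matrix.one_mulVec]
  · simp [hA]

theorem orderOf_eq_of_isUnit {F : Type*} [Field F] (k : ℕ) (g : H0 F k)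
    (h : IsUnit ((1 : Matrix (Fin 2) (Fin 2) F) - (g.right : Matrix (Fin 2) (Fin 2) F)).det) :
    orderOf g = orderOf g.right := by
  obtain ⟨c, hc⟩ := conj_of_isUnit k g h
  have h1 : orderOf g = orderOf (inr g.right : H0 F k) := by
    conv_lhs => rw [hc]
    exact (MulAut.conj c).orderOf_eq (inr g.right)
  rw [h1]
  exact orderOf_injective (inr : SL2 F →* H0 F k) inr_injective g.right

/-- In characteristic two, an element of `SL2` with `det (1 - A) = 0` squares to one. -/
theorem sq_eq_one_of_det_eq_zero {F : Type*} [Field F] [CharP F 2] (A : SL2 F)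
    (h : ((1 : Matrix (Fin 2) (Fin 2) F) - (A : Matrix (Fin 2) (Fin 2) F)).det = 0) :
    A ^ 2 = 1 := by
  have h2 : (2 : F) = 0 := CharTwo.two_eq_zero
  have hdet : (A : Matrix (Fin 2) (Fin 2) F) 0 0 * (A : Matrix (Fin 2) (Fin 2) F) 1 1 -
      (A : Matrix (Fin 2) (Fin 2) F) 0 1 * (A : Matrix (Fin 2) (Fin 2) F) 1 0 = 1 := by
    have := A.det_coe
    rwa [Matrix.det_fin_two] at this
  rw [Matrix.det_fin_two] at h
  simp only [Matrix.sub_apply, Matrix.one_apply_eq, Matrix.one_apply_ne, ne_eq,
    Fin.isValue, zero_ne_one, one_ne_zero, not_false_eq_true, zero_sub] at h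
  apply Subtype.ext
  rw [Matrix.SpecialLinearGroup.coe_pow, Matrix.SpecialLinearGroup.coe_one, pow_two]
  generalize (A : Matrix (Fin 2) (Fin 2) F) = B at hdet h ⊢
  ext i j
  fin_cases i <;> fin_cases j
  · simp only [Fin.zero_eta, Fin.isValue, Matrix.mul_apply, Fin.sum_univ_two, Matrix.one_apply_eq]
    linear_combination (-1 + B 0 0) * hdet - B 0 0 * h + (B 0 0 - 1) * h2
  · simp only [Fin.zero_eta, Fin.isValue, Fin.mk_one, Matrix.mul_apply, Fin.sum_univ_two, ne_eq,
      zero_ne_one, not_false_eq_true, Matrix.one_apply_ne]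
    linear_combination B 0 1 * hdet - B 0 1 * h + B 0 1 * h2
  · simp only [Fin.zero_eta, Fin.isValue, Fin.mk_one, Matrix.mul_apply, Fin.sum_univ_two, ne_eq,
      one_ne_zero, not_false_eq_true, Matrix.one_apply_ne]
    linear_combination B 1 0 * hdet - B 1 0 * h + B 1 0 * h2
  · simp only [Fin.isValue, Fin.mk_one, Matrix.mul_apply, Fin.sum_univ_two, Matrix.one_apply_eq]
    linear_combination (-1 + B 1 1) * hdet - B 1 1 * h + (B 1 1 - 1) * h2

theorem mod_mul_self {F : Type*} [Field F] [CharP F 2] (k : ℕ) (v : Multiplicative (Mod F k)) :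
    v * v = 1 := by
  apply Multiplicative.toAdd.injective
  funext i j
  exact CharTwo.add_self_eq_zero _

theorem center_eq_bot {F : Type*} [Field F] [CharP F 2] :
    Subgroup.center (SL2 F) = ⊥ := by
  rw [eq_bot_iff]
  intro A hA
  rw [Matrix.SpecialLinearGroup.mem_center_iff] at hA
  obtain ⟨r, hr, hrA⟩ := hA
  rw [Subgroup.mem_bot]
  have hr1 : r = 1 := by
    simp only [Fintype.card_fin] at hr
    have h2 : (2 : F) = 0 := CharTwo.two_eq_zero
    have : (r - 1) ^ 2 = 0 := by linear_combination hr - r * h2 + h2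
    have := pow_eq_zero_iff (two_ne_zero) |>.mp this
    linear_combination this
  apply Subtype.ext
  rw [← hrA, hr1]
  simp

/-- In characteristic two, `PSL(2,F)` is isomorphic to `SL(2,F)`. -/
noncomputable def pslEquiv (F : Type*) [Field F] [CharP F 2] :
    Matrix.ProjectiveSpecialLinearGroup (Fin 2) F ≃* SL2 F :=
  (QuotientGroup.quotientMulEquivOfEq center_eq_bot).trans QuotientGroup.quotientBot

/-- An element of order two in `SL2 F` -/
def tElt (F : Type*) [Field F] : SL2 F :=
  ⟨!![1, 1; 0, 1], by simp [Matrix.det_fin_two]⟩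

theorem orderOf_tElt (F : Type*) [Field F] [CharP F 2] : orderOf (tElt F) = 2 := by
  have : Fact (Nat.Prime 2) := ⟨Nat.prime_two⟩
  apply orderOf_eq_prime
  · apply Subtype.ext
    rw [Matrix.SpecialLinearGroup.coe_pow, Matrix.SpecialLinearGroup.coe_one, pow_two]
    have h2 : (1 : F) + 1 = 0 := CharTwo.add_self_eq_zero 1
    ext i j
    fin_cases i <;> fin_cases j <;> simp [tElt, Matrix.mul_apply, Fin.sum_univ_two, h2]
  · intro h
    have := congrArg (fun A : SL2 F => (A : Matrix (Fin 2) (Fin 2) F) 0 1) h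
    simp [tElt] at this

theorem two_dvd_card_SL2 (F : Type*) [Field F] [Fintype F] [CharP F 2] :
    2 ∣ Nat.card (SL2 F) := by
  rw [← orderOf_tElt F]
  exact orderOf_dvd_natCard _

theorem prime_graph_H0 {F : Type*} [Field F] [Fintype F] [CharP F 2] (k : ℕ) :
    (∀ p : ℕ, p.Prime → (p ∣ Nat.card (SL2 F) ↔ p ∣ Nat.card (H0 F k))) ∧
    (∀ p q : ℕ, p.Prime → q.Prime → p ≠ q →
      ((∃ g : SL2 F, orderOf g = p * q) ↔ (∃ g : H0 F k, orderOf g = p * q))) := by
  constructor
  · intro p hp
    rw [SemidirectProduct.card]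
    constructor
    · intro h
      exact dvd_mul_of_dvd_right h _
    · intro h
      rcases (Nat.Prime.dvd_mul hp).mp h with h1 | h1
      · have : Fact p.Prime := ⟨hp⟩
        obtain ⟨x, hx⟩ := exists_prime_orderOf_dvd_card' p h1
        have hx2 : x ^ 2 = 1 := by rw [pow_two]; exact mod_mul_self k x
        have hp2 : p ∣ 2 := hx ▸ orderOf_dvd_of_pow_eq_one hx2
        have : p = 2 := (Nat.prime_dvd_prime_iff_eq hp Nat.prime_two).mp hp2
        rw [this]
        exact two_dvd_card_SL2 F
      · exact h1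
  · intro p q hp hq hpq
    constructor
    · rintro ⟨A, hA⟩
      exact ⟨inr A, by rw [orderOf_injective (inr : SL2 F →* H0 F k) inr_injective, hA]⟩
    · rintro ⟨g, hg⟩
      by_cases h : IsUnit
          ((1 : Matrix (Fin 2) (Fin 2) F) - (g.right : Matrix (Fin 2) (Fin 2) F)).det
      · exact ⟨g.right, by rw [← orderOf_eq_of_isUnit k g h, hg]⟩
      · exfalso
        rw [isUnit_iff_ne_zero, not_not] at h
        have hA2 : g.right ^ 2 = 1 := sq_eq_one_of_det_eq_zero _ h
        have h1 : (rightHom : H0 F k →* SL2 F) (g ^ 2) = 1 := by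
          rw [map_pow]
          exact hA2
        have h2 : g ^ 2 ∈ (inl : Multiplicative (Mod F k) →* H0 F k).range := by
          rw [range_inl_eq_ker_rightHom]
          exact h1
        obtain ⟨v, hv⟩ := h2
        have h4 : g ^ 4 = 1 := by
          have : g ^ 4 = g ^ 2 * g ^ 2 := by rw [← pow_add]
          rw [this, ← hv, ← map_mul, mod_mul_self, map_one]
        have hdvd : p * q ∣ 4 := hg ▸ orderOf_dvd_of_pow_eq_one h4
        have hp4 : p ∣ 2 ^ 2 := (dvd_mul_right p q).trans hdvd
        have hq4 : q ∣ 2 ^ 2 := (dvd_mul_left q p).trans hdvd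
        have hp2 : p = 2 :=
          (Nat.prime_dvd_prime_iff_eq hp Nat.prime_two).mp (hp.dvd_of_dvd_pow hp4)
        have hq2 : q = 2 :=
          (Nat.prime_dvd_prime_iff_eq hq Nat.prime_two).mp (hq.dvd_of_dvd_pow hq4)
        exact hpq (hp2.trans hq2.symm)

theorem exists_small_copy (H : Type*) [Group H] [Finite H] :
    ∃ (H' : Type) (_ : Group H') (_ : Finite H'), Nonempty (H' ≃* H) := by
  let e : Fin (Nat.card H) ≃ H := (Finite.equivFin H).symm
  exact ⟨Fin (Nat.card H), e.group, inferInstance, ⟨e.mulEquiv⟩⟩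

theorem card_H0_gt {F : Type*} [Field F] [Fintype F] (N : ℕ) : N < Nat.card (H0 F (N + 1)) := by
  have hinj : Function.Injective (fun i : Fin (N + 1) =>
      (inl (Multiplicative.ofAdd (Pi.single i (fun _ => (1 : F)))) : H0 F (N + 1))) := by
    intro i j hij
    have h1 := inl_injective hij
    have h2 := Multiplicative.ofAdd.injective h1
    by_contra hne
    have h3 := congrFun (congrFun h2 i) 0
    rw [Pi.single_eq_same, Pi.single_eq_of_ne hne] at h3
    exact one_ne_zero h3
  have h5 : Nat.card (Fin (N + 1)) ≤ Nat.card (H0 F (N + 1)) :=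
    Nat.card_le_card_of_injective _ hinj
  rw [Nat.card_fin] at h5
  exact h5

/-- The prime graph of a finite group has the prime divisors of its order as vertices, two distinct primes p, q being joined when the group has an element of order pq; two groups have the same prime graph when they have the same prime divisors and the same joined pairs. Let F be a finite field of characteristic 2 with at least 4 elements. Then there are finite groups of arbitrarily large order with the same prime graph as PSL(2,F); in particular PSL(2,F) is not determined by its prime graph. -/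
theorem result {F : Type*} [Field F] [Fintype F] [CharP F 2] (hF : 4 ≤ Fintype.card F) (N : ℕ) :
    ∃ (H : Type) (_ : Group H) (_ : Finite H), N < Nat.card H ∧
      ((∀ p : ℕ, p.Prime → (p ∣ Nat.card (Matrix.ProjectiveSpecialLinearGroup (Fin 2) F) ↔ p ∣ Nat.card H)) ∧
      (∀ p q : ℕ, p.Prime → q.Prime → p ≠ q → ((∃ g : (Matrix.ProjectiveSpecialLinearGroup (Fin 2) F), orderOf g = p * q) ↔ (∃ g : H, orderOf g = p * q)))) := by
  obtain ⟨H, hG, hfin, ⟨e⟩⟩ := exists_small_copy (H0 F (N + 1))
  refine ⟨H, hG, hfin, ?_, ?_, ?_⟩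
  · rw [Nat.card_congr e.toEquiv]
    exact card_H0_gt N
  · intro p hp
    rw [Nat.card_congr e.toEquiv, Nat.card_congr (pslEquiv F).toEquiv]
    exact (prime_graph_H0 (N + 1)).1 p hp
  · intro p q hp hq hpq
    constructor
    · rintro ⟨g, hg⟩
      obtain ⟨g', hg'⟩ := ((prime_graph_H0 (N + 1)).2 p q hp hq hpq).mp
        ⟨pslEquiv F g, by rw [MulEquiv.orderOf_eq, hg]⟩
      exact ⟨e.symm g', by rw [MulEquiv.orderOf_eq, hg']⟩
    · rintro ⟨g, hg⟩
      obtain ⟨g', hg'⟩ := ((prime_graph_H0 (N + 1)).2 p q hp hq hpq).mpr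
        ⟨e g, by rw [MulEquiv.orderOf_eq, hg]⟩
      exact ⟨(pslEquiv F).symm g', by rw [MulEquiv.orderOf_eq, hg']⟩

end Cfsg.Agent.S3660
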