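import Cfsg.Statements.S3669
import Mathlib
import Cfsg.Agent.S0169
import Cfsg.Agent.Lib.Helper83.CharBasic
import Cfsg.Agent.Lib.Helper62.Small120
import Cfsg.Agent.Lib.Helper07.Order60
import Cfsg.Agent.Lib.Helper65.Hall
import Cfsg.Agent.Lib.Helper65.A5Deg

set_option autoImplicit false
open Cfsg

namespace Cfsg.Agent.S3669

open Cfsg.Agent.Lib.Helper83 Cfsg.Agent.Lib.Helper65

/-- In a group of order 15 every Sylow 5-subgroup is normal. -/
theorem sylow_five_normal_of_card_fifteen {H : Type*} [Group H] [Finite H] (hH : Nat.card H = 15)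
    (P : Sylow 5 H) : (P : Subgroup H).Normal := by
  have : Fact (Nat.Prime 5) := ⟨Nat.prime_five⟩
  have h1 : Nat.card (Sylow 5 H) ≡ 1 [MOD 5] := card_sylow_modEq_one 5 H
  have h2 : Nat.card (Sylow 5 H) ∣ (P : Subgroup H).index := P.card_dvd_index
  have hP : Nat.card (P : Subgroup H) = 5 := by
    rw [P.card_eq_multiplicity, hH]
    have : (15 : ℕ).factorization 5 = 1 := by
      rw [show (15 : ℕ) = 5 * 3 by norm_num, Nat.factorization_mul (by norm_num) (by norm_num)]
      simp [Nat.Prime.factorization_self Nat.prime_five,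
        Nat.factorization_eq_zero_of_not_dvd (show ¬ 5 ∣ 3 by norm_num)]
    rw [this, pow_one]
  have hidx : (P : Subgroup H).index = 3 := by
    have := (P : Subgroup H).card_mul_index
    rw [hP, hH] at this
    omega
  rw [hidx] at h2
  have h3 : Nat.card (Sylow 5 H) = 1 := by
    have hle : Nat.card (Sylow 5 H) ≤ 3 := Nat.le_of_dvd (by norm_num) h2
    have hmod : Nat.card (Sylow 5 H) % 5 = 1 := h1
    have hpos : 0 < Nat.card (Sylow 5 H) := Nat.pos_of_dvd_of_pos h2 (by norm_num)
    omega
  rw [P.card_eq_index_normalizer, Subgroup.index_eq_one] at h3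
  exact Subgroup.normalizer_eq_top_iff.mp h3

/-- In a solvable group of order 60 the Sylow 5-subgroups are normal. -/
theorem sylow_five_normal_of_solvable {G : Type*} [Group G] [Finite G] (hcard : Nat.card G = 60)
    [Group.IsSolvable G] (P : Sylow 5 G) : (P : Subgroup G).Normal := by
  have : Fact (Nat.Prime 5) := ⟨Nat.prime_five⟩
  obtain ⟨H, hH1, hH2⟩ := exists_hall G ({3, 5} : Set ℕ)
  have hmul := H.card_mul_index
  rw [hcard] at hmul
  -- order of `H`
  have hcardH : Nat.card H = 15 ∧ H.index = 4 := by
    have hd1 : Nat.card H ∣ 60 := ⟨_, hmul.symm⟩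
    have hd2 : H.index ∣ 60 := ⟨_, by rw [mul_comm]; exact hmul.symm⟩
    have h2 : ¬ 2 ∣ Nat.card H := fun h => by
      have := hH1 2 Nat.prime_two h
      simp at this
    have h3 : ¬ 3 ∣ H.index := fun h => hH2 3 Nat.prime_three h (by simp)
    have h5 : ¬ 5 ∣ H.index := fun h => hH2 5 Nat.prime_five h (by simp)
    have hle : Nat.card H ≤ 60 := Nat.le_of_dvd (by norm_num) hd1
    have hpos : 0 < Nat.card H := Nat.card_pos
    generalize Nat.card H = a at *
    generalize H.index = b at *
    interval_cases a <;> omega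
  obtain ⟨hH15, hH4⟩ := hcardH
  -- a Sylow 5-subgroup of `H`, normal in `H`
  let Q : Sylow 5 H := default
  have hQn : (Q : Subgroup H).Normal := sylow_five_normal_of_card_fifteen hH15 Q
  have hQ5 : Nat.card (Q : Subgroup H) = 5 := by
    rw [Q.card_eq_multiplicity, hH15]
    have : (15 : ℕ).factorization 5 = 1 := by
      rw [show (15 : ℕ) = 5 * 3 by norm_num, Nat.factorization_mul (by norm_num) (by norm_num)]
      simp [Nat.Prime.factorization_self Nat.prime_five,
        Nat.factorization_eq_zero_of_not_dvd (show ¬ 5 ∣ 3 by norm_num)]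
    rw [this, pow_one]
  set Q' : Subgroup G := (Q : Subgroup H).map H.subtype with hQ'
  have hQ'5 : Nat.card Q' = 5 := by
    rw [hQ', Subgroup.card_map_of_injective H.subtype_injective, hQ5]
  have hfac : (60 : ℕ).factorization 5 = 1 := by
    rw [show (60 : ℕ) = 5 * 12 by norm_num, Nat.factorization_mul (by norm_num) (by norm_num)]
    simp [Nat.Prime.factorization_self Nat.prime_five,
      Nat.factorization_eq_zero_of_not_dvd (show ¬ 5 ∣ 12 by norm_num)]
  let P0 : Sylow 5 G := Sylow.ofCard Q' (by rw [hQ'5, hcard, hfac, pow_one])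
  have hP0 : (P0 : Subgroup G) = Q' := rfl
  have hHle : H ≤ Subgroup.normalizer ((P0 : Subgroup G) : Set G) := by
    rw [hP0, hQ']
    have h1 := Subgroup.le_normalizer_map (H := (Q : Subgroup H)) H.subtype
    rw [Subgroup.normalizer_eq_top_iff.mpr hQn] at h1
    have h2 : (⊤ : Subgroup H).map H.subtype = H := by
      rw [← MonoidHom.range_eq_map, Subgroup.range_subtype]
    rw [h2] at h1
    exact h1
  have hdvd : Nat.card (Sylow 5 G) ∣ 4 := by
    rw [P0.card_eq_index_normalizer, ← hH4]
    exact Subgroup.index_dvd_of_le hHle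
  have hmod : Nat.card (Sylow 5 G) % 5 = 1 := card_sylow_modEq_one 5 G
  have h1 : Nat.card (Sylow 5 G) = 1 := by
    have hle : Nat.card (Sylow 5 G) ≤ 4 := Nat.le_of_dvd (by norm_num) hdvd
    omega
  rw [P.card_eq_index_normalizer, Subgroup.index_eq_one] at h1
  exact Subgroup.normalizer_eq_top_iff.mp h1

/-- In a solvable group of order 60 no irreducible character degree is divisible by 5. -/
theorem not_five_dvd_of_solvable {G : Type*} [Group G] [Finite G] (hcard : Nat.card G = 60)
    [Group.IsSolvable G] (χ : IrrCharacter G) : ¬ 5 ∣ charDegree (χ : G → ℂ) := by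
  have : Fact (Nat.Prime 5) := ⟨Nat.prime_five⟩
  let P : Sylow 5 G := default
  have hPn : (P : Subgroup G).Normal := sylow_five_normal_of_solvable hcard P
  have hfac : (60 : ℕ).factorization 5 = 1 := by
    rw [show (60 : ℕ) = 5 * 12 by norm_num, Nat.factorization_mul (by norm_num) (by norm_num)]
    simp [Nat.Prime.factorization_self Nat.prime_five,
      Nat.factorization_eq_zero_of_not_dvd (show ¬ 5 ∣ 12 by norm_num)]
  have hP5 : Nat.card (P : Subgroup G) = 5 := by
    rw [P.card_eq_multiplicity, hcard, hfac, pow_one]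
  have hidx : (P : Subgroup G).index = 12 := by
    have := (P : Subgroup G).card_mul_index
    rw [hP5, hcard] at this
    omega
  have hcyc : IsCyclic (P : Subgroup G) := isCyclic_of_prime_card hP5
  have hcomm : ∀ a ∈ (P : Subgroup G), ∀ b ∈ (P : Subgroup G), a * b = b * a := by
    intro a ha b hb
    have := hcyc.isMulCommutative.is_comm.comm (⟨a, ha⟩ : (P : Subgroup G)) ⟨b, hb⟩
    exact congrArg Subtype.val this
  obtain ⟨n, ρ, hρ, hχ⟩ := χ.2
  have := hρ
  have h := Cfsg.Agent.S0169.result ρ (P : Subgroup G) hcomm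
  have hfin : Module.finrank ℂ (Fin n → ℂ) = n := by simp
  rw [hfin, hidx] at h
  have h1 : (charDegree (χ : G → ℂ) : ℂ) = (n : ℂ) := by
    rw [charDegree_cast (IrrCharacter_isCharacter χ), ← hχ, Representation.char_one]
    simp
  have h2 : charDegree (χ : G → ℂ) = n := by exact_mod_cast h1
  rw [h2]
  intro h5
  have : 5 ∣ 12 := dvd_trans h5 h
  omega

/-- The character degree graph of a finite group has as vertices the primes dividing some irreducible complex character degree, two distinct primes being joined when their product divides some irreducible character degree; two groups have the same character degree graph when they have the same vertices and the same joined pairs. A finite group of order 60 with the same character degree graph as the alternating group A₅ (whose character degrees are 1, 3, 4, 5, so the graph has vertices 2, 3, 5 and no edges) is isomorphic to A₅. -/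
theorem result {G : Type*} [Group G] [Finite G] (hcard : Nat.card G = 60)
    (hΓ : Cfsg.degreePrimes G = Cfsg.degreePrimes (alternatingGroup (Fin 5)) ∧ Cfsg.degreeGraph G = Cfsg.degreeGraph (alternatingGroup (Fin 5))) : Nonempty (G ≃* alternatingGroup (Fin 5)) := by
  have h5 : 5 ∈ Cfsg.degreePrimes G := by rw [hΓ.1]; exact five_mem_degreePrimes_a5
  obtain ⟨_, d, ⟨χ, rfl⟩, hdvd⟩ := h5
  have hns : ¬ Group.IsSolvable G := fun hs => by
    have := hs
    exact not_five_dvd_of_solvable hcard χ hdvd
  have := Cfsg.Agent.Lib.Helper62.Small120.isSimpleGroup_of_card_sixty hcard hns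
  exact Cfsg.Agent.Lib.Helper07.nonempty_mulEquiv_alternatingGroup_five_of_card_eq_sixty hcard

end Cfsg.Agent.S3669
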