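import Mathlib
import Cfsg.Statements.S3678

set_option autoImplicit false
open Cfsg

namespace Cfsg.Agent.S3678

open Polynomial Matrix

section CH

variable {R : Type*} [Field R]

/-- the characteristic polynomial of a `2 × 2` matrix of determinant one -/
noncomputable def chP (A : Matrix (Fin 2) (Fin 2) R) : R[X] := X ^ 2 - C A.trace * X + 1

theorem aeval_chP (A : Matrix (Fin 2) (Fin 2) R) (hdet : A.det = 1) : aeval A (chP A) = 0 := by
  have h := Matrix.aeval_self_charpoly A
  rwa [Matrix.charpoly_fin_two, hdet, map_one] at h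

theorem aeval_eq_zero_of_mk (A : Matrix (Fin 2) (Fin 2) R) (hdet : A.det = 1) (f : R[X])
    (h : AdjoinRoot.mk (chP A) f = 0) : aeval A f = 0 := by
  obtain ⟨Q, rfl⟩ := AdjoinRoot.mk_eq_zero.1 h
  rw [map_mul, aeval_chP A hdet, zero_mul]

/-- an identity `root ^ k = c` in the quotient ring gives `A ^ k = c` -/
theorem pow_eq_of_root (A : Matrix (Fin 2) (Fin 2) R) (hdet : A.det = 1) (k : ℕ) (c : R)
    (h : (AdjoinRoot.root (chP A)) ^ k = AdjoinRoot.of (chP A) c) :
    A ^ k = algebraMap R (Matrix (Fin 2) (Fin 2) R) c := by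
  have h1 := aeval_eq_zero_of_mk A hdet (X ^ k - C c) (by
    rw [map_sub, map_pow, AdjoinRoot.mk_X, AdjoinRoot.mk_C, h, sub_self])
  rw [map_sub, map_pow, aeval_X, aeval_C, sub_eq_zero] at h1
  exact h1

theorem root_rel (A : Matrix (Fin 2) (Fin 2) R) :
    (AdjoinRoot.root (chP A)) ^ 2
      = AdjoinRoot.of (chP A) A.trace * AdjoinRoot.root (chP A) - 1 := by
  have h : AdjoinRoot.mk (chP A) (X ^ 2 - C A.trace * X + 1) = 0 := AdjoinRoot.mk_self
  rw [map_add, map_sub, map_mul, map_pow, AdjoinRoot.mk_X, AdjoinRoot.mk_C, map_one] at h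
  linear_combination h

end CH

section Seven

variable {F : Type*} [Field F] [Fintype F]

theorem seven_eq_zero (hF : Fintype.card F = 7) : (7 : F) = 0 := by
  have h := Nat.cast_card_eq_zero F
  rw [hF] at h
  exact_mod_cast h

theorem cases_seven (hF : Fintype.card F = 7) (t : F) :
    t = 0 ∨ t = 1 ∨ t = 2 ∨ t = 3 ∨ t = 4 ∨ t = 5 ∨ t = 6 := by
  have h7 := seven_eq_zero hF
  have ht : t ^ 7 = t := by
    have := FiniteField.pow_card t
    rwa [hF] at this
  have key : t * (t - 1) * (t - 2) * (t - 3) * (t - 4) * (t - 5) * (t - 6) = 0 := by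
    linear_combination ht + (-3 * t ^ 6 + 25 * t ^ 5 - 105 * t ^ 4 + 232 * t ^ 3 - 252 * t ^ 2
      + 103 * t) * h7
  simp only [mul_eq_zero, sub_eq_zero] at key
  tauto

/-- in `SL(2, 7)` every element has a small power equal to `± 1` -/
theorem sl_seven (hF : Fintype.card F = 7) (A : Matrix (Fin 2) (Fin 2) F) (hdet : A.det = 1) :
    A ^ 2 = -1 ∨ A ^ 3 = -1 ∨ A ^ 3 = 1 ∨ A ^ 4 = -1 ∨ A ^ 7 = 1 ∨ A ^ 7 = -1 := by
  have h7 := seven_eq_zero hF
  have h7' : (7 : AdjoinRoot (chP A)) = 0 := by
    have : AdjoinRoot.of (chP A) 7 = 0 := by rw [h7, map_zero]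
    rwa [map_ofNat] at this
  have hrel := root_rel A
  have hone : algebraMap F (Matrix (Fin 2) (Fin 2) F) 1 = 1 := map_one _
  have hneg : algebraMap F (Matrix (Fin 2) (Fin 2) F) (-1) = -1 := by rw [map_neg, map_one]
  set r := AdjoinRoot.root (chP A) with hr
  rcases cases_seven hF A.trace with h | h | h | h | h | h | h
  · left
    rw [← hneg]
    apply pow_eq_of_root A hdet
    rw [h, map_zero] at hrel
    rw [map_neg, map_one]
    linear_combination hrel
  · right; left
    rw [← hneg]
    apply pow_eq_of_root A hdet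
    rw [h, map_one] at hrel
    rw [map_neg, map_one]
    linear_combination (1 + r) * hrel
  · right; right; right; right; left
    rw [← hone]
    apply pow_eq_of_root A hdet
    rw [h, map_ofNat] at hrel
    rw [map_one]
    linear_combination (6 + 5 * r + 4 * r ^ 2 + 3 * r ^ 3 + 2 * r ^ 4 + r ^ 5) * hrel
      + (-1 + r) * h7'
  · right; right; right; left
    rw [← hneg]
    apply pow_eq_of_root A hdet
    rw [h, map_ofNat] at hrel
    rw [map_neg, map_one]
    linear_combination (8 + 3 * r + r ^ 2) * hrel + (-1 + 3 * r) * h7'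
  · right; right; right; left
    rw [← hneg]
    apply pow_eq_of_root A hdet
    rw [h, map_ofNat] at hrel
    rw [map_neg, map_one]
    linear_combination (15 + 4 * r + r ^ 2) * hrel + (-2 + 8 * r) * h7'
  · right; right; right; right; right
    rw [← hneg]
    apply pow_eq_of_root A hdet
    rw [h, map_ofNat] at hrel
    rw [map_neg, map_one]
    linear_combination (2640 + 551 * r + 115 * r ^ 2 + 24 * r ^ 3 + 5 * r ^ 4 + r ^ 5) * hrel
      + (-377 + 1807 * r) * h7'
  · right; right; left
    rw [← hone]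
    apply pow_eq_of_root A hdet
    rw [h, map_ofNat] at hrel
    rw [map_one]
    linear_combination (6 + r) * hrel + (-1 + 5 * r) * h7'

end Seven

/-- the property of element orders shared by `PSL(2,7)` and our family -/
def PP (X : Type*) [Group X] : Prop := ∀ x : X, x ^ 4 = 1 ∨ x ^ 7 = 1 ∨ x ^ 9 = 1

theorem PP.prime_dvd {X : Type*} [Group X] [Finite X] (h : PP X) {p : ℕ} (hp : p.Prime)
    (hdvd : p ∣ Nat.card X) : p = 2 ∨ p = 3 ∨ p = 7 := by
  have : Fact p.Prime := ⟨hp⟩
  obtain ⟨x, hx⟩ := exists_prime_orderOf_dvd_card' p hdvd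
  rcases h x with h4 | h7 | h9
  · left
    have h1 : p ∣ 2 ^ 2 := hx ▸ orderOf_dvd_of_pow_eq_one h4
    exact (Nat.prime_dvd_prime_iff_eq hp Nat.prime_two).1 (hp.dvd_of_dvd_pow h1)
  · right; right
    have h1 : p ∣ 7 := hx ▸ orderOf_dvd_of_pow_eq_one h7
    exact (Nat.prime_dvd_prime_iff_eq hp (by norm_num : Nat.Prime 7)).1 h1
  · right; left
    have h1 : p ∣ 3 ^ 2 := hx ▸ orderOf_dvd_of_pow_eq_one h9
    exact (Nat.prime_dvd_prime_iff_eq hp Nat.prime_three).1 (hp.dvd_of_dvd_pow h1)

theorem PP.no_pq {X : Type*} [Group X] (h : PP X) {p q : ℕ} (hp : p.Prime) (hq : q.Prime)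
    (hpq : p ≠ q) : ¬ ∃ g : X, orderOf g = p * q := by
  rintro ⟨g, hg⟩
  have aux : ∀ (r e : ℕ), r.Prime → p * q ∣ r ^ e → False := by
    intro r e hr hd
    have h1 : p = r := (Nat.prime_dvd_prime_iff_eq hp hr).1
      (hp.dvd_of_dvd_pow ((dvd_mul_right p q).trans hd))
    have h2 : q = r := (Nat.prime_dvd_prime_iff_eq hq hr).1
      (hq.dvd_of_dvd_pow ((dvd_mul_left q p).trans hd))
    exact hpq (h1.trans h2.symm)
  rcases h g with h4 | h7 | h9
  · exact aux 2 2 Nat.prime_two (hg ▸ orderOf_dvd_of_pow_eq_one h4)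
  · exact aux 7 1 (by norm_num : Nat.Prime 7) (by rw [pow_one]; exact hg ▸ orderOf_dvd_of_pow_eq_one h7)
  · exact aux 3 2 Nat.prime_three (hg ▸ orderOf_dvd_of_pow_eq_one h9)

section PSL

variable {F : Type*} [Field F] [Fintype F]

theorem mk_pow_eq_one (M : Matrix.SpecialLinearGroup (Fin 2) F) (k : ℕ)
    (h : (M : Matrix (Fin 2) (Fin 2) F) ^ k = 1 ∨ (M : Matrix (Fin 2) (Fin 2) F) ^ k = -1) :
    (QuotientGroup.mk M : ProjectiveSpecialLinearGroup (Fin 2) F) ^ k = 1 := by
  rw [← QuotientGroup.mk_pow, QuotientGroup.eq_one_iff, Matrix.SpecialLinearGroup.mem_center_iff]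
  rcases h with h | h
  · refine ⟨1, one_pow _, ?_⟩
    rw [map_one, Matrix.SpecialLinearGroup.coe_pow, h]
  · refine ⟨-1, by simp, ?_⟩
    rw [map_neg, map_one, Matrix.SpecialLinearGroup.coe_pow, h]

theorem psl_seven_PP (hF : Fintype.card F = 7) : PP (ProjectiveSpecialLinearGroup (Fin 2) F) := by
  intro g
  obtain ⟨M, rfl⟩ := QuotientGroup.mk_surjective g
  have key : ∀ (a b : ℕ), (QuotientGroup.mk M : ProjectiveSpecialLinearGroup (Fin 2) F) ^ a = 1 →
      (QuotientGroup.mk M : ProjectiveSpecialLinearGroup (Fin 2) F) ^ (a * b) = 1 := by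
    intro a b h
    rw [pow_mul, h, one_pow]
  rcases sl_seven hF (M : Matrix (Fin 2) (Fin 2) F) M.2 with h | h | h | h | h | h
  · left
    exact key 2 2 (mk_pow_eq_one M 2 (Or.inr h))
  · right; right
    exact key 3 3 (mk_pow_eq_one M 3 (Or.inr h))
  · right; right
    exact key 3 3 (mk_pow_eq_one M 3 (Or.inl h))
  · left
    exact mk_pow_eq_one M 4 (Or.inr h)
  · right; left
    exact mk_pow_eq_one M 7 (Or.inl h)
  · right; left
    exact mk_pow_eq_one M 7 (Or.inr h)

theorem mk_ne_one (M : Matrix.SpecialLinearGroup (Fin 2) F)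
    (h : (M : Matrix (Fin 2) (Fin 2) F) 1 0 ≠ 0 ∨ (M : Matrix (Fin 2) (Fin 2) F) 0 1 ≠ 0) :
    (QuotientGroup.mk M : ProjectiveSpecialLinearGroup (Fin 2) F) ≠ 1 := by
  intro hM
  rw [QuotientGroup.eq_one_iff, Matrix.SpecialLinearGroup.mem_center_iff] at hM
  obtain ⟨r, _, hr⟩ := hM
  rcases h with h | h
  · apply h
    rw [← hr]
    simp
  · apply h
    rw [← hr]
    simp

theorem dvd_card_of_elt {X : Type*} [Group X] [Finite X] (p : ℕ) (hp : p.Prime) (g : X)
    (h1 : g ^ p = 1) (h2 : g ≠ 1) : p ∣ Nat.card X := by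
  have : Fact p.Prime := ⟨hp⟩
  rw [← orderOf_eq_prime h1 h2]
  exact orderOf_dvd_natCard g

theorem psl_seven_dvd (hF : Fintype.card F = 7) :
    2 ∣ Nat.card (ProjectiveSpecialLinearGroup (Fin 2) F) ∧
    3 ∣ Nat.card (ProjectiveSpecialLinearGroup (Fin 2) F) ∧
    7 ∣ Nat.card (ProjectiveSpecialLinearGroup (Fin 2) F) := by
  have h7 := seven_eq_zero hF
  refine ⟨?_, ?_, ?_⟩
  · let S : Matrix.SpecialLinearGroup (Fin 2) F := ⟨!![0, -1; 1, 0], by simp [Matrix.det_fin_two]⟩
    apply dvd_card_of_elt 2 Nat.prime_two (QuotientGroup.mk S)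
    · apply mk_pow_eq_one
      right
      ext i j
      fin_cases i <;> fin_cases j <;> simp [S, pow_succ, Matrix.mul_apply, Fin.sum_univ_two]
    · apply mk_ne_one
      left
      simp [S]
  · let U : Matrix.SpecialLinearGroup (Fin 2) F := ⟨!![0, -1; 1, 1], by simp [Matrix.det_fin_two]⟩
    apply dvd_card_of_elt 3 Nat.prime_three (QuotientGroup.mk U)
    · apply mk_pow_eq_one
      right
      ext i j
      fin_cases i <;> fin_cases j <;> simp [U, pow_succ, Matrix.mul_apply, Fin.sum_univ_two]
    · apply mk_ne_one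
      left
      simp [U]
  · let T : Matrix.SpecialLinearGroup (Fin 2) F := ⟨!![1, 1; 0, 1], by simp [Matrix.det_fin_two]⟩
    apply dvd_card_of_elt 7 (by norm_num) (QuotientGroup.mk T)
    · apply mk_pow_eq_one
      left
      have hpow : ∀ k : ℕ, (!![1, 1; 0, 1] : Matrix (Fin 2) (Fin 2) F) ^ k = !![1, (k : F); 0, 1] := by
        intro k
        induction k with
        | zero => simp [Matrix.one_fin_two]
        | succ k ih =>
          rw [pow_succ, ih]
          ext i j
          fin_cases i <;> fin_cases j <;> simp [Matrix.mul_apply, Fin.sum_univ_two, add_comm]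
      change (!![1, 1; 0, 1] : Matrix (Fin 2) (Fin 2) F) ^ 7 = 1
      rw [hpow 7, Matrix.one_fin_two]
      simp [h7]
    · apply mk_ne_one
      right
      simp [T]

end PSL

section Eight

variable {K : Type*} [Field K] [Fintype K]

theorem two_eq_zero (hK : Fintype.card K = 8) : (2 : K) = 0 := by
  have h := Nat.cast_card_eq_zero K
  rw [hK] at h
  have h8 : (2 : K) ^ 3 = 0 := by
    have : ((8 : ℕ) : K) = (2 : K) ^ 3 := by norm_num
    rw [← this]
    exact h
  exact pow_eq_zero_iff (by norm_num) |>.1 h8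

/-- in `SL(2, 8)` every element of trace zero squares to one, and every other element has
seventh or ninth power one -/
theorem sl_eight (hK : Fintype.card K = 8) (A : Matrix (Fin 2) (Fin 2) K) (hdet : A.det = 1) :
    (A.trace = 0 → A ^ 2 = 1) ∧ (A.trace ≠ 0 → A ^ 7 = 1 ∨ A ^ 9 = 1) := by
  have h2 := two_eq_zero hK
  have h2' : (2 : AdjoinRoot (chP A)) = 0 := by
    have : AdjoinRoot.of (chP A) 2 = 0 := by rw [h2, map_zero]
    rwa [map_ofNat] at this
  have hrel := root_rel A
  have hone : algebraMap K (Matrix (Fin 2) (Fin 2) K) 1 = 1 := map_one _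
  set r := AdjoinRoot.root (chP A) with hr
  set s := AdjoinRoot.of (chP A) A.trace with hs
  constructor
  · intro ht
    rw [← hone]
    apply pow_eq_of_root A hdet
    rw [map_one]
    have hs0 : s = 0 := by rw [hs, ht, map_zero]
    rw [hs0] at hrel
    linear_combination hrel - h2'
  · intro ht
    have ht7 : A.trace ^ 7 = 1 := by
      have := FiniteField.pow_card_sub_one_eq_one A.trace ht
      rwa [hK] at this
    have hs7 : s ^ 7 = 1 := by rw [hs, ← map_pow, ht7, map_one]
    have e1 : r ^ 2 = s * r + 1 := by linear_combination hrel - h2'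
    have e2 : r ^ 4 = s ^ 3 * r + s ^ 2 + 1 := by
      linear_combination (r ^ 2 + s * r + 1 + s ^ 2) * e1 + (s * r) * h2'
    have e3 : r ^ 8 = s ^ 7 * r + s ^ 6 + s ^ 4 + 1 := by
      linear_combination (r ^ 4 + s ^ 3 * r + s ^ 2 + 1) * e2 + s ^ 6 * e1
        + (s ^ 3 * (s ^ 2 + 1) * r + s ^ 2) * h2'
    have hc : (A.trace ^ 6 + A.trace ^ 4 + 1) * (A.trace ^ 6 + A.trace ^ 4 + 1 + A.trace) = 0 := by
      linear_combination (A.trace ^ 5 + A.trace + 1) * ht7
        + (A.trace ^ 10 + A.trace ^ 6 + A.trace ^ 5 + A.trace ^ 4 + A.trace + 1) * h2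
    have eu : r * (r + s) = 1 := by linear_combination e1 + (s * r) * h2'
    rcases mul_eq_zero.1 hc with hc0 | hc0
    · left
      have hc0' : s ^ 6 + s ^ 4 + 1 = 0 := by
        have := congrArg (AdjoinRoot.of (chP A)) hc0
        simpa [hs] using this
      have e8 : r ^ 8 = r := by linear_combination e3 + r * hs7 + hc0'
      rw [← hone]
      apply pow_eq_of_root A hdet
      rw [map_one]
      linear_combination (1 - r ^ 7) * eu + (r + s) * e8
    · right
      have hc0' : s ^ 6 + s ^ 4 + 1 + s = 0 := by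
        have := congrArg (AdjoinRoot.of (chP A)) hc0
        simpa [hs] using this
      have e8 : r ^ 8 = r - s := by linear_combination e3 + r * hs7 + hc0'
      rw [← hone]
      apply pow_eq_of_root A hdet
      rw [map_one]
      linear_combination r * e8 + hrel - h2'

/-- a determinant one matrix fixing a nonzero vector has trace two -/
theorem trace_of_fixed (A : Matrix (Fin 2) (Fin 2) K) (hdet : A.det = 1) (u : Fin 2 → K)
    (hu : u ≠ 0) (hfix : A.mulVec u = u) : A.trace = 2 := by
  have h1 : (A - 1).det = 0 := by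
    rw [← Matrix.exists_mulVec_eq_zero_iff]
    refine ⟨u, hu, ?_⟩
    rw [Matrix.sub_mulVec, hfix, Matrix.one_mulVec, sub_self]
  rw [Matrix.det_fin_two] at h1 hdet
  rw [Matrix.trace_fin_two]
  simp only [Matrix.sub_apply, Matrix.one_apply_eq, Matrix.one_apply_ne, ne_eq, Fin.isValue,
    zero_ne_one, one_ne_zero, not_false_eq_true, sub_zero] at h1
  linear_combination hdet - h1

end Eight

section Family

variable {K : Type*} [Field K]

/-- the action of a matrix of `SL(2, K)` on `2 × k` matrices, by left multiplication -/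
def act (k : ℕ) (M : Matrix.SpecialLinearGroup (Fin 2) K) :
    MulAut (Multiplicative (Matrix (Fin 2) (Fin k) K)) where
  toFun X := Multiplicative.ofAdd ((M : Matrix (Fin 2) (Fin 2) K) * Multiplicative.toAdd X)
  invFun X := Multiplicative.ofAdd
    (((M⁻¹ : Matrix.SpecialLinearGroup (Fin 2) K) : Matrix (Fin 2) (Fin 2) K) * Multiplicative.toAdd X)
  left_inv X := by
    apply Multiplicative.toAdd.injective
    simp only [toAdd_ofAdd]
    rw [← Matrix.mul_assoc, ← Matrix.SpecialLinearGroup.coe_mul, inv_mul_cancel,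
      Matrix.SpecialLinearGroup.coe_one, Matrix.one_mul]
  right_inv X := by
    apply Multiplicative.toAdd.injective
    simp only [toAdd_ofAdd]
    rw [← Matrix.mul_assoc, ← Matrix.SpecialLinearGroup.coe_mul, mul_inv_cancel,
      Matrix.SpecialLinearGroup.coe_one, Matrix.one_mul]
  map_mul' X Y := by
    apply Multiplicative.toAdd.injective
    simp only [toAdd_ofAdd, toAdd_mul, Matrix.mul_add]

theorem act_apply (k : ℕ) (M : Matrix.SpecialLinearGroup (Fin 2) K)
    (X : Multiplicative (Matrix (Fin 2) (Fin k) K)) :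
    Multiplicative.toAdd (act k M X) = (M : Matrix (Fin 2) (Fin 2) K) * Multiplicative.toAdd X := rfl

/-- the action as a homomorphism -/
def actHom (k : ℕ) : Matrix.SpecialLinearGroup (Fin 2) K →*
    MulAut (Multiplicative (Matrix (Fin 2) (Fin k) K)) where
  toFun := act k
  map_one' := by
    ext X
    apply Multiplicative.toAdd.injective
    rw [act_apply, Matrix.SpecialLinearGroup.coe_one, Matrix.one_mul]
    rfl
  map_mul' M M' := by
    ext X
    apply Multiplicative.toAdd.injective
    rw [act_apply, MulAut.mul_apply, act_apply, act_apply, Matrix.SpecialLinearGroup.coe_mul,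
      Matrix.mul_assoc]

/-- the family of groups `(K²)^k ⋊ SL(2, K)` -/
abbrev Fam (K : Type*) [Field K] (k : ℕ) : Type _ :=
  Multiplicative (Matrix (Fin 2) (Fin k) K) ⋊[actHom (K := K) k] Matrix.SpecialLinearGroup (Fin 2) K

end Family

section FamilyEight

variable {K : Type*} [Field K] [Fintype K]

theorem sl_pow_eq_one (M : Matrix.SpecialLinearGroup (Fin 2) K) (j : ℕ)
    (h : (M : Matrix (Fin 2) (Fin 2) K) ^ j = 1) : M ^ j = 1 := by
  apply Subtype.ext
  rw [Matrix.SpecialLinearGroup.coe_pow, h, Matrix.SpecialLinearGroup.coe_one]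

theorem fam_PP (hK : Fintype.card K = 8) (k : ℕ) : PP (Fam K k) := by
  intro h
  have h2 := two_eq_zero hK
  set M := h.right with hM
  have hdet : (M : Matrix (Fin 2) (Fin 2) K).det = 1 := M.2
  obtain ⟨hA, hB⟩ := sl_eight hK (M : Matrix (Fin 2) (Fin 2) K) hdet
  have hright : ∀ j : ℕ, (h ^ j).right = M ^ j := fun j =>
    map_pow (SemidirectProduct.rightHom (φ := actHom (K := K) k)) h j
  by_cases ht : (M : Matrix (Fin 2) (Fin 2) K).trace = 0
  · left
    have hM2 : M ^ 2 = 1 := sl_pow_eq_one M 2 (hA ht)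
    have hr2 : (h ^ 2).right = 1 := by rw [hright, hM2]
    have : h ^ 4 = h ^ 2 * h ^ 2 := by rw [← pow_add]
    rw [this]
    apply SemidirectProduct.ext
    · rw [SemidirectProduct.mul_left, hr2, map_one, MulAut.one_apply, SemidirectProduct.one_left]
      apply Multiplicative.toAdd.injective
      rw [toAdd_mul, toAdd_one, ← two_smul K, h2, zero_smul]
    · rw [SemidirectProduct.mul_right, hr2, mul_one, SemidirectProduct.one_right]
  · right
    have key : ∀ j : ℕ, (M : Matrix (Fin 2) (Fin 2) K) ^ j = 1 → h ^ j = 1 := by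
      intro j hj
      have hMj : M ^ j = 1 := sl_pow_eq_one M j hj
      have hrj : (h ^ j).right = 1 := by rw [hright, hMj]
      set w := (h ^ j).left with hw
      -- `h` commutes with `h ^ j`
      have hcomm : h * h ^ j = h ^ j * h := by rw [← pow_succ', ← pow_succ]
      have hl := congrArg SemidirectProduct.left hcomm
      rw [SemidirectProduct.mul_left, SemidirectProduct.mul_left, hrj, map_one, MulAut.one_apply,
        ← hw, ← hM, mul_comm w h.left] at hl
      have hfix : actHom k M w = w := mul_left_cancel hl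
      have hfix' : (M : Matrix (Fin 2) (Fin 2) K) * Multiplicative.toAdd w = Multiplicative.toAdd w :=
        congrArg Multiplicative.toAdd hfix
      have hw0 : Multiplicative.toAdd w = 0 := by
        by_contra hne
        -- some column is nonzero
        obtain ⟨c, hc⟩ : ∃ c : Fin k, (fun i => Multiplicative.toAdd w i c) ≠ 0 := by
          by_contra hcon
          push Not at hcon
          apply hne
          ext i c
          exact congrFun (hcon c) i
        have hfixc : (M : Matrix (Fin 2) (Fin 2) K).mulVec (fun i => Multiplicative.toAdd w i c)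
            = fun i => Multiplicative.toAdd w i c := by
          funext i
          have := congrFun (congrFun hfix' i) c
          rw [Matrix.mul_apply] at this
          rw [Matrix.mulVec, dotProduct]
          exact this
        have htr := trace_of_fixed (M : Matrix (Fin 2) (Fin 2) K) hdet _ hc hfixc
        exact ht (htr.trans h2)
      apply SemidirectProduct.ext
      · rw [SemidirectProduct.one_left, ← hw]
        exact Multiplicative.toAdd.injective hw0
      · rw [hrj, SemidirectProduct.one_right]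
    rcases hB ht with h7 | h9
    · left
      exact key 7 h7
    · right
      exact key 9 h9

end FamilyEight

section Final

variable {K : Type*} [Field K] [Fintype K]

theorem sl_eight_dvd (hK : Fintype.card K = 8) :
    2 ∣ Nat.card (Matrix.SpecialLinearGroup (Fin 2) K) ∧
    3 ∣ Nat.card (Matrix.SpecialLinearGroup (Fin 2) K) ∧
    7 ∣ Nat.card (Matrix.SpecialLinearGroup (Fin 2) K) := by
  have h2 := two_eq_zero hK
  refine ⟨?_, ?_, ?_⟩
  · let T : Matrix.SpecialLinearGroup (Fin 2) K := ⟨!![1, 1; 0, 1], by simp [Matrix.det_fin_two]⟩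
    apply dvd_card_of_elt 2 Nat.prime_two T
    · apply sl_pow_eq_one
      change (!![1, 1; 0, 1] : Matrix (Fin 2) (Fin 2) K) ^ 2 = 1
      ext i j
      fin_cases i <;> fin_cases j <;>
        simp [pow_succ, Matrix.mul_apply, Fin.sum_univ_two, one_add_one_eq_two, h2]
    · intro hT
      have := congrArg (fun M : Matrix.SpecialLinearGroup (Fin 2) K =>
        (M : Matrix (Fin 2) (Fin 2) K) 0 1) hT
      simp [T] at this
  · let U : Matrix.SpecialLinearGroup (Fin 2) K := ⟨!![0, -1; 1, 1], by simp [Matrix.det_fin_two]⟩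
    apply dvd_card_of_elt 3 Nat.prime_three U
    · apply sl_pow_eq_one
      change (!![0, -1; 1, 1] : Matrix (Fin 2) (Fin 2) K) ^ 3 = 1
      have hneg : (-1 : K) = 1 := by linear_combination -h2
      ext i j
      fin_cases i <;> fin_cases j <;>
        simp [pow_succ, Matrix.mul_apply, Fin.sum_univ_two, hneg, one_add_one_eq_two, h2]
    · intro hU
      have := congrArg (fun M : Matrix.SpecialLinearGroup (Fin 2) K =>
        (M : Matrix (Fin 2) (Fin 2) K) 1 0) hU
      simp [U] at this
  · obtain ⟨g, hg0, hg1⟩ : ∃ g : K, g ≠ 0 ∧ g ≠ 1 := by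
      have h3 : 2 < Fintype.card K := by rw [hK]; norm_num
      obtain ⟨a, b, c, hab, hac, hbc⟩ := Fintype.two_lt_card_iff.1 h3
      by_cases ha : a ≠ 0 ∧ a ≠ 1
      · exact ⟨a, ha⟩
      by_cases hb : b ≠ 0 ∧ b ≠ 1
      · exact ⟨b, hb⟩
      refine ⟨c, ?_, ?_⟩
      · rintro rfl
        push Not at ha hb
        by_cases ha0 : a = 0
        · exact hac ha0
        · by_cases hb0 : b = 0
          · exact hbc hb0
          · exact hab ((ha ha0).trans (hb hb0).symm)
      · rintro rfl
        push Not at ha hb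
        by_cases ha0 : a = 0
        · by_cases hb0 : b = 0
          · exact hab (ha0.trans hb0.symm)
          · exact hbc (hb hb0)
        · exact hac (ha ha0)
    have hg7 : g ^ 7 = 1 := by
      have := FiniteField.pow_card_sub_one_eq_one g hg0
      rwa [hK] at this
    let D : Matrix.SpecialLinearGroup (Fin 2) K :=
      ⟨!![g, 0; 0, g⁻¹], by simp [Matrix.det_fin_two, hg0]⟩
    apply dvd_card_of_elt 7 (by norm_num) D
    · apply sl_pow_eq_one
      change (!![g, 0; 0, g⁻¹] : Matrix (Fin 2) (Fin 2) K) ^ 7 = 1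
      have hd : (!![g, 0; 0, g⁻¹] : Matrix (Fin 2) (Fin 2) K) = Matrix.diagonal ![g, g⁻¹] := by
        ext i j
        fin_cases i <;> fin_cases j <;> simp
      rw [hd, Matrix.diagonal_pow]
      ext i j
      fin_cases i <;> fin_cases j <;> simp [hg7]
    · intro hD
      have := congrArg (fun M : Matrix.SpecialLinearGroup (Fin 2) K =>
        (M : Matrix (Fin 2) (Fin 2) K) 0 0) hD
      simp [D] at this
      exact hg1 this

instance (k : ℕ) : Finite (Fam K k) :=
  Finite.of_equiv _ (SemidirectProduct.equivProd (φ := actHom (K := K) k)).symm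

theorem fam_card (hK : Fintype.card K = 8) (k : ℕ) :
    Nat.card (Fam K k) = 8 ^ (2 * k) * Nat.card (Matrix.SpecialLinearGroup (Fin 2) K) := by
  rw [SemidirectProduct.card]
  congr 1
  rw [Nat.card_congr (Multiplicative.toAdd : Multiplicative (Matrix (Fin 2) (Fin k) K) ≃ _)]
  change Nat.card (Fin 2 → Fin k → K) = _
  rw [Nat.card_fun, Nat.card_fun, Nat.card_eq_fintype_card (α := K), hK, Nat.card_fin, Nat.card_fin,
    ← pow_mul, mul_comm]

end Final

/-- The prime graph of a finite group has the prime divisors of its order as vertices, two distinct primes p, q being joined when the group has an element of order pq; two groups have the same prime graph when they have the same prime divisors and the same joined pairs. Let F be the field with 7 elements. There are finite groups of arbitrarily large order with the same prime graph as PSL(2,F) (the graph on {2, 3, 7} with no edges, which is also the prime graph of PSL(2,8)). -/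
theorem result {F : Type*} [Field F] [Fintype F] (hF : Fintype.card F = 7) (N : ℕ) :
    ∃ (H : Type) (_ : Group H) (_ : Finite H), N < Nat.card H ∧
      ((∀ p : ℕ, p.Prime → (p ∣ Nat.card (Matrix.ProjectiveSpecialLinearGroup (Fin 2) F) ↔ p ∣ Nat.card H)) ∧
      (∀ p q : ℕ, p.Prime → q.Prime → p ≠ q → ((∃ g : (Matrix.ProjectiveSpecialLinearGroup (Fin 2) F), orderOf g = p * q) ↔ (∃ g : H, orderOf g = p * q)))) := by
  classical
  have : Fintype (GaloisField 2 3) := Fintype.ofFinite _
  have hK : Fintype.card (GaloisField 2 3) = 8 := by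
    rw [← Nat.card_eq_fintype_card, GaloisField.card 2 3 (by norm_num)]
    norm_num
  have hPP1 := psl_seven_PP hF
  have hPP2 := fam_PP hK N
  obtain ⟨a2, a3, a7⟩ := psl_seven_dvd hF
  obtain ⟨b2, b3, b7⟩ := sl_eight_dvd hK
  have hcard := fam_card hK N
  refine ⟨Fam (GaloisField 2 3) N, inferInstance, inferInstance, ?_, ?_, ?_⟩
  · rw [hcard]
    have h1 : N < 8 ^ (2 * N) :=
      lt_of_lt_of_le (Nat.lt_pow_self (by norm_num : 1 < 8))
        (Nat.pow_le_pow_right (by norm_num) (by omega))
    have h2 : 0 < Nat.card (Matrix.SpecialLinearGroup (Fin 2) (GaloisField 2 3)) := Nat.card_pos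
    exact lt_of_lt_of_le h1 (Nat.le_mul_of_pos_right _ h2)
  · intro p hp
    constructor
    · intro hd
      rw [hcard]
      rcases hPP1.prime_dvd hp hd with rfl | rfl | rfl
      · exact b2.mul_left _
      · exact b3.mul_left _
      · exact b7.mul_left _
    · intro hd
      rcases hPP2.prime_dvd hp hd with rfl | rfl | rfl
      · exact a2
      · exact a3
      · exact a7
  · intro p q hp hq hpq
    constructor
    · intro h
      exact absurd h (hPP1.no_pq hp hq hpq)
    · intro h
      exact absurd h (hPP2.no_pq hp hq hpq)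

end Cfsg.Agent.S3678
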