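import Mathlib
import Cfsg.Statements.S3680
import Cfsg.Agent.Lib.Helper64.MinInv
import Cfsg.Agent.Lib.Helper64.PrimDer

set_option autoImplicit false
open Cfsg

namespace Cfsg.Agent.S3680

open Cfsg.Agent.Lib.Helper64

section Decomp

variable {G : Type*} [Group G]

/-- `V` is a minimal normal subgroup of `G` -/
def IsMN (V : Subgroup G) : Prop :=
  V.Normal ∧ V ≠ ⊥ ∧ ∀ M : Subgroup G, M.Normal → M ≤ V → M = ⊥ ∨ M = V

/-- a minimal invariant subgroup of a non-abelian minimal normal subgroup is simple -/
theorem isSimpleGroup_of_isMinInv {V T : Subgroup G} (hV : IsMN V) (hT : IsMinInv V T) :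
    IsSimpleGroup T := by
  have : Nontrivial T := (Subgroup.nontrivial_iff_ne_bot T).2 hT.ne_bot
  refine ⟨fun H hH => ?_⟩
  have hinv : ∀ n ∈ V, ∀ x ∈ H.map T.subtype, n * x * n⁻¹ ∈ H.map T.subtype := by
    intro n hn x hx
    obtain ⟨t, ht, c, hc, rfl⟩ := exists_decomp hV.1 hV.2.2 hT hn
    obtain ⟨y, hy, rfl⟩ := hx
    have hcy : c * (y : G) = (y : G) * c :=
      ((Subgroup.mem_centralizer_iff.1 hc.2) _ y.2).symm
    have e : t * c * (y : G) * (t * c)⁻¹ = t * (y : G) * t⁻¹ := by
      rw [mul_inv_rev, mul_assoc t c, hcy]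
      group
    change t * c * (y : G) * (t * c)⁻¹ ∈ H.map T.subtype
    rw [e]
    exact ⟨⟨t, ht⟩ * y * ⟨t, ht⟩⁻¹, hH.conj_mem y hy ⟨t, ht⟩, rfl⟩
  rcases hT.min _ (Subgroup.map_subtype_le H) hinv with h | h
  · left
    rw [eq_bot_iff]
    intro y hy
    have : (y : G) ∈ H.map T.subtype := ⟨y, hy, rfl⟩
    rw [h, Subgroup.mem_bot] at this
    exact Subgroup.mem_bot.2 (Subtype.ext this)
  · right
    rw [eq_top_iff]
    intro y _
    have : (y : G) ∈ H.map T.subtype := by rw [h]; exact y.2
    obtain ⟨z, hz, hzy⟩ := this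
    rwa [← Subtype.ext hzy]

/-- a non-abelian minimal normal subgroup of a finite group is a direct power of a non-abelian
simple group -/
theorem exists_prod_decomp [Finite G] {V : Subgroup G} (hV : IsMN V)
    (hVnc : ¬ ∀ x ∈ V, ∀ y ∈ V, x * y = y * x) :
    ∃ (T : Subgroup G) (m : ℕ), 1 ≤ m ∧ IsSimpleGroup T ∧ ¬ IsMulCommutative T ∧
      Nonempty (V ≃* (Fin m → T)) := by
  classical
  obtain ⟨T, hT⟩ := exists_isMinInv V hV.2.1
  have hc := inf_centralizer_eq_bot hV.1 hV.2.2 hT hVnc
  let ι := {S : Subgroup G // ∃ g, S = cj g T}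
  have : Finite ι := Subtype.finite
  have : Fintype ι := Fintype.ofFinite ι
  let H : ι → Subgroup G := fun i => i.1
  have hMI : ∀ i : ι, IsMinInv V (H i) := fun i => by
    obtain ⟨g, hg⟩ := i.2
    rw [show H i = cj g T from hg]
    exact hT.cj hV.1 g
  have hcomm : Pairwise fun i j : ι => ∀ x y : G, x ∈ H i → y ∈ H j → Commute x y := by
    intro i j hij x y hx hy
    exact (hMI i).commute_of_ne (hMI j) (fun h => hij (Subtype.ext h)) hx hy
  have hci : ∀ i, H i ⊓ Subgroup.centralizer (H i : Set G) = ⊥ :=
    fun i => inf_centralizer_eq_bot hV.1 hV.2.2 (hMI i) hVnc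
  have hind : iSupIndep H := by
    intro i
    rw [disjoint_iff, eq_bot_iff]
    calc H i ⊓ ⨆ j, ⨆ (_ : j ≠ i), H j ≤ H i ⊓ Subgroup.centralizer (H i : Set G) :=
          inf_le_inf_left _ (iSup₂_le fun j hj =>
            (hMI i).le_centralizer_of_ne (hMI j) (fun h => hj (Subtype.ext h).symm))
      _ = ⊥ := hci i
  have hsup : ⨆ i, H i = V := by
    have hle : ⨆ i, H i ≤ V := iSup_le fun i => (hMI i).le
    have hnorm : (⨆ i, H i).Normal := by
      constructor
      intro x hx g
      have hmap : (⨆ i, H i).map (MulAut.conj g).toMonoidHom ≤ ⨆ i, H i := by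
        rw [Subgroup.map_iSup]
        apply iSup_le
        intro i
        obtain ⟨k, hk⟩ := i.2
        have h1 : (H i).map (MulAut.conj g).toMonoidHom = cj (g * k) T := by
          rw [cj_mul]
          change cj g (H i) = _
          rw [show H i = cj k T from hk]
        rw [h1]
        exact le_iSup H ⟨cj (g * k) T, g * k, rfl⟩
      exact hmap ⟨x, hx, rfl⟩
    rcases hV.2.2 _ hnorm hle with h | h
    · exfalso
      have h1 : T ≤ ⨆ i, H i := le_iSup H ⟨T, 1, (cj_one T).symm⟩
      rw [h] at h1
      exact hT.ne_bot (le_bot_iff.1 h1)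
    · exact h
  have hinj := Subgroup.injective_noncommPiCoprod_of_iSupIndep (hcomm := hcomm) hind
  have hrange : (Subgroup.noncommPiCoprod hcomm).range = V := by
    rw [Subgroup.noncommPiCoprod_range, hsup]
  have e1 : (∀ i, H i) ≃* V :=
    (MonoidHom.ofInjective hinj).trans (MulEquiv.subgroupCongr hrange)
  have e2 : ∀ i : ι, H i ≃* T := fun i =>
    ((Subgroup.equivMapOfInjective T (MulAut.conj (Classical.choose i.2)).toMonoidHom
      (MulAut.conj (Classical.choose i.2)).injective).trans
      (MulEquiv.subgroupCongr (Classical.choose_spec i.2).symm)).symm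
  have e3 : (∀ i, H i) ≃* (ι → T) := MulEquiv.piCongrRight e2
  have e4 : (ι → T) ≃* (Fin (Fintype.card ι) → T) :=
    MulEquiv.arrowCongr (Fintype.equivFin ι) (MulEquiv.refl T)
  have : Nonempty ι := ⟨⟨T, 1, (cj_one T).symm⟩⟩
  refine ⟨T, Fintype.card ι, Fintype.card_pos, isSimpleGroup_of_isMinInv hV hT, ?_,
    ⟨e1.symm.trans (e3.trans e4)⟩⟩
  intro hcm
  apply hT.ne_bot
  rw [eq_bot_iff, ← hc]
  intro x hx
  refine Subgroup.mem_inf.2 ⟨hx, ?_⟩
  rw [Subgroup.mem_centralizer_iff]
  intro y hy
  have := hcm.is_comm.comm (⟨y, hy⟩ : T) ⟨x, hx⟩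
  exact congrArg Subtype.val this

end Decomp

section Transfer

universe u v

/-- move the simple factor to universe zero -/
theorem shrink_transfer {A : Type u} [Group A] [Finite A] (hs : IsSimpleGroup A)
    (hnc : ¬ IsMulCommutative A) {X : Type v} [Group X] (m : ℕ) (e : X ≃* (Fin m → A)) :
    ∃ (T : Type) (_ : Group T), IsSimpleGroup T ∧ ¬ IsMulCommutative T ∧
      Nonempty (X ≃* (Fin m → T)) := by
  let e0 : Shrink.{0} A ≃* A := Shrink.mulEquiv
  refine ⟨Shrink.{0} A, inferInstance, e0.isSimpleGroup, ?_, ⟨e.trans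
    (MulEquiv.arrowCongr (Equiv.refl (Fin m)) e0.symm)⟩⟩
  intro hc
  apply hnc
  refine ⟨⟨fun a b => ?_⟩⟩
  have := hc.is_comm.comm (e0.symm a) (e0.symm b)
  rw [← map_mul, ← map_mul] at this
  exact e0.symm.injective this

/-- `(Fin m → T) × (Fin m → T)` is `Fin (m + m) → T` -/
def prodPiEquiv (m : ℕ) (T : Type u) [Group T] : (Fin m → T) × (Fin m → T) ≃* (Fin (m + m) → T) where
  toFun p := Fin.append p.1 p.2
  invFun f := (fun i => f (Fin.castAdd m i), fun i => f (Fin.natAdd m i))
  left_inv p :=
    Prod.ext (funext fun i => Fin.append_left _ _ i) (funext fun i => Fin.append_right _ _ i)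
  right_inv f := by
    funext i
    refine Fin.addCases (fun j => ?_) (fun j => ?_) i
    · exact Fin.append_left _ _ j
    · exact Fin.append_right _ _ j
  map_mul' p q := by
    funext i
    refine Fin.addCases (fun j => ?_) (fun j => ?_) i
    · rw [Pi.mul_apply, Fin.append_left, Fin.append_left, Fin.append_left]
      rfl
    · rw [Pi.mul_apply, Fin.append_right, Fin.append_right, Fin.append_right]
      rfl

end Transfer

section Two

variable {G : Type*} [Group G]

/-- the join of two commuting subgroups with trivial intersection is their direct product -/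
noncomputable def supEquivProd (V C : Subgroup G) (hcomm : ∀ v ∈ V, ∀ c ∈ C, v * c = c * v)
    (hdisj : V ⊓ C = ⊥) : (V × C) ≃* (V ⊔ C : Subgroup G) := by
  have comm : ∀ (v : V) (c : C), Commute (V.subtype v) (C.subtype c) :=
    fun v c => hcomm v v.2 c c.2
  have hinj : Function.Injective (MonoidHom.noncommCoprod V.subtype C.subtype comm) := by
    rw [MonoidHom.noncommCoprod_injective]
    refine ⟨V.subtype_injective, C.subtype_injective, ?_⟩
    rw [Subgroup.range_subtype, Subgroup.range_subtype, disjoint_iff, hdisj]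
  have hrange : (MonoidHom.noncommCoprod V.subtype C.subtype comm).range = V ⊔ C := by
    rw [MonoidHom.noncommCoprod_range, Subgroup.range_subtype, Subgroup.range_subtype]
  exact (MonoidHom.ofInjective hinj).trans (MulEquiv.subgroupCongr hrange)

end Two

section Regular

open MulAction

variable {G Ω : Type*} [Group G] [MulAction G Ω] [FaithfulSMul G Ω]

/-- two commuting transitive subgroups of a faithful permutation group are isomorphic -/
theorem nonempty_mulEquiv_of_commute_pretransitive (V C : Subgroup G)
    (hVt : IsPretransitive V Ω) (hCt : IsPretransitive C Ω)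
    (hcomm : ∀ v ∈ V, ∀ c ∈ C, v * c = c * v) (ω : Ω) : Nonempty (C ≃* V) := by
  classical
  -- semiregularity
  have hVs : ∀ v ∈ V, ∀ a : Ω, v • a = a → v = 1 := fun v hv a ha =>
    eq_one_of_commute_pretransitive C hCt (fun c hc => hcomm v hv c hc) ha
  have hCs : ∀ c ∈ C, ∀ a : Ω, c • a = a → c = 1 := fun c hc a ha =>
    eq_one_of_commute_pretransitive V hVt (fun v hv => (hcomm v hv c hc).symm) ha
  have huniq : ∀ v v' : V, (v : G) • ω = (v' : G) • ω → v = v' := by
    intro v v' h
    have h1 : ((v' : G)⁻¹ * v) • ω = ω := by rw [mul_smul, h, inv_smul_smul]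
    have h2 := hVs _ (V.mul_mem (V.inv_mem v'.2) v.2) ω h1
    exact Subtype.ext (inv_mul_eq_one.1 h2).symm
  have hex : ∀ c : C, ∃ v : V, (v : G) • ω = (c : G) • ω := fun c =>
    hVt.exists_smul_eq ω ((c : G) • ω)
  choose f hf using hex
  have hmul : ∀ c c' : C, f (c * c') = f c' * f c := by
    intro c c'
    apply huniq
    rw [hf, Subgroup.coe_mul, Subgroup.coe_mul]
    calc ((c : G) * (c' : G)) • ω = (c : G) • ((c' : G) • ω) := mul_smul _ _ _
      _ = (c : G) • ((f c' : G) • ω) := by rw [hf c']
      _ = ((c : G) * (f c' : G)) • ω := (mul_smul _ _ _).symm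
      _ = ((f c' : G) * (c : G)) • ω := by rw [hcomm _ (f c').2 _ c.2]
      _ = (f c' : G) • ((c : G) • ω) := mul_smul _ _ _
      _ = (f c' : G) • ((f c : G) • ω) := by rw [hf c]
      _ = ((f c' : G) * (f c : G)) • ω := (mul_smul _ _ _).symm
  let ψ : C →* V := MonoidHom.mk' (fun c => (f c)⁻¹) (fun c c' => by
    change (f (c * c'))⁻¹ = (f c)⁻¹ * (f c')⁻¹
    rw [hmul, mul_inv_rev])
  have hinj : Function.Injective ψ := by
    intro c c' h
    have h1 : f c = f c' := inv_injective h
    have h2 : (c : G) • ω = (c' : G) • ω := by rw [← hf c, ← hf c', h1]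
    have h3 : ((c' : G)⁻¹ * c) • ω = ω := by rw [mul_smul, h2, inv_smul_smul]
    have h4 := hCs _ (C.mul_mem (C.inv_mem c'.2) c.2) ω h3
    exact Subtype.ext (inv_mul_eq_one.1 h4).symm
  have hsurj : Function.Surjective ψ := by
    intro v
    obtain ⟨c, hc⟩ := hCt.exists_smul_eq ω ((v⁻¹ : V) • ω)
    refine ⟨c, ?_⟩
    have h1 : f c = v⁻¹ := huniq _ _ (by rw [hf]; exact hc)
    change (f c)⁻¹ = v
    rw [h1, inv_inv]
  exact ⟨MulEquiv.ofBijective ψ ⟨hinj, hsurj⟩⟩

end Regular

section Prim

open MulAction

variable {G Ω : Type*} [Group G] [MulAction G Ω] [FaithfulSMul G Ω]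

theorem IsMN.inf_eq_bot {V W : Subgroup G} (hV : IsMN V) (hW : IsMN W) (hne : W ≠ V) :
    V ⊓ W = ⊥ := by
  have hn : (V ⊓ W).Normal := by
    have := hV.1
    have := hW.1
    infer_instance
  rcases hV.2.2 _ hn inf_le_left with h | h
  · exact h
  · exfalso
    have hVW : V ≤ W := h ▸ inf_le_right
    rcases hW.2.2 V hV.1 hVW with h1 | h1
    · exact hV.2.1 h1
    · exact hne h1.symm

theorem IsMN.le_centralizer {V W : Subgroup G} (hV : IsMN V) (hW : IsMN W) (hne : W ≠ V) :
    W ≤ Subgroup.centralizer (V : Set G) := by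
  intro w hw
  rw [Subgroup.mem_centralizer_iff]
  intro v hv
  exact Subgroup.commute_of_normal_of_disjoint V W hV.1 hW.1
    (disjoint_iff.2 (hV.inf_eq_bot hW hne)) v w hv hw

/-- a semiregular group containing a transitive subgroup equals it -/
theorem le_of_pretransitive_of_semiregular (W C : Subgroup G) (hWC : W ≤ C)
    (hWt : IsPretransitive W Ω) (hCs : ∀ c ∈ C, ∀ a : Ω, c • a = a → c = 1) (ω : Ω) : C ≤ W := by
  intro c hc
  obtain ⟨w, hw⟩ := hWt.exists_smul_eq ω (c • ω)
  have h1 : ((w : G)⁻¹ * c) • ω = ω := by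
    rw [mul_smul, ← hw]
    exact inv_smul_smul _ _
  have h2 := hCs _ (C.mul_mem (C.inv_mem (hWC w.2)) hc) ω h1
  rw [← inv_mul_eq_one.1 h2]
  exact w.2

theorem centralizer_semiregular (V : Subgroup G) (hVt : IsPretransitive V Ω) :
    ∀ c ∈ Subgroup.centralizer (V : Set G), ∀ a : Ω, c • a = a → c = 1 := by
  intro c hc a ha
  exact eq_one_of_commute_pretransitive V hVt
    (fun v hv => ((Subgroup.mem_centralizer_iff.1 hc) v hv).symm) ha

end Prim

open MulAction in
/-- The socle of a finite primitive permutation group. Let a finite group G act faithfully and primitively on a set Ω, and let N be the subgroup generated by the minimal normal subgroups of G. Then either N is an elementary abelian p-group for some prime p and acts regularly on Ω (transitively with trivial point stabilizers), or N is isomorphic to a direct product of m ≥ 1 copies of a non-abelian simple group. -/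
theorem result {G Ω : Type*} [Group G] [Finite G] [MulAction G Ω] [FaithfulSMul G Ω] [Finite Ω]
    (hprim : MulAction.IsPreprimitive G Ω) (N : Subgroup G)
    (hN : N = sSup {V : Subgroup G | V.Normal ∧ V ≠ ⊥ ∧ ∀ M : Subgroup G, M.Normal → M ≤ V → M = ⊥ ∨ M = V}) :
    (∃ p : ℕ, p.Prime ∧ IsMulCommutative N ∧ (∀ x : N, x ^ p = 1) ∧
      MulAction.IsPretransitive N Ω ∧ ∀ ω : Ω, MulAction.stabilizer N ω = ⊥) ∨
    (∃ (T : Type) (_ : Group T) (m : ℕ), 1 ≤ m ∧ IsSimpleGroup T ∧ ¬ IsMulCommutative T ∧ Nonempty (N ≃* (Fin m → T))) := by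
  classical
  have hN' : N = sSup {V : Subgroup G | IsMN V} := hN
  rcases subsingleton_or_nontrivial G with hG | hG
  · -- the trivial group
    left
    have hsub : Subsingleton N := inferInstance
    refine ⟨2, Nat.prime_two, ⟨⟨fun a b => Subsingleton.elim _ _⟩⟩,
      fun x => Subsingleton.elim _ _, ?_, fun ω => Subsingleton.elim _ _⟩
    have := hprim.toIsPretransitive
    constructor
    intro x y
    obtain ⟨g, hg⟩ := exists_smul_eq G x y
    refine ⟨1, ?_⟩
    rw [one_smul, ← hg, Subsingleton.elim g 1, one_smul]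
  · obtain ⟨V, hVn, hV1, hVmin⟩ := exists_minimal_normal (G := G)
    have hV : IsMN V := ⟨hVn, hV1, hVmin⟩
    obtain ⟨ω⟩ : Nonempty Ω := by
      by_contra hemp
      rw [not_nonempty_iff] at hemp
      obtain ⟨g, hg⟩ := exists_ne (1 : G)
      apply hg
      apply FaithfulSMul.eq_of_smul_eq_smul (α := Ω)
      intro a
      exact hemp.elim a
    have hVt := normal_pretransitive hprim V hVn hV1
    have hCs := centralizer_semiregular V hVt
    by_cases hVc : ∀ x ∈ V, ∀ y ∈ V, x * y = y * x
    · left
      have hVleC : V ≤ Subgroup.centralizer (V : Set G) := by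
        intro x hx
        rw [Subgroup.mem_centralizer_iff]
        intro y hy
        exact hVc y hy x hx
      have hCleV : Subgroup.centralizer (V : Set G) ≤ V :=
        le_of_pretransitive_of_semiregular V _ hVleC hVt hCs ω
      have hset : {W : Subgroup G | IsMN W} = {V} := by
        ext W
        constructor
        · intro hW
          by_contra hne
          have hne' : W ≠ V := hne
          have h1 : W ≤ V := (hV.le_centralizer hW hne').trans hCleV
          rcases hVmin W hW.1 h1 with h2 | h2
          · exact hW.2.1 h2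
          · exact hne' h2
        · intro hW
          rw [Set.mem_singleton_iff] at hW
          rw [hW]
          exact hV
      have hNV : N = V := by rw [hN', hset, sSup_singleton]
      obtain ⟨h1, ⟨r, hr, hexp⟩, h3, h4, _⟩ :=
        affine_of_comm_minNormal hprim V hVn hV1 hVmin hVc
      rw [hNV]
      exact ⟨r, hr, h1, fun x => Subtype.ext (by
        rw [Subgroup.coe_pow, Subgroup.coe_one]
        exact hexp x x.2), h3, h4⟩
    · right
      obtain ⟨T, m, hm, hTs, hTnc, ⟨e⟩⟩ := exists_prod_decomp hV hVc
      set C := Subgroup.centralizer (V : Set G) with hCdef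
      have hCn : C.Normal := Subgroup.normal_centralizer
      have hVC : V ⊓ C = ⊥ := by
        have hn : (V ⊓ C).Normal := inferInstance
        rcases hVmin _ hn inf_le_left with h | h
        · exact h
        · exfalso
          apply hVc
          intro x hx y hy
          have hxC : x ∈ C := (h ▸ inf_le_right : V ≤ C) hx
          exact ((Subgroup.mem_centralizer_iff.1 hxC) y hy).symm
      have hcomm : ∀ v ∈ V, ∀ c ∈ C, v * c = c * v := fun v hv c hc =>
        (Subgroup.mem_centralizer_iff.1 hc) v hv
      by_cases hC : C = ⊥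
      · have hset : {W : Subgroup G | IsMN W} = {V} := by
          ext W
          constructor
          · intro hW
            by_contra hne
            have hne' : W ≠ V := hne
            have h1 : W ≤ C := hV.le_centralizer hW hne'
            rw [hC] at h1
            exact hW.2.1 (le_bot_iff.1 h1)
          · intro hW
            rw [Set.mem_singleton_iff] at hW
            rw [hW]
            exact hV
        have hNV : N = V := by rw [hN', hset, sSup_singleton]
        obtain ⟨T0, _, hs, hnc, ⟨e'⟩⟩ := shrink_transfer hTs hTnc m e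
        exact ⟨T0, _, m, hm, hs, hnc, ⟨(MulEquiv.subgroupCongr hNV).trans e'⟩⟩
      · have hCt := normal_pretransitive hprim C hCn hC
        -- `C` is a minimal normal subgroup
        have hCmn : IsMN C := by
          obtain ⟨W, hWmem, hWmin⟩ := (wellFounded_lt (α := Subgroup G)).has_min
            {M | M.Normal ∧ M ≠ ⊥ ∧ M ≤ C} ⟨C, hCn, hC, le_rfl⟩
          have hW : IsMN W := by
            refine ⟨hWmem.1, hWmem.2.1, fun M hM hMW => ?_⟩
            by_cases hM0 : M = ⊥
            · exact Or.inl hM0
            · right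
              have := hWmin M ⟨hM, hM0, hMW.trans hWmem.2.2⟩
              exact (lt_or_eq_of_le hMW).resolve_left this
          have hWt := normal_pretransitive hprim W hW.1 hW.2.1
          have : C ≤ W := le_of_pretransitive_of_semiregular W C hWmem.2.2 hWt hCs ω
          rw [le_antisymm this hWmem.2.2]
          exact hW
        have hCV : C ≠ V := by
          intro h
          apply hV1
          rw [← hVC, h, inf_idem]
        have hset : {W : Subgroup G | IsMN W} = {V, C} := by
          ext W
          constructor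
          · intro hW
            by_cases hne : W = V
            · exact Or.inl hne
            · right
              have h1 : W ≤ C := hV.le_centralizer hW hne
              have hWt := normal_pretransitive hprim W hW.1 hW.2.1
              have : C ≤ W := le_of_pretransitive_of_semiregular W C h1 hWt hCs ω
              exact le_antisymm h1 this
          · rintro (hW | hW)
            · rw [hW]; exact hV
            · rw [Set.mem_singleton_iff] at hW
              rw [hW]; exact hCmn
        have hNVC : N = V ⊔ C := by rw [hN', hset, sSup_pair]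
        obtain ⟨eCV⟩ := nonempty_mulEquiv_of_commute_pretransitive V C hVt hCt hcomm ω
        have e1 : N ≃* (V × C) :=
          (MulEquiv.subgroupCongr hNVC).trans (supEquivProd V C hcomm hVC).symm
        have e2 : (V × C) ≃* ((Fin m → T) × (Fin m → T)) :=
          MulEquiv.prodCongr e (eCV.trans e)
        have e3 := e1.trans (e2.trans (prodPiEquiv m T))
        obtain ⟨T0, _, hs, hnc, ⟨e'⟩⟩ := shrink_transfer hTs hTnc (m + m) e3
        exact ⟨T0, _, m + m, by omega, hs, hnc, ⟨e'⟩⟩

end Cfsg.Agent.S3680
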