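import Cfsg.Statements.S3681

set_option autoImplicit false
open Cfsg

namespace Cfsg.Agent.S3681

open Equiv Equiv.Perm

/-- If the supports of `x` and `y` meet in exactly one point `a`, the commutator of `x` and `y`
is a three-cycle. -/
theorem commutator_isThreeCycle {Ω : Type*} [Fintype Ω] [DecidableEq Ω] (x y : Perm Ω) (a : Ω)
    (hxy : ∀ v, x v ≠ v → y v ≠ v → v = a) (hxa : x a ≠ a) (hya : y a ≠ a) :
    (x * y * x⁻¹ * y⁻¹).IsThreeCycle := by
  have ainv : ∀ (z : Perm Ω) (v : Ω), z (z⁻¹ v) = v := fun z v => by simp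
  have inva : ∀ (z : Perm Ω) (v : Ω), z⁻¹ (z v) = v := fun z v => by simp
  have hxya : x a ≠ y a := by
    intro h
    have h1 : x (x a) ≠ x a := fun h' => hxa (x.injective h')
    have h2 : y (x a) ≠ x a := by
      rw [h]
      exact fun h' => hya (y.injective h')
    exact hxa (hxy _ h1 h2)
  -- points of the support of `x` other than `a` are fixed by `y`, and conversely
  have hx_fix : ∀ v, v ≠ a → y v ≠ v → x v = v := fun v hv hy => by
    by_contra h
    exact hv (hxy v h hy)
  have hy_fix : ∀ v, v ≠ a → x v ≠ v → y v = v := fun v hv hx => by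
    by_contra h
    exact hv (hxy v hx h)
  have hxinv : ∀ v, x v = v → x⁻¹ v = v := fun v h => by
    rw [Perm.inv_eq_iff_eq, h]
  have hyinv : ∀ v, y v = v → y⁻¹ v = v := fun v h => by
    rw [Perm.inv_eq_iff_eq, h]
  have hw : x * y * x⁻¹ * y⁻¹ = swap a (y a) * swap a (x a) := by
    ext u
    simp only [Perm.mul_apply]
    by_cases hua : u = a
    · subst hua
      -- `y⁻¹ u` is in the support of `y` and is not `u`
      have hv1 : y (y⁻¹ u) ≠ y⁻¹ u := by
        rw [ainv]
        intro h
        apply hya
        conv_lhs => rw [h]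
        rw [ainv]
      have hv2 : y⁻¹ u ≠ u := by
        intro h
        apply hya
        rw [Perm.inv_eq_iff_eq] at h
        exact h.symm
      rw [hxinv _ (hx_fix _ hv2 hv1), ainv, swap_apply_left,
        swap_apply_of_ne_of_ne hxa hxya]
    by_cases hux : u = x a
    · subst hux
      have h1 : x (x a) ≠ x a := fun h' => hxa (x.injective h')
      have h2 : y (x a) = x a := hy_fix _ hua h1
      have h3 : y (y a) ≠ y a := fun h' => hya (y.injective h')
      rw [hyinv _ h2, inva, hx_fix _ hya h3, swap_apply_right, swap_apply_left]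
    by_cases huy : u = y a
    · subst huy
      have hv1 : x (x⁻¹ a) ≠ x⁻¹ a := by
        rw [ainv]
        intro h
        apply hxa
        conv_lhs => rw [h]
        rw [ainv]
      have hv2 : x⁻¹ a ≠ a := by
        intro h
        apply hxa
        rw [Perm.inv_eq_iff_eq] at h
        exact h.symm
      rw [inva, hy_fix _ hv2 hv1, ainv,
        swap_apply_of_ne_of_ne hua (Ne.symm hxya), swap_apply_right]
    · rw [swap_apply_of_ne_of_ne hua hux, swap_apply_of_ne_of_ne hua huy]
      by_cases hyu : y u = u
      · rw [hyinv _ hyu]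
        by_cases hxu : x u = u
        · rw [hxinv _ hxu, hyu, hxu]
        · have hv1 : x (x⁻¹ u) ≠ x⁻¹ u := by
            rw [ainv]
            intro h
            apply hxu
            conv_lhs => rw [h]
            rw [ainv]
          have hv2 : x⁻¹ u ≠ a := by
            intro h
            apply hux
            rw [Perm.inv_eq_iff_eq] at h
            exact h
          rw [hy_fix _ hv2 hv1, ainv]
      · have hxu : x u = u := hx_fix u hua hyu
        have hv1 : y (y⁻¹ u) ≠ y⁻¹ u := by
          rw [ainv]
          intro h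
          apply hyu
          conv_lhs => rw [h]
          rw [ainv]
        have hv2 : y⁻¹ u ≠ a := by
          intro h
          apply huy
          rw [Perm.inv_eq_iff_eq] at h
          exact h
        rw [hxinv _ (hx_fix _ hv2 hv1), ainv, hxu]
  rw [hw]
  exact isThreeCycle_swap_mul_swap_same (Ne.symm hya) (Ne.symm hxa) (Ne.symm hxya)

theorem card_mul_card_le {X : Type*} [Group X] [Finite X] (H K : Subgroup X) (h : H ⊓ K = ⊥) :
    Nat.card H * Nat.card K ≤ Nat.card X := by
  rw [← Nat.card_prod]
  apply Nat.card_le_card_of_injective (fun p : H × K => (p.1 : X) * (p.2 : X))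
  rintro ⟨h1, k1⟩ ⟨h2, k2⟩ heq
  simp only at heq
  have h3 : (h2 : X)⁻¹ * h1 = k2 * (k1 : X)⁻¹ := by
    rw [inv_mul_eq_iff_eq_mul, ← mul_assoc, ← heq, mul_assoc, mul_inv_cancel, mul_one]
  have h4 : (h2 : X)⁻¹ * h1 ∈ H ⊓ K :=
    ⟨H.mul_mem (H.inv_mem h2.2) h1.2, h3 ▸ K.mul_mem k2.2 (K.inv_mem k1.2)⟩
  rw [h, Subgroup.mem_bot] at h4
  have h5 : (h1 : X) = h2 := by
    rw [inv_mul_eq_one] at h4
    exact h4.symm
  have h6 : (k1 : X) = k2 := by
    rw [h5] at heq
    exact mul_left_cancel heq
  exact Prod.ext (Subtype.ext h5) (Subtype.ext h6)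

theorem bochert_perm {Ω : Type*} [Fintype Ω] [DecidableEq Ω] (G : Subgroup (Perm Ω))
    (hprim : MulAction.IsPreprimitive G Ω) (hA : ¬ alternatingGroup Ω ≤ G) :
    Nat.card G * Nat.factorial ((Fintype.card Ω + 1) / 2) ≤ Nat.factorial (Fintype.card Ω) := by
  classical
  -- `P Γ`: no non-identity element of `G` is supported inside `Γ`
  let P : Finset Ω → Prop := fun Γ => ∀ g ∈ G, (∀ u ∉ Γ, g u = u) → g = 1
  have hP0 : P ∅ := by
    intro g _ hg
    ext u
    exact hg u (Finset.notMem_empty u)
  obtain ⟨Γ, hΓmem, hΓmax⟩ := Finset.exists_max_image (Finset.univ.filter P) Finset.card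
    ⟨∅, Finset.mem_filter.2 ⟨Finset.mem_univ _, hP0⟩⟩
  have hPΓ : P Γ := (Finset.mem_filter.1 hΓmem).2
  have hmax : ∀ Γ' : Finset Ω, Γ.card < Γ'.card → ¬ P Γ' := by
    intro Γ' hlt hP'
    have := hΓmax Γ' (Finset.mem_filter.2 ⟨Finset.mem_univ _, hP'⟩)
    omega
  have hcard : Fintype.card Ω ≤ 2 * Γ.card := by
    by_contra hlt
    push Not at hlt
    have hc : Γ.card < Γᶜ.card := by
      rw [Finset.card_compl]
      omega
    have h1 := hmax _ hc
    simp only [P] at h1
    push Not at h1
    obtain ⟨x, hxG, hxsupp, hx1⟩ := h1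
    obtain ⟨a, ha⟩ : ∃ a, x a ≠ a := by
      by_contra hcon
      push Not at hcon
      exact hx1 (Equiv.ext hcon)
    have haΓ : a ∉ Γ := by
      intro h
      apply ha
      apply hxsupp
      rw [Finset.mem_compl]
      exact fun h' => h' h
    have hc2 : Γ.card < (insert a Γ).card := by
      rw [Finset.card_insert_of_notMem haΓ]
      omega
    have h2 := hmax _ hc2
    simp only [P] at h2
    push Not at h2
    obtain ⟨y, hyG, hysupp, hy1⟩ := h2
    have hya : y a ≠ a := by
      intro hya
      apply hy1
      apply hPΓ y hyG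
      intro u hu
      by_cases hua : u = a
      · rw [hua, hya]
      · apply hysupp
        rw [Finset.mem_insert]
        rintro (h | h)
        · exact hua h
        · exact hu h
    have hxy : ∀ v, x v ≠ v → y v ≠ v → v = a := by
      intro v hxv hyv
      have hv1 : v ∉ Γ := by
        intro h
        apply hxv
        apply hxsupp
        rw [Finset.mem_compl]
        exact fun h' => h' h
      have hv2 : v ∈ insert a Γ := by
        by_contra h
        exact hyv (hysupp v h)
      rcases Finset.mem_insert.1 hv2 with h | h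
      · exact h
      · exact absurd h hv1
    have h3 := commutator_isThreeCycle x y a hxy ha hya
    have hmem : x * y * x⁻¹ * y⁻¹ ∈ G :=
      G.mul_mem (G.mul_mem (G.mul_mem hxG hyG) (G.inv_mem hxG)) (G.inv_mem hyG)
    exact hA (alternatingGroup_le_of_isPreprimitive_of_isThreeCycle_mem hprim h3 hmem)
  -- the symmetric group on `Γ`, as a subgroup of the symmetric group on `Ω`
  let K : Subgroup (Perm Ω) := (ofSubtype : Perm {u // u ∈ Γ} →* Perm Ω).range
  have hK : Nat.card K = Nat.factorial Γ.card := by
    rw [← Nat.card_congr (MonoidHom.ofInjective (ofSubtype_injective (p := fun u => u ∈ Γ))).toEquiv,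
      Nat.card_perm, Nat.card_eq_fintype_card, Fintype.card_coe]
  have hGK : G ⊓ K = ⊥ := by
    rw [eq_bot_iff]
    rintro g ⟨hgG, ⟨k, rfl⟩⟩
    rw [Subgroup.mem_bot]
    apply hPΓ _ hgG
    intro u hu
    exact ofSubtype_apply_of_not_mem k hu
  have h4 := card_mul_card_le G K hGK
  rw [hK, Nat.card_perm, Nat.card_eq_fintype_card (α := Ω)] at h4
  refine le_trans (Nat.mul_le_mul_left _ (Nat.factorial_le ?_)) h4
  omega

/-- Bochert's bound for primitive groups. Let a finite group G act faithfully and primitively on a finite set Ω with n elements, and suppose the image of G in the symmetric group of Ω does not contain the alternating group of Ω. Then |G| · ⌊(n + 1)/2⌋! ≤ n!, that is, the index of G in the symmetric group is at least ⌊(n + 1)/2⌋!. -/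
theorem result {G Ω : Type*} [Group G] [Finite G] [MulAction G Ω] [FaithfulSMul G Ω] [Fintype Ω] [DecidableEq Ω]
    (hprim : MulAction.IsPreprimitive G Ω) (hA : ¬ alternatingGroup Ω ≤ (MulAction.toPermHom G Ω).range) :
    Nat.card G * Nat.factorial ((Fintype.card Ω + 1) / 2) ≤ Nat.factorial (Fintype.card Ω) := by
  have hcard : Nat.card G = Nat.card (MulAction.toPermHom G Ω).range :=
    Nat.card_congr (MonoidHom.ofInjective (f := MulAction.toPermHom G Ω)
      MulAction.toPerm_injective).toEquiv
  rw [hcard]
  apply bochert_perm _ ?_ hA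
  let f : Ω →ₑ[(MulAction.toPermHom G Ω).rangeRestrict] Ω :=
    { toFun := id
      map_smul' := fun _ _ => rfl }
  exact MulAction.IsPreprimitive.of_surjective (f := f) Function.surjective_id

end Cfsg.Agent.S3681
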