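import Cfsg.Statements.S3682
import Cfsg.Agent.Lib.Helper66.TWPerm
import Cfsg.Agent.Lib.Helper66.TWWielandt

set_option autoImplicit false
open Cfsg

namespace Cfsg.Agent.S3682

open Cfsg.Agent.Lib.Helper66.TW

/-- Wielandt's bound toward the Sims conjecture. Let a finite group G act faithfully and primitively on a set Ω, let a and b be points, and suppose the orbit of b under the stabilizer of a has length d ≥ 2. Then there are a prime p and a normal p-subgroup P of the stabilizer of a, all of whose elements fix b, such that the index of P in the stabilizer of a divides d! · ((d - 1)!)^d. -/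
theorem result {G Ω : Type*} [Group G] [Finite G] [MulAction G Ω] [FaithfulSMul G Ω] [Finite Ω]
    (hprim : MulAction.IsPreprimitive G Ω) (a b : Ω) (d : ℕ) (hd : Nat.card (MulAction.orbit (MulAction.stabilizer G a) b) = d) (h2 : 2 ≤ d) :
    ∃ p : ℕ, p.Prime ∧ ∃ P : Subgroup (MulAction.stabilizer G a), P.Normal ∧ IsPGroup p P ∧ (∀ g : P, ((g : MulAction.stabilizer G a) : G) • b = b) ∧
      P.index ∣ Nat.factorial d * (Nat.factorial (d - 1)) ^ d := by
  obtain ⟨hH, hK, hne, ⟨g, hg⟩, hrH, hrK, hcard⟩ := perm_setup hprim a b d hd h2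
  set H := MulAction.stabilizer G a with hHdef
  set K := MulAction.stabilizer G b with hKdef
  have hbot : Nat.card ↥H ∣ Nat.factorial d * (Nat.factorial (d - 1)) ^ d →
      ∃ p : ℕ, p.Prime ∧ ∃ P : Subgroup ↥H, P.Normal ∧ IsPGroup p P ∧
        (∀ g : P, ((g : ↥H) : G) • b = b) ∧
        P.index ∣ Nat.factorial d * (Nat.factorial (d - 1)) ^ d := by
    intro h
    refine ⟨2, Nat.prime_two, ⊥, inferInstance, IsPGroup.of_bot, ?_, ?_⟩
    · rintro ⟨x, hx⟩
      rw [Subgroup.mem_bot] at hx
      subst hx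
      simp
    · rw [Subgroup.index_bot]
      exact h
  by_cases hU : coreIn H (coreIn H (H ⊓ K) ⊓ coreIn K (H ⊓ K)) = ⊥
  · apply hbot
    have := count_main H K d hrH hrK
    rwa [hU, Subgroup.relIndex_bot_left] at this
  by_cases hV : coreIn K (coreIn H (H ⊓ K) ⊓ coreIn K (H ⊓ K)) = ⊥
  · apply hbot
    have hrH' : (K ⊓ H).relIndex H = d := by rw [inf_comm]; exact hrH
    have hrK' : (K ⊓ H).relIndex K = d := by rw [inf_comm]; exact hrK
    have := count_main K H d hrK' hrH'
    rw [inf_comm K H, inf_comm (coreIn K (H ⊓ K)), hV, Subgroup.relIndex_bot_left] at this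
    rwa [hcard]
  obtain ⟨p, hp, _, _, hUp, _, _⟩ := thompson_wielandt g hg hne hH hK hU hV
  set U := coreIn H (coreIn H (H ⊓ K) ⊓ coreIn K (H ⊓ K)) with hUdef
  have hUH : U ≤ H := coreIn_le_left _ _
  have hUn : H ≤ Subgroup.normalizer (U : Set G) := coreIn_normalizer H _
  have hUK : U ≤ K :=
    (coreIn_le_right _ _).trans (inf_le_right.trans (coreIn_le_left _ _))
  refine ⟨p, hp, U.subgroupOf H, Subgroup.normal_subgroupOf_of_le_normalizer hUn,
    hUp.of_equiv (Subgroup.subgroupOfEquivOfLe hUH).symm, ?_, ?_⟩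
  · rintro ⟨x, hx⟩
    have h1 : (x : G) ∈ K := hUK (Subgroup.mem_subgroupOf.mp hx)
    exact MulAction.mem_stabilizer_iff.mp h1
  · exact count_main H K d hrH hrK

end Cfsg.Agent.S3682
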