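import Cfsg.Statements.S3683

set_option autoImplicit false
open Cfsg

namespace Cfsg.Agent.S3683

theorem stab_eq_bot {G Ω : Type*} [Group G] [MulAction G Ω] [FaithfulSMul G Ω]
    (hprim : MulAction.IsPreprimitive G Ω) (a b : Ω) (hab : a ≠ b)
    (hfix : ∀ g : G, g • a = a → g • b = b) :
    MulAction.stabilizer G a = ⊥ ∧ IsCoatom (⊥ : Subgroup G) := by
  have : Nontrivial Ω := ⟨⟨a, b, hab⟩⟩
  have : MulAction.IsPretransitive G Ω := hprim.toIsPretransitive
  have hca : IsCoatom (MulAction.stabilizer G a) :=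
    (MulAction.isCoatom_stabilizer_iff_preprimitive G a).2 hprim
  have hcb : IsCoatom (MulAction.stabilizer G b) :=
    (MulAction.isCoatom_stabilizer_iff_preprimitive G b).2 hprim
  have hle : MulAction.stabilizer G a ≤ MulAction.stabilizer G b := by
    intro g hg
    rw [MulAction.mem_stabilizer_iff] at hg ⊢
    exact hfix g hg
  have heq : MulAction.stabilizer G a = MulAction.stabilizer G b := by
    rcases eq_or_lt_of_le hle with h | h
    · exact h
    · exact absurd (hca.2 _ h) hcb.1
  obtain ⟨g, hg⟩ := MulAction.exists_smul_eq G a b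
  have hgn : g ∈ Subgroup.normalizer (MulAction.stabilizer G a : Set G) := by
    rw [Subgroup.mem_normalizer_iff]
    intro h
    have h1 : MulAction.stabilizer G b
        = Subgroup.map (MulEquiv.toMonoidHom (MulAut.conj g)) (MulAction.stabilizer G a) := by
      rw [← hg, MulAction.stabilizer_smul_eq_stabilizer_map_conj]
    constructor
    · intro hh
      have : g * h * g⁻¹ ∈ MulAction.stabilizer G b := by
        rw [h1]
        exact ⟨h, hh, rfl⟩
      rwa [← heq] at this
    · intro hh
      rw [heq, h1] at hh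
      obtain ⟨k, hk, hk2⟩ := hh
      have : k = h := by
        have := hk2
        simp only [MulEquiv.coe_toMonoidHom, MulAut.conj_apply] at this
        exact mul_left_cancel (mul_right_cancel this)
      rwa [← this]
  have hgnot : g ∉ MulAction.stabilizer G a := by
    intro h
    rw [MulAction.mem_stabilizer_iff] at h
    exact hab (h.symm.trans hg)
  have hnorm : Subgroup.normalizer (MulAction.stabilizer G a : Set G) = ⊤ := by
    apply hca.2
    exact lt_of_le_of_ne Subgroup.le_normalizer (fun h => hgnot (h ▸ hgn))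
  have hN : (MulAction.stabilizer G a).Normal := Subgroup.normalizer_eq_top_iff.1 hnorm
  have hbot : MulAction.stabilizer G a = ⊥ := by
    rw [eq_bot_iff]
    intro h hh
    rw [Subgroup.mem_bot]
    apply FaithfulSMul.eq_of_smul_eq_smul (α := Ω)
    intro x
    obtain ⟨k, rfl⟩ := MulAction.exists_smul_eq G a x
    have h2 : k⁻¹ * h * k ∈ MulAction.stabilizer G a := by
      have := hN.conj_mem h hh k⁻¹
      simpa using this
    rw [MulAction.mem_stabilizer_iff] at h2
    rw [one_smul]
    calc h • k • a = k • ((k⁻¹ * h * k) • a) := by simp [mul_smul]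
      _ = k • a := by rw [h2]
  exact ⟨hbot, hbot ▸ hca⟩

theorem result {G Ω : Type*} [Group G] [Finite G] [MulAction G Ω] [FaithfulSMul G Ω] [Finite Ω]
    (hprim : MulAction.IsPreprimitive G Ω) (a b : Ω) (hab : a ≠ b) (hfix : ∀ g : G, g • a = a → g • b = b) :
    MulAction.stabilizer G a = ⊥ ∧ IsCyclic G ∧ (Nat.card G).Prime := by
  obtain ⟨hbot, hco⟩ := stab_eq_bot hprim a b hab hfix
  refine ⟨hbot, ?_⟩
  have hne : (⊥ : Subgroup G) ≠ ⊤ := hco.1
  have hcard : Nat.card G ≠ 1 := by
    intro h1
    apply hne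
    have : Subsingleton G := (Nat.card_eq_one_iff_unique.1 h1).1
    exact Subsingleton.elim _ _
  obtain ⟨p, hp, hpd⟩ := Nat.exists_prime_and_dvd hcard
  have : Fact p.Prime := ⟨hp⟩
  obtain ⟨x, hx⟩ := exists_prime_orderOf_dvd_card' p hpd
  have hx1 : x ≠ 1 := by
    rintro rfl
    rw [orderOf_one] at hx
    exact hp.one_lt.ne hx
  have htop : Subgroup.zpowers x = ⊤ := by
    apply hco.2
    rw [bot_lt_iff_ne_bot]
    intro h
    exact hx1 (Subgroup.zpowers_eq_bot.1 h)
  have hcardp : Nat.card G = p := by
    rw [← hx, ← Nat.card_zpowers, htop, Subgroup.card_top]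
  refine ⟨⟨x, fun y => ?_⟩, hcardp ▸ hp⟩
  have : y ∈ Subgroup.zpowers x := htop ▸ Subgroup.mem_top y
  exact this

end Cfsg.Agent.S3683
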