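import Cfsg.Statements.S3684
import Cfsg.Agent.S3683
import Cfsg.Agent.Lib.Helper66.DihedralIso

set_option autoImplicit false
open Cfsg

namespace Cfsg.Agent.S3684

open Cfsg.Agent.Lib.Helper06 Cfsg.Agent.Lib.Helper66

theorem le_normalizer_of_conj_mem {G : Type*} [Group G] (S M : Subgroup G)
    (h : ∀ g ∈ S, ∀ x ∈ M, g * x * g⁻¹ ∈ M) : S ≤ Subgroup.normalizer (M : Set G) := by
  intro g hg
  rw [Subgroup.mem_normalizer_iff]
  intro x
  constructor
  · exact h g hg x
  · intro hx
    have := h g⁻¹ (S.inv_mem hg) _ hx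
    simpa [mul_assoc] using this

theorem normal_le_stabilizer_eq_bot {G Ω : Type*} [Group G] [MulAction G Ω] [FaithfulSMul G Ω]
    [MulAction.IsPretransitive G Ω] (N : Subgroup G) (hN : N.Normal) (a : Ω)
    (h : N ≤ MulAction.stabilizer G a) : N = ⊥ := by
  rw [eq_bot_iff]
  intro n hn
  rw [Subgroup.mem_bot]
  apply FaithfulSMul.eq_of_smul_eq_smul (α := Ω)
  intro x
  obtain ⟨k, rfl⟩ := MulAction.exists_smul_eq G a x
  have h2 : k⁻¹ * n * k ∈ MulAction.stabilizer G a := by
    have := hN.conj_mem n hn k⁻¹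
    apply h
    simpa using this
  rw [MulAction.mem_stabilizer_iff] at h2
  rw [one_smul]
  calc n • k • a = k • ((k⁻¹ * n * k) • a) := by simp [mul_smul]
    _ = k • a := by rw [h2]

theorem card_two_exists {G : Type*} [Group G] (H : Subgroup G) (h : Nat.card H = 2) :
    ∃ t : G, orderOf t = 2 ∧ H = Subgroup.zpowers t := by
  have : Finite H := Nat.finite_of_card_ne_zero (by rw [h]; norm_num)
  have : Fact (Nat.Prime 2) := ⟨Nat.prime_two⟩
  obtain ⟨t, ht⟩ := exists_prime_orderOf_dvd_card' (G := H) 2 (by rw [h])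
  refine ⟨(t : G), ?_, ?_⟩
  · rw [Subgroup.orderOf_coe, ht]
  · symm
    apply Subgroup.eq_of_le_of_card_ge
    · rw [Subgroup.zpowers_le]
      exact t.2
    · rw [h, Nat.card_zpowers, Subgroup.orderOf_coe, ht]

theorem result {G Ω : Type*} [Group G] [Finite G] [MulAction G Ω] [FaithfulSMul G Ω] [Finite Ω]
    (hprim : MulAction.IsPreprimitive G Ω) (a b : Ω) (h2 : Nat.card (MulAction.orbit (MulAction.stabilizer G a) b) = 2) :
    Nat.card (MulAction.stabilizer G a) = 2 ∧ ∃ p : ℕ, p.Prime ∧ Nonempty (G ≃* DihedralGroup p) := by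
  have : MulAction.IsPretransitive G Ω := hprim.toIsPretransitive
  have hab : a ≠ b := by
    rintro rfl
    have : MulAction.orbit (MulAction.stabilizer G a) a = {a} := by
      ext x
      constructor
      · rintro ⟨h, rfl⟩
        exact h.2
      · rintro rfl
        exact MulAction.mem_orbit_self _
    rw [this] at h2
    simp at h2
  have : Nontrivial Ω := ⟨⟨a, b, hab⟩⟩
  have hca : IsCoatom (MulAction.stabilizer G a) :=
    (MulAction.isCoatom_stabilizer_iff_preprimitive G a).2 hprim
  have hidx : (MulAction.stabilizer (MulAction.stabilizer G a) b).index = 2 := by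
    rw [MulAction.index_stabilizer, ← Nat.card_coe_set_eq]
    exact h2
  have hstab : MulAction.stabilizer (MulAction.stabilizer G a) b
      = (MulAction.stabilizer G b).subgroupOf (MulAction.stabilizer G a) := by
    ext x
    rfl
  generalize hH : MulAction.stabilizer G a = H at *
  generalize hK : MulAction.stabilizer G b = K at *
  have hnorm1 : (K.subgroupOf H).Normal := hstab ▸ Subgroup.normal_of_index_eq_two hidx
  have hrel1 : K.relIndex H = 2 := by
    rw [Subgroup.relIndex, ← hstab]
    exact hidx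
  obtain ⟨g, hg⟩ := MulAction.exists_smul_eq G a b
  have hcardHK : Nat.card K = Nat.card H := by
    have h1 : K = Subgroup.map (MulEquiv.toMonoidHom (MulAut.conj g)) H := by
      rw [← hK, ← hH, ← hg, MulAction.stabilizer_smul_eq_stabilizer_map_conj]
    rw [h1]
    exact Nat.card_congr (H.equivMapOfInjective _ (MulAut.conj g).injective).toEquiv.symm
  have hcardH : Nat.card H = Nat.card (H ⊓ K : Subgroup G) * 2 := by
    rw [← Subgroup.relIndex_bot_left, ← Subgroup.relIndex_mul_relIndex ⊥ (H ⊓ K) H bot_le inf_le_left,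
      Subgroup.relIndex_bot_left, Subgroup.inf_relIndex_left, hrel1]
  have hrel2 : H.relIndex K = 2 := by
    have h3 : Nat.card K = Nat.card (H ⊓ K : Subgroup G) * H.relIndex K := by
      rw [← Subgroup.relIndex_bot_left, ← Subgroup.relIndex_mul_relIndex ⊥ (H ⊓ K) K bot_le inf_le_right,
        Subgroup.relIndex_bot_left, Subgroup.inf_relIndex_right]
    rw [hcardHK, hcardH] at h3
    have hpos : 0 < Nat.card (H ⊓ K : Subgroup G) := Nat.card_pos
    exact (Nat.eq_of_mul_eq_mul_left hpos h3).symm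
  have hnorm2 : (H.subgroupOf K).Normal := Subgroup.normal_of_index_eq_two hrel2
  have hHn : H ≤ Subgroup.normalizer ((H ⊓ K : Subgroup G) : Set G) := by
    apply le_normalizer_of_conj_mem
    intro h hh x hx
    refine Subgroup.mem_inf.2 ⟨H.mul_mem (H.mul_mem hh hx.1) (H.inv_mem hh), ?_⟩
    have := hnorm1.conj_mem ⟨x, hx.1⟩ (Subgroup.mem_subgroupOf.2 hx.2) ⟨h, hh⟩
    exact Subgroup.mem_subgroupOf.1 this
  have hKn : K ≤ Subgroup.normalizer ((H ⊓ K : Subgroup G) : Set G) := by
    apply le_normalizer_of_conj_mem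
    intro k hk x hx
    refine Subgroup.mem_inf.2 ⟨?_, K.mul_mem (K.mul_mem hk hx.2) (K.inv_mem hk)⟩
    have := hnorm2.conj_mem ⟨x, hx.2⟩ (Subgroup.mem_subgroupOf.2 hx.1) ⟨k, hk⟩
    exact Subgroup.mem_subgroupOf.1 this
  have hne : H ≠ K := by
    intro hHK
    have hfix : ∀ g : G, g • a = a → g • b = b := by
      intro g hga
      have : g ∈ MulAction.stabilizer G a := hga
      rw [hH, hHK, ← hK] at this
      exact this
    have hbot := (Cfsg.Agent.S3683.stab_eq_bot hprim a b hab hfix).1
    rw [hH] at hbot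
    rw [hbot, Subgroup.card_bot] at hcardH
    omega
  have hsup : H ⊔ K = ⊤ := by
    apply hca.2
    apply lt_of_le_of_ne le_sup_left
    intro h
    apply hne
    symm
    apply Subgroup.eq_of_le_of_card_ge
    · rw [h]
      exact le_sup_right
    · rw [hcardHK]
  have hMn : (H ⊓ K : Subgroup G).Normal := by
    rw [← Subgroup.normalizer_eq_top_iff, eq_top_iff, ← hsup]
    exact sup_le hHn hKn
  have hMbot : H ⊓ K = ⊥ := by
    apply normal_le_stabilizer_eq_bot _ hMn a
    rw [hH]
    exact inf_le_left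
  have hcH : Nat.card H = 2 := by
    rw [hcardH, hMbot, Subgroup.card_bot]
  refine ⟨hcH, ?_⟩
  have hcK : Nat.card K = 2 := hcardHK.trans hcH
  obtain ⟨t, ht, hHt⟩ := card_two_exists H hcH
  obtain ⟨s, hs, hKs⟩ := card_two_exists K hcK
  have htop : Subgroup.closure ({t, s} : Set G) = ⊤ := by
    have : ({t, s} : Set G) = {t} ∪ {s} := by
      ext x
      simp [or_comm]
    rw [this, Subgroup.closure_union, ← Subgroup.zpowers_eq_closure, ← Subgroup.zpowers_eq_closure,
      ← hHt, ← hKs, hsup]
  obtain ⟨e⟩ := nonempty_equiv_dihedral_of_closure_eq_top ht hs htop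
  have hcardG : Nat.card G = 2 * orderOf (t * s) := by
    rw [Nat.card_congr e.toEquiv, DihedralGroup.nat_card]
  have ht1 := sq_one_of_orderOf_two ht
  have hs1 := sq_one_of_orderOf_two hs
  have hn1 : orderOf (t * s) ≠ 1 := by
    intro h1
    rw [orderOf_eq_one_iff] at h1
    apply hne
    rw [hHt, hKs]
    have : s = t := by
      calc s = (t * t) * s := by rw [ht1, one_mul]
        _ = t * (t * s) := by group
        _ = t := by rw [h1, mul_one]
    rw [this]
  have hn0 : 0 < orderOf (t * s) := orderOf_pos _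
  have hp : (orderOf (t * s)).minFac.Prime := Nat.minFac_prime hn1
  have hpd : (orderOf (t * s)).minFac ∣ orderOf (t * s) := Nat.minFac_dvd _
  set n := orderOf (t * s) with hn
  set p := n.minFac with hpdef
  obtain ⟨m, hm⟩ := hpd
  have hm0 : m ≠ 0 := by
    rintro rfl
    rw [mul_zero] at hm
    omega
  have hord : orderOf ((t * s) ^ m) = p := by
    rw [orderOf_pow_of_dvd hm0 ⟨p, by rw [← hn, hm, mul_comm]⟩, ← hn, hm]
    exact Nat.mul_div_cancel _ (Nat.pos_of_ne_zero hm0)
  have hy1 : (t * (t * s) ^ m) * (t * (t * s) ^ m) = 1 := by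
    have := refl_sq ht1 hs1 (m : ℤ)
    rwa [zpow_natCast] at this
  have hy2 : t * (t * s) ^ m ≠ 1 := by
    intro h
    apply x_not_mem_zpowers ht hs
    have : t = ((t * s) ^ m)⁻¹ := eq_inv_of_mul_eq_one_left h
    have hmem : ((t * s) ^ m)⁻¹ ∈ Subgroup.zpowers (t * s) :=
      Subgroup.inv_mem _ (Subgroup.npow_mem_zpowers _ _)
    rwa [← this] at hmem
  have hy : orderOf (t * (t * s) ^ m) = 2 := orderOf_two_of_sq_one hy1 hy2
  have hcardL := card_closure_pair ht hy
  have hprod : t * (t * (t * s) ^ m) = (t * s) ^ m := by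
    rw [← mul_assoc, ht1, one_mul]
  rw [hprod, hord] at hcardL
  have hHL : H ≤ Subgroup.closure ({t, t * (t * s) ^ m} : Set G) := by
    rw [hHt, Subgroup.zpowers_le]
    exact Subgroup.subset_closure (by simp)
  have hLtop : Subgroup.closure ({t, t * (t * s) ^ m} : Set G) = ⊤ := by
    apply hca.2
    apply lt_of_le_of_ne hHL
    intro h
    rw [← h, hcH] at hcardL
    have := hp.two_le
    omega
  rw [hLtop, Subgroup.card_top, hcardG] at hcardL
  have hnp : n = p := by omega
  exact ⟨n, hnp ▸ hp, ⟨e⟩⟩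

end Cfsg.Agent.S3684
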