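import Cfsg.Statements.S3688
import Cfsg.Agent.Lib.Helper66.TWPerm

set_option autoImplicit false
open Cfsg

namespace Cfsg.Agent.S3688

open Cfsg.Agent.Lib.Helper66.TW

/-- Let a finite group G act faithfully and primitively on a set Ω, let a and b be points such that the orbit of b under the stabilizer H of a has length d ≥ 2, and suppose that H is not strongly constrained: for no prime p does the generalized Fitting subgroup of H coincide with the largest normal p-subgroup of H. Then the order of H divides d! · ((d - 1)!)^d. -/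
theorem result {G Ω : Type*} [Group G] [Finite G] [MulAction G Ω] [FaithfulSMul G Ω] [Finite Ω]
    (hprim : MulAction.IsPreprimitive G Ω) (a b : Ω) (d : ℕ) (hd : Nat.card (MulAction.orbit (MulAction.stabilizer G a) b) = d) (h2 : 2 ≤ d)
    (hnc : ∀ p : ℕ, p.Prime → Cfsg.generalizedFittingSubgroup (MulAction.stabilizer G a) ≠ Cfsg.pCore p (MulAction.stabilizer G a)) :
    Nat.card (MulAction.stabilizer G a) ∣ Nat.factorial d * (Nat.factorial (d - 1)) ^ d := by
  obtain ⟨hH, hK, hne, ⟨g, hg⟩, hrH, hrK, hcard⟩ := perm_setup hprim a b d hd h2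
  set H := MulAction.stabilizer G a with hHdef
  set K := MulAction.stabilizer G b with hKdef
  by_cases hU : coreIn H (coreIn H (H ⊓ K) ⊓ coreIn K (H ⊓ K)) = ⊥
  · have := count_main H K d hrH hrK
    rwa [hU, Subgroup.relIndex_bot_left] at this
  by_cases hV : coreIn K (coreIn H (H ⊓ K) ⊓ coreIn K (H ⊓ K)) = ⊥
  · have hrH' : (K ⊓ H).relIndex H = d := by rw [inf_comm]; exact hrH
    have hrK' : (K ⊓ H).relIndex K = d := by rw [inf_comm]; exact hrK
    have := count_main K H d hrK' hrH'
    rw [inf_comm K H, inf_comm (coreIn K (H ⊓ K)), hV, Subgroup.relIndex_bot_left] at this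
    rwa [hcard]
  exfalso
  obtain ⟨p, hp, hc, _⟩ := thompson_main g hg hne hH hK hU hV
  have : Fact p.Prime := ⟨hp⟩
  exact hnc p hp (genFitting_eq_pCore_of_internal hc)

end Cfsg.Agent.S3688
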