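import Cfsg.Statements.S3693
-- import your own Cfsg.Agent.* helpers here

import Cfsg.Agent.Lib.Helper66.TWPermFitting

set_option autoImplicit false
open Cfsg

namespace Cfsg.Agent.S3693

open Cfsg.Agent.Lib.Helper66.TW

/-- Let a finite group G act faithfully and primitively on a set Ω, let a and b be points such that the orbit Δ of b under the stabilizer H of a has length d ≥ 2, and consider the permutation group induced on Δ by the elements of H fixing b. If that induced group has trivial Fitting subgroup (no non-trivial nilpotent normal subgroup), then the two-point stabilizer of a and b has trivial Fitting subgroup and the order of H divides d! · ((d - 1)!)^d. -/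
theorem result {G Ω : Type*} [Group G] [Finite G] [MulAction G Ω] [FaithfulSMul G Ω] [Finite Ω]
    (hprim : MulAction.IsPreprimitive G Ω) (a b : Ω) (d : ℕ) (hd : Nat.card (MulAction.orbit (MulAction.stabilizer G a) b) = d) (h2 : 2 ≤ d)
    (hF : Cfsg.fittingSubgroup ↥(((MulAction.stabilizer G b).subgroupOf (MulAction.stabilizer G a)).map (MulAction.toPermHom (MulAction.stabilizer G a) (MulAction.orbit (MulAction.stabilizer G a) b))) = ⊥) :
    Cfsg.fittingSubgroup ↥(MulAction.stabilizer G a ⊓ MulAction.stabilizer G b) = ⊥ ∧
      Nat.card (MulAction.stabilizer G a) ∣ Nat.factorial d * (Nat.factorial (d - 1)) ^ d := by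
  obtain ⟨hH, hK, hne, ⟨g, hg⟩, hrH, hrK, hcard⟩ := perm_setup hprim a b d hd h2
  have hO : ∀ q : ℕ, q.Prime →
      Cfsg.Agent.Lib.Helper67.opIn q (MulAction.stabilizer G a ⊓ MulAction.stabilizer G b) = ⊥ := by
    intro q hq
    have : Fact q.Prime := ⟨hq⟩
    exact opIn_inf_eq_bot g hg hne hH hK
      (fun X hXD hXn hXq => core_of_fitting_eq_bot a b hF q X hXD hXn hXq)
  refine ⟨fitting_eq_bot_of_opIn hO, ?_⟩
  set H := MulAction.stabilizer G a with hHdef
  set K := MulAction.stabilizer G b with hKdef
  rcases second_core_eq_bot_of_opIn g hg hne hH hK hO with hU | hV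
  · have := count_main H K d hrH hrK
    rwa [hU, Subgroup.relIndex_bot_left] at this
  · have hrH' : (K ⊓ H).relIndex H = d := by rw [inf_comm]; exact hrH
    have hrK' : (K ⊓ H).relIndex K = d := by rw [inf_comm]; exact hrK
    have := count_main K H d hrK' hrH'
    rw [inf_comm K H, inf_comm (coreIn K (H ⊓ K)), hV, Subgroup.relIndex_bot_left] at this
    rwa [hcard]

end Cfsg.Agent.S3693
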