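import Cfsg.Statements.S3696

set_option autoImplicit false
open Cfsg

namespace Cfsg.Agent.S3696

/-- AM-GM for natural numbers. -/
theorem amgm_nat {ι : Type*} (S : Finset ι) (m : ι → ℕ) :
    (∏ j ∈ S, m j) * S.card ^ S.card ≤ (∑ j ∈ S, m j) ^ S.card := by
  rcases S.eq_empty_or_nonempty with rfl | hne
  · simp
  have hk : 0 < S.card := Finset.card_pos.2 hne
  have hkR : (0 : ℝ) < S.card := by exact_mod_cast hk
  have key := Real.geom_mean_le_arith_mean_weighted S (fun _ => (1 : ℝ) / S.card)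
    (fun j => (m j : ℝ)) (fun _ _ => by positivity)
    (by rw [Finset.sum_const, nsmul_eq_mul]; field_simp) (fun _ _ => by positivity)
  have h1 : (∏ j ∈ S, ((m j : ℝ) ^ ((1 : ℝ) / S.card))) ^ S.card = ∏ j ∈ S, (m j : ℝ) := by
    rw [← Finset.prod_pow]
    apply Finset.prod_congr rfl
    intro j _
    rw [← Real.rpow_natCast, ← Real.rpow_mul (by positivity)]
    rw [one_div, inv_mul_cancel₀ hkR.ne', Real.rpow_one]
  have h2 : (∑ j ∈ S, (1 : ℝ) / S.card * m j) = (∑ j ∈ S, (m j : ℝ)) / S.card := by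
    rw [← Finset.mul_sum]; ring
  have h3 := pow_le_pow_left₀ (Finset.prod_nonneg (fun j _ => by positivity)) key S.card
  rw [h1, h2, div_pow, le_div_iff₀ (by positivity)] at h3
  exact_mod_cast h3

theorem sum_le_prod {ι : Type*} (s : Finset ι) (f : ι → ℕ) (hf : ∀ j ∈ s, 2 ≤ f j) :
    ∑ j ∈ s, f j ≤ ∏ j ∈ s, f j := by
  classical
  rcases s.eq_empty_or_nonempty with rfl | hne
  · simp
  suffices h : ∑ j ∈ s, f j ≤ ∏ j ∈ s, f j ∧ 2 ≤ ∏ j ∈ s, f j from h.1
  induction hne using Finset.Nonempty.cons_induction with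
  | singleton a => simpa using hf a (by simp)
  | cons a s ha hs ih =>
    have h2 := ih (fun j hj => hf j (Finset.mem_cons.2 (Or.inr hj)))
    have ha2 := hf a (Finset.mem_cons_self a s)
    rw [Finset.sum_cons, Finset.prod_cons]
    constructor
    · nlinarith [h2.1, h2.2]
    · nlinarith [h2.1, h2.2]

theorem greedy {A κ : Type*} [Group A] [Finite A] (p : ℕ) (hp : p.Prime) (K : κ → Subgroup A)
    (hK : ∀ a : A, (∀ j, a ∈ K j) → a = 1) :
    ∀ (t : ℕ) (W : Subgroup A), Nat.card W = p ^ t →
      ∃ S : Finset κ, S.card ≤ t ∧ W ⊓ ⨅ j ∈ S, K j = ⊥ := by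
  classical
  intro t
  induction t using Nat.strong_induction_on with
  | _ t ih =>
    intro W hW
    by_cases hWbot : W = ⊥
    · exact ⟨∅, Nat.zero_le _, by simp [hWbot]⟩
    · obtain ⟨⟨x, hxW⟩, hx1'⟩ := (Subgroup.ne_bot_iff_exists_ne_one).1 hWbot
      have hx1 : x ≠ 1 := fun h => hx1' (Subtype.ext h)
      obtain ⟨j, hj⟩ : ∃ j, x ∉ K j := by
        by_contra h
        push Not at h
        exact hx1 (hK x h)
      have hlt : W ⊓ K j < W :=
        lt_of_le_of_ne inf_le_left (fun h => hj ((h.symm.le hxW : x ∈ W ⊓ K j).2))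
      have hdvd : Nat.card (W ⊓ K j : Subgroup A) ∣ p ^ t :=
        hW ▸ Subgroup.card_dvd_of_le inf_le_left
      obtain ⟨t', ht'le, ht'⟩ := (Nat.dvd_prime_pow hp).1 hdvd
      have ht'lt : t' < t := by
        have h1 : ((W ⊓ K j : Subgroup A) : Set A).ncard < (W : Set A).ncard :=
          Set.ncard_lt_ncard (SetLike.coe_ssubset_coe.2 hlt) (Set.toFinite _)
        rw [← Nat.card_coe_set_eq, ← Nat.card_coe_set_eq] at h1
        change Nat.card (W ⊓ K j : Subgroup A) < Nat.card W at h1
        rw [ht', hW] at h1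
        exact (Nat.pow_lt_pow_iff_right hp.one_lt).1 h1
      obtain ⟨S', hS'c, hS'⟩ := ih t' ht'lt (W ⊓ K j) ht'
      refine ⟨insert j S', ?_, ?_⟩
      · exact (Finset.card_insert_le _ _).trans (by omega)
      · rw [Finset.iInf_insert, ← inf_assoc]
        exact hS'

theorem card_pow_eq_one_le (p : ℕ) (hp : 0 < p) (n : ℕ) [NeZero n] :
    Nat.card {y : Multiplicative (ZMod n) // y ^ p = 1} ≤ p := by
  classical
  have h := IsCyclic.card_pow_eq_one_le (α := Multiplicative (ZMod n)) hp
  rw [Nat.card_eq_fintype_card, Fintype.card_subtype]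
  exact h

theorem key2 {A : Type*} [CommGroup A] [Finite A] (p : ℕ) (hp : p.Prime) (hA : IsPGroup p A)
    (k : ℕ) (hk : Nat.card {x : A // x ^ p = 1} = p ^ k)
    {κ : Type*} [Fintype κ] (m : κ → ℕ) [∀ j, NeZero (m j)]
    (f : ∀ j, A →* Multiplicative (ZMod (m j)))
    (hf : ∀ a : A, (∀ j, f j a = 1) → a = 1) :
    Nat.card A * k ^ k ≤ (∑ j, m j) ^ k := by
  classical
  set W : Subgroup A := (powMonoidHom p : A →* A).ker with hWdef
  have hWmem : ∀ x : A, x ∈ W ↔ x ^ p = 1 := fun x => by
    rw [hWdef, MonoidHom.mem_ker, powMonoidHom_apply]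
  have hWcard : Nat.card W = p ^ k := by
    rw [← hk]
    exact Nat.card_congr (Equiv.subtypeEquivRight hWmem)
  obtain ⟨S, hSk, hS⟩ := greedy p hp (fun j => (f j).ker)
    (fun a ha => hf a (fun j => MonoidHom.mem_ker.1 (ha j))) k W hWcard
  have hJ : ⨅ j ∈ S, (f j).ker = ⊥ := by
    by_contra hne
    have hJp : IsPGroup p (⨅ j ∈ S, (f j).ker : Subgroup A) := hA.to_subgroup _
    have hcard : 1 < Nat.card (⨅ j ∈ S, (f j).ker : Subgroup A) :=
      (Subgroup.one_lt_card_iff_ne_bot _).2 hne
    have : Fact p.Prime := ⟨hp⟩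
    obtain ⟨n, hn⟩ := IsPGroup.iff_card.1 hJp
    have hn0 : n ≠ 0 := by
      rintro rfl
      rw [hn] at hcard
      simp at hcard
    have hdvd : p ∣ Nat.card (⨅ j ∈ S, (f j).ker : Subgroup A) := by
      rw [hn]
      exact dvd_pow_self p hn0
    obtain ⟨x, hx⟩ := exists_prime_orderOf_dvd_card' p hdvd
    have hxp : (x : A) ^ p = 1 := by
      rw [← Subgroup.coe_pow, ← hx, pow_orderOf_eq_one, Subgroup.coe_one]
    have hxmem : (x : A) ∈ W ⊓ ⨅ j ∈ S, (f j).ker := ⟨(hWmem _).2 hxp, x.2⟩
    rw [hS, Subgroup.mem_bot] at hxmem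
    have hx1 : x = 1 := Subtype.ext hxmem
    rw [hx1, orderOf_one] at hx
    exact hp.one_lt.ne hx
  have hinj : Function.Injective (fun (a : A) (j : S) => f j a) := by
    intro a b hab
    have hmem : a * b⁻¹ ∈ (⨅ j ∈ S, (f j).ker : Subgroup A) := by
      simp only [Subgroup.mem_iInf, MonoidHom.mem_ker]
      intro j hj
      have := congrFun hab ⟨j, hj⟩
      simp only at this
      rw [map_mul, map_inv, this, mul_inv_cancel]
    rw [hJ, Subgroup.mem_bot] at hmem
    exact mul_inv_eq_one.1 hmem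
  have hcardA : Nat.card A ≤ ∏ j ∈ S, m j := by
    have h1 := Nat.card_le_card_of_injective _ hinj
    rw [Nat.card_pi] at h1
    have h2 : ∀ j : S, Nat.card (Multiplicative (ZMod (m j))) = m j := fun j => by
      rw [Nat.card_eq_fintype_card, Fintype.card_multiplicative, ZMod.card]
    rw [Finset.prod_congr rfl (fun j _ => h2 j)] at h1
    rwa [Finset.prod_coe_sort S m] at h1
  have hkS : k ≤ S.card := by
    have hinj2 : Function.Injective
        (fun (a : {x : A // x ^ p = 1}) (j : S) =>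
          (⟨f j a.1, by rw [← map_pow, a.2, map_one]⟩ :
            {y : Multiplicative (ZMod (m j)) // y ^ p = 1})) := by
      intro a b hab
      apply Subtype.ext
      apply hinj
      funext j
      have := congrFun hab j
      exact congrArg Subtype.val this
    have h1 := Nat.card_le_card_of_injective _ hinj2
    rw [Nat.card_pi, hk] at h1
    have h2 : ∏ j : S, Nat.card {y : Multiplicative (ZMod (m j)) // y ^ p = 1} ≤ ∏ _j : S, p :=
      Finset.prod_le_prod' (fun j _ => card_pow_eq_one_le p hp.pos (m j))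
    rw [Finset.prod_const, Finset.card_univ, Fintype.card_coe] at h2
    exact (Nat.pow_le_pow_iff_right hp.one_lt).1 (h1.trans h2)
  have hSeq : S.card = k := le_antisymm hSk hkS
  have h3 := amgm_nat S m
  rw [hSeq] at h3
  calc Nat.card A * k ^ k ≤ (∏ j ∈ S, m j) * k ^ k := Nat.mul_le_mul_right _ hcardA
    _ ≤ (∑ j ∈ S, m j) ^ k := h3
    _ ≤ (∑ j, m j) ^ k :=
      Nat.pow_le_pow_left (Finset.sum_le_sum_of_subset (Finset.subset_univ S)) k

theorem key {A : Type*} [CommGroup A] [Finite A] (p : ℕ) (hp : p.Prime) (hA : IsPGroup p A)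
    (k : ℕ) (hk : Nat.card {x : A // x ^ p = 1} = p ^ k)
    {ι : Type*} [Fintype ι] (H : ι → Subgroup A) (hH : ∀ a : A, (∀ i, a ∈ H i) → a = 1) :
    Nat.card A * k ^ k ≤ (∑ i, (H i).index) ^ k := by
  classical
  choose ι' hfin n hn he using
    fun i => CommGroup.equiv_prod_multiplicative_zmod_of_finite (A ⧸ H i)
  have : ∀ i, Fintype (ι' i) := hfin
  have hne : ∀ j : (Σ i, ι' i), NeZero (n j.1 j.2) := fun j => ⟨by have := hn j.1 j.2; omega⟩
  have h1 := key2 p hp hA k hk (κ := Σ i, ι' i) (fun j => n j.1 j.2)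
    (fun j => (Pi.evalMonoidHom _ j.2).comp
      ((he j.1).some.toMonoidHom.comp (QuotientGroup.mk' (H j.1))))
    (by
      intro a ha
      apply hH
      intro i
      have h2 : (he i).some (QuotientGroup.mk' (H i) a) = 1 := by
        funext j
        exact ha ⟨i, j⟩
      have h3 : (QuotientGroup.mk' (H i) a) = 1 := by
        rw [← (he i).some.map_one] at h2
        exact (he i).some.injective h2
      exact (QuotientGroup.eq_one_iff a).1 h3)
  refine h1.trans (Nat.pow_le_pow_left ?_ k)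
  rw [Fintype.sum_sigma]
  apply Finset.sum_le_sum
  intro i _
  have h4 : (H i).index = ∏ j, n i j := by
    rw [Subgroup.index, Nat.card_congr (he i).some.toEquiv, Nat.card_pi]
    apply Finset.prod_congr rfl
    intro j _
    have : NeZero (n i j) := ⟨by have := hn i j; omega⟩
    rw [Nat.card_eq_fintype_card, Fintype.card_multiplicative, ZMod.card]
  rw [h4]
  exact sum_le_prod _ _ (fun j _ => hn i j)

/-- Let p be a prime, Ω a finite set with n ≥ p elements, and A an abelian p-subgroup of the symmetric group on Ω whose elements of order dividing p number p^k (so k is the rank of A). Then |A| · k^k ≤ n^k, that is, |A| ≤ (n/k)^k. -/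
theorem result {Ω : Type*} [Fintype Ω] [DecidableEq Ω]
    (p : ℕ) (hp : p.Prime) (hn : p ≤ Fintype.card Ω) (A : Subgroup (Equiv.Perm Ω)) (hA : IsPGroup p A) (hab : IsMulCommutative A)
    (k : ℕ) (hk : Nat.card {x : A // x ^ p = 1} = p ^ k) :
    Nat.card A * k ^ k ≤ Fintype.card Ω ^ k := by
  classical
  let _ : CommGroup A := { (inferInstance : Group A) with mul_comm := fun a b => mul_comm' a b }
  have h := key p hp hA k hk (ι := MulAction.orbitRel.Quotient A Ω)
    (fun q => MulAction.stabilizer A q.out) (by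
      intro a ha
      apply Subtype.ext
      apply Equiv.ext
      intro ω
      have hω : ω ∈ MulAction.orbit A (Quotient.out (Quotient.mk'' ω : MulAction.orbitRel.Quotient A Ω)) := by
        rw [← MulAction.orbitRel_apply]
        exact Quotient.exact' (Quotient.out_eq' _).symm
      obtain ⟨b, hb⟩ := hω
      have h1 := ha (Quotient.mk'' ω)
      rw [MulAction.mem_stabilizer_iff] at h1
      change a • ω = ω
      rw [← hb, smul_smul, mul_comm, ← smul_smul, h1])
  refine h.trans (le_of_eq ?_)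
  congr 1
  rw [← Nat.card_eq_fintype_card (α := Ω), Nat.card_congr (MulAction.selfEquivSigmaOrbits A Ω),
    Nat.card_sigma]
  apply Finset.sum_congr rfl
  intro q _
  rw [MulAction.index_stabilizer, Nat.card_coe_set_eq]

end Cfsg.Agent.S3696
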