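import Mathlib
import Cfsg.Statements.S3703
import Cfsg.Agent.S0034

set_option autoImplicit false
open Cfsg

namespace Cfsg.Agent.S3703

open Finset
open scoped Pointwise


theorem kl_ab {L V : Type*} [Group L] [CommGroup V] [Finite V] (ρ : L →* MulAut V)
    (R : Subgroup L) [Finite R] (x : L) (h : ℕ) (hh : 0 < h)
    (hxR : x ∈ Subgroup.normalizer (R : Set L))
    (hcop : (Nat.card R).Coprime (Nat.card V))
    (hfpf : ∀ i, 0 < i → i < h → ∀ u ∈ R, x ^ i * u = u * x ^ i → u = 1)
    (hnorm : ∀ w ∈ R, ∀ v : V, ∏ i ∈ range h, ρ (w * x ^ i * w⁻¹) v = 1) :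
    ∀ u ∈ R, ∀ v : V, ρ u v = v := by
  classical
  have : Fintype R := Fintype.ofFinite R
  have hfix : ∀ (u : R) (v : V), ρ (u : L) (∏ g : R, ρ (g : L) v) = ∏ g : R, ρ (g : L) v := by
    intro u v
    rw [map_prod]
    have : ∀ g : R, ρ (u : L) (ρ (g : L) v) = ρ ((u * g : R) : L) v := by
      intro g
      rw [Subgroup.coe_mul, map_mul]
      rfl
    simp_rw [this]
    exact (Group.mulLeft_bijective u).prod_comp (fun g : R => ρ (g : L) v)
  intro u hu v
  have hW1 : ∏ g : R, ∏ i ∈ range h, ρ ((g : L) * x ^ i * (g : L)⁻¹) v = 1 :=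
    prod_eq_one (fun g _ => hnorm g g.2 v)
  rw [prod_comm] at hW1
  obtain ⟨h', rfl⟩ : ∃ h', h = h' + 1 := ⟨h - 1, by omega⟩
  rw [prod_range_succ'] at hW1
  have hT : ∀ i ∈ range h', ∏ g : R, ρ ((g : L) * x ^ (i + 1) * (g : L)⁻¹) v
      = ∏ g : R, ρ (g : L) (ρ (x ^ (i + 1)) v) := by
    intro i hi
    rw [mem_range] at hi
    set y := x ^ (i + 1) with hy
    have hyN : y ∈ Subgroup.normalizer (R : Set L) := Subgroup.pow_mem _ hxR _
    let φ : R → R := fun g =>
      ⟨(g : L) * y * (g : L)⁻¹ * y⁻¹, by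
        have h1 : y * (g : L)⁻¹ * y⁻¹ ∈ R :=
          (Subgroup.mem_normalizer_iff.mp hyN _).mp (R.inv_mem g.2)
        have : (g : L) * y * (g : L)⁻¹ * y⁻¹ = (g : L) * (y * (g : L)⁻¹ * y⁻¹) := by group
        rw [this]
        exact R.mul_mem g.2 h1⟩
    have hφinj : Function.Injective φ := by
      intro g k hgk
      have h1 : (g : L) * y * (g : L)⁻¹ * y⁻¹ = (k : L) * y * (k : L)⁻¹ * y⁻¹ :=
        congrArg Subtype.val hgk
      have h2 : y * ((k : L)⁻¹ * g) = ((k : L)⁻¹ * g) * y := by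
        have h1' : (g : L) * y * (g : L)⁻¹ = (k : L) * y * (k : L)⁻¹ := mul_right_cancel h1
        calc y * ((k : L)⁻¹ * g) = (k : L)⁻¹ * ((k : L) * y * (k : L)⁻¹) * g := by group
          _ = (k : L)⁻¹ * ((g : L) * y * (g : L)⁻¹) * g := by rw [h1']
          _ = ((k : L)⁻¹ * g) * y := by group
      have := hfpf (i + 1) (by omega) (by omega) _ (R.mul_mem (R.inv_mem k.2) g.2) h2
      exact Subtype.ext (inv_mul_eq_one.mp this).symm
    have hφbij : Function.Bijective φ := Finite.injective_iff_bijective.mp hφinj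
    have hrew : ∀ g : R, ρ ((g : L) * y * (g : L)⁻¹) v = ρ ((φ g : R) : L) (ρ y v) := by
      intro g
      have : (g : L) * y * (g : L)⁻¹ = ((φ g : R) : L) * y := by
        show _ = (g : L) * y * (g : L)⁻¹ * y⁻¹ * y
        group
      rw [this, map_mul]
      rfl
    simp_rw [hrew]
    exact hφbij.prod_comp (fun g : R => ρ (g : L) (ρ y v))
  rw [prod_congr rfl hT] at hW1
  simp only [pow_zero, mul_one, mul_inv_cancel, map_one, MulAut.one_apply, prod_const,
    card_univ] at hW1
  -- v ^ card R is fixed by u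
  have hvfix : ρ u (v ^ Fintype.card R) = v ^ Fintype.card R := by
    have h1 : v ^ Fintype.card R = (∏ i ∈ range h', ∏ g : R, ρ (g : L) (ρ (x ^ (i + 1)) v))⁻¹ :=
      eq_inv_of_mul_eq_one_right hW1
    rw [h1, map_inv, map_prod]
    congr 1
    exact prod_congr rfl (fun i _ => hfix ⟨u, hu⟩ _)
  have h2 : (ρ u v * v⁻¹) ^ Fintype.card R = 1 := by
    rw [mul_pow, inv_pow, ← map_pow, hvfix, mul_inv_cancel]
  have h3 : (ρ u v * v⁻¹) ^ Nat.card V = 1 := pow_card_eq_one'
  rw [← Nat.card_eq_fintype_card] at h2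
  have := pow_gcd_eq_one.mpr ⟨h2, h3⟩
  rw [hcop, pow_one] at this
  exact mul_inv_eq_one.mp this

/-- the action of the normalizer of `Q` on the abelianization of `Q` -/
noncomputable def abAct {G : Type*} [Group G] (Q : Subgroup G) :
    ↥(Subgroup.normalizer (Q : Set G)) →* MulAut (Abelianization ↥Q) where
  toFun g := (Q.normalizerMonoidHom g).abelianizationCongr
  map_one' := by
    rw [map_one]
    exact abelianizationCongr_refl
  map_mul' a b := by
    rw [map_mul]
    exact (abelianizationCongr_trans _ _).symm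

theorem abAct_of {G : Type*} [Group G] (Q : Subgroup G)
    (g : ↥(Subgroup.normalizer (Q : Set G))) (q : ↥Q) :
    abAct Q g (Abelianization.of q) = Abelianization.of (g • q) := by
  show (Q.normalizerMonoidHom g).abelianizationCongr (Abelianization.of q) = _
  rw [abelianizationCongr_of]
  rfl

/-- ordered norm product inside `Q` -/
def nrmQ {G : Type*} [Group G] (Q : Subgroup G)
    (y : ↥(Subgroup.normalizer (Q : Set G))) (q : ↥Q) : ℕ → ↥Q
  | 0 => 1
  | n + 1 => nrmQ Q y q n * (y ^ n • q)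

theorem of_nrmQ {G : Type*} [Group G] (Q : Subgroup G)
    (y : ↥(Subgroup.normalizer (Q : Set G))) (q : ↥Q) (n : ℕ) :
    Abelianization.of (nrmQ Q y q n) = ∏ i ∈ range n, abAct Q (y ^ i) (Abelianization.of q) := by
  induction n with
  | zero => simp [nrmQ]
  | succ n ih =>
    rw [prod_range_succ, ← ih, abAct_of, nrmQ, map_mul]

theorem mul_pow_eq_nrmQ {G : Type*} [Group G] (Q : Subgroup G)
    (y : ↥(Subgroup.normalizer (Q : Set G))) (q : ↥Q) (n : ℕ) :
    ((q : G) * (y : G)) ^ n = (nrmQ Q y q n : G) * (y : G) ^ n := by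
  induction n with
  | zero => simp [nrmQ]
  | succ n ih =>
    rw [pow_succ, ih, nrmQ, Subgroup.coe_mul]
    have : ((y ^ n • q : ↥Q) : G) = (y : G) ^ n * q * ((y : G) ^ n)⁻¹ := rfl
    rw [this, pow_succ]
    group


theorem normalizer_le_normalizer_commutator {G : Type*} [Group G] (Q : Subgroup G) :
    Subgroup.normalizer (Q : Set G) ≤ Subgroup.normalizer ((⁅Q, Q⁆ : Subgroup G) : Set G) := by
  intro g hg
  have hmap : Subgroup.map (MulAut.conj g).toMonoidHom Q = Q := by
    ext z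
    constructor
    · rintro ⟨w, hw, rfl⟩
      exact (Subgroup.mem_normalizer_iff.mp hg w).mp hw
    · intro hz
      refine ⟨g⁻¹ * z * g, ?_, by simp [MulAut.conj_apply, mul_assoc]⟩
      have := (Subgroup.mem_normalizer_iff.mp hg (g⁻¹ * z * g)).mpr (by simpa [mul_assoc] using hz)
      exact this
  have hmap' : Subgroup.map (MulAut.conj g).toMonoidHom ⁅Q, Q⁆ = ⁅Q, Q⁆ := by
    rw [Subgroup.map_commutator, hmap]
  rw [Subgroup.mem_normalizer_iff]
  intro n
  constructor
  · intro hn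
    rw [← hmap']
    exact ⟨n, hn, rfl⟩
  · intro hn
    rw [← hmap'] at hn
    obtain ⟨w, hw, hwn⟩ := hn
    have : w = n := by
      have h1 : g * w * g⁻¹ = g * n * g⁻¹ := hwn
      exact mul_left_cancel (mul_right_cancel h1)
    exact this ▸ hw


theorem kl {G : Type*} [Group G] (R : Subgroup G) [Finite R] (x : G) (h : ℕ) (hh : 0 < h)
    (hxR : x ∈ Subgroup.normalizer (R : Set G))
    (hfpf : ∀ i, 0 < i → i < h → ∀ u ∈ R, x ^ i * u = u * x ^ i → u = 1) :
    ∀ (n : ℕ) (Q : Subgroup G), Finite Q → Nat.card Q ≤ n → Group.IsSolvable Q →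
      R ≤ Subgroup.normalizer (Q : Set G) → x ∈ Subgroup.normalizer (Q : Set G) →
      (Nat.card R).Coprime (Nat.card Q) →
      (∀ u ∈ R, ∀ q ∈ Q, (q * u * x) ^ h = 1) →
      ∀ u ∈ R, ∀ q ∈ Q, u * q = q * u := by
  intro n
  induction n with
  | zero =>
    intro Q hQf hn _ _ _ _ _ u hu q hq
    have : 0 < Nat.card Q := Nat.card_pos
    omega
  | succ n ih =>
    intro Q hQf hn hsol hRQ hxQ hcop hpow
    by_cases hQ : Q = ⊥
    · intro u hu q hq
      rw [hQ, Subgroup.mem_bot] at hq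
      rw [hq]; simp
    have hlt : (⁅Q, Q⁆ : Subgroup G) < Q := by
      have : Nontrivial Q := (Subgroup.nontrivial_iff_ne_bot Q).mpr hQ
      have h1 := Group.IsSolvable.commutator_lt_top_of_nontrivial (↥Q)
      rw [← Subgroup.map_subtype_commutator]
      calc Subgroup.map Q.subtype (commutator ↥Q) < Subgroup.map Q.subtype ⊤ :=
            Subgroup.map_subtype_lt_map_subtype.mpr h1
        _ = Q := by rw [← MonoidHom.range_eq_map, Subgroup.range_subtype]
    set Q' : Subgroup G := ⁅Q, Q⁆ with hQ'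
    have hQ'le : Q' ≤ Q := hlt.le
    have hQ'f : Finite Q' :=
      Finite.of_injective (Subgroup.inclusion hQ'le) (Subgroup.inclusion_injective hQ'le)
    have hcardlt : Nat.card Q' < Nat.card Q := by
      have h1 : (Q' : Set G) ⊂ (Q : Set G) := SetLike.coe_ssubset_coe.mpr hlt
      have h2 := Set.ncard_lt_ncard h1 (Set.toFinite _)
      simpa [← Nat.card_coe_set_eq] using h2
    have hQ'sol : Group.IsSolvable Q' :=
      Group.isSolvable_of_isSolvable_injective (Subgroup.inclusion_injective hQ'le)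
    have hcent : ∀ u ∈ R, ∀ q ∈ Q', u * q = q * u :=
      ih Q' hQ'f (by omega) hQ'sol (hRQ.trans (normalizer_le_normalizer_commutator Q))
        (normalizer_le_normalizer_commutator Q hxQ)
        (Nat.Coprime.coprime_dvd_right (Subgroup.card_dvd_of_le hQ'le) hcop)
        (fun u hu q hq => hpow u hu q (hQ'le hq))
    have hab : ∀ u ∈ R, ∀ q ∈ Q, q⁻¹ * (u * q * u⁻¹) ∈ Q' := by
      let R₁ : Subgroup ↥(Subgroup.normalizer (Q : Set G)) :=
        R.subgroupOf (Subgroup.normalizer (Q : Set G))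
      let x₁ : ↥(Subgroup.normalizer (Q : Set G)) := ⟨x, hxQ⟩
      have e : R₁ ≃* R := Subgroup.subgroupOfEquivOfLe hRQ
      have : Finite R₁ := Finite.of_equiv _ e.symm.toEquiv
      have hcard : Nat.card R₁ = Nat.card R := Nat.card_congr e.toEquiv
      have key := kl_ab (abAct Q) R₁ x₁ h hh ?_ ?_ ?_ ?_
      · intro u hu q hq
        have h1 := key ⟨u, hRQ hu⟩ (Subgroup.mem_subgroupOf.mpr hu) (Abelianization.of ⟨q, hq⟩)
        rw [abAct_of] at h1
        have h2 : (⟨q, hq⟩ : ↥Q)⁻¹ *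
            ((⟨u, hRQ hu⟩ : ↥(Subgroup.normalizer (Q : Set G))) • (⟨q, hq⟩ : ↥Q))
              ∈ commutator ↥Q := by
          rw [← Abelianization.ker_of, MonoidHom.mem_ker, map_mul, map_inv, h1, inv_mul_cancel]
        rw [hQ', ← Subgroup.map_subtype_commutator]
        exact ⟨_, h2, rfl⟩
      · rw [Subgroup.mem_normalizer_iff]
        intro n
        exact Subgroup.mem_normalizer_iff.mp hxR (n : G)
      · rw [hcard]
        exact Nat.Coprime.coprime_dvd_right (Subgroup.card_quotient_dvd_card (commutator ↥Q)) hcop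
      · intro i hi0 hih u hu hcomm
        have := hfpf i hi0 hih (u : G) (Subgroup.mem_subgroupOf.mp hu)
          (congrArg Subtype.val hcomm)
        exact Subtype.ext this
      · intro w hw v
        obtain ⟨q, rfl⟩ := QuotientGroup.mk_surjective v
        set y : ↥(Subgroup.normalizer (Q : Set G)) := w * x₁ * w⁻¹ with hy
        have hyi : ∀ i : ℕ, w * x₁ ^ i * w⁻¹ = y ^ i := fun i => (conj_pow (a := w) (b := x₁)).symm
        simp_rw [hyi]
        have hof : (QuotientGroup.mk q : Abelianization ↥Q) = Abelianization.of q := rfl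
        rw [hof, ← of_nrmQ]
        have hwR : (w : G) ∈ R := Subgroup.mem_subgroupOf.mp hw
        have hu₀ : (w : G) * x * (w : G)⁻¹ * x⁻¹ ∈ R := by
          have h1 : x * (w : G)⁻¹ * x⁻¹ ∈ R :=
            (Subgroup.mem_normalizer_iff.mp hxR _).mp (R.inv_mem hwR)
          have : (w : G) * x * (w : G)⁻¹ * x⁻¹ = (w : G) * (x * (w : G)⁻¹ * x⁻¹) := by group
          rw [this]
          exact R.mul_mem hwR h1
        have hyG : (y : G) = ((w : G) * x * (w : G)⁻¹ * x⁻¹) * x := by
          show (w : G) * x * (w : G)⁻¹ = _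
          group
        have hy1 : (y : G) ^ h = 1 := by
          have := hpow _ hu₀ 1 (Q.one_mem)
          rwa [one_mul, ← hyG] at this
        have hy2 : ((q : G) * (y : G)) ^ h = 1 := by
          have := hpow _ hu₀ q q.2
          rwa [mul_assoc, ← hyG] at this
        rw [mul_pow_eq_nrmQ, hy1, mul_one] at hy2
        have : nrmQ Q y q h = 1 := Subtype.ext hy2
        rw [this, map_one]
    intro u hu q hq
    have hmul : ∀ a ∈ R, ∀ b ∈ R, q⁻¹ * ((a * b) * q * (a * b)⁻¹)
        = (q⁻¹ * (a * q * a⁻¹)) * (q⁻¹ * (b * q * b⁻¹)) := by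
      intro a ha b hb
      have hc := hcent a ha _ (hab b hb q hq)
      have h1 : a * (q⁻¹ * (b * q * b⁻¹)) * a⁻¹ = q⁻¹ * (b * q * b⁻¹) := by
        rw [hc]; group
      calc q⁻¹ * ((a * b) * q * (a * b)⁻¹)
          = (q⁻¹ * (a * q * a⁻¹)) * (a * (q⁻¹ * (b * q * b⁻¹)) * a⁻¹) := by group
        _ = _ := by rw [h1]
    have hpw : ∀ k : ℕ, q⁻¹ * (u ^ k * q * (u ^ k)⁻¹) = (q⁻¹ * (u * q * u⁻¹)) ^ k := by
      intro k
      induction k with
      | zero => simp
      | succ k ihk => rw [pow_succ, hmul _ (R.pow_mem hu k) _ hu, ihk, pow_succ]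
    have h1 : (q⁻¹ * (u * q * u⁻¹)) ^ (Nat.card R) = 1 := by
      rw [← hpw]
      have : u ^ Nat.card R = 1 := by
        have := pow_card_eq_one' (G := R) (x := ⟨u, hu⟩)
        exact congrArg Subtype.val this
      rw [this]; simp
    have h2 : (q⁻¹ * (u * q * u⁻¹)) ^ (Nat.card Q) = 1 := by
      have hmem : q⁻¹ * (u * q * u⁻¹) ∈ Q := hQ'le (hab u hu q hq)
      have := pow_card_eq_one' (G := Q) (x := ⟨_, hmem⟩)
      exact congrArg Subtype.val this
    have h3 := pow_gcd_eq_one.mpr ⟨h1, h2⟩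
    rw [hcop, pow_one] at h3
    have h4 : u * q * u⁻¹ = q := (inv_mul_eq_one.mp h3).symm
    calc u * q = (u * q * u⁻¹) * u := by group
      _ = q * u := by rw [h4]


/-- `H` is a Sylow `p`-subgroup of `K`, phrased inside the ambient group. -/
def IsSyl {G : Type*} [Group G] (p : ℕ) (H K : Subgroup G) : Prop :=
  H ≤ K ∧ IsPGroup p H ∧ ¬ p ∣ H.relIndex K

theorem exists_isSyl {G : Type*} [Group G] [Finite G] (p : ℕ) [Fact p.Prime] (K : Subgroup G) :
    ∃ H : Subgroup G, IsSyl p H K := by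
  obtain ⟨S⟩ : Nonempty (Sylow p ↥K) := inferInstance
  refine ⟨(S : Subgroup ↥K).map K.subtype, Subgroup.map_subtype_le _, S.isPGroup'.map _, ?_⟩
  have h1 : ((S : Subgroup ↥K).map K.subtype).relIndex K = (S : Subgroup ↥K).index := by
    rw [Subgroup.relIndex, Subgroup.subgroupOf, Subgroup.comap_map_eq_self_of_injective
      K.subtype_injective]
  rw [h1]
  exact S.not_dvd_index

/-- Frattini argument for `IsSyl`. -/
theorem frat {G : Type*} [Group G] [Finite G] (p : ℕ) [Fact p.Prime] (N H : Subgroup G) [N.Normal]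
    (hH : IsSyl p H N) : Subgroup.normalizer (H : Set G) ⊔ N = ⊤ := by
  obtain ⟨hle, hp, hidx⟩ := hH
  have hp' : IsPGroup p ↥(H.subgroupOf N) := hp.comap_subtype
  let S : Sylow p ↥N := hp'.toSylow hidx
  have := Sylow.normalizer_sup_eq_top S
  have h2 : (S : Subgroup ↥N).map N.subtype = H := by
    show (H.subgroupOf N).map N.subtype = H
    rw [Subgroup.subgroupOf_map_subtype, inf_of_le_left hle]
  rwa [h2] at this

theorem exists_invariant_sylow {G : Type*} [Group G] [Finite G] (N : Subgroup G) [N.Normal]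
    (R : Subgroup G) (p r : ℕ) [Fact p.Prime] [Fact r.Prime] (hR : IsPGroup r R)
    (hrN : ¬ r ∣ Nat.card N) :
    ∃ P' : Sylow p ↥N,
      R ≤ Subgroup.normalizer (((P' : Subgroup ↥N).map N.subtype : Subgroup G) : Set G) := by
  let _ : MulAction ↥R (Sylow p ↥N) :=
    MulAction.compHom _ ((MulAut.conjNormal (H := N)).comp R.subtype)
  have hcard : ¬ r ∣ Nat.card (Sylow p ↥N) := fun hd =>
    hrN (hd.trans ((Sylow.card_dvd_index (default : Sylow p N)).trans (Subgroup.index_dvd_card _)))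
  obtain ⟨P', hP'⟩ := hR.nonempty_fixed_point_of_prime_not_dvd_card (Sylow p ↥N) hcard
  refine ⟨P', fun u hu => ?_⟩
  have key : ∀ v ∈ R, ∀ z ∈ (P' : Subgroup ↥N).map N.subtype,
      v * z * v⁻¹ ∈ (P' : Subgroup ↥N).map N.subtype := by
    intro v hv z hz
    obtain ⟨n, hn, rfl⟩ := hz
    have h1 : (MulAut.conjNormal v : MulAut N) • P' = P' := hP' ⟨v, hv⟩
    have h2 : (MulAut.conjNormal v : MulAut N) n ∈ (P' : Subgroup ↥N) := by
      have h3 : (MulAut.conjNormal v : MulAut N) • n ∈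
          (MulAut.conjNormal v : MulAut N) • (P' : Subgroup ↥N) :=
        Subgroup.smul_mem_pointwise_smul n _ _ hn
      rw [← Sylow.pointwise_smul_def, h1] at h3
      exact h3
    exact ⟨_, h2, by simp [MulAut.conjNormal_apply]⟩
  rw [Subgroup.mem_normalizer_iff]
  intro z
  constructor
  · exact key u hu z
  · intro hz
    have := key u⁻¹ (R.inv_mem hu) _ hz
    simpa [mul_assoc] using this


theorem zpowers_mul_sup {G : Type*} [Group G] (M : Subgroup G) (x m : G) (hm : m ∈ M)
    (hx : Subgroup.zpowers x ⊔ M = ⊤) : Subgroup.zpowers (m * x) ⊔ M = ⊤ := by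
  rw [eq_top_iff, ← hx]
  refine sup_le ?_ le_sup_right
  rw [Subgroup.zpowers_le]
  have h1 : m⁻¹ * (m * x) ∈ Subgroup.zpowers (m * x) ⊔ M :=
    Subgroup.mul_mem _ (Subgroup.mem_sup_right (M.inv_mem hm))
      (Subgroup.mem_sup_left (Subgroup.mem_zpowers _))
  rwa [inv_mul_cancel_left] at h1

theorem stepB {G : Type*} [Group G] [Finite G] (N M : Subgroup G) [N.Normal] [M.Normal]
    (hNM : N ≤ M) (h : ℕ) (hh : 0 < h)
    (x₀ : G) (hx₀ : Subgroup.zpowers x₀ ⊔ M = ⊤)
    (hc1 : ∀ g : G, Subgroup.zpowers g ⊔ M = ⊤ → g ^ h = 1)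
    (hc2 : ∀ g : G, Subgroup.zpowers g ⊔ M = ⊤ → ∀ i, 0 < i → i < h → ∀ m ∈ M,
      g ^ i * m * (g ^ i)⁻¹ * m⁻¹ ∈ N → m ∈ N)
    (r : ℕ) [Fact r.Prime] (hrN : ¬ r ∣ Nat.card N) (R : Subgroup G) (hR : IsSyl r R M) :
    R ≤ Subgroup.centralizer (N : Set G) := by
  obtain ⟨hRM, hRp, hRidx⟩ := hR
  have hRN : ∀ u ∈ R, u ∈ N → u = 1 := by
    intro u hu huN
    obtain ⟨k, hk⟩ := hRp ⟨u, hu⟩
    have h1 : u ^ (r ^ k) = 1 := congrArg Subtype.val hk
    have h2 : u ^ (Nat.card N) = 1 := by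
      have := pow_card_eq_one' (G := N) (x := ⟨u, huN⟩)
      exact congrArg Subtype.val this
    have h3 := pow_gcd_eq_one.mpr ⟨h1, h2⟩
    have hcop : Nat.Coprime (r ^ k) (Nat.card N) :=
      Nat.Coprime.pow_left _ ((Nat.Prime.coprime_iff_not_dvd Fact.out).mpr hrN)
    rwa [hcop, pow_one] at h3
  have hp : ∀ p : ℕ, [Fact p.Prime] → ∃ P' : Sylow p ↥N,
      ∀ u ∈ R, ∀ q ∈ (P' : Subgroup ↥N).map N.subtype, u * q = q * u := by
    intro p _
    obtain ⟨P', hRP⟩ := exists_invariant_sylow N R p r hRp hrN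
    refine ⟨P', ?_⟩
    have hf1 := Sylow.normalizer_sup_eq_top P'
    set P : Subgroup G := (P' : Subgroup ↥N).map N.subtype with hP
    have hPN : P ≤ N := Subgroup.map_subtype_le _
    set G₁ : Subgroup G := Subgroup.normalizer (P : Set G) with hG₁
    have hRG₁ : R ≤ G₁ := hRP
    have hsyl : IsSyl r (R.subgroupOf G₁) (M.subgroupOf G₁) := by
      refine ⟨?_, hRp.comap_subtype, ?_⟩
      · intro z hz
        exact hRM hz
      · rw [← Subgroup.inf_subgroupOf_right M G₁, Subgroup.relIndex_subgroupOf inf_le_right]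
        intro hd
        apply hRidx
        rw [← Subgroup.relIndex_mul_relIndex R (M ⊓ G₁) M (le_inf hRM hRG₁) inf_le_left]
        exact hd.mul_right _
    have hf2 := frat r (M.subgroupOf G₁) (R.subgroupOf G₁) hsyl
    obtain ⟨g, hg, n, hn, hgn⟩ :=
      Subgroup.mem_sup_of_normal_right.mp (hf1 ▸ Subgroup.mem_top x₀ : x₀ ∈ G₁ ⊔ N)
    obtain ⟨y, hy, k, hk, hyk⟩ :=
      Subgroup.mem_sup_of_normal_right.mp (hf2 ▸ Subgroup.mem_top (⟨g, hg⟩ : ↥G₁))
    have hkM : (k : G) ∈ M := hk
    have hyR : (y : G) ∈ Subgroup.normalizer (R : Set G) := by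
      rw [Subgroup.mem_normalizer_iff]
      intro z
      constructor
      · intro hz
        exact (Subgroup.mem_normalizer_iff.mp hy ⟨z, hRG₁ hz⟩).mp hz
      · intro hz
        have hzG₁ : z ∈ G₁ := by
          have : z = (y : G)⁻¹ * ((y : G) * z * (y : G)⁻¹) * (y : G) := by group
          rw [this]
          exact G₁.mul_mem (G₁.mul_mem (G₁.inv_mem y.2) (hRG₁ hz)) y.2
        exact (Subgroup.mem_normalizer_iff.mp hy ⟨z, hzG₁⟩).mpr hz
    have hx₀eq : x₀ = (y : G) * ((k : G) * n) := by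
      rw [← hgn, ← mul_assoc]
      congr 1
      exact (congrArg Subtype.val hyk).symm
    have hyX : Subgroup.zpowers (y : G) ⊔ M = ⊤ := by
      rw [eq_top_iff, ← hx₀]
      refine sup_le ?_ le_sup_right
      rw [Subgroup.zpowers_le, hx₀eq]
      exact Subgroup.mul_mem _ (Subgroup.mem_sup_left (Subgroup.mem_zpowers _))
        (Subgroup.mem_sup_right (M.mul_mem hkM (hNM hn)))
    have hPfin : Finite P := inferInstance
    have hPp : IsPGroup p P := P'.isPGroup'.map _
    have hPsol : Group.IsSolvable P := by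
      have : Group.IsNilpotent P := hPp.isNilpotent
      infer_instance
    have hcop : (Nat.card R).Coprime (Nat.card P) := by
      obtain ⟨a, ha⟩ := IsPGroup.iff_card.mp hRp
      rw [ha]
      apply Nat.Coprime.pow_left
      apply Nat.Coprime.coprime_dvd_right (Subgroup.card_dvd_of_le hPN)
      exact (Nat.Prime.coprime_iff_not_dvd Fact.out).mpr hrN
    have hfpf : ∀ i, 0 < i → i < h → ∀ u ∈ R, (y : G) ^ i * u = u * (y : G) ^ i → u = 1 := by
      intro i hi0 hih u hu hcomm
      apply hRN u hu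
      apply hc2 (y : G) hyX i hi0 hih u (hRM hu)
      rw [hcomm]
      simp
    have hpow : ∀ u ∈ R, ∀ q ∈ P, (q * u * (y : G)) ^ h = 1 := by
      intro u hu q hq
      exact hc1 _ (zpowers_mul_sup M _ _ (M.mul_mem (hNM (hPN hq)) (hRM hu)) hyX)
    exact kl R (y : G) h hh hyR hfpf (Nat.card P) P hPfin le_rfl hPsol hRP y.2 hcop hpow
  -- conclude N ≤ centralizer R
  have hNC : ∀ n ∈ N, ∀ u ∈ R, u * n = n * u := by
    let C : Subgroup ↥N := (Subgroup.centralizer (R : Set G)).subgroupOf N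
    have hC : C = ⊤ := by
      rw [← Subgroup.index_eq_one]
      by_contra hne
      obtain ⟨p, hpp, hpd⟩ := Nat.exists_prime_and_dvd hne
      have : Fact p.Prime := ⟨hpp⟩
      obtain ⟨P', hP'⟩ := hp p
      have hle : (P' : Subgroup ↥N) ≤ C := by
        intro z hz
        rw [Subgroup.mem_subgroupOf, Subgroup.mem_centralizer_iff]
        intro u hu
        exact hP' u hu _ ⟨z, hz, rfl⟩
      exact P'.not_dvd_index (hpd.trans (Subgroup.index_dvd_of_le hle))
    intro n hn u hu
    have : (⟨n, hn⟩ : ↥N) ∈ C := hC ▸ Subgroup.mem_top _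
    rw [Subgroup.mem_subgroupOf, Subgroup.mem_centralizer_iff] at this
    exact this u hu
  intro u hu
  rw [Subgroup.mem_centralizer_iff]
  intro n hn
  exact (hNC n hn u hu).symm

theorem core {G : Type*} [Group G] [Finite G] (N M : Subgroup G) [N.Normal] [M.Normal]
    (hNM : N ≤ M) (h : ℕ) (hh : 0 < h)
    (hcop : (N.relIndex M).Coprime (Nat.card N))
    (x₀ : G) (hx₀ : Subgroup.zpowers x₀ ⊔ M = ⊤)
    (hc1 : ∀ g : G, Subgroup.zpowers g ⊔ M = ⊤ → g ^ h = 1)
    (hc2 : ∀ g : G, Subgroup.zpowers g ⊔ M = ⊤ → ∀ i, 0 < i → i < h → ∀ m ∈ M,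
      g ^ i * m * (g ^ i)⁻¹ * m⁻¹ ∈ N → m ∈ N) :
    M ≤ N ⊔ Subgroup.centralizer (N : Set G) := by
  rw [← Subgroup.relIndex_eq_one]
  by_contra hne
  obtain ⟨r, hrp, hrd⟩ := Nat.exists_prime_and_dvd hne
  have : Fact r.Prime := ⟨hrp⟩
  have hrN : ¬ r ∣ Nat.card N := by
    intro hd
    have h1 : r ∣ N.relIndex M := hrd.trans (Subgroup.relIndex_dvd_of_le_left M le_sup_left)
    have := Nat.dvd_gcd h1 hd
    rw [hcop] at this
    exact hrp.one_lt.ne' (Nat.dvd_one.mp this)
  obtain ⟨R, hR⟩ := exists_isSyl r M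
  have hRC := stepB N M hNM h hh x₀ hx₀ hc1 hc2 r hrN R hR
  have hRE : R ≤ N ⊔ Subgroup.centralizer (N : Set G) := hRC.trans le_sup_right
  exact hR.2.2 (hrd.trans (Subgroup.relIndex_dvd_of_le_left M hRE))

theorem pow_mem_of_notMem_kernel {Q : Type*} [Group Q] [Finite Q] (Fb Hb : Subgroup Q)
    (hker : Cfsg.frobeniusKernel Hb = (Fb : Set Q)) (y : Q) (hy : y ∉ Fb) :
    ∃ k : Q, ∃ b ∈ Hb, y = k * b * k⁻¹ := by
  have h1 : y ∉ Cfsg.frobeniusKernel Hb := by rw [hker]; exact hy
  simp only [Cfsg.frobeniusKernel, Set.mem_ofPred_eq, not_or, not_forall, not_not] at h1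
  obtain ⟨-, k, hk⟩ := h1
  rw [Cfsg.Agent.S0034.mem_conj_smul_iff'] at hk
  exact ⟨k, _, hk, by group⟩

/-- Let N be a normal subgroup of the finite group G such that G/N is a Frobenius group with kernel F and cyclic complement H, where the order of F is coprime to that of N and F is not contained in the image of C_G(N) in G/N. Then G has an element of order p·#H for some prime p dividing the order of N. (A standard tool in recognising groups by their element orders.) -/
theorem result {G : Type*} [Group G] [Finite G] (N : Subgroup G) [N.Normal]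
    (Fb Hb : Subgroup (G ⧸ N)) [Fb.Normal] (hHb : Cfsg.IsFrobeniusComplement Hb) (hker : Cfsg.frobeniusKernel Hb = (Fb : Set (G ⧸ N)))
    (hcyc : IsCyclic Hb) (hcop : (Nat.card Fb).Coprime (Nat.card N))
    (hnot : ¬ Fb ≤ (Subgroup.centralizer (N : Set G)).map (QuotientGroup.mk' N)) :
    ∃ p : ℕ, p.Prime ∧ p ∣ Nat.card N ∧ ∃ g : G, orderOf g = p * Nat.card Hb := by
  by_contra hno
  push Not at hno
  apply hnot
  set h := Nat.card Hb with hh_def
  have hh : 0 < h := Nat.card_pos
  set M : Subgroup G := Fb.comap (QuotientGroup.mk' N) with hM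
  have hMn : M.Normal := inferInstance
  have hNM : N ≤ M := by
    intro n hn
    show QuotientGroup.mk' N n ∈ Fb
    have : QuotientGroup.mk' N n = 1 := (QuotientGroup.eq_one_iff n).mpr hn
    rw [this]
    exact Fb.one_mem
  have hmapM : M.map (QuotientGroup.mk' N) = Fb :=
    Subgroup.map_comap_eq_self_of_surjective (QuotientGroup.mk'_surjective N) Fb
  -- cardinalities
  have hcardF : Nat.card Fb = Hb.index := by
    have h1 := Cfsg.Agent.S0034.card_frobeniusKernel Hb hHb
    rw [hker] at h1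
    exact h1
  have hcardG : Nat.card Fb * h = Nat.card (G ⧸ N) := by
    rw [hcardF, mul_comm]
    exact Hb.card_mul_index
  have hFidx : Fb.index = h := by
    have h1 := Fb.card_mul_index
    rw [← hcardG] at h1
    exact Nat.eq_of_mul_eq_mul_left Nat.card_pos h1
  -- Hb elements ≠ 1 are not in Fb
  have hHF : ∀ b ∈ Hb, b ∈ Fb → b = 1 := by
    intro b hb hbF
    have h1 : b ∈ Cfsg.frobeniusKernel Hb := by rw [hker]; exact hbF
    rcases h1 with h1 | h1
    · exact h1
    · exfalso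
      apply h1 1
      rw [Cfsg.Agent.S0034.mem_conj_smul_iff']
      simpa using hb
  have hFtop : Fb ≠ ⊤ := by
    intro htop
    apply hHb.1
    rw [Subgroup.eq_bot_iff_forall]
    intro b hb
    exact hHF b hb (htop ▸ Subgroup.mem_top b)
  -- generator
  obtain ⟨⟨a, haH⟩, ha⟩ := hcyc.exists_generator
  obtain ⟨x₀, rfl⟩ := QuotientGroup.mk_surjective a
  have hHbz : Hb = Subgroup.zpowers (QuotientGroup.mk' N x₀) := by
    ext b
    constructor
    · intro hb
      obtain ⟨k, hk⟩ := Subgroup.mem_zpowers_iff.mp (ha ⟨b, hb⟩)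
      exact Subgroup.mem_zpowers_iff.mpr ⟨k, congrArg Subtype.val hk⟩
    · intro hb
      obtain ⟨k, hk⟩ := Subgroup.mem_zpowers_iff.mp hb
      rw [← hk]
      exact Hb.zpow_mem haH k
  have hFH : Fb ⊔ Hb = ⊤ := by
    have hdisj : Disjoint Fb Hb := by
      rw [Subgroup.disjoint_def]
      intro b hbF hbH
      exact hHF b hbH hbF
    exact (Subgroup.isComplement'_of_card_mul_and_disjoint hcardG hdisj).sup_eq_top
  have hker_le : ∀ (g : G), (QuotientGroup.mk' N).ker ≤ Subgroup.zpowers g ⊔ M := by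
    intro g
    rw [QuotientGroup.ker_mk']
    exact hNM.trans le_sup_right
  have hmap_sup : ∀ g : G, (Subgroup.zpowers g ⊔ M).map (QuotientGroup.mk' N)
      = Subgroup.zpowers (QuotientGroup.mk' N g) ⊔ Fb := by
    intro g
    rw [Subgroup.map_sup, hmapM, MonoidHom.map_zpowers]
  have hx₀ : Subgroup.zpowers x₀ ⊔ M = ⊤ := by
    rw [← Subgroup.comap_map_eq_self (hker_le x₀), hmap_sup, ← hHbz, sup_comm, hFH,
      Subgroup.comap_top]
  -- properties of elements generating mod M
  have hgen : ∀ g : G, Subgroup.zpowers g ⊔ M = ⊤ →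
      QuotientGroup.mk' N g ∉ Fb ∧ orderOf (QuotientGroup.mk' N g) = h := by
    intro g hg
    have h1 : Subgroup.zpowers (QuotientGroup.mk' N g) ⊔ Fb = ⊤ := by
      rw [← hmap_sup, hg, ← MonoidHom.range_eq_map]
      exact MonoidHom.range_eq_top.mpr (QuotientGroup.mk'_surjective N)
    have hnF : QuotientGroup.mk' N g ∉ Fb := by
      intro hF
      apply hFtop
      rw [← h1]
      exact (sup_eq_right.mpr ((Subgroup.zpowers_le).mpr hF)).symm
    refine ⟨hnF, ?_⟩
    obtain ⟨k, b, hb, hgb⟩ := pow_mem_of_notMem_kernel Fb Hb hker _ hnF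
    have hpow : (QuotientGroup.mk' N g) ^ h = 1 := by
      rw [hgb, conj_pow]
      have : b ^ h = 1 := by
        have := pow_card_eq_one' (G := Hb) (x := ⟨b, hb⟩)
        exact congrArg Subtype.val this
      rw [this]
      simp
    have hd1 : orderOf (QuotientGroup.mk' N g) ∣ h := orderOf_dvd_of_pow_eq_one hpow
    have hd2 : h ∣ orderOf (QuotientGroup.mk' N g) := by
      have h2 := Subgroup.relIndex_sup_left (K := Fb) (H := Subgroup.zpowers (QuotientGroup.mk' N g))
      rw [sup_comm, h1, Subgroup.relIndex_top_right, hFidx] at h2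
      rw [h2, ← Nat.card_zpowers]
      exact Subgroup.relIndex_dvd_card _ _
    exact Nat.dvd_antisymm hd1 hd2
  have hc1 : ∀ g : G, Subgroup.zpowers g ⊔ M = ⊤ → g ^ h = 1 := by
    intro g hg
    obtain ⟨hnF, hord⟩ := hgen g hg
    by_contra hne
    have hmemN : g ^ h ∈ N := by
      rw [← QuotientGroup.eq_one_iff, QuotientGroup.mk_pow]
      have := pow_orderOf_eq_one (QuotientGroup.mk' N g)
      rw [hord] at this
      exact this
    have hdvd : h ∣ orderOf g := by
      rw [← hord]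
      exact orderOf_map_dvd _ g
    have hm : orderOf (g ^ h) = orderOf g / h := orderOf_pow_of_dvd hh.ne' hdvd
    have hm1 : orderOf (g ^ h) ≠ 1 := fun h1 => hne (orderOf_eq_one_iff.mp h1)
    obtain ⟨p, hpp, hpd⟩ := Nat.exists_prime_and_dvd hm1
    have hpN : p ∣ Nat.card N := hpd.trans (Subgroup.orderOf_dvd_natCard N hmemN)
    obtain ⟨m', hm'⟩ := hpd
    have ho : orderOf g = h * (p * m') := by
      rw [← hm', hm, Nat.mul_div_cancel' hdvd]
    have hm'0 : m' ≠ 0 := by
      rintro rfl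
      have := orderOf_pos g
      rw [ho] at this
      simp at this
    have hm'd : m' ∣ orderOf g := ⟨h * p, by rw [ho]; ring⟩
    apply hno p hpp hpN (g ^ m')
    rw [orderOf_pow_of_dvd hm'0 hm'd, ho]
    have : h * (p * m') = (p * h) * m' := by ring
    rw [this, Nat.mul_div_cancel _ (Nat.pos_of_ne_zero hm'0)]
  have hc2 : ∀ g : G, Subgroup.zpowers g ⊔ M = ⊤ → ∀ i, 0 < i → i < h → ∀ m ∈ M,
      g ^ i * m * (g ^ i)⁻¹ * m⁻¹ ∈ N → m ∈ N := by
    intro g hg i hi0 hih m hm hcomm
    obtain ⟨hnF, hord⟩ := hgen g hg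
    obtain ⟨k, b, hb, hgb⟩ := pow_mem_of_notMem_kernel Fb Hb hker _ hnF
    set mb := QuotientGroup.mk' N m with hmb
    have hmF : mb ∈ Fb := hm
    have hrel : (QuotientGroup.mk' N g) ^ i * mb = mb * (QuotientGroup.mk' N g) ^ i := by
      have h1 : QuotientGroup.mk' N (g ^ i * m * (g ^ i)⁻¹ * m⁻¹) = 1 :=
        (QuotientGroup.eq_one_iff _).mpr hcomm
      rw [map_mul, map_mul, map_mul, map_inv, map_inv, map_pow] at h1
      have h2 := mul_inv_eq_one.mp h1
      exact mul_inv_eq_iff_eq_mul.mp h2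
    have hbi : b ^ i ≠ 1 := by
      intro h1
      have h2 : (QuotientGroup.mk' N g) ^ i = 1 := by
        rw [hgb, conj_pow, h1]
        simp
      exact pow_ne_one_of_lt_orderOf hi0.ne' (hord ▸ hih) h2
    set c := k⁻¹ * mb * k with hc
    have hcb : c * b ^ i * c⁻¹ = b ^ i := by
      rw [hgb, conj_pow] at hrel
      have h3 : b ^ i * c = c * b ^ i := by
        have h4 : k⁻¹ * (k * b ^ i * k⁻¹ * mb) * k = k⁻¹ * (mb * (k * b ^ i * k⁻¹)) * k := by
          rw [hrel]
        rw [hc]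
        calc b ^ i * (k⁻¹ * mb * k) = k⁻¹ * (k * b ^ i * k⁻¹ * mb) * k := by group
          _ = k⁻¹ * (mb * (k * b ^ i * k⁻¹)) * k := h4
          _ = k⁻¹ * mb * k * b ^ i := by group
      rw [← h3]
      group
    have hcH : c ∈ Hb := by
      by_contra hcn
      have h1 := hHb.2.2 c hcn
      have h2 : b ^ i ∈ Hb ⊓ (MulAut.conj c • Hb) := by
        refine Subgroup.mem_inf.mpr ⟨Hb.pow_mem hb i, ?_⟩
        rw [Cfsg.Agent.S0034.mem_conj_smul_iff']
        have : c⁻¹ * b ^ i * c = b ^ i := by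
          calc c⁻¹ * b ^ i * c = c⁻¹ * (c * b ^ i * c⁻¹) * c := by rw [hcb]
            _ = b ^ i := by group
        rw [this]
        exact Hb.pow_mem hb i
      rw [h1, Subgroup.mem_bot] at h2
      exact hbi h2
    have hmk : mb ∈ Cfsg.frobeniusKernel Hb := by rw [hker]; exact hmF
    have hmb1 : mb = 1 := by
      rcases hmk with h1 | h1
      · exact h1
      · exfalso
        apply h1 k
        rw [Cfsg.Agent.S0034.mem_conj_smul_iff']
        exact hcH
    exact (QuotientGroup.eq_one_iff m).mp hmb1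
  have hcop' : (N.relIndex M).Coprime (Nat.card N) := by
    have h1 : N.relIndex M = Nat.card Fb := by
      have := Subgroup.relIndex_ker M (QuotientGroup.mk' N)
      rw [QuotientGroup.ker_mk', hmapM] at this
      exact this
    rw [h1]
    exact hcop
  have hmain := core N M hNM h hh hcop' x₀ hx₀ hc1 hc2
  intro f hf
  obtain ⟨m, rfl⟩ := QuotientGroup.mk'_surjective N f
  have hmM : m ∈ M := hf
  obtain ⟨n, hn, c, hc, hnc⟩ := Subgroup.mem_sup_of_normal_left.mp (hmain hmM)
  refine ⟨c, hc, ?_⟩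
  have hn1 : QuotientGroup.mk' N n = 1 := (QuotientGroup.eq_one_iff n).mpr hn
  rw [← hnc, map_mul, hn1, one_mul]

end Cfsg.Agent.S3703
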