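import Cfsg.Statements.S3704

set_option autoImplicit false
open Cfsg

namespace Cfsg.Agent.S3704

open scoped Matrix

variable {G Ω : Type*} [Group G] [MulAction G Ω]

/-- `S` is invariant under the subgroup `H` -/
def Inv (H : Subgroup G) (S : Set Ω) : Prop := ∀ h ∈ H, ∀ ω : Ω, h • ω ∈ S ↔ ω ∈ S

/-- incidence between points of `Ω` and cosets of `H`: `ω ∈ x • S` -/
def Inc (H : Subgroup G) (S : Set Ω) (ω : Ω) (x : G ⧸ H) : Prop := (x.out)⁻¹ • ω ∈ S

theorem inc_mk {H : Subgroup G} {S : Set Ω} (hS : Inv H S) (ω : Ω) (g : G) :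
    Inc H S ω (g : G ⧸ H) ↔ g⁻¹ • ω ∈ S := by
  unfold Inc
  obtain ⟨h, hh⟩ := QuotientGroup.mk_out_eq_mul H g
  rw [hh, mul_inv_rev, mul_smul]
  exact hS _ (H.inv_mem h.2) _

theorem inc_smul {H : Subgroup G} {S : Set Ω} (hS : Inv H S) (k : G) (ω : Ω) (x : G ⧸ H) :
    Inc H S (k • ω) (k • x) ↔ Inc H S ω x := by
  induction x using QuotientGroup.induction_on with
  | H g =>
    rw [MulAction.Quotient.smul_mk, inc_mk hS, inc_mk hS, smul_eq_mul, mul_inv_rev, mul_smul, inv_smul_smul]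

namespace LA


variable {Ω X : Type*} [Fintype Ω] [Fintype X] [DecidableEq Ω]

theorem gram_injective (A : Matrix Ω Ω ℚ) (δ μ : ℚ) (hA : ∀ ω ω', A ω ω' = if ω = ω' then δ else μ)
    (h1 : 0 < δ - μ) (h2 : 0 ≤ μ) (v : Ω → ℚ) (hv : A *ᵥ v = 0) : v = 0 := by
  have key : ∀ ω, (δ - μ) * v ω + μ * ∑ ω', v ω' = 0 := by
    intro ω
    have hv' : ∑ i, A ω i * v i = 0 := by
      have := congrFun hv ω
      rw [Matrix.mulVec, dotProduct] at this
      simpa using this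
    rw [← hv', Finset.mul_sum]
    have h3 : ∀ ω' ∈ Finset.univ, A ω ω' * v ω' = μ * v ω' + (if ω = ω' then (δ - μ) * v ω' else 0) := by
      intro ω' _
      rw [hA]
      split_ifs <;> ring
    rw [Finset.sum_congr rfl h3, Finset.sum_add_distrib, Finset.sum_ite_eq]
    simp
    ring
  have hs : ∑ ω', v ω' = 0 := by
    have hsum : ∑ ω : Ω, ((δ - μ) * v ω + μ * ∑ ω', v ω') = 0 :=
      Finset.sum_eq_zero (fun ω _ => key ω)
    rw [Finset.sum_add_distrib, ← Finset.mul_sum, Finset.sum_const, Finset.card_univ, nsmul_eq_mul] at hsum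
    have hc : 0 < (δ - μ) + (Fintype.card Ω : ℚ) * μ := by positivity
    have : ((δ - μ) + (Fintype.card Ω : ℚ) * μ) * ∑ ω', v ω' = 0 := by linarith
    rcases mul_eq_zero.1 this with h | h
    · linarith
    · exact h
  funext ω
  have := key ω
  rw [hs, mul_zero, add_zero] at this
  rcases mul_eq_zero.1 this with h | h
  · linarith
  · exact h

theorem mulVec_injective_of_gram (hcard : Fintype.card Ω = Fintype.card X) (M : Matrix Ω X ℚ) (δ μ : ℚ)
    (hA : ∀ ω ω', (M * Mᵀ) ω ω' = if ω = ω' then δ else μ)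
    (h1 : 0 < δ - μ) (h2 : 0 ≤ μ) (u : X → ℚ) (hu : M *ᵥ u = 0) : u = 0 := by
  have hinj : Function.Injective (Matrix.mulVecLin Mᵀ) := by
    rw [← LinearMap.ker_eq_bot, LinearMap.ker_eq_bot']
    intro v hv
    apply gram_injective (M * Mᵀ) δ μ hA h1 h2
    rw [← Matrix.mulVec_mulVec]
    have : Mᵀ *ᵥ v = 0 := hv
    rw [this, Matrix.mulVec_zero]
  have hfin : Module.finrank ℚ (Ω → ℚ) = Module.finrank ℚ (X → ℚ) := by
    rw [Module.finrank_fintype_fun_eq_card, Module.finrank_fintype_fun_eq_card, hcard]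
  have hsurj := (LinearMap.injective_iff_surjective_of_finrank_eq_finrank hfin).1 hinj
  obtain ⟨w, hw⟩ := hsurj u
  have hw' : Mᵀ *ᵥ w = u := hw
  have : u ⬝ᵥ u = 0 := by
    calc u ⬝ᵥ u = (Mᵀ *ᵥ w) ⬝ᵥ u := by rw [hw']
      _ = (w ᵥ* M) ⬝ᵥ u := by rw [Matrix.mulVec_transpose]
      _ = w ⬝ᵥ (M *ᵥ u) := (Matrix.dotProduct_mulVec _ _ _).symm
      _ = 0 := by rw [hu, dotProduct_zero]
  exact dotProduct_self_eq_zero.1 this

theorem key (hcard : Fintype.card Ω = Fintype.card X) (M1 M2 M3 : Matrix Ω X ℚ) (δ μ μ2 μ3 : ℚ)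
    (h11 : ∀ ω ω', (M1 * M1ᵀ) ω ω' = if ω = ω' then δ else μ)
    (h12 : ∀ ω ω', (M1 * M2ᵀ) ω ω' = if ω = ω' then 0 else μ2)
    (h13 : ∀ ω ω', (M1 * M3ᵀ) ω ω' = if ω = ω' then 0 else μ3)
    (h1 : 0 < δ - μ) (h2 : 0 ≤ μ) : ∀ ω x, μ3 * M2 ω x = μ2 * M3 ω x := by
  intro ω x
  have hcol : (fun x => μ3 * M2 ω x - μ2 * M3 ω x) = 0 := by
    apply mulVec_injective_of_gram hcard M1 δ μ h11 h1 h2
    funext ω'
    have e2 := h12 ω' ω
    have e3 := h13 ω' ω
    rw [Matrix.mul_apply] at e2 e3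
    simp only [Matrix.transpose_apply] at e2 e3
    rw [Matrix.mulVec, dotProduct]
    simp only [mul_sub, Finset.sum_sub_distrib, Pi.zero_apply]
    have a2 : ∑ x, M1 ω' x * (μ3 * M2 ω x) = μ3 * ∑ x, M1 ω' x * M2 ω x := by
      rw [Finset.mul_sum]
      apply Finset.sum_congr rfl
      intro x _
      ring
    have a3 : ∑ x, M1 ω' x * (μ2 * M3 ω x) = μ2 * ∑ x, M1 ω' x * M3 ω x := by
      rw [Finset.mul_sum]
      apply Finset.sum_congr rfl
      intro x _
      ring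
    rw [a2, a3, e2, e3]
    split_ifs <;> ring
  have := congrFun hcol x
  simp only [Pi.zero_apply] at this
  linarith

end LA

section Main

open Classical

/-- incidence matrix of the translates of `S` -/
noncomputable def Mat (H : Subgroup G) [Fintype (G ⧸ H)] (S : Set Ω) : Matrix Ω (G ⧸ H) ℚ :=
  fun ω x => if Inc H S ω x then 1 else 0

variable [Fintype Ω] {H : Subgroup G} [Fintype (G ⧸ H)]

theorem gram_apply (S S' : Set Ω) (ω ω' : Ω) :
    (Mat H S * (Mat H S')ᵀ) ω ω'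
      = ∑ x : G ⧸ H, (if Inc H S ω x then (1 : ℚ) else 0) * (if Inc H S' ω' x then 1 else 0) := by
  rw [Matrix.mul_apply]
  rfl

theorem gram_smul {S S' : Set Ω} (hS : Inv H S) (hS' : Inv H S') (k : G) (ω ω' : Ω) :
    (Mat H S * (Mat H S')ᵀ) (k • ω) (k • ω') = (Mat H S * (Mat H S')ᵀ) ω ω' := by
  rw [gram_apply, gram_apply]
  symm
  apply Fintype.sum_equiv (MulAction.toPerm k)
  intro x
  simp only [MulAction.toPerm_apply, inc_smul hS, inc_smul hS']

theorem gram_const (h2 : MulAction.IsMultiplyPretransitive G Ω 2) {S S' : Set Ω} (hS : Inv H S)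
    (hS' : Inv H S') (ω0 ω1 : Ω) (h01 : ω0 ≠ ω1) (ω ω' : Ω) :
    (Mat H S * (Mat H S')ᵀ) ω ω'
      = if ω = ω' then (Mat H S * (Mat H S')ᵀ) ω0 ω0 else (Mat H S * (Mat H S')ᵀ) ω0 ω1 := by
  split_ifs with h
  · subst h
    have : MulAction.IsPretransitive G Ω := MulAction.isPretransitive_of_is_two_pretransitive
    obtain ⟨g, rfl⟩ := MulAction.exists_smul_eq G ω0 ω
    exact gram_smul hS hS' g ω0 ω0
  · obtain ⟨g, rfl, rfl⟩ := MulAction.is_two_pretransitive_iff.1 h2 h01 h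
    exact gram_smul hS hS' g ω0 ω1

theorem term_nonneg (S S' : Set Ω) (ω ω' : Ω) (x : G ⧸ H) :
    0 ≤ (if Inc H S ω x then (1 : ℚ) else 0) * (if Inc H S' ω' x then 1 else 0) := by
  split_ifs <;> norm_num

theorem gram_nonneg (S S' : Set Ω) (ω ω' : Ω) : 0 ≤ (Mat H S * (Mat H S')ᵀ) ω ω' := by
  rw [gram_apply]
  exact Finset.sum_nonneg (fun x _ => term_nonneg S S' ω ω' x)

theorem gram_witness (S S' : Set Ω) (ω ω' : Ω) (x : G ⧸ H) (h1 : Inc H S ω x) (h2 : Inc H S' ω' x) :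
    1 ≤ (Mat H S * (Mat H S')ᵀ) ω ω' := by
  rw [gram_apply]
  have := Finset.single_le_sum (f := fun x : G ⧸ H =>
    (if Inc H S ω x then (1 : ℚ) else 0) * (if Inc H S' ω' x then 1 else 0))
    (fun x _ => term_nonneg S S' ω ω' x) (Finset.mem_univ x)
  simp only [if_pos h1, if_pos h2, mul_one] at this
  exact this

theorem gram_disjoint_diag (S S' : Set Ω) (hdisj : ∀ ω, ω ∈ S → ω ∈ S' → False) (ω : Ω) :
    (Mat H S * (Mat H S')ᵀ) ω ω = 0 := by
  rw [gram_apply]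
  apply Finset.sum_eq_zero
  intro x _
  by_cases h1 : Inc H S ω x
  · by_cases h2 : Inc H S' ω x
    · exact (hdisj _ h1 h2).elim
    · rw [if_neg h2, mul_zero]
  · rw [if_neg h1, zero_mul]

theorem gram_diff (S : Set Ω) (ω ω' : Ω) (x : G ⧸ H) (h1 : Inc H S ω x) (h2 : ¬ Inc H S ω' x) :
    1 ≤ (Mat H S * (Mat H S)ᵀ) ω ω - (Mat H S * (Mat H S)ᵀ) ω ω' := by
  rw [gram_apply, gram_apply, ← Finset.sum_sub_distrib]
  have hnn : ∀ y ∈ (Finset.univ : Finset (G ⧸ H)),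
      0 ≤ (if Inc H S ω y then (1 : ℚ) else 0) * (if Inc H S ω y then 1 else 0)
        - (if Inc H S ω y then (1 : ℚ) else 0) * (if Inc H S ω' y then 1 else 0) := by
    intro y _
    split_ifs <;> norm_num
  have := Finset.single_le_sum hnn (Finset.mem_univ x)
  simp only [if_pos h1, if_neg h2, mul_one, mul_zero, sub_zero] at this
  exact this

end Main

/-- the orbit (as a set) attached to an element of the orbit quotient -/
def orb (H : Subgroup G) (q : MulAction.orbitRel.Quotient H Ω) : Set Ω := {ω | Quotient.mk'' ω = q}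

theorem orb_inv (H : Subgroup G) (q : MulAction.orbitRel.Quotient H Ω) : Inv H (orb H q) := by
  intro h hh ω
  unfold orb
  simp only [Set.mem_setOf_eq]
  have : (Quotient.mk'' (h • ω) : MulAction.orbitRel.Quotient H Ω) = Quotient.mk'' ω := by
    apply Quotient.sound'
    exact ⟨⟨h, hh⟩, rfl⟩
  rw [this]

theorem no_three [Finite G] [Finite Ω] (h2 : MulAction.IsMultiplyPretransitive G Ω 2) (H : Subgroup G)
    (hidx : H.index = Nat.card Ω) (q1 q2 q3 : MulAction.orbitRel.Quotient H Ω)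
    (h12 : q1 ≠ q2) (h13 : q1 ≠ q3) (h23 : q2 ≠ q3) : False := by
  classical
  let _ : Fintype Ω := Fintype.ofFinite Ω
  let _ : Fintype (G ⧸ H) := Fintype.ofFinite _
  have hcard : Fintype.card Ω = Fintype.card (G ⧸ H) := by
    rw [← Nat.card_eq_fintype_card, ← Nat.card_eq_fintype_card, ← hidx]
    rfl
  obtain ⟨ω1, hω1⟩ := Quotient.exists_rep q1
  obtain ⟨ω2, hω2⟩ := Quotient.exists_rep q2
  obtain ⟨ω3, hω3⟩ := Quotient.exists_rep q3
  have m1 : ω1 ∈ orb H q1 := hω1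
  have m2 : ω2 ∈ orb H q2 := hω2
  have m3 : ω3 ∈ orb H q3 := hω3
  have hne12 : ω1 ≠ ω2 := by
    rintro rfl
    exact h12 (hω1.symm.trans hω2)
  have hne13 : ω1 ≠ ω3 := by
    rintro rfl
    exact h13 (hω1.symm.trans hω3)
  have disj : ∀ {q q' : MulAction.orbitRel.Quotient H Ω}, q ≠ q' →
      ∀ ω, ω ∈ orb H q → ω ∈ orb H q' → False := by
    intro q q' hqq ω h h'
    exact hqq (h.symm.trans h')
  have inc0 : ∀ (q : MulAction.orbitRel.Quotient H Ω) (ω : Ω),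
      Inc H (orb H q) ω ((1 : G) : G ⧸ H) ↔ ω ∈ orb H q := by
    intro q ω
    rw [inc_mk (orb_inv H q), inv_one, one_smul]
  have I1 := orb_inv H q1
  have I2 := orb_inv H q2
  have I3 := orb_inv H q3
  have key := LA.key hcard (Mat H (orb H q1)) (Mat H (orb H q2)) (Mat H (orb H q3))
    ((Mat H (orb H q1) * (Mat H (orb H q1))ᵀ) ω1 ω1) ((Mat H (orb H q1) * (Mat H (orb H q1))ᵀ) ω1 ω2)
    ((Mat H (orb H q1) * (Mat H (orb H q2))ᵀ) ω1 ω2) ((Mat H (orb H q1) * (Mat H (orb H q3))ᵀ) ω1 ω2)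
    (gram_const h2 I1 I1 ω1 ω2 hne12)
    (fun ω ω' => by
      rw [gram_const h2 I1 I2 ω1 ω2 hne12 ω ω', gram_disjoint_diag _ _ (disj h12)])
    (fun ω ω' => by
      rw [gram_const h2 I1 I3 ω1 ω2 hne12 ω ω', gram_disjoint_diag _ _ (disj h13)])
    (by
      have := gram_diff (H := H) (orb H q1) ω1 ω2 ((1 : G) : G ⧸ H) ((inc0 q1 ω1).2 m1)
        (fun h => disj h12 ω2 ((inc0 q1 ω2).1 h) m2)
      linarith)
    (gram_nonneg _ _ _ _)
  have hk := key ω2 ((1 : G) : G ⧸ H)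
  have e2 : Mat H (orb H q2) ω2 ((1 : G) : G ⧸ H) = 1 := by
    unfold Mat
    rw [if_pos ((inc0 q2 ω2).2 m2)]
  have e3 : Mat H (orb H q3) ω2 ((1 : G) : G ⧸ H) = 0 := by
    unfold Mat
    rw [if_neg (fun h => disj h23 ω2 m2 ((inc0 q3 ω2).1 h))]
  rw [e2, e3, mul_one, mul_zero] at hk
  have hpos : 1 ≤ (Mat H (orb H q1) * (Mat H (orb H q3))ᵀ) ω1 ω3 :=
    gram_witness _ _ ω1 ω3 ((1 : G) : G ⧸ H) ((inc0 q1 ω1).2 m1) ((inc0 q3 ω3).2 m3)
  rw [gram_const h2 I1 I3 ω1 ω2 hne12 ω1 ω3, if_neg hne13, hk] at hpos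
  linarith

theorem result {G Ω : Type*} [Group G] [Finite G] [MulAction G Ω] [FaithfulSMul G Ω] [Finite Ω] (h2 : MulAction.IsMultiplyPretransitive G Ω 2) (H : Subgroup G) (hidx : H.index = Nat.card Ω) (hnt : ¬ MulAction.IsPretransitive H Ω) (hfix : ∀ a : Ω, ∃ h : H, h • a ≠ a) : Nat.card (MulAction.orbitRel.Quotient H Ω) = 2 := by
  classical
  have : Finite (MulAction.orbitRel.Quotient H Ω) := Quotient.finite _
  let _ : Fintype (MulAction.orbitRel.Quotient H Ω) := Fintype.ofFinite _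
  rw [Nat.card_eq_fintype_card]
  have hge : 1 < Fintype.card (MulAction.orbitRel.Quotient H Ω) := by
    rw [Fintype.one_lt_card_iff]
    by_contra hcon
    push Not at hcon
    apply hnt
    constructor
    intro x y
    have := hcon (Quotient.mk'' y) (Quotient.mk'' x)
    have := Quotient.exact' this
    exact this
  have hle : ¬ 2 < Fintype.card (MulAction.orbitRel.Quotient H Ω) := by
    rw [Fintype.two_lt_card_iff]
    rintro ⟨q1, q2, q3, h12, h13, h23⟩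
    exact no_three h2 H hidx q1 q2 q3 h12 h13 h23
  omega

end Cfsg.Agent.S3704
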