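import Cfsg.Statements.S3733

set_option autoImplicit false
open Cfsg

namespace Cfsg.Agent.S3733

theorem abstract_key {G W : Type*} [Group G] [Finite G] [CommGroup W] [Finite W]
    (A : Subgroup G) (act : G → W →* W) (h1 : ∀ w, act 1 w = w)
    (hmul : ∀ g ∈ A, ∀ h ∈ A, ∀ w, act (g * h) w = act g (act h w))
    (𝒜 : Finset (Subgroup G)) (hne : 𝒜.Nonempty) (hle : ∀ B ∈ 𝒜, B ≤ A)
    (hpart : ∀ a ∈ A, a ≠ 1 → ∃! B, B ∈ 𝒜 ∧ a ∈ B)
    (hk : (𝒜.card - 1).Coprime (Nat.card W))
    (hfix : ∀ B ∈ 𝒜, ∀ w : W, (∀ b ∈ B, act b w = w) → w = 1) : ∀ w : W, w = 1 := by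
  classical
  let _ : Fintype G := Fintype.ofFinite G
  intro w
  obtain ⟨S, memS⟩ : ∃ S : Subgroup G → Finset G, ∀ (B : Subgroup G) (g : G), g ∈ S B ↔ g ∈ B :=
    ⟨fun B => Finset.univ.filter (· ∈ B), by simp⟩
  set f : G → W := fun g => act g w with hf
  have fixed : ∀ B : Subgroup G, B ≤ A → ∀ b ∈ B, act b (∏ g ∈ S B, f g) = ∏ g ∈ S B, f g := by
    intro B hBA b hb
    rw [map_prod]
    have : ∀ g ∈ S B, act b (f g) = f (b * g) := by
      intro g hg
      rw [memS] at hg
      exact (hmul b (hBA hb) g (hBA hg) w).symm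
    rw [Finset.prod_congr rfl this]
    refine Finset.prod_equiv (Equiv.mulLeft b) ?_ ?_
    · intro g
      rw [memS, memS, Equiv.coe_mulLeft]
      exact (B.mul_mem_cancel_left hb).symm
    · intro g _
      rfl
  obtain ⟨B0, hB0⟩ := hne
  have hTA : ∏ g ∈ S A, f g = 1 :=
    hfix B0 hB0 _ (fun b hb => fixed A le_rfl b (hle B0 hB0 hb))
  have hTB : ∀ B ∈ 𝒜, ∏ g ∈ S B, f g = 1 :=
    fun B hB => hfix B hB _ (fun b hb => fixed B (hle B hB) b hb)
  have hcount1 : (𝒜.filter (fun B => (1 : G) ∈ B)).card = 𝒜.card := by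
    rw [Finset.filter_true_of_mem]
    intro B _
    exact B.one_mem
  have hcount : ∀ g ∈ (S A).erase 1, (𝒜.filter (fun B => g ∈ B)).card = 1 := by
    intro g hg
    rw [Finset.mem_erase, memS] at hg
    obtain ⟨B, ⟨hB1, hB2⟩, huniq⟩ := hpart g hg.2 hg.1
    rw [Finset.card_eq_one]
    refine ⟨B, ?_⟩
    ext B'
    rw [Finset.mem_filter, Finset.mem_singleton]
    constructor
    · intro h
      exact huniq B' h
    · rintro rfl
      exact ⟨hB1, hB2⟩
  have h1A : (1 : G) ∈ S A := (memS A 1).2 A.one_mem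
  have hident : ∏ B ∈ 𝒜, ∏ g ∈ S B, f g = (∏ g ∈ S A, f g) * w ^ (𝒜.card - 1) := by
    have step1 : ∀ B ∈ 𝒜, ∏ g ∈ S B, f g = ∏ g ∈ S A, if g ∈ B then f g else 1 := by
      intro B hB
      rw [← Finset.prod_filter]
      apply Finset.prod_congr _ (fun _ _ => rfl)
      ext g
      rw [Finset.mem_filter, memS, memS]
      exact ⟨fun h => ⟨hle B hB h, h⟩, fun h => h.2⟩
    rw [Finset.prod_congr rfl step1, Finset.prod_comm]
    have step2 : ∀ g ∈ S A, (∏ B ∈ 𝒜, if g ∈ B then f g else 1)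
        = f g ^ (𝒜.filter (fun B => g ∈ B)).card := by
      intro g _
      rw [← Finset.prod_filter, Finset.prod_const]
    rw [Finset.prod_congr rfl step2, ← Finset.mul_prod_erase _ _ h1A,
      ← Finset.mul_prod_erase (S A) f h1A, hcount1]
    have step3 : ∏ g ∈ (S A).erase 1, f g ^ (𝒜.filter (fun B => g ∈ B)).card
        = ∏ g ∈ (S A).erase 1, f g := by
      apply Finset.prod_congr rfl
      intro g hg
      rw [hcount g hg, pow_one]
    rw [step3]
    have hf1 : f 1 = w := h1 w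
    rw [hf1]
    have hpos : 0 < 𝒜.card := Finset.card_pos.2 ⟨B0, hB0⟩
    have : 𝒜.card = (𝒜.card - 1) + 1 := by omega
    conv_lhs => rw [this, pow_succ]
    rw [mul_comm (w ^ (𝒜.card - 1)) w, mul_assoc, mul_assoc, mul_comm (w ^ (𝒜.card - 1))]
  rw [Finset.prod_congr rfl hTB, Finset.prod_const_one, hTA, one_mul] at hident
  have hd1 : orderOf w ∣ 𝒜.card - 1 := orderOf_dvd_of_pow_eq_one hident.symm
  have hd2 : orderOf w ∣ Nat.card W := orderOf_dvd_natCard w
  have : orderOf w ∣ 1 := by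
    have := Nat.dvd_gcd hd1 hd2
    rwa [Nat.Coprime.gcd_eq_one hk] at this
  exact orderOf_eq_one_iff.1 (Nat.dvd_one.1 this)

open scoped IsMulCommutative

open Classical in
/-- conjugation by `g` on `V` when `g` normalizes `V`, the identity otherwise -/
noncomputable def conjHom {G : Type*} [Group G] (V : Subgroup G) (g : G) : V →* V :=
  if h : g ∈ Subgroup.normalizer (V : Set G) then
    { toFun := fun v => ⟨g * v * g⁻¹, (Subgroup.mem_normalizer_iff.1 h v).1 v.2⟩
      map_one' := by ext; simp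
      map_mul' := by intro a b; ext; simp }
  else MonoidHom.id V

theorem conjHom_coe {G : Type*} [Group G] (V : Subgroup G) {g : G}
    (h : g ∈ Subgroup.normalizer (V : Set G)) (v : V) : ((conjHom V g v : V) : G) = g * v * g⁻¹ := by
  unfold conjHom
  rw [dif_pos h]
  rfl

theorem result {G : Type*} [Group G] [Finite G] (A V : Subgroup G) (hVab : IsMulCommutative V) (hV : V ≠ ⊥) (hAV : A ≤ Subgroup.normalizer (V : Set G)) (𝒜 : Finset (Subgroup G)) (hne : 𝒜.Nonempty) (hprop : ∀ B ∈ 𝒜, B < A) (hpart : ∀ a ∈ A, a ≠ 1 → ∃! B, B ∈ 𝒜 ∧ a ∈ B) (hk : (𝒜.card - 1).Coprime (Nat.card V)) : ∃ B ∈ 𝒜, V ⊓ Subgroup.centralizer (B : Set G) ≠ ⊥ := by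
  by_contra hcon
  push Not at hcon
  have := hVab
  have key := abstract_key (W := V) A (conjHom V)
    (by
      intro w
      apply Subtype.ext
      rw [conjHom_coe V (Subgroup.one_mem _)]
      simp)
    (by
      intro g hg h hh w
      apply Subtype.ext
      rw [conjHom_coe V (hAV (A.mul_mem hg hh)), conjHom_coe V (hAV hg), conjHom_coe V (hAV hh)]
      simp [mul_assoc])
    𝒜 hne (fun B hB => (hprop B hB).le) hpart hk
    (by
      intro B hB w hw
      have hmem : (w : G) ∈ V ⊓ Subgroup.centralizer (B : Set G) := by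
        refine Subgroup.mem_inf.2 ⟨w.2, ?_⟩
        rw [Subgroup.mem_centralizer_iff]
        intro b hb
        have h1 := congrArg Subtype.val (hw b hb)
        rw [conjHom_coe V (hAV ((hprop B hB).le hb))] at h1
        calc b * (w : G) = (b * w * b⁻¹) * b := by group
          _ = w * b := by rw [h1]
      rw [hcon B hB, Subgroup.mem_bot] at hmem
      exact Subtype.ext hmem)
  apply hV
  rw [eq_bot_iff]
  intro v hv
  have := key ⟨v, hv⟩
  rw [Subgroup.mem_bot]
  exact congrArg Subtype.val this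

end Cfsg.Agent.S3733
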