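import Cfsg.Statements.S3735

set_option autoImplicit false
open Cfsg

namespace Cfsg.Agent.S3735

open Pointwise

variable {G : Type*} [Group G]

/-- `U` is stable under conjugation by the elements of `K` -/
def Stable (K U : Subgroup G) : Prop := ∀ k ∈ K, MulAut.conj k • U ≤ U

theorem conj_smul_mem_iff (k x : G) (U : Subgroup G) :
    x ∈ MulAut.conj k • U ↔ k⁻¹ * x * k ∈ U := by
  rw [Subgroup.mem_pointwise_smul_iff_inv_smul_mem, ← map_inv, MulAut.smul_def, MulAut.conj_apply,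
    inv_inv]

theorem stable_iff_le_normalizer (K U : Subgroup G) :
    Stable K U ↔ K ≤ Subgroup.normalizer (U : Set G) := by
  constructor
  · intro h k hk
    rw [Subgroup.mem_normalizer_iff]
    intro x
    constructor
    · intro hx
      apply h k hk
      rw [conj_smul_mem_iff]
      simpa [mul_assoc] using hx
    · intro hx
      have := h k⁻¹ (K.inv_mem hk)
      apply this
      rw [conj_smul_mem_iff]
      simpa [mul_assoc] using hx
  · intro h k hk x hx
    rw [conj_smul_mem_iff] at hx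
    have := (Subgroup.mem_normalizer_iff.1 (h hk) (k⁻¹ * x * k)).1 hx
    simpa [mul_assoc] using this

theorem Stable.smul_eq {K U : Subgroup G} (h : Stable K U) {k : G} (hk : k ∈ K) :
    MulAut.conj k • U = U := by
  apply le_antisymm (h k hk)
  have := h k⁻¹ (K.inv_mem hk)
  rw [map_inv, Subgroup.pointwise_smul_subset_iff, inv_inv] at this
  exact this

theorem Stable.mono {A H U : Subgroup G} (hAH : A ≤ H) (h : Stable H U) : Stable A U :=
  fun k hk => h k (hAH hk)

theorem stable_bot (K : Subgroup G) : Stable K ⊥ := by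
  intro k _
  rw [Subgroup.smul_bot]

theorem Stable.sup {K U W : Subgroup G} (hU : Stable K U) (hW : Stable K W) : Stable K (U ⊔ W) := by
  intro k hk
  rw [Subgroup.smul_sup]
  exact sup_le_sup (hU k hk) (hW k hk)

theorem Stable.inf {K U W : Subgroup G} (hU : Stable K U) (hW : Stable K W) : Stable K (U ⊓ W) := by
  intro k hk
  rw [Subgroup.smul_inf]
  exact inf_le_inf (hU k hk) (hW k hk)

theorem stable_sSup {K : Subgroup G} {S : Set (Subgroup G)} (h : ∀ X ∈ S, Stable K X) :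
    Stable K (sSup S) := by
  intro k hk
  rw [Subgroup.pointwise_smul_subset_iff]
  apply sSup_le
  intro X hX
  rw [← Subgroup.pointwise_smul_subset_iff]
  exact (h X hX k hk).trans (le_sSup hX)

/-- minimal nontrivial `K`-stable subgroup -/
def IsAtomFor (K T : Subgroup G) : Prop :=
  T ≠ ⊥ ∧ Stable K T ∧ ∀ X : Subgroup G, X ≤ T → Stable K X → X = ⊥ ∨ X = T

theorem exists_atom_le [Finite G] (K U : Subgroup G) (hU : U ≠ ⊥) (hs : Stable K U) :
    ∃ T, IsAtomFor K T ∧ T ≤ U := by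
  have hfin : {X : Subgroup G | X ≠ ⊥ ∧ X ≤ U ∧ Stable K X}.Finite := Set.toFinite _
  obtain ⟨T, hT, hmin⟩ := hfin.exists_minimal ⟨U, hU, le_rfl, hs⟩
  refine ⟨T, ⟨hT.1, hT.2.2, ?_⟩, hT.2.1⟩
  intro X hXT hXs
  by_cases hX : X = ⊥
  · exact Or.inl hX
  · right
    exact le_antisymm hXT (hmin ⟨hX, hXT.trans hT.2.1, hXs⟩ hXT)

theorem mem_sup_of_comm {W T : Subgroup G} (hc : ∀ w ∈ W, ∀ t ∈ T, w * t = t * w) {x : G}
    (hx : x ∈ W ⊔ T) : ∃ w ∈ W, ∃ t ∈ T, x = w * t := by
  have hle : W ≤ Subgroup.normalizer (T : Set G) := by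
    refine le_trans ?_ (Subgroup.centralizer_le_normalizer _)
    intro w hw
    rw [Subgroup.mem_centralizer_iff]
    intro t ht
    exact (hc w hw t ht).symm
  have h := Subgroup.coe_mul_of_left_le_normalizer_right W T hle
  have hx' : x ∈ ((W ⊔ T : Subgroup G) : Set G) := hx
  rw [h, Set.mem_mul] at hx'
  obtain ⟨w, hw, t, ht, rfl⟩ := hx'
  exact ⟨w, hw, t, ht, rfl⟩

theorem complement_of_atomistic [Finite G] (K V : Subgroup G)
    (hcomm : ∀ x ∈ V, ∀ y ∈ V, x * y = y * x)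
    (hV : V = sSup {T | IsAtomFor K T ∧ T ≤ V}) (U : Subgroup G) (hUV : U ≤ V) (hU : Stable K U) :
    ∃ W : Subgroup G, W ≤ V ∧ Stable K W ∧ U ⊓ W = ⊥ ∧ U ⊔ W = V := by
  have hfin : {W : Subgroup G | W ≤ V ∧ Stable K W ∧ U ⊓ W = ⊥}.Finite := Set.toFinite _
  obtain ⟨W, hW, hmax⟩ := hfin.exists_maximal ⟨⊥, bot_le, stable_bot K, inf_bot_eq U⟩
  refine ⟨W, hW.1, hW.2.1, hW.2.2, ?_⟩
  apply le_antisymm (sup_le hUV hW.1)
  conv_lhs => rw [hV]
  apply sSup_le
  rintro T ⟨hT, hTV⟩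
  by_contra hn
  have hinf : T ⊓ (U ⊔ W) = ⊥ := by
    rcases hT.2.2 (T ⊓ (U ⊔ W)) inf_le_left (hT.2.1.inf (hU.sup hW.2.1)) with h | h
    · exact h
    · exact absurd (h ▸ inf_le_right) hn
  have hmem : W ⊔ T ∈ {W : Subgroup G | W ≤ V ∧ Stable K W ∧ U ⊓ W = ⊥} := by
    refine ⟨sup_le hW.1 hTV, hW.2.1.sup hT.2.1, ?_⟩
    rw [eq_bot_iff]
    rintro x ⟨hxU, hxWT⟩
    obtain ⟨w, hw, t, ht, rfl⟩ := mem_sup_of_comm
      (fun w hw t ht => hcomm w (hW.1 hw) t (hTV ht)) hxWT
    have ht' : t ∈ T ⊓ (U ⊔ W) := by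
      refine ⟨ht, ?_⟩
      have : t = w⁻¹ * (w * t) := by group
      rw [this]
      exact Subgroup.mul_mem _ (Subgroup.mem_sup_right (W.inv_mem hw)) (Subgroup.mem_sup_left hxU)
    rw [hinf, Subgroup.mem_bot] at ht'
    subst ht'
    rw [mul_one] at hxU ⊢
    have : w ∈ U ⊓ W := ⟨hxU, hw⟩
    rw [hW.2.2] at this
    exact this
  have := hmax hmem le_sup_left
  exact hn ((le_sup_right.trans this).trans le_sup_right)

theorem stable_conj {A H X : Subgroup G} (hAn : Stable H A) (hX : Stable A X) {h : G} (hh : h ∈ H) :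
    Stable A (MulAut.conj h • X) := by
  intro a ha
  have ha' : h⁻¹ * a * h ∈ A := by
    have := hAn h⁻¹ (H.inv_mem hh)
    apply this
    rw [conj_smul_mem_iff]
    simpa [mul_assoc] using ha
  have e : MulAut.conj a * MulAut.conj h = MulAut.conj h * MulAut.conj (h⁻¹ * a * h) := by
    rw [← map_mul, ← map_mul]
    congr 1
    group
  rw [← mul_smul, e, mul_smul, Subgroup.pointwise_smul_le_pointwise_smul_iff]
  exact hX _ ha'

theorem atom_conj {A H T : Subgroup G} (hAn : Stable H A) (hT : IsAtomFor A T) {h : G} (hh : h ∈ H) :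
    IsAtomFor A (MulAut.conj h • T) := by
  refine ⟨?_, stable_conj hAn hT.2.1 hh, ?_⟩
  · intro hbot
    apply hT.1
    have : (MulAut.conj h)⁻¹ • (MulAut.conj h • T) = (MulAut.conj h)⁻¹ • (⊥ : Subgroup G) := by
      rw [hbot]
    rwa [inv_smul_smul, Subgroup.smul_bot] at this
  · intro X hX hXs
    have hY : (MulAut.conj h)⁻¹ • X ≤ T := by
      rwa [← Subgroup.subset_pointwise_smul_iff]
    have hYs : Stable A ((MulAut.conj h)⁻¹ • X) := by
      rw [← map_inv]
      exact stable_conj hAn hXs (H.inv_mem hh)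
    rcases hT.2.2 _ hY hYs with h1 | h1
    · left
      have : MulAut.conj h • ((MulAut.conj h)⁻¹ • X) = MulAut.conj h • (⊥ : Subgroup G) := by
        rw [h1]
      rwa [smul_inv_smul, Subgroup.smul_bot] at this
    · right
      have : MulAut.conj h • ((MulAut.conj h)⁻¹ • X) = MulAut.conj h • T := by
        rw [h1]
      rwa [smul_inv_smul] at this

theorem atom_le_sSup_atoms [Finite G] {A H V T : Subgroup G} (hAH : A ≤ H) (hAn : Stable H A)
    (hT : IsAtomFor H T) (hTV : T ≤ V) : T ≤ sSup {T' | IsAtomFor A T' ∧ T' ≤ V} := by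
  obtain ⟨T0, hT0, hT0T⟩ := exists_atom_le A T hT.1 (hT.2.1.mono hAH)
  set R : Subgroup G := ⨆ h : H, MulAut.conj (h : G) • T0 with hR
  have hRT : R ≤ T := by
    apply iSup_le
    intro h
    have := hT.2.1.smul_eq h.2
    rw [← this, Subgroup.pointwise_smul_le_pointwise_smul_iff]
    exact hT0T
  have hRs : Stable H R := by
    intro k hk
    rw [Subgroup.pointwise_smul_subset_iff]
    apply iSup_le
    intro h
    rw [← Subgroup.pointwise_smul_subset_iff, ← mul_smul, ← map_mul]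
    have e : k * (h : G) = (((⟨k, hk⟩ : H) * h : H) : G) := rfl
    rw [e, hR]
    exact le_iSup (fun h : H => MulAut.conj (h : G) • T0) ((⟨k, hk⟩ : H) * h)
  have hRne : R ≠ ⊥ := by
    intro hbot
    apply hT0.1
    rw [eq_bot_iff, ← hbot]
    have := le_iSup (fun h : H => MulAut.conj (h : G) • T0) 1
    simpa using this
  have hReq : R = T := by
    rcases hT.2.2 R hRT hRs with h | h
    · exact absurd h hRne
    · exact h
  rw [← hReq]
  apply iSup_le
  intro h
  apply le_sSup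
  refine ⟨atom_conj hAn hT0 h.2, ?_⟩
  exact ((le_iSup (fun h : H => MulAut.conj (h : G) • T0) h).trans hRT).trans hTV

theorem result {G : Type*} [Group G] [Finite G] (H A V : Subgroup G) (hVab : IsMulCommutative V) (hHV : H ≤ Subgroup.normalizer (V : Set G)) (hAH : A ≤ H) (hAn : H ≤ Subgroup.normalizer (A : Set G)) (hss : ∀ U : Subgroup G, U ≤ V → H ≤ Subgroup.normalizer (U : Set G) → ∃ W : Subgroup G, W ≤ V ∧ H ≤ Subgroup.normalizer (W : Set G) ∧ U ⊓ W = ⊥ ∧ U ⊔ W = V) (U : Subgroup G) (hUV : U ≤ V) (hAU : A ≤ Subgroup.normalizer (U : Set G)) : ∃ W : Subgroup G, W ≤ V ∧ A ≤ Subgroup.normalizer (W : Set G) ∧ U ⊓ W = ⊥ ∧ U ⊔ W = V := by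
  have hcomm : ∀ x ∈ V, ∀ y ∈ V, x * y = y * x := by
    intro x hx y hy
    have := mul_comm' (⟨x, hx⟩ : V) ⟨y, hy⟩
    exact congrArg Subtype.val this
  have hAnS : Stable H A := (stable_iff_le_normalizer H A).2 hAn
  -- step 1
  have h1 : V = sSup {T | IsAtomFor H T ∧ T ≤ V} := by
    set S := sSup {T | IsAtomFor H T ∧ T ≤ V} with hS
    have hSV : S ≤ V := sSup_le (fun T hT => hT.2)
    have hSs : Stable H S := stable_sSup (fun T hT => hT.1.2.1)
    obtain ⟨W, hWV, hWn, hinf, hsup⟩ := hss S hSV ((stable_iff_le_normalizer H S).1 hSs)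
    have hWbot : W = ⊥ := by
      by_contra hne
      obtain ⟨T, hT, hTW⟩ := exists_atom_le H W hne ((stable_iff_le_normalizer H W).2 hWn)
      have hTS : T ≤ S := le_sSup ⟨hT, hTW.trans hWV⟩
      have : T ≤ S ⊓ W := le_inf hTS hTW
      rw [hinf, le_bot_iff] at this
      exact hT.1 this
    rw [hWbot, sup_bot_eq] at hsup
    exact hsup.symm
  -- step 3
  have h3 : V = sSup {T | IsAtomFor A T ∧ T ≤ V} := by
    apply le_antisymm
    · conv_lhs => rw [h1]
      apply sSup_le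
      rintro T ⟨hT, hTV⟩
      exact atom_le_sSup_atoms hAH hAnS hT hTV
    · exact sSup_le (fun T hT => hT.2)
  obtain ⟨W, hWV, hWs, hinf, hsup⟩ := complement_of_atomistic A V hcomm h3 U hUV
    ((stable_iff_le_normalizer A U).2 hAU)
  exact ⟨W, hWV, (stable_iff_le_normalizer A W).1 hWs, hinf, hsup⟩

end Cfsg.Agent.S3735
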