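import Mathlib
import Cfsg.Statements.S3737
import Cfsg.Agent.S3736
import Cfsg.Agent.Lib.Helper66.AbelPQ

set_option autoImplicit false
open Cfsg

namespace Cfsg.Agent.S3737

open Cfsg.Agent.Lib.Helper66
open scoped commutatorElement

/-- Thompson's strengthening of the P × Q lemma for odd primes. Let p be an odd prime and let P, Q and G be subgroups of a finite group with P a p-group, Q of order prime to p and normalized by P, and G a p-group normalized by both P and Q. If every element of G centralized by P is centralized by Q, then Q centralizes G. -/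
theorem result {X : Type*} [Group X] [Finite X] {p : ℕ} [Fact p.Prime] (hp : p ≠ 2) (P Q G : Subgroup X) (hP : IsPGroup p P) (hQ : (Nat.card Q).Coprime p) (hPQ : P ≤ Subgroup.normalizer (Q : Set X)) (hG : IsPGroup p G) (hPG : P ≤ Subgroup.normalizer (G : Set X)) (hQG : Q ≤ Subgroup.normalizer (G : Set X)) (hC : G ⊓ Subgroup.centralizer (P : Set X) ≤ Subgroup.centralizer (Q : Set X)) : Q ≤ Subgroup.centralizer (G : Set X) := by
  by_contra hnot
  have hGQ : ⁅G, Q⁆ ≠ ⊥ := by
    intro h
    apply hnot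
    rw [Subgroup.commutator_comm] at h
    exact Subgroup.commutator_eq_bot_iff_le_centralizer.mp h
  let 𝒮 : Set (Subgroup X) := {U | U ≤ G ∧ P ⊔ Q ≤ Subgroup.normalizer (U : Set X) ∧ ⁅U, Q⁆ ≠ ⊥}
  have hne : 𝒮.Nonempty := ⟨G, le_rfl, sup_le hPG hQG, hGQ⟩
  obtain ⟨H, ⟨hHG, hBH, hHQ⟩, hHmin⟩ := (wellFounded_lt (α := Subgroup X)).has_min 𝒮 hne
  have hHp : IsPGroup p H := hG.to_le hHG
  have hmin : ∀ U : Subgroup X, U < H → P ⊔ Q ≤ Subgroup.normalizer (U : Set X) → ⁅U, Q⁆ = ⊥ := by
    intro U hU hBU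
    by_contra h
    exact hHmin U ⟨hU.le.trans hHG, hBU, h⟩ hU
  obtain ⟨hHH, hstruct, -, hexp⟩ := Cfsg.Agent.S3736.result (P ⊔ Q) Q H hHp hBH le_sup_right
    (sup_le hPQ Subgroup.le_normalizer) hQ hHQ hmin
  have hexp' : ∀ x : ↥H, x ^ p = 1 := fun x => Subtype.ext (hexp hp x x.2)
  have hclass : IsClassTwo ↥H := by
    intro x y z
    rcases hstruct with ⟨hab, -⟩ | ⟨-, -, hcz⟩
    · have hxy : ⁅x, y⁆ = 1 := by
        rw [commutatorElement_eq_one_iff_mul_comm]
        exact hab.is_comm.comm x y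
      rw [hxy, one_mul, mul_one]
    · have hmem : ⁅x, y⁆ ∈ Subgroup.center ↥H := by
        rw [← hcz]
        exact Subgroup.commutator_mem_commutator (Subgroup.mem_top x) (Subgroup.mem_top y)
      exact ((Subgroup.mem_center_iff.mp hmem) z).symm
  obtain ⟨m, hm⟩ := (Fact.out : p.Prime).odd_of_ne_two hp
  have hPH : P ≤ Subgroup.normalizer (H : Set X) := le_sup_left.trans hBH
  have hQH : Q ≤ Subgroup.normalizer (H : Set X) := le_sup_right.trans hBH
  let P₁ : Subgroup ↥(Subgroup.normalizer (H : Set X)) := P.subgroupOf _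
  let Q₁ : Subgroup ↥(Subgroup.normalizer (H : Set X)) := Q.subgroupOf _
  have hQ₁card : Nat.card Q₁ = Nat.card Q := Nat.card_congr (Subgroup.subgroupOfEquivOfLe hQH).toEquiv
  have hkey := classTwo_PQ p m hm hclass hexp' H.normalizerMonoidHom P₁ Q₁ hP.comap_subtype
    (hQ₁card ▸ hQ) ?_ ?_
  · apply hHQ
    rw [Subgroup.commutator_eq_bot_iff_le_centralizer]
    intro v hv
    rw [Subgroup.mem_centralizer_iff]
    intro q hq
    have h1 := hkey ⟨q, hQH hq⟩ (Subgroup.mem_subgroupOf.mpr hq) ⟨v, hv⟩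
    have h2 : q * v * q⁻¹ = v := congrArg Subtype.val h1
    calc q * v = (q * v * q⁻¹) * q := by group
      _ = v * q := by rw [h2]
  · intro x hx
    rw [Subgroup.mem_normalizer_iff]
    intro n
    exact Subgroup.mem_normalizer_iff.mp (hPQ (Subgroup.mem_subgroupOf.mp hx)) (n : X)
  · intro v hvP q hq
    have hvC : (v : X) ∈ Subgroup.centralizer (P : Set X) := by
      rw [Subgroup.mem_centralizer_iff]
      intro x hx
      have h1 := hvP ⟨x, hPH hx⟩ (Subgroup.mem_subgroupOf.mpr hx)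
      have h2 : x * (v : X) * x⁻¹ = v := congrArg Subtype.val h1
      calc x * (v : X) = (x * v * x⁻¹) * x := by group
        _ = v * x := by rw [h2]
    have hvQ := hC ⟨hHG v.2, hvC⟩
    have h3 := (Subgroup.mem_centralizer_iff.mp hvQ) (q : X) (Subgroup.mem_subgroupOf.mp hq)
    apply Subtype.ext
    show (q : X) * (v : X) * (q : X)⁻¹ = v
    rw [h3]
    group

end Cfsg.Agent.S3737
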