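import Mathlib
import Cfsg.Statements.S3738
import Cfsg.Agent.S3736
import Cfsg.Agent.Lib.Helper66.CubeSum
import Cfsg.Agent.Lib.Helper66.NormalizerLemmas
import Cfsg.Agent.Lib.Helper66.FreeConj
import Cfsg.Agent.Lib.Helper66.AbelAct
import Cfsg.Agent.Lib.Helper03.PGroupFrattini
import Cfsg.Agent.Lib.Helper32.Class2

set_option autoImplicit false
open Cfsg

namespace Cfsg.Agent.S3738

open Cfsg.Agent.Lib.Helper66
open scoped commutatorElement

theorem nine_dvd (m : ℕ) (hm : 1 ≤ m) (h : 9 ∣ 2 ^ m - 1) : 6 ≤ m := by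
  by_contra hlt
  push Not at hlt
  interval_cases m <;> norm_num at h

/-- a subgroup generated by commuting involutions is elementary abelian -/
theorem closure_elemAb {G : Type*} [Group G] (S : Set G)
    (hc : ∀ a ∈ S, ∀ b ∈ S, a * b = b * a) (h2 : ∀ a ∈ S, a ^ 2 = 1) :
    IsMulCommutative (Subgroup.closure S) ∧ ∀ a ∈ Subgroup.closure S, a ^ 2 = 1 := by
  have hcomm := Subgroup.isMulCommutative_closure hc
  refine ⟨hcomm, ?_⟩
  intro a ha
  induction ha using Subgroup.closure_induction with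
  | mem x hx => exact h2 x hx
  | one => simp
  | mul x y hx hy ihx ihy =>
    have hxy : x * y = y * x := by
      have := hcomm.is_comm.comm ⟨x, hx⟩ ⟨y, hy⟩
      exact congrArg Subtype.val this
    calc (x * y) ^ 2 = x * (y * x) * y := by rw [pow_two]; group
      _ = x * (x * y) * y := by rw [hxy]
      _ = x ^ 2 * y ^ 2 := by rw [pow_two, pow_two]; group
      _ = 1 := by rw [ihx, ihy, one_mul]
  | inv x hx ih => rw [inv_pow, ih, inv_one]

theorem mem_zpowers_of_sq {G : Type*} [Group G] (c : G) (hc : c ^ 2 = 1) (x : G)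
    (hx : x ∈ Subgroup.zpowers c) : x = 1 ∨ x = c := by
  obtain ⟨n, rfl⟩ := Subgroup.mem_zpowers_iff.mp hx
  rcases Int.even_or_odd' n with ⟨m, rfl | rfl⟩
  · left
    rw [zpow_mul, zpow_two, ← pow_two, hc, one_zpow]
  · right
    rw [zpow_add, zpow_mul, zpow_two, ← pow_two, hc, one_zpow, one_mul, zpow_one]

/-- In a cyclic group of order `3 ^ (n' + 1)` generated by `d`, every nontrivial subgroup
contains `d ^ (3 ^ n')`. -/
theorem mem_of_ne_bot {X : Type*} [Group X] [Finite X] (d : X) (n' : ℕ)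
    (hd : orderOf d = 3 ^ (n' + 1)) (H : Subgroup X) (hH : H ≤ Subgroup.zpowers d) (hne : H ≠ ⊥) :
    d ^ (3 ^ n') ∈ H := by
  have : Fact (Nat.Prime 3) := ⟨Nat.prime_three⟩
  have hcardD : Nat.card (Subgroup.zpowers d) = 3 ^ (n' + 1) := by rw [Nat.card_zpowers, hd]
  have hdvd : Nat.card H ∣ 3 ^ (n' + 1) := hcardD ▸ Subgroup.card_dvd_of_le hH
  obtain ⟨i, hi, hHi⟩ := (Nat.dvd_prime_pow Nat.prime_three).mp hdvd
  have hi0 : i ≠ 0 := by
    rintro rfl
    apply hne
    exact Subgroup.card_eq_one.mp (by simpa using hHi)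
  have h3 : 3 ∣ Nat.card H := by
    rw [hHi]; exact dvd_pow_self 3 hi0
  obtain ⟨c, hc⟩ := exists_prime_orderOf_dvd_card' 3 h3
  have hcX : orderOf (c : X) = 3 := by rw [Subgroup.orderOf_coe]; exact hc
  obtain ⟨k, hk⟩ := Subgroup.mem_zpowers_iff.mp (hH c.2)
  have hc3 : (c : X) ^ 3 = 1 := by rw [← hcX]; exact pow_orderOf_eq_one _
  have h1 : d ^ (k * 3) = 1 := by
    rw [zpow_mul, hk]; exact_mod_cast hc3
  have h2 : ((orderOf d : ℕ) : ℤ) ∣ k * 3 := orderOf_dvd_iff_zpow_eq_one.mpr h1
  rw [hd] at h2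
  have h3' : ((3 : ℤ) ^ n') ∣ k := by
    have : ((3 ^ (n' + 1) : ℕ) : ℤ) = 3 ^ n' * 3 := by push_cast; ring
    rw [this] at h2
    exact Int.dvd_of_mul_dvd_mul_right (by norm_num) h2
  obtain ⟨b, hb⟩ := h3'
  set e := d ^ (3 ^ n') with he
  have hce : (c : X) = e ^ b := by
    rw [← hk, hb, zpow_mul, he]
    norm_cast
  have hord_e : orderOf e = 3 := by
    rw [he, orderOf_pow_of_dvd (by positivity) (by rw [hd]; exact ⟨3, by ring⟩), hd, pow_succ,
      Nat.mul_div_cancel_left _ (by positivity)]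
  have hle : Subgroup.zpowers (c : X) ≤ Subgroup.zpowers e := by
    rw [Subgroup.zpowers_le, hce]
    exact Subgroup.zpow_mem_zpowers e b
  have heq : Subgroup.zpowers (c : X) = Subgroup.zpowers e := by
    apply Subgroup.eq_of_le_of_card_ge hle
    rw [Nat.card_zpowers, Nat.card_zpowers, hcX, hord_e]
  have : e ∈ Subgroup.zpowers (c : X) := heq ▸ Subgroup.mem_zpowers e
  exact (Subgroup.zpowers_le.mpr c.2) this

/-- Let d be a non-identity 3-element of a finite group and P a 2-subgroup normalized by d on which ⟨d⟩ acts faithfully (no non-identity power of d centralizes P) and without non-identity fixed points (C_P(d) = 1). If every abelian subgroup of P has 2-rank at most 2, then d has order 3. -/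
theorem result {X : Type*} [Group X] [Finite X] (d : X) (n : ℕ) (hn : 1 ≤ n) (hd : orderOf d = 3 ^ n) (P : Subgroup X) (hP : IsPGroup 2 P) (hdP : d ∈ Subgroup.normalizer (P : Set X)) (hfaith : Subgroup.zpowers d ⊓ Subgroup.centralizer (P : Set X) = ⊥) (hfpf : P ⊓ Subgroup.centralizer {d} = ⊥) (hrank : ∀ V : Subgroup X, V ≤ P → IsMulCommutative V → Cfsg.PRankLE 2 2 V) : orderOf d = 3 := by
  have hprime2 : Fact (Nat.Prime 2) := ⟨Nat.prime_two⟩
  by_contra hne
  have hn2 : 2 ≤ n := by
    rcases Nat.lt_or_ge n 2 with h | h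
    · exfalso; apply hne
      have : n = 1 := by omega
      rw [hd, this]; norm_num
    · exact h
  obtain ⟨n', rfl⟩ : ∃ n', n = n' + 1 := ⟨n - 1, by omega⟩
  have hn'1 : 1 ≤ n' := by omega
  set D := Subgroup.zpowers d with hD
  set e := d ^ (3 ^ n') with he
  have hord_e : orderOf e = 3 := by
    rw [he, orderOf_pow_of_dvd (by positivity) (by rw [hd]; exact ⟨3, by ring⟩), hd, pow_succ,
      Nat.mul_div_cancel_left _ (by positivity)]
  set A := Subgroup.zpowers e with hA
  have heD : e ∈ D := Subgroup.pow_mem _ (Subgroup.mem_zpowers d) _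
  have hAD : A ≤ D := Subgroup.zpowers_le.mpr heD
  have hcommDe : ∀ g ∈ D, g * e = e * g := by
    intro g hg
    obtain ⟨k, rfl⟩ := Subgroup.mem_zpowers_iff.mp hg
    exact (((Commute.refl d).zpow_left k).pow_right (3 ^ n')).eq
  have hDA : D ≤ Subgroup.normalizer (A : Set X) := by
    intro g hg
    apply mem_normalizer_of_map_conj_eq
    rw [hA, MonoidHom.map_zpowers]
    congr 1
    show g * e * g⁻¹ = e
    rw [hcommDe g hg]; group
  have hA3 : Nat.card A = 3 := by rw [hA, Nat.card_zpowers, hord_e]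
  have hcop : (Nat.card A).Coprime 2 := by rw [hA3]; norm_num
  have hDP : D ≤ Subgroup.normalizer (P : Set X) := Subgroup.zpowers_le.mpr hdP
  have he1 : e ≠ 1 := by
    intro h
    rw [h, orderOf_one] at hord_e
    omega
  -- centralizing `e` is the same as centralizing `A`
  have hcentA : ∀ U : Subgroup X, U ≤ Subgroup.centralizer {e} → ⁅U, A⁆ = ⊥ := by
    intro U hU
    rw [Subgroup.commutator_eq_bot_iff_le_centralizer]
    intro x hx
    rw [Subgroup.mem_centralizer_iff]
    intro a ha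
    obtain ⟨k, rfl⟩ := Subgroup.mem_zpowers_iff.mp ha
    have h1 : e * x = x * e := (Subgroup.mem_centralizer_iff.mp (hU hx)) e rfl
    exact ((Commute.zpow_left (show Commute e x from h1) k)).eq
  have hntP : ⁅P, A⁆ ≠ ⊥ := by
    intro h
    have h1 : P ≤ Subgroup.centralizer (A : Set X) :=
      Subgroup.commutator_eq_bot_iff_le_centralizer.mp h
    have h2 : e ∈ Subgroup.centralizer (P : Set X) := by
      rw [Subgroup.mem_centralizer_iff]
      intro x hx
      exact ((Subgroup.mem_centralizer_iff.mp (h1 hx)) e (Subgroup.mem_zpowers e)).symm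
    have h3 : e ∈ D ⊓ Subgroup.centralizer (P : Set X) := ⟨heD, h2⟩
    rw [hfaith] at h3
    exact he1 (Subgroup.mem_bot.mp h3)
  -- a minimal `D`-invariant subgroup not centralized by `A`
  let S : Set (Subgroup X) :=
    {U | U ≤ P ∧ D ≤ Subgroup.normalizer (U : Set X) ∧ ⁅U, A⁆ ≠ ⊥}
  have hS : S.Nonempty := ⟨P, le_rfl, hDP, hntP⟩
  obtain ⟨P₀, ⟨hP₀P, hDP₀, hntP₀⟩, hmin⟩ := (wellFounded_lt (α := Subgroup X)).has_min S hS
  have hP₀ : IsPGroup 2 P₀ := hP.to_le hP₀P
  obtain ⟨hPA, hstruct, hirr, -⟩ := Cfsg.Agent.S3736.result (p := 2) D A P₀ hP₀ hDP₀ hAD hDA hcop hntP₀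
    (fun U hU hDU => by
      by_contra h
      exact hmin U ⟨hU.le.trans hP₀P, hDU, h⟩ hU)
  set Φ := (frattini ↥P₀).map P₀.subtype with hΦ
  have hΦP₀ : Φ ≤ P₀ := Subgroup.map_subtype_le _
  have hDΦ : D ≤ Subgroup.normalizer (Φ : Set X) :=
    hDP₀.trans (normalizer_le_normalizer_map_of_characteristic P₀ (frattini ↥P₀))
  have hP₀ne : P₀ ≠ ⊥ := by
    rintro rfl
    exact hntP₀ (Subgroup.commutator_bot_left A)
  have hΦne : Φ ≠ P₀ := by
    intro h
    have h1 : frattini ↥P₀ = ⊤ := by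
      have : (frattini ↥P₀).map P₀.subtype = (⊤ : Subgroup ↥P₀).map P₀.subtype := by
        rw [← hΦ, h]
        ext x; simp
      exact Subgroup.map_injective P₀.subtype_injective this
    have h2 : (⊥ : Subgroup ↥P₀) = ⊤ := frattini_nongenerating (by rw [h1]; simp)
    apply hP₀ne
    rw [Subgroup.eq_bot_iff_forall]
    intro x hx
    have : (⟨x, hx⟩ : ↥P₀) ∈ (⊥ : Subgroup ↥P₀) := h2 ▸ Subgroup.mem_top _
    exact congrArg Subtype.val (Subgroup.mem_bot.mp this)
  -- `C_{P₀}(e) ≤ Φ`
  set C := P₀ ⊓ Subgroup.centralizer {e} with hC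
  have hCΦ : C ≤ Φ := by
    have hDU : D ≤ Subgroup.normalizer ((Φ ⊔ C : Subgroup X) : Set X) := fun g hg =>
      mem_normalizer_sup (hDΦ hg) (mem_normalizer_inf (hDP₀ hg)
        (mem_normalizer_centralizer_singleton (hcommDe g hg)))
    rcases hirr (Φ ⊔ C) le_sup_left (sup_le hΦP₀ inf_le_left) hDU with h | h
    · rw [← h]; exact le_sup_right
    · exfalso
      have h1 : (Φ ⊔ C).subgroupOf P₀ = ⊤ := by rw [h]; exact Subgroup.subgroupOf_self P₀
      rw [Subgroup.subgroupOf_sup hΦP₀ inf_le_left] at h1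
      have h2 : Φ.subgroupOf P₀ = frattini ↥P₀ := by
        rw [hΦ]
        exact Subgroup.comap_map_eq_self_of_injective P₀.subtype_injective _
      rw [h2, sup_comm] at h1
      have h3 : C.subgroupOf P₀ = ⊤ := frattini_nongenerating h1
      have h4 : P₀ ≤ C := Subgroup.subgroupOf_eq_top.mp h3
      exact hntP₀ (hcentA P₀ (h4.trans inf_le_right))
  -- `D` acts freely on `P₀ \ Φ`
  have hfree : ∀ g ∈ D, g ≠ 1 → ∀ x ∈ P₀, x ∉ Φ → g * x * g⁻¹ ≠ x := by
    intro g hg hg1 x hx hxΦ hfix
    have hne : D ⊓ Subgroup.centralizer {x} ≠ ⊥ := by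
      intro h
      have : g ∈ D ⊓ Subgroup.centralizer {x} := by
        refine Subgroup.mem_inf.mpr ⟨hg, ?_⟩
        rw [Subgroup.mem_centralizer_iff]
        intro y hy
        rw [Set.mem_singleton_iff] at hy
        subst hy
        calc y * g = (g * y * g⁻¹) * g := by rw [hfix]
          _ = g * y := by group
      rw [h] at this
      exact hg1 (Subgroup.mem_bot.mp this)
    have hmem := mem_of_ne_bot d n' hd _ inf_le_left hne
    have h1 : x * e = e * x := (Subgroup.mem_centralizer_iff.mp hmem.2) x rfl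
    apply hxΦ
    apply hCΦ
    refine Subgroup.mem_inf.mpr ⟨hx, ?_⟩
    rw [Subgroup.mem_centralizer_iff]
    intro y hy
    rw [Set.mem_singleton_iff] at hy
    subst hy
    exact h1.symm
  have hcount := card_dvd_sub_of_free_conj D P₀ Φ hDP₀ hDΦ hΦP₀ hfree
  have hcardD : Nat.card D = 3 ^ (n' + 1) := by rw [hD, Nat.card_zpowers, hd]
  obtain ⟨a, ha⟩ := IsPGroup.iff_card.mp hP₀
  obtain ⟨b, hb⟩ := IsPGroup.iff_card.mp (hP₀.to_le hΦP₀)
  have hlt : Nat.card Φ < Nat.card P₀ := by
    have : (Φ : Set X) ⊂ (P₀ : Set X) := SetLike.coe_ssubset_coe.mpr (lt_of_le_of_ne hΦP₀ hΦne)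
    have := Set.ncard_lt_ncard this (Set.toFinite _)
    rw [← Nat.card_coe_set_eq, ← Nat.card_coe_set_eq] at this
    exact this
  have hba : b < a := by
    rw [ha, hb] at hlt
    exact (Nat.pow_lt_pow_iff_right (by norm_num)).mp hlt
  have h6 : 6 ≤ a - b := by
    apply nine_dvd (a - b) (by omega)
    have h9 : 9 ∣ 2 ^ a - 2 ^ b := by
      rw [← ha, ← hb]
      refine dvd_trans ?_ hcount
      rw [hcardD]
      have : 3 ^ (n' + 1) = 9 * 3 ^ (n' - 1) := by
        obtain ⟨m, rfl⟩ : ∃ m, n' = m + 1 := ⟨n' - 1, by omega⟩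
        simp only [Nat.add_sub_cancel]
        ring
      rw [this]; exact dvd_mul_right _ _
    have h10 : 2 ^ a - 2 ^ b = 2 ^ b * (2 ^ (a - b) - 1) := by
      have : 2 ^ a = 2 ^ b * 2 ^ (a - b) := by rw [← pow_add]; congr 1; omega
      rw [this, Nat.mul_sub, mul_one]
    rw [h10] at h9
    exact (Nat.Coprime.dvd_of_dvd_mul_left (by
      have : Nat.Coprime 9 2 := by norm_num
      exact Nat.Coprime.pow_right b this) h9)
  rcases hstruct with ⟨hcomm, hexp⟩ | ⟨hp, hfr, hcm⟩
  · -- elementary abelian case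
    have h1 := hrank P₀ hP₀P hcomm
    have hcommtop : IsMulCommutative (⊤ : Subgroup ↥P₀) :=
      ⟨⟨fun x y => Subtype.ext (hcomm.is_comm.comm x.1 y.1)⟩⟩
    have h2 := h1 ⊤ hcommtop (fun x _ => Subtype.ext (by
      have := hexp x.1 x.2
      simpa using this))
    rw [Subgroup.card_top, ha] at h2
    have : 2 ^ 6 ≤ 2 ^ a := Nat.pow_le_pow_right (by norm_num) (by omega)
    norm_num at h2 this
    omega
  · -- special case
    have hcardZ : Nat.card (Subgroup.center ↥P₀) = 2 ^ b := by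
      rw [← hb, hΦ, Subgroup.card_subtype, hfr]
    have hsq : ∀ x : ↥P₀, x ^ 2 ∈ (Subgroup.center ↥P₀) := by
      intro x
      rw [← hfr]
      exact Cfsg.Agent.Lib.Helper03.pow_mem_frattini_of_isPGroup hp x
    have hZe : ∀ z ∈ (Subgroup.center ↥P₀), z ^ 2 = 1 := by
      intro z hz
      rw [← hcm, commutator_eq_closure] at hz
      have hS1 : ∀ s ∈ commutatorSet ↥P₀, s ∈ Subgroup.center ↥P₀ := by
        intro s hs
        rw [← hcm, commutator_eq_closure]
        exact Subgroup.subset_closure hs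
      refine (closure_elemAb (commutatorSet ↥P₀) ?_ ?_).2 z hz
      · intro s hs t ht
        exact ((Subgroup.mem_center_iff.mp (hS1 s hs)) t).symm
      · intro s hs
        obtain ⟨u, v, rfl⟩ := hs
        have hcen : ⁅u, v⁆ ∈ Subgroup.center ↥P₀ := hS1 _ ⟨u, v, rfl⟩
        have hcom : Commute ⁅u, v⁆ u := ((Subgroup.mem_center_iff.mp hcen) u).symm
        rw [← Cfsg.Agent.Lib.Helper32.commutator_pow_left_of_central v u hcom 2]
        have hu2 : u ^ 2 ∈ Subgroup.center ↥P₀ := hsq u
        rw [commutatorElement_def, ← (Subgroup.mem_center_iff.mp hu2) v]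
        group
    -- `|Φ| ≤ 4`
    have hΦcomm : IsMulCommutative ↥Φ := by
      refine ⟨⟨fun x y => Subtype.ext ?_⟩⟩
      obtain ⟨x', hx', hxx⟩ := x.2
      obtain ⟨y', hy', hyy⟩ := y.2
      rw [hfr] at hx'
      have := (Subgroup.mem_center_iff.mp hx') y'
      have h2 := congrArg Subtype.val this
      simp only [Subgroup.coe_mul] at h2
      show (x : X) * y = y * x
      rw [← hxx, ← hyy]
      exact h2.symm
    have hΦexp : ∀ y ∈ Φ, y ^ 2 = 1 := by
      intro y hy
      obtain ⟨y', hy', rfl⟩ := hy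
      rw [hfr] at hy'
      have := hZe y' hy'
      have h2 := congrArg Subtype.val this
      simpa using h2
    have hb2 : b ≤ 2 := by
      have h1 := hrank Φ (hΦP₀.trans hP₀P) hΦcomm
      have hcommtop : IsMulCommutative (⊤ : Subgroup ↥Φ) :=
        ⟨⟨fun x y => Subtype.ext (hΦcomm.is_comm.comm x.1 y.1)⟩⟩
      have h2 := h1 ⊤ hcommtop (fun x _ => Subtype.ext (by
        have := hΦexp x.1 x.2
        simpa using this))
      rw [Subgroup.card_top, hb] at h2
      by_contra hcon
      push Not at hcon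
      have : 2 ^ 3 ≤ 2 ^ b := Nat.pow_le_pow_right (by norm_num) (by omega)
      norm_num at h2 this
      omega
    have hΦbot : Φ ≠ ⊥ := by
      have : Nontrivial ↥P₀ := by
        rw [← Subgroup.nontrivial_iff_ne_bot] at hP₀ne
        exact hP₀ne
      have hnt : Nontrivial (Subgroup.center ↥P₀) := hp.center_nontrivial
      intro h
      have h1 : Nat.card Φ = 1 := by rw [h]; simp
      rw [hb, ← hcardZ] at h1
      have := (Nat.card_eq_one_iff_unique.mp h1).1
      exact not_subsingleton _ this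
    have hb0 : b ≠ 0 := by
      rintro rfl
      apply hΦbot
      exact Subgroup.card_eq_one.mp (by simpa using hb)
    have hb1 : b ≠ 1 := by
      rintro rfl
      obtain ⟨z, hzΦ, hz1⟩ : ∃ z ∈ Φ, z ≠ 1 := by
        by_contra hcon
        push Not at hcon
        exact hΦbot ((Subgroup.eq_bot_iff_forall Φ).mpr hcon)
      have hz2 : z ^ 2 = 1 := hΦexp z hzΦ
      have hordz : orderOf z = 2 := orderOf_eq_prime hz2 hz1
      have hzp : Subgroup.zpowers z = Φ := by
        apply Subgroup.eq_of_le_of_card_ge (Subgroup.zpowers_le.mpr hzΦ)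
        rw [Nat.card_zpowers, hordz, hb]; norm_num
      have hdz : d * z * d⁻¹ ∈ Φ :=
        (Subgroup.mem_normalizer_iff.mp (hDΦ (Subgroup.mem_zpowers d)) z).mp hzΦ
      rw [← hzp] at hdz
      rcases mem_zpowers_of_sq z hz2 _ hdz with h | h
      · apply hz1
        have : z = d⁻¹ * (d * z * d⁻¹) * d := by group
        rw [this, h]; group
      · have hzmem : z ∈ P ⊓ Subgroup.centralizer {d} := by
          refine Subgroup.mem_inf.mpr ⟨hP₀P (hΦP₀ hzΦ), ?_⟩
          rw [Subgroup.mem_centralizer_iff]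
          intro y hy
          rw [Set.mem_singleton_iff] at hy
          subst hy
          calc y * z = (y * z * y⁻¹) * y := by group
            _ = z * y := by rw [h]
        rw [hfpf] at hzmem
        exact hz1 (Subgroup.mem_bot.mp hzmem)
    have hb2' : b = 2 := by omega
    subst hb2'
    have hcard4 : Nat.card (Subgroup.center ↥P₀) = 4 := by rw [hcardZ]; norm_num
    have h27 : 2 ^ 7 ∣ Nat.card ↥P₀ := by
      rw [ha]; exact pow_dvd_pow 2 (by omega)
    obtain ⟨x, hxZ, hx2⟩ := exists_sq_eq_one_not_mem (X := ↥P₀) (Z := (Subgroup.center ↥P₀)) le_rfl hsq hZe hcard4 h27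
    -- the elementary abelian subgroup `⟨Z, x⟩` of order at least `8`
    obtain ⟨hEcomm, hEexp⟩ := closure_elemAb (((Subgroup.center ↥P₀) : Set ↥P₀) ∪ {x}) (by
      intro s hs t ht
      rcases hs with hs | hs
      · exact ((Subgroup.mem_center_iff.mp hs) t).symm
      · rcases ht with ht | ht
        · exact (Subgroup.mem_center_iff.mp ht) s
        · rw [Set.mem_singleton_iff] at hs ht
          rw [hs, ht]) (by
      intro s hs
      rcases hs with hs | hs
      · exact hZe s hs
      · rw [Set.mem_singleton_iff] at hs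
        rw [hs]; exact hx2)
    set E := Subgroup.closure (((Subgroup.center ↥P₀) : Set ↥P₀) ∪ {x}) with hE
    have hZE : (Subgroup.center ↥P₀) ≤ E := fun z hz => Subgroup.subset_closure (Or.inl hz)
    have hxE : x ∈ E := Subgroup.subset_closure (Or.inr rfl)
    have hcardE : 4 < Nat.card E := by
      have hlt : (Subgroup.center ↥P₀) < E := lt_of_le_of_ne hZE (fun h => hxZ (h ▸ hxE))
      have : ((Subgroup.center ↥P₀) : Set ↥P₀) ⊂ (E : Set ↥P₀) := SetLike.coe_ssubset_coe.mpr hlt
      have := Set.ncard_lt_ncard this (Set.toFinite _)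
      rw [← Nat.card_coe_set_eq, ← Nat.card_coe_set_eq] at this
      rw [← hcard4]
      exact this
    set V := E.map P₀.subtype with hV
    have hVP : V ≤ P := (Subgroup.map_subtype_le E).trans hP₀P
    have hVcomm : IsMulCommutative ↥V := by
      refine ⟨⟨fun x y => Subtype.ext ?_⟩⟩
      obtain ⟨x', hx', hxx⟩ := x.2
      obtain ⟨y', hy', hyy⟩ := y.2
      have := hEcomm.is_comm.comm ⟨x', hx'⟩ ⟨y', hy'⟩
      have h2 := congrArg (fun t : ↥E => ((t : ↥P₀) : X)) this
      simp only [Subgroup.coe_mul] at h2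
      show (x : X) * y = y * x
      rw [← hxx, ← hyy]
      exact h2
    have hVexp : ∀ y ∈ V, y ^ 2 = 1 := by
      intro y hy
      obtain ⟨y', hy', rfl⟩ := hy
      have := hEexp y' hy'
      have h2 := congrArg Subtype.val this
      simpa using h2
    have h1 := hrank V hVP hVcomm
    have hcommtop : IsMulCommutative (⊤ : Subgroup ↥V) :=
      ⟨⟨fun x y => Subtype.ext (hVcomm.is_comm.comm x.1 y.1)⟩⟩
    have h2 := h1 ⊤ hcommtop (fun x _ => Subtype.ext (by
      have := hVexp x.1 x.2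
      simpa using this))
    rw [Subgroup.card_top, hV, Subgroup.card_subtype] at h2
    norm_num at h2
    omega

end Cfsg.Agent.S3738
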