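import Mathlib
import Cfsg.Statements.S3739
import Cfsg.Agent.S3738
import Cfsg.Agent.S3734
import Cfsg.Agent.Lib.Helper66.ConjFixed
import Cfsg.Agent.Lib.Helper66.NormalizerLemmas

set_option autoImplicit false
open Cfsg

namespace Cfsg.Agent.S3739

open Cfsg.Agent.Lib.Helper66

theorem mem_centralizer_singleton_iff {G : Type*} [Group G] {z d : G} :
    z ∈ Subgroup.centralizer {d} ↔ d * z = z * d := by
  rw [Subgroup.mem_centralizer_iff]
  constructor
  · intro h; exact h d rfl
  · intro h y hy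
    rw [Set.mem_singleton_iff] at hy
    subst hy; exact h

theorem comm_of_conj_eq {G : Type*} [Group G] {g z : G} (h : g * z * g⁻¹ = z) : g * z = z * g := by
  calc g * z = (g * z * g⁻¹) * g := by group
    _ = z * g := by rw [h]

/-- adjoining a commuting involution to an elementary abelian 2-subgroup -/
theorem adjoin {G : Type*} [Group G] [Finite G] (E₀ : Subgroup G)
    (hE : Cfsg.IsElementaryAbelian 2 E₀) (y : G) (hy2 : y ^ 2 = 1)
    (hyc : ∀ x ∈ E₀, x * y = y * x) (hy : y ∉ E₀) :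
    ∃ E : Subgroup G, Cfsg.IsElementaryAbelian 2 E ∧ Nat.card E₀ < Nat.card E := by
  obtain ⟨hcomm, hexp⟩ := hE
  obtain ⟨h1, h2⟩ := Cfsg.Agent.S3738.closure_elemAb ((E₀ : Set G) ∪ {y}) (by
    intro s hs t ht
    rcases hs with hs | hs
    · rcases ht with ht | ht
      · exact congrArg Subtype.val (hcomm.is_comm.comm ⟨s, hs⟩ ⟨t, ht⟩)
      · rw [Set.mem_singleton_iff] at ht
        rw [ht]; exact hyc s hs
    · rw [Set.mem_singleton_iff] at hs
      rcases ht with ht | ht
      · rw [hs]; exact (hyc t ht).symm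
      · rw [Set.mem_singleton_iff] at ht
        rw [hs, ht]) (by
    intro s hs
    rcases hs with hs | hs
    · exact hexp s hs
    · rw [Set.mem_singleton_iff] at hs
      rw [hs]; exact hy2)
  refine ⟨Subgroup.closure ((E₀ : Set G) ∪ {y}), ⟨h1, h2⟩, ?_⟩
  have hle : E₀ ≤ Subgroup.closure ((E₀ : Set G) ∪ {y}) :=
    fun z hz => Subgroup.subset_closure (Or.inl hz)
  have hyE : y ∈ Subgroup.closure ((E₀ : Set G) ∪ {y}) := Subgroup.subset_closure (Or.inr rfl)
  have hlt : E₀ < Subgroup.closure ((E₀ : Set G) ∪ {y}) :=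
    lt_of_le_of_ne hle (fun h => hy (h ▸ hyE))
  have : (E₀ : Set G) ⊂ (Subgroup.closure ((E₀ : Set G) ∪ {y}) : Set G) :=
    SetLike.coe_ssubset_coe.mpr hlt
  have := Set.ncard_lt_ncard this (Set.toFinite _)
  rw [← Nat.card_coe_set_eq, ← Nat.card_coe_set_eq] at this
  exact this

/-- without an `E₈`, elementary abelian `2`-subgroups have order at most `4` -/
theorem rank_le {G : Type*} [Group G] [Finite G]
    (hno : ¬ ∃ E : Subgroup G, Cfsg.IsElementaryAbelian 2 E ∧ Nat.card E = 8)
    (E : Subgroup G) (hE : Cfsg.IsElementaryAbelian 2 E) : Nat.card E ≤ 4 := by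
  have : Fact (Nat.Prime 2) := ⟨Nat.prime_two⟩
  by_contra hcon
  push Not at hcon
  obtain ⟨hcomm, hexp⟩ := hE
  have hp : IsPGroup 2 E := by
    intro x
    refine ⟨1, Subtype.ext ?_⟩
    have := hexp x.1 x.2
    simpa using this
  obtain ⟨k, hk⟩ := IsPGroup.iff_card.mp hp
  have hk3 : 3 ≤ k := by
    by_contra h
    push Not at h
    have : 2 ^ k ≤ 2 ^ 2 := Nat.pow_le_pow_right (by norm_num) (by omega)
    rw [hk] at hcon
    norm_num at this
    omega
  obtain ⟨K, hK⟩ := Sylow.exists_subgroup_card_pow_prime 2 (n := 3) (G := ↥E)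
    (by rw [hk]; exact pow_dvd_pow 2 hk3)
  apply hno
  refine ⟨K.map E.subtype, ⟨?_, ?_⟩, ?_⟩
  · refine ⟨⟨fun x y => Subtype.ext ?_⟩⟩
    obtain ⟨x', _, hxx⟩ := x.2
    obtain ⟨y', _, hyy⟩ := y.2
    have := congrArg Subtype.val (hcomm.is_comm.comm x' y')
    simp only [Subgroup.coe_mul] at this
    show (x : G) * y = y * x
    rw [← hxx, ← hyy]
    exact this
  · intro a ha
    obtain ⟨a', _, rfl⟩ := ha
    exact hexp a'.1 a'.2
  · rw [Subgroup.card_subtype, hK]; norm_num

/-- an element normalizing a subgroup of order two centralizes it -/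
theorem fixes_of_card_two {G : Type*} [Group G] [Finite G] (U : Subgroup G)
    (hU : Nat.card U = 2) (g : G) (hg : g ∈ Subgroup.normalizer (U : Set G)) :
    ∀ z ∈ U, g * z * g⁻¹ = z := by
  intro z hz
  by_cases hz1 : z = 1
  · rw [hz1]; group
  have hz2 : z ^ 2 = 1 := by
    have : (⟨z, hz⟩ : U) ^ Nat.card U = 1 := pow_card_eq_one'
    rw [hU] at this
    exact congrArg Subtype.val this
  have hordz : orderOf z = 2 := orderOf_eq_prime hz2 hz1
  have hzp : Subgroup.zpowers z = U := by
    apply Subgroup.eq_of_le_of_card_ge (Subgroup.zpowers_le.mpr hz)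
    rw [Nat.card_zpowers, hordz, hU]
  have hgz : g * z * g⁻¹ ∈ U := (Subgroup.mem_normalizer_iff.mp hg z).mp hz
  rw [← hzp] at hgz
  rcases Cfsg.Agent.S3738.mem_zpowers_of_sq z hz2 _ hgz with h | h
  · exfalso; apply hz1
    have : z = g⁻¹ * (g * z * g⁻¹) * g := by group
    rw [this, h]; group
  · exact h

/-- `Ω₁(Z(Q))` as a subgroup of the ambient group -/
def omegaZ {G : Type*} [Group G] (Q : Subgroup G) : Subgroup G where
  carrier := {z | z ∈ Q ∧ (∀ y ∈ Q, y * z = z * y) ∧ z ^ 2 = 1}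
  one_mem' := ⟨one_mem _, fun y _ => by simp, by simp⟩
  mul_mem' := by
    rintro a b ⟨ha, hac, ha2⟩ ⟨hb, hbc, hb2⟩
    refine ⟨mul_mem ha hb, fun y hy => ?_, ?_⟩
    · calc y * (a * b) = (y * a) * b := by group
        _ = a * (y * b) := by rw [hac y hy]; group
        _ = a * b * y := by rw [hbc y hy]; group
    · have hab : b * a = a * b := hac b hb
      calc (a * b) ^ 2 = a * (b * a) * b := by rw [pow_two]; group
        _ = a ^ 2 * b ^ 2 := by rw [hab, pow_two, pow_two]; group
        _ = 1 := by rw [ha2, hb2, one_mul]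
  inv_mem' := by
    rintro a ⟨ha, hac, ha2⟩
    refine ⟨inv_mem ha, fun y hy => ?_, by rw [inv_pow, ha2, inv_one]⟩
    have := hac y hy
    calc y * a⁻¹ = a⁻¹ * (a * y) * a⁻¹ := by group
      _ = a⁻¹ * (y * a) * a⁻¹ := by rw [this]
      _ = a⁻¹ * y := by group

theorem mem_omegaZ {G : Type*} [Group G] {Q : Subgroup G} {z : G} :
    z ∈ omegaZ Q ↔ z ∈ Q ∧ (∀ y ∈ Q, y * z = z * y) ∧ z ^ 2 = 1 := Iff.rfl

theorem omegaZ_normal {G : Type*} [Group G] (Q : Subgroup G) [hQ : Q.Normal] :
    (omegaZ Q).Normal := by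
  constructor
  rintro z ⟨hz, hzc, hz2⟩ g
  refine ⟨hQ.conj_mem z hz g, fun y hy => ?_, ?_⟩
  · have hy' : g⁻¹ * y * g ∈ Q := by
      have := hQ.conj_mem y hy g⁻¹
      simpa using this
    have := hzc _ hy'
    calc y * (g * z * g⁻¹) = g * ((g⁻¹ * y * g) * z) * g⁻¹ := by group
      _ = g * (z * (g⁻¹ * y * g)) * g⁻¹ := by rw [this]
      _ = g * z * g⁻¹ * y := by group
  · calc (g * z * g⁻¹) ^ 2 = g * z ^ 2 * g⁻¹ := by rw [pow_two, pow_two]; group
      _ = 1 := by rw [hz2]; group

theorem omegaZ_elemAb {G : Type*} [Group G] (Q : Subgroup G) :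
    Cfsg.IsElementaryAbelian 2 (omegaZ Q) := by
  refine ⟨⟨⟨fun x y => Subtype.ext ?_⟩⟩, fun a ha => ha.2.2⟩
  exact y.2.2.1 x.1 x.2.1

/-- a `3`-element normalizing a group of order four acts freely or trivially -/
theorem three_on_four {G : Type*} [Group G] [Finite G] (A : Subgroup G) (hA4 : Nat.card A = 4)
    (b : G) (hb3 : IsPGroup 3 (Subgroup.zpowers b))
    (hbA : b ∈ Subgroup.normalizer (A : Set G)) :
    A ⊓ Subgroup.centralizer {b} = ⊥ ∨ A ≤ Subgroup.centralizer {b} := by
  have : Fact (Nat.Prime 3) := ⟨Nat.prime_three⟩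
  have h1 := card_modEq_card_inf_centralizer_singleton b A hb3 hbA
  have h2 : Nat.card (A ⊓ Subgroup.centralizer {b} : Subgroup G) ∣ 4 :=
    hA4 ▸ Subgroup.card_dvd_of_le inf_le_left
  rw [hA4] at h1
  have h3 : Nat.card (A ⊓ Subgroup.centralizer {b} : Subgroup G) ≤ 4 := Nat.le_of_dvd (by norm_num) h2
  have h4 : Nat.card (A ⊓ Subgroup.centralizer {b} : Subgroup G) = 1 ∨
      Nat.card (A ⊓ Subgroup.centralizer {b} : Subgroup G) = 4 := by
    generalize Nat.card (A ⊓ Subgroup.centralizer {b} : Subgroup G) = m at *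
    unfold Nat.ModEq at h1
    interval_cases m <;> simp_all
  rcases h4 with h | h
  · left; exact Subgroup.card_eq_one.mp h
  · right
    have : A ⊓ Subgroup.centralizer {b} = A :=
      Subgroup.eq_of_le_of_card_ge inf_le_left (by rw [h, hA4])
    rw [← this]; exact inf_le_right

theorem mem_closure_pair {G : Type*} [Group G] {a b : G} (hab : a * b = b * a) {x : G}
    (hx : x ∈ Subgroup.closure ({a, b} : Set G)) : ∃ i j : ℤ, x = a ^ i * b ^ j := by
  have hc : Commute a b := hab
  induction hx using Subgroup.closure_induction with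
  | mem y hy =>
    rcases hy with rfl | hy
    · exact ⟨1, 0, by simp⟩
    · rw [Set.mem_singleton_iff] at hy
      subst hy
      exact ⟨0, 1, by simp⟩
  | one => exact ⟨0, 0, by simp⟩
  | mul y z _ _ ihy ihz =>
    obtain ⟨i, j, rfl⟩ := ihy
    obtain ⟨k, l, rfl⟩ := ihz
    refine ⟨i + k, j + l, ?_⟩
    have h1 : b ^ j * a ^ k = a ^ k * b ^ j := ((hc.zpow_zpow k j).eq).symm
    calc a ^ i * b ^ j * (a ^ k * b ^ l) = a ^ i * (b ^ j * a ^ k) * b ^ l := by group
      _ = a ^ i * (a ^ k * b ^ j) * b ^ l := by rw [h1]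
      _ = a ^ (i + k) * b ^ (j + l) := by rw [zpow_add, zpow_add]; group
  | inv y _ ih =>
    obtain ⟨i, j, rfl⟩ := ih
    refine ⟨-i, -j, ?_⟩
    have h1 : b ^ j * a ^ i = a ^ i * b ^ j := ((hc.zpow_zpow i j).eq).symm
    calc (a ^ i * b ^ j)⁻¹ = (b ^ j * a ^ i)⁻¹ := by rw [h1]
      _ = a ^ (-i) * b ^ (-j) := by rw [mul_inv_rev, zpow_neg, zpow_neg]

/-- a `3`-element acting freely on `A = Ω₁(Z(Q))` (of order four, in a group without `E₈`)
acts freely on the `2`-group `Q` -/
theorem fpf_on_Q {G : Type*} [Group G] [Finite G]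
    (R : ∀ E : Subgroup G, Cfsg.IsElementaryAbelian 2 E → Nat.card E ≤ 4)
    (Q : Subgroup G) (hQ2 : IsPGroup 2 Q) (hA4 : Nat.card (omegaZ Q) = 4) (b : G)
    (hb : omegaZ Q ⊓ Subgroup.centralizer {b} = ⊥) : Q ⊓ Subgroup.centralizer {b} = ⊥ := by
  have : Fact (Nat.Prime 2) := ⟨Nat.prime_two⟩
  by_contra hne
  have hp : IsPGroup 2 (Q ⊓ Subgroup.centralizer {b} : Subgroup G) := hQ2.to_le inf_le_left
  have hnt : Nontrivial (Q ⊓ Subgroup.centralizer {b} : Subgroup G) :=
    (Subgroup.nontrivial_iff_ne_bot _).mpr hne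
  obtain ⟨k, hk0, hk⟩ := (IsPGroup.nontrivial_iff_card hp).mp hnt
  have h2 : 2 ∣ Nat.card (Q ⊓ Subgroup.centralizer {b} : Subgroup G) := by
    rw [hk]; exact dvd_pow_self 2 (by omega)
  obtain ⟨y, hy⟩ := exists_prime_orderOf_dvd_card' 2 h2
  have hyX : orderOf (y : G) = 2 := by rw [Subgroup.orderOf_coe]; exact hy
  have hy2 : (y : G) ^ 2 = 1 := by rw [← hyX]; exact pow_orderOf_eq_one _
  have hyQ : (y : G) ∈ Q := (Subgroup.mem_inf.mp y.2).1
  have hyb : (y : G) ∈ Subgroup.centralizer {b} := (Subgroup.mem_inf.mp y.2).2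
  have hyA : (y : G) ∈ omegaZ Q := by
    by_contra hyA
    obtain ⟨E, hE, hlt⟩ := adjoin (omegaZ Q) (omegaZ_elemAb Q) (y : G) hy2
      (fun x hx => (hx.2.1 (y : G) hyQ).symm) hyA
    have := R E hE
    omega
  have : (y : G) ∈ omegaZ Q ⊓ Subgroup.centralizer {b} := Subgroup.mem_inf.mpr ⟨hyA, hyb⟩
  rw [hb] at this
  have h1 : (y : G) = 1 := Subgroup.mem_bot.mp this
  rw [h1, orderOf_one] at hyX
  omega

/-- Let G be a finite group with C_G(O₂(G)) ≤ O₂(G) containing an element of order 6, and let d be a non-identity 3-element of G normalizing a nontrivial elementary abelian 2-subgroup W with C_W(d) = 1. Then G has an elementary abelian subgroup of order 8. -/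
theorem result {G : Type*} [Group G] [Finite G] (hchar : Subgroup.centralizer (Cfsg.pCore 2 G : Set G) ≤ Cfsg.pCore 2 G) (hsix : ∃ g : G, orderOf g = 6) (d : G) (hd1 : d ≠ 1) (hd : IsPGroup 3 ↥(Subgroup.zpowers d)) (W : Subgroup G) (hW : Cfsg.IsElementaryAbelian 2 W) (hW1 : W ≠ ⊥) (hdW : d ∈ Subgroup.normalizer (W : Set G)) (hfpf : W ⊓ Subgroup.centralizer {d} = ⊥) : ∃ E : Subgroup G, Cfsg.IsElementaryAbelian 2 E ∧ Nat.card E = 8 := by
  have hprime2 : Fact (Nat.Prime 2) := ⟨Nat.prime_two⟩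
  have hprime3 : Fact (Nat.Prime 3) := ⟨Nat.prime_three⟩
  by_contra hno
  have R := rank_le hno
  set Q := Cfsg.pCore 2 G with hQdef
  have hQn : Q.Normal := Cfsg.pCore_normal 2 G
  have hQ2 : IsPGroup 2 Q := Sylow.sSup_of_normal _ (fun _ h => h.2) (fun _ h => h.1)
  have hnormal_top : ∀ (N : Subgroup G) [N.Normal] (g : G), g ∈ Subgroup.normalizer (N : Set G) := by
    intro N _ g
    rw [Subgroup.normalizer_eq_top]; exact Subgroup.mem_top g
  -- Step 1 : `|W| = 4`
  have hW2 : IsPGroup 2 W := by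
    intro x
    refine ⟨1, Subtype.ext ?_⟩
    have := hW.2 x.1 x.2
    simpa using this
  have hW4 : Nat.card W = 4 := by
    obtain ⟨k, hk⟩ := IsPGroup.iff_card.mp hW2
    have hle := R W hW
    have hk0 : k ≠ 0 := by
      rintro rfl
      apply hW1
      exact Subgroup.card_eq_one.mp (by simpa using hk)
    have hk1 : k ≠ 1 := by
      rintro rfl
      obtain ⟨z, hzW, hz1⟩ : ∃ z ∈ W, z ≠ 1 := by
        by_contra hcon
        push Not at hcon
        exact hW1 ((Subgroup.eq_bot_iff_forall W).mpr hcon)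
      have hfix := fixes_of_card_two W (by simpa using hk) d hdW z hzW
      have : z ∈ W ⊓ Subgroup.centralizer {d} :=
        Subgroup.mem_inf.mpr ⟨hzW, mem_centralizer_singleton_iff.mpr (comm_of_conj_eq hfix)⟩
      rw [hfpf] at this
      exact hz1 (Subgroup.mem_bot.mp this)
    have hk2 : k ≤ 2 := by
      by_contra h
      push Not at h
      have : 2 ^ 3 ≤ 2 ^ k := Nat.pow_le_pow_right (by norm_num) (by omega)
      rw [hk] at hle
      norm_num at this
      omega
    have : k = 2 := by omega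
    rw [hk, this]; norm_num
  -- Step 2 : `A = Ω₁(Z(Q))`
  set A := omegaZ Q with hAdef
  have hAn : A.Normal := omegaZ_normal Q
  have hAel : Cfsg.IsElementaryAbelian 2 A := omegaZ_elemAb Q
  have hA2 : IsPGroup 2 A := by
    intro x
    refine ⟨1, Subtype.ext ?_⟩
    have := hAel.2 x.1 x.2
    simpa using this
  obtain ⟨g, hg6⟩ := hsix
  have hQne : Q ≠ ⊥ := by
    intro h
    have h1 : Subgroup.centralizer ((⊥ : Subgroup G) : Set G) ≤ ⊥ := by
      rw [h] at hchar; exact hchar
    have : g ∈ (⊥ : Subgroup G) := h1 (by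
      rw [Subgroup.mem_centralizer_iff]
      intro y hy
      have : y = 1 := hy
      rw [this]; simp)
    rw [Subgroup.mem_bot] at this
    rw [this, orderOf_one] at hg6
    omega
  have hAne : A ≠ ⊥ := by
    have hntQ : Nontrivial ↥Q := (Subgroup.nontrivial_iff_ne_bot _).mpr hQne
    have hntZ : Nontrivial (Subgroup.center ↥Q) := hQ2.center_nontrivial
    have hpZ : IsPGroup 2 (Subgroup.center ↥Q) := hQ2.to_subgroup _
    obtain ⟨k, hk0, hk⟩ := (IsPGroup.nontrivial_iff_card hpZ).mp hntZ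
    have h2 : 2 ∣ Nat.card (Subgroup.center ↥Q) := by
      rw [hk]; exact dvd_pow_self 2 (by omega)
    obtain ⟨y, hy⟩ := exists_prime_orderOf_dvd_card' 2 h2
    have hyX : orderOf ((y : ↥Q) : G) = 2 := by
      rw [Subgroup.orderOf_coe, Subgroup.orderOf_coe]; exact hy
    have hy2 : ((y : ↥Q) : G) ^ 2 = 1 := by rw [← hyX]; exact pow_orderOf_eq_one _
    have hyA : ((y : ↥Q) : G) ∈ A := by
      refine ⟨(y : ↥Q).2, fun z hz => ?_, hy2⟩
      have := (Subgroup.mem_center_iff.mp y.2) ⟨z, hz⟩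
      exact congrArg Subtype.val this
    intro h
    rw [h, Subgroup.mem_bot] at hyA
    rw [hyA, orderOf_one] at hyX
    omega
  have hAleQ : A ≤ Q := fun z hz => hz.1
  -- Step 3 : `W = A`
  have hWA : W = A := by
    have hcong := card_modEq_card_inf_centralizer W A hW2 (fun w _ => hnormal_top A w)
    obtain ⟨j, hj0, hj⟩ := (IsPGroup.nontrivial_iff_card hA2).mp
      ((Subgroup.nontrivial_iff_ne_bot _).mpr hAne)
    have heven : 2 ∣ Nat.card (A ⊓ Subgroup.centralizer (W : Set G) : Subgroup G) := by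
      have h1 : 2 ∣ Nat.card A := by rw [hj]; exact dvd_pow_self 2 (by omega)
      exact (Nat.ModEq.dvd_iff hcong (dvd_refl 2)).mp h1
    obtain ⟨a₁, ha₁, ha₁1⟩ : ∃ a₁ ∈ (A ⊓ Subgroup.centralizer (W : Set G) : Subgroup G), a₁ ≠ 1 := by
      by_contra hcon
      push Not at hcon
      have : (A ⊓ Subgroup.centralizer (W : Set G) : Subgroup G) = ⊥ :=
        (Subgroup.eq_bot_iff_forall _).mpr hcon
      rw [this] at heven
      simp at heven
    have ha₁A : a₁ ∈ A := (Subgroup.mem_inf.mp ha₁).1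
    have ha₁C : a₁ ∈ Subgroup.centralizer (W : Set G) := (Subgroup.mem_inf.mp ha₁).2
    have ha₁W : a₁ ∈ W := by
      by_contra hnot
      obtain ⟨E, hE, hlt⟩ := adjoin W hW a₁ (hAel.2 a₁ ha₁A)
        (fun x hx => (Subgroup.mem_centralizer_iff.mp ha₁C) x hx) hnot
      have := R E hE
      omega
    have hU : Nat.card (W ⊓ A : Subgroup G) = 4 := by
      have hdvd : Nat.card (W ⊓ A : Subgroup G) ∣ 4 := hW4 ▸ Subgroup.card_dvd_of_le inf_le_left
      have hle : Nat.card (W ⊓ A : Subgroup G) ≤ 4 := Nat.le_of_dvd (by norm_num) hdvd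
      have hne1 : Nat.card (W ⊓ A : Subgroup G) ≠ 1 := by
        intro h
        have : (W ⊓ A : Subgroup G) = ⊥ := Subgroup.card_eq_one.mp h
        have hmem : a₁ ∈ (W ⊓ A : Subgroup G) := Subgroup.mem_inf.mpr ⟨ha₁W, ha₁A⟩
        rw [this] at hmem
        exact ha₁1 (Subgroup.mem_bot.mp hmem)
      have hne2 : Nat.card (W ⊓ A : Subgroup G) ≠ 2 := by
        intro h
        have hdU : d ∈ Subgroup.normalizer ((W ⊓ A : Subgroup G) : Set G) :=
          mem_normalizer_inf hdW (hnormal_top A d)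
        have hfix := fixes_of_card_two _ h d hdU a₁ (Subgroup.mem_inf.mpr ⟨ha₁W, ha₁A⟩)
        have : a₁ ∈ W ⊓ Subgroup.centralizer {d} :=
          Subgroup.mem_inf.mpr ⟨ha₁W, mem_centralizer_singleton_iff.mpr (comm_of_conj_eq hfix)⟩
        rw [hfpf] at this
        exact ha₁1 (Subgroup.mem_bot.mp this)
      generalize Nat.card (W ⊓ A : Subgroup G) = m at *
      interval_cases m <;> simp_all
    have hWleA : W ≤ A := by
      have : (W ⊓ A : Subgroup G) = W :=
        Subgroup.eq_of_le_of_card_ge inf_le_left (by rw [hU, hW4])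
      rw [← this]; exact inf_le_right
    exact Subgroup.eq_of_le_of_card_ge hWleA (by rw [hW4]; exact R A hAel)
  have hA4 : Nat.card A = 4 := hWA ▸ hW4
  have hfpfA : A ⊓ Subgroup.centralizer {d} = ⊥ := hWA ▸ hfpf
  -- Step 4 : the element of order six
  set t := g ^ 3 with ht
  set c := g ^ 2 with hc
  have hordt : orderOf t = 2 := by
    rw [ht, orderOf_pow_of_dvd (by norm_num) (by rw [hg6]; norm_num), hg6]
  have hordc : orderOf c = 3 := by
    rw [hc, orderOf_pow_of_dvd (by norm_num) (by rw [hg6]; norm_num), hg6]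
  have hct : c * t = t * c := by
    rw [hc, ht, ← pow_add, ← pow_add]
  have ht2 : t ^ 2 = 1 := by rw [← hordt]; exact pow_orderOf_eq_one _
  have ht1 : t ≠ 1 := by
    intro h; rw [h, orderOf_one] at hordt; omega
  have hc3 : IsPGroup 3 (Subgroup.zpowers c) :=
    IsPGroup.of_card (n := 1) (by rw [Nat.card_zpowers, hordc]; norm_num)
  have ht2' : IsPGroup 2 (Subgroup.zpowers t) :=
    IsPGroup.of_card (n := 1) (by rw [Nat.card_zpowers, hordt]; norm_num)
  have hcA : A ≤ Subgroup.centralizer {c} := by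
    -- a nonidentity element of `A` fixed by `c`
    have hex : ∃ a₀ ∈ A, a₀ ≠ 1 ∧ c * a₀ = a₀ * c := by
      set B := A ⊓ Subgroup.centralizer {t} with hB
      have hcong := card_modEq_card_inf_centralizer_singleton t A ht2' (hnormal_top A t)
      rw [hA4] at hcong
      have hdvd : Nat.card B ∣ 4 := hA4 ▸ Subgroup.card_dvd_of_le inf_le_left
      have hle : Nat.card B ≤ 4 := Nat.le_of_dvd (by norm_num) hdvd
      have hcases : Nat.card B = 2 ∨ Nat.card B = 4 := by
        have hcong' : 4 % 2 = Nat.card B % 2 := hcong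
        generalize Nat.card B = m at *
        interval_cases m <;> simp_all
      rcases hcases with h | h
      · have hcB : c ∈ Subgroup.normalizer ((B : Subgroup G) : Set G) :=
          mem_normalizer_inf (hnormal_top A c) (mem_normalizer_centralizer_singleton hct)
        obtain ⟨a₀, ha₀, ha₀1⟩ : ∃ a₀ ∈ B, a₀ ≠ 1 := by
          by_contra hcon
          push Not at hcon
          have : B = ⊥ := (Subgroup.eq_bot_iff_forall _).mpr hcon
          rw [this] at h
          simp at h
        exact ⟨a₀, (Subgroup.mem_inf.mp ha₀).1, ha₀1,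
          comm_of_conj_eq (fixes_of_card_two B h c hcB a₀ ha₀)⟩
      · have hBA : B = A := Subgroup.eq_of_le_of_card_ge inf_le_left (by rw [h, hA4])
        have htA : A ≤ Subgroup.centralizer {t} := by rw [← hBA]; exact inf_le_right
        have htmem : t ∈ A := by
          by_contra hnot
          obtain ⟨E, hE, hlt⟩ := adjoin A hAel t ht2
            (fun x hx => (mem_centralizer_singleton_iff.mp (htA hx)).symm) hnot
          have := R E hE
          omega
        exact ⟨t, htmem, ht1, hct⟩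
    obtain ⟨a₀, ha₀A, ha₀1, ha₀c⟩ := hex
    rcases three_on_four A hA4 c hc3 (hnormal_top A c) with h | h
    · exfalso
      have : a₀ ∈ A ⊓ Subgroup.centralizer {c} :=
        Subgroup.mem_inf.mpr ⟨ha₀A, mem_centralizer_singleton_iff.mpr ha₀c⟩
      rw [h] at this
      exact ha₀1 (Subgroup.mem_bot.mp this)
    · exact h
  -- Step 7 : `d` has order three
  have hd_ord : orderOf d = 3 := by
    obtain ⟨n, hn⟩ := IsPGroup.iff_card.mp hd
    rw [Nat.card_zpowers] at hn
    have hn1 : 1 ≤ n := by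
      rcases Nat.eq_zero_or_pos n with h | h
      · exfalso
        rw [h, pow_zero] at hn
        exact hd1 (orderOf_eq_one_iff.mp hn)
      · exact h
    apply Cfsg.Agent.S3738.result d n hn1 hn Q hQ2 (hnormal_top Q d)
    · -- faithful
      have hdisj := IsPGroup.disjoint_of_ne 3 2 (by norm_num) (Subgroup.zpowers d) Q hd hQ2
      rw [eq_bot_iff]
      intro x hx
      have hx1 := (Subgroup.mem_inf.mp hx).1
      have hx2 := hchar (Subgroup.mem_inf.mp hx).2
      exact (Subgroup.disjoint_def.mp hdisj) hx1 hx2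
    · exact fpf_on_Q R Q hQ2 hA4 d hfpfA
    · intro V hV hVc A' hA'c hA'e
      have hE : Cfsg.IsElementaryAbelian 2 (A'.map V.subtype) := by
        refine ⟨⟨⟨fun x y => Subtype.ext ?_⟩⟩, ?_⟩
        · obtain ⟨x', hx', hxx⟩ := x.2
          obtain ⟨y', hy', hyy⟩ := y.2
          have := congrArg (fun t : ↥A' => ((t : ↥V) : G)) (hA'c.is_comm.comm ⟨x', hx'⟩ ⟨y', hy'⟩)
          simp only [Subgroup.coe_mul] at this
          show (x : G) * y = y * x
          rw [← hxx, ← hyy]
          exact this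
        · intro a ha
          obtain ⟨a', ha', rfl⟩ := ha
          have := congrArg Subtype.val (hA'e a' ha')
          simpa using this
      have := R _ hE
      rw [Subgroup.card_subtype] at this
      norm_num
      exact this
  have hd3 : d ^ 3 = 1 := by rw [← hd_ord]; exact pow_orderOf_eq_one _
  -- `d` does not centralize `A`
  have hdK : ¬ A ≤ Subgroup.centralizer {d} := by
    intro h
    apply hAne
    rw [← hfpfA]
    exact (inf_eq_left.mpr h).symm
  -- Step 8 : an element `c'` of order three centralizing `A` and commuting with `d`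
  set K := Subgroup.centralizer (A : Set G) with hK
  have hKn : K.Normal := Subgroup.normal_centralizer
  have hmemK : ∀ b : G, b ∈ K ↔ A ≤ Subgroup.centralizer {b} := by
    intro b
    rw [hK, Subgroup.mem_centralizer_iff]
    constructor
    · intro h x hx
      exact mem_centralizer_singleton_iff.mpr (h x hx).symm
    · intro h x hx
      exact (mem_centralizer_singleton_iff.mp (h hx)).symm
  obtain ⟨S₃, hdS⟩ := hd.exists_le_sylow
  obtain ⟨S', hcS'⟩ := hc3.exists_le_sylow
  obtain ⟨g₀, hg₀⟩ := MulAction.exists_smul_eq G S' S₃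
  have hc₁S : g₀ * c * g₀⁻¹ ∈ (S₃ : Subgroup G) := by
    rw [← hg₀, Sylow.coe_subgroup_smul]
    have : c ∈ (S' : Subgroup G) := hcS' (Subgroup.mem_zpowers c)
    have h2 := Subgroup.smul_mem_pointwise_smul c (MulAut.conj g₀) (S' : Subgroup G) this
    simpa [MulAut.smul_def, MulAut.conj_apply] using h2
  have hc₁K : g₀ * c * g₀⁻¹ ∈ K := hKn.conj_mem c ((hmemK c).mpr hcA) g₀
  set R₃ := (S₃ : Subgroup G) ⊓ K with hR₃
  have hc₁1 : g₀ * c * g₀⁻¹ ≠ 1 := by
    intro h
    have : c = g₀⁻¹ * (g₀ * c * g₀⁻¹) * g₀ := by group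
    rw [h] at this
    rw [this] at hordc
    simp at hordc
  have hR₃ne : R₃ ≠ ⊥ := by
    intro h
    have : g₀ * c * g₀⁻¹ ∈ R₃ := Subgroup.mem_inf.mpr ⟨hc₁S, hc₁K⟩
    rw [h] at this
    exact hc₁1 (Subgroup.mem_bot.mp this)
  have hR₃p : IsPGroup 3 R₃ := S₃.2.to_le inf_le_left
  have hDR : Subgroup.zpowers d ≤ Subgroup.normalizer ((R₃ : Subgroup G) : Set G) := by
    rw [Subgroup.zpowers_le]
    exact mem_normalizer_inf (Subgroup.le_normalizer (hdS (Subgroup.mem_zpowers d)))
      (hnormal_top K d)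
  obtain ⟨c', hc'R, hc'd, hc'ord⟩ : ∃ c' : G, c' ∈ R₃ ∧ c' * d = d * c' ∧ orderOf c' = 3 := by
    have hcong := card_modEq_card_inf_centralizer (Subgroup.zpowers d) R₃ hd hDR
    obtain ⟨i, hi0, hi⟩ := (IsPGroup.nontrivial_iff_card hR₃p).mp
      ((Subgroup.nontrivial_iff_ne_bot _).mpr hR₃ne)
    have h3 : 3 ∣ Nat.card (R₃ ⊓ Subgroup.centralizer ((Subgroup.zpowers d : Subgroup G) : Set G) :
        Subgroup G) := by
      have h1 : 3 ∣ Nat.card R₃ := by rw [hi]; exact dvd_pow_self 3 (by omega)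
      exact (Nat.ModEq.dvd_iff hcong (dvd_refl 3)).mp h1
    obtain ⟨y, hy⟩ := exists_prime_orderOf_dvd_card' 3 h3
    refine ⟨(y : G), (Subgroup.mem_inf.mp y.2).1, ?_, by rw [Subgroup.orderOf_coe]; exact hy⟩
    exact ((Subgroup.mem_centralizer_iff.mp (Subgroup.mem_inf.mp y.2).2) d
      (Subgroup.mem_zpowers d)).symm
  have hc'S : c' ∈ (S₃ : Subgroup G) := (Subgroup.mem_inf.mp hc'R).1
  have hc'K : c' ∈ K := (Subgroup.mem_inf.mp hc'R).2
  have hc'1 : c' ≠ 1 := by
    intro h; rw [h, orderOf_one] at hc'ord; omega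
  have hc'3 : c' ^ 3 = 1 := by rw [← hc'ord]; exact pow_orderOf_eq_one _
  -- Step 9 : the group `E = ⟨c', d⟩`
  set E := Subgroup.closure ({c', d} : Set G) with hE
  have hEab : IsMulCommutative E := Subgroup.isMulCommutative_closure (by
    intro x hx y hy
    rcases hx with rfl | hx <;> rcases hy with rfl | hy
    · rfl
    · rw [Set.mem_singleton_iff] at hy; rw [hy]; exact hc'd
    · rw [Set.mem_singleton_iff] at hx; rw [hx]; exact hc'd.symm
    · rw [Set.mem_singleton_iff] at hx hy; rw [hx, hy])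
  have hES : E ≤ (S₃ : Subgroup G) := by
    rw [hE, Subgroup.closure_le]
    intro x hx
    rcases hx with rfl | hx
    · exact hc'S
    · rw [Set.mem_singleton_iff] at hx; rw [hx]; exact hdS (Subgroup.mem_zpowers d)
  have hE3 : IsPGroup 3 E := S₃.2.to_le hES
  have hc'E : c' ∈ E := Subgroup.subset_closure (Or.inl rfl)
  have hdE : d ∈ E := Subgroup.subset_closure (Or.inr rfl)
  have hcop : (Nat.card E).Coprime (Nat.card Q) := by
    obtain ⟨i, hi⟩ := IsPGroup.iff_card.mp hE3
    obtain ⟨j, hj⟩ := IsPGroup.iff_card.mp hQ2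
    rw [hi, hj]
    exact Nat.Coprime.pow _ _ (by norm_num)
  have hgen := (Cfsg.Agent.S3734.result E Q hEab (fun x _ => hnormal_top Q x) hcop).1
  -- `E ∩ K = ⟨c'⟩`
  have hEK : ∀ x ∈ E, x ∈ K → x ∈ Subgroup.zpowers c' := by
    intro x hxE hxK
    obtain ⟨i, j, rfl⟩ := mem_closure_pair hc'd hxE
    have hdj : d ^ j ∈ K := by
      have h1 : d ^ j = (c' ^ i)⁻¹ * (c' ^ i * d ^ j) := by group
      rw [h1]
      exact mul_mem (inv_mem (Subgroup.zpow_mem _ hc'K i)) hxK
    have hdj1 : d ^ j = 1 := by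
      by_contra hne
      have hle : Subgroup.zpowers (d ^ j) ≤ Subgroup.zpowers d :=
        Subgroup.zpowers_le.mpr (Subgroup.zpow_mem_zpowers d j)
      have hcard : Nat.card (Subgroup.zpowers (d ^ j)) = 3 := by
        have hdvd : Nat.card (Subgroup.zpowers (d ^ j)) ∣ 3 := by
          have := Subgroup.card_dvd_of_le hle
          rwa [Nat.card_zpowers d, hd_ord] at this
        rcases (Nat.dvd_prime Nat.prime_three).mp hdvd with h | h
        · exfalso
          rw [Nat.card_zpowers, orderOf_eq_one_iff] at h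
          exact hne h
        · exact h
      have heq : Subgroup.zpowers (d ^ j) = Subgroup.zpowers d :=
        Subgroup.eq_of_le_of_card_ge hle (by rw [hcard, Nat.card_zpowers, hd_ord])
      have : d ∈ K := by
        have : d ∈ Subgroup.zpowers (d ^ j) := heq ▸ Subgroup.mem_zpowers d
        exact (Subgroup.zpowers_le.mpr hdj) this
      exact hdK ((hmemK d).mp this)
    rw [hdj1, mul_one]
    exact Subgroup.zpow_mem_zpowers c' i
  have hE_exp : ∀ x ∈ E, x ^ 3 = 1 := by
    intro x hxE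
    obtain ⟨i, j, rfl⟩ := mem_closure_pair hc'd hxE
    have hcomm : Commute (c' ^ i) (d ^ j) := (show Commute c' d from hc'd).zpow_zpow i j
    rw [hcomm.mul_pow, ← zpow_natCast, ← zpow_natCast, ← zpow_mul, ← zpow_mul, mul_comm i,
      mul_comm j, zpow_mul, zpow_mul]
    norm_cast
    rw [hc'3, hd3, one_zpow, one_zpow, one_mul]
  have hdnot : d ∉ Subgroup.zpowers c' := by
    intro h
    have : d ∈ K := (Subgroup.zpowers_le.mpr hc'K) h
    exact hdK ((hmemK d).mp this)
  have hkey : ∀ B : Subgroup G, B ≤ E → (∃ a ∈ E, B ⊔ Subgroup.zpowers a = E) →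
      Q ⊓ Subgroup.centralizer (B : Set G) ≤ Subgroup.centralizer {c'} := by
    intro B hBE ⟨a, haE, hBa⟩
    by_cases hc'B : c' ∈ B
    · exact inf_le_right.trans (Subgroup.centralizer_le (by
        intro x hx
        rw [Set.mem_singleton_iff] at hx
        rw [hx]; exact hc'B))
    · have hBne : B ≠ ⊥ := by
        intro hB
        rw [hB, bot_sup_eq] at hBa
        have hle : Subgroup.zpowers c' ≤ Subgroup.zpowers a := by
          rw [hBa]; exact Subgroup.zpowers_le.mpr hc'E
        have hcarda : Nat.card (Subgroup.zpowers a) ≤ 3 := by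
          rw [Nat.card_zpowers]
          exact Nat.le_of_dvd (by norm_num) (orderOf_dvd_of_pow_eq_one (hE_exp a haE))
        have heq : Subgroup.zpowers c' = Subgroup.zpowers a :=
          Subgroup.eq_of_le_of_card_ge hle (by rw [Nat.card_zpowers c', hc'ord]; exact hcarda)
        apply hdnot
        rw [heq, hBa]; exact hdE
      obtain ⟨b, hbB, hb1⟩ : ∃ b ∈ B, b ≠ 1 := by
        by_contra hcon
        push Not at hcon
        exact hBne ((Subgroup.eq_bot_iff_forall B).mpr hcon)
      have hbK : b ∉ K := by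
        intro hbK
        have hbz := hEK b (hBE hbB) hbK
        have hle : Subgroup.zpowers b ≤ Subgroup.zpowers c' := Subgroup.zpowers_le.mpr hbz
        have hcardb : Nat.card (Subgroup.zpowers b) = 3 := by
          have hdvd : Nat.card (Subgroup.zpowers b) ∣ 3 := by
            have := Subgroup.card_dvd_of_le hle
            rwa [Nat.card_zpowers c', hc'ord] at this
          rcases (Nat.dvd_prime Nat.prime_three).mp hdvd with h | h
          · exfalso
            rw [Nat.card_zpowers, orderOf_eq_one_iff] at h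
            exact hb1 h
          · exact h
        have heq : Subgroup.zpowers b = Subgroup.zpowers c' :=
          Subgroup.eq_of_le_of_card_ge hle (by rw [hcardb, Nat.card_zpowers, hc'ord])
        apply hc'B
        have : c' ∈ Subgroup.zpowers b := heq ▸ Subgroup.mem_zpowers c'
        exact (Subgroup.zpowers_le.mpr hbB) this
      have hb3 : IsPGroup 3 (Subgroup.zpowers b) :=
        hE3.to_le (Subgroup.zpowers_le.mpr (hBE hbB))
      have hbA : A ⊓ Subgroup.centralizer {b} = ⊥ := by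
        rcases three_on_four A hA4 b hb3 (hnormal_top A b) with h | h
        · exact h
        · exact absurd ((hmemK b).mpr h) hbK
      have hbQ := fpf_on_Q R Q hQ2 hA4 b hbA
      have : Q ⊓ Subgroup.centralizer (B : Set G) ≤ Q ⊓ Subgroup.centralizer {b} :=
        inf_le_inf_left Q (Subgroup.centralizer_le (by
          intro x hx
          rw [Set.mem_singleton_iff] at hx
          rw [hx]; exact hbB))
      rw [hbQ] at this
      exact this.trans bot_le
  have hQc' : Q ≤ Subgroup.centralizer {c'} := by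
    rw [← hgen]
    apply iSup₂_le
    intro B hB
    exact hkey B hB.1 hB.2
  have hc'CQ : c' ∈ Subgroup.centralizer (Q : Set G) := by
    rw [Subgroup.mem_centralizer_iff]
    intro x hx
    exact (mem_centralizer_singleton_iff.mp (hQc' hx)).symm
  have hc'Q : c' ∈ Q := hchar hc'CQ
  have hdisj := IsPGroup.disjoint_of_ne 3 2 (by norm_num) (S₃ : Subgroup G) Q S₃.2 hQ2
  exact hc'1 ((Subgroup.disjoint_def.mp hdisj) hc'S hc'Q)

end Cfsg.Agent.S3739
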