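import Cfsg.Statements.S3741
import Cfsg.Agent.Lib.Helper66.PrimeOrderCentral

set_option autoImplicit false
open Cfsg

namespace Cfsg.Agent.S3741

open Cfsg.Agent.Lib.Helper66
open scoped commutatorElement

variable {G : Type*} [Group G]

theorem comm_mul_identity (a a' b : G) : ⁅a * a', b⁆ = a * ⁅a', b⁆ * a⁻¹ * ⁅a, b⁆ := by
  simp only [commutatorElement_def]
  group

/-- the commutator hom `a ↦ [a,b]` from `A` to `Z` -/
noncomputable def commHom (A Z : Subgroup G) (b : G) (hmem : ∀ a ∈ A, ⁅a, b⁆ ∈ Z)
    (hAZ : A ≤ Subgroup.centralizer (Z : Set G)) (hZA : Z ≤ A) : A →* Z where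
  toFun a := ⟨⁅(a : G), b⁆, hmem a a.2⟩
  map_one' := Subtype.ext (by simp)
  map_mul' a a' := Subtype.ext (by
    change ⁅(a : G) * (a' : G), b⁆ = ⁅(a : G), b⁆ * ⁅(a' : G), b⁆
    have hz := hmem a' a'.2
    have hw := hmem a a.2
    have h1 : ⁅(a' : G), b⁆ * (a : G) = (a : G) * ⁅(a' : G), b⁆ :=
      Subgroup.mem_centralizer_iff.1 (hAZ a.2) _ hz
    have h2 : ⁅(a' : G), b⁆ * ⁅(a : G), b⁆ = ⁅(a : G), b⁆ * ⁅(a' : G), b⁆ :=
      Subgroup.mem_centralizer_iff.1 (hAZ (hZA hw)) _ hz
    rw [comm_mul_identity, ← h1, mul_inv_cancel_right, h2])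

theorem card_commuting {p : ℕ} [Fact p.Prime] (A Z : Subgroup G) (b : G) (hmem : ∀ a ∈ A, ⁅a, b⁆ ∈ Z)
    (hAZ : A ≤ Subgroup.centralizer (Z : Set G)) (hZA : Z ≤ A) (hZ : Nat.card Z = p)
    (hb : b ∉ Subgroup.centralizer (A : Set G)) :
    p * Nat.card {a : A // (a : G) * b = b * a} = Nat.card A := by
  set f := commHom A Z b hmem hAZ hZA with hf
  have hker : Nat.card f.ker = Nat.card {a : A // (a : G) * b = b * a} := by
    apply Nat.card_congr
    apply Equiv.subtypeEquivRight
    intro a
    rw [MonoidHom.mem_ker]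
    constructor
    · intro h
      have := congrArg Subtype.val h
      exact commutatorElement_eq_one_iff_mul_comm.1 this
    · intro h
      apply Subtype.ext
      exact commutatorElement_eq_one_iff_mul_comm.2 h
  have hrange : f.range = ⊤ := by
    have : Fact (Nat.card Z).Prime := ⟨hZ ▸ Fact.out⟩
    rcases Subgroup.eq_bot_or_eq_top_of_prime_card f.range with h | h
    · exfalso
      apply hb
      rw [Subgroup.mem_centralizer_iff]
      intro a ha
      have : f ⟨a, ha⟩ ∈ f.range := ⟨_, rfl⟩
      rw [h, Subgroup.mem_bot] at this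
      have := congrArg Subtype.val this
      exact commutatorElement_eq_one_iff_mul_comm.1 this
    · exact h
  have h1 := Subgroup.card_mul_index f.ker
  rw [Subgroup.index_ker, hrange, Subgroup.card_top, hZ, hker] at h1
  rw [mul_comm]
  exact h1

theorem count_pairs [Finite G] (A B : Subgroup G) (p : ℕ)
    (h : ∀ b : B, (b : G) ∉ Subgroup.centralizer (A : Set G) →
      p * Nat.card {a : A // (a : G) * b = b * a} = Nat.card A) :
    p * Nat.card {x : A × B // (x.1 : G) * x.2 = x.2 * x.1}
      = Nat.card (B ⊓ Subgroup.centralizer (A : Set G) : Subgroup G) * (p * Nat.card A)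
        + (Nat.card B - Nat.card (B ⊓ Subgroup.centralizer (A : Set G) : Subgroup G)) * Nat.card A := by
  classical
  let _ : Fintype B := Fintype.ofFinite B
  have e : {x : A × B // (x.1 : G) * x.2 = x.2 * x.1} ≃ Σ b : B, {a : A // (a : G) * b = b * a} :=
    { toFun := fun x => ⟨x.1.2, ⟨x.1.1, x.2⟩⟩
      invFun := fun y => ⟨(y.2.1, y.1), y.2.2⟩
      left_inv := fun x => rfl
      right_inv := fun y => rfl }
  rw [Nat.card_congr e, Nat.card_sigma, Finset.mul_sum]
  have hterm : ∀ b : B, p * Nat.card {a : A // (a : G) * b = b * a}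
      = if (b : G) ∈ Subgroup.centralizer (A : Set G) then p * Nat.card A else Nat.card A := by
    intro b
    split_ifs with hb
    · congr 1
      apply Nat.card_congr
      apply Equiv.subtypeUnivEquiv
      intro a
      exact Subgroup.mem_centralizer_iff.1 hb a a.2
    · exact h b hb
  rw [Finset.sum_congr rfl (fun b _ => hterm b), Finset.sum_ite, Finset.sum_const, Finset.sum_const,
    smul_eq_mul, smul_eq_mul]
  have hc1 : (Finset.univ.filter (fun b : B => (b : G) ∈ Subgroup.centralizer (A : Set G))).card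
      = Nat.card (B ⊓ Subgroup.centralizer (A : Set G) : Subgroup G) := by
    rw [← Fintype.card_subtype, ← Nat.card_eq_fintype_card]
    apply Nat.card_congr
    exact
      { toFun := fun x => ⟨x.1.1, Subgroup.mem_inf.2 ⟨x.1.2, x.2⟩⟩
        invFun := fun y => ⟨⟨y.1, (Subgroup.mem_inf.1 y.2).1⟩, (Subgroup.mem_inf.1 y.2).2⟩
        left_inv := fun x => rfl
        right_inv := fun y => rfl }
  have hc2 := Finset.card_filter_add_card_filter_not (s := (Finset.univ : Finset B))
    (fun b : B => (b : G) ∈ Subgroup.centralizer (A : Set G))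
  rw [Finset.card_univ, ← Nat.card_eq_fintype_card, hc1] at hc2
  rw [hc1]
  congr 2
  omega

theorem arith (p x y u v : ℕ) (hp : 2 ≤ p) (hx : 0 < x) (hy : 0 < y)
    (h : y * (p * (x * (u + 1))) + (y * (v + 1) - y) * (x * (u + 1))
      = x * (p * (y * (v + 1))) + (x * (u + 1) - x) * (y * (v + 1))) : u = v := by
  have e1 : y * (v + 1) - y = y * v := by
    rw [Nat.mul_succ, Nat.add_sub_cancel]
  have e2 : x * (u + 1) - x = x * u := by
    rw [Nat.mul_succ, Nat.add_sub_cancel]
  rw [e1, e2] at h
  obtain ⟨q, rfl⟩ : ∃ q, p = q + 2 := ⟨p - 2, by omega⟩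
  have h3 : (x * y) * ((q + 2) * (u + 1) + v * (u + 1)) = (x * y) * ((q + 2) * (v + 1) + u * (v + 1)) := by
    nlinarith [h]
  have h4 := Nat.eq_of_mul_eq_mul_left (Nat.mul_pos hx hy) h3
  have h5 : (q + 1) * u = (q + 1) * v := by nlinarith [h4]
  exact Nat.eq_of_mul_eq_mul_left (Nat.succ_pos q) h5

theorem result {G : Type*} [Group G] [Finite G] {p : ℕ} [Fact p.Prime] (hG : IsPGroup p G) (A B : Subgroup G) (hAB : ⁅A, B⁆ ≤ A ⊓ B) (hcard : Nat.card ↥⁅A, B⁆ ≤ p) : (A ⊓ Subgroup.centralizer (B : Set G)).relIndex A = (B ⊓ Subgroup.centralizer (A : Set G)).relIndex B := by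
  have hp : p.Prime := Fact.out
  by_cases hbot : ⁅A, B⁆ = ⊥
  · have h1 : A ≤ Subgroup.centralizer (B : Set G) :=
      Subgroup.commutator_eq_bot_iff_le_centralizer.1 hbot
    have h2 : B ≤ Subgroup.centralizer (A : Set G) := by
      rw [Subgroup.commutator_comm] at hbot
      exact Subgroup.commutator_eq_bot_iff_le_centralizer.1 hbot
    rw [inf_of_le_left h1, inf_of_le_left h2, Subgroup.relIndex_self, Subgroup.relIndex_self]
  · generalize hZdef : ⁅A, B⁆ = Z at *
    have hZp : IsPGroup p Z := hG.to_subgroup Z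
    obtain ⟨k, hk⟩ := IsPGroup.iff_card.1 hZp
    have hZcard : Nat.card Z = p := by
      rcases k with _ | _ | k
      · exfalso
        apply hbot
        rw [pow_zero] at hk
        exact Subgroup.card_eq_one.1 hk
      · rw [hk, pow_one]
      · exfalso
        rw [hk] at hcard
        have : p ^ 1 < p ^ (k + 1 + 1) := Nat.pow_lt_pow_right hp.one_lt (by omega)
        rw [pow_one] at this
        omega
    have hZA : Z ≤ A := hAB.trans inf_le_left
    have hZB : Z ≤ B := hAB.trans inf_le_right
    have hAn : A ≤ Subgroup.normalizer (Z : Set G) :=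
      le_normalizer_of_conj_mem A Z (fun a ha z hz => by
        have : a * z * a⁻¹ = ⁅a, z⁆ * z := by simp [commutatorElement_def]
        rw [this]
        refine Z.mul_mem ?_ hz
        rw [← hZdef]
        exact Subgroup.commutator_mem_commutator ha (hZB hz))
    have hBn : B ≤ Subgroup.normalizer (Z : Set G) :=
      le_normalizer_of_conj_mem B Z (fun b hb z hz => by
        have : b * z * b⁻¹ = ⁅z, b⁆⁻¹ * z := by
          simp only [commutatorElement_def]
          group
        rw [this]
        refine Z.mul_mem (Z.inv_mem ?_) hz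
        rw [← hZdef]
        exact Subgroup.commutator_mem_commutator (hZA hz) hb)
    have hAc := le_centralizer_of_card_prime A Z (hG.to_subgroup A) hZcard hAn
    have hBc := le_centralizer_of_card_prime B Z (hG.to_subgroup B) hZcard hBn
    have c1 := count_pairs A B p (fun b hb => card_commuting A Z b
      (fun a ha => by
        rw [← hZdef]
        exact Subgroup.commutator_mem_commutator ha b.2) hAc hZA hZcard hb)
    have c2 := count_pairs B A p (fun a ha => card_commuting B Z a
      (fun b hb => by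
        rw [← hZdef, ← commutatorElement_inv]
        exact Subgroup.inv_mem _ (Subgroup.commutator_mem_commutator a.2 hb)) hBc hZB hZcard ha)
    have hswap : Nat.card {x : A × B // (x.1 : G) * x.2 = x.2 * x.1}
        = Nat.card {x : B × A // (x.1 : G) * x.2 = x.2 * x.1} :=
      Nat.card_congr
        { toFun := fun x => ⟨(x.1.2, x.1.1), x.2.symm⟩
          invFun := fun x => ⟨(x.1.2, x.1.1), x.2.symm⟩
          left_inv := fun _ => rfl
          right_inv := fun _ => rfl }
    rw [hswap, c2] at c1
    have hA : Nat.card (A ⊓ Subgroup.centralizer (B : Set G) : Subgroup G)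
        * (A ⊓ Subgroup.centralizer (B : Set G)).relIndex A = Nat.card A := by
      rw [← Subgroup.relIndex_bot_left, Subgroup.relIndex_mul_relIndex _ _ _ bot_le inf_le_left,
        Subgroup.relIndex_bot_left]
    have hB : Nat.card (B ⊓ Subgroup.centralizer (A : Set G) : Subgroup G)
        * (B ⊓ Subgroup.centralizer (A : Set G)).relIndex B = Nat.card B := by
      rw [← Subgroup.relIndex_bot_left, Subgroup.relIndex_mul_relIndex _ _ _ bot_le inf_le_left,
        Subgroup.relIndex_bot_left]
    have hx : 0 < Nat.card (A ⊓ Subgroup.centralizer (B : Set G) : Subgroup G) := Nat.card_pos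
    have hy : 0 < Nat.card (B ⊓ Subgroup.centralizer (A : Set G) : Subgroup G) := Nat.card_pos
    have hrA : (A ⊓ Subgroup.centralizer (B : Set G)).relIndex A ≠ 0 := by
      intro h
      rw [h, mul_zero] at hA
      exact (Nat.card_pos (α := A)).ne hA
    have hrB : (B ⊓ Subgroup.centralizer (A : Set G)).relIndex B ≠ 0 := by
      intro h
      rw [h, mul_zero] at hB
      exact (Nat.card_pos (α := B)).ne hB
    obtain ⟨u, hu⟩ := Nat.exists_eq_succ_of_ne_zero hrA
    obtain ⟨v, hv⟩ := Nat.exists_eq_succ_of_ne_zero hrB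
    rw [hu, hv]
    rw [hu] at hA
    rw [hv] at hB
    rw [← hA, ← hB] at c1
    congr 1
    exact arith p _ _ u v hp.two_le hx hy c1.symm

end Cfsg.Agent.S3741
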