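import Cfsg.Statements.S3744
import Cfsg.Agent.Lib.Helper32.PSolvHall

set_option autoImplicit false
open Cfsg

namespace Cfsg.Agent.S3744

/-- A finite p-soluble group has a p-complement, all its p-complements are conjugate, and every subgroup of order prime to p lies in one of them. Here a p-complement is a subgroup of order prime to p whose index is a power of p. -/
theorem result {G : Type*} [Group G] [Finite G] {p : ℕ} [Fact p.Prime] (hG : Cfsg.IsPSolvable p G) : (∃ H : Subgroup G, (Nat.card H).Coprime p ∧ ∃ n : ℕ, H.index = p ^ n) ∧ (∀ H₁ H₂ : Subgroup G, (Nat.card H₁).Coprime p → (∃ n : ℕ, H₁.index = p ^ n) → (Nat.card H₂).Coprime p → (∃ n : ℕ, H₂.index = p ^ n) → ∃ g : G, H₂ = H₁.map (MulAut.conj g).toMonoidHom) ∧ (∀ U : Subgroup G, (Nat.card U).Coprime p → ∃ H : Subgroup G, (Nat.card H).Coprime p ∧ (∃ n : ℕ, H.index = p ^ n) ∧ ∃ g : G, U.map (MulAut.conj g).toMonoidHom ≤ H) := by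
  have hp : p.Prime := Fact.out
  obtain ⟨a, m, hm, hcard⟩ :=
    Nat.exists_eq_pow_mul_and_not_dvd (Nat.card_pos (α := G)).ne' p hp.ne_one
  have hcop : m.Coprime p := ((Nat.Prime.coprime_iff_not_dvd hp).mpr hm).symm
  have hmn : Nat.card G = m * p ^ a := by rw [hcard, mul_comm]
  have hmpos : 0 < m := by
    rcases Nat.eq_zero_or_pos m with h | h
    · exfalso
      rw [h, zero_mul] at hmn
      exact (Nat.card_pos (α := G)).ne' hmn
    · exact h
  obtain ⟨hE, hC, hD⟩ := Cfsg.Agent.Lib.Helper32.hallAt_of_isPSolvable hp hG m a hmn hcop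
  have key1 : ∀ H : Subgroup G, Nat.card H = m →
      (Nat.card H).Coprime p ∧ ∃ n : ℕ, H.index = p ^ n := by
    intro H hH
    refine ⟨hH ▸ hcop, a, ?_⟩
    have h1 := H.card_mul_index
    rw [hH, hmn] at h1
    exact Nat.eq_of_mul_eq_mul_left hmpos h1
  have key2 : ∀ H : Subgroup G, (Nat.card H).Coprime p → (∃ n : ℕ, H.index = p ^ n) →
      Nat.card H = m := by
    rintro H hHc ⟨n, hn⟩
    have h1 := H.card_mul_index
    rw [hn, hmn] at h1
    have hpi : ∀ x : ℕ, x.Coprime p → ∀ q : ℕ, q.Prime → q ∣ x → q ∈ {q : ℕ | q ≠ p} := by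
      intro x hx q hq hqx hqp
      rw [hqp] at hqx
      exact hp.ne_one (Nat.Coprime.eq_one_of_dvd hx.symm hqx)
    have hpi' : ∀ b : ℕ, ∀ q : ℕ, q.Prime → q ∣ p ^ b → q ∉ {q : ℕ | q ≠ p} := by
      intro b q hq hqd hne
      exact hne ((Nat.prime_dvd_prime_iff_eq hq hp).mp (hq.dvd_of_dvd_pow hqd))
    have hpos : 0 < Nat.card H * p ^ n := Nat.mul_pos Nat.card_pos (pow_pos hp.pos n)
    exact (Cfsg.Agent.Lib.Helper32.pi_decomp_unique h1 (hpi _ hHc) (hpi' n) (hpi _ hcop) (hpi' a)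
      hpos).1
  refine ⟨?_, ?_, ?_⟩
  · obtain ⟨H, hH⟩ := hE
    exact ⟨H, key1 H hH⟩
  · intro H₁ H₂ h1 h1' h2 h2'
    obtain ⟨g, hg⟩ := hC H₁ H₂ (key2 H₁ h1 h1') (key2 H₂ h2 h2')
    exact ⟨g, hg.symm⟩
  · intro U hU
    obtain ⟨H, hH, hUH⟩ := hD U (Nat.Coprime.pow_right a hU)
    obtain ⟨h1, h2⟩ := key1 H hH
    refine ⟨H, h1, h2, 1, ?_⟩
    have h3 : (MulAut.conj (1 : G)).toMonoidHom = MonoidHom.id G := by
      ext x
      simp
    rw [h3, Subgroup.map_id]
    exact hUH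

end Cfsg.Agent.S3744
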