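import Cfsg.Statements.S3746
import Mathlib.Tactic

set_option autoImplicit false
open Cfsg
open scoped commutatorElement

namespace Cfsg.Agent.S3746

/-- Let Z ≤ Z(G) be a central subgroup of a finite group G and E a subgroup of G containing Z whose image E/Z is a component of G/Z (subnormal and quasisimple). Then the derived subgroup [E, E] is a component of G. -/
theorem result {G : Type*} [Group G] [Finite G] (Z : Subgroup G) (hZ : Z ≤ Subgroup.center G) [Z.Normal] (E : Subgroup G) (hZE : Z ≤ E) (hE : Cfsg.IsComponent (E.map (QuotientGroup.mk' Z))) : Cfsg.IsComponent ⁅E, E⁆ := by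
  obtain ⟨hsub, hperf, hsimple⟩ := hE
  set π := QuotientGroup.mk' Z with hπ
  set D : Subgroup G := ⁅E, E⁆ with hD
  have hker : π.ker = Z := QuotientGroup.ker_mk' Z
  have hDE : D ≤ E := Subgroup.commutator_le_self E
  -- E subnormal
  have hEsub : E.IsSubnormal := by
    have := hsub.comap π
    rwa [Subgroup.comap_map_eq_self (by rw [hker]; exact hZE)] at this
  -- D normal in E
  have hDn : (D.subgroupOf E).Normal := by
    have h1 : D = (commutator E).map E.subtype := (Subgroup.map_subtype_commutator E).symm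
    have h2 : D.subgroupOf E = commutator E := by
      rw [h1, Subgroup.subgroupOf, Subgroup.comap_map_eq_self_of_injective E.subtype_injective]
    rw [h2]
    infer_instance
  have hDsub : D.IsSubnormal := Subgroup.IsSubnormal.trans hDE hDn.isSubnormal hEsub
  -- perfectness of the image means map π D = map π E
  have hmapD : D.map π = E.map π := by
    have h1 := Subgroup.map_subtype_commutator (E.map π)
    rw [hperf.commutator_eq_top, ← MonoidHom.range_eq_map, Subgroup.range_subtype] at h1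
    rw [hD, Subgroup.map_commutator]
    exact h1.symm
  have hEDZ : E = D ⊔ Z := by
    have h1 : (D.map π).comap π = (E.map π).comap π := by rw [hmapD]
    rw [Subgroup.comap_map_eq, Subgroup.comap_map_eq, hker] at h1
    rw [h1]
    exact (sup_eq_left.mpr hZE).symm
  have hdecomp : ∀ e ∈ E, ∃ d ∈ D, ∃ z ∈ Z, d * z = e := by
    intro e he
    rw [hEDZ] at he
    exact Subgroup.mem_sup_of_normal_right.mp he
  have hcent : ∀ z ∈ Z, ∀ g : G, g * z = z * g := fun z hz g =>
    Subgroup.mem_center_iff.mp (hZ hz) g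
  -- D is perfect as a subgroup of G
  have hDD : ⁅D, D⁆ = D := by
    apply le_antisymm (Subgroup.commutator_le_self D)
    show ⁅E, E⁆ ≤ ⁅D, D⁆
    rw [Subgroup.commutator_le]
    intro a ha b hb
    obtain ⟨d, hd, z, hz, rfl⟩ := hdecomp a ha
    obtain ⟨d', hd', z', hz', rfl⟩ := hdecomp b hb
    have : ⁅d * z, d' * z'⁆ = ⁅d, d'⁆ := by
      rw [commutatorElement_def, commutatorElement_def]
      have e1 := hcent z hz
      have e2 := hcent z' hz'
      have e3 : ∀ g : G, g * z⁻¹ = z⁻¹ * g := fun g =>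
        Subgroup.mem_center_iff.mp (hZ (inv_mem hz)) g
      have e4 : ∀ g : G, g * z'⁻¹ = z'⁻¹ * g := fun g =>
        Subgroup.mem_center_iff.mp (hZ (inv_mem hz')) g
      calc d * z * (d' * z') * (d * z)⁻¹ * (d' * z')⁻¹
          = d * z * (d' * z') * (z⁻¹ * d⁻¹) * (z'⁻¹ * d'⁻¹) := by rw [mul_inv_rev, mul_inv_rev]
        _ = d * z * (d' * z') * (d⁻¹ * z⁻¹) * (d'⁻¹ * z'⁻¹) := by rw [e3 d⁻¹, e4 d'⁻¹]
        _ = d * (z * d') * z' * d⁻¹ * (z⁻¹ * d'⁻¹) * z'⁻¹ := by group
        _ = d * (d' * z) * z' * d⁻¹ * (d'⁻¹ * z⁻¹) * z'⁻¹ := by rw [e1 d', e3 d'⁻¹]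
        _ = d * d' * (z * z' * d⁻¹) * d'⁻¹ * z⁻¹ * z'⁻¹ := by group
        _ = d * d' * (d⁻¹ * (z * z')) * d'⁻¹ * z⁻¹ * z'⁻¹ := by
            rw [← Subgroup.mem_center_iff.mp (hZ (mul_mem hz hz')) d⁻¹]
        _ = d * d' * d⁻¹ * (z * z' * d'⁻¹) * z⁻¹ * z'⁻¹ := by group
        _ = d * d' * d⁻¹ * (d'⁻¹ * (z * z')) * z⁻¹ * z'⁻¹ := by
            rw [← Subgroup.mem_center_iff.mp (hZ (mul_mem hz hz')) d'⁻¹]
        _ = d * d' * d⁻¹ * d'⁻¹ * (z * (z' * z⁻¹) * z'⁻¹) := by group
        _ = d * d' * d⁻¹ * d'⁻¹ * (z * (z⁻¹ * z') * z'⁻¹) := by rw [e3 z']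
        _ = d * d' * d⁻¹ * d'⁻¹ := by group
    rw [this]
    exact Subgroup.commutator_mem_commutator hd hd'
  have hDperf : Group.IsPerfect D := by
    constructor
    have h1 := Subgroup.map_subtype_commutator D
    rw [hDD] at h1
    apply Subgroup.map_injective D.subtype_injective
    rw [h1, ← MonoidHom.range_eq_map, Subgroup.range_subtype]
  -- the homomorphism D → Ē / Z(Ē)
  let ρ : D →* (E.map π) := (π.subgroupMap E).comp (Subgroup.inclusion hDE)
  have hρ_apply : ∀ d : D, ((ρ d : E.map π) : G ⧸ Z) = π d := fun d => rfl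
  have hρsurj : Function.Surjective ρ := by
    rintro ⟨x, hx⟩
    obtain ⟨e, he, rfl⟩ := hx
    obtain ⟨d, hd, z, hz, rfl⟩ := hdecomp e he
    refine ⟨⟨d, hd⟩, ?_⟩
    apply Subtype.ext
    rw [hρ_apply]
    show π d = π (d * z)
    rw [map_mul]
    have : π z = 1 := by
      rw [← MonoidHom.mem_ker, hker]; exact hz
    rw [this, mul_one]
  let φ : D →* (E.map π) ⧸ Subgroup.center (E.map π) :=
    (QuotientGroup.mk' (Subgroup.center (E.map π))).comp ρ
  have hφsurj : Function.Surjective φ :=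
    (QuotientGroup.mk'_surjective _).comp hρsurj
  have hφker : φ.ker = Subgroup.center D := by
    ext c
    rw [MonoidHom.mem_ker]
    show (QuotientGroup.mk' (Subgroup.center (E.map π))) (ρ c) = 1 ↔ _
    rw [← MonoidHom.mem_ker, QuotientGroup.ker_mk', Subgroup.mem_center_iff, Subgroup.mem_center_iff]
    constructor
    · intro hc d
      -- c e c⁻¹ e⁻¹ ∈ Z for all e ∈ E
      have hce : ∀ e ∈ E, ∃ z ∈ Z, (c : G) * e * (c : G)⁻¹ = z * e := by
        intro e he
        have h1 := hc ⟨π e, Subgroup.mem_map_of_mem π he⟩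
        have h2 : π e * π c = π c * π e := by
          have := congrArg Subtype.val h1
          simpa [hρ_apply] using this
        refine ⟨(c : G) * e * (c : G)⁻¹ * e⁻¹, ?_, by group⟩
        rw [← hker, MonoidHom.mem_ker]
        simp only [map_mul, map_inv]
        rw [← h2]
        group
      have hcomm : D ≤ Subgroup.centralizer ({(c : G)} : Set G) := by
        show ⁅E, E⁆ ≤ _
        rw [Subgroup.commutator_le]
        intro e1 he1 e2 he2
        rw [Subgroup.mem_centralizer_iff]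
        intro h hh
        rw [Set.mem_singleton_iff] at hh
        subst hh
        obtain ⟨z1, hz1, h1⟩ := hce e1 he1
        obtain ⟨z2, hz2, h2⟩ := hce e2 he2
        -- c ⁅e1,e2⁆ c⁻¹ = ⁅z1 e1, z2 e2⁆ = ⁅e1,e2⁆
        have hconj : (c : G) * ⁅e1, e2⁆ * (c : G)⁻¹ = ⁅e1, e2⁆ := by
          have : (c : G) * ⁅e1, e2⁆ * (c : G)⁻¹ =
              ⁅(c : G) * e1 * (c : G)⁻¹, (c : G) * e2 * (c : G)⁻¹⁆ := by
            rw [commutatorElement_def, commutatorElement_def]; group
          rw [this, h1, h2]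
          rw [commutatorElement_def, commutatorElement_def]
          have e1' := hcent z1 hz1
          have e2' := hcent z2 hz2
          have e3 : ∀ g : G, g * z1⁻¹ = z1⁻¹ * g := fun g =>
            Subgroup.mem_center_iff.mp (hZ (inv_mem hz1)) g
          have e4 : ∀ g : G, g * z2⁻¹ = z2⁻¹ * g := fun g =>
            Subgroup.mem_center_iff.mp (hZ (inv_mem hz2)) g
          calc z1 * e1 * (z2 * e2) * (z1 * e1)⁻¹ * (z2 * e2)⁻¹
              = z1 * e1 * (z2 * e2) * (e1⁻¹ * z1⁻¹) * (e2⁻¹ * z2⁻¹) := by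
                rw [mul_inv_rev, mul_inv_rev]
            _ = z1 * (e1 * z2) * e2 * (e1⁻¹ * z1⁻¹) * (e2⁻¹ * z2⁻¹) := by group
            _ = z1 * (z2 * e1) * e2 * (z1⁻¹ * e1⁻¹) * (z2⁻¹ * e2⁻¹) := by
                rw [e2' e1, e3 e1⁻¹, e4 e2⁻¹]
            _ = z1 * z2 * (e1 * e2 * z1⁻¹) * e1⁻¹ * z2⁻¹ * e2⁻¹ := by group
            _ = z1 * z2 * (z1⁻¹ * (e1 * e2)) * e1⁻¹ * z2⁻¹ * e2⁻¹ := by rw [e3 (e1 * e2)]
            _ = z1 * (z2 * z1⁻¹) * (e1 * e2 * e1⁻¹ * z2⁻¹) * e2⁻¹ := by group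
            _ = z1 * (z1⁻¹ * z2) * (z2⁻¹ * (e1 * e2 * e1⁻¹)) * e2⁻¹ := by
                rw [e3 z2, e4 (e1 * e2 * e1⁻¹)]
            _ = e1 * e2 * e1⁻¹ * e2⁻¹ := by group
        calc (c : G) * ⁅e1, e2⁆ = ((c : G) * ⁅e1, e2⁆ * (c : G)⁻¹) * c := by group
          _ = ⁅e1, e2⁆ * c := by rw [hconj]
      have := Subgroup.mem_centralizer_iff.mp (hcomm d.2) (c : G) rfl
      apply Subtype.ext
      simp only [Subgroup.coe_mul]
      exact this.symm
    · intro hc x
      obtain ⟨d, rfl⟩ := hρsurj x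
      rw [← map_mul, ← map_mul, hc d]
  have e1 : D ⧸ Subgroup.center D ≃* D ⧸ φ.ker :=
    QuotientGroup.quotientMulEquivOfEq hφker.symm
  have e2 : D ⧸ φ.ker ≃* (E.map π) ⧸ Subgroup.center (E.map π) :=
    QuotientGroup.quotientKerEquivOfSurjective φ hφsurj
  exact ⟨hDsub, hDperf, (e1.trans e2).isSimpleGroup⟩

end Cfsg.Agent.S3746
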