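import Cfsg.Statements.S3747
import Cfsg.Agent.Lib.Helper67.Subnormal

set_option autoImplicit false
open Cfsg
open scoped commutatorElement

namespace Cfsg.Agent.S3747

open Cfsg.Agent.Lib.Helper30 Cfsg.Agent.Lib.Helper67 Subgroup

variable {G : Type*} [Group G]

/-- conjugates of a centerless subgroup are centerless -/
theorem conj_centerless (K : Subgroup G) (hK : K ⊓ centralizer (K : Set G) = ⊥) (g : G) :
    K.map (MulAut.conj g).toMonoidHom ⊓
      centralizer ((K.map (MulAut.conj g).toMonoidHom : Subgroup G) : Set G) = ⊥ := by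
  rw [eq_bot_iff]
  rintro x ⟨⟨k, hk, rfl⟩, hx2⟩
  have hkc : k ∈ centralizer (K : Set G) := by
    rw [Subgroup.mem_centralizer_iff]
    intro k' hk'
    have h1 : (MulAut.conj g).toMonoidHom k' ∈ ((K.map (MulAut.conj g).toMonoidHom : Subgroup G) : Set G) :=
      Subgroup.mem_map_of_mem _ hk'
    have h2 := (Subgroup.mem_centralizer_iff.mp hx2) _ h1
    rw [← map_mul, ← map_mul] at h2
    exact (MulAut.conj g).injective h2
  have : k ∈ K ⊓ centralizer (K : Set G) := ⟨hk, hkc⟩
  rw [hK, Subgroup.mem_bot] at this
  rw [this, map_one]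
  exact Subgroup.one_mem _

/-- Part (a). -/
theorem partA [Finite G] (K : Subgroup G) (hK : Cfsg.IsComponent K) (hZ : Subgroup.center ↥K = ⊥) :
    Subgroup.normalClosure (K : Set G) ≠ ⊥ ∧ ∀ N : Subgroup G, N.Normal →
      N ≤ Subgroup.normalClosure (K : Set G) → N = ⊥ ∨ N = Subgroup.normalClosure (K : Set G) := by
  have hKne : K ≠ ⊥ := component_ne_bot hK
  have hKle : K ≤ Subgroup.normalClosure (K : Set G) := Subgroup.le_normalClosure
  constructor
  · intro h
    apply hKne
    rw [eq_bot_iff, ← h]
    exact hKle
  · intro N hN hNle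
    have hK0 : K ⊓ centralizer (K : Set G) = ⊥ := by
      rw [← map_center_subtype, hZ, Subgroup.map_bot]
    set S : Set (Subgroup G) := Set.range (fun g : G => K.map (MulAut.conj g).toMonoidHom) with hS
    have hsup : Subgroup.normalClosure (K : Set G) = sSup S := by
      rw [normalClosure_eq_iSup_conj, hS, sSup_range]
    have hcl : (sSup S) ⊓ centralizer ((sSup S : Subgroup G) : Set G) = ⊥ := by
      apply sSup_centerless
      · rintro _ ⟨g, rfl⟩ _ ⟨g', rfl⟩ hne
        have h1 := component_commute (isComponent_conj g' hK) (isComponent_conj g hK) (Ne.symm hne)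
        exact commutator_eq_bot_iff_le_centralizer.mp h1
      · rintro _ ⟨g, rfl⟩
        exact conj_centerless K hK0 g
    rcases component_normal_dichotomy hK.1 hK.2 hN with h | h
    · right
      apply le_antisymm hNle
      exact Subgroup.normalClosure_le_normal h
    · left
      have hNK : N ≤ centralizer (K : Set G) := by
        rw [commutator_comm] at h
        exact commutator_eq_bot_iff_le_centralizer.mp h
      have hNall : ∀ A ∈ S, A ≤ centralizer (N : Set G) := by
        rintro _ ⟨g, rfl⟩
        rintro _ ⟨k, hk, rfl⟩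
        rw [Subgroup.mem_centralizer_iff]
        intro m hm
        have hm' : g⁻¹ * m * g ∈ N := by
          have := hN.conj_mem m hm g⁻¹
          simpa using this
        have h2 := (Subgroup.mem_centralizer_iff.mp (hNK hm')) k hk
        show m * (g * k * g⁻¹) = g * k * g⁻¹ * m
        calc m * (g * k * g⁻¹) = g * ((g⁻¹ * m * g) * k) * g⁻¹ := by group
          _ = g * (k * (g⁻¹ * m * g)) * g⁻¹ := by rw [h2]
          _ = g * k * g⁻¹ * m := by group
      have h3 : sSup S ≤ centralizer (N : Set G) := sSup_le hNall
      have h4 : N ≤ centralizer ((sSup S : Subgroup G) : Set G) := Subgroup.le_centralizer_iff.mp h3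
      rw [eq_bot_iff, ← hcl]
      exact le_inf (hsup ▸ hNle) h4

/-- Let G be a finite group. (a) If K is a component of G with trivial centre, then the normal closure of K in G is a minimal normal subgroup of G. (b) If the Fitting subgroup of G is trivial, then the layer E(G) is generated by the minimal normal subgroups of G. -/
theorem result {G : Type*} [Group G] [Finite G] : (∀ K : Subgroup G, Cfsg.IsComponent K → Subgroup.center ↥K = ⊥ → (Subgroup.normalClosure (K : Set G) ≠ ⊥ ∧ ∀ N : Subgroup G, N.Normal → N ≤ Subgroup.normalClosure (K : Set G) → N = ⊥ ∨ N = Subgroup.normalClosure (K : Set G))) ∧ (Cfsg.fittingSubgroup G = ⊥ → sSup {N : Subgroup G | N ≠ ⊥ ∧ N.Normal ∧ ∀ N' : Subgroup G, N'.Normal → N' ≤ N → N' = ⊥ ∨ N' = N} = Cfsg.layer G) := by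
  refine ⟨fun K hK hZ => partA K hK hZ, ?_⟩
  intro hF
  apply le_antisymm
  · apply sSup_le
    rintro N ⟨hNne, hNn, hNmin⟩
    obtain ⟨S, hSN, hSsn, hSne, hSmin⟩ := exists_minimal_subnormal hNn.isSubnormal hNne
    have hSsimple : IsSimpleGroup S := isSimpleGroup_of_minimal_subnormal hSsn hSne hSmin
    have hSnc : ¬ IsMulCommutative S := by
      intro hc
      let _ : CommGroup ↥S := { (inferInstance : Group ↥S) with mul_comm := hc.is_comm.comm }
      have hnil : Group.IsNilpotent S := CommGroup.isNilpotent
      have := (Cfsg.Agent.S3743.result S hSsn).1 hnil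
      rw [hF] at this
      exact hSne (eq_bot_iff.mpr this)
    have hScomp : Cfsg.IsComponent S := ⟨hSsn, isQuasisimple_of_simple hSnc⟩
    have hSlayer : S ≤ Cfsg.layer G := component_le_layer hScomp
    have hinf_n : (N ⊓ Cfsg.layer G).Normal := inferInstance
    rcases hNmin (N ⊓ Cfsg.layer G) hinf_n inf_le_left with h | h
    · exfalso
      apply hSne
      rw [eq_bot_iff, ← h]
      exact le_inf hSN hSlayer
    · rw [← h]
      exact inf_le_right
  · apply sSup_le
    intro K hK
    have hZ : Subgroup.center ↥K = ⊥ := by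
      have hsn : ((Subgroup.center ↥K).map K.subtype).IsSubnormal :=
        (Subgroup.Normal.isSubnormal inferInstance).trans' hK.1
      have hcc : IsMulCommutative (Subgroup.center ↥K) := inferInstance
      let _ : CommGroup ↥(Subgroup.center ↥K) :=
        { (inferInstance : Group ↥(Subgroup.center ↥K)) with mul_comm := hcc.is_comm.comm }
      have hnil0 : Group.IsNilpotent (Subgroup.center ↥K) := CommGroup.isNilpotent
      have hnil : Group.IsNilpotent ((Subgroup.center ↥K).map K.subtype) :=
        Group.nilpotent_of_mulEquiv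
          ((Subgroup.center ↥K).equivMapOfInjective K.subtype K.subtype_injective)
      have := (Cfsg.Agent.S3743.result _ hsn).1 hnil
      rw [hF, le_bot_iff] at this
      rwa [Subgroup.map_eq_bot_iff_of_injective _ K.subtype_injective] at this
    obtain ⟨h1, h2⟩ := partA K hK hZ
    have hmem : Subgroup.normalClosure (K : Set G) ∈ {N : Subgroup G | N ≠ ⊥ ∧ N.Normal ∧
        ∀ N' : Subgroup G, N'.Normal → N' ≤ N → N' = ⊥ ∨ N' = N} :=
      ⟨h1, Subgroup.normalClosure_normal, h2⟩
    exact (Subgroup.le_normalClosure).trans (le_sSup hmem)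

end Cfsg.Agent.S3747
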