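import Cfsg.Statements.S3748
import Cfsg.Agent.Lib.Helper67.Subnormal

set_option autoImplicit false
open Cfsg
open scoped commutatorElement

namespace Cfsg.Agent.S3748

open Cfsg.Agent.Lib.Helper30 Cfsg.Agent.Lib.Helper67 Cfsg.Agent.Lib.Helper76 Subgroup

variable {G : Type*} [Group G]

/-- If `K` normalizes every member of a family, it normalizes the join. -/
theorem le_normalizer_iSup {ι : Sort*} (K : Subgroup G) (A : ι → Subgroup G)
    (h : ∀ i, K ≤ normalizer ((A i : Subgroup G) : Set G)) :
    K ≤ normalizer ((⨆ i, A i : Subgroup G) : Set G) := by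
  intro k hk
  rw [Subgroup.mem_normalizer_iff_map_conj_eq]
  have : (⨆ i, A i).map (MulAut.conj k).toMonoidHom = ⨆ i, (A i).map (MulAut.conj k).toMonoidHom :=
    Subgroup.map_iSup _ _
  show (⨆ i, A i).map (MulAut.conj k).toMonoidHom = _
  rw [this]
  congr 1
  funext i
  exact Subgroup.mem_normalizer_iff_map_conj_eq.mp (h i hk)

/-- A primitive subgroup contains no nontrivial normal subgroup of `G`. -/
theorem no_normal (M : Subgroup G) (hM : M ≠ ⊤)
    (hprim : ∀ N : Subgroup G, N ≤ M → M ≤ Subgroup.normalizer (N : Set G) → N ≠ ⊥ →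
      Subgroup.normalizer (N : Set G) = M) (N : Subgroup G) (hN : N.Normal) (hNM : N ≤ M) : N = ⊥ := by
  by_contra hne
  have h1 : Subgroup.normalizer (N : Set G) = ⊤ := Subgroup.normalizer_eq_top_iff.mpr hN
  have h2 := hprim N hNM (by rw [h1]; exact le_top) hne
  exact hM (h2 ▸ h1)

theorem inf_fitting (M : Subgroup G) [Finite G] (hM : M ≠ ⊤)
    (hprim : ∀ N : Subgroup G, N ≤ M → M ≤ Subgroup.normalizer (N : Set G) → N ≠ ⊥ →
      Subgroup.normalizer (N : Set G) = M) : M ⊓ Cfsg.fittingSubgroup G = ⊥ := by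
  by_contra hne
  set F := Cfsg.fittingSubgroup G with hF
  have hFn : F.Normal := fittingSubgroup_normal
  set D := M ⊓ F with hD
  have hMD : M ≤ Subgroup.normalizer (D : Set G) := by
    rw [Subgroup.le_normalizer_iff]
    intro m hm x hx
    exact ⟨M.mul_mem (M.mul_mem hm hx.1) (M.inv_mem hm), hFn.conj_mem x hx.2 m⟩
  have hnD : Subgroup.normalizer (D : Set G) = M := hprim D inf_le_left hMD hne
  have hnil : Group.IsNilpotent F := fittingSubgroup_isNilpotent
  have hself : Subgroup.normalizer ((D.subgroupOf F : Subgroup F) : Set F) = D.subgroupOf F := by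
    rw [← Subgroup.subgroupOf_normalizer_eq (inf_le_right : D ≤ F), hnD, hD,
      Subgroup.inf_subgroupOf_right]
  have htop : D.subgroupOf F = ⊤ :=
    (normalizerCondition_iff_only_full_group_self_normalizing.mp
      Group.normalizerCondition_of_isNilpotent) _ hself
  have hFD : F ≤ D := Subgroup.subgroupOf_eq_top.mp htop
  have hFM : F ≤ M := hFD.trans inf_le_left
  have hFbot : F = ⊥ := no_normal M hM hprim F hFn hFM
  apply hne
  rw [eq_bot_iff, ← hFbot]
  exact inf_le_right

/-- Call a proper subgroup M of G primitive when M = N_G(N) for every non-trivial normal subgroup N of M. If M is a primitive subgroup of the finite group G, then no non-trivial subnormal subgroup of G is contained in M; in particular M ∩ F(G) = 1. -/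
theorem result {G : Type*} [Group G] [Finite G] (M : Subgroup G) (hM : M ≠ ⊤) (hprim : ∀ N : Subgroup G, N ≤ M → M ≤ Subgroup.normalizer (N : Set G) → N ≠ ⊥ → Subgroup.normalizer (N : Set G) = M) : (∀ L : Subgroup G, L.IsSubnormal → L ≤ M → L = ⊥) ∧ M ⊓ Cfsg.fittingSubgroup G = ⊥ := by
  have hfit := inf_fitting M hM hprim
  refine ⟨?_, hfit⟩
  intro L hL hLM
  by_contra hLne
  obtain ⟨S, hSL, hSsn, hSne, hSmin⟩ := exists_minimal_subnormal hL hLne
  have hSM : S ≤ M := hSL.trans hLM
  have hSsimple : IsSimpleGroup S := isSimpleGroup_of_minimal_subnormal hSsn hSne hSmin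
  have hSnc : ¬ IsMulCommutative S := by
    intro hc
    let _ : CommGroup ↥S := { (inferInstance : Group ↥S) with mul_comm := hc.is_comm.comm }
    have hnil : Group.IsNilpotent S := CommGroup.isNilpotent
    have h1 := (Cfsg.Agent.S3743.result S hSsn).1 hnil
    have h2 : S ≤ M ⊓ Cfsg.fittingSubgroup G := le_inf hSM h1
    rw [hfit] at h2
    exact hSne (eq_bot_iff.mpr h2)
  have hScomp : Cfsg.IsComponent S := ⟨hSsn, isQuasisimple_of_simple hSnc⟩
  -- J = join of M-conjugates of S
  set J : Subgroup G := ⨆ m : M, S.map (MulAut.conj (m : G)).toMonoidHom with hJ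
  have hJM : J ≤ M := by
    apply iSup_le
    rintro ⟨m, hm⟩
    rintro _ ⟨x, hx, rfl⟩
    exact M.mul_mem (M.mul_mem hm (hSM hx)) (M.inv_mem hm)
  have hSJ : S ≤ J := by
    intro x hx
    have : x ∈ S.map (MulAut.conj ((1 : M) : G)).toMonoidHom := ⟨x, hx, by simp⟩
    exact (le_iSup (fun m : M => S.map (MulAut.conj (m : G)).toMonoidHom) 1) this
  have hJne : J ≠ ⊥ := by
    intro h
    apply hSne
    rw [eq_bot_iff, ← h]
    exact hSJ
  have hMJ : M ≤ Subgroup.normalizer (J : Set G) := by
    intro m hm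
    rw [Subgroup.mem_normalizer_iff_map_conj_eq]
    show J.map (MulAut.conj m).toMonoidHom = J
    have hle : ∀ m' : G, m' ∈ M → J.map (MulAut.conj m').toMonoidHom ≤ J := by
      intro m' hm'
      rw [hJ, Subgroup.map_iSup]
      apply iSup_le
      intro m''
      rw [Subgroup.map_map]
      have : (MulAut.conj m').toMonoidHom.comp (MulAut.conj (m'' : G)).toMonoidHom
          = (MulAut.conj (((⟨m', hm'⟩ : M) * m'' : M) : G)).toMonoidHom := by
        ext x; simp [mul_assoc]
      rw [this]
      exact le_iSup (fun m : M => S.map (MulAut.conj (m : G)).toMonoidHom) (⟨m', hm'⟩ * m'')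
    apply le_antisymm (hle m hm)
    intro x hx
    have h1 := hle m⁻¹ (M.inv_mem hm) (Subgroup.mem_map_of_mem _ hx)
    refine ⟨_, h1, ?_⟩
    simp only [MulEquiv.coe_toMonoidHom, MulAut.conj_apply, inv_inv]
    group
  have hnJ : Subgroup.normalizer (J : Set G) = M := hprim J hJM hMJ hJne
  -- the layer normalizes J
  have hEJ : Cfsg.layer G ≤ Subgroup.normalizer (J : Set G) := by
    apply le_normalizer_iSup
    intro m
    exact layer_le_normalizer (hSsn.map (MulAut.conj (m : G)).surjective)
  have hEM : Cfsg.layer G ≤ M := hnJ ▸ hEJ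
  have hEbot : Cfsg.layer G = ⊥ := no_normal M hM hprim _ layer_normal hEM
  apply hSne
  rw [eq_bot_iff, ← hEbot]
  exact component_le_layer hScomp

end Cfsg.Agent.S3748
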