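import Cfsg.Statements.S3749
import Cfsg.Agent.Lib.Helper67.PAction
import Cfsg.Agent.Lib.Helper67.Conj
import Cfsg.Agent.Lib.Helper54.Basic

set_option autoImplicit false
open Cfsg

namespace Cfsg.Agent.S3749

open Subgroup Cfsg.Agent.Lib.Helper54 Cfsg.Agent.Lib.Helper67

/-- Call a proper subgroup M of G primitive when M = N_G(N) for every non-trivial normal subgroup N of M. Let M be a primitive subgroup of the finite group G, p a prime with O_p(M) ≠ 1, and N a normal subgroup of G with M ∩ N = 1. Then p does not divide the order of N; for every prime q there is exactly one Sylow q-subgroup of N normalized by M; and if the order of N has at least two prime divisors then M is not a maximal subgroup of G. -/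
theorem result {G : Type*} [Group G] [Finite G] (M : Subgroup G) (hM : M ≠ ⊤) (hprim : ∀ N : Subgroup G, N ≤ M → M ≤ Subgroup.normalizer (N : Set G) → N ≠ ⊥ → Subgroup.normalizer (N : Set G) = M) {p : ℕ} [Fact p.Prime] (hOp : Cfsg.pCore p ↥M ≠ ⊥) (N : Subgroup G) [N.Normal] (hMN : M ⊓ N = ⊥) : ¬ p ∣ Nat.card N ∧ (∀ q : ℕ, [Fact q.Prime] → ∃! Q : Sylow q ↥N, M ≤ Subgroup.normalizer ((Q : Subgroup ↥N).map N.subtype : Set G)) ∧ ((∃ q r : ℕ, q.Prime ∧ r.Prime ∧ q ≠ r ∧ q ∣ Nat.card N ∧ r ∣ Nat.card N) → ¬ IsCoatom M) := by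
  set P : Subgroup G := (Cfsg.pCore p ↥M).map M.subtype with hPdef
  have hPne : P ≠ ⊥ := by
    intro h
    apply hOp
    rwa [hPdef, Subgroup.map_eq_bot_iff_of_injective _ M.subtype_injective] at h
  have hPM : P ≤ M := Subgroup.map_subtype_le _
  have hMP : M ≤ Subgroup.normalizer (P : Set G) := le_normalizer_map_subtype M (Cfsg.pCore p ↥M)
  have hNP : Subgroup.normalizer (P : Set G) = M := hprim P hPM hMP hPne
  have hP : IsPGroup p P := (pCore_isPGroup p ↥M).map _
  have hC : N ⊓ Subgroup.centralizer (P : Set G) = ⊥ := by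
    rw [eq_bot_iff, ← hMN]
    refine le_inf ?_ inf_le_left
    calc N ⊓ Subgroup.centralizer (P : Set G) ≤ Subgroup.centralizer (P : Set G) := inf_le_right
      _ ≤ Subgroup.normalizer (P : Set G) := Subgroup.centralizer_le_normalizer _
      _ = M := hNP
  have hpN : ¬ p ∣ Nat.card N := not_dvd_card_of_centralizer_inf_eq_bot hP hC
  -- uniqueness of P-invariant Sylow subgroups
  have huniq : ∀ (q : ℕ) [Fact q.Prime] (Q₁ Q₂ : Sylow q ↥N), (∀ a ∈ conjCopy P, a • Q₁ = Q₁) →
      (∀ a ∈ conjCopy P, a • Q₂ = Q₂) → Q₁ = Q₂ := by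
    intro q _ Q₁ Q₂ h₁ h₂
    obtain ⟨c, hc, hcQ⟩ := invariant_sylow_conj hP hpN q Q₁ Q₂ h₁ h₂
    have hc1 : (c : G) ∈ N ⊓ Subgroup.centralizer (P : Set G) := Subgroup.mem_inf.mpr ⟨c.2, hc⟩
    rw [hC, Subgroup.mem_bot] at hc1
    have : c = 1 := Subtype.ext hc1
    rw [this, one_smul] at hcQ
    exact hcQ
  -- M-invariance is the same as membership of M in the normalizer
  have hinv_of_norm : ∀ (q : ℕ) [Fact q.Prime] (Q : Sylow q ↥N),
      M ≤ Subgroup.normalizer ((Q : Subgroup ↥N).map N.subtype : Set G) →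
      ∀ a ∈ conjCopy P, a • Q = Q := by
    intro q _ Q hQ a ha
    have h1 : ConjAct.ofConjAct a ∈ M := hPM (mem_conjCopy.mp ha)
    have := (smul_sylow_eq_iff (ConjAct.ofConjAct a) Q).mpr (hQ h1)
    simpa using this
  have hexists : ∀ (q : ℕ) [Fact q.Prime], ∃ Q : Sylow q ↥N,
      M ≤ Subgroup.normalizer ((Q : Subgroup ↥N).map N.subtype : Set G) := by
    intro q _
    obtain ⟨Q, hQ⟩ := exists_invariant_sylow hP hpN q (N := N)
    refine ⟨Q, ?_⟩
    intro m hm
    rw [← smul_sylow_eq_iff]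
    symm
    apply huniq q Q _ hQ
    intro a ha
    -- a • m • Q = m • (m⁻¹ a m) • Q
    have hconj : (ConjAct.toConjAct m)⁻¹ * a * ConjAct.toConjAct m ∈ conjCopy P := by
      rw [mem_conjCopy]
      simp only [map_mul, map_inv, ConjAct.ofConjAct_toConjAct]
      exact (Subgroup.mem_normalizer_iff''.mp (hMP hm) _).mp (mem_conjCopy.mp ha)
    have h2 := hQ _ hconj
    calc a • ConjAct.toConjAct m • Q
        = (ConjAct.toConjAct m * ((ConjAct.toConjAct m)⁻¹ * a * ConjAct.toConjAct m)) • Q := by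
          rw [← mul_smul]; congr 1; group
      _ = ConjAct.toConjAct m • Q := by rw [mul_smul, h2]
  refine ⟨hpN, ?_, ?_⟩
  · intro q _
    obtain ⟨Q, hQ⟩ := hexists q
    refine ⟨Q, hQ, ?_⟩
    intro Q' hQ'
    exact huniq q Q' Q (hinv_of_norm q Q' hQ') (hinv_of_norm q Q hQ)
  · rintro ⟨q, r, hq, hr, hqr, hqN, hrN⟩ hco
    have : Fact q.Prime := ⟨hq⟩
    obtain ⟨Q, hQ⟩ := hexists q
    set Qg : Subgroup G := (Q : Subgroup ↥N).map N.subtype with hQg
    have hQgN : Qg ≤ N := Subgroup.map_subtype_le _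
    have hQne : (Q : Subgroup ↥N) ≠ ⊥ := Q.ne_bot_of_dvd_card hqN
    have hQgne : Qg ≠ ⊥ := by
      intro h
      apply hQne
      rwa [hQg, Subgroup.map_eq_bot_iff_of_injective _ N.subtype_injective] at h
    have hnotle : ¬ Qg ≤ M := by
      intro h
      apply hQgne
      rw [eq_bot_iff, ← hMN]
      exact le_inf h hQgN
    have hlt : M < M ⊔ Qg := by
      refine lt_of_le_of_ne le_sup_left ?_
      intro h
      apply hnotle
      rw [h]
      exact le_sup_right
    have htop : M ⊔ Qg = ⊤ := hco.2 _ hlt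
    have hNQ : N ≤ Qg := by
      intro n hn
      have hn' : n ∈ M ⊔ Qg := htop ▸ Subgroup.mem_top n
      obtain ⟨m, hm, k, hk, rfl⟩ := mem_sup_of_le_normalizer hQ hn'
      have hmN : m ∈ N := by
        have : m = (m * k) * k⁻¹ := by group
        rw [this]
        exact N.mul_mem hn (N.inv_mem (hQgN hk))
      have hm1 : m ∈ M ⊓ N := Subgroup.mem_inf.mpr ⟨hm, hmN⟩
      rw [hMN, Subgroup.mem_bot] at hm1
      rw [hm1, one_mul]
      exact hk
    have hQtop : (Q : Subgroup ↥N) = ⊤ := by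
      rw [eq_top_iff]
      intro y _
      exact (coe_mem_map_subtype_iff (Q : Subgroup ↥N) y).mp (hNQ y.2)
    have hcard : Nat.card N = q ^ (Nat.card N).factorization q := by
      rw [← Q.card_eq_multiplicity, hQtop, Subgroup.card_top]
    rw [hcard] at hrN
    have := (Nat.prime_dvd_prime_iff_eq hr hq).mp (hr.dvd_of_dvd_pow hrN)
    exact hqr this.symm

end Cfsg.Agent.S3749
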