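import Cfsg.Statements.S3750
import Cfsg.Agent.Lib.Helper67.FStar
import Cfsg.Agent.S3748

set_option autoImplicit false
open Cfsg
open scoped commutatorElement

namespace Cfsg.Agent.S3750

open Cfsg.Agent.Lib.Helper30 Cfsg.Agent.Lib.Helper67 Cfsg.Agent.Lib.Helper76 Subgroup

/-- Call a proper subgroup M of G primitive when M = N_G(N) for every non-trivial normal subgroup N of M. Let M be a primitive subgroup of the finite group G and N a normal subgroup of G with M ∩ F*(N) ≠ 1. Then F(G) = 1 and F*(N) = F*(G) = E(G); in particular every minimal normal subgroup of G is contained in N. -/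
theorem result {G : Type*} [Group G] [Finite G] (M : Subgroup G) (hM : M ≠ ⊤) (hprim : ∀ N : Subgroup G, N ≤ M → M ≤ Subgroup.normalizer (N : Set G) → N ≠ ⊥ → Subgroup.normalizer (N : Set G) = M) (N : Subgroup G) [N.Normal] (hMF : M ⊓ (Cfsg.generalizedFittingSubgroup ↥N).map N.subtype ≠ ⊥) : Cfsg.fittingSubgroup G = ⊥ ∧ (Cfsg.generalizedFittingSubgroup ↥N).map N.subtype = Cfsg.generalizedFittingSubgroup G ∧ Cfsg.generalizedFittingSubgroup G = Cfsg.layer G ∧ ∀ K : Subgroup G, K.Normal → K ≠ ⊥ → (∀ K' : Subgroup G, K'.Normal → K' ≤ K → K' = ⊥ ∨ K' = K) → K ≤ N := by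
  obtain ⟨hnosub, hMfit⟩ := Cfsg.Agent.S3748.result M hM hprim
  have hNn : N.Normal := inferInstance
  set FN : Subgroup G := (Cfsg.generalizedFittingSubgroup ↥N).map N.subtype with hFN
  set EN : Subgroup G := (Cfsg.layer ↥N).map N.subtype with hEN
  set FNn : Subgroup G := (Cfsg.fittingSubgroup ↥N).map N.subtype with hFNn
  have hFNsup : FN = EN ⊔ FNn := by
    rw [hFN, hEN, hFNn]
    unfold Cfsg.generalizedFittingSubgroup
    rw [Subgroup.map_sup]
  have hFNnormal : FN.Normal := ConjAct.normal_of_characteristic_of_normal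
  have hFNN : FN ≤ N := Subgroup.map_subtype_le _
  set X := M ⊓ FN with hX
  have hMX : M ≤ Subgroup.normalizer (X : Set G) := by
    rw [Subgroup.le_normalizer_iff]
    intro m hm x hx
    exact ⟨M.mul_mem (M.mul_mem hm hx.1) (M.inv_mem hm), hFNnormal.conj_mem x hx.2 m⟩
  have hnX : Subgroup.normalizer (X : Set G) = M := hprim X inf_le_left hMX hMF
  have hcX : ∀ A : Subgroup G, A ≤ centralizer (FN : Set G) → A ≤ M := by
    intro A hA
    calc A ≤ centralizer (FN : Set G) := hA
      _ ≤ centralizer (X : Set G) := Subgroup.centralizer_le (inf_le_right : X ≤ FN)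
      _ ≤ Subgroup.normalizer (X : Set G) := Subgroup.centralizer_le_normalizer _
      _ = M := hnX
  have hcN : ∀ A : Subgroup G, A ≤ centralizer (N : Set G) → A ≤ M := fun A hA =>
    hcX A (hA.trans (Subgroup.centralizer_le hFNN))
  have hFNn_le : FNn ≤ Cfsg.fittingSubgroup G := fitting_map_subtype_le N
  have hEN_le : EN ≤ Cfsg.layer G := layer_map_subtype_le hNn.isSubnormal
  -- F(G) = 1
  have hF : Cfsg.fittingSubgroup G = ⊥ := by
    by_contra hne
    set F := Cfsg.fittingSubgroup G with hFdef
    have hnil : Group.IsNilpotent F := fittingSubgroup_isNilpotent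
    have hZne := inf_centralizer_ne_bot_of_nilpotent F hnil hne
    set Z := F ⊓ centralizer (F : Set G) with hZ
    have hZF : Z ≤ F := inf_le_left
    have hZc : Z ≤ centralizer (FN : Set G) := by
      rw [Subgroup.le_centralizer_iff, hFNsup]
      apply sup_le
      · -- EN ≤ centralizer Z
        have h1 : ⁅Cfsg.layer G, F⁆ = ⊥ := layer_commute_fitting
        have h2 : Cfsg.layer G ≤ centralizer (F : Set G) := commutator_eq_bot_iff_le_centralizer.mp h1
        exact hEN_le.trans (h2.trans (Subgroup.centralizer_le hZF))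
      · -- FNn ≤ F ≤ centralizer Z
        have h3 : Z ≤ centralizer (F : Set G) := inf_le_right
        exact hFNn_le.trans (Subgroup.le_centralizer_iff.mp h3)
    have hZM : Z ≤ M := hcX Z hZc
    apply hZne
    rw [eq_bot_iff, ← hMfit]
    exact le_inf hZM hZF
  have hFNn_bot : FNn = ⊥ := by
    rw [eq_bot_iff, ← hF]; exact hFNn_le
  have hFNEN : FN = EN := by rw [hFNsup, hFNn_bot, sup_bot_eq]
  have hGF : Cfsg.generalizedFittingSubgroup G = Cfsg.layer G := by
    unfold Cfsg.generalizedFittingSubgroup
    rw [hF, sup_bot_eq]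
  have hlayer_le : Cfsg.layer G ≤ EN := by
    apply layer_le
    intro K hK
    rcases component_normal_dichotomy hK.1 hK.2 hNn with h | h
    · have hc := isComponent_subgroupOf hK h
      have h1 : K.subgroupOf N ≤ Cfsg.layer ↥N := component_le_layer hc
      have h2 := Subgroup.map_mono (f := N.subtype) h1
      rw [Subgroup.subgroupOf_map_subtype, inf_eq_left.mpr h] at h2
      exact h2
    · exfalso
      have h1 : K ≤ centralizer (N : Set G) := commutator_eq_bot_iff_le_centralizer.mp h
      have h2 : K ≤ M := hcN K h1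
      exact component_ne_bot hK (hnosub K hK.1 h2)
  refine ⟨hF, ?_, hGF, ?_⟩
  · rw [hGF]
    show FN = _
    rw [hFNEN]
    exact le_antisymm hEN_le hlayer_le
  · intro K hKn hKne hKmin
    have hinf : (K ⊓ N).Normal := inferInstance
    rcases hKmin (K ⊓ N) hinf inf_le_left with h | h
    · exfalso
      have h1 : ⁅K, N⁆ = ⊥ := by
        rw [eq_bot_iff, ← h]
        exact Subgroup.commutator_le_inf K N
      have h2 : K ≤ centralizer (N : Set G) := commutator_eq_bot_iff_le_centralizer.mp h1
      have h3 : K ≤ M := hcN K h2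
      exact hKne (Cfsg.Agent.S3748.no_normal M hM hprim K hKn h3)
    · rw [← h]
      exact inf_le_right

end Cfsg.Agent.S3750
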