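import Cfsg.Statements.S3751
import Cfsg.Agent.Lib.Helper54.Basic
import Cfsg.Agent.Lib.Helper21.SylowAux
import Cfsg.Agent.Lib.Helper67.Conj

set_option autoImplicit false
open Cfsg
open scoped commutatorElement

namespace Cfsg.Agent.S3751

open Subgroup Cfsg.Agent.Lib.Helper54 Cfsg.Agent.Lib.Helper67

variable {G : Type*} [Group G]

/-- `M` is a `p`-local subgroup. -/
def IsPL (p : ℕ) (M : Subgroup G) : Prop :=
  ∃ T : Subgroup G, IsPGroup p T ∧ T ≠ ⊥ ∧ M = Subgroup.normalizer (T : Set G)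

/-- `M` is a maximal `p`-local subgroup. -/
def IsMPL (p : ℕ) (M : Subgroup G) : Prop :=
  IsPL p M ∧ ∀ L : Subgroup G, IsPL p L → M ≤ L → L = M

/-- `O_p(M)` as a subgroup of `G`. -/
def Qof (p : ℕ) (M : Subgroup G) : Subgroup G := (Cfsg.pCore p ↥M).map M.subtype

theorem Qof_le (p : ℕ) (M : Subgroup G) : Qof p M ≤ M := Subgroup.map_subtype_le _

theorem Qof_isPGroup (p : ℕ) (M : Subgroup G) : IsPGroup p (Qof p M) :=
  (pCore_isPGroup p ↥M).map _

theorem le_normalizer_Qof (p : ℕ) (M : Subgroup G) :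
    M ≤ Subgroup.normalizer ((Qof p M : Subgroup G) : Set G) :=
  have := pCore_normal p ↥M
  le_normalizer_map_subtype M (Cfsg.pCore p ↥M)

theorem IsPL.conj {p : ℕ} {M : Subgroup G} (h : IsPL p M) (g : G) : IsPL p (M.map (cj g)) := by
  obtain ⟨T, hT, hne, rfl⟩ := h
  exact ⟨T.map (cj g), hT.map _, map_cj_ne_bot hne g, normalizer_map_cj T g⟩

theorem IsMPL.conj {p : ℕ} {M : Subgroup G} (h : IsMPL p M) (g : G) : IsMPL p (M.map (cj g)) := by
  refine ⟨h.1.conj g, ?_⟩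
  intro L hL hML
  have h1 : M ≤ L.map (cj g⁻¹) := by
    have := Subgroup.map_mono (f := cj g⁻¹) hML
    rwa [map_cj_cj_inv] at this
  have h2 := h.2 _ (hL.conj g⁻¹) h1
  rw [← h2, map_cj_inv_cj]

theorem exists_mpl_ge [Finite G] {p : ℕ} {L : Subgroup G} (hL : IsPL p L) :
    ∃ M : Subgroup G, IsMPL p M ∧ L ≤ M := by
  obtain ⟨M, hM, hmin⟩ := WellFounded.has_min
    (InvImage.wf (fun M : Subgroup G => Nat.card G - Nat.card M) Nat.lt_wfRel.wf)
    {M : Subgroup G | IsPL p M ∧ L ≤ M} ⟨L, hL, le_rfl⟩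
  refine ⟨M, ⟨hM.1, ?_⟩, hM.2⟩
  intro M' hM' hMM'
  have h1 := hmin M' ⟨hM', hM.2.trans hMM'⟩
  have h2 : Nat.card M' ≤ Nat.card G := Subgroup.card_le_card_group M'
  have h3 : Nat.card M ≤ Nat.card G := Subgroup.card_le_card_group M
  have h4 : Nat.card M' ≤ Nat.card M := by
    have : ¬ (Nat.card G - Nat.card M' < Nat.card G - Nat.card M) := h1
    omega
  exact (Subgroup.eq_of_le_of_card_ge hMM' h4).symm

theorem IsPL.ne_top {p : ℕ} [Fact p.Prime] (hOp : Cfsg.pCore p G = ⊥) {M : Subgroup G}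
    (h : IsPL p M) : M ≠ ⊤ := by
  obtain ⟨T, hT, hne, rfl⟩ := h
  intro htop
  have hn : T.Normal := Subgroup.normalizer_eq_top_iff.mp htop
  have := le_pCore hn hT
  rw [hOp, le_bot_iff] at this
  exact hne this

theorem IsPL.ne_bot {p : ℕ} {M : Subgroup G} (h : IsPL p M) : M ≠ ⊥ := by
  obtain ⟨T, hT, hne, rfl⟩ := h
  intro hbot
  apply hne
  rw [eq_bot_iff, ← hbot]
  exact Subgroup.le_normalizer

theorem pgroup_dvd [Finite G] {p : ℕ} [Fact p.Prime] {T : Subgroup G} (hT : IsPGroup p T)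
    (hne : T ≠ ⊥) : p ∣ Nat.card T := by
  obtain ⟨k, hk⟩ := hT.exists_card_eq
  rcases k with _ | k
  · exfalso
    rw [pow_zero] at hk
    exact hne (Subgroup.eq_bot_of_card_eq T hk)
  · rw [hk, pow_succ]
    exact Dvd.intro_left _ rfl

theorem IsPL.dvd_card [Finite G] {p : ℕ} [Fact p.Prime] {M : Subgroup G} (h : IsPL p M) :
    p ∣ Nat.card M := by
  obtain ⟨T, hT, hne, rfl⟩ := h
  exact (pgroup_dvd hT hne).trans (Subgroup.card_dvd_of_le Subgroup.le_normalizer)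

/-- A maximal `p`-local subgroup of characteristic `p` is primitive. -/
theorem mpl_primitive [Finite G] {p : ℕ} [Fact p.Prime] {M : Subgroup G} (hM : IsMPL p M)
    (hchar : Subgroup.centralizer (Cfsg.pCore p ↥M : Set ↥M) ≤ Cfsg.pCore p ↥M)
    (A : Subgroup G) (hA : A ≠ ⊥) (hAM : A ≤ M) (hMA : M ≤ Subgroup.normalizer (A : Set G)) :
    Subgroup.normalizer (A : Set G) = M := by
  have := pCore_characteristic p ↥A
  set PA : Subgroup G := (Cfsg.pCore p ↥A).map A.subtype with hPA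
  have hNA_le : Subgroup.normalizer (A : Set G) ≤ Subgroup.normalizer (PA : Set G) :=
    normalizer_le_normalizer_map_characteristic A (Cfsg.pCore p ↥A)
  by_cases hPAbot : PA = ⊥
  · exfalso
    -- O_p(A) = 1
    set Q := Qof p M with hQ
    have hAQ_norm : A ≤ Subgroup.normalizer ((A ⊓ Q : Subgroup G) : Set G) := by
      rw [Subgroup.le_normalizer_iff]
      intro a ha x hx
      refine ⟨A.mul_mem (A.mul_mem ha hx.1) (A.inv_mem ha), ?_⟩
      have := (Subgroup.le_normalizer_iff.mp (le_normalizer_Qof p M)) a (hAM ha) x hx.2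
      exact this
    have hAQp : IsPGroup p ((A ⊓ Q : Subgroup G)) := (Qof_isPGroup p M).to_le inf_le_right
    have hsub_n : ((A ⊓ Q).subgroupOf A).Normal :=
      (Subgroup.normal_subgroupOf_iff_le_normalizer inf_le_left).mpr hAQ_norm
    have hsub_p : IsPGroup p ((A ⊓ Q).subgroupOf A) := hAQp.comap_subtype
    have hle : (A ⊓ Q).subgroupOf A ≤ Cfsg.pCore p ↥A := le_pCore hsub_n hsub_p
    have hpcA : Cfsg.pCore p ↥A = ⊥ := by
      rwa [hPA, Subgroup.map_eq_bot_iff_of_injective _ A.subtype_injective] at hPAbot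
    have hAQbot : A ⊓ Q = ⊥ := by
      rw [hpcA, le_bot_iff, Subgroup.subgroupOf_eq_bot] at hle
      have := hle.eq_bot
      rwa [inf_comm A Q, inf_assoc, inf_idem, inf_comm] at this
    have hcomm : ⁅A, Q⁆ = ⊥ := by
      rw [eq_bot_iff, ← hAQbot]
      apply le_inf
      · have : Q ≤ Subgroup.normalizer (A : Set G) := (Qof_le p M).trans hMA
        exact Subgroup.le_normalizer_iff_commutator_le_left.mp this
      · have : A ≤ Subgroup.normalizer (Q : Set G) := hAM.trans (le_normalizer_Qof p M)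
        rw [Subgroup.commutator_comm]
        exact Subgroup.le_normalizer_iff_commutator_le_left.mp this
    have hAcent : A ≤ Subgroup.centralizer (Q : Set G) :=
      Subgroup.commutator_eq_bot_iff_le_centralizer.mp hcomm
    have hAQ : A ≤ Q := by
      intro a ha
      have h1 : (⟨a, hAM ha⟩ : M) ∈ Subgroup.centralizer (Cfsg.pCore p ↥M : Set ↥M) := by
        rw [Subgroup.mem_centralizer_iff]
        intro q hq
        apply Subtype.ext
        have hqQ : (q : G) ∈ Q := Subgroup.mem_map_of_mem M.subtype hq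
        exact (Subgroup.mem_centralizer_iff.mp (hAcent ha)) (q : G) hqQ
      have h2 := hchar h1
      exact ⟨⟨a, hAM ha⟩, h2, rfl⟩
    apply hA
    rw [eq_bot_iff, ← hAQbot]
    exact le_inf le_rfl hAQ
  · have hPL : IsPL p (Subgroup.normalizer (PA : Set G)) :=
      ⟨PA, (pCore_isPGroup p ↥A).map _, hPAbot, rfl⟩
    have h1 : Subgroup.normalizer (PA : Set G) = M := hM.2 _ hPL (hMA.trans hNA_le)
    exact le_antisymm (h1 ▸ hNA_le) hMA

theorem mpl_self_normalizing [Finite G] {p : ℕ} [Fact p.Prime] {M : Subgroup G} (hM : IsMPL p M)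
    (hchar : Subgroup.centralizer (Cfsg.pCore p ↥M : Set ↥M) ≤ Cfsg.pCore p ↥M) :
    Subgroup.normalizer (M : Set G) = M :=
  mpl_primitive hM hchar M hM.1.ne_bot le_rfl Subgroup.le_normalizer

/-- If `T` is a maximal `p`-subgroup of `M` then `O_p(M) ≤ T`. -/
theorem Qof_le_of_maximal {p : ℕ} {M T : Subgroup G} (hT : IsPGroup p T) (hTM : T ≤ M)
    (hmax : ∀ T' : Subgroup G, IsPGroup p T' → T ≤ T' → T' ≤ M → T' = T) : Qof p M ≤ T := by
  have h1 : IsPGroup p ((T ⊔ Qof p M : Subgroup G)) :=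
    IsPGroup.to_sup_of_normal_right' hT (Qof_isPGroup p M) (hTM.trans (le_normalizer_Qof p M))
  have h2 := hmax _ h1 le_sup_left (sup_le hTM (Qof_le p M))
  rw [← h2]
  exact le_sup_right

/-- A good pair. -/
def GoodPair (p : ℕ) (M₁ M₂ : Subgroup G) : Prop :=
  IsMPL p M₁ ∧ IsMPL p M₂ ∧ M₁ ≠ M₂ ∧ Qof p M₁ ≤ M₂ ∧ Qof p M₂ ≤ M₁

theorem finish [Finite G] {p : ℕ} [Fact p.Prime]
    (hchar : ∀ M : Subgroup G, IsPL p M →
      Subgroup.centralizer (Cfsg.pCore p ↥M : Set ↥M) ≤ Cfsg.pCore p ↥M)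
    {M₁ M₂ T : Subgroup G} (h1 : IsMPL p M₁) (h2 : IsMPL p M₂) (hne : M₁ ≠ M₂)
    (hT : IsPGroup p T) (hT1 : T ≤ M₁) (hT2 : T ≤ M₂)
    (hmax1 : ∀ T' : Subgroup G, IsPGroup p T' → T ≤ T' → T' ≤ M₁ → T' = T) :
    ∃ M₁' M₂' : Subgroup G, GoodPair p M₁' M₂' := by
  by_cases hmax2 : ∀ T' : Subgroup G, IsPGroup p T' → T ≤ T' → T' ≤ M₂ → T' = T
  · exact ⟨M₁, M₂, h1, h2, hne, (Qof_le_of_maximal hT hT1 hmax1).trans hT2,
      (Qof_le_of_maximal hT hT2 hmax2).trans hT1⟩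
  · push Not at hmax2
    obtain ⟨T₂, hT₂p, hTT₂, hT₂M, hT₂ne⟩ := hmax2
    have hlt : T < T₂ := lt_of_le_of_ne hTT₂ (Ne.symm hT₂ne)
    obtain ⟨x, hxT₂, hxT, hxN⟩ :=
      Cfsg.Agent.Lib.Helper21.exists_mem_normalizer_not_mem_of_lt hT₂p hlt
    have hxM₁ : x ∉ M₁ := by
      intro hx
      have hp : IsPGroup p ((T ⊔ Subgroup.zpowers x : Subgroup G)) :=
        hT₂p.to_le (sup_le hTT₂ (Subgroup.zpowers_le.mpr hxT₂))
      have := hmax1 _ hp le_sup_left (sup_le hT1 (Subgroup.zpowers_le.mpr hx))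
      apply hxT
      rw [← this]
      exact (le_sup_right : Subgroup.zpowers x ≤ _) (Subgroup.mem_zpowers x)
    have hsn := mpl_self_normalizing h1 (hchar M₁ h1.1)
    have hne' : M₁ ≠ M₁.map (cj x) := by
      intro h
      apply hxM₁
      rw [← hsn]
      exact mem_normalizer_of_map_cj_eq h.symm
    have hTx : T.map (cj x) = T := map_cj_eq_of_mem_normalizer hxN
    have hT1' : T ≤ M₁.map (cj x) := by
      rw [← hTx]
      exact Subgroup.map_mono hT1
    have hmax1' : ∀ T' : Subgroup G, IsPGroup p T' → T ≤ T' → T' ≤ M₁.map (cj x) → T' = T := by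
      intro T' hT'p hTT' hT'M
      have hTxi : T.map (cj x⁻¹) = T := map_cj_eq_of_mem_normalizer (inv_mem hxN)
      have ha : T ≤ T'.map (cj x⁻¹) := by
        have := Subgroup.map_mono (f := cj x⁻¹) hTT'
        rwa [hTxi] at this
      have hb : T'.map (cj x⁻¹) ≤ M₁ := by
        have := Subgroup.map_mono (f := cj x⁻¹) hT'M
        rwa [map_cj_cj_inv] at this
      have hc := hmax1 _ (hT'p.map _) ha hb
      have hd := congrArg (Subgroup.map (cj x)) hc
      rwa [map_cj_inv_cj, hTx] at hd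
    exact ⟨M₁, M₁.map (cj x), h1, h1.conj x, hne',
      (Qof_le_of_maximal hT hT1 hmax1).trans hT1',
      (Qof_le_of_maximal hT hT1' hmax1').trans hT1⟩

/-- Two distinct subgroups M₁, M₂ of G form a primitive pair when, for {i, j} = {1, 2}, every non-trivial normal subgroup A of M_i contained in M₁ ∩ M₂ satisfies N_{M_j}(A) = M₁ ∩ M₂; the pair has characteristic p when moreover C_{M_i}(O_p(M_i)) ≤ O_p(M_i) for both i and O_p(M₁)O_p(M₂) ≤ M₁ ∩ M₂. Let G be a finite group, p a prime dividing its order, with O_p(G) = 1 and every p-local subgroup of characteristic p. Then either G has a primitive pair of characteristic p, or every maximal p-local subgroup M of G is strongly p-embedded in G: M is a proper subgroup, p divides its order, and for every g ∉ M the order of M ∩ gMg⁻¹ is prime to p. -/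
theorem result {G : Type*} [Group G] [Finite G] {p : ℕ} [Fact p.Prime] (hloc : Cfsg.IsOfLocalCharacteristic p G) (hOp : Cfsg.pCore p G = ⊥) : (∃ M₁ M₂ : Subgroup G, M₁ ≠ M₂ ∧ (∀ A : Subgroup G, A ≠ ⊥ → A ≤ M₁ ⊓ M₂ → (M₁ ≤ Subgroup.normalizer (A : Set G) → M₂ ⊓ Subgroup.normalizer (A : Set G) = M₁ ⊓ M₂) ∧ (M₂ ≤ Subgroup.normalizer (A : Set G) → M₁ ⊓ Subgroup.normalizer (A : Set G) = M₁ ⊓ M₂)) ∧ Subgroup.centralizer (Cfsg.pCore p ↥M₁ : Set ↥M₁) ≤ Cfsg.pCore p ↥M₁ ∧ Subgroup.centralizer (Cfsg.pCore p ↥M₂ : Set ↥M₂) ≤ Cfsg.pCore p ↥M₂ ∧ (Cfsg.pCore p ↥M₁).map M₁.subtype ⊔ (Cfsg.pCore p ↥M₂).map M₂.subtype ≤ M₁ ⊓ M₂) ∨ (∀ M : Subgroup G, (∃ T : Subgroup G, IsPGroup p T ∧ T ≠ ⊥ ∧ M = Subgroup.normalizer (T : Set G)) → (∀ L : Subgroup G, (∃ T : Subgroup G, IsPGroup p T ∧ T ≠ ⊥ ∧ L = Subgroup.normalizer (T : Set G)) → M ≤ L → L = M) → M ≠ ⊤ ∧ p ∣ Nat.card M ∧ ∀ g : G, g ∉ M → ¬ p ∣ Nat.card ↥(M ⊓ M.map (MulAut.conj g).toMonoidHom))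 := by
  obtain ⟨hdvd, hchar0⟩ := hloc
  have hchar : ∀ M : Subgroup G, IsPL p M →
      Subgroup.centralizer (Cfsg.pCore p ↥M : Set ↥M) ≤ Cfsg.pCore p ↥M := by
    rintro M ⟨T, hT, hne, rfl⟩
    exact hchar0 T hT hne
  rw [or_iff_not_imp_right]
  intro hnot
  push Not at hnot
  obtain ⟨M, hMpl0, hMmax, hbad⟩ := hnot
  have hMpl : IsPL p M := hMpl0
  have hM : IsMPL p M := ⟨hMpl, hMmax⟩
  obtain ⟨g, hgM, hgdvd⟩ := hbad (hMpl.ne_top hOp) hMpl.dvd_card
  -- a good pair exists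
  have hgood : ∃ M₁ M₂ : Subgroup G, GoodPair p M₁ M₂ := by
    have hsn := mpl_self_normalizing hM (hchar M hMpl)
    have hMg : M ≠ M.map (cj g) := by
      intro h
      apply hgM
      rw [← hsn]
      exact mem_normalizer_of_map_cj_eq h.symm
    -- nontrivial p-subgroup in the intersection
    obtain ⟨x, hx⟩ := exists_prime_orderOf_dvd_card' p hgdvd
    set T₀ : Subgroup G := (Subgroup.zpowers x).map (M ⊓ M.map (cj g)).subtype with hT₀
    have hT₀card : Nat.card T₀ = p := by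
      rw [hT₀, Nat.card_congr ((Subgroup.zpowers x).equivMapOfInjective _
        (Subgroup.subtype_injective _)).toEquiv.symm, Nat.card_zpowers, hx]
    have hT₀p : IsPGroup p T₀ := IsPGroup.of_card (n := 1) (by rw [hT₀card, pow_one])
    have hT₀le : T₀ ≤ M ⊓ M.map (cj g) := Subgroup.map_subtype_le _
    -- choose a maximal triple
    obtain ⟨⟨M₁, M₂, T⟩, hmem, hmin⟩ := WellFounded.has_min
      (InvImage.wf (fun t : Subgroup G × Subgroup G × Subgroup G => Nat.card G - Nat.card t.2.2)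
        Nat.lt_wfRel.wf)
      {t : Subgroup G × Subgroup G × Subgroup G | IsMPL p t.1 ∧ IsMPL p t.2.1 ∧ t.1 ≠ t.2.1 ∧
        IsPGroup p t.2.2 ∧ t.2.2 ≤ t.1 ⊓ t.2.1}
      ⟨(M, M.map (cj g), T₀), hM, hM.conj g, hMg, hT₀p, hT₀le⟩
    obtain ⟨h1, h2, hne, hT, hTle⟩ := hmem
    simp only at h1 h2 hne hT hTle
    have hmaxT : ∀ (M₁' M₂' T' : Subgroup G), IsMPL p M₁' → IsMPL p M₂' → M₁' ≠ M₂' →
        IsPGroup p T' → T' ≤ M₁' ⊓ M₂' → Nat.card T' ≤ Nat.card T := by
      intro M₁' M₂' T' a b c d e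
      have h := hmin (M₁', M₂', T') ⟨a, b, c, d, e⟩
      have h3 : Nat.card T' ≤ Nat.card G := Subgroup.card_le_card_group T'
      have h4 : Nat.card T ≤ Nat.card G := Subgroup.card_le_card_group T
      have : ¬ (Nat.card G - Nat.card T' < Nat.card G - Nat.card T) := h
      omega
    have hT1 : T ≤ M₁ := hTle.trans inf_le_left
    have hT2 : T ≤ M₂ := hTle.trans inf_le_right
    have hTne : T ≠ ⊥ := by
      intro h
      have h5 := hmaxT M (M.map (cj g)) T₀ hM (hM.conj g) hMg hT₀p hT₀le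
      rw [hT₀card, h, Subgroup.card_bot] at h5
      have := (Fact.out : p.Prime).two_le
      omega
    by_cases hmax1 : ∀ T' : Subgroup G, IsPGroup p T' → T ≤ T' → T' ≤ M₁ → T' = T
    · exact finish hchar h1 h2 hne hT hT1 hT2 hmax1
    · by_cases hmax2 : ∀ T' : Subgroup G, IsPGroup p T' → T ≤ T' → T' ≤ M₂ → T' = T
      · exact finish hchar h2 h1 (Ne.symm hne) hT hT2 hT1 hmax2
      · exfalso
        push Not at hmax1 hmax2
        obtain ⟨T₁, hT₁p, hTT₁, hT₁M, hT₁ne⟩ := hmax1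
        obtain ⟨T₂, hT₂p, hTT₂, hT₂M, hT₂ne⟩ := hmax2
        have hPLN : IsPL p (Subgroup.normalizer (T : Set G)) := ⟨T, hT, hTne, rfl⟩
        obtain ⟨M₃, hM₃, hNM₃⟩ := exists_mpl_ge hPLN
        -- helper: if T < T' ≤ Mᵢ p-group then Mᵢ = M₃
        have key : ∀ (Mi T' : Subgroup G), IsMPL p Mi → IsPGroup p T' → T ≤ T' → T' ≤ Mi →
            T' ≠ T → Mi = M₃ := by
          intro Mi T' hMi hT'p hTT' hT'Mi hT'ne
          by_contra hne3
          have hlt : T < T' := lt_of_le_of_ne hTT' (Ne.symm hT'ne)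
          obtain ⟨y, hyT', hyT, hyN⟩ :=
            Cfsg.Agent.Lib.Helper21.exists_mem_normalizer_not_mem_of_lt hT'p hlt
          set U := T ⊔ Subgroup.zpowers y with hU
          have hUp : IsPGroup p U := hT'p.to_le (sup_le hTT' (Subgroup.zpowers_le.mpr hyT'))
          have hUMi : U ≤ Mi := sup_le (hTT'.trans hT'Mi) (Subgroup.zpowers_le.mpr (hT'Mi hyT'))
          have hUM₃ : U ≤ M₃ :=
            sup_le (Subgroup.le_normalizer.trans hNM₃) (Subgroup.zpowers_le.mpr (hNM₃ hyN))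
          have hcard := hmaxT Mi M₃ U hMi hM₃ hne3 hUp (le_inf hUMi hUM₃)
          have hTU : T = U := Subgroup.eq_of_le_of_card_ge le_sup_left hcard
          apply hyT
          rw [hTU]
          exact (le_sup_right : Subgroup.zpowers y ≤ _) (Subgroup.mem_zpowers y)
        have e1 := key M₁ T₁ h1 hT₁p hTT₁ hT₁M hT₁ne
        have e2 := key M₂ T₂ h2 hT₂p hTT₂ hT₂M hT₂ne
        exact hne (e1.trans e2.symm)
  obtain ⟨M₁, M₂, h1, h2, hne, hQ1, hQ2⟩ := hgood
  refine ⟨M₁, M₂, hne, ?_, hchar M₁ h1.1, hchar M₂ h2.1, ?_⟩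
  · intro A hA hAle
    constructor
    · intro hMA
      rw [mpl_primitive h1 (hchar M₁ h1.1) A hA (hAle.trans inf_le_left) hMA, inf_comm]
    · intro hMA
      rw [mpl_primitive h2 (hchar M₂ h2.1) A hA (hAle.trans inf_le_right) hMA]
  · exact sup_le (le_inf (Qof_le p M₁) hQ1) (le_inf hQ2 (Qof_le p M₂))

end Cfsg.Agent.S3751
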