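import Cfsg.Statements.S3755
import Cfsg.Agent.Lib.Helper67.S3Sec

set_option autoImplicit false
open Cfsg

namespace Cfsg.Agent.S3755

open Cfsg.Agent.Lib.Helper52 Cfsg.Agent.Lib.Helper67 in
open scoped commutatorElement in
theorem aux {X : Type*} [Group X] [Finite X] (M V : Subgroup X)
    (hV : Cfsg.IsElementaryAbelian 2 V) (hMV : M ≤ Subgroup.normalizer (V : Set X))
    (hfaith : M ⊓ Subgroup.centralizer (V : Set X) = ⊥)
    (hcon : Subgroup.centralizer (Cfsg.pPrimeCore 2 ↥M : Set ↥M) ≤ Cfsg.pPrimeCore 2 ↥M) :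
    ∀ (n : ℕ) (A : Subgroup X), Nat.card A = n → A ≤ M → Cfsg.IsElementaryAbelian 2 A →
      Nat.card V < Nat.card A ^ 2 * Nat.card ↥(V ⊓ Subgroup.centralizer (A : Set X)) →
      Cfsg.Involves (Equiv.Perm (Fin 3)) ↥M := by
  intro n
  induction n using Nat.strong_induction_on with
  | _ n ih =>
    intro A hn hAM hA hlt
    have hS : FFSetup 2 V (ffK 2 M) := ff_setup hV hMV hfaith
    have hVc : ∀ x ∈ V, ∀ y ∈ V, x * y = y * x := fun x hx y hy =>
      congrArg Subtype.val (hV.1.is_comm.comm ⟨x, hx⟩ ⟨y, hy⟩)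
    have hAc : ∀ x ∈ A, ∀ y ∈ A, x * y = y * x := fun x hx y hy =>
      congrArg Subtype.val (hA.1.is_comm.comm ⟨x, hx⟩ ⟨y, hy⟩)
    have hAct : FFActs 2 V (ffK 2 M) A := by
      refine ff_acts hMV hfaith hcon hAM ?_ ?_
      · have : ⁅A, A⁆ = ⊥ := by
          rw [Subgroup.commutator_eq_bot_iff_le_centralizer]
          intro a ha
          rw [Subgroup.mem_centralizer_iff]
          intro b hb
          exact hAc b hb a ha
        rw [this]; exact bot_le
      · intro a ha
        rw [hA.2 a ha]; exact Subgroup.one_mem _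
    have hAne : A ≠ ⊥ := by
      rintro rfl
      rw [Subgroup.card_bot, one_pow, one_mul] at hlt
      exact absurd (Subgroup.card_le_of_le inf_le_left) (not_le.mpr hlt)
    obtain ⟨B, hBA, hB2, -, hL⟩ := ff_exists_hyperplane hS.hKp hAct le_rfl hAne
    have hcard : Nat.card B * 2 = Nat.card A := by
      rw [← hB2, ← Subgroup.relIndex_bot_left, ← Subgroup.relIndex_bot_left]
      exact Subgroup.relIndex_mul_relIndex _ _ _ bot_le hBA
    have hBpos : 0 < Nat.card B := Nat.card_pos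
    by_cases hB : Nat.card V < Nat.card B ^ 2 * Nat.card ↥(V ⊓ Subgroup.centralizer (B : Set X))
    · refine ih (Nat.card B) (by omega) B rfl (hBA.trans hAM) ⟨⟨⟨fun x y => ?_⟩⟩, ?_⟩ hB
      · exact Subtype.ext (hAc x.1 (hBA x.2) y.1 (hBA y.2))
      · intro b hb
        exact hA.2 b (hBA hb)
    · push Not at hB
      -- `|C_V(B)| ≤ 2 |C_V(A)|`
      have hvle : Nat.card ↥(V ⊓ Subgroup.centralizer (B : Set X)) ≤
          2 * Nat.card ↥(V ⊓ Subgroup.centralizer (A : Set X)) := by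
        obtain ⟨i, hi⟩ := IsPGroup.iff_card.mp
          (hS.hVp.to_le (inf_le_left : V ⊓ Subgroup.centralizer (A : Set X) ≤ V))
        obtain ⟨j, hj⟩ := IsPGroup.iff_card.mp
          (hS.hVp.to_le (inf_le_left : V ⊓ Subgroup.centralizer (B : Set X) ≤ V))
        have h1 : Nat.card B ^ 2 * Nat.card ↥(V ⊓ Subgroup.centralizer (B : Set X)) <
            Nat.card B ^ 2 * (4 * Nat.card ↥(V ⊓ Subgroup.centralizer (A : Set X))) := by
          calc Nat.card B ^ 2 * Nat.card ↥(V ⊓ Subgroup.centralizer (B : Set X)) ≤ Nat.card V := hB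
            _ < Nat.card A ^ 2 * Nat.card ↥(V ⊓ Subgroup.centralizer (A : Set X)) := hlt
            _ = Nat.card B ^ 2 * (4 * Nat.card ↥(V ⊓ Subgroup.centralizer (A : Set X))) := by
                rw [← hcard]; ring
        have h4 := Nat.lt_of_mul_lt_mul_left h1
        rw [hi, hj] at h4 ⊢
        have h5 : 2 ^ j < 2 ^ (i + 2) := by
          calc 2 ^ j < 4 * 2 ^ i := h4
            _ = 2 ^ (i + 2) := by ring
        have h6 : j < i + 2 := (Nat.pow_lt_pow_iff_right (by norm_num : 1 < 2)).mp h5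
        calc 2 ^ j ≤ 2 ^ (i + 1) := Nat.pow_le_pow_right (by norm_num) (by omega)
          _ = 2 * 2 ^ i := by ring
      have hAB : A ≤ Subgroup.centralizer (B : Set X) := hAct.le_centralizer hBA
      have hYK : ⁅ffK 2 M ⊓ Subgroup.centralizer (B : Set X), A⁆ ≤ ffK 2 M := by
        rw [Subgroup.commutator_le]
        intro x hx a ha
        have hxK : x ∈ ffK 2 M := hx.1
        have : a * x⁻¹ * a⁻¹ ∈ ffK 2 M :=
          (Subgroup.mem_normalizer_iff.mp (hAct.hAK ha) x⁻¹).mp ((ffK 2 M).inv_mem hxK)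
        have h2 : ⁅x, a⁆ = x * (a * x⁻¹ * a⁻¹) := by rw [commutatorElement_def]; group
        rw [h2]
        exact (ffK 2 M).mul_mem hxK this
      have hYB : ⁅ffK 2 M ⊓ Subgroup.centralizer (B : Set X), A⁆ ≤
          Subgroup.centralizer (B : Set X) := by
        rw [Subgroup.commutator_le]
        intro x hx a ha
        rw [commutatorElement_def]
        exact mul_mem (mul_mem (mul_mem hx.2 (hAB ha)) (inv_mem hx.2)) (inv_mem (hAB ha))
      have hnot : ¬ ⁅ffK 2 M ⊓ Subgroup.centralizer (B : Set X), A⁆ ≤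
          Subgroup.centralizer ((V ⊓ Subgroup.centralizer (B : Set X) : Subgroup X) : Set X) :=
        fun h => hL (eq_bot_of_le_centralizer_fixed hS hAct hBA hYK hYB h)
      rw [Subgroup.commutator_le] at hnot
      push Not at hnot
      obtain ⟨x, hx, a, ha, hxa⟩ := hnot
      obtain ⟨U, hUdef⟩ : ∃ U : Subgroup X, U = V ⊓ Subgroup.centralizer (B : Set X) := ⟨_, rfl⟩
      rw [← hUdef] at hxa hvle
      have hUV : U ≤ V := hUdef ▸ inf_le_left
      have hnorm : ∀ g ∈ M, g ∈ Subgroup.centralizer (B : Set X) →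
          g ∈ Subgroup.normalizer (U : Set X) := by
        intro g hgM hgC
        rw [Subgroup.mem_normalizer_iff, hUdef]
        intro h
        constructor
        · intro hh
          rw [Subgroup.mem_inf] at hh ⊢
          obtain ⟨hv, hc⟩ := hh
          exact ⟨(Subgroup.mem_normalizer_iff.mp (hMV hgM) h).mp hv,
            Subgroup.mul_mem _ (Subgroup.mul_mem _ hgC hc) (Subgroup.inv_mem _ hgC)⟩
        · intro hh
          rw [Subgroup.mem_inf] at hh ⊢
          obtain ⟨hv, hc⟩ := hh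
          refine ⟨(Subgroup.mem_normalizer_iff.mp (hMV hgM) h).mpr hv, ?_⟩
          have : h = g⁻¹ * (g * h * g⁻¹) * g := by group
          rw [this]
          exact Subgroup.mul_mem _ (Subgroup.mul_mem _ (Subgroup.inv_mem _ hgC) hc) hgC
      have haa : a * a = 1 := by rw [← pow_two]; exact hA.2 a ha
      have hainv : a⁻¹ = a := inv_eq_of_mul_eq_one_right haa
      have hyK : ⁅x, a⁆ ∈ ffK 2 M := hYK (Subgroup.commutator_mem_commutator hx ha)
      have hyB : ⁅x, a⁆ ∈ Subgroup.centralizer (B : Set X) :=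
        hYB (Subgroup.commutator_mem_commutator hx ha)
      have haL : a ∈ M ⊓ Subgroup.normalizer (U : Set X) :=
        ⟨hAM ha, hnorm a (hAM ha) (hAB ha)⟩
      have hyL : ⁅x, a⁆ ∈ M ⊓ Subgroup.normalizer (U : Set X) :=
        ⟨ffK_le M hyK, hnorm _ (ffK_le M hyK) hyB⟩
      let instU : CommGroup ↥U :=
        { (inferInstance : Group ↥U) with
          mul_comm := fun u v => Subtype.ext (hVc u.1 (hUV u.2) v.1 (hUV v.2)) }
      have hU2 : ∀ u : ↥U, u ^ 2 = 1 := fun u => Subtype.ext (hV.2 u.1 (hUV u.2))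
      obtain ⟨φ, hφ⟩ : ∃ φ : ↥(M ⊓ Subgroup.normalizer (U : Set X)) →* MulAut ↥U,
          ∀ (l : ↥(M ⊓ Subgroup.normalizer (U : Set X))) (u : ↥U),
            ((φ l u : ↥U) : X) = (l : X) * u * (l : X)⁻¹ :=
        ⟨cAut _ U inf_le_right, fun l u => rfl⟩
      have hm : Odd (Nat.card (ffK 2 M)) := by
        rw [← Nat.not_even_iff_odd, even_iff_two_dvd]
        exact hS.hKp
      have hφa : ∀ u : ↥U, ((φ ⟨a, haL⟩ u : ↥U) : X) = a * u * a⁻¹ := fun u => hφ _ u
      have hαα : φ ⟨a, haL⟩ * φ ⟨a, haL⟩ = 1 := by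
        rw [← map_mul]
        have : (⟨a, haL⟩ : ↥(M ⊓ Subgroup.normalizer (U : Set X))) * ⟨a, haL⟩ = 1 :=
          Subtype.ext haa
        rw [this, map_one]
      have hle : V ⊓ Subgroup.centralizer (A : Set X) ≤ U := by
        rw [hUdef]
        exact inf_le_inf_left _ (Subgroup.centralizer_le hBA)
      obtain ⟨b, hb1, hb2⟩ := exists_centre_of_card_le hU2 (φ ⟨a, haL⟩) hαα
        ((V ⊓ Subgroup.centralizer (A : Set X)).subgroupOf U)
        (by
          intro u hu
          rw [Subgroup.mem_subgroupOf] at hu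
          apply Subtype.ext
          rw [hφa]
          have h1 : a * (u : X) = u * a := (Subgroup.mem_centralizer_iff.mp hu.2) a ha
          rw [h1]; group)
        (by
          have : Nat.card ↥((V ⊓ Subgroup.centralizer (A : Set X)).subgroupOf U) =
              Nat.card ↥(V ⊓ Subgroup.centralizer (A : Set X)) :=
            Nat.card_congr (Subgroup.subgroupOfEquivOfLe hle).toEquiv
          rw [this]; exact hvle)
      have hinv : (⟨a, haL⟩ : ↥(M ⊓ Subgroup.normalizer (U : Set X))) * ⟨⁅x, a⁆, hyL⟩ *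
          (⟨a, haL⟩ : ↥(M ⊓ Subgroup.normalizer (U : Set X)))⁻¹ = (⟨⁅x, a⁆, hyL⟩ : ↥(M ⊓ Subgroup.normalizer (U : Set X)))⁻¹ := by
        apply Subtype.ext
        show a * ⁅x, a⁆ * a⁻¹ = ⁅x, a⁆⁻¹
        apply eq_inv_of_mul_eq_one_left
        rw [commutatorElement_def, hainv]
        calc a * (x * a * x⁻¹ * a) * a * (x * a * x⁻¹ * a)
            = a * x * a * x⁻¹ * (a * a) * x * a * x⁻¹ * a := by group
          _ = a * x * a * x⁻¹ * 1 * x * a * x⁻¹ * a := by rw [haa]
          _ = a * x * (a * a) * x⁻¹ * a := by group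
          _ = a * x * 1 * x⁻¹ * a := by rw [haa]
          _ = a * a := by group
          _ = 1 := haa
      have hym : (⟨⁅x, a⁆, hyL⟩ : ↥(M ⊓ Subgroup.normalizer (U : Set X))) ^ Nat.card (ffK 2 M) = 1 := by
        apply Subtype.ext
        show ⁅x, a⁆ ^ Nat.card (ffK 2 M) = 1
        have := pow_card_eq_one' (G := ↥(ffK 2 M)) (x := ⟨⁅x, a⁆, hyK⟩)
        exact congrArg Subtype.val this
      have hy1 : φ ⟨⁅x, a⁆, hyL⟩ ≠ 1 := by
        intro h
        apply hxa
        rw [Subgroup.mem_centralizer_iff]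
        intro u hu
        have h1 : ((φ ⟨⁅x, a⁆, hyL⟩ ⟨u, hu⟩ : ↥U) : X) = ⁅x, a⁆ * u * ⁅x, a⁆⁻¹ := hφ _ _
        rw [h] at h1
        have h2 : u = ⁅x, a⁆ * u * ⁅x, a⁆⁻¹ := h1
        calc u * ⁅x, a⁆ = (⁅x, a⁆ * u * ⁅x, a⁆⁻¹) * ⁅x, a⁆ := by rw [← h2]
          _ = ⁅x, a⁆ * u := by group
      have hinvolves := involves_perm_three_of_transv hU2 φ ⟨a, haL⟩ ⟨⁅x, a⁆, hyL⟩
        (Subtype.ext haa) hinv (Nat.card (ffK 2 M)) hm hym hy1 b hb1 hb2
      exact Cfsg.Agent.Lib.Helper90.Involves.of_injective_right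
        (Subgroup.inclusion (inf_le_left : M ⊓ Subgroup.normalizer (U : Set X) ≤ M))
        (Subgroup.inclusion_injective _) hinvolves


/-- Let M and V be subgroups of a finite group with V an elementary abelian 2-group, M normalizing V and acting faithfully on it (M ∩ C(V) = 1), and C_M(O_{2'}(M)) ≤ O_{2'}(M). If some elementary abelian 2-subgroup A of M satisfies |V : C_V(A)| < |A|², then M has a section isomorphic to the symmetric group of degree 3. -/
theorem result {X : Type*} [Group X] [Finite X] (M V : Subgroup X) (hV : Cfsg.IsElementaryAbelian 2 V) (hMV : M ≤ Subgroup.normalizer (V : Set X)) (hfaith : M ⊓ Subgroup.centralizer (V : Set X) = ⊥) (hcon : Subgroup.centralizer (Cfsg.pPrimeCore 2 ↥M : Set ↥M) ≤ Cfsg.pPrimeCore 2 ↥M) (A : Subgroup X) (hAM : A ≤ M) (hA : Cfsg.IsElementaryAbelian 2 A) (hsmall : (V ⊓ Subgroup.centralizer (A : Set X)).relIndex V < Nat.card A ^ 2) : Cfsg.Involves (Equiv.Perm (Fin 3)) ↥M := by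
  have hrel : Nat.card ↥(V ⊓ Subgroup.centralizer (A : Set X)) *
      (V ⊓ Subgroup.centralizer (A : Set X)).relIndex V = Nat.card V := by
    rw [← Subgroup.relIndex_bot_left, ← Subgroup.relIndex_bot_left]
    exact Subgroup.relIndex_mul_relIndex _ _ _ bot_le inf_le_left
  have hpos : 0 < Nat.card ↥(V ⊓ Subgroup.centralizer (A : Set X)) := Nat.card_pos
  refine aux M V hV hMV hfaith hcon (Nat.card A) A rfl hAM hA ?_
  rw [← hrel, mul_comm (Nat.card ↥A ^ 2)]
  exact Nat.mul_lt_mul_of_pos_left hsmall hpos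

end Cfsg.Agent.S3755
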