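import Cfsg.Statements.S3760

set_option autoImplicit false
open Cfsg

namespace Cfsg.Agent.S3760

theorem map_conj_mul {G : Type*} [Group G] (K : Subgroup G) (a b : G) :
    K.map (MulAut.conj (a * b)).toMonoidHom =
      (K.map (MulAut.conj b).toMonoidHom).map (MulAut.conj a).toMonoidHom := by
  rw [Subgroup.map_map]
  congr 1
  ext x
  simp [mul_assoc]

theorem mem_normalizer_of_map_eq {G : Type*} [Group G] (K : Subgroup G) (g : G)
    (h : K.map (MulAut.conj g).toMonoidHom = K) : g ∈ Subgroup.normalizer (K : Set G) :=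
  Subgroup.mem_normalizer_iff_map_conj_eq.mpr h

theorem map_eq_of_mem_normalizer {G : Type*} [Group G] (K : Subgroup G) (g : G)
    (h : g ∈ Subgroup.normalizer (K : Set G)) : K.map (MulAut.conj g).toMonoidHom = K :=
  Subgroup.mem_normalizer_iff_map_conj_eq.mp h

/-- Let the group G act transitively on a set X, let x ∈ X with stabilizer H = G_x, and let K ≤ H. Then N_G(K) acts transitively on the set of fixed points of K if and only if every G-conjugate of K contained in H is already an H-conjugate of K. -/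
theorem result {G : Type*} [Group G] {X : Type*} [MulAction G X] (htrans : ∀ a b : X, ∃ g : G, g • a = b) (x : X) (K : Subgroup G) (hK : K ≤ MulAction.stabilizer G x) : (∀ a b : X, (∀ k ∈ K, k • a = a) → (∀ k ∈ K, k • b = b) → ∃ g ∈ Subgroup.normalizer (K : Set G), g • a = b) ↔ ∀ g : G, K.map (MulAut.conj g).toMonoidHom ≤ MulAction.stabilizer G x → ∃ h ∈ MulAction.stabilizer G x, K.map (MulAut.conj g).toMonoidHom = K.map (MulAut.conj h).toMonoidHom := by
  constructor
  · intro H g hg
    have hKx : ∀ k ∈ K, k • x = x := fun k hk => hK hk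
    have hKg : ∀ k ∈ K, k • (g⁻¹ • x) = g⁻¹ • x := by
      intro k hk
      have h1 : g * k * g⁻¹ ∈ MulAction.stabilizer G x := by
        apply hg
        exact ⟨k, hk, by simp⟩
      rw [MulAction.mem_stabilizer_iff] at h1
      rw [mul_smul, mul_smul] at h1
      exact (eq_inv_smul_iff.mpr h1)
    obtain ⟨n, hn, hnx⟩ := H (g⁻¹ • x) x hKg hKx
    refine ⟨g * n⁻¹, ?_, ?_⟩
    · rw [MulAction.mem_stabilizer_iff, mul_smul]
      rw [← hnx]
      simp
      rw [hnx]
    · rw [map_conj_mul]
      rw [map_eq_of_mem_normalizer K n⁻¹ (inv_mem hn)]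
  · intro H
    have key : ∀ a : X, (∀ k ∈ K, k • a = a) → ∃ n ∈ Subgroup.normalizer (K : Set G), n • x = a := by
      intro a ha
      obtain ⟨g, hg⟩ := htrans a x
      have hle : K.map (MulAut.conj g).toMonoidHom ≤ MulAction.stabilizer G x := by
        rintro _ ⟨k, hk, rfl⟩
        rw [MulAction.mem_stabilizer_iff]
        show (g * k * g⁻¹) • x = x
        rw [mul_smul, mul_smul]
        have : g⁻¹ • x = a := by rw [← hg]; simp
        rw [this, ha k hk, hg]
      obtain ⟨h, hh, heq⟩ := H g hle
      refine ⟨g⁻¹ * h, ?_, ?_⟩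
      · apply mem_normalizer_of_map_eq
        rw [map_conj_mul, ← heq, ← map_conj_mul]
        ext y
        simp
      · rw [mul_smul, MulAction.mem_stabilizer_iff.mp hh, ← hg]
        simp
    intro a b ha hb
    obtain ⟨n, hn, hna⟩ := key a ha
    obtain ⟨m, hm, hmb⟩ := key b hb
    refine ⟨m * n⁻¹, mul_mem hm (inv_mem hn), ?_⟩
    rw [mul_smul, ← hna]
    simp [hmb]

end Cfsg.Agent.S3760
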