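import Cfsg.Statements.S3763
import Cfsg.Agent.Lib.Helper32.XSRank

set_option autoImplicit false
open Cfsg

namespace Cfsg.Agent.S3763

/-- Let E be an extraspecial 2-group of order 2^(2n+1). Then the largest elementary abelian subgroups of E have order 2^n or 2^(n+1); and two extraspecial 2-groups of the same order whose largest elementary abelian subgroups have the same order are isomorphic. -/
theorem result {E : Type*} [Group E] [Finite E] (hE : Cfsg.IsExtraspecial 2 E) (n : ℕ) (hn : Nat.card E = 2 ^ (2 * n + 1)) : ((Cfsg.PRankLE 2 n E ∧ ¬ Cfsg.PRankLE 2 (n - 1) E) ∨ (Cfsg.PRankLE 2 (n + 1) E ∧ ¬ Cfsg.PRankLE 2 n E)) ∧ ∀ (E' : Type*) [Group E'] [Finite E'], Cfsg.IsExtraspecial 2 E' → Nat.card E' = Nat.card E → (∀ k : ℕ, Cfsg.PRankLE 2 k E ↔ Cfsg.PRankLE 2 k E') → Nonempty (E ≃* E') := by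
  obtain ⟨-, hub, htype⟩ := Cfsg.Agent.Lib.Helper32.extraspecial_two_rank hE n hn
  constructor
  · rcases htype with ⟨-, hnot⟩ | ⟨-, hle, hnot⟩
    · exact Or.inr ⟨hub, hnot⟩
    · exact Or.inl ⟨hle, hnot⟩
  · intro E' _ _ hE' hc hprof
    have hn' : Nat.card E' = 2 ^ (2 * n + 1) := by rw [hc, hn]
    obtain ⟨-, -, htype'⟩ := Cfsg.Agent.Lib.Helper32.extraspecial_two_rank hE' n hn'
    have hs : Nat.card {x : E // x ^ 2 = 1} = Nat.card {x : E' // x ^ 2 = 1} := by
      rcases htype with ⟨h1, hnot⟩ | ⟨h1, hle, -⟩ <;>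
        rcases htype' with ⟨h1', hnot'⟩ | ⟨h1', hle', -⟩
      · rw [h1, h1']
      · exact absurd ((hprof n).mpr hle') hnot
      · exact absurd ((hprof n).mp hle) hnot'
      · omega
    exact Cfsg.Agent.Lib.Helper32.extraspecial_two_iso hE hE' hc.symm hs

end Cfsg.Agent.S3763
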