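import Cfsg.Statements.S3764
import Cfsg.Agent.Lib.Helper56.HHExtra

set_option autoImplicit false
set_option linter.style.haveILetI false
open Cfsg

namespace Cfsg.Agent.S3764

open Cfsg.Agent.Lib.Helper56.HH

/-- Let p, q, r be distinct primes and let X, Q, V be subgroups of a finite group with X of order r, Q an extraspecial q-group normalized by X with C_Q(X) = Z(Q), and V an elementary abelian p-group normalized by X and Q on which XQ acts faithfully ((X ⊔ Q) ∩ C(V) = 1). If C_V(X) = 1, then q = 2, r = 2^n + 1 for some n, and Q has order 2^(2n+1). -/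
theorem result {G : Type*} [Group G] [Finite G] {p q r : ℕ} (hp : p.Prime) (hq : q.Prime) (hr : r.Prime) (hpq : p ≠ q) (hpr : p ≠ r) (hqr : q ≠ r) (X Q V : Subgroup G) (hX : Nat.card X = r) (hQ : Cfsg.IsExtraspecial q ↥Q) (hXQ : X ≤ Subgroup.normalizer (Q : Set G)) (hCQ : Q ⊓ Subgroup.centralizer (X : Set G) = (Subgroup.center ↥Q).map Q.subtype) (hV : Cfsg.IsElementaryAbelian p V) (hXV : X ≤ Subgroup.normalizer (V : Set G)) (hQV : Q ≤ Subgroup.normalizer (V : Set G)) (hfaith : (X ⊔ Q) ⊓ Subgroup.centralizer (V : Set G) = ⊥) (hCV : V ⊓ Subgroup.centralizer (X : Set G) = ⊥) : q = 2 ∧ ∃ n : ℕ, r = 2 ^ n + 1 ∧ Nat.card Q = 2 ^ (2 * n + 1) := by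
  haveI : Fact p.Prime := ⟨hp⟩
  haveI : Fact q.Prime := ⟨hq⟩
  haveI : Fact r.Prime := ⟨hr⟩
  haveI : IsCyclic X := isCyclic_of_prime_card hX
  obtain ⟨x, hx⟩ := IsCyclic.exists_generator (α := X)
  have hxr : (x : G) ^ r = 1 := by
    have h1 : x ^ Nat.card X = 1 := pow_card_eq_one'
    rw [hX] at h1
    have := congrArg Subtype.val h1
    simpa using this
  have hxQ : (x : G) ∈ Subgroup.normalizer (Q : Set G) := hXQ x.2
  have hxV : (x : G) ∈ Subgroup.normalizer (V : Set G) := hXV x.2
  have hcentX : ∀ g : G, (x : G) * g = g * x → g ∈ Subgroup.centralizer (X : Set G) :=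
    mem_centralizer_of_generator X x hx
  -- central elements of `Q` commute with `x`
  have hcen_comm : ∀ z : Q, z ∈ Subgroup.center ↥Q → (x : G) * z = z * x := by
    intro z hz
    have h1 : (z : G) ∈ (Subgroup.center ↥Q).map Q.subtype := ⟨z, hz, rfl⟩
    rw [← hCQ] at h1
    have h2 := Subgroup.mem_centralizer_iff.1 h1.2 (x : G) x.2
    exact h2
  have hQq : IsPGroup q ↥Q := hQ.1.1
  refine extraspecial_fixed_point_free' (N := ↥V) (E := ↥Q) p q r ?_ ?_ hQ
    (conjHom V Q hQV) (conjAut V x hxV) (conjAut Q x hxQ) ?_ ?_ ?_ ?_ hr hpr.symm hpq.symm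
    (conjAut_pow V x hxV r hxr) ?_
  · intro a b
    exact hV.1.is_comm.comm a b
  · intro a
    exact Subtype.ext (by simpa using hV.2 a a.2)
  · intro e
    ext v
    simp only [MulAut.mul_apply, conjAut_coe, conjHom_coe]
    group
  · -- the centre acts nontrivially
    have hnt : Nontrivial (Subgroup.center ↥Q) := by
      rw [← Finite.one_lt_card_iff_nontrivial, hQ.2]
      exact hq.one_lt
    obtain ⟨⟨z, hz⟩, hz1⟩ := exists_ne (1 : Subgroup.center ↥Q)
    refine ⟨z, hz, ?_⟩
    intro hφ
    apply hz1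
    have hzc : (z : G) ∈ Subgroup.centralizer (V : Set G) := by
      rw [Subgroup.mem_centralizer_iff]
      intro v hv
      have h1 := congrArg (fun f : MulAut ↥V => ((f ⟨v, hv⟩ : ↥V) : G)) hφ
      simp only [conjHom_coe, MulAut.one_apply] at h1
      calc v * (z : G) = ((z : G) * v * (z : G)⁻¹) * z := by rw [h1]
        _ = z * v := by group
    have hmem : (z : G) ∈ (X ⊔ Q) ⊓ Subgroup.centralizer (V : Set G) :=
      ⟨(le_sup_right : Q ≤ X ⊔ Q) z.2, hzc⟩
    rw [hfaith, Subgroup.mem_bot] at hmem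
    exact Subtype.ext (Subtype.ext hmem)
  · intro z hz
    apply Subtype.ext
    rw [conjAut_coe, hcen_comm z hz]
    group
  · intro e he
    set c : ↥Q := (conjAut Q x hxQ e)⁻¹ * e with hc
    have hcx : (x : G) * c = c * x := hcen_comm c he
    have hconj : (x : G) * e * (x : G)⁻¹ = e * (c : G)⁻¹ := by
      have h1 : (c : G) = ((x : G) * e * (x : G)⁻¹)⁻¹ * e := by
        rw [hc]
        simp [conjAut_coe]
      rw [h1]
      group
    have hpow : ∀ k : ℕ, (x : G) ^ k * e * ((x : G) ^ k)⁻¹ = e * ((c : G) ^ k)⁻¹ := by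
      intro k
      induction k with
      | zero => simp
      | succ k ih =>
        have hcx' : (x : G) * ((c : G) ^ k)⁻¹ * (x : G)⁻¹ = ((c : G) ^ k)⁻¹ := by
          have hcm : Commute (x : G) (c : G) := hcx
          have := (hcm.pow_right k).inv_right
          rw [this.eq]
          group
        calc (x : G) ^ (k + 1) * e * ((x : G) ^ (k + 1))⁻¹
            = (x : G) * ((x : G) ^ k * e * ((x : G) ^ k)⁻¹) * (x : G)⁻¹ := by
              rw [pow_succ']
              group
          _ = (x : G) * (e * ((c : G) ^ k)⁻¹) * (x : G)⁻¹ := by rw [ih]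
          _ = ((x : G) * e * (x : G)⁻¹) * ((x : G) * ((c : G) ^ k)⁻¹ * (x : G)⁻¹) := by group
          _ = e * (c : G)⁻¹ * ((c : G) ^ k)⁻¹ := by rw [hconj, hcx']
          _ = e * ((c : G) ^ (k + 1))⁻¹ := by
              rw [pow_succ, mul_inv_rev, mul_assoc]
    have hcr : (c : G) ^ r = 1 := by
      have := hpow r
      rw [hxr] at this
      simp only [one_mul, inv_one, mul_one] at this
      have h2 : ((c : G) ^ r)⁻¹ = 1 := by
        have h3 : (e : G) * 1 = e * ((c : G) ^ r)⁻¹ := by rw [mul_one]; exact this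
        exact (mul_left_cancel h3).symm
      exact inv_eq_one.1 h2
    have hc1 : c = 1 := by
      obtain ⟨j, hj⟩ := hQq c
      have hcr' : c ^ r = 1 := Subtype.ext (by simpa using hcr)
      have h1 : orderOf c ∣ r := orderOf_dvd_of_pow_eq_one hcr'
      have h2 : orderOf c ∣ q ^ j := orderOf_dvd_of_pow_eq_one hj
      have hcop : Nat.Coprime r (q ^ j) :=
        Nat.Coprime.pow_right j ((Nat.coprime_primes hr hq).2 hqr.symm)
      have h3 : orderOf c ∣ 1 := by
        have := Nat.dvd_gcd h1 h2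
        rwa [hcop.gcd_eq_one] at this
      exact orderOf_eq_one_iff.1 (Nat.dvd_one.1 h3)
    have hfixe : (x : G) * e = e * x := by
      have h1 := hconj
      rw [hc1] at h1
      simp only [Subgroup.coe_one, inv_one, mul_one] at h1
      calc (x : G) * e = ((x : G) * e * (x : G)⁻¹) * x := by group
        _ = e * x := by rw [h1]
    have hmem : (e : G) ∈ Q ⊓ Subgroup.centralizer (X : Set G) := ⟨e.2, hcentX _ hfixe⟩
    rw [hCQ] at hmem
    obtain ⟨e', he', hee'⟩ := hmem
    have : e' = e := Subtype.ext hee'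
    rw [← this]
    exact he'
  · intro a ha
    have h1 : (x : G) * a * (x : G)⁻¹ = a := by
      have := congrArg Subtype.val ha
      rwa [conjAut_coe] at this
    have hfixa : (x : G) * a = a * x := by
      calc (x : G) * a = ((x : G) * a * (x : G)⁻¹) * x := by group
        _ = a * x := by rw [h1]
    have hmem : (a : G) ∈ V ⊓ Subgroup.centralizer (X : Set G) := ⟨a.2, hcentX _ hfixa⟩
    rw [hCV, Subgroup.mem_bot] at hmem
    exact Subtype.ext hmem

end Cfsg.Agent.S3764
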