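import Cfsg.Statements.S4451
import Cfsg.Agent.Lib.Helper04.GlaubPrime
import Cfsg.Agent.Lib.Helper80.GlaubSub
import Cfsg.Agent.Lib.Helper80.RootsComb

set_option autoImplicit false
open Cfsg

namespace Cfsg.Agent.S4451

/-- Let the finite group Γ be generated by a normal subgroup G and a cyclic subgroup S of coprime orders such that every non-identity element of S has the same centraliser C = G ⊓ C(S) in G. Let χ be an S-invariant irreducible character of G, χ̂ its canonical extension to Γ (determinantal order coprime to the order of S), and β the irreducible character of C with χ̂(c s) = ε₀ β(c) for c ∈ C and generators s of S (ε₀ = ±1). Then there are a sign ε = ±1, which may differ from ε₀, and a linear character μ of S with μ² = 1, such that: (a) χ̂(c x) = ε β(c) μ(x) for all c ∈ C and all x ∈ S other than 1; (b) the restriction of χ to C equals |S|·ϑ + ε β for some character ϑ of C or ϑ = 0; (c)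 |S| divides χ(1) − ε β(1). -/
theorem result {Γ : Type*} [Group Γ] [Fintype Γ] (G S : Subgroup Γ) [Fintype G] (hnorm : ∀ s ∈ S, ∀ g ∈ G, s * g * s⁻¹ ∈ G) (hcop : (Nat.card G).Coprime (Nat.card S)) (htop : G ⊔ S = ⊤) (hcyc : IsCyclic S) (C : Subgroup Γ) [Fintype C] (hC : C = G ⊓ Subgroup.centralizer (S : Set Γ)) (hCG : C ≤ G) (hfpf : ∀ x ∈ S, x ≠ 1 → G ⊓ Subgroup.centralizer ({x} : Set Γ) = C) (χ : Cfsg.IrrCharacter G) (hinv : (∀ s ∈ S, ∀ g g' : G, (g' : Γ) = s * g * s⁻¹ → (χ : G → ℂ) g' = (χ : G → ℂ) g)) (χh : Cfsg.IrrCharacter Γ) (hext : (∀ g : G, (χh : Γ → ℂ) g = (χ : G → ℂ) g)) (hdet : (Cfsg.detOrder (χh : Γ → ℂ)).Coprime (Nat.card S)) (β : Cfsg.IrrCharacter C) (ε₀ : ℤ) (hε₀ : ε₀ = 1 ∨ ε₀ = -1) (hβ : ∀ c : C, ∀ s : Γ, Subgroup.zpowers s = S → (χh : Γ → ℂ) ((c : Γ) * s) = (ε₀ : ℂ) * (β : C → ℂ) c) : ∃ ε : ℤ, (ε = 1 ∨ ε = -1) ∧ (∃ μ : S → ℂ, Cfsg.IsCharacter S μ ∧ μ 1 = 1 ∧ (∀ x : S, μ x * μ x = 1)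 ∧ ∀ c : C, ∀ x : S, x ≠ 1 → (χh : Γ → ℂ) ((c : Γ) * x) = (ε : ℂ) * (β : C → ℂ) c * μ x) ∧ (∃ ϑ : C → ℂ, Cfsg.IsCharacter C ϑ ∧ (fun c : C => (χ : G → ℂ) ⟨c, hCG c.2⟩) = fun c => (Nat.card S : ℂ) * ϑ c + (ε : ℂ) * (β : C → ℂ) c) ∧ (Nat.card S : ℤ) ∣ (Cfsg.charDegree (χ : G → ℂ) : ℤ) - ε * (Cfsg.charDegree (β : C → ℂ) : ℤ) := by
  classical
  -- normality of G
  have hGn : G.Normal := by
    have hN : Subgroup.normalizer (G : Set Γ) = ⊤ := by
      apply top_le_iff.mp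
      rw [← htop]
      apply sup_le Subgroup.le_normalizer
      intro s hs
      rw [Subgroup.mem_normalizer_iff]
      intro g
      constructor
      · intro hg; exact hnorm s hs g hg
      · intro hg
        have := hnorm s⁻¹ (S.inv_mem hs) _ hg
        simpa [mul_assoc] using this
    exact Subgroup.normalizer_eq_top_iff.mp hN
  -- generator
  obtain ⟨⟨s₀, hs₀S⟩, hs₀⟩ := hcyc.exists_generator
  have hS : Subgroup.zpowers s₀ = S := by
    apply le_antisymm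
    · rw [Subgroup.zpowers_le]; exact hs₀S
    · intro x hx
      obtain ⟨k, hk⟩ := Subgroup.mem_zpowers_iff.mp (hs₀ ⟨x, hx⟩)
      rw [Subgroup.mem_zpowers_iff]
      refine ⟨k, ?_⟩
      have := congrArg Subtype.val hk
      simpa using this
  have hord : Nat.card S = orderOf s₀ := by rw [← hS, Nat.card_zpowers]
  have hcop' : (Nat.card G).Coprime (orderOf s₀) := hord ▸ hcop
  have hdet' : (Cfsg.detOrder (χh : Γ → ℂ)).Coprime (orderOf s₀) := hord ▸ hdet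
  have hC' : C = Cfsg.Agent.Lib.Helper04.fixC G s₀ := by
    rw [hC, Cfsg.Agent.Lib.Helper04.fixC]
    congr 1
    ext x
    rw [Subgroup.mem_centralizer_iff, Subgroup.mem_centralizer_singleton_iff]
    constructor
    · intro h
      exact (h s₀ hs₀S).symm
    · intro h y hy
      have hy' : y ∈ Subgroup.zpowers s₀ := by rw [hS]; exact hy
      obtain ⟨k, rfl⟩ := Subgroup.mem_zpowers_iff.mp hy'
      exact ((Commute.zpow_right (show Commute x s₀ from h) k).eq).symm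
  subst hC'
  set n := orderOf s₀ with hn
  have hn0 : 0 < n := orderOf_pos s₀
  have hχhc : IsCharacter Γ (χh : Γ → ℂ) := Cfsg.Agent.Lib.Helper83.isCharacter_of_irr χh.2
  have hχG : IsIrrCharacter G (fun g : G => (χh : Γ → ℂ) g) := by
    have : (fun g : G => (χh : Γ → ℂ) g) = (χ : G → ℂ) := funext hext
    rw [this]; exact χ.2
  have hβc : IsCharacter _ (β : Cfsg.Agent.Lib.Helper04.fixC G s₀ → ℂ) :=
    Cfsg.Agent.Lib.Helper83.IrrCharacter_isCharacter β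
  have hχβ : ∀ c : Cfsg.Agent.Lib.Helper04.fixC G s₀,
      (χh : Γ → ℂ) ((c : Γ) * s₀) = (ε₀ : ℂ) * (β : _ → ℂ) c := fun c => hβ c s₀ hS
  have hε₀C : (ε₀ : ℂ) ≠ 0 := by
    rcases hε₀ with h | h <;> rw [h] <;> norm_num
  -- the trivial case
  by_cases hn1 : n = 1
  · have hs1 : s₀ = 1 := orderOf_eq_one_iff.mp hn1
    have hall : ∀ x : S, x = 1 := by
      intro x
      have hx : (x : Γ) ∈ Subgroup.zpowers s₀ := by rw [hS]; exact x.2
      rw [hs1, Subgroup.zpowers_one_eq_bot, Subgroup.mem_bot] at hx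
      exact Subtype.ext hx
    refine ⟨ε₀, hε₀, ⟨fun _ => 1, Cfsg.Agent.Lib.Helper83.isCharacter_one, rfl,
      fun _ => by norm_num, fun c x hx => absurd (hall x) hx⟩,
      ⟨0, Cfsg.Agent.Lib.Helper83.isCharacter_zero, ?_⟩, ?_⟩
    · funext c
      have h1 := hβ c 1 (hs1 ▸ hS)
      rw [mul_one] at h1
      have h2 := hext ⟨c, hCG c.2⟩
      simp only at h2
      rw [← h2, h1]
      simp
    · rw [hord, hn1]
      exact one_dvd _
  have hn2 : 2 ≤ n := by omega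
  -- the sign lemma for every nontrivial power of s₀
  have hsub : ∀ k : ℕ, ∃ (βk : Cfsg.IrrCharacter (Cfsg.Agent.Lib.Helper04.fixC G s₀)) (εk : ℤ),
      (εk = 1 ∨ εk = -1) ∧ (0 < k → k < n → ∀ c : Cfsg.Agent.Lib.Helper04.fixC G s₀,
        (χh : Γ → ℂ) ((c : Γ) * s₀ ^ k) = (εk : ℂ) * (βk : _ → ℂ) c) := by
    intro k
    by_cases hk : 0 < k ∧ k < n
    · have hxS : s₀ ^ k ∈ S := S.pow_mem hs₀S k
      have hx1 : s₀ ^ k ≠ 1 := pow_ne_one_of_lt_orderOf hk.1.ne' hk.2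
      have hCk : Cfsg.Agent.Lib.Helper04.fixC G s₀ =
          G ⊓ Subgroup.centralizer ({s₀ ^ k} : Set Γ) := (hfpf _ hxS hx1).symm
      have hdvd : orderOf (s₀ ^ k) ∣ orderOf s₀ := orderOf_pow_dvd k
      obtain ⟨b, e, he, hb⟩ := Cfsg.Agent.Lib.Helper80.exists_sign_irr_sub G (s₀ ^ k)
        (Nat.Coprime.coprime_dvd_right hdvd hcop') (Cfsg.Agent.Lib.Helper04.fixC G s₀) hCk hχhc hχG
        (Nat.Coprime.coprime_dvd_right hdvd hdet')
      exact ⟨b, e, he, fun _ _ => hb⟩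
    · exact ⟨β, 1, Or.inl rfl, fun h1 h2 => absurd ⟨h1, h2⟩ hk⟩
  choose βk εk hεk hβk using hsub
  -- inner products of the coset functions
  have hval : ∀ (β' : Cfsg.IrrCharacter (Cfsg.Agent.Lib.Helper04.fixC G s₀)) (k : ℕ), 0 < k → k < n →
      Cfsg.classInner (fun c : Cfsg.Agent.Lib.Helper04.fixC G s₀ => (χh : Γ → ℂ) ((c : Γ) * s₀ ^ k))
        (β' : _ → ℂ) = (εk k : ℂ) * (if βk k = β' then 1 else 0) := by
    intro β' k hk0 hkn
    have h1 : (fun c : Cfsg.Agent.Lib.Helper04.fixC G s₀ => (χh : Γ → ℂ) ((c : Γ) * s₀ ^ k)) =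
        (εk k : ℂ) • ((βk k : Cfsg.IrrCharacter _) : _ → ℂ) := by
      funext c
      rw [hβk k hk0 hkn c]
      rfl
    rw [h1, Cfsg.Agent.Lib.Helper83.classInner_smul_left, Cfsg.Agent.Lib.Helper83.irr_orthonormal]
  have hεkC : ∀ k, (εk k : ℂ) = 1 ∨ (εk k : ℂ) = -1 := by
    intro k
    rcases hεk k with h | h <;> rw [h] <;> simp
  -- the expansion for β
  obtain ⟨ι, _, w, ω, hω, hexp⟩ := Cfsg.Agent.Lib.Helper04.exists_coset_expansion G s₀ hχhc β n
    (pow_orderOf_eq_one s₀)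
  have hF : ∀ k, 0 < k → k < n → (∑ i, (w i : ℂ) * ω i ^ k = 0 ∨
      ∑ i, (w i : ℂ) * ω i ^ k = 1 ∨ ∑ i, (w i : ℂ) * ω i ^ k = -1) := by
    intro k hk0 hkn
    rw [← hexp k, hval β k hk0 hkn]
    split_ifs
    · rw [mul_one]; exact Or.inr (hεkC k)
    · rw [mul_zero]; exact Or.inl rfl
  have hF1 : ∑ i, (w i : ℂ) * ω i ^ 1 = (ε₀ : ℂ) := by
    rw [← hexp 1]
    have h1 : (fun c : Cfsg.Agent.Lib.Helper04.fixC G s₀ => (χh : Γ → ℂ) ((c : Γ) * s₀ ^ 1)) =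
        (ε₀ : ℂ) • (β : _ → ℂ) := by
      funext c
      rw [pow_one, hχβ c]
      rfl
    rw [h1, Cfsg.Agent.Lib.Helper83.classInner_smul_left, Cfsg.Agent.Lib.Helper83.irr_inner_self,
      mul_one]
  rcases Cfsg.Agent.Lib.Helper80.roots_dichotomy n hn2 w ω hω hF with hzero | ⟨m, ε, η, hε, hηn, hF0, hFk⟩
  · exfalso
    have := hzero 1 (by omega) (by omega)
    rw [hF1] at this
    exact hε₀C this
  have hεC : (ε : ℂ) ≠ 0 := by
    rcases hε with h | h <;> rw [h] <;> norm_num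
  have hεsq : (ε : ℂ) * (ε : ℂ) = 1 := by
    rcases hε with h | h <;> rw [h] <;> norm_num
  have hη0 : η ≠ 0 := by
    intro h
    rw [h, zero_pow (by omega)] at hηn
    exact zero_ne_one hηn
  -- all the βk are β and the signs are ε η ^ k
  have hkey : ∀ k, 0 < k → k < n → βk k = β ∧ (εk k : ℂ) = (ε : ℂ) * η ^ k := by
    intro k hk0 hkn
    have h1 := hFk k hk0 hkn
    rw [← hexp k, hval β k hk0 hkn] at h1
    by_cases hb : βk k = β
    · rw [if_pos hb, mul_one] at h1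
      exact ⟨hb, h1⟩
    · rw [if_neg hb, mul_zero] at h1
      exact absurd h1.symm (mul_ne_zero hεC (pow_ne_zero _ hη0))
  have hηsq : η * η = 1 := by
    have h1 := hFk 1 (by omega) (by omega)
    rw [hF1, pow_one] at h1
    have h2 : (ε₀ : ℂ) * (ε₀ : ℂ) = 1 := by
      rcases hε₀ with h | h <;> rw [h] <;> norm_num
    rw [h1] at h2
    calc η * η = ((ε : ℂ) * (ε : ℂ)) * (η * η) := by rw [hεsq, one_mul]
      _ = 1 := by rw [← h2]; ring
  -- the linear character μ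
  set g : S := ⟨s₀, hs₀S⟩ with hg
  have hgord : orderOf g = n := by
    rw [hn, ← Subgroup.orderOf_coe]
  set ηu : ℂˣ := Units.mk0 η hη0 with hηu
  have hηun : ηu ^ n = 1 := by
    apply Units.ext
    simp [hηu, hηn]
  have hdvd : orderOf ηu ∣ orderOf g := by
    rw [hgord]; exact orderOf_dvd_of_pow_eq_one hηun
  set μ : S →* ℂˣ := monoidHomOfForallMemZpowers hs₀ hdvd with hμ
  have hμg : μ g = ηu := monoidHomOfForallMemZpowers_apply_gen hs₀ hdvd
  have hμpow : ∀ k : ℕ, ((μ (g ^ k) : ℂˣ) : ℂ) = η ^ k := by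
    intro k
    rw [map_pow, hμg, Units.val_pow_eq_pow_val]
    rfl
  have hexk : ∀ x : S, ∃ k : ℕ, k < n ∧ g ^ k = x := by
    intro x
    have h1 : x ∈ Submonoid.powers g := (mem_powers_iff_mem_zpowers).mpr (hs₀ x)
    rw [mem_powers_iff_mem_range_orderOf, hgord] at h1
    obtain ⟨k, hk, hkx⟩ := Finset.mem_image.mp h1
    exact ⟨k, Finset.mem_range.mp hk, hkx⟩
  -- multiplicities of the other irreducible characters
  have hother : ∀ β' : Cfsg.IrrCharacter (Cfsg.Agent.Lib.Helper04.fixC G s₀), β' ≠ β → ∃ m' : ℕ,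
      Cfsg.classInner (fun c : Cfsg.Agent.Lib.Helper04.fixC G s₀ => (χh : Γ → ℂ) (c : Γ))
        (β' : _ → ℂ) = (n : ℂ) * m' := by
    intro β' hne
    obtain ⟨ι', _, w', ω', hω', hexp'⟩ := Cfsg.Agent.Lib.Helper04.exists_coset_expansion G s₀ hχhc β' n
      (pow_orderOf_eq_one s₀)
    have hz : ∀ k, 0 < k → k < n → ∑ i, (w' i : ℂ) * ω' i ^ k = 0 := by
      intro k hk0 hkn
      rw [← hexp' k, hval β' k hk0 hkn, (hkey k hk0 hkn).1, if_neg (Ne.symm hne), mul_zero]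
    obtain ⟨m', hm'⟩ := Cfsg.Agent.Lib.Helper80.roots_sum_zero n hn0 w' ω' hω' hz
    refine ⟨m', ?_⟩
    rw [← hm', ← hexp' 0]
    simp
  have hself : Cfsg.classInner (fun c : Cfsg.Agent.Lib.Helper04.fixC G s₀ => (χh : Γ → ℂ) (c : Γ))
      (β : _ → ℂ) = (n : ℂ) * m + ε := by
    rw [← hF0, ← hexp 0]
    simp
  choose! M' hM' using hother
  set M : Cfsg.IrrCharacter (Cfsg.Agent.Lib.Helper04.fixC G s₀) → ℕ :=
    fun β' => if β' = β then m else M' β' with hM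
  have _ : Fintype (Cfsg.IrrCharacter (Cfsg.Agent.Lib.Helper04.fixC G s₀)) := Fintype.ofFinite _
  set ϑ : Cfsg.Agent.Lib.Helper04.fixC G s₀ → ℂ :=
    ∑ β' : Cfsg.IrrCharacter (Cfsg.Agent.Lib.Helper04.fixC G s₀), (M β' : ℂ) • (β' : _ → ℂ) with hϑ
  have hϑc : IsCharacter _ ϑ :=
    Cfsg.Agent.Lib.Helper83.isCharacter_sum _ _ (fun β' _ =>
      Cfsg.Agent.Lib.Helper83.isCharacter_nsmul _ (Cfsg.Agent.Lib.Helper83.IrrCharacter_isCharacter β'))
  have hresc : IsCharacter _ (fun c : Cfsg.Agent.Lib.Helper04.fixC G s₀ => (χh : Γ → ℂ) (c : Γ)) :=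
    Cfsg.Agent.Lib.Helper83.isCharacter_restrict _ hχhc
  have hdecomp : (fun c : Cfsg.Agent.Lib.Helper04.fixC G s₀ => (χh : Γ → ℂ) (c : Γ)) =
      fun c => (n : ℂ) * ϑ c + (ε : ℂ) * (β : _ → ℂ) c := by
    have h1 := Cfsg.Agent.Lib.Helper83.char_eq_sum_irrMult hresc
    have h2 : ∀ β' : Cfsg.IrrCharacter (Cfsg.Agent.Lib.Helper04.fixC G s₀),
        (Cfsg.Agent.Lib.Helper83.irrMult
          (fun c : Cfsg.Agent.Lib.Helper04.fixC G s₀ => (χh : Γ → ℂ) (c : Γ)) β' : ℂ) =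
        (n : ℂ) * M β' + if β' = β then (ε : ℂ) else 0 := by
      intro β'
      rw [Cfsg.Agent.Lib.Helper83.irrMult_cast hresc]
      by_cases hb : β' = β
      · rw [hb, hself, if_pos rfl]
        simp [hM]
      · rw [hM' β' hb, if_neg hb, add_zero]
        simp [hM, hb]
    funext c
    have h3 := congrFun h1 c
    simp only [Finset.sum_apply, Pi.smul_apply, smul_eq_mul] at h3
    rw [h3]
    simp only [h2, hϑ, Finset.sum_apply, Pi.smul_apply, smul_eq_mul, add_mul, Finset.sum_add_distrib,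
      Finset.mul_sum]
    congr 1
    · apply Finset.sum_congr rfl
      intro β' _
      ring
    · simp
  refine ⟨ε, hε, ⟨fun x => ((μ x : ℂˣ) : ℂ), Cfsg.Agent.Lib.Helper83.isCharacter_of_hom μ, ?_, ?_, ?_⟩,
    ⟨ϑ, hϑc, ?_⟩, ?_⟩
  · simp
  · intro x
    obtain ⟨k, _, rfl⟩ := hexk x
    show ((μ (g ^ k) : ℂˣ) : ℂ) * ((μ (g ^ k) : ℂˣ) : ℂ) = 1
    rw [hμpow k, ← mul_pow, hηsq, one_pow]
  · intro c x hx
    obtain ⟨k, hkn, rfl⟩ := hexk x
    have hk0 : 0 < k := by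
      rcases Nat.eq_zero_or_pos k with h | h
      · exfalso; apply hx; rw [h, pow_zero]
      · exact h
    have hxk : ((g ^ k : S) : Γ) = s₀ ^ k := by simp [hg]
    show (χh : Γ → ℂ) ((c : Γ) * ((g ^ k : S) : Γ)) = (ε : ℂ) * (β : _ → ℂ) c * ((μ (g ^ k) : ℂˣ) : ℂ)
    rw [hxk, hβk k hk0 hkn c, (hkey k hk0 hkn).1, (hkey k hk0 hkn).2, hμpow k]
    ring
  · have h1 : (fun c : Cfsg.Agent.Lib.Helper04.fixC G s₀ => (χ : G → ℂ) ⟨c, hCG c.2⟩) =
        fun c : Cfsg.Agent.Lib.Helper04.fixC G s₀ => (χh : Γ → ℂ) (c : Γ) := by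
      funext c
      exact (hext ⟨c, hCG c.2⟩).symm
    rw [h1, hdecomp, hord]
  · obtain ⟨t, ht⟩ := Cfsg.Agent.Lib.Helper83.char_one_eq_nat hϑc
    have h1 := congrFun hdecomp 1
    simp only [OneMemClass.coe_one] at h1
    have h2 : (χh : Γ → ℂ) 1 = (χ : G → ℂ) 1 := hext 1
    rw [h2, ht, ← Cfsg.Agent.Lib.Helper83.charDegree_cast (Cfsg.Agent.Lib.Helper83.IrrCharacter_isCharacter χ),
      ← Cfsg.Agent.Lib.Helper83.charDegree_cast hβc] at h1
    rw [hord]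
    refine ⟨(t : ℤ), ?_⟩
    have h3 : ((Cfsg.charDegree (χ : G → ℂ) : ℤ) -
        ε * (Cfsg.charDegree (β : Cfsg.Agent.Lib.Helper04.fixC G s₀ → ℂ) : ℤ) : ℂ) =
        ((n : ℤ) * (t : ℤ) : ℤ) := by
      push_cast
      rw [h1]; ring
    exact_mod_cast h3

end Cfsg.Agent.S4451
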