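import Cfsg.Statements.S3767
import Cfsg.Agent.S4451
import Cfsg.Agent.Lib.Helper04.GlaubCount
import Cfsg.Agent.Lib.Helper04.GlaubGalois
import Cfsg.Agent.Lib.Helper04.GlaubMain
import Cfsg.Agent.Lib.Helper04.CoprimeDegree
import Cfsg.Agent.Lib.Helper83.Extraspecial
import Cfsg.Agent.Lib.Helper83.Abelian
import Cfsg.Agent.Lib.Helper84.NormalAction
-- import your own Cfsg.Agent.* helpers here

set_option autoImplicit false
set_option linter.style.haveILetI false
open Cfsg

namespace Cfsg.Agent.S3767

open Cfsg.Agent.Lib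

/-- abstract core: a cyclic coprime operator group `⟨s⟩` all of whose non-identity elements have
the same commutative centraliser in `G`; an `s`-invariant irreducible character `χ` of `G` has
`o(s) ∣ χ(1) ∓ 1`. -/
theorem core {Γ : Type*} [Group Γ] [Fintype Γ] (G : Subgroup Γ) [hGn : G.Normal] [Fintype G]
    (s : Γ) (hcop : (Nat.card G).Coprime (orderOf s)) (hgen : G ⊔ Subgroup.zpowers s = ⊤)
    (hab : ∀ a ∈ Helper04.fixC G s, ∀ b ∈ Helper04.fixC G s, a * b = b * a)
    (hfpf : ∀ x ∈ Subgroup.zpowers s, x ≠ 1 →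
      G ⊓ Subgroup.centralizer ({x} : Set Γ) = Helper04.fixC G s)
    (χ : IrrCharacter G) (hinv : Helper04.SInv G s (χ : G → ℂ)) :
    ∃ ε : ℤ, (ε = 1 ∨ ε = -1) ∧ (orderOf s : ℤ) ∣ (charDegree (χ : G → ℂ) : ℤ) - ε := by
  classical
  haveI : Fintype (Helper04.fixC G s) := Fintype.ofFinite _
  obtain ⟨χh, hχh, hext, hdet⟩ := Helper04.exists_canonical hcop hgen χ hinv
  have hχG : IsIrrCharacter G (fun g : G => χh g) := by
    have : (fun g : G => χh g) = (χ : G → ℂ) := funext hext
    rw [this]; exact χ.2
  obtain ⟨β, ε₀, hε₀, hβ⟩ := Helper04.exists_sign_irr hcop hgen hχh hχG hdet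
  have hcard : Nat.card (Subgroup.zpowers s) = orderOf s := Nat.card_zpowers s
  have hβ1 : (β : Helper04.fixC G s → ℂ) 1 = 1 := by
    apply Helper83.irr_degree_one_of_comm
    intro a b
    apply Subtype.ext
    exact hab a a.2 b b.2
  have hβdeg : charDegree (β : Helper04.fixC G s → ℂ) = 1 := by
    apply Helper04.charDegree_eq_of_apply_one
    rw [hβ1]; simp
  have hmain := S4451.result G (Subgroup.zpowers s)
    (fun t _ g hg => hGn.conj_mem g hg t)
    (by rw [hcard]; exact hcop) hgen inferInstance (Helper04.fixC G s)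
    (by
      rw [Helper04.fixC]
      congr 1
      ext x
      constructor
      · intro h
        rw [Subgroup.mem_centralizer_singleton_iff] at h
        rw [Subgroup.mem_centralizer_iff]
        intro y hy
        obtain ⟨k, rfl⟩ := Subgroup.mem_zpowers_iff.mp hy
        exact ((Commute.zpow_right (show Commute x s from h) k).eq).symm
      · intro h
        rw [Subgroup.mem_centralizer_iff] at h
        rw [Subgroup.mem_centralizer_singleton_iff]
        exact (h s (Subgroup.mem_zpowers s)).symm)
    inf_le_left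
    (fun x hx hx1 => hfpf x hx hx1) χ
    (by
      intro t ht g g' hgg'
      have h1 := Helper04.SInv.all hgen (Helper83.IrrCharacter_isCharacter χ) hinv t g
      have h2 : g' = ⟨t * g * t⁻¹, hGn.conj_mem (g : Γ) g.2 t⟩ := Subtype.ext hgg'
      rw [h2]; exact h1)
    ⟨χh, hχh⟩ hext (by rw [hcard]; exact hdet) β ε₀ hε₀
    (by
      intro c t ht
      have hts : t ∈ Subgroup.zpowers s := by rw [← ht]; exact Subgroup.mem_zpowers t
      rw [← mem_powers_iff_mem_zpowers] at hts
      obtain ⟨k, rfl⟩ := (Submonoid.mem_powers_iff _ _).mp hts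
      have hord : orderOf (s ^ k) = orderOf s := by
        rw [← Nat.card_zpowers, ht, Nat.card_zpowers]
      have hk : k.Coprime (orderOf s) := by
        have h1 := orderOf_pow' s (n := k)
        by_cases hk0 : k = 0
        · subst hk0
          rw [pow_zero, orderOf_one] at hord
          rw [← hord]; exact Nat.coprime_one_right 0
        · rw [orderOf_pow' s hk0] at hord
          have hpos : 0 < orderOf s := orderOf_pos s
          have hg : Nat.gcd (orderOf s) k = 1 := by
            rcases Nat.div_eq_self.mp hord with h0 | h0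
            · omega
            · exact h0
          exact (Nat.coprime_comm.mp hg)
      show χh ((c : Γ) * s ^ k) = _
      rw [Helper04.canonical_pow_invariant G s hcop hgen hχh hχG hdet k hk c.2]
      exact hβ c)
  obtain ⟨ε, hε, _, _, hdvd⟩ := hmain
  refine ⟨ε, hε, ?_⟩
  rw [hcard, hβdeg] at hdvd
  simpa using hdvd

/-- Let P be an extraspecial p-group of order p^(2n+1) and H a cyclic group of order h prime to p acting on P (inside a common finite group: H normalizes P) so that C_P(x) = Z(P) for every non-identity x ∈ H. Then h divides p^n + 1 or h divides p^n − 1. -/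
theorem result {G : Type*} [Group G] [Finite G] {p : ℕ} [Fact p.Prime] (P H : Subgroup G) (hP : Cfsg.IsExtraspecial p ↥P) (n : ℕ) (hn : Nat.card P = p ^ (2 * n + 1)) (hH : IsCyclic H) (hcop : (Nat.card H).Coprime p) (hHP : H ≤ Subgroup.normalizer (P : Set G)) (hfix : ∀ x ∈ H, x ≠ 1 → P ⊓ Subgroup.centralizer {x} = (Subgroup.center ↥P).map P.subtype) : Nat.card H ∣ p ^ n + 1 ∨ Nat.card H ∣ p ^ n - 1 := by
  classical
  by_cases hH1 : H = ⊥
  · left; rw [hH1]; simp
  -- a generator of `H`
  obtain ⟨⟨h₀, hh₀H⟩, hgen₀⟩ := hH.exists_generator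
  have hHz : Subgroup.zpowers h₀ = H := by
    apply le_antisymm
    · rw [Subgroup.zpowers_le]; exact hh₀H
    · intro x hx
      obtain ⟨k, hk⟩ := Subgroup.mem_zpowers_iff.mp (hgen₀ ⟨x, hx⟩)
      rw [Subgroup.mem_zpowers_iff]
      refine ⟨k, ?_⟩
      have := congrArg Subtype.val hk
      simpa using this
  have hh₀1 : h₀ ≠ 1 := by
    intro h
    apply hH1
    rw [← hHz, h, Subgroup.zpowers_one_eq_bot]
  have hordH : orderOf h₀ = Nat.card H := by rw [← hHz, Nat.card_zpowers]
  -- the ambient group
  set L : Subgroup G := P ⊔ H with hL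
  have hPL : P ≤ L := le_sup_left
  have hHL : H ≤ L := le_sup_right
  have hLN : L ≤ Subgroup.normalizer (P : Set G) := sup_le Subgroup.le_normalizer hHP
  set G' : Subgroup L := P.subgroupOf L with hG'
  haveI hGn : G'.Normal := (Subgroup.normal_subgroupOf_iff_le_normalizer hPL).mpr hLN
  haveI : Fintype L := Fintype.ofFinite _
  haveI : Fintype G' := Fintype.ofFinite _
  set s : L := ⟨h₀, hHL hh₀H⟩ with hs
  have hords : orderOf s = Nat.card H := by rw [hs, Subgroup.orderOf_mk, hordH]
  let e : G' ≃* P := Subgroup.subgroupOfEquivOfLe hPL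
  have he : ∀ g : G', ((e g : P) : G) = ((g : L) : G) := fun g => rfl
  have hcardG' : Nat.card G' = p ^ (2 * n + 1) := by rw [Nat.card_congr e.toEquiv, hn]
  have hcop' : (Nat.card G').Coprime (orderOf s) := by
    rw [hcardG', hords]
    exact (Nat.Coprime.pow_right _ hcop).symm
  have hgen : G' ⊔ Subgroup.zpowers s = ⊤ := by
    apply Subgroup.map_injective L.subtype_injective
    rw [Subgroup.map_sup, hG', Subgroup.subgroupOf_map_subtype, MonoidHom.map_zpowers,
      ← MonoidHom.range_eq_map, Subgroup.range_subtype]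
    show P ⊓ L ⊔ Subgroup.zpowers h₀ = L
    rw [hHz, inf_eq_left.mpr hPL]
  -- the common centraliser
  set Zc : Subgroup L := ((Subgroup.center ↥P).map P.subtype).subgroupOf L with hZc
  have key : ∀ x : L, (x : G) ∈ H → x ≠ 1 →
      G' ⊓ Subgroup.centralizer ({x} : Set L) = Zc := by
    intro x hx hx1
    have hx1' : (x : G) ≠ 1 := fun h => hx1 (Subtype.ext h)
    have h1 := hfix x.1 hx hx1'
    ext g
    rw [hZc, Subgroup.mem_subgroupOf, ← h1, Subgroup.mem_inf, Subgroup.mem_inf,
      Subgroup.mem_centralizer_singleton_iff, Subgroup.mem_centralizer_singleton_iff, hG',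
      Subgroup.mem_subgroupOf]
    constructor
    · rintro ⟨h2, h3⟩
      exact ⟨h2, congrArg Subtype.val h3⟩
    · rintro ⟨h2, h3⟩
      exact ⟨h2, Subtype.ext h3⟩
  have hs1 : s ≠ 1 := fun h => hh₀1 (congrArg Subtype.val h)
  have hfixC : Helper04.fixC G' s = Zc := key s hh₀H hs1
  have hmemZc : ∀ g : G', (g : L) ∈ Zc ↔ e g ∈ Subgroup.center ↥P := by
    intro g
    rw [hZc, Subgroup.mem_subgroupOf, Subgroup.mem_map]
    constructor
    · rintro ⟨z, hz, hzg⟩
      have : z = e g := Subtype.ext (by rw [he]; exact hzg)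
      rw [← this]; exact hz
    · intro hz
      exact ⟨e g, hz, rfl⟩
  have hab : ∀ a ∈ Helper04.fixC G' s, ∀ b ∈ Helper04.fixC G' s, a * b = b * a := by
    intro a ha b hb
    rw [hfixC] at ha hb
    have haG : a ∈ G' := by
      have := (key s hh₀H hs1).symm ▸ ha
      exact this.1
    have hbG : b ∈ G' := by
      have := (key s hh₀H hs1).symm ▸ hb
      exact this.1
    have h1 := (hmemZc ⟨a, haG⟩).mp ha
    rw [Subgroup.mem_center_iff] at h1
    have h2 := h1 (e ⟨b, hbG⟩)
    have h3 := congrArg (fun t : P => (t : G)) h2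
    apply Subtype.ext
    simp only [Subgroup.coe_mul] at h3 ⊢
    exact h3.symm
  have hfpf : ∀ x ∈ Subgroup.zpowers s, x ≠ 1 →
      G' ⊓ Subgroup.centralizer ({x} : Set L) = Helper04.fixC G' s := by
    intro x hx hx1
    rw [hfixC]
    apply key x _ hx1
    obtain ⟨k, rfl⟩ := Subgroup.mem_zpowers_iff.mp hx
    rw [hs]
    simp only [Subgroup.coe_zpow]
    exact H.zpow_mem hh₀H k
  -- the character
  obtain ⟨χP, hχP⟩ := Helper83.extraspecial_exists_nonlinear p hP
  let χ : IrrCharacter G' := ⟨fun g => (χP : P → ℂ) (e g), Helper84.isIrrCharacter_comp_mulEquiv e χP.2⟩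
  have hχval : ∀ g : G', (χ : G' → ℂ) g = (χP : P → ℂ) (e g) := fun g => rfl
  have hinv : Helper04.SInv G' s (χ : G' → ℂ) := by
    intro g
    have hconj : (((MulAut.conjNormal s : MulAut G') g : G') : L) = s * g * s⁻¹ := by
      simp [MulAut.conjNormal_apply]
    by_cases hg : e g ∈ Subgroup.center ↥P
    · have hgZ : (g : L) ∈ Helper04.fixC G' s := by rw [hfixC]; exact (hmemZc g).mpr hg
      rw [Helper04.mem_fixC] at hgZ
      have : (MulAut.conjNormal s : MulAut G') g = g := by
        apply Subtype.ext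
        rw [hconj, hgZ.2]; group
      rw [this]
    · have hg' : e ((MulAut.conjNormal s : MulAut G') g) ∉ Subgroup.center ↥P := by
        intro hc
        apply hg
        have hcZ : (((MulAut.conjNormal s : MulAut G') g : G') : L) ∈ Helper04.fixC G' s := by
          rw [hfixC]; exact (hmemZc _).mpr hc
        rw [Helper04.mem_fixC, hconj] at hcZ
        have hcomm : s * (g : L) = (g : L) * s := by
          have h2 := hcZ.2
          have h3 : s * (s * (g : L) * s⁻¹) * s = s * (g : L) * s⁻¹ * s * s := by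
            rw [h2]
          have h4 : s * (s * (g : L)) = s * ((g : L) * s) := by
            simpa [mul_assoc] using h3
          exact mul_left_cancel h4
        have : (g : L) ∈ Helper04.fixC G' s := by
          rw [Helper04.mem_fixC]; exact ⟨g.2, hcomm⟩
        rw [hfixC] at this
        exact (hmemZc g).mp this
      rw [hχval, hχval, Helper83.extraspecial_vanish_off_center p hP χP hχP hg',
        Helper83.extraspecial_vanish_off_center p hP χP hχP hg]
  obtain ⟨ε, hε, hdvd⟩ := core G' s hcop' hgen hab hfpf χ hinv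
  have hdeg : charDegree (χ : G' → ℂ) = p ^ n := by
    have h1 : charDegree (χ : G' → ℂ) = charDegree (χP : P → ℂ) := by
      unfold charDegree
      rw [hχval, map_one]
    rw [h1]
    exact Helper83.extraspecial_charDegree p hP n hn χP hχP
  rw [hdeg, hords] at hdvd
  have hpos : 1 ≤ p ^ n := Nat.one_le_pow _ _ (Fact.out : p.Prime).pos
  rcases hε with h | h
  · right
    rw [h] at hdvd
    have : ((p ^ n - 1 : ℕ) : ℤ) = ((p ^ n : ℕ) : ℤ) - 1 := by
      rw [Nat.cast_sub hpos]; simp
    rw [← this] at hdvd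
    exact Int.natCast_dvd_natCast.mp hdvd
  · left
    rw [h] at hdvd
    have : ((p ^ n + 1 : ℕ) : ℤ) = ((p ^ n : ℕ) : ℤ) - (-1) := by
      push_cast; ring
    rw [← this] at hdvd
    exact Int.natCast_dvd_natCast.mp hdvd

end Cfsg.Agent.S3767
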