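import Cfsg.Statements.S3768
import Cfsg.Agent.S0034
import Cfsg.Agent.S0035
import Cfsg.Agent.S3383
import Cfsg.Agent.Lib.Helper01.Basic

set_option autoImplicit false
open Cfsg

namespace Cfsg.Agent.S3768

open scoped Pointwise
open Cfsg.Agent.Lib.Helper01


/-- Let G be a finite Frobenius group with Frobenius complement R and Frobenius kernel K (the identity together with the elements in no conjugate of R), and let N be a normal subgroup of G not containing K. Then G/N is a Frobenius group with Frobenius complement RN/N whose Frobenius kernel is the image of K. -/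
theorem result {G : Type*} [Group G] [Finite G] (R : Subgroup G) (hR : Cfsg.IsFrobeniusComplement R) (N : Subgroup G) [N.Normal] (hKN : ¬ Cfsg.frobeniusKernel R ⊆ N) : Cfsg.IsFrobeniusComplement (R.map (QuotientGroup.mk' N)) ∧ Cfsg.frobeniusKernel (R.map (QuotientGroup.mk' N)) = QuotientGroup.mk' N '' Cfsg.frobeniusKernel R := by
  classical
  obtain ⟨K, hKK, hKn, hKc⟩ := Cfsg.Agent.S0035.result R hR
  haveI := hKn
  have hmemK := Cfsg.Agent.S3383.mem_kernel_iff R K hKK
  have hNK : N ≤ K := by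
    rcases (Cfsg.Agent.S3383.result R hR K hKK).2 N inferInstance with h | h
    · exact absurd (by rw [← hKK]; exact h) hKN
    · exact h
  have hNneK : N ≠ K := fun h => hKN (by rw [← hKK, h])
  have hdisj : ∀ x, x ∈ K → x ∈ R → x = 1 := by
    intro x hxK hxR
    have : x ∈ K ⊓ R := Subgroup.mem_inf.mpr ⟨hxK, hxR⟩
    rw [hKc.disjoint.eq_bot, Subgroup.mem_bot] at this
    exact this
  have hcop : (Nat.card K).Coprime (Nat.card R) := by
    have h1 := (Cfsg.Agent.S0034.result R hR).2
    have h2 : R.index = Nat.card K := hKc.index_eq_card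
    rw [h2] at h1
    have h3 : Nat.ModEq (Nat.card R) (Nat.card K) 1 := h1
    have := h3.gcd_eq
    rw [Nat.gcd_one_left] at this
    exact this
  have hπ : ∀ x : G, (QuotientGroup.mk' N) x = 1 ↔ x ∈ N := fun x => QuotientGroup.eq_one_iff x
  have hπeq : ∀ x y : G, (QuotientGroup.mk' N) x = (QuotientGroup.mk' N) y ↔ x⁻¹ * y ∈ N := by
    intro x y
    exact QuotientGroup.eq
  -- the key claim
  have claim : ∀ r ∈ R, r ≠ 1 → ∀ k ∈ K,
      (QuotientGroup.mk' N) k * (QuotientGroup.mk' N) r = (QuotientGroup.mk' N) r * (QuotientGroup.mk' N) k → k ∈ N := by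
    intro r hr hr1 k hk hcomm
    have hg : r * k ∉ K := by
      intro h
      apply hr1
      apply hdisj r _ hr
      have := K.mul_mem h (K.inv_mem hk)
      simpa using this
    have hn : ¬ (r * k = 1 ∨ ∀ g : G, g⁻¹ * (r * k) * g ∉ R) := fun h => hg ((hmemK _).mpr h)
    rw [not_or] at hn
    obtain ⟨x, hx⟩ := not_forall.mp hn.2
    rw [not_not] at hx
    have h1 : orderOf (r * k) ∣ Nat.card R := by
      have hmem : r * k ∈ MulAut.conj x • R := (Cfsg.Agent.S3383.mem_conj_smul R x (r * k)).mpr hx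
      have := Subgroup.orderOf_dvd_natCard _ hmem
      rwa [card_conj_smul] at this
    have h2 : orderOf ((QuotientGroup.mk' N) (r * k)) ∣ orderOf (r * k) := orderOf_map_dvd _ _
    rw [map_mul] at h2
    have hcop' : (orderOf ((QuotientGroup.mk' N) r)).Coprime (orderOf ((QuotientGroup.mk' N) k)) :=
      Nat.Coprime.coprime_dvd_left ((orderOf_map_dvd _ r).trans (Subgroup.orderOf_dvd_natCard R hr))
        (Nat.Coprime.coprime_dvd_right ((orderOf_map_dvd _ k).trans (Subgroup.orderOf_dvd_natCard K hk))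
          hcop.symm)
    have hc : Commute ((QuotientGroup.mk' N) r) ((QuotientGroup.mk' N) k) := hcomm.symm
    have h4 := hc.orderOf_mul_eq_mul_orderOf_of_coprime hcop'
    rw [h4] at h2
    have h5 : orderOf ((QuotientGroup.mk' N) k) ∣ Nat.card R :=
      (Dvd.intro_left _ rfl).trans (h2.trans h1)
    have h6 : orderOf ((QuotientGroup.mk' N) k) ∣ Nat.card K :=
      (orderOf_map_dvd _ k).trans (Subgroup.orderOf_dvd_natCard K hk)
    have h7 := Nat.dvd_gcd h6 h5
    rw [hcop, Nat.dvd_one] at h7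
    exact (hπ k).mp (orderOf_eq_one_iff.mp h7)
  -- decomposition g = k * r
  have hdecomp : ∀ g : G, ∃ k ∈ K, ∃ r ∈ R, g = k * r := by
    intro g
    have hsup : K ⊔ R = ⊤ := hKc.sup_eq_top
    have hg : g ∈ K ⊔ R := by rw [hsup]; trivial
    have : g ∈ ((K ⊔ R : Subgroup G) : Set G) := hg
    rw [Subgroup.normal_mul] at this
    obtain ⟨k, hk, r, hr, rfl⟩ := this
    exact ⟨k, hk, r, hr, rfl⟩
  have hRbar : ∀ y : G ⧸ N, y ∈ R.map (QuotientGroup.mk' N) ↔ ∃ r ∈ R, (QuotientGroup.mk' N) r = y := by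
    intro y
    exact Subgroup.mem_map
  have hKR : ∀ k ∈ K, ∀ r ∈ R, (QuotientGroup.mk' N) k = (QuotientGroup.mk' N) r → (QuotientGroup.mk' N) k = 1 := by
    intro k hk r hr h
    rw [hπeq] at h
    have hrK : r ∈ K := by
      have := K.mul_mem hk (hNK h)
      simpa using this
    have : r = 1 := hdisj r hrK hr
    have h' : (QuotientGroup.mk' N) k = (QuotientGroup.mk' N) r := (hπeq k r).mpr h
    rw [h', this, map_one]
  refine ⟨⟨?_, ?_, ?_⟩, ?_⟩
  · -- image nontrivial
    intro hbot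
    apply hR.1
    rw [eq_bot_iff]
    intro r hr
    have : (QuotientGroup.mk' N) r ∈ R.map (QuotientGroup.mk' N) := Subgroup.mem_map_of_mem _ hr
    rw [hbot, Subgroup.mem_bot, hπ] at this
    rw [Subgroup.mem_bot]
    exact hdisj r (hNK this) hr
  · -- image proper
    intro htop
    apply hNneK
    apply le_antisymm hNK
    intro k hk
    have : (QuotientGroup.mk' N) k ∈ R.map (QuotientGroup.mk' N) := by rw [htop]; trivial
    obtain ⟨r, hr, hrk⟩ := (hRbar _).mp this
    have := hKR k hk r hr hrk.symm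
    exact (hπ k).mp this
  · -- TI
    intro gbar hgbar
    rw [eq_bot_iff]
    intro xbar hx
    obtain ⟨hx1, hx2⟩ := Subgroup.mem_inf.mp hx
    rw [Cfsg.Agent.S3383.mem_conj_smul] at hx2
    obtain ⟨r₁, hr₁, hr₁x⟩ := (hRbar _).mp hx1
    obtain ⟨r₂, hr₂, hr₂x⟩ := (hRbar _).mp hx2
    obtain ⟨g, rfl⟩ := QuotientGroup.mk'_surjective N gbar
    obtain ⟨k, hk, r, hr, rfl⟩ := hdecomp g
    rw [Subgroup.mem_bot]
    by_contra hne
    have hr₁1 : r₁ ≠ 1 := by
      intro h
      apply hne
      rw [← hr₁x, h, map_one]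
    apply hgbar
    -- r₃ = r r₂ r⁻¹
    have hr₃ : r * r₂ * r⁻¹ ∈ R := R.mul_mem (R.mul_mem hr hr₂) (R.inv_mem hr)
    have heq : (QuotientGroup.mk' N) (k⁻¹ * r₁ * k) = (QuotientGroup.mk' N) (r * r₂ * r⁻¹) := by
      have e1 : (QuotientGroup.mk' N) (r * r₂ * r⁻¹) =
          (QuotientGroup.mk' N) r * (QuotientGroup.mk' N) r₂ * ((QuotientGroup.mk' N) r)⁻¹ := by
        simp only [map_mul, map_inv]
      rw [e1, hr₂x, ← hr₁x]
      simp only [map_mul, map_inv]
      group
    rw [hπeq] at heq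
    -- r₁⁻¹ * r₃ ∈ K
    have h3 : r₁⁻¹ * (r * r₂ * r⁻¹) ∈ K := by
      have e : r₁⁻¹ * (r * r₂ * r⁻¹) =
          (r₁⁻¹ * k⁻¹ * r₁⁻¹⁻¹) * k * ((k⁻¹ * r₁ * k)⁻¹ * (r * r₂ * r⁻¹)) := by group
      rw [e]
      exact K.mul_mem (K.mul_mem (hKn.conj_mem _ (K.inv_mem hk) _) hk) (hNK heq)
    have h4 : r₁⁻¹ * (r * r₂ * r⁻¹) = 1 := hdisj _ h3 (R.mul_mem (R.inv_mem hr₁) hr₃)
    have h5 : r * r₂ * r⁻¹ = r₁ := by
      have := congrArg (fun t => r₁ * t) h4
      simpa using this
    rw [h5] at heq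
    have hcomm : (QuotientGroup.mk' N) k * (QuotientGroup.mk' N) r₁ =
        (QuotientGroup.mk' N) r₁ * (QuotientGroup.mk' N) k := by
      have := (hπeq _ _).mpr heq
      simp only [map_mul, map_inv] at this
      calc (QuotientGroup.mk' N) k * (QuotientGroup.mk' N) r₁
          = (QuotientGroup.mk' N) k * (((QuotientGroup.mk' N) k)⁻¹ * (QuotientGroup.mk' N) r₁ *
              (QuotientGroup.mk' N) k) := by rw [this]
        _ = (QuotientGroup.mk' N) r₁ * (QuotientGroup.mk' N) k := by group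
    have hkN := claim r₁ hr₁ hr₁1 k hk hcomm
    rw [hRbar]
    refine ⟨r, hr, ?_⟩
    rw [hπeq]
    have e : r⁻¹ * (k * r) = r⁻¹ * k * r⁻¹⁻¹ := by group
    rw [e]
    exact (inferInstance : N.Normal).conj_mem _ hkN _
  · -- kernel
    ext ybar
    constructor
    · intro hy
      obtain ⟨y, rfl⟩ := QuotientGroup.mk'_surjective N ybar
      by_cases hyK : y ∈ K
      · exact ⟨y, by rw [← hKK]; exact hyK, rfl⟩
      · have hn : ¬ (y = 1 ∨ ∀ g : G, g⁻¹ * y * g ∉ R) := fun h => hyK ((hmemK _).mpr h)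
        rw [not_or] at hn
        obtain ⟨x, hx⟩ := not_forall.mp hn.2
        rw [not_not] at hx
        rcases hy with h | h
        · refine ⟨1, Or.inl rfl, ?_⟩
          rw [map_one]; exact h.symm
        · exfalso
          apply h ((QuotientGroup.mk' N) x)
          rw [Cfsg.Agent.S3383.mem_conj_smul, hRbar]
          exact ⟨x⁻¹ * y * x, hx, by simp only [map_mul, map_inv]⟩
    · rintro ⟨k, hk, rfl⟩
      have hkK : k ∈ K := by rw [← hKK] at hk; exact hk
      by_cases h1 : (QuotientGroup.mk' N) k = 1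
      · exact Or.inl h1
      · refine Or.inr fun gbar hmem => h1 ?_
        rw [Cfsg.Agent.S3383.mem_conj_smul, hRbar] at hmem
        obtain ⟨r, hr, hrk⟩ := hmem
        obtain ⟨g, rfl⟩ := QuotientGroup.mk'_surjective N gbar
        have hgk : g⁻¹ * k * g ∈ K := by
          have := hKn.conj_mem k hkK g⁻¹
          simpa using this
        have e : (QuotientGroup.mk' N) (g⁻¹ * k * g) = (QuotientGroup.mk' N) r := by
          rw [hrk]; simp only [map_mul, map_inv]
        have h2 := hKR _ hgk r hr e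
        rw [hπ] at h2 ⊢
        have := (inferInstance : N.Normal).conj_mem _ h2 g
        have e2 : g * (g⁻¹ * k * g) * g⁻¹ = k := by group
        rwa [e2] at this

end Cfsg.Agent.S3768
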