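import Cfsg.Statements.S3770
import Cfsg.Agent.S0042
import Cfsg.Agent.Lib.Helper03.FrobSub

set_option autoImplicit false
open Cfsg
open scoped Pointwise

namespace Cfsg.Agent.S3770

/-- Let G and V be subgroups of a finite group with G a Frobenius group with complement R of prime order and kernel K, G normalizing V, and V an elementary abelian ℓ-group for a prime ℓ not dividing the order of G. If C_V(R) has order ℓ, then the derived subgroup of K centralizes V. -/
theorem result {X : Type*} [Group X] [Finite X] (G : Subgroup X) (V : Subgroup X) {ℓ : ℕ} (hℓ : ℓ.Prime) (hV : Cfsg.IsElementaryAbelian ℓ V) (hℓG : ¬ ℓ ∣ Nat.card G) (hGV : G ≤ Subgroup.normalizer (V : Set X)) (R : Subgroup ↥G) (hR : Cfsg.IsFrobeniusComplement R) (hRp : (Nat.card R).Prime) (hCV : Nat.card ↥(V ⊓ Subgroup.centralizer ((R.map G.subtype : Subgroup X) : Set X)) = ℓ) : ⁅Subgroup.closure (Subtype.val '' Cfsg.frobeniusKernel R), Subgroup.closure (Subtype.val '' Cfsg.frobeniusKernel R)⁆ ≤ Subgroup.centralizer (V : Set X) := by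
  haveI : Fact ℓ.Prime := ⟨hℓ⟩
  obtain ⟨N, hNset, hNnorm, hNnil⟩ := Cfsg.Agent.S0042.result R hR
  have hcl : Subgroup.closure (Subtype.val '' Cfsg.frobeniusKernel R) = N.map G.subtype := by
    rw [← hNset]
    have : (Subtype.val '' (N : Set ↥G) : Set X) = ((N.map G.subtype : Subgroup X) : Set X) := by
      rw [Subgroup.coe_map]
      rfl
    rw [this, Subgroup.closure_eq]
  rw [hcl]
  have hKG : N.map G.subtype ≤ G := Subgroup.map_subtype_le N
  have hRG : R.map G.subtype ≤ G := Subgroup.map_subtype_le R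
  have hsupG : N.map G.subtype ⊔ R.map G.subtype ≤ G := sup_le hKG hRG
  apply Cfsg.Agent.Lib.Helper03.FrobSub.comm_le_centralizer_elem_sub ℓ (N.map G.subtype)
    (R.map G.subtype) V
  · rintro e ⟨r, hr, rfl⟩ u ⟨n, hn, rfl⟩
    exact ⟨r * n * r⁻¹, hNnorm.conj_mem n hn r, by simp⟩
  · rintro e ⟨r, hr, rfl⟩ he1 u ⟨n, hn, rfl⟩ hcomm
    have hcomm' : r * n = n * r := by
      apply Subtype.ext
      simpa using hcomm
    by_contra hne
    have hn1 : n ≠ 1 := by
      intro h
      apply hne
      rw [h]; simp
    have hnK : n ∈ Cfsg.frobeniusKernel R := by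
      rw [← hNset]; exact hn
    have hnR : n ∉ R := by
      rcases hnK with h | h
      · exact absurd h hn1
      · have := h 1
        simpa using this
    have hbot := hR.2.2 n hnR
    have hr2 : r ∈ R ⊓ (MulAut.conj n • R) := by
      refine Subgroup.mem_inf.mpr ⟨hr, ?_⟩
      rw [Subgroup.mem_pointwise_smul_iff_inv_smul_mem]
      have : (MulAut.conj n)⁻¹ • r = r := by
        rw [← map_inv, MulAut.smul_def, MulAut.conj_apply, inv_inv]
        calc n⁻¹ * r * n = n⁻¹ * (r * n) := by group
          _ = n⁻¹ * (n * r) := by rw [hcomm']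
          _ = r := by group
      rw [this]
      exact hr
    rw [hbot, Subgroup.mem_bot] at hr2
    apply he1
    rw [hr2]; simp
  · exact (Group.isNilpotent_congr (N.equivMapOfInjective G.subtype G.subtype_injective)).mp hNnil
  · intro x hx h hh
    have := hGV (hsupG hx)
    rw [Subgroup.mem_normalizer_iff] at this
    exact (this h).mp hh
  · intro a ha b hb
    have := hV.1.is_comm.comm (⟨a, ha⟩ : V) ⟨b, hb⟩
    exact congrArg Subtype.val this
  · exact hV.2
  · intro hdvd
    exact hℓG (hdvd.trans (Subgroup.card_dvd_of_le hsupG))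
  · exact hCV.le

end Cfsg.Agent.S3770
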