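import Cfsg.Statements.S3772
import Cfsg.Agent.S0012
import Cfsg.Agent.S0013
import Mathlib.Tactic

set_option autoImplicit false
open Cfsg
open scoped commutatorElement

namespace Cfsg.Agent.S3772

open Subgroup

/-- sum of a `±1`-valued multiplicative function on a finite group -/
theorem sum_mul_char {H : Type*} [Group H] [Fintype H] (f : H → ℤ)
    (hmul : ∀ x y, f (x * y) = f x * f y) (hpm : ∀ x, f x = 1 ∨ f x = -1) :
    ((∀ x, f x = 1) ∧ ∑ x, f x = Fintype.card H) ∨ ((∃ x, f x = -1) ∧ ∑ x, f x = 0) := by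
  by_cases h : ∀ x, f x = 1
  · left
    refine ⟨h, ?_⟩
    simp [h]
  · right
    push Not at h
    obtain ⟨x₀, hx₀⟩ := h
    have hx₀' : f x₀ = -1 := (hpm x₀).resolve_left hx₀
    refine ⟨⟨x₀, hx₀'⟩, ?_⟩
    have h1 : ∑ x, f (x₀ * x) = ∑ x, f x :=
      Equiv.sum_comp (Equiv.mulLeft x₀) f
    have h2 : ∑ x, f (x₀ * x) = - ∑ x, f x := by
      simp only [hmul, hx₀']
      rw [← Finset.mul_sum]
      ring
    linarith

section core

variable {G : Type*} [Group G]
variable (z : G) (Φ : Subgroup G)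

/-- the sign function -/
noncomputable def sg (t : G) : ℤ := by
  classical exact if t = 1 then 1 else -1

theorem sg_one : sg (1 : G) = 1 := by simp [sg]

theorem sg_pm (t : G) : sg t = 1 ∨ sg t = -1 := by
  classical
  unfold sg
  by_cases h : t = 1 <;> simp [h]

theorem sg_eq_one_iff (t : G) : sg t = 1 ↔ t = 1 := by
  classical
  unfold sg
  by_cases h : t = 1 <;> simp [h]

variable {z Φ}

theorem sg_mul (hz1 : z ≠ 1) (hzz : z * z = 1) (hΦ : ∀ t ∈ Φ, t = 1 ∨ t = z) {s t : G}
    (hs : s ∈ Φ) (ht : t ∈ Φ) : sg (s * t) = sg s * sg t := by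
  have hsz : sg z = -1 := by
    rcases sg_pm z with h | h
    · exact absurd ((sg_eq_one_iff z).mp h) hz1
    · exact h
  rcases hΦ s hs with rfl | rfl <;> rcases hΦ t ht with rfl | rfl
  · simp [sg_one]
  · simp [sg_one]
  · simp [sg_one]
  · rw [hzz, sg_one, hsz]; norm_num

/-- `(xy)² = [y,x] x² y²` when `[y,x]` is central. -/
theorem sq_mul_eq (x y : G) (hc : ∀ g : G, g * ⁅y, x⁆ = ⁅y, x⁆ * g) :
    (x * y) * (x * y) = ⁅y, x⁆ * (x * x) * (y * y) := by
  have h1 : y * x = ⁅y, x⁆ * x * y := by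
    rw [commutatorElement_def]; group
  calc (x * y) * (x * y) = x * (y * x) * y := by group
    _ = x * (⁅y, x⁆ * x * y) * y := by rw [h1]
    _ = (x * ⁅y, x⁆) * x * y * y := by group
    _ = (⁅y, x⁆ * x) * x * y * y := by rw [hc x]
    _ = ⁅y, x⁆ * (x * x) * (y * y) := by group

/-- `[u, x x'] = [u,x][u,x']` when `[u,x']` is central. -/
theorem comm_mul_right (u x x' : G) (hc : ∀ g : G, g * ⁅u, x'⁆ = ⁅u, x'⁆ * g) :
    ⁅u, x * x'⁆ = ⁅u, x⁆ * ⁅u, x'⁆ := by
  have h1 : ⁅u, x * x'⁆ = ⁅u, x⁆ * (x * ⁅u, x'⁆) * x⁻¹ := by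
    simp only [commutatorElement_def]; group
  rw [h1, hc x]
  group

end core

section main

variable {G : Type*} [Group G] [Fintype G]
variable {z : G} {Φ : Subgroup G}

/-- `χ x = sg (x²)` -/
noncomputable def chi (x : G) : ℤ := sg (x * x)

theorem chi_mul (hz1 : z ≠ 1) (hzz : z * z = 1) (hΦ : ∀ t ∈ Φ, t = 1 ∨ t = z)
    (hcent : ∀ t ∈ Φ, ∀ g : G, g * t = t * g)
    (hsq : ∀ x : G, x * x ∈ Φ) (hcomm : ∀ x y : G, ⁅x, y⁆ ∈ Φ) (x y : G) :
    chi (x * y) = sg ⁅y, x⁆ * chi x * chi y := by
  unfold chi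
  rw [sq_mul_eq x y (hcent _ (hcomm y x)),
    sg_mul hz1 hzz hΦ (Φ.mul_mem (hcomm y x) (hsq x)) (hsq y),
    sg_mul hz1 hzz hΦ (hcomm y x) (hsq x)]

theorem chi_sq (x : G) : chi x * chi x = 1 := by
  unfold chi
  rcases sg_pm (x * x) with h | h <;> rw [h] <;> norm_num

/-- The main identity: `S² = 0` or `S² = |G| |Z|` with `χ ≡ 1` on the centre. -/
theorem key_identity (hz1 : z ≠ 1) (hzz : z * z = 1) (hΦ : ∀ t ∈ Φ, t = 1 ∨ t = z)
    (hcent : ∀ t ∈ Φ, ∀ g : G, g * t = t * g)
    (hsq : ∀ x : G, x * x ∈ Φ) (hcomm : ∀ x y : G, ⁅x, y⁆ ∈ Φ) :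
    (∑ x : G, chi x) ^ 2 = 0 ∨
      ((∑ x : G, chi x) ^ 2 = (Fintype.card G : ℤ) * (Nat.card (Subgroup.center G) : ℤ) ∧
        ∀ u ∈ Subgroup.center G, u * u = 1) := by
  classical
  have hchi := chi_mul hz1 hzz hΦ hcent hsq hcomm
  -- inner sums
  have hinner : ∀ u : G, ∑ x : G, sg ⁅u, x⁆ =
      if u ∈ Subgroup.center G then (Fintype.card G : ℤ) else 0 := by
    intro u
    have hmul : ∀ x x' : G, sg ⁅u, x * x'⁆ = sg ⁅u, x⁆ * sg ⁅u, x'⁆ := by
      intro x x'
      rw [comm_mul_right u x x' (hcent _ (hcomm u x')), sg_mul hz1 hzz hΦ (hcomm u x) (hcomm u x')]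
    rcases sum_mul_char (fun x => sg ⁅u, x⁆) hmul (fun x => sg_pm _) with ⟨hall, hsum⟩ | ⟨⟨x₀, hx₀⟩, hsum⟩
    · have hu : u ∈ Subgroup.center G := by
        rw [Subgroup.mem_center_iff]
        intro g
        have := (sg_eq_one_iff _).mp (hall g)
        rw [commutatorElement_eq_one_iff_mul_comm] at this
        exact this.symm
      rw [if_pos hu]; exact hsum
    · have hu : u ∉ Subgroup.center G := by
        intro hu
        have h1 : ⁅u, x₀⁆ = 1 := by
          rw [commutatorElement_eq_one_iff_mul_comm]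
          exact ((Subgroup.mem_center_iff.mp hu) x₀).symm
        rw [h1, sg_one] at hx₀
        norm_num at hx₀
      rw [if_neg hu]; exact hsum
  -- S² as a double sum
  have hS2 : (∑ x : G, chi x) ^ 2 = ∑ u : G, chi u * ∑ x : G, sg ⁅u, x⁆ := by
    rw [sq, Finset.sum_mul_sum]
    have h1 : ∀ x : G, ∑ y : G, chi x * chi y = ∑ u : G, chi x * chi (x * u) := by
      intro x
      exact (Equiv.sum_comp (Equiv.mulLeft x) (fun y => chi x * chi y)).symm
    simp only [h1]
    rw [Finset.sum_comm]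
    apply Finset.sum_congr rfl
    intro u _
    rw [Finset.mul_sum]
    apply Finset.sum_congr rfl
    intro x _
    rw [hchi x u]
    have := chi_sq x
    calc chi x * (sg ⁅u, x⁆ * chi x * chi u) = (chi x * chi x) * (chi u * sg ⁅u, x⁆) := by ring
      _ = chi u * sg ⁅u, x⁆ := by rw [this, one_mul]
  simp only [hinner] at hS2
  -- restrict to the centre
  have hS2' : (∑ x : G, chi x) ^ 2 =
      (Fintype.card G : ℤ) * ∑ u : Subgroup.center G, chi (u : G) := by
    rw [hS2, Finset.mul_sum]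
    have : ∑ u : G, chi u * (if u ∈ Subgroup.center G then (Fintype.card G : ℤ) else 0)
        = ∑ u ∈ Finset.univ.filter (fun u : G => u ∈ Subgroup.center G), (Fintype.card G : ℤ) * chi u := by
      rw [Finset.sum_filter]
      apply Finset.sum_congr rfl
      intro u _
      by_cases hu : u ∈ Subgroup.center G
      · rw [if_pos hu, if_pos hu]; ring
      · rw [if_neg hu, if_neg hu]; ring
    rw [this]
    exact Finset.sum_subtype (Finset.univ.filter (fun u : G => u ∈ Subgroup.center G))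
      (fun u => by simp) (fun u => (Fintype.card G : ℤ) * chi u)
  have hmulZ : ∀ u v : Subgroup.center G, chi ((u * v : Subgroup.center G) : G)
      = chi (u : G) * chi (v : G) := by
    intro u v
    rw [Subgroup.coe_mul, hchi]
    have : ⁅(v : G), (u : G)⁆ = 1 := by
      rw [commutatorElement_eq_one_iff_mul_comm]
      exact ((Subgroup.mem_center_iff.mp v.2) (u : G)).symm
    rw [this, sg_one, one_mul]
  rcases sum_mul_char (fun u : Subgroup.center G => chi (u : G)) hmulZ (fun u => sg_pm _)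
    with ⟨hall, hsum⟩ | ⟨_, hsum⟩
  · right
    refine ⟨?_, ?_⟩
    · rw [hS2', hsum, Nat.card_eq_fintype_card]
    · intro u hu
      exact (sg_eq_one_iff _).mp (hall ⟨u, hu⟩)
  · left
    rw [hS2', hsum, mul_zero]

/-- `S = 2j - |G|` -/
theorem sum_chi_eq : (∑ x : G, chi x) = 2 * (Nat.card {x : G // x ^ 2 = 1} : ℤ) - (Fintype.card G : ℤ) := by
  classical
  have h1 : ∀ x : G, chi x = if x ^ 2 = 1 then 1 else -1 := by
    intro x
    unfold chi sg
    rw [pow_two]
  simp only [h1]
  rw [Finset.sum_ite]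
  simp only [Finset.sum_const, nsmul_eq_mul, mul_one, mul_neg]
  have h2 : (Finset.univ.filter (fun x : G => x ^ 2 = 1)).card +
      (Finset.univ.filter (fun x : G => ¬ x ^ 2 = 1)).card = Fintype.card G := by
    rw [Finset.card_filter_add_card_filter_not]
    rfl
  have h3 : Nat.card {x : G // x ^ 2 = 1} = (Finset.univ.filter (fun x : G => x ^ 2 = 1)).card := by
    rw [Nat.card_eq_fintype_card, Fintype.card_subtype]
  rw [h3]
  have h4 : ((Finset.univ.filter (fun x : G => ¬ x ^ 2 = 1)).card : ℤ) =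
      (Fintype.card G : ℤ) - ((Finset.univ.filter (fun x : G => x ^ 2 = 1)).card : ℤ) := by
    have := congrArg (fun n : ℕ => (n : ℤ)) h2
    simp only [Nat.cast_add] at this
    linarith
  rw [h4]
  ring

end main

section final

/-- all the structural data extracted from the hypotheses -/
theorem setup {G : Type*} [Group G] [Finite G] (hG : IsPGroup 2 G)
    (hΦ : Nat.card (frattini G) = 2) :
    ∃ z : G, z ≠ 1 ∧ z * z = 1 ∧ z ∈ frattini G ∧ (∀ t ∈ frattini G, t = 1 ∨ t = z) ∧
      (∀ t ∈ frattini G, ∀ g : G, g * t = t * g) ∧ (∀ x : G, x * x ∈ frattini G) ∧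
      (∀ x y : G, ⁅x, y⁆ ∈ frattini G) := by
  have : Fact (Nat.Prime 2) := ⟨Nat.prime_two⟩
  obtain ⟨⟨z, hzΦ⟩, hz1', hzuniq⟩ := (Nat.card_eq_two_iff' (1 : frattini G)).mp hΦ
  have hz1 : z ≠ 1 := by
    intro h
    apply hz1'
    exact Subtype.ext h
  have hΦz : ∀ t ∈ frattini G, t = 1 ∨ t = z := by
    intro t ht
    by_cases h : t = 1
    · exact Or.inl h
    · right
      have := hzuniq ⟨t, ht⟩ (fun h' => h (congrArg Subtype.val h'))
      exact congrArg Subtype.val this
  have hzz : z * z = 1 := by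
    rcases hΦz (z * z) ((frattini G).mul_mem hzΦ hzΦ) with h | h
    · exact h
    · exfalso
      apply hz1
      have : z = z⁻¹ * (z * z) := by group
      rw [this, h]; group
  have hΦn : (frattini G).Normal := inferInstance
  have hcent : ∀ t ∈ frattini G, ∀ g : G, g * t = t * g := by
    intro t ht g
    rcases hΦz t ht with rfl | rfl
    · simp
    · have h1 : g * t * g⁻¹ ∈ frattini G := hΦn.conj_mem t hzΦ g
      rcases hΦz _ h1 with h | h
      · exfalso
        apply hz1
        have : t = g⁻¹ * (g * t * g⁻¹) * g := by group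
        rw [this, h]; group
      · calc g * t = (g * t * g⁻¹) * g := by group
          _ = t * g := by rw [h]
  obtain ⟨hcommle, hpow⟩ := Cfsg.Agent.S0012.result 2 hG
  have hsq : ∀ x : G, x * x ∈ frattini G := fun x => by
    have := hpow x
    rwa [pow_two] at this
  have hcomm : ∀ x y : G, ⁅x, y⁆ ∈ frattini G := fun x y => hcommle (by
    rw [commutator_def]
    exact Subgroup.commutator_mem_commutator (Subgroup.mem_top x) (Subgroup.mem_top y))
  exact ⟨z, hz1, hzz, hzΦ, hΦz, hcent, hsq, hcomm⟩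

/-- if all central elements are involutions-or-trivial and the centre is everything, Frattini is
trivial -/
theorem frattini_eq_bot_of_center_top {G : Type*} [Group G] [Finite G] (hG : IsPGroup 2 G)
    (hZ : Subgroup.center G = ⊤) (hsq : ∀ u ∈ Subgroup.center G, u * u = 1) : frattini G = ⊥ := by
  have : Fact (Nat.Prime 2) := ⟨Nat.prime_two⟩
  rw [eq_bot_iff]
  apply Cfsg.Agent.S0013.result 2 hG ⊥
  · rw [(commutator_eq_bot_iff_center_eq_top G).mpr hZ]
  · intro x
    rw [Subgroup.mem_bot, pow_two]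
    exact hsq x (hZ ▸ Subgroup.mem_top x)

/-- arithmetic: the centre of a non-abelian group has index at least 4 (as a power of two). -/
theorem center_card_bound {G : Type*} [Group G] [Finite G] (hG : IsPGroup 2 G) (d : ℕ)
    (hcard : Nat.card G = 2 * 2 ^ d) (hZ : Subgroup.center G ≠ ⊤) :
    ∃ k : ℕ, Nat.card (Subgroup.center G) = 2 ^ k ∧ k + 2 ≤ d + 1 := by
  have : Fact (Nat.Prime 2) := ⟨Nat.prime_two⟩
  obtain ⟨k, hk⟩ := (hG.to_subgroup (Subgroup.center G)).exists_card_eq
  have hmul := (Subgroup.center G).card_mul_index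
  have hdvd : (Subgroup.center G).index ∣ 2 ^ (d + 1) := by
    rw [pow_succ, mul_comm, ← hcard]
    exact Subgroup.index_dvd_card _
  obtain ⟨e, _, he⟩ := (Nat.dvd_prime_pow Nat.prime_two).mp hdvd
  have he0 : e ≠ 0 := by
    rintro rfl
    rw [pow_zero] at he
    exact hZ (Subgroup.index_eq_one.mp he)
  have he1 : e ≠ 1 := by
    rintro rfl
    rw [pow_one] at he
    have hc : Nat.card (G ⧸ Subgroup.center G) = 2 := by
      rw [← Subgroup.index_eq_card, he]
    have hcyc : IsCyclic (G ⧸ Subgroup.center G) := isCyclic_of_prime_card hc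
    apply hZ
    have hcomm : IsMulCommutative G :=
      MonoidHom.isMulCommutative_of_isCyclic_of_ker_le_center
        (QuotientGroup.mk' (Subgroup.center G)) (by rw [QuotientGroup.ker_mk'])
    exact Subgroup.center_eq_top_iff.mpr hcomm
  refine ⟨k, hk, ?_⟩
  rw [hk, he, hcard, ← pow_add] at hmul
  have h2 : (2 : ℕ) ^ (k + e) = 2 ^ (d + 1) := by rw [hmul, pow_succ, mul_comm]
  have := Nat.pow_right_injective (le_refl 2) h2
  omega

/-- Let G be a finite 2-group whose Frattini subgroup Φ(G) has order 2, with |G : Φ(G)| = 2^d, and let j be the number of elements x of G with x² = 1. Then j = 2^d, or j = 2^d + 2^(d−r) or j = 2^d − 2^(d−r) for some positive integer r with 2r ≤ d. Moreover if d = 2r and j is 2^d + 2^r or 2^d − 2^r, then G is extraspecial. -/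
theorem result {G : Type*} [Group G] [Finite G] (hG : IsPGroup 2 G) (hΦ : Nat.card (frattini G) = 2) (d : ℕ) (hd : (frattini G).index = 2 ^ d) : (Nat.card {x : G // x ^ 2 = 1} = 2 ^ d ∨ ∃ r : ℕ, 1 ≤ r ∧ 2 * r ≤ d ∧ (Nat.card {x : G // x ^ 2 = 1} = 2 ^ d + 2 ^ (d - r) ∨ Nat.card {x : G // x ^ 2 = 1} + 2 ^ (d - r) = 2 ^ d)) ∧ (∀ r : ℕ, d = 2 * r → (Nat.card {x : G // x ^ 2 = 1} = 2 ^ d + 2 ^ r ∨ Nat.card {x : G // x ^ 2 = 1} + 2 ^ r = 2 ^ d) → Cfsg.IsExtraspecial 2 G) := by
  classical
  have : Fintype G := Fintype.ofFinite G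
  have hp2 : Fact (Nat.Prime 2) := ⟨Nat.prime_two⟩
  obtain ⟨z, hz1, hzz, hzΦ, hΦz, hcent, hsq, hcomm⟩ := setup hG hΦ
  have hkey := key_identity hz1 hzz hΦz hcent hsq hcomm
  have hS := sum_chi_eq (G := G)
  set j := Nat.card {x : G // x ^ 2 = 1} with hj
  set S : ℤ := ∑ x : G, chi x with hSdef
  have hcardG : Nat.card G = 2 * 2 ^ d := by rw [← (frattini G).card_mul_index, hΦ, hd]
  have hcardG' : (Fintype.card G : ℤ) = 2 * 2 ^ d := by
    rw [← Nat.card_eq_fintype_card, hcardG]; push_cast; ring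
  rw [hcardG'] at hS hkey
  have hΦZ : frattini G ≤ Subgroup.center G := fun t ht =>
    Subgroup.mem_center_iff.mpr (fun g => hcent t ht g)
  -- analysis of the second case
  have hcase2 : S ^ 2 = (2 * 2 ^ d : ℤ) * (Nat.card (Subgroup.center G) : ℤ) →
      (∀ u ∈ Subgroup.center G, u * u = 1) →
      ∃ k m : ℕ, Nat.card (Subgroup.center G) = 2 ^ k ∧ 1 ≤ k ∧ k + 2 ≤ d + 1 ∧
        2 * m = d + 1 + k ∧ (S = 2 ^ m ∨ S = -2 ^ m) := by
    intro hS2 hZsq
    have hZne : Subgroup.center G ≠ ⊤ := by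
      intro hZ
      have := frattini_eq_bot_of_center_top hG hZ hZsq
      rw [this, Subgroup.card_bot] at hΦ
      norm_num at hΦ
    obtain ⟨k, hk, hkd⟩ := center_card_bound hG d hcardG hZne
    have hk1 : 1 ≤ k := by
      rcases k with _ | k
      · exfalso
        rw [pow_zero] at hk
        have hb := Subgroup.eq_bot_of_card_eq _ hk
        have hzc : z ∈ Subgroup.center G := hΦZ hzΦ
        rw [hb, Subgroup.mem_bot] at hzc
        exact hz1 hzc
      · omega
    rw [hk] at hS2
    have hS2' : S ^ 2 = (2 : ℤ) ^ (d + 1 + k) := by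
      rw [hS2]; push_cast; ring
    have hnat : S.natAbs ^ 2 = 2 ^ (d + 1 + k) := by
      have := congrArg Int.natAbs hS2'
      rw [Int.natAbs_pow, Int.natAbs_pow] at this
      simpa using this
    have hdvd : S.natAbs ∣ 2 ^ (d + 1 + k) := Dvd.intro_left (S.natAbs) (by rw [← hnat]; ring)
    obtain ⟨m, _, hm⟩ := (Nat.dvd_prime_pow Nat.prime_two).mp hdvd
    rw [hm, ← pow_mul] at hnat
    have h2m := Nat.pow_right_injective (le_refl 2) hnat
    refine ⟨k, m, hk, hk1, hkd, by omega, ?_⟩
    rcases Int.natAbs_eq S with h | h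
    · left; rw [h, hm]; push_cast; ring
    · right; rw [h, hm]; push_cast; ring
  constructor
  · rcases hkey with h0 | ⟨hS2, hZsq⟩
    · left
      have hS0 : S = 0 := by
        have := pow_eq_zero_iff (two_ne_zero) |>.mp h0
        exact this
      have : (j : ℤ) = 2 ^ d := by linarith
      exact_mod_cast this
    · right
      obtain ⟨k, m, hk, hk1, hkd, h2m, hSm⟩ := hcase2 hS2 hZsq
      have hm1 : 1 ≤ m := by omega
      have hmd : m ≤ d := by omega
      refine ⟨d + 1 - m, by omega, by omega, ?_⟩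
      have hdr : d - (d + 1 - m) = m - 1 := by omega
      rw [hdr]
      have hpow : (2 : ℤ) ^ m = 2 * 2 ^ (m - 1) := by
        rw [← pow_succ']
        congr 1
        omega
      rcases hSm with h | h
      · left
        have : (j : ℤ) = 2 ^ d + 2 ^ (m - 1) := by
          rw [hpow] at h; linarith
        exact_mod_cast this
      · right
        have : (j : ℤ) + 2 ^ (m - 1) = 2 ^ d := by
          rw [hpow] at h; linarith
        exact_mod_cast this
  · intro r hdr hjr
    have hSr : S = 2 * 2 ^ r ∨ S = -(2 * 2 ^ r) := by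
      have hd2 : (2 : ℤ) ^ d = 2 ^ r * 2 ^ r := by rw [hdr, two_mul, pow_add]
      rcases hjr with h | h
      · left
        have : (j : ℤ) = 2 ^ d + 2 ^ r := by exact_mod_cast h
        rw [hS, this]; ring
      · right
        have : (j : ℤ) + 2 ^ r = 2 ^ d := by exact_mod_cast h
        rw [hS]; linarith
    have hSne : S ^ 2 ≠ 0 := by
      have : S ^ 2 = 4 * (2 ^ r * 2 ^ r) := by
        rcases hSr with h | h <;> rw [h] <;> ring
      rw [this]
      positivity
    rcases hkey with h0 | ⟨hS2, hZsq⟩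
    · exact absurd h0 hSne
    · obtain ⟨k, m, hk, hk1, hkd, h2m, hSm⟩ := hcase2 hS2 hZsq
      -- m = r + 1
      have hmr : m = r + 1 := by
        have h1 : S.natAbs = 2 ^ m := by
          rcases hSm with h | h <;> rw [h] <;> simp [Int.natAbs_pow]
        have h2 : S.natAbs = 2 ^ (r + 1) := by
          rcases hSr with h | h <;> rw [h] <;> simp [Int.natAbs_mul, Int.natAbs_pow, pow_succ, mul_comm]
        rw [h1] at h2
        exact Nat.pow_right_injective (le_refl 2) h2
      have hk1' : k = 1 := by omega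
      rw [hk1', pow_one] at hk
      -- centre = Frattini
      have hZΦ : frattini G = Subgroup.center G :=
        Subgroup.eq_of_le_of_card_ge hΦZ (by rw [hk, hΦ])
      have hcommle : commutator G ≤ frattini G := (Cfsg.Agent.S0012.result 2 hG).1
      have hcomm_ne : commutator G ≠ ⊥ := by
        intro hbot
        have hZtop : Subgroup.center G = ⊤ := (commutator_eq_bot_iff_center_eq_top G).mp hbot
        have := frattini_eq_bot_of_center_top hG hZtop hZsq
        rw [this, Subgroup.card_bot] at hΦ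
        norm_num at hΦ
      have hcomm_card : Nat.card (commutator G) = 2 := by
        have h1 : Nat.card (commutator G) ∣ 2 := hΦ ▸ Subgroup.card_dvd_of_le hcommle
        rcases (Nat.dvd_prime Nat.prime_two).mp h1 with h | h
        · exact absurd (Subgroup.eq_bot_of_card_eq _ h) hcomm_ne
        · exact h
      have hcommΦ : commutator G = frattini G :=
        Subgroup.eq_of_le_of_card_ge hcommle (by rw [hcomm_card, hΦ])
      exact ⟨⟨hG, hZΦ, hcommΦ.trans hZΦ⟩, hk⟩

end final

end Cfsg.Agent.S3772
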