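import Cfsg.Statements.S3773
import Cfsg.Agent.Lib.Helper96.SqMap
import Cfsg.Agent.Lib.Helper72.Frattini
import Cfsg.Agent.Lib.Helper03.PGroupFrattini

set_option autoImplicit false
open Cfsg

namespace Cfsg.Agent.S3773

open Cfsg.Agent.Lib.Helper96
open scoped commutatorElement

section aux

variable {G : Type*} [Group G]

/-- basic facts packaged -/
theorem setup (hcl : (⊤ : Subgroup G).lowerCentralSeries 2 = ⊥)
    (hexp : ∀ x : G, x ^ 4 = 1)
    (hN : ∀ x y : G, x ^ 2 = 1 → y ^ 2 = 1 → (x * y) ^ 2 = 1) :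
    ∃ N : Subgroup G, (∀ x : G, x ∈ N ↔ x * x = 1) ∧ (∀ x : G, x * x ∈ N) ∧
      (∀ x y : G, (x * x) * y = y * (x * x)) ∧ (∀ a b : G, ⁅a, b⁆ ∈ N) := by
  have hinv2 : ∀ x : G, x ^ 2 = 1 → x⁻¹ ^ 2 = 1 := by
    intro x hx; rw [inv_pow, hx, inv_one]
  let N : Subgroup G :=
    { carrier := {x | x ^ 2 = 1}
      mul_mem' := fun {a b} ha hb => hN a b ha hb
      one_mem' := by simp
      inv_mem' := fun {a} ha => hinv2 a ha }
  have memN : ∀ x : G, x ∈ N ↔ x * x = 1 := by
    intro x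
    show x ^ 2 = 1 ↔ x * x = 1
    rw [pow_two]
  have sqN : ∀ x : G, x * x ∈ N := by
    intro x
    rw [memN]
    have := hexp x
    calc x * x * (x * x) = x ^ 4 := by
          rw [show (4 : ℕ) = 2 + 2 from rfl, pow_add, pow_two]
      _ = 1 := this
  -- commutators are central
  have hcc : ∀ a b z : G, ⁅a, b⁆ * z = z * ⁅a, b⁆ := by
    intro a b z
    have h1 : ⁅a, b⁆ ∈ (⊤ : Subgroup G).lowerCentralSeries 1 := by
      rw [Subgroup.lowerCentralSeries_succ]
      refine Subgroup.commutator_mem_commutator ?_ (Subgroup.mem_top b)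
      rw [Subgroup.lowerCentralSeries_zero]
      exact Subgroup.mem_top a
    have h2 : ⁅⁅a, b⁆, z⁆ ∈ (⊤ : Subgroup G).lowerCentralSeries 2 := by
      rw [Subgroup.lowerCentralSeries_succ]
      exact Subgroup.commutator_mem_commutator h1 (Subgroup.mem_top z)
    rw [hcl, Subgroup.mem_bot, commutatorElement_def] at h2
    calc ⁅a, b⁆ * z = (⁅a, b⁆ * z * ⁅a, b⁆⁻¹ * z⁻¹) * z * ⁅a, b⁆ := by group
      _ = z * ⁅a, b⁆ := by rw [h2, one_mul]
  -- commutators lie in N
  have hcN : ∀ a b : G, ⁅a, b⁆ ∈ N := by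
    intro a b
    have : ⁅a, b⁆ = (a * a) * ((a⁻¹ * b) * (a⁻¹ * b)) * (b⁻¹ * b⁻¹) := by
      rw [commutatorElement_def]; group
    rw [this]
    exact N.mul_mem (N.mul_mem (sqN _) (sqN _)) (sqN _)
  have sqC : ∀ x y : G, (x * x) * y = y * (x * x) := by
    intro x y
    have hc2 : ⁅x, y⁆ * ⁅x, y⁆ = 1 := (memN _).1 (hcN x y)
    have hxy : x * y = ⁅x, y⁆ * (y * x) := by rw [commutatorElement_def]; group
    calc x * x * y = x * (x * y) := by group
      _ = x * (⁅x, y⁆ * (y * x)) := by rw [hxy]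
      _ = (x * ⁅x, y⁆) * (y * x) := by group
      _ = (⁅x, y⁆ * x) * (y * x) := by rw [hcc x y x]
      _ = ⁅x, y⁆ * (x * y) * x := by group
      _ = ⁅x, y⁆ * (⁅x, y⁆ * (y * x)) * x := by rw [hxy]
      _ = (⁅x, y⁆ * ⁅x, y⁆) * (y * (x * x)) := by group
      _ = y * (x * x) := by rw [hc2, one_mul]
  exact ⟨N, memN, sqN, sqC, hcN⟩

end aux

section main

variable {G : Type*} [Group G] [Finite G]

/-- the index bound: `|G : N| ≤ |N ∩ Z(G)|²` -/
theorem index_le (N : Subgroup G) (memN : ∀ x : G, x ∈ N ↔ x * x = 1)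
    (sqN : ∀ x : G, x * x ∈ N) (sqC : ∀ x y : G, (x * x) * y = y * (x * x)) :
    N.index ≤ (Nat.card (N ⊓ Subgroup.center G : Subgroup G)) ^ 2 := by
  set K₀ : Subgroup G := N ⊓ Subgroup.center G with hK₀
  have hsqK : ∀ x : G, x * x ∈ K₀ := by
    intro x
    have hc : x * x ∈ Subgroup.center G := by
      rw [Subgroup.mem_center_iff]
      intro g
      exact (sqC x g).symm
    exact Subgroup.mem_inf.2 ⟨sqN x, hc⟩
  have hK2 : ∀ k ∈ K₀, k * k = 1 := fun k hk => (memN k).1 (Subgroup.mem_inf.1 hk).1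
  obtain ⟨W, hKW, hWN, -, hidx⟩ := SqMap.exists_compl_mod K₀ N inf_le_left hsqK
  by_contra hlt
  rw [not_le] at hlt
  have hcent : ∀ x ∈ W, ∀ k ∈ K₀, x * k = k * x := by
    intro x _ k hk
    exact ((Subgroup.mem_center_iff.1 (Subgroup.mem_inf.1 hk).2) x)
  have hcard : ((⊥ : Subgroup G).relIndex K₀) ^ 2 < K₀.relIndex W := by
    rw [Subgroup.relIndex_bot_left, hidx]
    exact hlt
  obtain ⟨x, hxW, hxK, hx1⟩ := SqMap.exists_sq_mem W K₀ K₀ ⊥ hKW le_rfl hcent hK2
    (fun x _ => hsqK x) hcard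
  rw [Subgroup.mem_bot] at hx1
  have hxN : x ∈ N := (memN x).2 hx1
  have : x ∈ W ⊓ N := Subgroup.mem_inf.2 ⟨hxW, hxN⟩
  rw [hWN] at this
  exact hxK this

/-- if `N ≤ Z(G)` and `|N|² ≤ |G : N|` then `Z(G) ≤ N` -/
theorem center_le (N : Subgroup G) (memN : ∀ x : G, x ∈ N ↔ x * x = 1)
    (sqN : ∀ x : G, x * x ∈ N) (hNZ : N ≤ Subgroup.center G)
    (hidx : (Nat.card N) ^ 2 ≤ N.index) : Subgroup.center G ≤ N := by
  intro r hrZ
  by_contra hrN
  set μ := r * r with hμ
  have hμN : μ ∈ N := sqN r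
  have hμ1 : μ ≠ 1 := fun h => hrN ((memN r).2 h)
  have hNn : N.Normal := SqMap.normal_of_sq_mem sqN le_rfl
  set R : Subgroup G := N ⊔ Subgroup.zpowers r with hR
  obtain ⟨W, hNW, hWR, -, hidxW⟩ := SqMap.exists_compl_mod N R le_sup_left sqN
  -- card R ≤ 2 * card N
  have hcardR : Nat.card R ≤ 2 * Nat.card N := by
    have hsub : (R : Set G) ⊆ (N : Set G) ∪ (fun g => g * r) '' (N : Set G) := by
      intro g hg
      rcases SqMap.mem_sup_zpowers hNn (sqN r) hg with h | h
      · exact Or.inl h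
      · exact Or.inr ⟨g * r⁻¹, h, by group⟩
    calc Nat.card R = (R : Set G).ncard := rfl
      _ ≤ ((N : Set G) ∪ (fun g => g * r) '' (N : Set G)).ncard :=
          Set.ncard_le_ncard hsub (Set.toFinite _)
      _ ≤ (N : Set G).ncard + ((fun g => g * r) '' (N : Set G)).ncard := Set.ncard_union_le _ _
      _ ≤ (N : Set G).ncard + (N : Set G).ncard :=
          Nat.add_le_add_left (Set.ncard_image_le (Set.toFinite _)) _
      _ = 2 * Nat.card N := by
          rw [two_mul]
          rfl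
  -- zpowers μ has card 2
  have hμμ : μ * μ = 1 := (memN μ).1 hμN
  have hcardμ : Nat.card (Subgroup.zpowers μ) = 2 := by
    rw [Nat.card_zpowers]
    exact orderOf_eq_prime (by rw [pow_two]; exact hμμ) hμ1
  have hμle : Subgroup.zpowers μ ≤ N := by
    rw [Subgroup.zpowers_le]; exact hμN
  set m := (Subgroup.zpowers μ).relIndex N with hm
  have h2m : 2 * m = Nat.card N := by
    have := Subgroup.relIndex_mul_relIndex ⊥ (Subgroup.zpowers μ) N bot_le hμle
    rw [Subgroup.relIndex_bot_left, Subgroup.relIndex_bot_left, hcardμ] at this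
    exact this
  have hRidx : R.index * Nat.card R = Nat.card G := Subgroup.index_mul_card R
  have hNidx : N.index * Nat.card N = Nat.card G := Subgroup.index_mul_card N
  have hnpos : 0 < Nat.card N := Nat.card_pos
  have hcard : m ^ 2 < N.relIndex W := by
    rw [hidxW]
    have h1 : (Nat.card N) ^ 2 * Nat.card N ≤ R.index * (2 * Nat.card N) := by
      calc (Nat.card N) ^ 2 * Nat.card N ≤ N.index * Nat.card N := Nat.mul_le_mul_right _ hidx
        _ = R.index * Nat.card R := by rw [hNidx, hRidx]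
        _ ≤ R.index * (2 * Nat.card N) := Nat.mul_le_mul_left _ hcardR
    have h2 : (Nat.card N) ^ 2 ≤ 2 * R.index := by
      have : (Nat.card N) ^ 2 * Nat.card N ≤ (2 * R.index) * Nat.card N := by
        calc (Nat.card N) ^ 2 * Nat.card N ≤ R.index * (2 * Nat.card N) := h1
          _ = (2 * R.index) * Nat.card N := by ring
      exact Nat.le_of_mul_le_mul_right this hnpos
    rw [← h2m] at h2
    have hmpos : 0 < m := by omega
    nlinarith
  have hcent : ∀ x ∈ W, ∀ k ∈ N, x * k = k * x :=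
    fun x _ k hk => (Subgroup.mem_center_iff.1 (hNZ hk)) x
  have hN2 : ∀ k ∈ N, k * k = 1 := fun k hk => (memN k).1 hk
  obtain ⟨x, hxW, hxN, hxμ⟩ := SqMap.exists_sq_mem W N N (Subgroup.zpowers μ) hNW le_rfl hcent hN2
    (fun x _ => sqN x) hcard
  obtain ⟨k, hk⟩ := Subgroup.mem_zpowers_iff.1 hxμ
  have hμ2 : μ ^ (2 : ℤ) = 1 := by
    rw [zpow_ofNat, pow_two]; exact hμμ
  rcases Int.even_or_odd' k with ⟨j, rfl | rfl⟩
  · rw [zpow_mul, hμ2, one_zpow] at hk
    exact hxN ((memN x).2 hk.symm)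
  · rw [zpow_add, zpow_mul, hμ2, one_zpow, one_mul, zpow_one] at hk
    have hrc : ∀ g : G, g * r = r * g := Subgroup.mem_center_iff.1 hrZ
    have h2 : r⁻¹ * x = x * r⁻¹ := by
      calc r⁻¹ * x = r⁻¹ * (x * r) * r⁻¹ := by group
        _ = r⁻¹ * (r * x) * r⁻¹ := by rw [hrc x]
        _ = x * r⁻¹ := by group
    have h1 : (x * r⁻¹) * (x * r⁻¹) = (x * x) * (r * r)⁻¹ := by
      calc x * r⁻¹ * (x * r⁻¹) = x * (r⁻¹ * x) * r⁻¹ := by group
        _ = x * (x * r⁻¹) * r⁻¹ := by rw [h2]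
        _ = x * x * (r * r)⁻¹ := by group
    have h3 : (x * r⁻¹) * (x * r⁻¹) = 1 := by
      rw [h1, ← hk, hμ]; group
    have hxrN : x * r⁻¹ ∈ N := (memN _).2 h3
    have hxR : x ∈ R := by
      have : x = (x * r⁻¹) * r := by group
      rw [this]
      exact Subgroup.mul_mem_sup hxrN (Subgroup.mem_zpowers r)
    have : x ∈ W ⊓ R := Subgroup.mem_inf.2 ⟨hxW, hxR⟩
    rw [hWR] at this
    exact hxN this

/-- if `N ≤ Z(G)` and `|N|² ≤ |G : N|` then `G' = N` -/
theorem commutator_eq (N : Subgroup G) (memN : ∀ x : G, x ∈ N ↔ x * x = 1)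
    (sqN : ∀ x : G, x * x ∈ N) (hNZ : N ≤ Subgroup.center G) (hcN : ∀ a b : G, ⁅a, b⁆ ∈ N)
    (hidx : (Nat.card N) ^ 2 ≤ N.index) : commutator G = N := by
  set D : Subgroup G := commutator G with hD
  have hDN : D ≤ N := by
    rw [hD, commutator_def, Subgroup.commutator_le]
    intro a _ b _
    exact hcN a b
  have hDn : D.Normal := by rw [hD]; infer_instance
  by_contra hne
  have hlt : Nat.card D < Nat.card N := by
    by_contra h
    rw [not_lt] at h
    exact hne (Subgroup.eq_of_le_of_card_ge hDN h)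
  have hcomm : ∀ a b : G, ⁅a, b⁆ ∈ D := by
    intro a b
    rw [hD, commutator_def]
    exact Subgroup.commutator_mem_commutator (Subgroup.mem_top a) (Subgroup.mem_top b)
  -- the squaring hom
  have : (D.subgroupOf N).Normal := Subgroup.normal_subgroupOf
  let φ : G →* ↥N ⧸ D.subgroupOf N :=
    MonoidHom.mk' (fun x => QuotientGroup.mk (⟨x * x, sqN x⟩ : ↥N)) (by
      intro x y
      rw [← QuotientGroup.mk_mul, QuotientGroup.eq, Subgroup.mem_subgroupOf]
      show ((x * y) * (x * y))⁻¹ * ((x * x) * (y * y)) ∈ D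
      have : ((x * y) * (x * y))⁻¹ * ((x * x) * (y * y)) = y⁻¹ * ⁅x⁻¹, y⁻¹⁆ * y⁻¹⁻¹ := by
        rw [commutatorElement_def]; group
      rw [this]
      exact hDn.conj_mem _ (hcomm _ _) _)
  have hφ : ∀ x : G, φ x = QuotientGroup.mk (⟨x * x, sqN x⟩ : ↥N) := fun x => rfl
  set H : Subgroup G := φ.ker with hH
  have hNH : N ≤ H := by
    intro x hx
    rw [hH, MonoidHom.mem_ker, hφ, QuotientGroup.eq_one_iff, Subgroup.mem_subgroupOf]
    show x * x ∈ D
    rw [(memN x).1 hx]
    exact D.one_mem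
  have hsqH : ∀ x ∈ H, x * x ∈ D := by
    intro x hx
    rw [hH, MonoidHom.mem_ker, hφ, QuotientGroup.eq_one_iff, Subgroup.mem_subgroupOf] at hx
    exact hx
  have hHidx : H.index ≤ D.relIndex N := by
    rw [hH, Subgroup.index_ker]
    exact Subgroup.card_le_card_group _
  have hcm : Nat.card D * D.relIndex N = Nat.card N := by
    have := Subgroup.relIndex_mul_relIndex ⊥ D N bot_le hDN
    rw [Subgroup.relIndex_bot_left, Subgroup.relIndex_bot_left] at this
    exact this
  have hki : N.relIndex H * H.index = N.index := Subgroup.relIndex_mul_index hNH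
  have hnpos : 0 < Nat.card N := Nat.card_pos
  have hcpos : 0 < Nat.card D := Nat.card_pos
  have hcard : ((⊥ : Subgroup G).relIndex D) ^ 2 < N.relIndex H := by
    rw [Subgroup.relIndex_bot_left]
    set c := Nat.card D
    set n := Nat.card N
    set m := D.relIndex N
    set k := N.relIndex H
    have hm2 : 2 ≤ m := by
      by_contra hm
      have : m = 0 ∨ m = 1 := by omega
      rcases this with h0 | h1
      · rw [h0, mul_zero] at hcm; omega
      · rw [h1, mul_one] at hcm; omega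
    have h1 : c ^ 2 * m * m ≤ k * m := by
      calc c ^ 2 * m * m = (c * m) ^ 2 := by ring
        _ = n ^ 2 := by rw [hcm]
        _ ≤ N.index := hidx
        _ = k * H.index := hki.symm
        _ ≤ k * m := Nat.mul_le_mul_left _ hHidx
    have h2 : c ^ 2 * m ≤ k := Nat.le_of_mul_le_mul_right h1 (by omega)
    nlinarith
  have hcent : ∀ x ∈ H, ∀ k ∈ N, x * k = k * x :=
    fun x _ k hk => (Subgroup.mem_center_iff.1 (hNZ hk)) x
  have hN2 : ∀ k ∈ N, k * k = 1 := fun k hk => (memN k).1 hk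
  obtain ⟨x, -, hxN, hx1⟩ := SqMap.exists_sq_mem H N D ⊥ hNH hDN hcent hN2 hsqH hcard
  rw [Subgroup.mem_bot] at hx1
  exact hxN ((memN x).2 hx1)

end main

/-- Let G be a finite 2-group of nilpotency class at most 2 and exponent dividing 4 in which the elements x with x² = 1 form a subgroup N. Then |G| ≤ |N|³, and |G| < |N|³ unless G is special. -/
theorem result {G : Type*} [Group G] [Finite G] (hG : IsPGroup 2 G) (hcl : (⊤ : Subgroup G).lowerCentralSeries 2 = ⊥) (hexp : ∀ x : G, x ^ 4 = 1) (hN : ∀ x y : G, x ^ 2 = 1 → y ^ 2 = 1 → (x * y) ^ 2 = 1) : Nat.card G ≤ Nat.card {x : G // x ^ 2 = 1} ^ 3 ∧ (¬ Cfsg.IsSpecial 2 G → Nat.card G < Nat.card {x : G // x ^ 2 = 1} ^ 3) := by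
  obtain ⟨N, memN, sqN, sqC, hcN⟩ := setup hcl hexp hN
  have hcardN : Nat.card {x : G // x ^ 2 = 1} = Nat.card N := by
    apply Nat.card_congr
    exact Equiv.subtypeEquivRight (fun x => by rw [memN, pow_two])
  rw [hcardN]
  set K₀ : Subgroup G := N ⊓ Subgroup.center G with hK₀
  have hle := index_le N memN sqN sqC
  have hK₀N : Nat.card K₀ ≤ Nat.card N := Subgroup.card_le_of_le inf_le_left
  have hNidx : N.index * Nat.card N = Nat.card G := Subgroup.index_mul_card N
  have hnpos : 0 < Nat.card N := Nat.card_pos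
  have hmain : Nat.card G ≤ Nat.card K₀ ^ 2 * Nat.card N := by
    rw [← hNidx]; exact Nat.mul_le_mul_right _ hle
  have h3 : Nat.card N ^ 2 * Nat.card N = Nat.card N ^ 3 := by ring
  constructor
  · calc Nat.card G ≤ Nat.card K₀ ^ 2 * Nat.card N := hmain
      _ ≤ Nat.card N ^ 2 * Nat.card N := Nat.mul_le_mul_right _ (Nat.pow_le_pow_left hK₀N 2)
      _ = Nat.card N ^ 3 := h3
  · intro hns
    by_contra hge
    rw [not_lt] at hge
    have hKeq : Nat.card N ≤ Nat.card K₀ := by
      by_contra h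
      rw [not_le] at h
      have : Nat.card K₀ ^ 2 * Nat.card N < Nat.card N ^ 2 * Nat.card N :=
        Nat.mul_lt_mul_of_pos_right (Nat.pow_lt_pow_left h (by norm_num)) hnpos
      omega
    have hKN : K₀ = N := Subgroup.eq_of_le_of_card_ge inf_le_left hKeq
    have hNZ : N ≤ Subgroup.center G := by rw [← hKN]; exact inf_le_right
    have hidx : Nat.card N ^ 2 ≤ N.index := by
      have : Nat.card N ^ 2 * Nat.card N ≤ N.index * Nat.card N := by
        rw [hNidx, h3]; exact hge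
      exact Nat.le_of_mul_le_mul_right this hnpos
    have hZN : Subgroup.center G = N := le_antisymm (center_le N memN sqN hNZ hidx) hNZ
    have hDN : commutator G = N := commutator_eq N memN sqN hNZ hcN hidx
    apply hns
    refine ⟨hG, ?_, ?_⟩
    · rw [hZN]
      have hNn : N.Normal := SqMap.normal_of_sq_mem sqN le_rfl
      have hp2 : Fact (Nat.Prime 2) := ⟨Nat.prime_two⟩
      apply le_antisymm
      · exact Cfsg.Agent.Lib.Helper72.frattini_le_of_sq_mem N
          (fun x => by rw [pow_two]; exact sqN x)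
      · rw [← hDN]; exact Cfsg.Agent.Lib.Helper03.commutator_le_frattini_of_isPGroup hG
    · rw [hZN]; exact hDN

end Cfsg.Agent.S3773
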