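import Cfsg.Statements.S3774
import Mathlib.Tactic
-- import your own Cfsg.Agent.* helpers here

set_option autoImplicit false
open Cfsg

namespace Cfsg.Agent.S3774

/-- the involution attached to a non-identity element of a 2-group -/
noncomputable def inv2 {G : Type*} [Group G] (x : G) : G := x ^ (orderOf x / 2)

theorem orderOf_eq_two_mul {G : Type*} [Group G] [Finite G] (hG : IsPGroup 2 G) {x : G} (hx : x ≠ 1) :
    orderOf x = 2 * (orderOf x / 2) := by
  obtain ⟨k, hk⟩ := hG x
  have h1 : orderOf x ∣ 2 ^ k := orderOf_dvd_of_pow_eq_one hk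
  obtain ⟨j, -, hj⟩ := (Nat.dvd_prime_pow Nat.prime_two).mp h1
  have hj0 : j ≠ 0 := by
    rintro rfl
    rw [pow_zero, orderOf_eq_one_iff] at hj
    exact hx hj
  obtain ⟨i, rfl⟩ := Nat.exists_eq_succ_of_ne_zero hj0
  rw [hj, pow_succ]
  omega

theorem inv2_sq {G : Type*} [Group G] [Finite G] (hG : IsPGroup 2 G) {x : G} (hx : x ≠ 1) :
    (inv2 x) ^ 2 = 1 := by
  unfold inv2
  rw [← pow_mul, mul_comm, ← orderOf_eq_two_mul hG hx, pow_orderOf_eq_one]

theorem inv2_ne_one {G : Type*} [Group G] [Finite G] (hG : IsPGroup 2 G) {x : G} (hx : x ≠ 1) :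
    inv2 x ≠ 1 := by
  unfold inv2
  have h := orderOf_eq_two_mul hG hx
  have hpos : 0 < orderOf x := orderOf_pos x
  apply pow_ne_one_of_lt_orderOf
  · omega
  · omega

theorem inv2_map {G : Type*} [Group G] (a : MulAut G) (x : G) : inv2 (a x) = a (inv2 x) := by
  unfold inv2
  rw [MulEquiv.orderOf_eq, map_pow]

theorem dvd_of_pow_sub_one_dvd {n N : ℕ} (h : 2 ^ n - 1 ∣ 2 ^ N - 1) : n ∣ N := by
  have h1 : Nat.gcd (2 ^ n - 1) (2 ^ N - 1) = 2 ^ n - 1 := Nat.gcd_eq_left h
  rw [Nat.pow_sub_one_gcd_pow_sub_one] at h1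
  have h2 : 2 ^ Nat.gcd n N = 2 ^ n := by
    have := Nat.one_le_two_pow (n := Nat.gcd n N)
    have := Nat.one_le_two_pow (n := n)
    omega
  have h3 : Nat.gcd n N = n := Nat.pow_right_injective (le_refl 2) h2
  rw [← h3]
  exact Nat.gcd_dvd_right n N

/-- Let G be a nontrivial finite 2-group whose automorphism group permutes the involutions of G transitively. Then every involution of G is central, so that the involutions together with 1 form the subgroup Ω₁(Z(G)), and if this subgroup has order q then |G| is a power of q. -/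
theorem result {G : Type*} [Group G] [Finite G] [Nontrivial G] (hG : IsPGroup 2 G) (htrans : ∀ x y : G, x ≠ 1 → x ^ 2 = 1 → y ≠ 1 → y ^ 2 = 1 → ∃ a : MulAut G, a x = y) : (∀ x : G, x ^ 2 = 1 → x ∈ Subgroup.center G) ∧ ∃ m : ℕ, Nat.card G = Nat.card {z : G // z ^ 2 = 1} ^ m := by
  classical
  have hp2 : Fact (Nat.Prime 2) := ⟨Nat.prime_two⟩
  haveI : Fintype G := Fintype.ofFinite G
  -- a central involution
  have hcn : Nontrivial (Subgroup.center G) := hG.center_nontrivial
  obtain ⟨⟨z0, hz0c⟩, hz0ne⟩ := exists_ne (1 : Subgroup.center G)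
  have hz0 : z0 ≠ 1 := fun h => hz0ne (Subtype.ext h)
  set z : G := inv2 z0 with hz
  have hzc : z ∈ Subgroup.center G := Subgroup.pow_mem _ hz0c _
  have hz1 : z ≠ 1 := inv2_ne_one hG hz0
  have hz2 : z ^ 2 = 1 := inv2_sq hG hz0
  -- part one
  have hpart1 : ∀ x : G, x ^ 2 = 1 → x ∈ Subgroup.center G := by
    intro x hx
    by_cases hx1 : x = 1
    · rw [hx1]; exact Subgroup.one_mem _
    · obtain ⟨a, ha⟩ := htrans z x hz1 hz2 hx1 hx
      rw [Subgroup.mem_center_iff]
      intro g
      have hcomm : a.symm g * z = z * a.symm g := (Subgroup.mem_center_iff.mp hzc) (a.symm g)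
      have := congrArg a hcomm
      rw [map_mul, map_mul, MulEquiv.apply_symm_apply, ha] at this
      exact this
  refine ⟨hpart1, ?_⟩
  -- the subgroup of involutions
  let Zs : Subgroup G :=
    { carrier := {w | w ^ 2 = 1}
      one_mem' := one_pow 2
      mul_mem' := fun {u v} hu hv => by
        have hu' : u ^ 2 = 1 := hu
        have hv' : v ^ 2 = 1 := hv
        have hc : Commute u v := ((Subgroup.mem_center_iff.mp (hpart1 u hu')) v).symm
        show (u * v) ^ 2 = 1
        rw [hc.mul_pow, hu', hv', one_mul]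
      inv_mem' := fun {u} hu => by
        have hu' : u ^ 2 = 1 := hu
        show (u⁻¹) ^ 2 = 1
        rw [inv_pow, hu', inv_one] }
  have hZs_card : Nat.card {w : G // w ^ 2 = 1} = Nat.card Zs := rfl
  obtain ⟨n, hn⟩ := (IsPGroup.iff_card.mp (hG.to_subgroup Zs))
  obtain ⟨N, hN⟩ := (IsPGroup.iff_card.mp hG)
  -- counting
  let s : Finset G := Finset.univ.filter (fun x => x ≠ 1)
  let t : Finset G := Finset.univ.filter (fun w => w ≠ 1 ∧ w ^ 2 = 1)
  have hmaps : ∀ x ∈ s, inv2 x ∈ t := by
    intro x hx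
    have hx1 : x ≠ 1 := (Finset.mem_filter.mp hx).2
    exact Finset.mem_filter.mpr ⟨Finset.mem_univ _, inv2_ne_one hG hx1, inv2_sq hG hx1⟩
  have hcount := Finset.card_eq_sum_card_fiberwise hmaps
  have hfib : ∀ b ∈ t, (s.filter (fun x => inv2 x = b)).card = (s.filter (fun x => inv2 x = z)).card := by
    intro b hb
    obtain ⟨-, hb1, hb2⟩ := Finset.mem_filter.mp hb
    obtain ⟨a, ha⟩ := htrans z b hz1 hz2 hb1 hb2
    symm
    apply Finset.card_bij (fun x _ => a x)
    · intro x hx
      obtain ⟨hxs, hxz⟩ := Finset.mem_filter.mp hx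
      have hx1 : x ≠ 1 := (Finset.mem_filter.mp hxs).2
      refine Finset.mem_filter.mpr ⟨Finset.mem_filter.mpr ⟨Finset.mem_univ _, ?_⟩, ?_⟩
      · intro h
        apply hx1
        have : a x = a 1 := by rw [h, map_one]
        exact a.injective this
      · rw [inv2_map, hxz, ha]
    · intro x _ y _ hxy
      exact a.injective hxy
    · intro y hy
      obtain ⟨hys, hyb⟩ := Finset.mem_filter.mp hy
      have hy1 : y ≠ 1 := (Finset.mem_filter.mp hys).2
      refine ⟨a.symm y, ?_, a.apply_symm_apply y⟩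
      refine Finset.mem_filter.mpr ⟨Finset.mem_filter.mpr ⟨Finset.mem_univ _, ?_⟩, ?_⟩
      · intro h
        apply hy1
        have : a (a.symm y) = a 1 := by rw [h]
        rw [a.apply_symm_apply, map_one] at this
        exact this
      · apply a.injective
        rw [← inv2_map, a.apply_symm_apply, hyb, ha]
  rw [Finset.sum_congr rfl hfib, Finset.sum_const, smul_eq_mul] at hcount
  -- cardinalities
  have hs_card : s.card = Nat.card G - 1 := by
    rw [Nat.card_eq_fintype_card, ← Finset.card_univ]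
    have : s = Finset.univ.erase 1 := by
      ext x
      simp only [s, Finset.mem_filter, Finset.mem_univ, true_and, Finset.mem_erase, and_true]
    rw [this, Finset.card_erase_of_mem (Finset.mem_univ _)]
  have ht_card : t.card = Nat.card Zs - 1 := by
    have h1 : Nat.card Zs = (Finset.univ.filter (fun w : G => w ^ 2 = 1)).card := by
      rw [← hZs_card, Nat.card_eq_fintype_card, Fintype.card_subtype]
    have : t = (Finset.univ.filter (fun w : G => w ^ 2 = 1)).erase 1 := by
      ext x
      simp only [t, Finset.mem_filter, Finset.mem_univ, true_and, Finset.mem_erase]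
    rw [this, Finset.card_erase_of_mem, h1]
    exact Finset.mem_filter.mpr ⟨Finset.mem_univ _, one_pow 2⟩
  rw [hs_card, ht_card, hN, hn] at hcount
  have hdvd : 2 ^ n - 1 ∣ 2 ^ N - 1 := ⟨_, hcount⟩
  obtain ⟨m, hm⟩ := dvd_of_pow_sub_one_dvd hdvd
  refine ⟨m, ?_⟩
  rw [hZs_card, hN, hn, ← pow_mul, hm]

end Cfsg.Agent.S3774
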