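import Cfsg.Statements.S3775
import Mathlib

set_option autoImplicit false
open Cfsg

namespace Cfsg.Agent.S3775

theorem exists_idem_iterate {A : Type*} [Finite A] (θ : A → A) :
    ∃ n : ℕ, 0 < n ∧ ∀ a, θ^[n] (θ^[n] a) = θ^[n] a := by
  obtain ⟨i, j, hij, h⟩ := Finite.exists_ne_map_eq_of_infinite (fun n : ℕ => θ^[n])
  wlog hlt : i < j generalizing i j
  · exact this j i hij.symm h.symm (lt_of_le_of_ne (not_lt.mp hlt) hij.symm)
  obtain ⟨d, rfl⟩ : ∃ d, j = i + d := ⟨j - i, by omega⟩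
  have hd : 0 < d := by omega
  replace h : θ^[i] = θ^[i + d] := h
  have h1 : ∀ t : ℕ, θ^[i + t * d] = θ^[i] := by
    intro t
    induction t with
    | zero => simp
    | succ t ih =>
      have e1 : i + (t + 1) * d = t * d + (i + d) := by ring
      rw [e1, Function.iterate_add, ← h, ← Function.iterate_add, add_comm]
      exact ih
  refine ⟨(i + 1) * d, by positivity, fun a => ?_⟩
  rw [← Function.iterate_add_apply]
  have hge : i ≤ (i + 1) * d := by nlinarith
  have e2 : (i + 1) * d + (i + 1) * d = ((i + 1) * d - i) + (i + (i + 1) * d) := by omega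
  rw [e2, Function.iterate_add, h1, ← Function.iterate_add]
  congr 2
  omega

theorem exists_extension {A : Type*} [CommGroup A] [Finite A] {p : ℕ} (hp : p.Prime) (e : ℕ)
    (he : 1 ≤ e) (hexp : ∀ a : A, a ^ p ^ e = 1) (M : Subgroup A)
    (hM : ∀ m ∈ M, ∃ d : A, d ^ p ^ (e - 1) = m) :
    ∃ π : A →* A, (∀ m ∈ M, π m = m) ∧ (∀ b : A, b ^ p = 1 → π b ∈ M) := by
  classical
  let P : Subgroup (A × A) → Prop := fun Γ =>
    (∀ m ∈ M, ((m, m) : A × A) ∈ Γ) ∧ (∀ y : A, ((1, y) : A × A) ∈ Γ → y = 1) ∧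
    (∀ z ∈ Γ, ∀ k : ℕ, 1 ≤ k → k ≤ e → z.1 ^ p ^ k = 1 →
      ∃ d : A, d ^ p ^ (e - k) = z.2 ∧ d ^ p ^ (e - 1) ∈ M)
  have hP0 : P (M.map ((MonoidHom.id A).prod (MonoidHom.id A))) := by
    refine ⟨fun m hm => ⟨m, hm, rfl⟩, ?_, ?_⟩
    · rintro y ⟨m, hm, h⟩
      simp only [MonoidHom.prod_apply, MonoidHom.id_apply, Prod.mk.injEq] at h
      rw [← h.2, h.1]
    · rintro z ⟨m, hm, rfl⟩ k hk1 hke _
      obtain ⟨d0, hd0⟩ := hM m hm
      refine ⟨d0 ^ p ^ (k - 1), ?_, ?_⟩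
      · simp only [MonoidHom.prod_apply, MonoidHom.id_apply]
        rw [← pow_mul, ← pow_add, show k - 1 + (e - k) = e - 1 by omega, hd0]
      · rw [← pow_mul, mul_comm, pow_mul, hd0]; exact M.pow_mem hm _
  obtain ⟨Γ, -, hΓ, hΓmax⟩ := Finite.exists_le_maximal hP0
  obtain ⟨hΓ1, hΓ2, hΓ3⟩ := hΓ
  -- projection onto first factor is everything
  have hsurj : ∀ a : A, ∃ y : A, ((a, y) : A × A) ∈ Γ := by
    by_contra hcon
    push Not at hcon
    have hex : ∃ k : ℕ, ∃ a : A, (∀ y : A, ((a, y) : A × A) ∉ Γ) ∧ a ^ p ^ k = 1 := by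
      obtain ⟨a, ha⟩ := hcon
      exact ⟨e, a, ha, hexp a⟩
    obtain ⟨k, ⟨a, haB, hak⟩, hkmin⟩ : ∃ k : ℕ, (∃ a : A, (∀ y : A, ((a, y) : A × A) ∉ Γ) ∧ a ^ p ^ k = 1) ∧
        ∀ k' < k, ¬ ∃ a : A, (∀ y : A, ((a, y) : A × A) ∉ Γ) ∧ a ^ p ^ k' = 1 :=
      ⟨Nat.find hex, Nat.find_spec hex, fun k' hk' => Nat.find_min hex hk'⟩
    have hmin : ∀ k' < k, ∀ a' : A, (∀ y : A, ((a', y) : A × A) ∉ Γ) → a' ^ p ^ k' ≠ 1 := by
      intro k' hk' a' ha' h1
      exact hkmin k' hk' ⟨a', ha', h1⟩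
    have hke : k ≤ e := by
      obtain ⟨a0, ha0⟩ := hcon
      by_contra hlt
      exact hkmin e (by omega) ⟨a0, ha0, hexp a0⟩
    have hk1 : 1 ≤ k := by
      rcases Nat.eq_zero_or_pos k with h0 | h0
      · exfalso
        rw [h0] at hak
        simp only [pow_zero, pow_one] at hak
        exact haB 1 (by rw [hak]; exact Γ.one_mem)
      · exact h0
    -- a^p is in the projection
    obtain ⟨y0, hy0⟩ : ∃ y0 : A, ((a ^ p, y0) : A × A) ∈ Γ := by
      by_contra hno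
      push Not at hno
      refine hmin (k - 1) (by omega) (a ^ p) hno ?_
      rw [← pow_mul, ← pow_succ', show k - 1 + 1 = k by omega]
      exact hak
    obtain ⟨d, hd1, hd2⟩ : ∃ d : A, d ^ p ^ (e - k + 1) = y0 ∧ d ^ p ^ (e - 1) ∈ M := by
      rcases Nat.eq_or_lt_of_le hk1 with h1 | h1
      · refine ⟨1, ?_, by simp⟩
        rw [one_pow]
        have : a ^ p = 1 := by rw [← h1] at hak; simpa using hak
        rw [this] at hy0
        exact (hΓ2 y0 hy0).symm
      · obtain ⟨d, hd1, hd2⟩ := hΓ3 _ hy0 (k - 1) (by omega) (by omega) (by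
          show (a ^ p) ^ p ^ (k - 1) = 1
          rw [← pow_mul, ← pow_succ', show k - 1 + 1 = k by omega]; exact hak)
        refine ⟨d, ?_, hd2⟩
        rw [show e - k + 1 = e - (k - 1) by omega]; exact hd1
    set c := d ^ p ^ (e - k) with hc
    have hcp : c ^ p = y0 := by
      rw [hc, ← pow_mul, ← pow_succ]; exact hd1
    have hacp : ((a, c) : A × A) ^ p = (a ^ p, y0) := by
      rw [Prod.pow_mk, hcp]
    -- the new graph
    have hK1 : ∀ j : ℤ, (p : ℤ) ∣ j → ((a, c) : A × A) ^ j ∈ Γ := by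
      rintro j ⟨j', rfl⟩
      rw [zpow_mul, zpow_natCast, hacp]
      exact Γ.zpow_mem hy0 _
    have hK2 : ∀ j : ℤ, ¬ (p : ℤ) ∣ j → ∀ g ∈ Γ, ∀ y : A, ((g.1 * a ^ j, y) : A × A) ∉ Γ := by
      intro j hj g hg y hy
      have hcop : IsCoprime (p : ℤ) j :=
        (Nat.prime_iff_prime_int.mp hp).coprime_iff_not_dvd.mpr hj
      obtain ⟨u, v, huv⟩ := hcop
      -- a = (a^p)^u * (a^j)^v
      have h1 : (((g.1 * a ^ j, y) : A × A) * g⁻¹) ∈ Γ := Γ.mul_mem hy (Γ.inv_mem hg)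
      have h2 : (((g.1 * a ^ j, y) : A × A) * g⁻¹).1 = a ^ j := by
        simp [mul_comm]
      have h3 := Γ.mul_mem (Γ.zpow_mem hy0 u) (Γ.zpow_mem h1 v)
      have hw1 : (((a ^ p, y0) : A × A) ^ u * (((g.1 * a ^ j, y) : A × A) * g⁻¹) ^ v).1 = a := by
        simp only [Prod.fst_mul, Prod.pow_fst, h2]
        rw [← zpow_natCast, ← zpow_mul, ← zpow_mul, ← zpow_add, mul_comm (p : ℤ) u, mul_comm j v,
          huv, zpow_one]
      refine haB (((a ^ p, y0) : A × A) ^ u * (((g.1 * a ^ j, y) : A × A) * g⁻¹) ^ v).2 ?_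
      have : ((a, (((a ^ p, y0) : A × A) ^ u * (((g.1 * a ^ j, y) : A × A) * g⁻¹) ^ v).2) : A × A)
          = ((a ^ p, y0) : A × A) ^ u * (((g.1 * a ^ j, y) : A × A) * g⁻¹) ^ v :=
        Prod.ext hw1.symm rfl
      rw [this]; exact h3
    have hmemΓ' : ∀ z : A × A, z ∈ Γ ⊔ Subgroup.zpowers ((a, c) : A × A) →
        ∃ g ∈ Γ, ∃ j : ℤ, z = g * ((a, c) : A × A) ^ j := by
      intro z hz
      obtain ⟨g, hg, w, hw, rfl⟩ := Subgroup.mem_sup.mp hz
      obtain ⟨j, rfl⟩ := Subgroup.mem_zpowers_iff.mp hw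
      exact ⟨g, hg, j, rfl⟩
    have hP' : P (Γ ⊔ Subgroup.zpowers ((a, c) : A × A)) := by
      refine ⟨fun m hm => (le_sup_left : Γ ≤ _) (hΓ1 m hm), ?_, ?_⟩
      · intro y hy
        obtain ⟨g, hg, j, hz⟩ := hmemΓ' _ hy
        by_cases hj : (p : ℤ) ∣ j
        · exact hΓ2 y (by rw [hz]; exact Γ.mul_mem hg (hK1 j hj))
        · exfalso
          have h1 : g.1 * a ^ j = 1 := by
            have := congrArg Prod.fst hz
            simpa using this.symm
          refine hK2 j hj g hg 1 ?_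
          rw [h1]; exact Γ.one_mem
      · intro z hz m hm1 hme hzm
        obtain ⟨g, hg, j, hzj⟩ := hmemΓ' _ hz
        by_cases hj : (p : ℤ) ∣ j
        · exact hΓ3 z (by rw [hzj]; exact Γ.mul_mem hg (hK1 j hj)) m hm1 hme hzm
        · have hz1 : z.1 = g.1 * a ^ j := by rw [hzj]; simp
          have hz2 : z.2 = g.2 * c ^ j := by rw [hzj]; simp
          have hkm : k ≤ m := by
            by_contra hlt
            refine hmin m (by omega) z.1 ?_ hzm
            intro y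
            rw [hz1]
            exact hK2 j hj g hg y
          have hapm : a ^ p ^ m = 1 := by
            rw [show m = k + (m - k) by omega, pow_add, pow_mul, hak, one_pow]
          have hgm : g.1 ^ p ^ m = 1 := by
            rw [hz1, mul_pow] at hzm
            have : (a ^ j) ^ p ^ m = 1 := by
              rw [← zpow_natCast, ← zpow_mul, mul_comm, zpow_mul, zpow_natCast, hapm, one_zpow]
            rwa [this, mul_one] at hzm
          obtain ⟨db, hdb1, hdb2⟩ := hΓ3 g hg m hm1 hme hgm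
          refine ⟨db * (d ^ p ^ (m - k)) ^ j, ?_, ?_⟩
          · rw [mul_pow, hdb1, hz2]
            congr 1
            rw [← zpow_natCast, ← zpow_mul, mul_comm, zpow_mul, zpow_natCast, ← pow_mul, ← pow_add,
              show m - k + (e - m) = e - k by omega]
          · rw [mul_pow]
            refine M.mul_mem hdb2 ?_
            rw [← zpow_natCast, ← zpow_mul, mul_comm, zpow_mul, zpow_natCast, ← pow_mul, mul_comm,
              pow_mul]
            exact M.zpow_mem (M.pow_mem hd2 _) _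
    have hle : Γ ⊔ Subgroup.zpowers ((a, c) : A × A) ≤ Γ := hΓmax hP' le_sup_left
    exact haB c (hle ((le_sup_right : Subgroup.zpowers ((a, c) : A × A) ≤ _)
      (Subgroup.mem_zpowers _)))
  have hbij : Function.Bijective (Prod.fst ∘ Γ.subtype) := by
    constructor
    · rintro ⟨z1, hz1⟩ ⟨z2, hz2⟩ h
      simp only [Function.comp_apply, Subgroup.coe_subtype] at h
      have h1 : z1 * z2⁻¹ ∈ Γ := Γ.mul_mem hz1 (Γ.inv_mem hz2)
      have h2 : z1 * z2⁻¹ = (1, (z1 * z2⁻¹).2) := by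
        refine Prod.ext ?_ rfl
        simp [h]
      rw [h2] at h1
      have h3 := hΓ2 _ h1
      have h4 : z1 * z2⁻¹ = 1 := by rw [h2, h3]; rfl
      exact Subtype.ext (mul_inv_eq_one.mp h4)
    · intro a
      obtain ⟨y, hy⟩ := hsurj a
      exact ⟨⟨(a, y), hy⟩, rfl⟩
  obtain ⟨f, hf⟩ := Subgroup.exists_eq_graph hbij
  have hfmem : ∀ a y : A, ((a, y) : A × A) ∈ Γ ↔ f a = y := by
    intro a y
    rw [hf]; exact MonoidHom.mem_graph
  refine ⟨f, fun m hm => (hfmem m m).mp (hΓ1 m hm), fun b hb => ?_⟩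
  obtain ⟨d, hd1, hd2⟩ := hΓ3 (b, f b) ((hfmem b (f b)).mpr rfl) 1 le_rfl he (by simpa using hb)
  rw [← show d ^ p ^ (e - 1) = f b from hd1]
  exact hd2

theorem exists_avg {V G : Type*} [CommGroup V] [Finite V] [Group G] [Fintype G]
    [MulDistribMulAction G V] (hcop : (Fintype.card G).Coprime (Nat.card V)) (M W : Subgroup V)
    (hMinv : ∀ g : G, ∀ u ∈ M, g • u ∈ M) (hWinv : ∀ g : G, ∀ u ∈ W, g • u ∈ W) (π : V →* V)
    (hπW : ∀ v ∈ W, π v ∈ M) (hπid : ∀ u ∈ M, π u = u) :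
    ∃ θ : V →* V, (∀ v ∈ W, θ v ∈ M) ∧ (∀ u ∈ M, θ u = u) ∧
      ∀ (g : G) (v : V), θ (g • v) = g • θ v := by
  classical
  obtain ⟨m, hm⟩ : ∃ m : ℕ, (Fintype.card G * m) % Nat.card V = 1 % Nat.card V := by
    have hpos : 0 < Nat.card V := Nat.card_pos
    rcases Nat.lt_or_ge 1 (Nat.card V) with h1 | h1
    · obtain ⟨m, -, hm⟩ := Nat.exists_mul_mod_eq_one_of_coprime hcop h1
      exact ⟨m, by rw [hm, Nat.mod_eq_of_lt h1]⟩
    · have : Nat.card V = 1 := by omega
      exact ⟨0, by rw [this, Nat.mod_one, Nat.mod_one]⟩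
  have hpow : ∀ v : V, v ^ (Fintype.card G * m) = v := by
    intro v
    rw [← pow_mod_natCard, hm, pow_mod_natCard, pow_one]
  let θ : V →* V :=
    { toFun := fun v => (∏ a : G, a • π (a⁻¹ • v)) ^ m
      map_one' := by simp
      map_mul' := fun x y => by
        simp only [smul_mul', map_mul, Finset.prod_mul_distrib, mul_pow] }
  have hθ : ∀ v, θ v = (∏ a : G, a • π (a⁻¹ • v)) ^ m := fun v => rfl
  refine ⟨θ, ?_, ?_, ?_⟩
  · intro v hv
    rw [hθ]
    exact M.pow_mem (M.prod_mem fun a _ => hMinv a _ (hπW _ (hWinv a⁻¹ v hv))) m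
  · intro u hu
    rw [hθ]
    have : ∀ a : G, a • π (a⁻¹ • u) = u := by
      intro a
      rw [hπid _ (hMinv a⁻¹ u hu), smul_inv_smul]
    simp only [this, Finset.prod_const, Finset.card_univ]
    rw [← pow_mul, hpow]
  · intro b v
    rw [hθ, hθ, smul_pow']
    congr 1
    rw [Finset.smul_prod']
    refine Fintype.prod_equiv (Equiv.mulLeft b⁻¹) _ _ (fun a => ?_)
    simp only [Equiv.coe_mulLeft, mul_inv_rev, inv_inv, mul_smul, smul_inv_smul]

/-- Let A be a finite abelian p-group and X a group of automorphisms of A of order prime to p. Call a subgroup of A invariant when every element of X maps it onto itself. Then the following are equivalent: (i) A is not the direct product of two nontrivial invariant subgroups; (ii) every invariant subgroup of A is one of the subgroups Ω_i(A) = {a : a^(p^i) = 1}; (iii) the subgroup Ω₁(A) of elements of order dividing p has no invariant subgroups other than 1 and itself. -/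
theorem result {A : Type*} [CommGroup A] [Finite A] {p : ℕ} [Fact p.Prime] (hA : IsPGroup p A) (X : Subgroup (MulAut A)) (hX : (Nat.card X).Coprime p) : ((¬ ∃ B C : Subgroup A, B ≠ ⊥ ∧ C ≠ ⊥ ∧ (∀ x ∈ X, B.map x.toMonoidHom = B) ∧ (∀ x ∈ X, C.map x.toMonoidHom = C) ∧ B ⊓ C = ⊥ ∧ B ⊔ C = ⊤) ↔ (∀ B : Subgroup A, (∀ x ∈ X, B.map x.toMonoidHom = B) → ∃ i : ℕ, ∀ a : A, a ∈ B ↔ a ^ p ^ i = 1)) ∧ ((∀ B : Subgroup A, (∀ x ∈ X, B.map x.toMonoidHom = B) → ∃ i : ℕ, ∀ a : A, a ∈ B ↔ a ^ p ^ i = 1) ↔ (∀ B : Subgroup A, (∀ x ∈ X, B.map x.toMonoidHom = B) → (∀ b ∈ B, b ^ p = 1) → B = ⊥ ∨ ∀ a : A, a ∈ B ↔ a ^ p = 1)) := by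
  classical
  have hp : p.Prime := Fact.out
  have hinv_iff : ∀ B : Subgroup A, (∀ x ∈ X, B.map x.toMonoidHom = B) ↔
      (∀ x ∈ X, ∀ b ∈ B, x b ∈ B) := by
    intro B
    constructor
    · intro h x hx b hb
      have : x b ∈ B.map x.toMonoidHom := ⟨b, hb, rfl⟩
      rwa [h x hx] at this
    · intro h x hx
      apply le_antisymm
      · rintro _ ⟨b, hb, rfl⟩
        exact h x hx b hb
      · intro b hb
        refine ⟨x⁻¹ b, h x⁻¹ (X.inv_mem hx) b hb, ?_⟩
        simp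
  obtain ⟨n, hn⟩ := hA.exists_card_eq
  have hexpA : ∀ a : A, a ^ p ^ n = 1 := fun a => by rw [← hn]; exact pow_card_eq_one'
  have h12 : (∀ B : Subgroup A, (∀ x ∈ X, B.map x.toMonoidHom = B) →
      ∃ i : ℕ, ∀ a : A, a ∈ B ↔ a ^ p ^ i = 1) →
      ¬ ∃ B C : Subgroup A, B ≠ ⊥ ∧ C ≠ ⊥ ∧ (∀ x ∈ X, B.map x.toMonoidHom = B) ∧
        (∀ x ∈ X, C.map x.toMonoidHom = C) ∧ B ⊓ C = ⊥ ∧ B ⊔ C = ⊤ := by
    rintro h2 ⟨B, C, hB, hC, hBi, hCi, hBC, -⟩
    obtain ⟨i, hi⟩ := h2 B hBi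
    obtain ⟨j, hj⟩ := h2 C hCi
    rcases le_total i j with hij | hij
    · apply hB
      rw [eq_bot_iff, ← hBC]
      intro a ha
      refine ⟨ha, (hj a).mpr ?_⟩
      rw [show j = i + (j - i) by omega, pow_add, pow_mul, (hi a).mp ha, one_pow]
    · apply hC
      rw [eq_bot_iff, ← hBC]
      intro a ha
      refine ⟨(hi a).mpr ?_, ha⟩
      rw [show i = j + (i - j) by omega, pow_add, pow_mul, (hj a).mp ha, one_pow]
  have h23 : (∀ B : Subgroup A, (∀ x ∈ X, B.map x.toMonoidHom = B) →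
      ∃ i : ℕ, ∀ a : A, a ∈ B ↔ a ^ p ^ i = 1) →
      (∀ B : Subgroup A, (∀ x ∈ X, B.map x.toMonoidHom = B) → (∀ b ∈ B, b ^ p = 1) →
        B = ⊥ ∨ ∀ a : A, a ∈ B ↔ a ^ p = 1) := by
    intro h2 B hBi hBp
    obtain ⟨i, hi⟩ := h2 B hBi
    rcases Nat.eq_zero_or_pos i with h0 | h0
    · left
      rw [eq_bot_iff]
      intro a ha
      have := (hi a).mp ha
      rw [h0] at this
      simpa using this
    · right
      intro a
      refine ⟨hBp a, fun ha => (hi a).mpr ?_⟩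
      rw [show i = 1 + (i - 1) by omega, pow_add, pow_one, pow_mul, ha, one_pow]
  have h32 : (∀ B : Subgroup A, (∀ x ∈ X, B.map x.toMonoidHom = B) → (∀ b ∈ B, b ^ p = 1) →
        B = ⊥ ∨ ∀ a : A, a ∈ B ↔ a ^ p = 1) →
      (∀ B : Subgroup A, (∀ x ∈ X, B.map x.toMonoidHom = B) →
      ∃ i : ℕ, ∀ a : A, a ∈ B ↔ a ^ p ^ i = 1) := by
    intro h3
    have key : ∀ k : ℕ, ∀ B : Subgroup A, (∀ x ∈ X, B.map x.toMonoidHom = B) →
        (∀ b ∈ B, b ^ p ^ k = 1) → ∃ i : ℕ, ∀ a : A, a ∈ B ↔ a ^ p ^ i = 1 := by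
      intro k
      induction k with
      | zero =>
        intro B _ hB
        refine ⟨0, fun a => ⟨fun ha => hB a ha, fun ha => ?_⟩⟩
        simp only [pow_zero, pow_one] at ha
        rw [ha]; exact B.one_mem
      | succ k ih =>
        intro B hBi hB
        by_cases hbot : B = ⊥
        · refine ⟨0, fun a => ?_⟩
          rw [hbot, Subgroup.mem_bot]; simp
        have hBi' := (hinv_iff B).mp hBi
        have hBp_inv : ∀ x ∈ X, (B.map (powMonoidHom p : A →* A)).map x.toMonoidHom =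
            B.map (powMonoidHom p : A →* A) := by
          rw [hinv_iff]
          rintro x hx _ ⟨b, hb, rfl⟩
          exact ⟨x b, hBi' x hx b hb, by simp [powMonoidHom_apply, map_pow]⟩
        have hBp_exp : ∀ b ∈ B.map (powMonoidHom p : A →* A), b ^ p ^ k = 1 := by
          rintro _ ⟨b, hb, rfl⟩
          rw [powMonoidHom_apply, ← pow_mul, ← pow_succ']
          exact hB b hb
        obtain ⟨j, hj⟩ := ih _ hBp_inv hBp_exp
        obtain ⟨c, hcB, hc1, hcp⟩ : ∃ c ∈ B, c ≠ 1 ∧ c ^ p = 1 := by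
          obtain ⟨b, hb1⟩ := (Subgroup.ne_bot_iff_exists_ne_one).mp hbot
          have hbB' : (b : A) ∈ B := b.2
          have hex : ∃ t, (b : A) ^ p ^ t = 1 := ⟨k + 1, hB b hbB'⟩
          obtain ⟨t, ht, htmin⟩ : ∃ t, (b : A) ^ p ^ t = 1 ∧ ∀ t' < t, ¬ (b : A) ^ p ^ t' = 1 :=
            ⟨Nat.find hex, Nat.find_spec hex, fun t' ht' => Nat.find_min hex ht'⟩
          have ht1 : 1 ≤ t := by
            rcases Nat.eq_zero_or_pos t with h0 | h0
            · exfalso
              rw [h0] at ht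
              simp only [pow_zero, pow_one] at ht
              exact hb1 (Subtype.ext ht)
            · exact h0
          refine ⟨(b : A) ^ p ^ (t - 1), B.pow_mem hbB' _, htmin (t - 1) (by omega), ?_⟩
          rw [← pow_mul, ← pow_succ, show t - 1 + 1 = t by omega]; exact ht
        have hΩ : ∀ a : A, a ^ p = 1 → a ∈ B := by
          have hinf_inv : ∀ x ∈ X, (B ⊓ (powMonoidHom p : A →* A).ker).map x.toMonoidHom =
              B ⊓ (powMonoidHom p : A →* A).ker := by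
            rw [hinv_iff]
            rintro x hx b ⟨hb1, hb2⟩
            refine ⟨hBi' x hx b hb1, ?_⟩
            have hb2' : b ^ p = 1 := hb2
            show (x b) ^ p = 1
            rw [← map_pow, hb2', map_one]
          rcases h3 _ hinf_inv (fun b hb => hb.2) with h | h
          · exfalso
            apply hc1
            have : c ∈ B ⊓ (powMonoidHom p : A →* A).ker :=
              ⟨hcB, hcp⟩
            rw [h] at this
            exact this
          · intro a ha; exact ((h a).mpr ha).1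
        refine ⟨j + 1, fun a => ⟨fun ha => ?_, fun ha => ?_⟩⟩
        · have h1 : a ^ p ∈ B.map (powMonoidHom p : A →* A) := ⟨a, ha, rfl⟩
          have h2 := (hj _).mp h1
          rw [pow_succ', pow_mul]; exact h2
        · have h1 : (a ^ p) ^ p ^ j = 1 := by rw [← pow_mul, ← pow_succ']; exact ha
          obtain ⟨b, hb, hbp⟩ := (hj _).mpr h1
          have hbp' : b ^ p = a ^ p := hbp
          have h2 : (a * b⁻¹) ^ p = 1 := by
            rw [mul_pow, inv_pow, hbp', mul_inv_cancel]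
          have h3 := B.mul_mem (hΩ _ h2) hb
          simpa using h3
    intro B hBi
    exact key n B hBi (fun b _ => hexpA b)
  have h13 : (¬ ∃ B C : Subgroup A, B ≠ ⊥ ∧ C ≠ ⊥ ∧ (∀ x ∈ X, B.map x.toMonoidHom = B) ∧
        (∀ x ∈ X, C.map x.toMonoidHom = C) ∧ B ⊓ C = ⊥ ∧ B ⊔ C = ⊤) →
      (∀ B : Subgroup A, (∀ x ∈ X, B.map x.toMonoidHom = B) → (∀ b ∈ B, b ^ p = 1) →
        B = ⊥ ∨ ∀ a : A, a ∈ B ↔ a ^ p = 1) := by
    intro h1 B1 hB1i hB1p
    by_contra hcon
    rw [not_or] at hcon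
    obtain ⟨hB1bot, hB1ne⟩ := hcon
    have hB1ne' : ∃ a : A, a ^ p = 1 ∧ a ∉ B1 := by
      by_contra hno
      push Not at hno
      exact hB1ne (fun a => ⟨hB1p a, hno a⟩)
    have hex : ∃ e, ∀ a : A, a ^ p ^ e = 1 := ⟨n, hexpA⟩
    obtain ⟨e, he, hemin⟩ : ∃ e, (∀ a : A, a ^ p ^ e = 1) ∧
        ∀ e' < e, ¬ ∀ a : A, a ^ p ^ e' = 1 :=
      ⟨Nat.find hex, Nat.find_spec hex, fun e' he' => Nat.find_min hex he'⟩
    have he1 : 1 ≤ e := by
      rcases Nat.eq_zero_or_pos e with h0 | h0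
      · exfalso
        apply hB1bot
        rw [eq_bot_iff]
        intro a _
        have := he a
        rw [h0] at this
        simpa using this
      · exact h0
    have hQne : (powMonoidHom (p ^ (e - 1)) : A →* A).range ≠ ⊥ := by
      intro hQb
      apply hemin (e - 1) (by omega)
      intro a
      have : a ^ p ^ (e - 1) ∈ (powMonoidHom (p ^ (e - 1)) : A →* A).range := ⟨a, rfl⟩
      rw [hQb] at this
      exact this
    have hQinv : ∀ x ∈ X, ∀ q ∈ (powMonoidHom (p ^ (e - 1)) : A →* A).range,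
        x q ∈ (powMonoidHom (p ^ (e - 1)) : A →* A).range := by
      rintro x hx _ ⟨a, rfl⟩
      exact ⟨x a, by simp [powMonoidHom_apply, map_pow]⟩
    obtain ⟨M, hMinv, hMbot, hMQ, hMne⟩ : ∃ M : Subgroup A, (∀ x ∈ X, ∀ m ∈ M, x m ∈ M) ∧
        M ≠ ⊥ ∧ M ≤ (powMonoidHom (p ^ (e - 1)) : A →* A).range ∧
        ∃ a : A, a ^ p = 1 ∧ a ∉ M := by
      by_cases hQΩ : ∀ a : A, a ^ p = 1 → a ∈ (powMonoidHom (p ^ (e - 1)) : A →* A).range
      · exact ⟨B1, (hinv_iff B1).mp hB1i, hB1bot, fun b hb => hQΩ b (hB1p b hb), hB1ne'⟩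
      · push Not at hQΩ
        exact ⟨_, hQinv, hQne, le_rfl, hQΩ⟩
    obtain ⟨π, hπ1, hπ2⟩ := exists_extension hp e he1 he M (fun m hm => by
      obtain ⟨d, hd⟩ := hMQ hm
      exact ⟨d, hd⟩)
    letI : Fintype X := Fintype.ofFinite X
    have hcop : (Fintype.card X).Coprime (Nat.card A) := by
      rw [hn, ← Nat.card_eq_fintype_card]
      exact Nat.Coprime.pow_right n hX
    obtain ⟨θ, hθ1, hθ2, hθ3⟩ := exists_avg (G := X) hcop M (powMonoidHom p : A →* A).ker
      (fun g u hu => hMinv g g.2 u hu) (fun g u hu => by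
        rw [MonoidHom.mem_ker, powMonoidHom_apply] at hu ⊢
        rw [← smul_pow', hu, smul_one]) π (fun v hv => hπ2 v (by
        rwa [MonoidHom.mem_ker, powMonoidHom_apply] at hv)) hπ1
    replace hθ1 : ∀ b : A, b ^ p = 1 → θ b ∈ M := fun b hb =>
      hθ1 b (by rw [MonoidHom.mem_ker, powMonoidHom_apply]; exact hb)
    obtain ⟨N, hN, hidem⟩ := exists_idem_iterate θ
    let ε : A →* A :=
      { toFun := θ^[N]
        map_one' := iterate_map_one θ N
        map_mul' := iterate_map_mul θ N }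
    have hε : ∀ a, ε a = θ^[N] a := fun a => rfl
    have hε_idem : ∀ a, ε (ε a) = ε a := hidem
    have hε_M : ∀ m ∈ M, ε m = m := by
      intro m hm
      rw [hε]
      exact Function.iterate_fixed (hθ2 m hm) N
    have hε_Ω : ∀ b : A, b ^ p = 1 → ε b ∈ M := by
      intro b hb
      rw [hε]
      obtain ⟨N', rfl⟩ : ∃ N', N = N' + 1 := ⟨N - 1, by omega⟩
      rw [Function.iterate_succ_apply, Function.iterate_fixed (hθ2 _ (hθ1 b hb))]
      exact hθ1 b hb
    have hε_eq : ∀ x ∈ X, ∀ a : A, ε (x a) = x (ε a) := by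
      intro x hx a
      rw [hε, hε]
      have hcomm : Function.Commute (fun a : A => x a) θ := fun a => (hθ3 ⟨x, hx⟩ a).symm
      exact ((hcomm.iterate_right N) a).symm
    refine h1 ⟨ε.range, ε.ker, ?_, ?_, ?_, ?_, ?_, ?_⟩
    · intro hbot
      obtain ⟨m, hm1⟩ := (Subgroup.ne_bot_iff_exists_ne_one).mp hMbot
      apply hm1
      have : (m : A) ∈ ε.range := ⟨m, hε_M m m.2⟩
      rw [hbot] at this
      exact Subtype.ext this
    · intro hbot
      obtain ⟨b, hbp, hbM⟩ := hMne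
      have : b * (ε b)⁻¹ ∈ ε.ker := by
        rw [MonoidHom.mem_ker, map_mul, map_inv, hε_idem, mul_inv_cancel]
      rw [hbot, Subgroup.mem_bot, mul_inv_eq_one] at this
      apply hbM
      rw [this]
      exact hε_Ω b hbp
    · rw [hinv_iff]
      rintro x hx _ ⟨a, rfl⟩
      exact ⟨x a, hε_eq x hx a⟩
    · rw [hinv_iff]
      intro x hx a ha
      rw [MonoidHom.mem_ker] at ha ⊢
      rw [hε_eq x hx, ha, map_one]
    · rw [eq_bot_iff]
      rintro a ⟨⟨b, rfl⟩, ha⟩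
      have ha' : ε (ε b) = 1 := ha
      rw [hε_idem] at ha'
      exact ha'
    · rw [eq_top_iff]
      intro a _
      rw [Subgroup.mem_sup]
      refine ⟨ε a, ⟨a, rfl⟩, (ε a)⁻¹ * a, ?_, by group⟩
      rw [MonoidHom.mem_ker, map_mul, map_inv, hε_idem, inv_mul_cancel]
  exact ⟨⟨fun h => h32 (h13 h), h12⟩, ⟨h23, h32⟩⟩

end Cfsg.Agent.S3775
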