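import Cfsg.Statements.S3778
import Cfsg.Agent.Lib.Helper75.Breadth

set_option autoImplicit false
open Cfsg

namespace Cfsg.Agent.S3778

open Cfsg.Agent.Lib.Helper75.Breadth
open scoped commutatorElement

theorem arith1 (p k n m b : ℕ) (hp : 2 ≤ p) (hnm : n + m = k) (hm : m ≤ b) (hn : p * n < k) :
    k * (p - 1) < b * p := by
  obtain ⟨q, rfl⟩ : ∃ q, p = q + 1 := ⟨p - 1, by omega⟩
  simp only [Nat.add_sub_cancel]
  subst hnm
  have h1 : q * n < m := by nlinarith
  have h2 : m * (q + 1) ≤ b * (q + 1) := Nat.mul_le_mul_right _ hm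
  nlinarith

theorem arith2 (p k b : ℕ) (hp : 2 ≤ p) (h : k * (p - 1) < b * p) : k + 1 ≤ 2 * b := by
  obtain ⟨q, rfl⟩ : ∃ q, p = q + 2 := ⟨p - 2, by omega⟩
  have : q + 2 - 1 = q + 1 := by omega
  rw [this] at h
  by_contra hcon
  have hk : 2 * b ≤ k := by omega
  have h1 : 2 * b * (q + 1) ≤ k * (q + 1) := Nat.mul_le_mul_right _ hk
  nlinarith

/-- If G is a finite p-group in which every conjugacy class has at most p^b elements (every element has centralizer of index at most p^b), then G is abelian when b = 0, and when b ≥ 1 its nilpotency class c satisfies (c − 1)(p − 1) < bp, that is c < bp/(p − 1) + 1, and hence c ≤ 2b. -/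
theorem result {G : Type*} [Group G] [Finite G] {p : ℕ} [Fact p.Prime] (hG : IsPGroup p G) (b : ℕ) (hb : ∀ x : G, (Subgroup.centralizer ({x} : Set G)).index ≤ p ^ b) : ∃ c : ℕ, (⊤ : Subgroup G).lowerCentralSeries c = ⊥ ∧ (b ≠ 0 → (c - 1) * (p - 1) < b * p ∧ c ≤ 2 * b) ∧ (b = 0 → c ≤ 1) := by
  classical
  have hpp : p.Prime := Fact.out
  have hnil : Group.IsNilpotent G := hG.isNilpotent
  have hex : ∃ n, L G n = ⊥ := Subgroup.nilpotent_iff_lowerCentralSeries.mp hnil
  have hc : L G (Nat.find hex) = ⊥ := Nat.find_spec hex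
  have hmin : ∀ m < Nat.find hex, L G m ≠ ⊥ := fun m hm => Nat.find_min hex hm
  refine ⟨Nat.find hex, hc, ?_, ?_⟩
  · intro hb0
    by_cases hc2 : 2 ≤ Nat.find hex
    · have hprop : ∀ j < Nat.find hex - 1, twoStep G j ≠ ⊤ :=
        fun j hj => twoStep_ne_top hc hmin (by omega)
      obtain ⟨g, hg⟩ := exists_small hG (Nat.find hex) hc2 hprop
      have h1 := card_filter_le hG b hb g (Nat.find hex - 1)
      have h2 := Finset.card_filter_add_card_filter_not
        (s := Finset.range (Nat.find hex - 1)) (fun j => g ∈ twoStep G j)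
      rw [Finset.card_range] at h2
      have h3 := arith1 p (Nat.find hex - 1) _ _ b hpp.two_le h2 h1 hg
      refine ⟨h3, ?_⟩
      have h4 := arith2 p (Nat.find hex - 1) b hpp.two_le h3
      omega
    · have hc1 : Nat.find hex - 1 = 0 := by omega
      rw [hc1, zero_mul]
      refine ⟨Nat.mul_pos (Nat.pos_of_ne_zero hb0) hpp.pos, ?_⟩
      have : 1 ≤ b := Nat.pos_of_ne_zero hb0
      omega
  · intro hb0
    apply Nat.find_min' hex
    show ⁅(⊤ : Subgroup G), (⊤ : Subgroup G)⁆ = ⊥
    rw [eq_bot_iff, Subgroup.commutator_le]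
    intro x _ y _
    rw [Subgroup.mem_bot, commutatorElement_eq_one_iff_mul_comm]
    have h1 := hb y
    rw [hb0, pow_zero] at h1
    have h2 : (Subgroup.centralizer ({y} : Set G)).index = 1 := by
      have : (Subgroup.centralizer ({y} : Set G)).index ≠ 0 := Subgroup.index_ne_zero_of_finite
      omega
    have h3 := Subgroup.index_eq_one.mp h2
    have h4 : x ∈ Subgroup.centralizer ({y} : Set G) := by rw [h3]; exact Subgroup.mem_top x
    exact Subgroup.mem_centralizer_singleton_iff.mp h4

end Cfsg.Agent.S3778
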