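import Cfsg.Statements.S3779
-- import your own Cfsg.Agent.* helpers here
import Cfsg.Agent.S0033
import Cfsg.Agent.Lib.Helper12.KKNilp
import Cfsg.Agent.Lib.Helper19.KKLoop
import Cfsg.Agent.Lib.Helper04.KKAL

set_option autoImplicit false
open Cfsg

namespace Cfsg.Agent.S3779

open Cfsg.Agent.Lib.Helper12.KK

/-- Let G be a finite group with an automorphism of prime order p fixing only the identity. Then G is nilpotent; if p = 2 then G is abelian, if p = 3 then G has class at most 2, and in general the class of G is at most ξ = 1 + (p−1) + (p−1)² + ⋯ + (p−1)^(n−1) with n = 2^(p−1) − 1 (the Higman–Kreknin–Kostrikin bound). -/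
theorem result {G : Type*} [Group G] [Finite G] {p : ℕ} (hp : p.Prime) (α : MulAut G) (hα : orderOf α = p) (hfpf : ∀ g : G, α g = g → g = 1) : (p = 2 → (⊤ : Subgroup G).lowerCentralSeries 1 = ⊥) ∧ (p = 3 → (⊤ : Subgroup G).lowerCentralSeries 2 = ⊥) ∧ (⊤ : Subgroup G).lowerCentralSeries (Finset.sum (Finset.range (2 ^ (p - 1) - 1)) (fun i => (p - 1) ^ i)) = ⊥ := by
  have hα' : α ^ p = 1 := by rw [← hα]; exact pow_orderOf_eq_one α
  have hnil : Group.IsNilpotent G := Cfsg.Agent.S0033.result α hfpf p hp hα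
  obtain ⟨L, instL, φ, h1, h2, h3, h4, h5, h6⟩ :=
    Cfsg.Agent.Lib.Helper04.KK.exists_lie_ring G p hp α hα' hfpf hnil
  have hpf : Fact p.Prime := ⟨hp⟩
  have key : ∀ c : ℕ, (∀ (L' : Type _) [LieRing L'] (F : GFam p L'), lcsFrom F.tot c = ⊥) →
      (⊤ : Subgroup G).lowerCentralSeries c = ⊥ := fun c H =>
    h6 c (Cfsg.Agent.Lib.Helper19.KK.lcs_eq_bot_of_regular p φ h1 h2 h3 h4 h5 c H)
  have hmain : (⊤ : Subgroup G).lowerCentralSeries
      (Finset.sum (Finset.range (2 ^ (p - 1) - 1)) (fun i => (p - 1) ^ i)) = ⊥ :=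
    key _ (fun L' _ F => lcs_bound p F)
  refine ⟨?_, ?_, hmain⟩
  · intro hp2
    subst hp2
    simpa using hmain
  · intro hp3
    subst hp3
    exact key 2 (fun L' _ F => lcs_two_of_three F)

end Cfsg.Agent.S3779
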