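import Cfsg.Statements.S3780
import Cfsg.Agent.S0012
import Mathlib.Tactic
-- import your own Cfsg.Agent.* helpers here

set_option autoImplicit false
open Cfsg

namespace Cfsg.Agent.S3780

section additive

variable {M : Type*} [AddCommGroup M]

/-- kernel of an endomorphism -/
def kerE (f : AddMonoid.End M) : AddSubgroup M where
  carrier := {w | f w = 0}
  zero_mem' := map_zero f
  add_mem' := fun {x y} hx hy => by
    have hx' : f x = 0 := hx
    have hy' : f y = 0 := hy
    show f (x + y) = 0
    rw [map_add, hx', hy', add_zero]
  neg_mem' := fun {x} hx => by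
    have hx' : f x = 0 := hx
    show f (-x) = 0
    rw [map_neg, hx', neg_zero]

theorem mem_kerE (f : AddMonoid.End M) (w : M) : w ∈ kerE f ↔ f w = 0 := Iff.rfl

/-- the kernel of a composite is at most the product of the kernels -/
theorem card_ker_comp_le [Finite M] (f g : AddMonoid.End M) :
    Nat.card (kerE (f * g)) ≤ Nat.card (kerE g) * Nat.card (kerE f) := by
  classical
  set K : AddSubgroup M := kerE (f * g) with hK
  let g' : K →+ M := AddMonoidHom.mk' (fun x : K => g (x : M)) (fun x y => map_add g _ _)
  have hg' : ∀ x : K, g' x = g (x : M) := fun _ => rfl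
  have h1 : Nat.card g'.ker * g'.ker.index = Nat.card K := AddSubgroup.card_mul_index _
  have h2 : g'.ker.index = Nat.card g'.range := AddSubgroup.index_ker g'
  have h3 : Nat.card g'.range ≤ Nat.card (kerE f) := by
    apply AddSubgroup.card_le_of_le
    rintro _ ⟨x, rfl⟩
    have hx : (x : M) ∈ kerE (f * g) := x.2
    rw [mem_kerE] at hx
    rw [mem_kerE, hg']
    exact hx
  have h4 : Nat.card g'.ker ≤ Nat.card (kerE g) := by
    have hinj : Function.Injective (fun x : g'.ker => (⟨((x : K) : M), by
        have := x.2
        rw [AddMonoidHom.mem_ker, hg'] at this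
        rw [mem_kerE]
        exact this⟩ : kerE g)) := by
      intro x y hxy
      have : ((x : K) : M) = ((y : K) : M) := congrArg (fun z : kerE g => (z : M)) hxy
      exact Subtype.ext (Subtype.ext this)
    exact Nat.card_le_card_of_injective _ hinj
  calc Nat.card K = Nat.card g'.ker * Nat.card g'.range := by rw [← h1, h2]
    _ ≤ Nat.card (kerE g) * Nat.card (kerE f) := Nat.mul_le_mul h4 h3

theorem card_ker_pow_le [Finite M] (f : AddMonoid.End M) (k : ℕ) :
    Nat.card (kerE (f ^ k)) ≤ (Nat.card (kerE f)) ^ k := by
  induction k with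
  | zero =>
    rw [pow_zero, pow_zero]
    have : kerE (1 : AddMonoid.End M) = ⊥ := by
      ext x
      rw [mem_kerE, AddSubgroup.mem_bot]
      rfl
    rw [this, AddSubgroup.card_bot]
  | succ k ih =>
    rw [pow_succ']
    calc Nat.card (kerE (f * f ^ k))
        ≤ Nat.card (kerE (f ^ k)) * Nat.card (kerE f) := card_ker_comp_le f (f ^ k)
      _ ≤ (Nat.card (kerE f)) ^ k * Nat.card (kerE f) := Nat.mul_le_mul_right _ ih
      _ = (Nat.card (kerE f)) ^ (k + 1) := (pow_succ _ _).symm

/-- if `a ^ p = 1` then `(a - 1) ^ p` kills the elements of order dividing `p`. -/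
theorem sub_one_pow_apply {p : ℕ} (hp : p.Prime) (a : AddMonoid.End M) (ha : a ^ p = 1) (w : M)
    (hw : p • w = 0) : ((a - 1) ^ p : AddMonoid.End M) w = 0 := by
  obtain ⟨r, hr⟩ := Commute.exists_add_pow_prime_eq hp (Commute.one_right (a - 1))
  rw [sub_add_cancel, ha, one_pow] at hr
  have h2 := congrArg (fun e : AddMonoid.End M => e w) hr
  simp only [AddMonoid.End.coe_one, id_eq] at h2
  have h3 : ((a - 1) ^ p + 1 + (p : AddMonoid.End M) * (a - 1) * 1 * r : AddMonoid.End M) w
      = ((a - 1) ^ p : AddMonoid.End M) w + w + p • (((a - 1) * 1 * r : AddMonoid.End M) w) := by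
    rw [mul_assoc, mul_assoc]
    rfl
  rw [h3] at h2
  have h4 : p • (((a - 1) * 1 * r : AddMonoid.End M) w) = 0 := by
    rw [← map_nsmul, hw, map_zero]
  rw [h4, add_zero] at h2
  have : ((a - 1) ^ p : AddMonoid.End M) w + w = 0 + w := by rw [zero_add]; exact h2.symm
  exact add_right_cancel this

end additive

section gen

variable {V : Type*} [Group V] [Finite V] {p : ℕ} [Fact p.Prime]

theorem exists_gen (hV : IsPGroup p V) : ∀ (k : ℕ) (H : Subgroup V), H.index ≤ p ^ k →
    ∃ S : Finset V, S.card ≤ k ∧ H ⊔ Subgroup.closure (S : Set V) = ⊤ := by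
  classical
  have hp : p.Prime := Fact.out
  intro k
  induction k with
  | zero =>
    intro H hH
    refine ⟨∅, le_refl _, ?_⟩
    rw [pow_zero] at hH
    have h1 : H.index = 1 := le_antisymm hH (Nat.one_le_iff_ne_zero.mpr Subgroup.index_ne_zero_of_finite)
    rw [Subgroup.index_eq_one.mp h1]
    exact top_sup_eq _
  | succ k ih =>
    intro H hH
    by_cases htop : H = ⊤
    · refine ⟨∅, Nat.zero_le _, ?_⟩
      rw [htop]
      exact top_sup_eq _
    · obtain ⟨x, hx⟩ : ∃ x : V, x ∉ H := by
        by_contra hcon
        push Not at hcon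
        exact htop (eq_top_iff.mpr fun y _ => hcon y)
      set H' : Subgroup V := H ⊔ Subgroup.zpowers x with hH'
      have hlt : H < H' := by
        refine lt_of_le_of_ne le_sup_left ?_
        intro heq
        apply hx
        rw [heq]
        exact (le_sup_right : Subgroup.zpowers x ≤ H') (Subgroup.mem_zpowers x)
      have hidx : H'.index < H.index := Subgroup.index_strictAnti hlt
      have hdvd : H'.index ∣ H.index := Subgroup.index_dvd_of_le hlt.le
      obtain ⟨a, ha⟩ := hV.index H
      obtain ⟨b, hb⟩ := hV.index H'
      have hba : b < a := by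
        rw [ha, hb] at hidx
        exact (Nat.pow_lt_pow_iff_right hp.one_lt).mp hidx
      have hak : a ≤ k + 1 := by
        rw [ha] at hH
        exact (Nat.pow_le_pow_iff_right hp.one_lt).mp hH
      have hbk : H'.index ≤ p ^ k := by
        rw [hb]
        exact Nat.pow_le_pow_right hp.pos (by omega)
      obtain ⟨S, hS, hgen⟩ := ih H' hbk
      refine ⟨insert x S, (Finset.card_insert_le x S).trans (Nat.succ_le_succ hS), ?_⟩
      rw [Finset.coe_insert, Set.insert_eq, Subgroup.closure_union, ← Subgroup.zpowers_eq_closure,
        ← sup_assoc, ← hH']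
      exact hgen

end gen

/-- Let V be a finite abelian p-group and α an automorphism of V of order p whose fixed-point subgroup has order p^n. Then V can be generated by pn elements: some subset of V with at most pn elements generates V. -/
theorem result {V : Type*} [CommGroup V] [Finite V] {p : ℕ} [Fact p.Prime] (hV : IsPGroup p V) (α : MulAut V) (hα : orderOf α = p) (n : ℕ) (hfix : Nat.card {v : V // α v = v} = p ^ n) : ∃ S : Finset V, S.card ≤ p * n ∧ Subgroup.closure (S : Set V) = ⊤ := by
  classical
  have hp : p.Prime := Fact.out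
  -- the p-th power map
  let φ : V →* V := powMonoidHom p
  have hrange : φ.range ≤ frattini V := by
    rintro _ ⟨x, rfl⟩
    exact (Cfsg.Agent.S0012.result p hV).2 x
  -- index of the range equals the order of the kernel
  have hidx : φ.range.index = Nat.card φ.ker := by
    have h1 : Nat.card φ.ker * φ.ker.index = Nat.card V := Subgroup.card_mul_index _
    have h2 : Nat.card φ.range * φ.range.index = Nat.card V := Subgroup.card_mul_index _
    have h3 : φ.ker.index = Nat.card φ.range := Subgroup.index_ker φ
    rw [h3, mul_comm] at h1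
    have hpos : 0 < Nat.card φ.range := Nat.card_pos
    exact Nat.eq_of_mul_eq_mul_left hpos (h2.trans h1.symm)
  -- bound the kernel
  have hker : Nat.card φ.ker ≤ p ^ (p * n) := by
    -- additive version
    let a : AddMonoid.End (Additive V) := (α : V →* V).toAdditive
    have hapow : ∀ k : ℕ, ∀ v : V, (a ^ k : AddMonoid.End (Additive V)) (Additive.ofMul v)
        = Additive.ofMul ((α ^ k) v) := by
      intro k
      induction k with
      | zero => intro v; rfl
      | succ k ih =>
        intro v
        rw [pow_succ, pow_succ]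
        show (a ^ k : AddMonoid.End (Additive V)) (a (Additive.ofMul v)) = _
        have : a (Additive.ofMul v) = Additive.ofMul (α v) := rfl
        rw [this, ih]
        rfl
    have hαp : α ^ p = 1 := hα ▸ pow_orderOf_eq_one α
    have ha : a ^ p = 1 := by
      refine DFunLike.ext _ _ (fun v => ?_)
      have h1 := hapow p (Additive.toMul v)
      rw [hαp] at h1
      exact h1
    -- the kernel of φ injects into the kernel of (a - 1)^p
    have h1 : Nat.card φ.ker ≤ Nat.card (kerE ((a - 1) ^ p : AddMonoid.End (Additive V))) := by
      have hinj : Function.Injective (fun x : φ.ker =>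
          (⟨Additive.ofMul (x : V), by
            rw [mem_kerE]
            apply sub_one_pow_apply hp a ha
            have hx : (x : V) ^ p = 1 := x.2
            rw [← ofMul_pow, hx]
            rfl⟩ : kerE ((a - 1) ^ p : AddMonoid.End (Additive V)))) := by
        intro x y hxy
        have : Additive.ofMul (x : V) = Additive.ofMul (y : V) :=
          congrArg (fun z : kerE ((a - 1) ^ p : AddMonoid.End (Additive V)) =>
            (z : Additive V)) hxy
        exact Subtype.ext (Additive.ofMul.injective this)
      exact Nat.card_le_card_of_injective _ hinj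
    have h2 : Nat.card (kerE (a - 1 : AddMonoid.End (Additive V))) = p ^ n := by
      rw [← hfix]
      apply Nat.card_congr
      refine ⟨fun x => ⟨Additive.toMul (x : Additive V), ?_⟩,
        fun v => ⟨Additive.ofMul (v : V), ?_⟩, fun x => rfl, fun v => rfl⟩
      · have hx := x.2
        rw [mem_kerE] at hx
        have h : a (x : Additive V) - (x : Additive V) = 0 := hx
        have h' : a (x : Additive V) = (x : Additive V) := sub_eq_zero.mp h
        exact congrArg Additive.toMul h'
      · rw [mem_kerE]
        show a (Additive.ofMul (v : V)) - Additive.ofMul (v : V) = 0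
        have : a (Additive.ofMul (v : V)) = Additive.ofMul (α (v : V)) := rfl
        rw [this, v.2, sub_self]
    calc Nat.card φ.ker ≤ _ := h1
      _ ≤ (Nat.card (kerE (a - 1 : AddMonoid.End (Additive V)))) ^ p :=
          card_ker_pow_le _ p
      _ = p ^ (p * n) := by rw [h2, ← pow_mul, mul_comm]
  have hfr : (frattini V).index ≤ p ^ (p * n) := by
    have := Nat.le_of_dvd (Nat.pos_of_ne_zero Subgroup.index_ne_zero_of_finite)
      (Subgroup.index_dvd_of_le hrange)
    exact this.trans (hidx ▸ hker)
  obtain ⟨S, hS, hgen⟩ := exists_gen hV (p * n) (frattini V) hfr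
  refine ⟨S, hS, ?_⟩
  rw [sup_comm] at hgen
  exact frattini_nongenerating hgen

end Cfsg.Agent.S3780
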