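import Cfsg.Statements.S3781
import Cfsg.Agent.S4206
import Mathlib.Tactic
-- import your own Cfsg.Agent.* helpers here

set_option autoImplicit false
open Cfsg

namespace Cfsg.Agent.S3781

open scoped commutatorElement

section aux
variable {G : Type*} [Group G]

theorem sup_commutator_le (A B C : Subgroup G) [A.Normal] [B.Normal] [C.Normal] :
    ⁅A ⊔ B, C⁆ ≤ ⁅A, C⁆ ⊔ ⁅B, C⁆ := by
  rw [Subgroup.commutator_le]
  intro g hg c hc
  obtain ⟨a, ha, b, hb, rfl⟩ := Subgroup.mem_sup_of_normal_right.mp hg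
  rw [commutatorElement_mul_left_eq_conj_mul]
  have hn : (⁅B, C⁆).Normal := inferInstance
  have h1 : a * ⁅b, c⁆ * a⁻¹ ∈ ⁅B, C⁆ :=
    hn.conj_mem _ (Subgroup.commutator_mem_commutator hb hc) a
  have h2 : ⁅a, c⁆ ∈ ⁅A, C⁆ := Subgroup.commutator_mem_commutator ha hc
  exact Subgroup.mul_mem _ (Subgroup.mem_sup_right h1) (Subgroup.mem_sup_left h2)

theorem le_of_le_commutator_sup [hnil : Group.IsNilpotent G] (M K : Subgroup G) [M.Normal] [K.Normal]
    (h : M ≤ ⁅M, (⊤ : Subgroup G)⁆ ⊔ K) : M ≤ K := by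
  have key : ∀ k, M ≤ (⊤ : Subgroup G).lowerCentralSeries k ⊔ K := by
    intro k
    induction k with
    | zero =>
      rw [Subgroup.lowerCentralSeries_zero, top_sup_eq]
      exact le_top
    | succ k ih =>
      refine h.trans (sup_le ?_ le_sup_right)
      calc ⁅M, (⊤ : Subgroup G)⁆
          ≤ ⁅(⊤ : Subgroup G).lowerCentralSeries k ⊔ K, (⊤ : Subgroup G)⁆ :=
            Subgroup.commutator_mono ih le_rfl
        _ ≤ ⁅(⊤ : Subgroup G).lowerCentralSeries k, (⊤ : Subgroup G)⁆ ⊔ ⁅K, (⊤ : Subgroup G)⁆ :=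
            sup_commutator_le _ _ _
        _ ≤ (⊤ : Subgroup G).lowerCentralSeries (k + 1) ⊔ K :=
            sup_le_sup (le_of_eq rfl) (Subgroup.commutator_le_left K ⊤)
  obtain ⟨c, hc⟩ := Subgroup.nilpotent_iff_lowerCentralSeries.mp hnil
  have := key c
  rw [hc, bot_sup_eq] at this
  exact this

theorem card_mul_le_of_lt [Finite G] {p : ℕ} [Fact p.Prime] (hG : IsPGroup p G) {A B : Subgroup G}
    (hAB : A < B) : Nat.card A * p ≤ Nat.card B := by
  have hp : p.Prime := Fact.out
  obtain ⟨a, ha⟩ := IsPGroup.iff_card.mp (hG.to_subgroup A)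
  obtain ⟨b, hb⟩ := IsPGroup.iff_card.mp (hG.to_subgroup B)
  have hlt : Nat.card A < Nat.card B := by
    by_contra hcon
    push Not at hcon
    exact hAB.ne (Subgroup.eq_of_le_of_card_ge hAB.le hcon)
  rw [ha, hb] at hlt ⊢
  have hab : a < b := (Nat.pow_lt_pow_iff_right hp.one_lt).mp hlt
  rw [← pow_succ]
  exact Nat.pow_le_pow_right hp.pos hab

/-- iterated commutators with the whole group -/
def Hseq (K : Subgroup G) : ℕ → Subgroup G
  | 0 => K
  | k + 1 => ⁅Hseq K k, (⊤ : Subgroup G)⁆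

/-- iterated commutators with the whole group, modulo `K'` -/
def Dseq (K K' : Subgroup G) : ℕ → Subgroup G
  | 0 => K
  | k + 1 => ⁅Dseq K K' k, (⊤ : Subgroup G)⁆ ⊔ K'

theorem Hseq_normal (K : Subgroup G) [hK : K.Normal] : ∀ k, (Hseq K k).Normal
  | 0 => hK
  | k + 1 => by
    have := Hseq_normal K k
    show (⁅Hseq K k, (⊤ : Subgroup G)⁆).Normal
    infer_instance

theorem Dseq_normal (K K' : Subgroup G) [hK : K.Normal] [hK' : K'.Normal] :
    ∀ k, (Dseq K K' k).Normal
  | 0 => hK
  | k + 1 => by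
    have := Dseq_normal K K' k
    show (⁅Dseq K K' k, (⊤ : Subgroup G)⁆ ⊔ K').Normal
    infer_instance

end aux

/-- Let G be a finite p-group and n ≥ 1, and write γ_1(G) = G, γ_{k+1}(G) = [γ_k(G), G], and likewise γ_k(N) for a subgroup N. Let N be a normal subgroup of G contained in γ_n(G). If i > 1 and γ_{i+1}(N) ≠ 1, then |γ_i(N) : γ_{i+1}(N)| ≥ p^n. -/
theorem result {G : Type*} [Group G] [Finite G] {p : ℕ} [Fact p.Prime] (hG : IsPGroup p G) (n : ℕ) (hn : 1 ≤ n) (N : Subgroup G) [N.Normal] (hN : N ≤ (⊤ : Subgroup G).lowerCentralSeries (n - 1)) (i : ℕ) (hi : 1 < i) (hne : N.lowerCentralSeries i ≠ ⊥) : p ^ n ≤ (N.lowerCentralSeries i).relIndex (N.lowerCentralSeries (i - 1)) := by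
  classical
  have hp : p.Prime := Fact.out
  have hnil : Group.IsNilpotent G := hG.isNilpotent
  obtain ⟨i0, rfl⟩ : ∃ i0, i = i0 + 1 := ⟨i - 1, by omega⟩
  obtain ⟨n0, rfl⟩ : ∃ n0, n = n0 + 1 := ⟨n - 1, by omega⟩
  simp only [Nat.add_sub_cancel] at hN ⊢
  set K : Subgroup G := N.lowerCentralSeries i0 with hK
  set K' : Subgroup G := N.lowerCentralSeries (i0 + 1) with hK'
  have hK'eq : K' = ⁅K, N⁆ := rfl
  have hKn : K.Normal := inferInstance
  have hK'n : K'.Normal := inferInstance
  have hK'K : K' ≤ K := Subgroup.lowerCentralSeries_antitone N (Nat.le_succ i0)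
  -- the two sequences
  set H : ℕ → Subgroup G := Hseq K with hHdef
  set D : ℕ → Subgroup G := Dseq K K' with hDdef
  have hH0 : H 0 = K := rfl
  have hHs : ∀ k, H (k + 1) = ⁅H k, (⊤ : Subgroup G)⁆ := fun _ => rfl
  have hD0 : D 0 = K := rfl
  have hDs : ∀ k, D (k + 1) = ⁅D k, (⊤ : Subgroup G)⁆ ⊔ K' := fun _ => rfl
  have hHn : ∀ k, (H k).Normal := Hseq_normal K
  have hDn : ∀ k, (D k).Normal := Dseq_normal K K'
  have hHdesc : ∀ k, H (k + 1) ≤ H k := by
    intro k
    have := hHn k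
    rw [hHs]
    exact Subgroup.commutator_le_left _ _
  have hHD : ∀ k, H k ≤ D k := by
    intro k
    induction k with
    | zero => exact le_rfl
    | succ k ih =>
      rw [hHs, hDs]
      exact (Subgroup.commutator_mono ih le_rfl).trans le_sup_left
  have hK'D : ∀ k, K' ≤ D k := by
    intro k
    cases k with
    | zero => exact hK'K
    | succ k => rw [hDs]; exact le_sup_right
  -- Hall's lemma
  have hhall := Cfsg.Agent.S4206.result H hHn hHdesc ⊤ (fun k => le_of_eq (hHs k).symm) 0 n0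
  rw [zero_add, hH0] at hhall
  have hK'H : K' ≤ H (n0 + 1) := by
    rw [hK'eq]
    exact (Subgroup.commutator_mono le_rfl hN).trans hhall
  -- suppose the index is small
  by_contra hcon
  push Not at hcon
  have hcardK : Nat.card K' * K'.relIndex K = Nat.card K := by
    have := Subgroup.relIndex_mul_relIndex (⊥ : Subgroup G) K' K bot_le hK'K
    rwa [Subgroup.relIndex_bot_left, Subgroup.relIndex_bot_left] at this
  have hrel : K'.relIndex K ≤ p ^ n0 := by
    obtain ⟨a, ha⟩ := IsPGroup.iff_card.mp (hG.to_subgroup K)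
    have hdvd : K'.relIndex K ∣ p ^ a := ha ▸ Dvd.intro_left _ hcardK
    obtain ⟨j, -, hj⟩ := (Nat.dvd_prime_pow hp).mp hdvd
    rw [hj] at hcon ⊢
    have : j < n0 + 1 := (Nat.pow_lt_pow_iff_right hp.one_lt).mp hcon
    exact Nat.pow_le_pow_right hp.pos (by omega)
  have hstep : ∀ k, D k = K' ∨ Nat.card ↥(D k) * p ^ k ≤ Nat.card K := by
    intro k
    induction k with
    | zero => right; rw [hD0, pow_zero, mul_one]
    | succ k ih =>
      rcases ih with h | h
      · left
        rw [hDs, h]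
        exact sup_eq_right.mpr (Subgroup.commutator_le_left _ _)
      · rcases eq_or_ne (D k) K' with hDk | hDk
        · left
          rw [hDs, hDk]
          exact sup_eq_right.mpr (Subgroup.commutator_le_left _ _)
        · right
          have hle : D (k + 1) ≤ D k := by
            have := hDn k
            rw [hDs]
            exact sup_le (Subgroup.commutator_le_left _ _) (hK'D k)
          have hlt : D (k + 1) < D k := by
            refine lt_of_le_of_ne hle ?_
            intro heq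
            apply hDk
            have := hDn k
            have h1 : D k ≤ ⁅D k, (⊤ : Subgroup G)⁆ ⊔ K' := by rw [← hDs, heq]
            exact le_antisymm (le_of_le_commutator_sup (D k) K' h1) (hK'D k)
          have h2 := card_mul_le_of_lt hG hlt
          calc Nat.card ↥(D (k + 1)) * p ^ (k + 1) = (Nat.card ↥(D (k + 1)) * p) * p ^ k := by
                rw [pow_succ]; ring
            _ ≤ Nat.card ↥(D k) * p ^ k := Nat.mul_le_mul_right _ h2
            _ ≤ Nat.card K := h
  have hDK' : D n0 = K' := by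
    rcases hstep n0 with h | h
    · exact h
    · symm
      apply Subgroup.eq_of_le_of_card_ge (hK'D n0)
      have h1 : Nat.card ↥(D n0) * p ^ n0 ≤ Nat.card K' * p ^ n0 := by
        calc Nat.card ↥(D n0) * p ^ n0 ≤ Nat.card K := h
          _ = Nat.card K' * K'.relIndex K := hcardK.symm
          _ ≤ Nat.card K' * p ^ n0 := Nat.mul_le_mul_left _ hrel
      exact Nat.le_of_mul_le_mul_right h1 (pow_pos hp.pos n0)
  have hHK' : H n0 ≤ K' := hDK' ▸ hHD n0
  have hfinal : K' ≤ ⁅K', (⊤ : Subgroup G)⁆ ⊔ ⊥ := by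
    rw [sup_bot_eq]
    calc K' ≤ H (n0 + 1) := hK'H
      _ = ⁅H n0, (⊤ : Subgroup G)⁆ := hHs n0
      _ ≤ ⁅K', (⊤ : Subgroup G)⁆ := Subgroup.commutator_mono hHK' le_rfl
  exact hne (le_bot_iff.mp (le_of_le_commutator_sup K' ⊥ hfinal))

end Cfsg.Agent.S3781
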