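import Cfsg.Statements.S3784
import Mathlib.NumberTheory.Fermat
import Mathlib.Algebra.Order.Ring.GeomSum
import Mathlib.Tactic
import Mathlib.Algebra.BigOperators.Ring.Nat

set_option autoImplicit false
open Cfsg

namespace Cfsg.Agent.S3784

theorem odd_dvd_two_pow {d n : ℕ} (hd : Odd d) (h : d ∣ 2 ^ n) : d = 1 := by
  obtain ⟨k, _, rfl⟩ := (Nat.dvd_prime_pow Nat.prime_two).mp h
  rcases k with _ | k
  · simp
  · exfalso
    rw [pow_succ] at hd
    exact (Nat.not_odd_iff_even.mpr (even_two.mul_left _)) hd

theorem odd_geom_sum {x n : ℕ} (hx : Odd x) (hn : Odd n) :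
    Odd (∑ i ∈ Finset.range n, x ^ i) := by
  rw [Finset.odd_sum_iff_odd_card_odd]
  have : {i ∈ Finset.range n | Odd (x ^ i)} = Finset.range n := by
    apply Finset.filter_true_of_mem
    intro i _
    exact hx.pow
  rw [this, Finset.card_range]
  exact hn

/-- for odd `x` and odd exponent, `x^(2m+1)+1 = (x+1) * T` with `T` odd. -/
theorem odd_cofactor (x : ℤ) (hx : Odd x) (m : ℕ) :
    ∃ T : ℤ, Odd T ∧ x ^ (2 * m + 1) + 1 = (x + 1) * T := by
  induction m with
  | zero => exact ⟨1, odd_one, by ring⟩
  | succ m ih =>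
    obtain ⟨T, hT, hTe⟩ := ih
    refine ⟨x ^ 2 * T - x + 1, ?_, ?_⟩
    · have h1 : Odd (x ^ 2 * T) := (hx.pow).mul hT
      have h2 : Even (-x + 1) := by
        obtain ⟨k, rfl⟩ := hx
        exact ⟨-k, by ring⟩
      have : x ^ 2 * T - x + 1 = x ^ 2 * T + (-x + 1) := by ring
      rw [this]
      exact h1.add_even h2
    · have : x ^ (2 * (m + 1) + 1) = x ^ 2 * x ^ (2 * m + 1) := by ring
      rw [this]
      have h3 : x ^ (2 * m + 1) = (x + 1) * T - 1 := by linarith
      rw [h3]
      ring

/-- Let p, q be primes and a, b positive integers with p^a = q^b + 1. Then either p = 2, b = 1, a is prime and q = 2^a − 1; or q = 2, a = 1, b is a power of 2 and p = 2^b + 1; or p^a = 9 and q^b = 8. -/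
theorem result (p q a b : ℕ) (hp : p.Prime) (hq : q.Prime) (ha : 1 ≤ a) (hb : 1 ≤ b) (h : p ^ a = q ^ b + 1) : (p = 2 ∧ b = 1 ∧ a.Prime ∧ q + 1 = 2 ^ a) ∨ (q = 2 ∧ a = 1 ∧ (∃ m : ℕ, b = 2 ^ m) ∧ p = 2 ^ b + 1) ∨ (p ^ a = 9 ∧ q ^ b = 8) := by
  rcases hq.eq_two_or_odd' with rfl | hqodd
  · -- q = 2, so p is odd
    have hpa_odd : Odd (p ^ a) := by
      rw [h]
      exact (Even.add_one ((Nat.even_pow).mpr ⟨even_two, by omega⟩))
    have hpodd : Odd p := by
      rcases Nat.even_or_odd p with he | ho
      · exfalso
        exact (Nat.not_odd_iff_even.mpr ((Nat.even_pow).mpr ⟨he, by omega⟩)) hpa_odd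
      · exact ho
    have hp3 : 3 ≤ p := by
      have := hp.two_le
      obtain ⟨k, rfl⟩ := hpodd
      omega
    rcases Nat.even_or_odd a with haev | haodd
    · -- a even
      right; right
      obtain ⟨c, rfl⟩ := haev
      have hc : 1 ≤ c := by omega
      set u := p ^ c with hu
      have hu3 : 3 ≤ u := by
        calc 3 ≤ p := hp3
          _ = p ^ 1 := (pow_one p).symm
          _ ≤ p ^ c := Nat.pow_le_pow_right (by omega) hc
      have huu : u * u = 2 ^ b + 1 := by
        rw [← h, hu, ← pow_add]
      have hprod : (u - 1) * (u + 1) = 2 ^ b := by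
        have : (u - 1) * (u + 1) + 1 = u * u := by
          zify [show 1 ≤ u by omega]
          ring
        omega
      obtain ⟨i, _, hi⟩ := (Nat.dvd_prime_pow Nat.prime_two).mp (Dvd.intro _ hprod)
      obtain ⟨j, _, hj⟩ := (Nat.dvd_prime_pow Nat.prime_two).mp (Dvd.intro_left _ hprod)
      have hu_eq : u = 3 := by
        rcases i with _ | _ | i
        · simp at hi; omega
        · simp at hi; omega
        · exfalso
          have h4 : (2:ℕ) ^ (i + 1 + 1) = 4 * 2 ^ i := by ring
          rcases j with _ | _ | j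
          · simp at hj; omega
          · simp at hj; omega
          · have h5 : (2:ℕ) ^ (j + 1 + 1) = 4 * 2 ^ j := by ring
            omega
      constructor
      · rw [← two_mul, pow_mul'] at *
        rw [← hu] at *
        rw [hu_eq]
        norm_num
      · have : u * u = 9 := by rw [hu_eq]
        omega
    · -- a odd
      right; left
      have hgeom := geom_sum_mul_add (p - 1) a
      rw [show p - 1 + 1 = p by omega] at hgeom
      have hS : (∑ i ∈ Finset.range a, p ^ i) * (p - 1) = 2 ^ b := by omega
      have hSodd := odd_geom_sum hpodd haodd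
      have hS1 := odd_dvd_two_pow hSodd (Dvd.intro _ hS)
      have ha1 : a = 1 := by
        by_contra hne
        obtain ⟨a', rfl⟩ : ∃ a', a = a' + 2 := ⟨a - 2, by omega⟩
        rw [Finset.sum_range_succ', Finset.sum_range_succ'] at hS1
        simp at hS1
        omega
      subst ha1
      rw [pow_one] at h
      refine ⟨rfl, rfl, ?_, h⟩
      exact Nat.pow_of_pow_add_prime (by norm_num) (by omega) (h ▸ hp)
  · -- q odd, so p = 2
    left
    have hpa_even : Even (p ^ a) := by
      rw [h]
      exact (hqodd.pow).add_one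
    have hp2 : p = 2 := by
      have := (Nat.even_pow.mp hpa_even).1
      exact (hp.even_iff).mp this
    subst hp2
    have hq3 : 3 ≤ q := by
      have := hq.two_le
      obtain ⟨k, rfl⟩ := hqodd
      omega
    have hb1 : b = 1 := by
      rcases Nat.even_or_odd b with hbev | hbodd
      · exfalso
        obtain ⟨c, rfl⟩ := hbev
        have hc : 1 ≤ c := by omega
        have hwodd : Odd (q ^ c) := hqodd.pow
        obtain ⟨k, hk⟩ := hwodd
        have hsq : q ^ (c + c) = 4 * (k * k + k) + 1 := by
          rw [pow_add, hk]; ring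
        rw [hsq] at h
        rcases a with _ | _ | a
        · omega
        · simp at h
          have hk0 : k = 0 := by
            rcases k with _ | k
            · rfl
            · exfalso; nlinarith
          rw [hk0] at hk
          have : 3 ≤ q ^ c := by
            calc 3 ≤ q := hq3
              _ = q ^ 1 := (pow_one q).symm
              _ ≤ q ^ c := Nat.pow_le_pow_right (by omega) hc
          omega
        · have h4 : (2:ℕ) ^ (a + 1 + 1) = 4 * 2 ^ a := by ring
          omega
      · obtain ⟨m, rfl⟩ := hbodd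
        obtain ⟨T, hTodd, hT⟩ := odd_cofactor (q : ℤ) (by exact_mod_cast hqodd) m
        have hZ : ((2:ℤ)) ^ a = ((q:ℤ) + 1) * T := by
          rw [← hT]
          exact_mod_cast h
        have hTpos : 0 < T := by
          have h1 : (0:ℤ) < (q:ℤ) + 1 := by positivity
          have h2 : (0:ℤ) < ((q:ℤ) + 1) * T := by rw [← hZ]; positivity
          exact (pos_iff_pos_of_mul_pos h2).mp h1
        have hTabs : T.natAbs = 1 := by
          apply odd_dvd_two_pow (n := a)
          · exact Int.natAbs_odd.mpr hTodd
          · have : T ∣ (2:ℤ) ^ a := Dvd.intro_left _ hZ.symm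
            have := Int.natAbs_dvd_natAbs.mpr this
            simpa [Int.natAbs_pow] using this
        have hT1 : T = 1 := by omega
        rw [hT1, mul_one] at hT
        have hqq : q ^ (2 * m + 1) = q := by
          have : (q:ℤ) ^ (2 * m + 1) = q := by linarith
          exact_mod_cast this
        have : q ^ (2 * m + 1) = q ^ 1 := by rw [hqq, pow_one]
        exact Nat.pow_right_injective hq.two_le this
    subst hb1
    rw [pow_one] at h
    refine ⟨rfl, rfl, ?_, h.symm⟩
    have ha1 : a ≠ 1 := by
      rintro rfl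
      omega
    have hqe : q = 2 ^ a - 1 := by omega
    exact (Nat.prime_of_pow_sub_one_prime ha1 (hqe ▸ hq)).2

end Cfsg.Agent.S3784
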