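import Cfsg.Statements.S3785
import Cfsg.Agent.S0044
import Cfsg.Agent.Lib.Helper31.FittingHall
import Cfsg.Agent.Lib.Helper32.OddFix
import Cfsg.Agent.Lib.Helper76.Fitting

set_option autoImplicit false
open Cfsg

namespace Cfsg.Agent.S3785

open Cfsg.Agent.Lib.Helper76 Cfsg.Agent.Lib.Helper32 Cfsg.Agent.Lib.Helper31

/-- prime-order elements of the Fitting subgroup -/
def Om (G : Type*) [Group G] : Set G := {x | x ∈ Cfsg.fittingSubgroup G ∧ (orderOf x).Prime}

theorem centralizer_normal_of_conj_invariant {G : Type*} [Group G] (S : Set G)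
    (hS : ∀ a : G, ∀ s ∈ S, a * s * a⁻¹ ∈ S) :
    (Subgroup.centralizer S).Normal := by
  constructor
  intro z hz a
  rw [Subgroup.mem_centralizer_iff] at hz ⊢
  intro s hs
  have h := hz (a⁻¹ * s * a) (by simpa using hS a⁻¹ s hs)
  calc s * (a * z * a⁻¹) = a * ((a⁻¹ * s * a) * z) * a⁻¹ := by group
    _ = a * (z * (a⁻¹ * s * a)) * a⁻¹ := by rw [h]
    _ = a * z * a⁻¹ * s := by group

theorem Om_conj {G : Type*} [Group G] (a : G) (s : G) (hs : s ∈ Om G) : a * s * a⁻¹ ∈ Om G := by
  refine ⟨(fittingSubgroup_normal (G := G)).conj_mem s hs.1 a, ?_⟩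
  have : orderOf (a * s * a⁻¹) = orderOf s := by
    simpa using orderOf_injective (MulAut.conj a).toMonoidHom (MulAut.conj a).injective s
  rw [this]; exact hs.2

theorem pCore_two_eq_bot {G : Type*} [Group G] [Finite G]
    (hodd : Odd (Nat.card (Cfsg.fittingSubgroup G))) : Cfsg.pCore 2 G = ⊥ := by
  have : Fact (Nat.Prime 2) := ⟨Nat.prime_two⟩
  have h1 : Nat.card (Cfsg.pCore 2 G) ∣ Nat.card (Cfsg.fittingSubgroup G) :=
    Subgroup.card_dvd_of_le (pCore_le_fittingSubgroup 2)
  obtain ⟨k, hk⟩ := IsPGroup.iff_card.1 (pCore_isPGroup (G := G) 2)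
  rw [← Subgroup.card_eq_one, hk]
  rcases Nat.eq_zero_or_pos k with rfl | hkpos
  · simp
  · exfalso
    rw [hk] at h1
    have : 2 ∣ Nat.card (Cfsg.fittingSubgroup G) := (dvd_pow_self 2 hkpos.ne').trans h1
    exact (Nat.not_even_iff_odd.2 hodd) (even_iff_two_dvd.2 this)

theorem pCore_le_centralizer_zpowers {G : Type*} [Group G] [Finite G]
    (hodd : Odd (Nat.card (Cfsg.fittingSubgroup G)))
    (w : G) (hw : w ∈ Subgroup.centralizer (Om G)) (p : ℕ) [hp : Fact p.Prime]
    (hcop : (orderOf w).Coprime p) :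
    Cfsg.pCore p G ≤ Subgroup.centralizer (Subgroup.zpowers w : Set G) := by
  by_cases hp2 : p = 2
  · subst hp2
    rw [pCore_two_eq_bot hodd]; exact bot_le
  · apply centralizes_of_fixes_order_p p hp2 (Subgroup.zpowers w) (by rwa [Nat.card_zpowers]) _
      (Cfsg.pCore p G) rfl (pCore_isPGroup p)
    · have := Cfsg.Agent.Lib.Helper76.pCore_normal (G := G) p
      rw [Subgroup.normalizer_eq_top]; exact le_top
    · intro x hx hxp
      rw [Subgroup.mem_centralizer_iff]
      intro a ha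
      by_cases hx1 : x = 1
      · subst hx1; simp
      · have hord : orderOf x = p := orderOf_eq_prime hxp hx1
        have hxO : x ∈ Om G := ⟨pCore_le_fittingSubgroup p hx, by rw [hord]; exact hp.out⟩
        have hwx : x * w = w * x := (Subgroup.mem_centralizer_iff.1 hw) x hxO
        obtain ⟨k, rfl⟩ := Subgroup.mem_zpowers_iff.1 ha
        have hc : Commute w x := hwx.symm
        exact (hc.zpow_left k).eq

theorem mem_of_mem_sup_of_coprime {G : Type*} [Group G] {q : ℕ} (P S : Subgroup G) [S.Normal]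
    (hP : IsPGroup q P) (w : G) (hw : w ∈ P ⊔ S) (hcop : (orderOf w).Coprime q) : w ∈ S := by
  rw [← SetLike.mem_coe, Subgroup.mul_normal] at hw
  obtain ⟨a, ha, b, hb, rfl⟩ := hw
  obtain ⟨k, hk⟩ := hP ⟨a, ha⟩
  have hak : a ^ (q ^ k) = 1 := by simpa using congrArg Subtype.val hk
  have h1 : (a * b) ^ (q ^ k) ∈ S := by
    rw [← QuotientGroup.eq_one_iff, QuotientGroup.mk_pow, QuotientGroup.mk_mul,
      (QuotientGroup.eq_one_iff b).2 hb, mul_one, ← QuotientGroup.mk_pow, hak, QuotientGroup.mk_one]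
  exact mem_of_pow_mem_of_coprime S (a * b) (q ^ k) (Nat.Coprime.pow_right k hcop) h1

/-- `O_{q'}(F(G))`: the join of the `p`-cores for the primes `p ≠ q`. -/
def Sq (G : Type*) [Group G] (q : ℕ) : Subgroup G :=
  sSup {N | ∃ p : ℕ, p.Prime ∧ p ≠ q ∧ N = Cfsg.pCore p G}

theorem Sq_normal {G : Type*} [Group G] (q : ℕ) : (Sq G q).Normal :=
  Subgroup.sSup_normal _ (by rintro _ ⟨p, _, _, rfl⟩; exact Cfsg.Agent.Lib.Helper76.pCore_normal p)

theorem fitting_le_sup {G : Type*} [Group G] [Finite G] (q : ℕ) :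
    Cfsg.fittingSubgroup G ≤ Cfsg.pCore q G ⊔ Sq G q := by
  rw [fittingSubgroup_eq_pCoreJoin]
  apply iSup_le
  intro p
  by_cases h : (p : ℕ) = q
  · rw [h]; exact le_sup_left
  · exact le_trans (le_sSup (show Cfsg.pCore (p : ℕ) G ∈ {N | ∃ p : ℕ, p.Prime ∧ p ≠ q ∧ N = Cfsg.pCore p G} from ⟨p, Nat.prime_of_mem_primeFactors p.2, h, rfl⟩)) le_sup_right

/-- The elements centralizing the prime-order elements of `F(G)` and `O_{q'}(F(G))`. -/
def Nq (G : Type*) [Group G] (q : ℕ) : Subgroup G :=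
  Subgroup.centralizer (Om G) ⊓ Subgroup.centralizer (Sq G q : Set G)

theorem Nq_normal {G : Type*} [Group G] (q : ℕ) : (Nq G q).Normal := by
  have := Sq_normal (G := G) q
  have := centralizer_normal_of_conj_invariant (Om G) Om_conj
  exact Subgroup.normal_inf_normal _ _

theorem mem_Sq_of_coprime {G : Type*} [Group G] [Finite G] (hG : Group.IsSolvable G)
    (hodd : Odd (Nat.card (Cfsg.fittingSubgroup G))) (q : ℕ) [Fact q.Prime] (w : G)
    (hw : w ∈ Nq G q) (hcop : (orderOf w).Coprime q) : w ∈ Sq G q := by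
  have hwC := (Subgroup.mem_inf.1 hw).1
  have hwS := (Subgroup.mem_inf.1 hw).2
  have h1 : Cfsg.pCore q G ≤ Subgroup.centralizer ({w} : Set G) := by
    refine le_trans (pCore_le_centralizer_zpowers hodd w hwC q hcop) (Subgroup.centralizer_le ?_)
    simp
  have h2 : Sq G q ≤ Subgroup.centralizer ({w} : Set G) := by
    intro s hs
    rw [Subgroup.mem_centralizer_iff]
    intro h hh
    rw [Set.mem_singleton_iff] at hh
    subst hh
    exact ((Subgroup.mem_centralizer_iff.1 hwS) s hs).symm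
  have h3 : w ∈ Subgroup.centralizer (Cfsg.fittingSubgroup G : Set G) := by
    rw [Subgroup.mem_centralizer_iff]
    intro x hx
    have h := (sup_le h1 h2) (fitting_le_sup q hx)
    rw [Subgroup.mem_centralizer_iff] at h
    exact (h w rfl).symm
  have := hG
  have h4 : w ∈ Cfsg.fittingSubgroup G := Cfsg.Agent.S0044.result h3
  have := Sq_normal (G := G) q
  exact mem_of_mem_sup_of_coprime _ _ (pCore_isPGroup q) w (fitting_le_sup q h4) hcop

theorem Nq_isNilpotent {G : Type*} [Group G] [Finite G] (hG : Group.IsSolvable G)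
    (hodd : Odd (Nat.card (Cfsg.fittingSubgroup G))) (q : ℕ) [hq : Fact q.Prime] :
    Group.IsNilpotent (Nq G q) := by
  have hp : IsPGroup q ((Nq G q) ⧸ Subgroup.center (Nq G q)) := by
    intro x
    induction x using QuotientGroup.induction_on with
    | H z =>
    obtain ⟨z, hz⟩ := z
    have hpos : 0 < orderOf z := orderOf_pos z
    obtain ⟨a, m, hm, hzm⟩ := Nat.exists_eq_pow_mul_and_not_dvd hpos.ne' q hq.out.ne_one
    refine ⟨a, ?_⟩
    rw [← QuotientGroup.mk_pow, QuotientGroup.eq_one_iff, Subgroup.mem_center_iff]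
    intro n
    obtain ⟨n, hn⟩ := n
    apply Subtype.ext
    simp only [Subgroup.coe_mul, Subgroup.coe_pow]
    have hw : z ^ (q ^ a) ∈ Nq G q := Subgroup.pow_mem _ hz _
    have hord : orderOf (z ^ (q ^ a)) = m := by
      rw [orderOf_pow_of_dvd (pow_pos hq.out.pos a).ne' (hzm ▸ dvd_mul_right _ _), hzm,
        Nat.mul_div_cancel_left _ (pow_pos hq.out.pos a)]
    have hwS := mem_Sq_of_coprime hG hodd q _ hw
      (by rw [hord]; exact ((Nat.Prime.coprime_iff_not_dvd hq.out).2 hm).symm)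
    exact ((Subgroup.mem_centralizer_iff.1 (Subgroup.mem_inf.1 hn).2) _ hwS).symm
  have := hp.isNilpotent
  exact Subgroup.isNilpotent_of_ker_le_center (QuotientGroup.mk' (Subgroup.center (Nq G q)))
    (by rw [QuotientGroup.ker_mk'])

theorem mem_Nq_of_qElement {G : Type*} [Group G] [Finite G]
    (hodd : Odd (Nat.card (Cfsg.fittingSubgroup G))) (q : ℕ) [hq : Fact q.Prime] (x : G)
    (hx : x ∈ Subgroup.centralizer (Om G)) (k : ℕ) (hxk : orderOf x = q ^ k) : x ∈ Nq G q := by
  refine Subgroup.mem_inf.2 ⟨hx, ?_⟩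
  rw [Subgroup.mem_centralizer_iff]
  intro s hs
  have h1 : Sq G q ≤ Subgroup.centralizer (Subgroup.zpowers x : Set G) := by
    apply sSup_le
    rintro _ ⟨p, hp, hpq, rfl⟩
    have : Fact p.Prime := ⟨hp⟩
    apply pCore_le_centralizer_zpowers hodd x hx p
    rw [hxk]
    exact Nat.Coprime.pow_left k ((Nat.coprime_primes hq.out hp).2 hpq.symm)
  have h2 := h1 hs
  rw [Subgroup.mem_centralizer_iff] at h2
  exact (h2 x (Subgroup.mem_zpowers x)).symm

theorem mem_fitting_of_mem_C {G : Type*} [Group G] [Finite G] (hG : Group.IsSolvable G)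
    (hodd : Odd (Nat.card (Cfsg.fittingSubgroup G))) (g : G)
    (hg : g ∈ Subgroup.centralizer (Om G)) : g ∈ Cfsg.fittingSubgroup G := by
  classical
  set Z := Subgroup.zpowers g with hZ
  have key : ∀ (p : (Nat.card Z).primeFactors) (Q : Sylow (p : ℕ) Z),
      (Q : Subgroup Z).map Z.subtype ≤ Cfsg.fittingSubgroup G := by
    intro p Q
    have : Fact (p : ℕ).Prime := ⟨Nat.prime_of_mem_primeFactors p.2⟩
    rintro _ ⟨y, hy, rfl⟩
    obtain ⟨k, hk⟩ := (IsPGroup.iff_orderOf.1 Q.isPGroup') ⟨y, hy⟩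
    have hyk : orderOf (y : G) = (p : ℕ) ^ k := by
      rw [← hk, Subgroup.orderOf_mk, Subgroup.orderOf_coe]
    have hyC : (y : G) ∈ Subgroup.centralizer (Om G) := (Subgroup.zpowers_le.2 hg) y.2
    have h := mem_Nq_of_qElement hodd (p : ℕ) (y : G) hyC k hyk
    exact (le_fittingSubgroup (Nq_normal (p : ℕ)) (Nq_isNilpotent hG hodd (p : ℕ))) h
  have htop : ⨆ p : (Nat.card Z).primeFactors, ((default : Sylow (p : ℕ) Z) : Subgroup Z) = ⊤ := by
    apply iSup_sylow_eq_top (fun p : (Nat.card Z).primeFactors => (p : ℕ))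
    intro p hp hdvd
    exact ⟨⟨p, Nat.mem_primeFactors.mpr ⟨hp, hdvd, Nat.card_pos.ne'⟩⟩, rfl⟩
  have h2 : Z = (⊤ : Subgroup Z).map Z.subtype := by
    rw [← MonoidHom.range_eq_map, Subgroup.range_subtype]
  have h3 : Z ≤ Cfsg.fittingSubgroup G := by
    rw [h2, ← htop, Subgroup.map_iSup]
    exact iSup_le (fun p => key p _)
  exact h3 (Subgroup.mem_zpowers g)

/-- Let G be a finite solvable group whose Fitting subgroup F(G) has odd order. If an element g of G commutes with every element of prime order of F(G), then g ∈ F(G). -/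
theorem result {G : Type*} [Group G] [Finite G] (hG : Group.IsSolvable G) (hodd : Odd (Nat.card (Cfsg.fittingSubgroup G))) (g : G) (hg : ∀ x ∈ Cfsg.fittingSubgroup G, (orderOf x).Prime → g * x = x * g) : g ∈ Cfsg.fittingSubgroup G := by
  have hgC : g ∈ Subgroup.centralizer (Om G) := by
    rw [Subgroup.mem_centralizer_iff]
    intro x hx
    exact (hg x hx.1 hx.2).symm
  exact mem_fitting_of_mem_C hG hodd g hgC

end Cfsg.Agent.S3785
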