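import Cfsg.Statements.S3790
import Cfsg.Agent.Lib.Helper67.PLen3
import Mathlib.Tactic
-- import your own Cfsg.Agent.* helpers here

set_option autoImplicit false
open Cfsg

namespace Cfsg.Agent.S3790

open Cfsg.Agent.Lib.Helper67

universe u

/-- the induction on the number of primes -/
theorem aux (p : ℕ) [hp : Fact p.Prime] : ∀ (r : ℕ) (G : Type u) [Group G] [Finite G]
    (q : Fin r → ℕ), (∀ i, (q i).Prime ∧ q i ≠ p) →
    (∀ s : ℕ, s.Prime → s ∣ Nat.card G → s ≠ p → ∃ i, q i = s) →
    ∀ (l : Fin r → ℕ), (∀ i, Cfsg.PLengthLE (q i) (l i) G) →
    Cfsg.PLengthLE p (Finset.univ.prod fun i => 1 + l i) G := by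
  intro r
  induction r with
  | zero =>
    intro G _ _ q hq hcover l hl
    have hpg : IsPGroup p G := by
      have hcard : Nat.card G = p ^ (Nat.card G).primeFactorsList.length := by
        apply Nat.eq_prime_pow_of_unique_prime_dvd Nat.card_pos.ne'
        intro s hs hdvd
        by_contra hne
        obtain ⟨i, -⟩ := hcover s hs hdvd hne
        exact Fin.elim0 i
      exact IsPGroup.of_card hcard
    rw [Finset.univ_eq_empty, Finset.prod_empty]
    exact pLengthLE_one_of_isPGroup p hpg
  | succ r ihr =>
    intro G _ _ q hq hcover l hl
    -- the inner induction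
    have inner : ∀ (t : ℕ) (H : Type u) [Group H] [Finite H],
        (∀ s : ℕ, s.Prime → s ∣ Nat.card H → s ≠ p → ∃ i, q i = s) →
        (∀ j : Fin r, Cfsg.PLengthLE (q j.castSucc) (l j.castSucc) H) →
        Cfsg.PLengthLE (q (Fin.last r)) t H →
        Cfsg.PLengthLE p ((Finset.univ.prod fun j : Fin r => 1 + l j.castSucc) * (1 + t)) H := by
      intro t
      have hq0 : Fact (q (Fin.last r)).Prime := ⟨(hq (Fin.last r)).1⟩
      have hq0p : q (Fin.last r) ≠ p := (hq (Fin.last r)).2
      -- a helper: groups of order prime to q0
      have base : ∀ (K : Type u) [Group K] [Finite K],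
          (∀ s : ℕ, s.Prime → s ∣ Nat.card K → s ≠ p → ∃ i, q i = s) →
          (∀ j : Fin r, Cfsg.PLengthLE (q j.castSucc) (l j.castSucc) K) →
          (Nat.card K).Coprime (q (Fin.last r)) →
          Cfsg.PLengthLE p (Finset.univ.prod fun j : Fin r => 1 + l j.castSucc) K := by
        intro K _ _ hcovK hlK hcop
        apply ihr K (fun j => q j.castSucc) (fun j => hq j.castSucc) _
          (fun j => l j.castSucc) hlK
        intro s hs hdvd hne
        obtain ⟨i, hi⟩ := hcovK s hs hdvd hne
        rcases Fin.eq_castSucc_or_eq_last i with ⟨j, rfl⟩ | rfl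
        · exact ⟨j, hi⟩
        · exfalso
          rw [hi] at hcop
          have := Nat.Coprime.eq_one_of_dvd hcop.symm hdvd
          exact hs.one_lt.ne' this
      induction t with
      | zero =>
        intro H _ _ hcovH hlH h0
        rw [add_zero, mul_one]
        apply base H hcovH hlH
        unfold Cfsg.PLengthLE at h0
        have := card_upperPSeries_one_coprime (G := H) (q (Fin.last r))
        have h0' : (Cfsg.upperPSeries (q (Fin.last r)) H 1).1 = ⊤ := h0
        rw [h0', Subgroup.card_top] at this
        exact this
      | succ t iht =>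
        intro H _ _ hcovH hlH ht
        set V1 : Subgroup H := (Cfsg.upperPSeries (q (Fin.last r)) H 1).1 with hV1
        set V2 : Subgroup H := (Cfsg.upperPSeries (q (Fin.last r)) H 2).1 with hV2
        have hV12 : V1 ≤ V2 := Cfsg.Agent.Lib.Helper15.upperPSeries_le_succ _ 1
        -- the quotient
        have hQ : Cfsg.PLengthLE p
            ((Finset.univ.prod fun j : Fin r => 1 + l j.castSucc) * (1 + t)) (H ⧸ V2) := by
          apply iht (H ⧸ V2)
          · intro s hs hdvd hne
            exact hcovH s hs (hdvd.trans
              (Subgroup.card_dvd_of_surjective _ (QuotientGroup.mk'_surjective V2))) hne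
          · intro j
            have : Fact (q j.castSucc).Prime := ⟨(hq j.castSucc).1⟩
            exact pLengthLE_of_surjective _ _ (QuotientGroup.mk'_surjective V2) _ (hlH j)
          · have := pLengthLE_quotient_two (q (Fin.last r)) (t + 1) (by omega) ht
            simpa using this
        -- the subgroup V2
        have hV2len : Cfsg.PLengthLE p
            ((Finset.univ.prod fun j : Fin r => 1 + l j.castSucc) + 0) ↥V2 := by
          apply pLengthLE_add p (V1.subgroupOf V2)
          · apply base
            · intro s hs hdvd hne
              apply hcovH s hs _ hne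
              exact (hdvd.trans (Subgroup.card_subgroup_dvd_card _)).trans
                (Subgroup.card_subgroup_dvd_card _)
            · intro j
              have : Fact (q j.castSucc).Prime := ⟨(hq j.castSucc).1⟩
              exact pLengthLE_of_normal _ _ _ (pLengthLE_of_normal _ V2 _ (hlH j))
            · rw [Nat.card_congr (Subgroup.subgroupOfEquivOfLe hV12).toEquiv]
              exact card_upperPSeries_one_coprime (q (Fin.last r))
          · apply pLengthLE_zero_of_coprime
            have hcard : Nat.card (↥V2 ⧸ V1.subgroupOf V2) = V1.relIndex V2 := rfl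
            rw [hcard]
            obtain ⟨b, hb⟩ := relIndex_upperPSeries_odd (G := H) (q (Fin.last r)) 1 (by simp)
            rw [hb]
            exact Nat.Coprime.pow_left b
              ((Nat.coprime_primes hq0.out hp.out).mpr hq0p)
        have := pLengthLE_add p V2 _ _ hV2len hQ
        have e : (Finset.univ.prod fun j : Fin r => 1 + l j.castSucc) + 0 +
            (Finset.univ.prod fun j : Fin r => 1 + l j.castSucc) * (1 + t) =
            (Finset.univ.prod fun j : Fin r => 1 + l j.castSucc) * (1 + (t + 1)) := by ring
        rw [e] at this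
        exact this
    rw [Fin.prod_univ_castSucc]
    exact inner (l (Fin.last r)) G hcover (fun j => hl j.castSucc) (hl (Fin.last r))

/-- Let G be a finite solvable group and p a prime. Suppose p₁, …, p_r are distinct primes, all different from p, that include every prime dividing the order of G other than p, and that G has p_i-length at most l_i for each i. Then G has p-length at most the product of the numbers 1 + l_i. -/
theorem result {G : Type*} [Group G] [Finite G] (hG : Group.IsSolvable G) (p : ℕ) [Fact p.Prime] (r : ℕ) (q : Fin r → ℕ) (hq : ∀ i, (q i).Prime ∧ q i ≠ p) (hinj : Function.Injective q) (hcover : ∀ s : ℕ, s.Prime → s ∣ Nat.card G → s ≠ p → ∃ i, q i = s) (l : Fin r → ℕ) (hl : ∀ i, Cfsg.PLengthLE (q i) (l i) G) : Cfsg.PLengthLE p (Finset.univ.prod fun i => 1 + l i) G := by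
  exact aux p r G q hq hcover l hl

end Cfsg.Agent.S3790
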