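import Cfsg.Statements.S3791
import Cfsg.Agent.Lib.Helper67.PLen
import Mathlib.Tactic
-- import your own Cfsg.Agent.* helpers here

set_option autoImplicit false
open Cfsg

namespace Cfsg.Agent.S3791

open Cfsg.Agent.Lib.Helper67

section derived
variable {G : Type*} [Group G]

/-- the derived series of a subgroup, as subgroups of the ambient group -/
def dser (K : Subgroup G) : ℕ → Subgroup G
  | 0 => K
  | n + 1 => ⁅dser K n, dser K n⁆

theorem dser_mono {K L : Subgroup G} (h : K ≤ L) : ∀ n, dser K n ≤ dser L n
  | 0 => h
  | n + 1 => Subgroup.commutator_mono (dser_mono h n) (dser_mono h n)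

theorem map_derivedSeries_subtype (K : Subgroup G) :
    ∀ n, (derivedSeries ↥K n).map K.subtype = dser K n
  | 0 => by
    rw [derivedSeries_zero, ← MonoidHom.range_eq_map, Subgroup.range_subtype]
    rfl
  | n + 1 => by
    rw [derivedSeries_succ, Subgroup.map_commutator, map_derivedSeries_subtype K n]
    rfl

theorem derivedSeries_add' (a : ℕ) : ∀ n, derivedSeries G (a + n) = dser (derivedSeries G a) n
  | 0 => rfl
  | n + 1 => by
    rw [← add_assoc, derivedSeries_succ, derivedSeries_add' a n]
    rfl

theorem dser_eq_bot_of_le {K S : Subgroup G} (h : K ≤ S) (n : ℕ)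
    (hS : derivedSeries ↥S n = ⊥) : dser K n = ⊥ := by
  have h1 : dser S n = ⊥ := by
    rw [← map_derivedSeries_subtype, hS, Subgroup.map_bot]
  exact le_bot_iff.mp (h1 ▸ dser_mono h n)

end derived

universe u

/-- the main induction -/
theorem aux (r : ℕ) (q : Fin r → ℕ) (hq : ∀ i, (q i).Prime) (d : Fin r → ℕ) :
    ∀ (μ : ℕ) (G : Type u) [Group G] [Finite G] (l : Fin r → ℕ),
      Nat.card G + Finset.univ.sum l = μ →
      (∀ s : ℕ, s.Prime → s ∣ Nat.card G → ∃ i, q i = s) →
      (∀ i, ∀ S : Sylow (q i) G, derivedSeries ↥(S : Subgroup G) (d i) = ⊥) →
      (∀ i, Cfsg.PLengthLE (q i) (l i) G) →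
      derivedSeries G (Finset.univ.sum fun i => d i * l i) = ⊥ := by
  intro μ
  induction μ using Nat.strong_induction_on with
  | _ μ ih =>
    intro G _ _ l hμ hcover hd hl
    classical
    set m := Finset.univ.sum fun i => d i * l i with hm
    -- key claim
    have key : ∀ i, derivedSeries G m ≤ (Cfsg.upperPSeries (q i) G 1).1 := by
      intro i
      have hpi : Fact (q i).Prime := ⟨hq i⟩
      by_cases hU1 : (Cfsg.upperPSeries (q i) G 1).1 = ⊥
      · -- trivial p'-core
        by_cases hli : l i = 0
        · have h0 := hl i
          unfold Cfsg.PLengthLE at h0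
          rw [hli] at h0
          have : (Cfsg.upperPSeries (q i) G 1).1 = ⊤ := h0
          rw [this]
          exact le_top
        · -- pass to G / U_2
          set P : Subgroup G := (Cfsg.upperPSeries (q i) G 2).1 with hP
          have hPp : IsPGroup (q i) P := isPGroup_upperPSeries_two (q i) hU1
          let l' : Fin r → ℕ := Function.update l i (l i - 1)
          have hl'i : l' i = l i - 1 := Function.update_self ..
          have hl'j : ∀ j, j ≠ i → l' j = l j := fun j hj => Function.update_of_ne hj ..
          have hpt : ∀ j, l j = l' j + (if j = i then 1 else 0) := by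
            intro j
            by_cases h : j = i
            · subst h
              rw [hl'i, if_pos rfl]
              omega
            · rw [hl'j j h, if_neg h, add_zero]
          have hsum : Finset.univ.sum l' + 1 = Finset.univ.sum l := by
            calc Finset.univ.sum l' + 1
                = Finset.univ.sum l' + Finset.univ.sum (fun j => if j = i then 1 else 0) := by
                  rw [Finset.sum_ite_eq' Finset.univ i (fun _ => 1), if_pos (Finset.mem_univ i)]
              _ = Finset.univ.sum (fun j => l' j + (if j = i then 1 else 0)) :=
                  Finset.sum_add_distrib.symm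
              _ = Finset.univ.sum l := Finset.sum_congr rfl (fun j _ => (hpt j).symm)
          have hpt2 : ∀ j, d j * l j = d j * l' j + (if j = i then d i else 0) := by
            intro j
            by_cases h : j = i
            · subst h
              rw [hl'i, if_pos rfl]
              obtain ⟨k, hk⟩ := Nat.exists_eq_succ_of_ne_zero hli
              rw [hk, Nat.succ_sub_one, Nat.mul_succ]
            · rw [hl'j j h, if_neg h, add_zero]
          have hsum2 : (Finset.univ.sum fun j => d j * l' j) + d i = m := by
            calc (Finset.univ.sum fun j => d j * l' j) + d i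
                = (Finset.univ.sum fun j => d j * l' j)
                    + Finset.univ.sum (fun j => if j = i then d i else 0) := by
                  rw [Finset.sum_ite_eq' Finset.univ i (fun _ => d i), if_pos (Finset.mem_univ i)]
              _ = Finset.univ.sum (fun j => d j * l' j + (if j = i then d i else 0)) :=
                  Finset.sum_add_distrib.symm
              _ = m := Finset.sum_congr rfl (fun j _ => (hpt2 j).symm)
          have hcardle : Nat.card (G ⧸ P) ≤ Nat.card G :=
            Nat.card_le_card_of_surjective _ (QuotientGroup.mk'_surjective P)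
          have hlt : Nat.card (G ⧸ P) + Finset.univ.sum l' < μ := by omega
          have hquot := ih _ hlt (G ⧸ P) l' rfl
            (fun s hs hdvd => hcover s hs (hdvd.trans
              (Subgroup.card_dvd_of_surjective _ (QuotientGroup.mk'_surjective P))))
            (fun j S => by
              have hpj : Fact (q j).Prime := ⟨hq j⟩
              obtain ⟨S0, rfl⟩ := Sylow.mapSurjective_surjective
                (QuotientGroup.mk'_surjective P) (q j) S
              rw [Sylow.coe_mapSurjective]
              have hsurj := (QuotientGroup.mk' P).subgroupMap_surjective (S0 : Subgroup G)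
              rw [← map_derivedSeries_eq hsurj, hd j S0, Subgroup.map_bot])
            (fun j => by
              have hpj : Fact (q j).Prime := ⟨hq j⟩
              by_cases hji : j = i
              · subst hji
                rw [hl'i]
                exact pLengthLE_quotient_two (q j) (l j) (Nat.one_le_iff_ne_zero.mpr hli) (hl j)
              · rw [hl'j j hji]
                exact pLengthLE_of_surjective (q j) _ (QuotientGroup.mk'_surjective P) _ (hl j))
          -- so the derived series of G reaches P
          have hreach : derivedSeries G (Finset.univ.sum fun j => d j * l' j) ≤ P := by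
            have h1 := map_derivedSeries_le_derivedSeries (QuotientGroup.mk' P)
              (Finset.univ.sum fun j => d j * l' j)
            rw [hquot, le_bot_iff, Subgroup.map_eq_bot_iff, QuotientGroup.ker_mk'] at h1
            exact h1
          obtain ⟨S, hS⟩ := hPp.exists_le_sylow
          have hbot : derivedSeries G m = ⊥ := by
            rw [← hsum2, derivedSeries_add']
            exact dser_eq_bot_of_le (hreach.trans hS) (d i) (hd i S)
          rw [hbot]
          exact bot_le
      · -- nontrivial p'-core: pass to the quotient
        set N : Subgroup G := (Cfsg.upperPSeries (q i) G 1).1 with hN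
        have hcardlt : Nat.card (G ⧸ N) < Nat.card G := by
          have h1 : Nat.card (G ⧸ N) * Nat.card N = Nat.card G := by
            rw [mul_comm]
            exact (Subgroup.card_eq_card_quotient_mul_card_subgroup N).symm ▸ (mul_comm _ _)
          have h2 : 1 < Nat.card N := by
            rw [Subgroup.one_lt_card_iff_ne_bot]
            exact hU1
          have hpos : 0 < Nat.card (G ⧸ N) := Nat.card_pos
          nlinarith
        have hlt : Nat.card (G ⧸ N) + Finset.univ.sum l < μ := by omega
        have hquot := ih _ hlt (G ⧸ N) l rfl
          (fun s hs hdvd => hcover s hs (hdvd.trans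
            (Subgroup.card_dvd_of_surjective _ (QuotientGroup.mk'_surjective N))))
          (fun j S => by
            have hpj : Fact (q j).Prime := ⟨hq j⟩
            obtain ⟨S0, rfl⟩ := Sylow.mapSurjective_surjective
              (QuotientGroup.mk'_surjective N) (q j) S
            rw [Sylow.coe_mapSurjective]
            have hsurj := (QuotientGroup.mk' N).subgroupMap_surjective (S0 : Subgroup G)
            rw [← map_derivedSeries_eq hsurj, hd j S0, Subgroup.map_bot])
          (fun j => by
            have hpj : Fact (q j).Prime := ⟨hq j⟩
            exact pLengthLE_of_surjective (q j) _ (QuotientGroup.mk'_surjective N) _ (hl j))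
        have h1 := map_derivedSeries_le_derivedSeries (QuotientGroup.mk' N) m
        rw [hquot, le_bot_iff, Subgroup.map_eq_bot_iff, QuotientGroup.ker_mk'] at h1
        exact h1
    -- conclude
    rw [eq_bot_iff]
    intro x hx
    rw [Subgroup.mem_bot]
    by_contra hx1
    have hord : orderOf x ≠ 1 := fun h => hx1 (orderOf_eq_one_iff.mp h)
    obtain ⟨s, hs, hsdvd⟩ := Nat.exists_prime_and_dvd hord
    obtain ⟨i, rfl⟩ := hcover s hs (hsdvd.trans (orderOf_dvd_natCard x))
    have hxU := key i hx
    have hcop := card_upperPSeries_one_coprime (G := G) (q i)
    have hdvd2 : orderOf x ∣ Nat.card (Cfsg.upperPSeries (q i) G 1).1 := by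
      have := orderOf_dvd_natCard (⟨x, hxU⟩ : (Cfsg.upperPSeries (q i) G 1).1)
      rwa [Subgroup.orderOf_mk] at this
    have : q i ∣ Nat.gcd (Nat.card (Cfsg.upperPSeries (q i) G 1).1) (q i) :=
      Nat.dvd_gcd (hsdvd.trans hdvd2) dvd_rfl
    rw [hcop] at this
    exact hs.one_lt.ne' (Nat.dvd_one.mp this)

/-- The Hall–Higman bound on derived length: let G be a finite solvable group, let p₁, …, p_r be distinct primes that include every prime dividing the order of G, and suppose that for each i the Sylow p_i-subgroups of G have derived length at most d_i and G has p_i-length at most l_i. Then G has derived length at most Σ d_i l_i. -/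
theorem result {G : Type*} [Group G] [Finite G] (hG : Group.IsSolvable G) (r : ℕ) (q : Fin r → ℕ) (hq : ∀ i, (q i).Prime) (hinj : Function.Injective q) (hcover : ∀ s : ℕ, s.Prime → s ∣ Nat.card G → ∃ i, q i = s) (d l : Fin r → ℕ) (hd : ∀ i, ∀ P : Subgroup G, (haveI := Fact.mk (hq i); ∃ S : Sylow (q i) G, (S : Subgroup G) = P) → derivedSeries ↥P (d i) = ⊥) (hl : ∀ i, Cfsg.PLengthLE (q i) (l i) G) : derivedSeries G (Finset.univ.sum fun i => d i * l i) = ⊥ := by
  exact aux r q hq d _ G l rfl hcover
    (fun i S => hd i (S : Subgroup G) ⟨S, rfl⟩) hl

end Cfsg.Agent.S3791
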