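import Cfsg.Statements.S3794
-- import your own Cfsg.Agent.* helpers here

import Cfsg.Agent.Lib.Helper15.FPF4Main

set_option autoImplicit false
open Cfsg

namespace Cfsg.Agent.S3794

open Cfsg.Agent.Lib.Helper15

universe u

theorem mulAut_pow_apply4 {G : Type u} [Group G] (σ : MulAut G) (k : ℕ) (g : G) :
    (σ ^ k) g = (⇑σ.toMonoidHom)^[k] g := by
  induction k generalizing g with
  | zero => rfl
  | succ k ih =>
    rw [pow_succ, MulAut.mul_apply, ih, Function.iterate_succ_apply]
    rfl

/-- Let G be a finite solvable group with an automorphism σ satisfying σ⁴ = 1 and fixing only the identity. Then the derived subgroup G' is nilpotent. -/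
theorem result {G : Type*} [Group G] [Finite G] (hG : Group.IsSolvable G) (σ : MulAut G) (hσ : σ ^ 4 = 1) (hfpf : ∀ g : G, σ g = g → g = 1) : Group.IsNilpotent (commutator G) := by
  have h : IsFpfPer 4 σ.toMonoidHom := by
    refine ⟨hfpf, fun g => ?_⟩
    rw [← mulAut_pow_apply4, hσ]
    rfl
  exact nilpotent_commutator_of_fpf_four h

end Cfsg.Agent.S3794
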