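import Cfsg.Statements.S3796
import Cfsg.Agent.Lib.Helper56.WardGroupD

set_option autoImplicit false
open Cfsg

namespace Cfsg.Agent.S3796

/-- Ward's Theorem: let G be a finite solvable group and A an elementary abelian group of automorphisms of G of order p² (p a prime) with no non-identity common fixed point. Then G has Fitting height at most 2: G has Fitting height at most m when there is a chain of normal subgroups 1 = F₀ ≤ F₁ ≤ ⋯ ≤ F_m = G with each F_{i+1}/F_i nilpotent. -/
theorem result {G : Type*} [Group G] [Finite G] (hG : Group.IsSolvable G) {p : ℕ} (hp : p.Prime) (A : Subgroup (MulAut G)) (hA : Cfsg.IsElementaryAbelian p A) (hcard : Nat.card A = p ^ 2) (hfpf : ∀ g : G, (∀ a ∈ A, a g = g) → g = 1) : ∃ F : Fin (2 + 1) → Subgroup G, F 0 = ⊥ ∧ F (Fin.last 2) = ⊤ ∧ Monotone F ∧ (∀ i, (F i).Normal) ∧ ∀ i : Fin 2, ∃ k : ℕ, (F i.succ).lowerCentralSeries k ≤ F i.castSucc := by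
  have : Fact p.Prime := ⟨hp⟩
  have := hG
  obtain ⟨hAc, hAe⟩ := hA
  have hB : Cfsg.Agent.Lib.Helper56.WardG.IsEA2T p ↥A :=
    ⟨fun a b => hAc.is_comm.comm a b, fun a => Subtype.ext (by simpa using hAe a a.2), hcard⟩
  have hfpf' : ∀ g : G, (∀ b : ↥A, A.subtype b g = g) → g = 1 :=
    fun g hg => hfpf g (fun a ha => hg ⟨a, ha⟩)
  obtain ⟨k, hk⟩ := Cfsg.Agent.Lib.Helper56.WardG.ward_lcs hB (Nat.card G + 1) G A.subtype
    (Nat.lt_succ_self _) hfpf'
  set N : Subgroup G := Cfsg.fittingSubgroup G with hNdef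
  have hNn : N.Normal := Cfsg.Agent.Lib.Helper13.fittingSubgroup_normal
  have hNnil : Group.IsNilpotent N := Cfsg.Agent.Lib.Helper01.fitting_isNilpotent
  obtain ⟨k₀, hk₀⟩ := (Subgroup.isNilpotent_iff_lowerCentralSeries N).mp hNnil
  refine ⟨![⊥, N, ⊤], rfl, rfl, ?_, ?_, ?_⟩
  · intro i j hij
    fin_cases i <;> fin_cases j <;> simp_all
  · intro i
    fin_cases i
    · exact (inferInstance : (⊥ : Subgroup G).Normal)
    · exact hNn
    · exact (inferInstance : (⊤ : Subgroup G).Normal)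
  · intro i
    fin_cases i
    · exact ⟨k₀, by simpa using hk₀.le⟩
    · exact ⟨k, by simpa using hk⟩

end Cfsg.Agent.S3796
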