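-- Statement S3799: extraspecial groups of exponent p exist (Heisenberg groups).
import Mathlib
import Cfsg.Statements.S3799
import Cfsg.Agent.Lib.Helper72.Frattini
import Cfsg.Agent.Lib.Helper03.PGroupFrattini

set_option autoImplicit false
open Cfsg

namespace Cfsg.Agent.S3799

open scoped commutatorElement

/-- the Heisenberg group of dimension `2 n + 1` over `K`. -/
@[ext] structure Heis (n : ℕ) (K : Type*) where
  a : Fin n → K
  b : Fin n → K
  c : K

section
variable {n : ℕ} {K : Type*} [CommRing K]

instance : Mul (Heis n K) := ⟨fun x y => ⟨x.a + y.a, x.b + y.b, x.c + y.c + x.a ⬝ᵥ y.b⟩⟩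
instance : One (Heis n K) := ⟨⟨0, 0, 0⟩⟩
instance : Inv (Heis n K) := ⟨fun x => ⟨-x.a, -x.b, -x.c + x.a ⬝ᵥ x.b⟩⟩

@[simp] lemma mul_a (x y : Heis n K) : (x * y).a = x.a + y.a := rfl
@[simp] lemma mul_b (x y : Heis n K) : (x * y).b = x.b + y.b := rfl
@[simp] lemma mul_c (x y : Heis n K) : (x * y).c = x.c + y.c + x.a ⬝ᵥ y.b := rfl
@[simp] lemma one_a : (1 : Heis n K).a = 0 := rfl
@[simp] lemma one_b : (1 : Heis n K).b = 0 := rfl
@[simp] lemma one_c : (1 : Heis n K).c = 0 := rfl
@[simp] lemma inv_a (x : Heis n K) : (x⁻¹).a = -x.a := rfl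
@[simp] lemma inv_b (x : Heis n K) : (x⁻¹).b = -x.b := rfl
@[simp] lemma inv_c (x : Heis n K) : (x⁻¹).c = -x.c + x.a ⬝ᵥ x.b := rfl

instance : Group (Heis n K) where
  mul_assoc x y z := by
    ext <;> simp [add_assoc, add_dotProduct, dotProduct_add]
    ring
  one_mul x := by ext <;> simp
  mul_one x := by ext <;> simp
  inv_mul_cancel x := by
    ext <;> simp [neg_dotProduct]

lemma pow_a (x : Heis n K) (k : ℕ) : (x ^ k).a = (k : K) • x.a := by
  induction k with
  | zero => simp
  | succ k ih => rw [pow_succ, mul_a, ih]; push_cast; rw [add_smul, one_smul]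

lemma pow_b (x : Heis n K) (k : ℕ) : (x ^ k).b = (k : K) • x.b := by
  induction k with
  | zero => simp
  | succ k ih => rw [pow_succ, mul_b, ih]; push_cast; rw [add_smul, one_smul]

lemma pow_c (x : Heis n K) (k : ℕ) :
    (x ^ k).c = (k : K) * x.c + ((k.choose 2 : ℕ) : K) * (x.a ⬝ᵥ x.b) := by
  induction k with
  | zero => simp
  | succ k ih =>
    rw [pow_succ, mul_c, ih, pow_a, smul_dotProduct]
    have : (k + 1).choose 2 = k.choose 2 + k := by
      rw [Nat.choose_succ_succ' k 1, Nat.choose_one_right]; ring
    rw [this]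
    push_cast
    simp only [smul_eq_mul]
    ring

lemma comm_elt (x y : Heis n K) :
    ⁅x, y⁆ = ⟨0, 0, x.a ⬝ᵥ y.b - y.a ⬝ᵥ x.b⟩ := by
  rw [commutatorElement_def]
  ext <;> simp [add_dotProduct, dotProduct_add, neg_dotProduct, dotProduct_neg]
  ring

end

section
variable {n : ℕ} {K : Type*} [CommRing K]

lemma mem_center_iff (x : Heis n K) : x ∈ Subgroup.center (Heis n K) ↔ x.a = 0 ∧ x.b = 0 := by
  classical
  rw [Subgroup.mem_center_iff]
  constructor
  · intro h
    constructor
    · ext j
      have := congrArg Heis.c (h ⟨0, Pi.single j 1, 0⟩)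
      simp at this
      simpa using this
    · ext j
      have := congrArg Heis.c (h ⟨Pi.single j 1, 0, 0⟩)
      simp at this
      exact this
  · rintro ⟨ha, hb⟩ g
    ext <;> simp [ha, hb, add_comm]

/-- the underlying triple. -/
def toTriple : Heis n K ≃ (Fin n → K) × (Fin n → K) × K where
  toFun x := (x.a, x.b, x.c)
  invFun t := ⟨t.1, t.2.1, t.2.2⟩
  left_inv _ := rfl
  right_inv _ := rfl

/-- index type for the matrices. -/
abbrev Idx (n : ℕ) := Unit ⊕ (Fin n ⊕ Unit)

/-- the nilpotent part of the matrix of an element. -/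
def Nmat (x : Heis n K) : Matrix (Idx n) (Idx n) K := Matrix.of fun i j =>
  match i, j with
  | .inl _, .inr (.inl j) => x.a j
  | .inl _, .inr (.inr _) => x.c
  | .inr (.inl i), .inr (.inr _) => x.b i
  | _, _ => 0

lemma Nmat_one : Nmat (1 : Heis n K) = 0 := by
  ext i j
  rcases i with (_ | i | _) <;> rcases j with (_ | j | _) <;> simp [Nmat]

lemma Nmat_mul (x y : Heis n K) : Nmat (x * y) = Nmat x + Nmat y + Nmat x * Nmat y := by
  ext i j
  rcases i with (_ | i | _) <;> rcases j with (_ | j | _) <;>
    simp [Nmat, Matrix.mul_apply, Fintype.sum_sum_type, dotProduct]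

/-- the matrix representation. -/
def matHom : Heis n K →* Matrix (Idx n) (Idx n) K where
  toFun x := 1 + Nmat x
  map_one' := by rw [Nmat_one, add_zero]
  map_mul' x y := by
    rw [Nmat_mul]
    noncomm_ring

lemma matHom_injective : Function.Injective (matHom (n := n) (K := K)) := by
  intro x y h
  have h2 : Nmat x = Nmat y := by
    have : (1 : Matrix (Idx n) (Idx n) K) + Nmat x = 1 + Nmat y := h
    exact add_left_cancel this
  ext j
  · have := congrFun (congrFun h2 (.inl ())) (.inr (.inl j))
    simpa [Nmat] using this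
  · have := congrFun (congrFun h2 (.inr (.inl j))) (.inr (.inr ()))
    simpa [Nmat] using this
  · have := congrFun (congrFun h2 (.inl ())) (.inr (.inr ()))
    simpa [Nmat] using this

end

section
variable (p : ℕ) [Fact p.Prime] (n : ℕ)

lemma pow_p (hp : p ≠ 2) (x : Heis n (ZMod p)) : x ^ p = 1 := by
  have hpp : p.Prime := Fact.out
  have h2 : ((p.choose 2 : ℕ) : ZMod p) = 0 := by
    rw [ZMod.natCast_eq_zero_iff]
    apply hpp.dvd_choose_self (by norm_num)
    have := hpp.two_le
    omega
  ext
  · rw [pow_a]; simp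
  · rw [pow_b]; simp
  · rw [pow_c, h2]; simp

omit [Fact p.Prime] in
lemma card_heis : Nat.card (Heis n (ZMod p)) = p ^ (1 + 2 * n) := by
  rw [Nat.card_congr toTriple, Nat.card_prod, Nat.card_prod, Nat.card_fun, Nat.card_zmod,
    Nat.card_eq_fintype_card, Fintype.card_fin]
  ring

/-- the embedding into `GL (Fin (n + 2))`. -/
noncomputable def glHom : Heis n (ZMod p) →* Matrix.GeneralLinearGroup (Fin (n + 2)) (ZMod p) :=
  (Units.mapEquiv (Matrix.reindexAlgEquiv (ZMod p) (ZMod p)
    (Fintype.equivFinOfCardEq (by simp; omega) : Idx n ≃ Fin (n + 2))).toMulEquiv).toMonoidHom.comp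
    (matHom (n := n) (K := ZMod p)).toHomUnits

lemma glHom_injective : Function.Injective (glHom p n) := by
  unfold glHom
  intro x y h
  have h1 := (Units.mapEquiv _).injective h
  have h2 := congrArg Units.val h1
  simp only [MonoidHom.coe_toHomUnits] at h2
  exact matHom_injective h2

end

/-- For every odd prime p and every n ≥ 1 there is an extraspecial p-group of order p^(1+2n) and exponent p; concretely, the general linear group of degree n + 2 over the field with p elements contains such a subgroup. -/
theorem result (p : ℕ) [Fact p.Prime] (hp : p ≠ 2) (n : ℕ) (hn : 1 ≤ n) : ∃ E : Subgroup (Matrix.GeneralLinearGroup (Fin (n + 2)) (ZMod p)), Cfsg.IsExtraspecial p ↥E ∧ Nat.card E = p ^ (1 + 2 * n) ∧ ∀ x ∈ E, x ^ p = 1 := by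
  classical
  have hinj := glHom_injective p n
  let e : Heis n (ZMod p) ≃* (glHom p n).range := MonoidHom.ofInjective hinj
  have hcard : Nat.card (glHom p n).range = p ^ (1 + 2 * n) := by
    rw [← card_heis p n]; exact (Nat.card_congr e.toEquiv).symm
  have hpowE : ∀ x : (glHom p n).range, x ^ p = 1 := by
    intro x
    obtain ⟨h, rfl⟩ := e.surjective x
    rw [← map_pow, pow_p p n hp, map_one]
  have hPG : IsPGroup p (glHom p n).range := IsPGroup.of_card hcard
  have hfin : Finite (glHom p n).range := Nat.finite_of_card_ne_zero (by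
    rw [hcard]; exact pow_ne_zero _ (Fact.out : p.Prime).ne_zero)
  have hcen : ∀ h : Heis n (ZMod p), e h ∈ Subgroup.center (glHom p n).range ↔ h.a = 0 ∧ h.b = 0 := by
    intro h
    rw [← mem_center_iff, Subgroup.mem_center_iff, Subgroup.mem_center_iff]
    constructor
    · intro H g
      apply e.injective
      rw [map_mul, map_mul]; exact H (e g)
    · intro H g
      obtain ⟨g', rfl⟩ := e.surjective g
      rw [← map_mul, ← map_mul, H g']
  have hcomm : commutator (glHom p n).range = Subgroup.center (glHom p n).range := by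
    apply le_antisymm
    · rw [commutator_def, Subgroup.commutator_le]
      intro x _ y _
      obtain ⟨x', rfl⟩ := e.surjective x
      obtain ⟨y', rfl⟩ := e.surjective y
      rw [← map_commutatorElement, hcen, comm_elt]
      exact ⟨rfl, rfl⟩
    · intro z hz
      obtain ⟨z', rfl⟩ := e.surjective z
      rw [hcen] at hz
      let j : Fin n := ⟨0, by omega⟩
      have : z' = ⁅(⟨Pi.single j z'.c, 0, 0⟩ : Heis n (ZMod p)), ⟨0, Pi.single j 1, 0⟩⁆ := by
        rw [comm_elt]
        ext i
        · simp [hz.1]
        · simp [hz.2]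
        · simp
      rw [this, map_commutatorElement, commutator_def]
      exact Subgroup.commutator_mem_commutator (Subgroup.mem_top _) (Subgroup.mem_top _)
  have hcardcen : Nat.card (Subgroup.center (glHom p n).range) = p := by
    let f : ZMod p → Subgroup.center (glHom p n).range := fun c =>
      ⟨e ⟨0, 0, c⟩, (hcen _).2 ⟨rfl, rfl⟩⟩
    have hf : Function.Bijective f := by
      constructor
      · intro c c' h
        have h1 := congrArg Subtype.val h
        have h2 := e.injective h1
        exact congrArg Heis.c h2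
      · rintro ⟨z, hz⟩
        obtain ⟨z', rfl⟩ := e.surjective z
        rw [hcen] at hz
        refine ⟨z'.c, ?_⟩
        apply Subtype.ext
        show e ⟨0, 0, z'.c⟩ = e z'
        congr 1
        ext i
        · simp [hz.1]
        · simp [hz.2]
        · rfl
    rw [← Nat.card_congr (Equiv.ofBijective f hf), Nat.card_zmod]
  have hfrat : frattini (glHom p n).range = Subgroup.center (glHom p n).range := by
    apply le_antisymm
    · apply Cfsg.Agent.Lib.Helper72.frattini_le_of_elementary_quotient p
      · intro x; rw [hpowE x]; exact Subgroup.one_mem _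
      · intro x y
        rw [← hcomm, commutator_def]
        exact Subgroup.commutator_mem_commutator (Subgroup.mem_top _) (Subgroup.mem_top _)
    · rw [← hcomm]
      exact Cfsg.Agent.Lib.Helper03.commutator_le_frattini_of_isPGroup hPG
  refine ⟨(glHom p n).range, ⟨⟨hPG, hfrat, hcomm⟩, hcardcen⟩, hcard, ?_⟩
  intro x hx
  have := hpowE ⟨x, hx⟩
  exact congrArg Subtype.val this

end Cfsg.Agent.S3799
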