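import Cfsg.Statements.S3800
import Cfsg.Agent.Lib.Helper68.SylowConj

set_option autoImplicit false
open Cfsg

namespace Cfsg.Agent.S3800

open Cfsg.Agent.Lib.Helper68

theorem inf_eq_bot_of_pgroup_coprime {G : Type*} [Group G] [Finite G] {p : ℕ} [Fact p.Prime]
    (N P : Subgroup G) (hN : (Nat.card N).Coprime p) (hP : IsPGroup p P) : P ⊓ N = ⊥ := by
  obtain ⟨n, hn⟩ := hP.exists_card_eq
  rw [← disjoint_iff]
  apply Subgroup.disjoint_of_coprime_natCard
  rw [hn]
  exact (Nat.Coprime.pow_right n hN).symm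

theorem not_dvd_relIndex {G : Type*} [Group G] [Finite G] {p : ℕ} [Fact p.Prime]
    (N : Subgroup G) [N.Normal] (hN : (Nat.card N).Coprime p) (P : Subgroup G) (hP : IsPGroup p P) :
    ¬ p ∣ P.relIndex (P ⊔ N) := by
  have hp : p.Prime := Fact.out
  have hbot : P ⊓ N = ⊥ := inf_eq_bot_of_pgroup_coprime N P hN hP
  -- |P ⊔ N| = |N| * [P ⊔ N : N] = |N| * [P : P ⊓ N] = |N| * |P|
  have h1 : N.relIndex (P ⊔ N) = N.relIndex P := Subgroup.relIndex_sup_right P N
  have h2 : Nat.card N * N.relIndex (P ⊔ N) = Nat.card (P ⊔ N : Subgroup G) := by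
    have := Subgroup.relIndex_mul_relIndex ⊥ N (P ⊔ N) bot_le le_sup_right
    rwa [Subgroup.relIndex_bot_left, Subgroup.relIndex_bot_left] at this
  have h3 : Nat.card P * P.relIndex (P ⊔ N) = Nat.card (P ⊔ N : Subgroup G) := by
    have := Subgroup.relIndex_mul_relIndex ⊥ P (P ⊔ N) bot_le le_sup_left
    rwa [Subgroup.relIndex_bot_left, Subgroup.relIndex_bot_left] at this
  have h4 : N.relIndex P = Nat.card P := by
    rw [← Subgroup.inf_relIndex_right, inf_comm, hbot, Subgroup.relIndex_bot_left]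
  rw [h1, h4] at h2
  have h5 : P.relIndex (P ⊔ N) = Nat.card N := by
    have hpos : 0 < Nat.card P := Nat.card_pos
    apply Nat.eq_of_mul_eq_mul_left hpos
    rw [h3, ← h2, mul_comm]
  rw [h5]
  intro hdvd
  have := Nat.Coprime.eq_one_of_dvd hN.symm hdvd
  exact hp.one_lt.ne' this

/-- Let G be a finite group, N a normal subgroup of G whose order is prime to p, and P a p-subgroup of G. Then in G/N the normalizer of the image of P is the image of N_G(P), and the centralizer of the image of P is the image of C_G(P). -/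
theorem result {G : Type*} [Group G] [Finite G] {p : ℕ} [Fact p.Prime] (N : Subgroup G) [N.Normal] (hN : (Nat.card N).Coprime p) (P : Subgroup G) (hP : IsPGroup p P) : Subgroup.normalizer ((P.map (QuotientGroup.mk' N)) : Set (G ⧸ N)) = (Subgroup.normalizer (P : Set G)).map (QuotientGroup.mk' N) ∧ Subgroup.centralizer ((P.map (QuotientGroup.mk' N)) : Set (G ⧸ N)) = (Subgroup.centralizer (P : Set G)).map (QuotientGroup.mk' N) := by
  classical
  have hbot : P ⊓ N = ⊥ := inf_eq_bot_of_pgroup_coprime N P hN hP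
  have hsurj : Function.Surjective (QuotientGroup.mk' N) := QuotientGroup.mk'_surjective N
  have key : Subgroup.normalizer ((P.map (QuotientGroup.mk' N)) : Set (G ⧸ N)) ≤ (Subgroup.normalizer (P : Set G)).map (QuotientGroup.mk' N) := by
    intro gbar hgbar
    obtain ⟨g, rfl⟩ := hsurj gbar
    rw [← cj_eq_self_iff] at hgbar
    -- image of cj g P equals image of P
    have himg : (cj g P).map (QuotientGroup.mk' N) = P.map (QuotientGroup.mk' N) := by
      rw [← hgbar]
      ext y
      simp only [Subgroup.mem_map]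
      constructor
      · rintro ⟨x, ⟨h, hh, rfl⟩, rfl⟩
        exact ⟨(QuotientGroup.mk' N) h, ⟨h, hh, rfl⟩, by simp⟩
      · rintro ⟨x, ⟨h, hh, rfl⟩, rfl⟩
        exact ⟨g * h * g⁻¹, ⟨h, hh, rfl⟩, by simp⟩
    have hcomap := congrArg (Subgroup.comap (QuotientGroup.mk' N)) himg
    rw [Subgroup.comap_map_eq, Subgroup.comap_map_eq, QuotientGroup.ker_mk'] at hcomap
    have hgP : cj g P ≤ P ⊔ N := by
      calc cj g P ≤ cj g P ⊔ N := le_sup_left
        _ = P ⊔ N := hcomap
    have hcjp : IsPGroup p (cj g P) := hP.map _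
    have hidx1 : ¬ p ∣ P.relIndex (P ⊔ N) := not_dvd_relIndex N hN P hP
    have hidx2 : ¬ p ∣ (cj g P).relIndex (P ⊔ N) := by
      rw [← hcomap]
      exact not_dvd_relIndex N hN (cj g P) hcjp
    obtain ⟨j, hjJ, hj⟩ := exists_cj_eq_of_not_dvd_relIndex (P ⊔ N) P (cj g P) le_sup_left hgP hP hcjp hidx1 hidx2
    have hn : j⁻¹ * g ∈ Subgroup.normalizer (P : Set G) := by
      rw [← cj_eq_self_iff, cj_mul, ← hj, cj_inv_cj]
    -- the image of j lies in the image of P
    have hjimg : (QuotientGroup.mk' N) j ∈ P.map (QuotientGroup.mk' N) := by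
      have : (QuotientGroup.mk' N) j ∈ (P ⊔ N).map (QuotientGroup.mk' N) := ⟨j, hjJ, rfl⟩
      rw [Subgroup.map_sup, QuotientGroup.map_mk'_self, sup_bot_eq] at this
      exact this
    obtain ⟨u, hu, huj⟩ := hjimg
    refine ⟨u * (j⁻¹ * g), ?_, ?_⟩
    · exact Subgroup.mul_mem _ (Subgroup.le_normalizer hu) hn
    · rw [map_mul, huj, ← map_mul]
      congr 1
      group
  have key1 : Subgroup.normalizer ((P.map (QuotientGroup.mk' N)) : Set (G ⧸ N)) = (Subgroup.normalizer (P : Set G)).map (QuotientGroup.mk' N) :=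
    le_antisymm key (Subgroup.le_normalizer_map _)
  refine ⟨key1, le_antisymm ?_ ?_⟩
  · intro gbar hgbar
    have hgn : gbar ∈ Subgroup.normalizer ((P.map (QuotientGroup.mk' N)) : Set (G ⧸ N)) :=
      Subgroup.centralizer_le_normalizer _ hgbar
    obtain ⟨c, hc, rfl⟩ := key hgn
    refine ⟨c, ?_, rfl⟩
    rw [SetLike.mem_coe] at hc
    rw [SetLike.mem_coe, Subgroup.mem_centralizer_iff]
    intro x hx
    have hx' : x ∈ P := hx
    -- the commutator lies in P ⊓ N
    have h1 : c * x * c⁻¹ ∈ P := by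
      have := cj_eq_self_iff.2 hc
      rw [← this]
      exact mem_cj.2 ⟨x, hx', rfl⟩
    have h2 : c * x * c⁻¹ * x⁻¹ ∈ P := P.mul_mem h1 (P.inv_mem hx')
    have h3 : c * x * c⁻¹ * x⁻¹ ∈ N := by
      rw [← QuotientGroup.eq_one_iff]
      have hcomm := Subgroup.mem_centralizer_iff.1 hgbar ((QuotientGroup.mk' N) x) ⟨x, hx', rfl⟩
      have hcomm' : ((x : G) : G ⧸ N) * (c : G ⧸ N) = (c : G ⧸ N) * (x : G ⧸ N) := hcomm
      simp only [QuotientGroup.mk_mul, QuotientGroup.mk_inv]
      rw [← hcomm']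
      group
    have h4 : c * x * c⁻¹ * x⁻¹ ∈ P ⊓ N := ⟨h2, h3⟩
    rw [hbot, Subgroup.mem_bot] at h4
    have : c * x = x * c := by
      have h5 : c * x * c⁻¹ * x⁻¹ * (x * c) = x * c := by rw [h4, one_mul]
      rw [← h5]; group
    exact this.symm
  · rintro _ ⟨c, hc, rfl⟩
    rw [Subgroup.mem_centralizer_iff]
    rintro _ ⟨x, hx, rfl⟩
    rw [← map_mul, ← map_mul, Subgroup.mem_centralizer_iff.1 hc x hx]

end Cfsg.Agent.S3800
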