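import Cfsg.Statements.S3803
import Cfsg.Agent.Lib.Helper68.OddAct
import Cfsg.Agent.Lib.Helper03.PGroupFrattini
import Cfsg.Agent.Lib.Helper03.CyclicPGroup
import Cfsg.Agent.S0029
import Cfsg.Agent.S0056
-- import your own Cfsg.Agent.* helpers here

set_option autoImplicit false
open Cfsg

namespace Cfsg.Agent.S3803

open Cfsg.Agent.Lib.Helper68 in
/-- case where the invariant subgroups are the maximal ones -/
theorem case_max {X : Type*} [Group X] [Finite X] (P A : Subgroup X) (hP : IsPGroup 2 P)
    (hA : Odd (Nat.card A)) (hAP : A ≤ Subgroup.normalizer (P : Set X)) (d : ℕ)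
    (hcard : 2 ^ (d + 1) = Nat.card P)
    (hH : ∀ E : Subgroup X, E ≤ P → Nat.card E = 2 ^ d → A ≤ Subgroup.normalizer (E : Set X)) :
    A ≤ Subgroup.centralizer (P : Set X) := by
  apply Cfsg.Agent.S0029.result A P hAP
  · obtain ⟨k, hk⟩ := (hP.to_subgroup (frattini ↥P)).exists_card_eq
    rw [hk]
    exact Nat.Coprime.pow_right _ (Nat.coprime_two_right.2 hA)
  · intro a ha k hk
    have hak : a * k * a⁻¹ ∈ P := ((Subgroup.mem_normalizer_iff.1 (hAP ha)) k).1 hk
    refine ⟨⟨a * k * a⁻¹ * k⁻¹, P.mul_mem hak (P.inv_mem hk)⟩, ?_, rfl⟩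
    rw [SetLike.mem_coe, Cfsg.Agent.Lib.Helper03.mem_frattini_iff]
    intro M hM
    have hidx : M.index = 2 := Cfsg.Agent.Lib.Helper03.index_of_isCoatom_of_isPGroup hP hM
    have hcM : Nat.card (M.map P.subtype) = 2 ^ d := by
      rw [Nat.card_congr (M.equivMapOfInjective P.subtype P.subtype_injective).toEquiv.symm]
      have h1 := Subgroup.card_mul_index M
      rw [hidx, ← hcard, pow_succ] at h1
      exact Nat.eq_of_mul_eq_mul_right (by norm_num) h1
    have hAM := hH (M.map P.subtype) (Subgroup.map_subtype_le M) hcM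
    have hiff : (⟨a * k * a⁻¹, hak⟩ : ↥P) ∈ M ↔ (⟨k, hk⟩ : ↥P) ∈ M := by
      have h1 := (Subgroup.mem_normalizer_iff.1 (hAM ha)) k
      constructor
      · intro h
        have h2 : a * k * a⁻¹ ∈ M.map P.subtype := ⟨_, h, rfl⟩
        obtain ⟨y, hy, hyk⟩ := h1.2 h2
        have : y = ⟨k, hk⟩ := Subtype.ext hyk
        rwa [this] at hy
      · intro h
        have h2 : k ∈ M.map P.subtype := ⟨_, h, rfl⟩
        obtain ⟨y, hy, hyk⟩ := h1.1 h2
        have : y = ⟨a * k * a⁻¹, hak⟩ := Subtype.ext hyk
        rwa [this] at hy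
    have h3 : (⟨a * k * a⁻¹ * k⁻¹, P.mul_mem hak (P.inv_mem hk)⟩ : ↥P) =
        (⟨a * k * a⁻¹, hak⟩ : ↥P) * (⟨k, hk⟩ : ↥P)⁻¹ := rfl
    rw [h3, Subgroup.mul_mem_iff_of_index_two hidx, inv_mem_iff]
    exact hiff

open Cfsg.Agent.Lib.Helper68 in
/-- the main induction -/
theorem aux {X : Type*} [Group X] [Finite X] (A : Subgroup X) (hA : Odd (Nat.card A)) (n : ℕ) :
    ∀ P : Subgroup X, Nat.card P = n → IsPGroup 2 P → A ≤ Subgroup.normalizer (P : Set X) →
    ∀ d : ℕ, 1 ≤ d → 2 ^ d < Nat.card P →
    (∀ E : Subgroup X, E ≤ P → (Nat.card E = 2 ^ d ∨ (2 ^ d = 2 ∧ Nat.card E = 4)) →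
      A ≤ Subgroup.normalizer (E : Set X)) →
    P ≤ Subgroup.centralizer (A : Set X) := by
  induction n using Nat.strong_induction_on with
  | _ n ih =>
  intro P hn hP hAP d hd hlt hH
  obtain ⟨N, hN⟩ := hP.exists_card_eq
  have hdN : d < N := by
    rw [hN] at hlt
    exact (Nat.pow_lt_pow_iff_right (by norm_num)).1 hlt
  by_cases hcase : 2 ^ (d + 1) = Nat.card P
  · rw [Subgroup.le_centralizer_iff]
    exact case_max P A hP hA hAP d hcase (fun E hE hc => hH E hE (Or.inl hc))
  have hlt2 : 2 ^ (d + 1) < Nat.card P := by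
    apply lt_of_le_of_ne _ hcase
    rw [hN]
    exact Nat.pow_le_pow_right (by norm_num) hdN
  have hcardlt : ∀ R : Subgroup X, R ≤ P → R ≠ P → Nat.card R < Nat.card P := by
    intro R hRP hRne
    by_contra hge
    exact hRne (Subgroup.eq_of_le_of_card_ge hRP (Nat.not_lt.1 hge))
  have hstar : ∀ R : Subgroup X, R ≤ P → R ≠ P → A ≤ Subgroup.normalizer (R : Set X) →
      R ≤ Subgroup.centralizer (A : Set X) := by
    intro R hRP hRne hAR
    by_cases hRbig : 2 ^ d < Nat.card R
    · exact ih (Nat.card R) (hn ▸ hcardlt R hRP hRne) R rfl (hP.to_le hRP) hAR d hd hRbig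
        (fun E hE h => hH E (hE.trans hRP) h)
    · rw [not_lt] at hRbig
      obtain ⟨F, hRF, hFP, hFc⟩ := exists_subgroup_between hP hRP (d + 1)
        (hRbig.trans (Nat.pow_le_pow_right (by norm_num) (Nat.le_succ d))) hlt2.le
      have hFp : IsPGroup 2 F := hP.to_le hFP
      by_cases hcyc : IsCyclic ↥F
      · -- cyclic case
        haveI : IsMulCommutative ↥R :=
          ⟨⟨fun a b => Subtype.ext (by
            have := congrArg Subtype.val (mul_comm' (⟨a, hRF a.2⟩ : ↥F) ⟨b, hRF b.2⟩)
            simpa using this)⟩⟩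
        rw [Subgroup.le_centralizer_iff]
        apply Cfsg.Agent.S0056.result A R hAR
        · obtain ⟨k, hk⟩ := (hP.to_le hRP).exists_card_eq
          rw [hk]
          exact Nat.Coprime.pow_right _ (Nat.coprime_two_right.2 hA)
        · intro v hv hvp a ha
          have hv2 : orderOf v = 2 := by
            obtain ⟨k, hk⟩ := (hP.to_le hRP).exists_card_eq
            have h1 : orderOf v ∣ 2 ^ k := by
              rw [← hk]
              have := orderOf_dvd_natCard (⟨v, hv⟩ : ↥R)
              rwa [Subgroup.orderOf_mk] at this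
            exact (Nat.prime_dvd_prime_iff_eq hvp Nat.prime_two).1 (hvp.dvd_of_dvd_pow h1)
          have hw : a * v * a⁻¹ ∈ R := ((Subgroup.mem_normalizer_iff.1 (hAR ha)) v).1 hv
          have hw2 : (a * v * a⁻¹) ^ 2 = 1 := by
            rw [conj_pow, ← hv2, pow_orderOf_eq_one]; group
          have hmem := Cfsg.Agent.Lib.Helper03.mem_zpowers_of_pow_eq_one_of_isCyclic (P := ↥F)
            (p := 2) (by norm_num) ⟨v, hRF hv⟩ ⟨a * v * a⁻¹, hRF hw⟩
            (by rw [Subgroup.orderOf_mk]; exact hv2) (Subtype.ext (by simpa using hw2))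
          obtain ⟨k, hk⟩ := Subgroup.mem_zpowers_iff.1 hmem
          have hk' : v ^ k = a * v * a⁻¹ := by
            have := congrArg Subtype.val hk
            simpa using this
          have hk2 : v ^ k = v ^ (k % 2) := by
            have := zpow_mod_orderOf v k
            rw [hv2] at this
            exact_mod_cast this.symm
          have hcases : k % 2 = 0 ∨ k % 2 = 1 := by omega
          have hv1 : v ≠ 1 := by
            intro h
            rw [h, orderOf_one] at hv2
            norm_num at hv2
          rcases hcases with h0 | h1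
          · exfalso
            rw [hk2, h0, zpow_zero] at hk'
            apply hv1
            have : v = a⁻¹ * (a * v * a⁻¹) * a := by group
            rw [this, ← hk']; group
          · rw [hk2, h1, zpow_one] at hk'
            calc a * v = (a * v * a⁻¹) * a := by group
              _ = v * a := by rw [← hk']
      · -- noncyclic case
        have hAF : A ≤ Subgroup.normalizer (F : Set X) := by
          obtain ⟨M₁, _, hM₁F, hM₁c⟩ := exists_subgroup_between hFp (bot_le : (⊥ : Subgroup X) ≤ F) d
            (by rw [Subgroup.card_bot]; exact Nat.one_le_two_pow)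
            (by rw [hFc]; exact Nat.pow_le_pow_right (by norm_num) (Nat.le_succ d))
          have hM₁ne : M₁ ≠ F := by
            intro h
            rw [h, hFc] at hM₁c
            have := Nat.pow_right_injective (le_refl 2) hM₁c
            omega
          obtain ⟨x, hxF, hxM⟩ := SetLike.exists_of_lt (lt_of_le_of_ne hM₁F hM₁ne)
          have hzF : Subgroup.zpowers x ≤ F := Subgroup.zpowers_le.2 hxF
          have hzne : Subgroup.zpowers x ≠ F := by
            intro h
            exact hcyc ((Subgroup.isCyclic_iff_exists_zpowers_eq_top F).2 ⟨x, h⟩)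
          have hzc : Nat.card (Subgroup.zpowers x) ≤ 2 ^ d := by
            obtain ⟨j, hj⟩ := (hFp.to_le hzF).exists_card_eq
            rw [hj]
            apply Nat.pow_le_pow_right (by norm_num)
            by_contra hjd
            apply hzne
            apply Subgroup.eq_of_le_of_card_ge hzF
            rw [hFc, hj]
            exact Nat.pow_le_pow_right (by norm_num) (by omega)
          obtain ⟨M₂, hzM₂, hM₂F, hM₂c⟩ := exists_subgroup_between hFp hzF d hzc
            (by rw [hFc]; exact Nat.pow_le_pow_right (by norm_num) (Nat.le_succ d))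
          have hsup : M₁ ⊔ M₂ = F := by
            apply Subgroup.eq_of_le_of_card_ge (sup_le hM₁F hM₂F)
            obtain ⟨j, hj⟩ := (hFp.to_le (sup_le hM₁F hM₂F)).exists_card_eq
            rw [hFc, hj]
            apply Nat.pow_le_pow_right (by norm_num)
            by_contra hjd
            have h1 : Nat.card ↥(M₁ ⊔ M₂) ≤ Nat.card M₁ := by
              rw [hj, hM₁c]
              exact Nat.pow_le_pow_right (by norm_num) (by omega)
            have h2 := Subgroup.eq_of_le_of_card_ge (le_sup_left : M₁ ≤ M₁ ⊔ M₂) h1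
            apply hxM
            rw [h2]
            exact (le_sup_right : M₂ ≤ M₁ ⊔ M₂) (hzM₂ (Subgroup.mem_zpowers x))
          have h1 := hH M₁ (hM₁F.trans hFP) (Or.inl hM₁c)
          have h2 := hH M₂ (hM₂F.trans hFP) (Or.inl hM₂c)
          intro a ha
          rw [← cj_eq_self_iff, ← hsup, cj_sup, cj_eq_self_iff.2 (h1 ha), cj_eq_self_iff.2 (h2 ha)]
        have hFne : F ≠ P := by
          intro h
          rw [h] at hFc
          exact hcase hFc.symm
        have hFbig : 2 ^ d < Nat.card F := by
          rw [hFc]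
          exact Nat.pow_lt_pow_right (by norm_num) (Nat.lt_succ_self d)
        have := ih (Nat.card F) (hn ▸ hcardlt F hFP hFne) F rfl hFp hAF d hd hFbig
          (fun E hE h => hH E (hE.trans hFP) h)
        exact hRF.trans this
  have h4 : ∀ x ∈ P, x ^ 4 = 1 → x ∈ Subgroup.centralizer (A : Set X) := by
    intro x hx hx4
    have hYP : Subgroup.zpowers x ≤ P := Subgroup.zpowers_le.2 hx
    have hYne : ∀ E : Subgroup X, Nat.card E ≤ 2 ^ (d + 1) → E ≠ P := by
      intro E hE h
      rw [h] at hE
      omega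
    have hord : orderOf x ∣ 2 ^ 2 := orderOf_dvd_of_pow_eq_one (by norm_num; exact hx4)
    obtain ⟨j, hj2, hj⟩ := (Nat.dvd_prime_pow Nat.prime_two).1 hord
    have hYc : Nat.card (Subgroup.zpowers x) = 2 ^ j := by rw [Nat.card_zpowers, hj]
    by_cases hd2 : 2 ≤ d
    · obtain ⟨E, hYE, hEP, hEc⟩ := exists_subgroup_between hP hYP d
        (by rw [hYc]; exact Nat.pow_le_pow_right (by norm_num) (by omega)) hlt.le
      have hEne : E ≠ P := hYne E (by rw [hEc]; exact Nat.pow_le_pow_right (by norm_num) (Nat.le_succ d))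
      exact hstar E hEP hEne (hH E hEP (Or.inl hEc)) (hYE (Subgroup.mem_zpowers x))
    · have hd1 : d = 1 := by omega
      subst hd1
      have hjc : j = 0 ∨ j = 1 ∨ j = 2 := by omega
      rcases hjc with h | h | h
      · rw [h, pow_zero, orderOf_eq_one_iff] at hj
        rw [hj]; exact Subgroup.one_mem _
      · have hc : Nat.card (Subgroup.zpowers x) = 2 ^ 1 := by rw [hYc, h]
        have hne := hYne _ (by rw [hc]; norm_num)
        exact hstar _ hYP hne (hH _ hYP (Or.inl hc)) (Subgroup.mem_zpowers x)
      · have hc : Nat.card (Subgroup.zpowers x) = 4 := by rw [hYc, h]; norm_num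
        have hne := hYne _ (by rw [hc]; norm_num)
        exact hstar _ hYP hne (hH _ hYP (Or.inr ⟨by norm_num, hc⟩)) (Subgroup.mem_zpowers x)
  exact le_centralizer_of_critical P A hP hA hAP hstar h4

/-- Let P be a 2-subgroup and A a subgroup of odd order of a finite group, with A normalizing P. Let D ≤ P with 1 < |D| < |P|. If every subgroup of P of order |D|, and also every subgroup of P of order 4 in case |D| = 2, is normalized by A, then A centralizes P. -/
theorem result {X : Type*} [Group X] [Finite X] (P A D : Subgroup X) (hP : IsPGroup 2 P) (hA : Odd (Nat.card A))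
    (hAP : A ≤ Subgroup.normalizer (P : Set X)) (hDP : D ≤ P) (hD1 : 1 < Nat.card D) (hD2 : Nat.card D < Nat.card P)
    (hinv : ∀ E : Subgroup X, E ≤ P → (Nat.card E = Nat.card D ∨ (Nat.card D = 2 ∧ Nat.card E = 4)) → A ≤ Subgroup.normalizer (E : Set X)) :
    A ≤ Subgroup.centralizer (P : Set X) := by
  obtain ⟨d, hd⟩ := (hP.to_le hDP).exists_card_eq
  have hd1 : 1 ≤ d := by
    by_contra h
    have : d = 0 := by omega
    rw [this, pow_zero] at hd
    omega
  rw [Subgroup.le_centralizer_iff]
  apply aux A hA (Nat.card P) P rfl hP hAP d hd1 (hd ▸ hD2)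
  intro E hE h
  apply hinv E hE
  rw [hd]
  exact h

end Cfsg.Agent.S3803
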