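import Cfsg.Statements.S3804
import Cfsg.Agent.Lib.Helper68.ProdCard

set_option autoImplicit false
open Cfsg

namespace Cfsg.Agent.S3804


theorem measuring_real (α : ℝ) (hα : 0 < α) (a b j d cA cB cD cJ : ℕ)
    (ha : 0 < a) (hb : 0 < b) (hj : 0 < j) (hd : 0 < d)
    (hcA : 0 < cA) (hcB : 0 < cB) (hcD : 0 < cD) (hcJ : 0 < cJ)
    (h1 : a * b ≤ j * d) (h2 : cA * cB ≤ cD * cJ)
    (hAB : (a : ℝ) ^ α * cA = (b : ℝ) ^ α * cB)
    (hJ : (j : ℝ) ^ α * cJ ≤ (a : ℝ) ^ α * cA)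
    (hD : (d : ℝ) ^ α * cD ≤ (a : ℝ) ^ α * cA) :
    a * b = j * d ∧ cA * cB = cD * cJ ∧ (a : ℝ) ^ α * cA ≤ (j : ℝ) ^ α * cJ ∧
      (a : ℝ) ^ α * cA ≤ (d : ℝ) ^ α * cD := by
  have ha' : (0 : ℝ) < a := by exact_mod_cast ha
  have hb' : (0 : ℝ) < b := by exact_mod_cast hb
  have hj' : (0 : ℝ) < j := by exact_mod_cast hj
  have hd' : (0 : ℝ) < d := by exact_mod_cast hd
  have hcA' : (0 : ℝ) < cA := by exact_mod_cast hcA
  have hcB' : (0 : ℝ) < cB := by exact_mod_cast hcB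
  have hcD' : (0 : ℝ) < cD := by exact_mod_cast hcD
  have hcJ' : (0 : ℝ) < cJ := by exact_mod_cast hcJ
  set mA := (a : ℝ) ^ α * cA with hmA
  set mB := (b : ℝ) ^ α * cB with hmB
  set mJ := (j : ℝ) ^ α * cJ with hmJ
  set mD := (d : ℝ) ^ α * cD with hmD
  have hmApos : 0 < mA := mul_pos (Real.rpow_pos_of_pos ha' α) hcA'
  have hmJpos : 0 < mJ := mul_pos (Real.rpow_pos_of_pos hj' α) hcJ'
  have hmDpos : 0 < mD := mul_pos (Real.rpow_pos_of_pos hd' α) hcD'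
  set x : ℝ := (a : ℝ) * b with hx
  set y : ℝ := (j : ℝ) * d with hy
  set u : ℝ := (cA : ℝ) * cB with hu
  set v : ℝ := (cD : ℝ) * cJ with hv
  have hxpos : 0 < x := mul_pos ha' hb'
  have hupos : 0 < u := mul_pos hcA' hcB'
  have hxy : x ≤ y := by rw [hx, hy]; exact_mod_cast h1
  have huv : u ≤ v := by rw [hu, hv]; exact_mod_cast h2
  have e1 : mA * mB = x ^ α * u := by
    rw [hx, Real.mul_rpow ha'.le hb'.le, hmA, hmB, hu]; ring
  have e2 : mJ * mD = y ^ α * v := by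
    rw [hy, Real.mul_rpow hj'.le hd'.le, hmJ, hmD, hv]; ring
  have hxa : 0 < x ^ α := Real.rpow_pos_of_pos hxpos α
  have hxya : x ^ α ≤ y ^ α := Real.rpow_le_rpow hxpos.le hxy hα.le
  have hupper : mJ * mD ≤ mA * mA := by
    calc mJ * mD ≤ mA * mD := by exact mul_le_mul_of_nonneg_right hJ hmDpos.le
      _ ≤ mA * mA := mul_le_mul_of_nonneg_left hD hmApos.le
  have hlower : mA * mA ≤ mJ * mD := by
    calc mA * mA = mA * mB := by rw [hAB]
      _ = x ^ α * u := e1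
      _ ≤ y ^ α * u := mul_le_mul_of_nonneg_right hxya hupos.le
      _ ≤ y ^ α * v := mul_le_mul_of_nonneg_left huv (hxa.le.trans hxya)
      _ = mJ * mD := e2.symm
  have heq : x ^ α * u = y ^ α * v := by
    have : mA * mB = mJ * mD := by rw [← hAB]; exact le_antisymm hlower hupper
    rw [← e1, ← e2, this]
  have hxy' : x = y := by
    by_contra hne
    have hlt : x < y := lt_of_le_of_ne hxy hne
    have : x ^ α < y ^ α := Real.rpow_lt_rpow hxpos.le hlt hα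
    have : x ^ α * u < y ^ α * v := by
      calc x ^ α * u < y ^ α * u := mul_lt_mul_of_pos_right this hupos
        _ ≤ y ^ α * v := mul_le_mul_of_nonneg_left huv (hxa.le.trans hxya)
    exact absurd heq this.ne
  have huv' : u = v := by
    by_contra hne
    have hlt : u < v := lt_of_le_of_ne huv hne
    have : x ^ α * u < y ^ α * v := by
      calc x ^ α * u < x ^ α * v := mul_lt_mul_of_pos_left hlt hxa
        _ ≤ y ^ α * v := mul_le_mul_of_nonneg_right hxya (hupos.le.trans huv)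
    exact absurd heq this.ne
  refine ⟨?_, ?_, ?_, ?_⟩
  · rw [hx, hy] at hxy'; exact_mod_cast hxy'
  · rw [hu, hv] at huv'; exact_mod_cast huv'
  · have : mA * mA ≤ mJ * mA := hlower.trans (mul_le_mul_of_nonneg_left hD hmJpos.le)
    exact le_of_mul_le_mul_right this hmApos
  · have : mA * mA ≤ mA * mD := hlower.trans (mul_le_mul_of_nonneg_right hJ hmDpos.le)
    exact le_of_mul_le_mul_left this hmApos


/-- Let G and H be subgroups of a finite group with G normalizing H, fix a real number α > 0, and for a subgroup A of G put m(A) = |A|^α · |C_H(A)|. Let A and B be nontrivial subgroups of G at which m attains its maximum over all nontrivial subgroups of G, and assume that A ∩ B ≠ 1 or that this maximum is at least |H|. Then AB = BA is a subgroup at which m is again maximal, C_H(A ∩ B) = C_H(A) C_H(B), and if A ∩ B ≠ 1 then m is maximal at A ∩ B as well. -/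
theorem result {X : Type*} [Group X] [Finite X] (G H : Subgroup X) (hGH : G ≤ Subgroup.normalizer (H : Set X)) (α : ℝ) (hα : 0 < α)
    (A B : Subgroup X) (hA : A ≤ G) (hB : B ≤ G) (hA1 : A ≠ ⊥) (hB1 : B ≠ ⊥)
    (hAmax : ∀ A' : Subgroup X, A' ≤ G → A' ≠ ⊥ → (fun A : Subgroup X => ((Nat.card A : ℝ) ^ α) * (Nat.card ↥(H ⊓ Subgroup.centralizer (A : Set X)) : ℝ)) A' ≤ (fun A : Subgroup X => ((Nat.card A : ℝ) ^ α) * (Nat.card ↥(H ⊓ Subgroup.centralizer (A : Set X)) : ℝ)) A)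
    (hBmax : ∀ A' : Subgroup X, A' ≤ G → A' ≠ ⊥ → (fun A : Subgroup X => ((Nat.card A : ℝ) ^ α) * (Nat.card ↥(H ⊓ Subgroup.centralizer (A : Set X)) : ℝ)) A' ≤ (fun A : Subgroup X => ((Nat.card A : ℝ) ^ α) * (Nat.card ↥(H ⊓ Subgroup.centralizer (A : Set X)) : ℝ)) B)
    (hcase : A ⊓ B ≠ ⊥ ∨ (Nat.card H : ℝ) ≤ (fun A : Subgroup X => ((Nat.card A : ℝ) ^ α) * (Nat.card ↥(H ⊓ Subgroup.centralizer (A : Set X)) : ℝ)) A) :
    (∀ a ∈ A, ∀ b ∈ B, ∃ b' ∈ B, ∃ a' ∈ A, a * b = b' * a') ∧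
    (∀ A' : Subgroup X, A' ≤ G → A' ≠ ⊥ → (fun A : Subgroup X => ((Nat.card A : ℝ) ^ α) * (Nat.card ↥(H ⊓ Subgroup.centralizer (A : Set X)) : ℝ)) A' ≤ (fun A : Subgroup X => ((Nat.card A : ℝ) ^ α) * (Nat.card ↥(H ⊓ Subgroup.centralizer (A : Set X)) : ℝ)) (A ⊔ B)) ∧
    (∀ h ∈ H ⊓ Subgroup.centralizer ((A ⊓ B : Subgroup X) : Set X), ∃ u ∈ H ⊓ Subgroup.centralizer (A : Set X), ∃ v ∈ H ⊓ Subgroup.centralizer (B : Set X), h = u * v) ∧
    (A ⊓ B ≠ ⊥ → ∀ A' : Subgroup X, A' ≤ G → A' ≠ ⊥ → (fun A : Subgroup X => ((Nat.card A : ℝ) ^ α) * (Nat.card ↥(H ⊓ Subgroup.centralizer (A : Set X)) : ℝ)) A' ≤ (fun A : Subgroup X => ((Nat.card A : ℝ) ^ α) * (Nat.card ↥(H ⊓ Subgroup.centralizer (A : Set X)) : ℝ)) (A ⊓ B)) := by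
  classical
  -- the measuring function
  set m : Subgroup X → ℝ := fun A => ((Nat.card A : ℝ) ^ α) * (Nat.card ↥(H ⊓ Subgroup.centralizer (A : Set X)) : ℝ) with hm
  have hAmax' : ∀ A' : Subgroup X, A' ≤ G → A' ≠ ⊥ → m A' ≤ m A := hAmax
  have hBmax' : ∀ A' : Subgroup X, A' ≤ G → A' ≠ ⊥ → m A' ≤ m B := hBmax
  have hcase' : A ⊓ B ≠ ⊥ ∨ (Nat.card H : ℝ) ≤ m A := hcase
  have hmAB : m A = m B := le_antisymm (hBmax' A hA hA1) (hAmax' B hB hB1)
  have hJG : A ⊔ B ≤ G := sup_le hA hB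
  have hJ1 : A ⊔ B ≠ ⊥ := fun h => hA1 (le_bot_iff.1 (h ▸ le_sup_left))
  have hmJ : m (A ⊔ B) ≤ m A := hAmax' _ hJG hJ1
  have hmD : m (A ⊓ B) ≤ m A := by
    by_cases hD1 : A ⊓ B = ⊥
    · rcases hcase' with h | h
      · exact absurd hD1 h
      · have : m (A ⊓ B) = (Nat.card H : ℝ) := by
          rw [hm]
          simp only
          rw [hD1]
          have h1 : Nat.card (⊥ : Subgroup X) = 1 := Subgroup.card_bot
          have h2 : H ⊓ Subgroup.centralizer (((⊥ : Subgroup X)) : Set X) = H := by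
            rw [Subgroup.coe_bot, Subgroup.centralizer_eq_top_iff_subset.2 (by simp), inf_top_eq]
          rw [h1, h2]
          simp
        rw [this]; exact h
    · exact hAmax' _ (inf_le_left.trans hA) hD1
  -- the centralizer subgroups
  set U := H ⊓ Subgroup.centralizer (A : Set X) with hU
  set V := H ⊓ Subgroup.centralizer (B : Set X) with hV
  set W := H ⊓ Subgroup.centralizer ((A ⊓ B : Subgroup X) : Set X) with hW
  have hcentJ : Subgroup.centralizer ((A ⊔ B : Subgroup X) : Set X) =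
      Subgroup.centralizer (A : Set X) ⊓ Subgroup.centralizer (B : Set X) := by
    apply le_antisymm
    · exact le_inf (Subgroup.centralizer_le (by exact_mod_cast (le_sup_left : A ≤ A ⊔ B)))
        (Subgroup.centralizer_le (by exact_mod_cast (le_sup_right : B ≤ A ⊔ B)))
    · intro x hx
      have hxA : Subgroup.zpowers x ≤ Subgroup.centralizer (A : Set X) := by
        rw [Subgroup.zpowers_le]; exact hx.1
      have hxB : Subgroup.zpowers x ≤ Subgroup.centralizer (B : Set X) := by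
        rw [Subgroup.zpowers_le]; exact hx.2
      rw [Subgroup.le_centralizer_iff] at hxA hxB
      have : A ⊔ B ≤ Subgroup.centralizer (Subgroup.zpowers x : Set X) := sup_le hxA hxB
      rw [Subgroup.le_centralizer_iff] at this
      exact this (Subgroup.mem_zpowers x)
  have hUV : U ⊓ V = H ⊓ Subgroup.centralizer ((A ⊔ B : Subgroup X) : Set X) := by
    rw [hcentJ, hU, hV]
    ext x
    simp only [Subgroup.mem_inf]
    tauto
  have hUW : U ≤ W := inf_le_inf_left H (Subgroup.centralizer_le (by exact_mod_cast (inf_le_left : A ⊓ B ≤ A)))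
  have hVW : V ≤ W := inf_le_inf_left H (Subgroup.centralizer_le (by exact_mod_cast (inf_le_right : A ⊓ B ≤ B)))
  have hUVW : U ⊔ V ≤ W := sup_le hUW hVW
  have hN1 : Nat.card A * Nat.card B ≤ Nat.card ↥(A ⊔ B) * Nat.card ↥(A ⊓ B) :=
    Cfsg.Agent.Lib.Helper68.card_mul_card_le_sup_inf A B
  have hN2' : Nat.card U * Nat.card V ≤ Nat.card ↥(U ⊔ V) * Nat.card ↥(U ⊓ V) :=
    Cfsg.Agent.Lib.Helper68.card_mul_card_le_sup_inf U V
  have hcardUVW : Nat.card ↥(U ⊔ V) ≤ Nat.card W := Subgroup.card_le_of_le hUVW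
  have hN2 : Nat.card U * Nat.card V ≤ Nat.card W * Nat.card ↥(U ⊓ V) :=
    hN2'.trans (Nat.mul_le_mul_right _ hcardUVW)
  have hmJ' : m (A ⊔ B) = (Nat.card ↥(A ⊔ B) : ℝ) ^ α * (Nat.card ↥(U ⊓ V) : ℝ) := by
    rw [hUV]
  obtain ⟨e1, e2, e3, e4⟩ := measuring_real α hα (Nat.card A) (Nat.card B) (Nat.card ↥(A ⊔ B))
    (Nat.card ↥(A ⊓ B)) (Nat.card U) (Nat.card V) (Nat.card W) (Nat.card ↥(U ⊓ V))
    Nat.card_pos Nat.card_pos Nat.card_pos Nat.card_pos Nat.card_pos Nat.card_pos Nat.card_pos Nat.card_pos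
    hN1 hN2 hmAB (hmJ' ▸ hmJ) hmD
  have hprodAB := Cfsg.Agent.Lib.Helper68.exists_mul_of_card_eq A B e1.ge
  have hcardeq : Nat.card ↥(U ⊔ V) = Nat.card W := by
    apply le_antisymm hcardUVW
    have h1 : Nat.card W * Nat.card ↥(U ⊓ V) ≤ Nat.card ↥(U ⊔ V) * Nat.card ↥(U ⊓ V) := by
      rw [← e2]; exact hN2'
    exact Nat.le_of_mul_le_mul_right h1 Nat.card_pos
  have hUVeqW : U ⊔ V = W := Subgroup.eq_of_le_of_card_ge hUVW hcardeq.ge
  have hprodUV := Cfsg.Agent.Lib.Helper68.exists_mul_of_card_eq U V (by rw [hcardeq, ← e2])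
  refine ⟨?_, ?_, ?_, ?_⟩
  · intro a ha b hb
    have hmem : (a * b)⁻¹ ∈ A ⊔ B := (A ⊔ B).inv_mem (Subgroup.mul_mem_sup ha hb)
    obtain ⟨a1, ha1, b1, hb1, h⟩ := hprodAB _ hmem
    refine ⟨b1⁻¹, B.inv_mem hb1, a1⁻¹, A.inv_mem ha1, ?_⟩
    rw [← mul_inv_rev, ← h, inv_inv]
  · intro A' h1 h2
    show m A' ≤ m (A ⊔ B)
    rw [hmJ']
    exact (hAmax' A' h1 h2).trans e3
  · intro h hh
    have : h ∈ U ⊔ V := by rw [hUVeqW]; exact hh
    obtain ⟨u, hu, v, hv, huv⟩ := hprodUV h this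
    exact ⟨u, hu, v, hv, huv⟩
  · intro _ A' h1 h2
    show m A' ≤ m (A ⊓ B)
    exact (hAmax' A' h1 h2).trans e4

end Cfsg.Agent.S3804
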