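import Cfsg.Statements.S3808

set_option autoImplicit false
open Cfsg

namespace Cfsg.Agent.S3808

theorem mem_map_center_iff {S : Type*} [Group S] (Q : Subgroup S) (x : S) :
    x ∈ (Subgroup.center ↥Q).map Q.subtype ↔ x ∈ Q ∧ ∀ q ∈ Q, q * x = x * q := by
  constructor
  · rintro ⟨z, hz, rfl⟩
    refine ⟨z.2, fun q hq => ?_⟩
    have := Subgroup.mem_center_iff.1 hz ⟨q, hq⟩
    exact congrArg Subtype.val this
  · rintro ⟨hxQ, hx⟩
    refine ⟨⟨x, hxQ⟩, ?_, rfl⟩
    rw [SetLike.mem_coe, Subgroup.mem_center_iff]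
    intro q
    exact Subtype.ext (hx q q.2)

/-- Let S be a finite p-group with an extraspecial subgroup Q of index p. Then either Z(S) = Z(Q), or S = Q·Z(S) and Z(S) has order p². -/
theorem result {S : Type*} [Group S] [Finite S] (p : ℕ) [Fact p.Prime] (hS : IsPGroup p S) (Q : Subgroup S) (hQ : Cfsg.IsExtraspecial p ↥Q) (hQi : Q.index = p) :
    Subgroup.center S = (Subgroup.center ↥Q).map Q.subtype ∨
      (Q ⊔ Subgroup.center S = ⊤ ∧ Nat.card (Subgroup.center S) = p ^ 2) := by
  classical
  have hp : p.Prime := Fact.out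
  set Z := Subgroup.center S with hZ
  set ZQ := (Subgroup.center ↥Q).map Q.subtype with hZQ
  have hcardZQ : Nat.card ZQ = p := by
    have h1 : Nat.card ZQ = Nat.card (Subgroup.center ↥Q) :=
      Nat.card_congr ((Subgroup.center ↥Q).equivMapOfInjective Q.subtype Q.subtype_injective).toEquiv.symm
    rw [h1]; exact hQ.2
  have hQnt : Nontrivial S := by
    by_contra hnt
    rw [not_nontrivial_iff_subsingleton] at hnt
    have : Nat.card ZQ = 1 := Nat.card_eq_one_iff_unique.2 ⟨inferInstance, ⟨1⟩⟩
    rw [hcardZQ] at this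
    exact hp.one_lt.ne' this
  have hZne : Z ≠ ⊥ := by
    have := hS.center_nontrivial
    intro h
    rw [hZ] at h
    rw [h] at this
    exact not_nontrivial _ this
  by_cases hZle : Z ≤ Q
  · left
    have hle : Z ≤ ZQ := by
      intro z hz
      rw [hZQ, mem_map_center_iff]
      refine ⟨hZle hz, fun q _ => ?_⟩
      exact Subgroup.mem_center_iff.1 hz q
    have hdvd : Nat.card Z ∣ p := by
      rw [← hcardZQ]; exact Subgroup.card_dvd_of_le hle
    rcases (Nat.dvd_prime hp).1 hdvd with h1 | h1
    · exact absurd (Subgroup.card_eq_one.1 h1) hZne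
    · exact Subgroup.eq_of_le_of_card_ge hle (by rw [h1, hcardZQ])
  · right
    have hsup : Q ⊔ Z = ⊤ := by
      have hle : Q ≤ Q ⊔ Z := le_sup_left
      have h1 := Subgroup.relIndex_mul_index hle
      rw [hQi] at h1
      have hdvd : (Q ⊔ Z).index ∣ p := Dvd.intro_left _ h1
      rcases (Nat.dvd_prime hp).1 hdvd with h2 | h2
      · exact Subgroup.index_eq_one.1 h2
      · exfalso
        rw [h2] at h1
        have h3 : Q.relIndex (Q ⊔ Z) = 1 := by
          have hp0 : 0 < p := hp.pos
          exact Nat.eq_of_mul_eq_mul_right hp0 (by rw [h1, one_mul])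
        have := Subgroup.relIndex_eq_one.1 h3
        exact hZle (le_sup_right.trans this)
    refine ⟨hsup, ?_⟩
    have hinf : Z ⊓ Q = ZQ := by
      ext x
      rw [hZQ, mem_map_center_iff, Subgroup.mem_inf]
      constructor
      · rintro ⟨hxZ, hxQ⟩
        exact ⟨hxQ, fun q _ => Subgroup.mem_center_iff.1 hxZ q⟩
      · rintro ⟨hxQ, hx⟩
        refine ⟨?_, hxQ⟩
        rw [hZ, Subgroup.mem_center_iff]
        intro s
        have hs : s ∈ ((Q ⊔ Z : Subgroup S) : Set S) := by rw [hsup]; trivial
        rw [Subgroup.mul_normal] at hs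
        obtain ⟨q, hq, z, hz, rfl⟩ := hs
        have hz' := Subgroup.mem_center_iff.1 hz
        calc q * z * x = q * (z * x) := by group
          _ = q * (x * z) := by rw [← hz' x]
          _ = (q * x) * z := by group
          _ = (x * q) * z := by rw [hx q hq]
          _ = x * (q * z) := by group
    have hr : Z.relIndex (Q ⊔ Z) = Z.relIndex Q := Subgroup.relIndex_sup_right Q Z
    rw [hsup, Subgroup.relIndex_top_right] at hr
    have h1 : Nat.card Z * Z.index = Nat.card S := Subgroup.card_mul_index Z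
    have h2 : Nat.card Q * Q.index = Nat.card S := Subgroup.card_mul_index Q
    have h3 : Nat.card (Z ⊓ Q : Subgroup S) * (Z ⊓ Q).relIndex Q = Nat.card Q := by
      have := Subgroup.relIndex_mul_relIndex ⊥ (Z ⊓ Q) Q bot_le inf_le_right
      rwa [Subgroup.relIndex_bot_left, Subgroup.relIndex_bot_left] at this
    rw [Subgroup.inf_relIndex_right, hinf, hcardZQ] at h3
    rw [hr] at h1
    rw [hQi, ← h3] at h2
    have hpos : 0 < Z.relIndex Q := by
      rcases Nat.eq_zero_or_pos (Z.relIndex Q) with h0 | h0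
      · rw [h0, mul_zero, zero_mul] at h2
        have : 0 < Nat.card S := Nat.card_pos
        omega
      · exact h0
    have : Nat.card Z * Z.relIndex Q = p ^ 2 * Z.relIndex Q := by
      rw [h1, ← h2]; ring
    exact Nat.eq_of_mul_eq_mul_right hpos this

end Cfsg.Agent.S3808
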