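import Cfsg.Statements.S3809
import Cfsg.Agent.S0095
import Cfsg.Agent.Lib.Helper03.PGroupFrattini

set_option autoImplicit false
open Cfsg

namespace Cfsg.Agent.S3809

/-- Let S be a finite p-group with an extraspecial subgroup of index p. Then S has order p^(2+2n) for some n ≥ 1, derived length at most 3, and exponent dividing p³. -/
theorem result {S : Type*} [Group S] [Finite S] (p : ℕ) [Fact p.Prime] (hS : IsPGroup p S) (Q : Subgroup S) (hQ : Cfsg.IsExtraspecial p ↥Q) (hQi : Q.index = p) :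
    (∃ n : ℕ, 1 ≤ n ∧ Nat.card S = p ^ (2 + 2 * n)) ∧ derivedSeries S 3 = ⊥ ∧ ∀ x : S, x ^ (p ^ 3) = 1 := by
  have hpp : p.Prime := Fact.out
  have hQ' := hQ
  obtain ⟨⟨hQp, hfr, hcomm⟩, hZ⟩ := hQ
  -- Q is normal
  have hQn : Q.Normal := by
    apply Subgroup.normal_of_index_eq_minFac_card
    obtain ⟨k, hk⟩ := IsPGroup.iff_card.mp hS
    have hk0 : k ≠ 0 := by
      rintro rfl
      have h1 : Q.index ∣ Nat.card S := Q.index_dvd_card
      rw [hk, hQi, pow_zero] at h1
      exact hpp.one_lt.ne' (Nat.dvd_one.mp h1)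
    rw [hk, hpp.pow_minFac hk0, hQi]
  -- the image of the centre of Q
  set Z : Subgroup S := (Subgroup.center ↥Q).map Q.subtype with hZdef
  have hZcomm : ∀ x ∈ Z, ∀ y ∈ Z, x * y = y * x := by
    rintro x ⟨a, ha, rfl⟩ y ⟨b, hb, rfl⟩
    have : a * b = b * a := (Subgroup.mem_center_iff.mp hb a)
    simpa using congrArg (Q.subtype) this
  have hQQ : ⁅Q, Q⁆ = Z := by
    have h1 : Q = (⊤ : Subgroup ↥Q).map Q.subtype := by
      rw [← MonoidHom.range_eq_map, Subgroup.range_subtype]
    have h2 : ⁅Q, Q⁆ = Subgroup.map Q.subtype ⁅(⊤ : Subgroup ↥Q), (⊤ : Subgroup ↥Q)⁆ := by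
      rw [Subgroup.map_commutator, ← h1]
    rw [h2, hZdef, ← hcomm, commutator_def]
  refine ⟨?_, ?_, ?_⟩
  · obtain ⟨n, hn, hc⟩ := Cfsg.Agent.S0095.result hQ'
    refine ⟨n, hn, ?_⟩
    rw [← Q.card_mul_index, hc, hQi]
    ring
  · -- derived length
    have hd1 : derivedSeries S 1 ≤ Q := by
      rw [derivedSeries_succ, derivedSeries_zero]
      have hcard : Nat.card (S ⧸ Q) = p := by
        rw [← Subgroup.index_eq_card, hQi]
      have : IsCyclic (S ⧸ Q) := isCyclic_of_prime_card hcard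
      let _ : CommGroup (S ⧸ Q) := IsCyclic.commGroup
      have := Abelianization.commutator_subset_ker (QuotientGroup.mk' Q)
      rw [QuotientGroup.ker_mk'] at this
      rw [← commutator_def]
      exact this
    have hd2 : derivedSeries S 2 ≤ Z := by
      rw [derivedSeries_succ, ← hQQ]
      exact Subgroup.commutator_mono hd1 hd1
    have hd3 : derivedSeries S 3 ≤ ⁅Z, Z⁆ := by
      rw [derivedSeries_succ]
      exact Subgroup.commutator_mono hd2 hd2
    have hZZ : ⁅Z, Z⁆ = ⊥ := by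
      rw [Subgroup.commutator_eq_bot_iff_le_centralizer]
      intro x hx
      rw [Subgroup.mem_centralizer_iff]
      intro y hy
      exact hZcomm y hy x hx
    rw [hZZ] at hd3
    exact le_bot_iff.mp hd3
  · intro x
    have hx1 : x ^ p ∈ Q := by
      have := Subgroup.pow_index_mem Q x
      rwa [hQi] at this
    set y : ↥Q := ⟨x ^ p, hx1⟩ with hy
    have hy1 : y ^ p ∈ Subgroup.center ↥Q := by
      rw [← hfr]
      exact Cfsg.Agent.Lib.Helper03.pow_mem_frattini_of_isPGroup hQp y
    have hy2 : (y ^ p) ^ p = 1 := by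
      have h3 : ((⟨y ^ p, hy1⟩ : Subgroup.center ↥Q)) ^ p = 1 := by
        have := pow_card_eq_one' (G := Subgroup.center ↥Q) (x := ⟨y ^ p, hy1⟩)
        rwa [hZ] at this
      have := congrArg (fun t : Subgroup.center ↥Q => (t : ↥Q)) h3
      simpa using this
    have hy3 : ((x ^ p) ^ p) ^ p = 1 := by
      have := congrArg (fun t : ↥Q => (t : S)) hy2
      simpa [hy] using this
    rw [show p ^ 3 = p * p * p by ring, pow_mul, pow_mul]
    exact hy3

end Cfsg.Agent.S3809
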