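import Cfsg.Statements.S3810
import Cfsg.Agent.Lib.Helper68.AbelianIndexP
import Cfsg.Agent.Lib.Helper80.PGroup
import Cfsg.Agent.S3808

set_option autoImplicit false
open Cfsg

namespace Cfsg.Agent.S3810

open scoped commutatorElement


/-- Let S be a finite p-group with an extraspecial subgroup of index p. Then S has an abelian subgroup of index p if and only if S has order p⁴. -/
theorem result {S : Type*} [Group S] [Finite S] (p : ℕ) [Fact p.Prime] (hS : IsPGroup p S) (Q : Subgroup S) (hQ : Cfsg.IsExtraspecial p ↥Q) (hQi : Q.index = p) :
    (∃ A : Subgroup S, IsMulCommutative ↥A ∧ A.index = p) ↔ Nat.card S = p ^ 4 := by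
  classical
  have hp : p.Prime := Fact.out
  have hQna : ¬ IsMulCommutative ↥Q := by
    intro hc
    have h1 : commutator ↥Q = ⊥ := (commutator_eq_bot_iff _).2 hc
    have h2 : Subgroup.center ↥Q = ⊥ := by rw [← hQ.1.2.2, h1]
    have h3 := hQ.2
    rw [h2, Subgroup.card_bot] at h3
    exact hp.one_lt.ne h3
  have hSna : ¬ IsMulCommutative S := by
    intro hc
    exact hQna ⟨⟨fun a b => Subtype.ext (mul_comm' (a : S) (b : S))⟩⟩
  have hcardSQ : Nat.card Q * p = Nat.card S := by rw [← hQi]; exact Subgroup.card_mul_index Q
  constructor
  · rintro ⟨A, hA, hAi⟩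
    -- A is normal
    obtain ⟨n, hn⟩ := hS.exists_card_eq
    have hn0 : n ≠ 0 := by
      rintro rfl
      apply hSna
      rw [pow_zero] at hn
      have : Subsingleton S := (Nat.card_eq_one_iff_unique.1 hn).1
      exact ⟨⟨fun a b => Subsingleton.elim _ _⟩⟩
    have hAn : A.Normal := by
      apply Subgroup.normal_of_index_eq_minFac_card
      rw [hAi, hn, Nat.pow_minFac hn0, hp.minFac_eq]
    have hdvd : A.relIndex Q ∣ p := by
      rw [← hAi]; exact Subgroup.relIndex_dvd_index_of_normal A Q
    have hrel : A.relIndex Q = p := by
      rcases (Nat.dvd_prime hp).1 hdvd with h1 | h1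
      · exfalso
        have hQA : Q ≤ A := Subgroup.relIndex_eq_one.1 h1
        apply hQna
        refine ⟨⟨fun a b => ?_⟩⟩
        apply Subtype.ext
        have h3 := congrArg Subtype.val (mul_comm' (⟨(a : S), hQA a.2⟩ : ↥A) ⟨(b : S), hQA b.2⟩)
        simpa using h3
      · exact h1
    have hA' : IsMulCommutative ↥(A.subgroupOf Q) := inferInstance
    have hAn' : (A.subgroupOf Q).Normal := inferInstance
    have hcard := Cfsg.Agent.Lib.Helper68.card_eq_card_center_mul_card_commutator hp hQna
      (A.subgroupOf Q) hA' hAn' hrel
    rw [hQ.1.2.2, hQ.2] at hcard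
    have h2 : Nat.card (A.subgroupOf Q) * p = Nat.card Q := by
      have := Subgroup.card_mul_index (A.subgroupOf Q)
      rw [show (A.subgroupOf Q).index = A.relIndex Q from rfl, hrel] at this
      exact this
    rw [← hcardSQ, ← h2, hcard]; ring
  · intro hcard4
    have hcardQ : Nat.card Q = p ^ 3 := by
      have : Nat.card Q * p = p ^ 3 * p := by rw [hcardSQ, hcard4]; ring
      exact Nat.eq_of_mul_eq_mul_right hp.pos this
    -- it suffices to find an abelian subgroup of order p^3
    suffices h : ∃ A : Subgroup S, IsMulCommutative ↥A ∧ Nat.card A = p ^ 3 by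
      obtain ⟨A, hA, hcA⟩ := h
      refine ⟨A, hA, ?_⟩
      have h1 := Subgroup.card_mul_index A
      rw [hcA, hcard4] at h1
      have : p ^ 3 * A.index = p ^ 3 * p := by rw [h1]; ring
      exact Nat.eq_of_mul_eq_mul_left (pow_pos hp.pos 3) this
    set Z := Subgroup.center S with hZ
    -- abelian subgroup Z ⊔ ⟨x⟩
    have hab : ∀ x : S, IsMulCommutative ↥(Z ⊔ Subgroup.zpowers x) := by
      intro x
      rw [← Subgroup.le_centralizer_iff_isMulCommutative]
      apply sup_le
      · exact Subgroup.center_le_centralizer _
      · rw [Subgroup.le_centralizer_iff]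
        apply sup_le
        · exact Subgroup.center_le_centralizer _
        · rw [Subgroup.le_centralizer_iff_isMulCommutative]
          infer_instance
    have hnotall : ∃ x : S, x ∉ Z := by
      by_contra hcon
      push Not at hcon
      apply hSna
      rw [← Subgroup.center_eq_top_iff, eq_top_iff]
      intro x _
      exact hcon x
    -- cardinalities of subgroups are powers of p
    have hpow : ∀ H : Subgroup S, ∃ k, Nat.card H = p ^ k := fun H => (hS.to_subgroup H).exists_card_eq
    have hlt_card : ∀ H K : Subgroup S, H < K → Nat.card H < Nat.card K := by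
      intro H K hlt
      by_contra hge
      exact hlt.not_ge (Subgroup.eq_of_le_of_card_ge hlt.le (Nat.not_lt.1 hge)).ge
    rcases Cfsg.Agent.S3808.result p hS Q hQ hQi with hZQ | ⟨_, hZ2⟩
    · -- centre of order p
      have hcardZ : Nat.card Z = p := by
        rw [hZ, hZQ]
        rw [Nat.card_congr ((Subgroup.center ↥Q).equivMapOfInjective Q.subtype Q.subtype_injective).toEquiv.symm]
        exact hQ.2
      have hZidx : Z.index = p ^ 3 := by
        have h1 := Subgroup.card_mul_index Z
        rw [hcardZ, hcard4] at h1
        have : p * Z.index = p * p ^ 3 := by rw [h1]; ring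
        exact Nat.eq_of_mul_eq_mul_left hp.pos this
      have hQ'p : IsPGroup p (S ⧸ Z) := hS.to_quotient Z
      have hQ'nt : Nontrivial (S ⧸ Z) := by
        rw [← Finite.one_lt_card_iff_nontrivial]
        show 1 < Z.index
        rw [hZidx]
        exact Nat.one_lt_pow (by norm_num) hp.one_lt
      have hcnt := hQ'p.center_nontrivial
      obtain ⟨⟨qb, hqb⟩, hqb1⟩ := exists_ne (1 : Subgroup.center (S ⧸ Z))
      obtain ⟨x, rfl⟩ := QuotientGroup.mk'_surjective Z qb
      have hxZ : x ∉ Z := by
        intro hx
        apply hqb1
        apply Subtype.ext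
        exact (QuotientGroup.eq_one_iff x).2 hx
      have hcomm : ∀ y, ⁅x, y⁆ ∈ Subgroup.center S := by
        intro y
        rw [← hZ, ← QuotientGroup.eq_one_iff]
        have h1 : ((⁅x, y⁆ : S) : S ⧸ Z) = ⁅(QuotientGroup.mk' Z) x, (QuotientGroup.mk' Z) y⁆ :=
          map_commutatorElement (QuotientGroup.mk' Z) x y
        rw [h1, commutatorElement_eq_one_iff_mul_comm]
        exact (Subgroup.mem_center_iff.1 hqb _).symm
      set f := Cfsg.Agent.Lib.Helper80.commHom x hcomm with hf
      set C := Subgroup.centralizer ({x} : Set S) with hC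
      have hker : f.ker = C := Cfsg.Agent.Lib.Helper80.commHom_ker x hcomm
      have hrange : f.range ≤ Z := by
        rintro _ ⟨y, rfl⟩
        exact hcomm y
      have hCidx : C.index = p := by
        rw [← hker, Subgroup.index_ker]
        have hdvd : Nat.card f.range ∣ p := by
          rw [← hcardZ]; exact Subgroup.card_dvd_of_le hrange
        rcases (Nat.dvd_prime hp).1 hdvd with h1 | h1
        · exfalso
          have h2 : f.ker.index = 1 := by rw [Subgroup.index_ker, h1]
          rw [Subgroup.index_eq_one, hker] at h2
          apply hxZ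
          rw [hZ, Subgroup.mem_center_iff]
          intro g
          have hg : g ∈ C := by rw [h2]; trivial
          rw [hC, Subgroup.mem_centralizer_iff] at hg
          exact (hg x rfl).symm
        · exact h1
      have hcardC : Nat.card C = p ^ 3 := by
        have h1 := Subgroup.card_mul_index C
        rw [hCidx, hcard4] at h1
        have : Nat.card C * p = p ^ 3 * p := by rw [h1]; ring
        exact Nat.eq_of_mul_eq_mul_right hp.pos this
      refine ⟨C, ?_, hcardC⟩
      -- C is abelian: central quotient cyclic
      set N := Z ⊔ Subgroup.zpowers x with hN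
      have hNC : N ≤ C := by
        apply sup_le
        · exact Subgroup.center_le_centralizer _
        · rw [Subgroup.zpowers_le, hC, Subgroup.mem_centralizer_iff]
          intro h hh
          rw [Set.mem_singleton_iff] at hh
          rw [hh]
      have hNcentral : N.subgroupOf C ≤ Subgroup.center ↥C := by
        intro n hn
        rw [Subgroup.mem_center_iff]
        intro g
        apply Subtype.ext
        show (g : S) * (n : S) = (n : S) * (g : S)
        have hn' : (n : S) ∈ N := Subgroup.mem_subgroupOf.1 hn
        -- g ∈ C centralizes Z ⊔ zpowers x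
        have hle : N ≤ Subgroup.centralizer ({(g : S)} : Set S) := by
          apply sup_le
          · exact Subgroup.center_le_centralizer _
          · rw [Subgroup.zpowers_le, Subgroup.mem_centralizer_iff]
            intro h hh
            rw [Set.mem_singleton_iff] at hh
            rw [hh]
            have hgx : (g : S) ∈ Subgroup.centralizer ({x} : Set S) := g.2
            exact (Subgroup.mem_centralizer_iff.1 hgx x rfl).symm
        have := hle hn'
        rw [Subgroup.mem_centralizer_iff] at this
        exact this _ rfl
      have hNn : (N.subgroupOf C).Normal := by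
        constructor
        intro n hn g
        have := Subgroup.mem_center_iff.1 (hNcentral hn) g
        have e : g * n * g⁻¹ = n := by rw [this]; group
        rw [e]; exact hn
      have hcardN : p ^ 2 ≤ Nat.card N := by
        have hlt : Z < N := by
          apply lt_of_le_of_ne le_sup_left
          intro h
          apply hxZ
          rw [h]
          exact (le_sup_right : Subgroup.zpowers x ≤ _) (Subgroup.mem_zpowers x)
        have h1 := hlt_card Z N hlt
        rw [hcardZ] at h1
        obtain ⟨k, hk⟩ := hpow N
        rw [hk] at h1 ⊢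
        have hk2 : 2 ≤ k := by
          by_contra hlt2
          have hk1 : k ≤ 1 := by omega
          have : p ^ k ≤ p ^ 1 := Nat.pow_le_pow_right hp.pos hk1
          rw [pow_one] at this
          omega
        exact Nat.pow_le_pow_right hp.pos hk2
      have hrelcard : Nat.card N * N.relIndex C = p ^ 3 := by
        have := Subgroup.relIndex_mul_relIndex ⊥ N C bot_le hNC
        rwa [Subgroup.relIndex_bot_left, Subgroup.relIndex_bot_left, hcardC] at this
      have hcardquot : Nat.card (↥C ⧸ N.subgroupOf C) = N.relIndex C := rfl
      have hrelle : N.relIndex C ∣ p := by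
        obtain ⟨k, hk⟩ := hpow N
        rw [hk] at hrelcard hcardN
        have hk2 : 2 ≤ k := by
          by_contra hlt2
          have hk1 : k ≤ 1 := by omega
          have h1 : p ^ k ≤ p ^ 1 := Nat.pow_le_pow_right hp.pos hk1
          have h2 : p ^ 1 < p ^ 2 := Nat.pow_lt_pow_right hp.one_lt (by norm_num)
          omega
        have hk3 : k ≤ 3 := by
          by_contra hgt
          have h1 : p ^ 4 ≤ p ^ k := Nat.pow_le_pow_right hp.pos (by omega)
          have h2 : p ^ k ≤ p ^ 3 := by
            rw [← hrelcard]
            exact Nat.le_mul_of_pos_right _ (Nat.pos_of_ne_zero (fun h0 => by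
              rw [h0, mul_zero] at hrelcard
              exact (pow_pos hp.pos 3).ne hrelcard))
          have h3 : p ^ 3 < p ^ 4 := Nat.pow_lt_pow_right hp.one_lt (by norm_num)
          omega
        have : p ^ k * N.relIndex C = p ^ k * p ^ (3 - k) := by
          rw [hrelcard, ← pow_add]; congr 1; omega
        have h4 := Nat.eq_of_mul_eq_mul_left (pow_pos hp.pos k) this
        rw [h4]
        calc p ^ (3 - k) ∣ p ^ 1 := Nat.pow_dvd_pow p (by omega)
          _ = p := pow_one p
      have hcyc : IsCyclic (↥C ⧸ N.subgroupOf C) := by
        rcases (Nat.dvd_prime hp).1 hrelle with h1 | h1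
        · have : Subsingleton (↥C ⧸ N.subgroupOf C) := by
            rw [← Finite.card_le_one_iff_subsingleton, hcardquot, h1]
          exact isCyclic_of_subsingleton
        · exact isCyclic_of_prime_card (p := p) (by rw [hcardquot, h1])
      exact (QuotientGroup.mk' (N.subgroupOf C)).isMulCommutative_of_isCyclic_of_ker_le_center
        (by rw [QuotientGroup.ker_mk']; exact hNcentral)
    · -- centre of order p²
      obtain ⟨x, hx⟩ := hnotall
      refine ⟨Z ⊔ Subgroup.zpowers x, hab x, ?_⟩
      have hlt : Z < Z ⊔ Subgroup.zpowers x := by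
        apply lt_of_le_of_ne le_sup_left
        intro h
        apply hx
        rw [h]
        exact (le_sup_right : Subgroup.zpowers x ≤ _) (Subgroup.mem_zpowers x)
      have h1 := hlt_card _ _ hlt
      rw [hZ2] at h1
      have hne : Z ⊔ Subgroup.zpowers x ≠ ⊤ := by
        intro h
        apply hSna
        have h2 : IsMulCommutative ↥(⊤ : Subgroup S) := h ▸ hab x
        exact ⟨⟨fun a b => congrArg Subtype.val (mul_comm' (⟨a, trivial⟩ : ↥(⊤ : Subgroup S)) ⟨b, trivial⟩)⟩⟩
      have h3 : Nat.card ↥(Z ⊔ Subgroup.zpowers x) < p ^ 4 := by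
        rw [← hcard4]
        by_contra hge
        exact hne (Subgroup.eq_top_of_le_card _ (Nat.not_lt.1 hge))
      obtain ⟨k, hk⟩ := hpow (Z ⊔ Subgroup.zpowers x)
      rw [hk] at h1 h3 ⊢
      have hk3 : k = 3 := by
        have h4 : 2 < k := (Nat.pow_lt_pow_iff_right hp.one_lt).1 h1
        have h5 : k < 4 := (Nat.pow_lt_pow_iff_right hp.one_lt).1 h3
        omega
      rw [hk3]

end Cfsg.Agent.S3810
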