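import Cfsg.Statements.S3815
import Cfsg.Agent.Lib.Helper68.Basic

set_option autoImplicit false
open Cfsg

namespace Cfsg.Agent.S3815

/-- Let G be a finite group, p a prime and d ∈ G an element of order prime to p. If dg has order prime to p for every element g ∈ G of order prime to p, then d ∈ O_{p'}(G). -/
theorem result {G : Type*} [Group G] [Finite G] {p : ℕ} [Fact p.Prime]
    (d : G) (hd : (orderOf d).Coprime p)
    (h : ∀ g : G, (orderOf g).Coprime p → (orderOf (d * g)).Coprime p) :
    d ∈ Cfsg.pPrimeCore p G := by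
  classical
  let M : Submonoid G :=
    { carrier := {x | ∀ g : G, (orderOf g).Coprime p → (orderOf (x * g)).Coprime p}
      one_mem' := by
        intro g hg
        simpa using hg
      mul_mem' := by
        intro a b ha hb g hg
        rw [mul_assoc]
        exact ha _ (hb g hg) }
  let X : Subgroup G :=
    { M with
      inv_mem' := by
        intro x hx
        have hx' : x ∈ M := hx
        have : x⁻¹ = x ^ (orderOf x - 1) := by
          rw [inv_eq_iff_mul_eq_one, ← pow_succ']
          have hpos : 0 < orderOf x := orderOf_pos x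
          rw [Nat.sub_add_cancel hpos, pow_orderOf_eq_one]
        show x⁻¹ ∈ M
        rw [this]
        exact M.pow_mem hx' _ }
  have hmemX : ∀ x : G, x ∈ X ↔ ∀ g : G, (orderOf g).Coprime p → (orderOf (x * g)).Coprime p :=
    fun x => Iff.rfl
  have hXn : X.Normal := by
    constructor
    intro x hx c
    rw [hmemX] at hx ⊢
    intro g hg
    have h1 : (orderOf (c⁻¹ * g * c)).Coprime p := by
      have : orderOf (c⁻¹ * g * c) = orderOf g := by
        have := Cfsg.Agent.Lib.Helper68.orderOf_conj' (c⁻¹) g
        simpa using this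
      rw [this]; exact hg
    have h2 := hx _ h1
    have h3 : c * x * c⁻¹ * g = c * (x * (c⁻¹ * g * c)) * c⁻¹ := by group
    rw [h3]
    have : orderOf (c * (x * (c⁻¹ * g * c)) * c⁻¹) = orderOf (x * (c⁻¹ * g * c)) := Cfsg.Agent.Lib.Helper68.orderOf_conj' c _
    rw [this]; exact h2
  have hXcop : (Nat.card X).Coprime p := by
    have hp : p.Prime := Fact.out
    rw [Nat.coprime_comm, Nat.Prime.coprime_iff_not_dvd hp]
    intro hdvd
    obtain ⟨x, hx⟩ := exists_prime_orderOf_dvd_card' p hdvd
    have hxX : (x : G) ∈ X := x.2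
    have h1 := (hmemX _).1 hxX 1 (by simp)
    rw [mul_one, Subgroup.orderOf_coe, hx] at h1
    exact hp.one_lt.ne' ((Nat.coprime_self p).1 h1)
  have hdX : d ∈ X := (hmemX d).2 h
  exact (le_sSup (show X ∈ {N : Subgroup G | N.Normal ∧ (Nat.card N).Coprime p} from ⟨hXn, hXcop⟩)) hdX

end Cfsg.Agent.S3815
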