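import Cfsg.Statements.S3820
import Cfsg.Agent.Lib.Helper68.Conj

set_option autoImplicit false
open Cfsg

namespace Cfsg.Agent.S3820

open Cfsg.Agent.Lib.Helper68

/-- Call a subgroup H of G pronormal if H and gHg⁻¹ are conjugate inside ⟨H, gHg⁻¹⟩ for every g ∈ G. Let S ≤ H ≤ G be subgroups of a finite group with S pronormal in G (for instance S a Sylow subgroup). Then H is pronormal in G if and only if H and gHg⁻¹ are conjugate inside ⟨H, gHg⁻¹⟩ for every g ∈ N_G(S). In particular H is pronormal whenever N_G(S) ≤ H. -/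
theorem result {G : Type*} [Group G] [Finite G] (S H : Subgroup G) (hSH : S ≤ H)
    (hS : Cfsg.IsPronormal S) :
    Cfsg.IsPronormal H ↔
      ∀ g ∈ Subgroup.normalizer (S : Set G), ∃ w ∈ H ⊔ H.map (MulAut.conj g).toMonoidHom,
        H.map (MulAut.conj g).toMonoidHom = H.map (MulAut.conj w).toMonoidHom := by
  constructor
  · intro hH g _
    exact hH g
  · intro hyp g
    obtain ⟨x, hxJ, hx⟩ := hS g
    change x ∈ S ⊔ cj g S at hxJ
    change cj g S = cj x S at hx
    change ∃ y ∈ H ⊔ cj g H, cj g H = cj y H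
    set J := H ⊔ cj g H with hJ
    have hHJ : H ≤ J := le_sup_left
    have hgHJ : cj g H ≤ J := le_sup_right
    have hxJ' : x ∈ J := by
      have : S ⊔ cj g S ≤ J := sup_le (hSH.trans hHJ) ((cj_mono g hSH).trans hgHJ)
      exact this hxJ
    have hn : x⁻¹ * g ∈ Subgroup.normalizer (S : Set G) := by
      rw [← cj_eq_self_iff, cj_mul, hx, cj_inv_cj]
    obtain ⟨w, hwJ, hw⟩ := hyp _ hn
    change w ∈ H ⊔ cj (x⁻¹ * g) H at hwJ
    change cj (x⁻¹ * g) H = cj w H at hw
    have hnH : cj (x⁻¹ * g) H ≤ J := by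
      rw [cj_mul]
      exact cj_le_of_mem (J.inv_mem hxJ') hgHJ
    have hwJ' : w ∈ J := (sup_le hHJ hnH) hwJ
    refine ⟨x * w, J.mul_mem hxJ' hwJ', ?_⟩
    rw [cj_mul, ← hw, ← cj_mul]
    congr 1
    group

end Cfsg.Agent.S3820
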