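import Cfsg.Statements.S3821
import Cfsg.Agent.Lib.Helper68.Conj

set_option autoImplicit false
open Cfsg

namespace Cfsg.Agent.S3821

open Cfsg.Agent.Lib.Helper68

theorem map_cj_subgroupOf {G : Type*} [Group G] (A H : Subgroup G) (hHA : H ≤ A) (a : ↥A) :
    (cj a (H.subgroupOf A)).map A.subtype = cj (a : G) H := by
  ext y
  constructor
  · rintro ⟨z, hz, rfl⟩
    rw [SetLike.mem_coe, mem_cj] at hz
    obtain ⟨h, hh, rfl⟩ := hz
    rw [mem_cj]
    refine ⟨(h : G), ?_, ?_⟩
    · exact Subgroup.mem_subgroupOf.1 hh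
    · simp
  · intro hy
    rw [mem_cj] at hy
    obtain ⟨h, hh, rfl⟩ := hy
    refine ⟨a * ⟨h, hHA hh⟩ * a⁻¹, ?_, ?_⟩
    · rw [SetLike.mem_coe, mem_cj]
      exact ⟨⟨h, hHA hh⟩, Subgroup.mem_subgroupOf.2 hh, rfl⟩
    · simp

theorem map_subgroupOf_self {G : Type*} [Group G] (A H : Subgroup G) (hHA : H ≤ A) :
    (H.subgroupOf A).map A.subtype = H := by
  rw [Subgroup.map_subgroupOf_eq_of_le hHA]

/-- Let A be a normal subgroup of the finite group G and H a subgroup of A. Then H is pronormal in G (H and gHg⁻¹ conjugate inside ⟨H, gHg⁻¹⟩ for every g ∈ G) if and only if H is pronormal in A and G = A · N_G(H). -/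
theorem result {G : Type*} [Group G] [Finite G] (A H : Subgroup G) [A.Normal] (hHA : H ≤ A) :
    Cfsg.IsPronormal H ↔ (Cfsg.IsPronormal (H.subgroupOf A) ∧ A ⊔ Subgroup.normalizer (H : Set G) = ⊤) := by
  have hinj : Function.Injective (Subgroup.map A.subtype) :=
    Subgroup.map_injective A.subtype_injective
  have hcjA : ∀ g : G, cj g H ≤ A := by
    intro g y hy
    rw [mem_cj] at hy
    obtain ⟨h, hh, rfl⟩ := hy
    exact ‹A.Normal›.conj_mem h (hHA hh) g
  constructor
  · intro hH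
    refine ⟨?_, ?_⟩
    · intro a
      obtain ⟨x, hxJ, hx⟩ := hH (a : G)
      change x ∈ H ⊔ cj (a : G) H at hxJ
      change cj (a : G) H = cj x H at hx
      have hxA : x ∈ A := (sup_le hHA (hcjA _)) hxJ
      refine ⟨⟨x, hxA⟩, ?_, ?_⟩
      · have : ((⟨x, hxA⟩ : ↥A) : G) ∈ (H.subgroupOf A ⊔ cj a (H.subgroupOf A)).map A.subtype := by
          rw [Subgroup.map_sup, map_subgroupOf_self A H hHA, map_cj_subgroupOf A H hHA]
          exact hxJ
        obtain ⟨z, hz, hzx⟩ := this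
        have : z = ⟨x, hxA⟩ := Subtype.ext hzx
        rw [← this]
        exact hz
      · apply hinj
        change (cj a (H.subgroupOf A)).map A.subtype = (cj (⟨x, hxA⟩ : ↥A) (H.subgroupOf A)).map A.subtype
        rw [map_cj_subgroupOf A H hHA, map_cj_subgroupOf A H hHA]
        exact hx
    · rw [eq_top_iff]
      intro g _
      obtain ⟨x, hxJ, hx⟩ := hH g
      change x ∈ H ⊔ cj g H at hxJ
      change cj g H = cj x H at hx
      have hxA : x ∈ A := (sup_le hHA (hcjA _)) hxJ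
      have hn : x⁻¹ * g ∈ Subgroup.normalizer (H : Set G) := by
        rw [← cj_eq_self_iff, cj_mul, hx, cj_inv_cj]
      have : g = x * (x⁻¹ * g) := by group
      rw [this]
      exact Subgroup.mul_mem_sup hxA hn
  · rintro ⟨hA, hsup⟩ g
    have hg : g ∈ A ⊔ Subgroup.normalizer (H : Set G) := by rw [hsup]; trivial
    have hg' : g ∈ ((A ⊔ Subgroup.normalizer (H : Set G) : Subgroup G) : Set G) := hg
    rw [Subgroup.normal_mul] at hg'
    obtain ⟨a, ha, n, hn, rfl⟩ := hg'
    have hn' : cj n H = H := cj_eq_self_iff.2 hn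
    obtain ⟨x, hxJ, hx⟩ := hA ⟨a, ha⟩
    change x ∈ H.subgroupOf A ⊔ cj (⟨a, ha⟩ : ↥A) (H.subgroupOf A) at hxJ
    change cj (⟨a, ha⟩ : ↥A) (H.subgroupOf A) = cj x (H.subgroupOf A) at hx
    change ∃ y ∈ H ⊔ cj (a * n) H, cj (a * n) H = cj y H
    rw [cj_mul, hn']
    refine ⟨(x : G), ?_, ?_⟩
    · have : (x : G) ∈ (H.subgroupOf A ⊔ cj (⟨a, ha⟩ : ↥A) (H.subgroupOf A)).map A.subtype :=
        ⟨x, hxJ, rfl⟩
      rw [Subgroup.map_sup, map_subgroupOf_self A H hHA, map_cj_subgroupOf A H hHA] at this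
      exact this
    · have := congrArg (Subgroup.map A.subtype) hx
      rw [map_cj_subgroupOf A H hHA, map_cj_subgroupOf A H hHA] at this
      exact this

end Cfsg.Agent.S3821
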