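import Cfsg.Statements.S3824
import Cfsg.Agent.S0143
import Mathlib

set_option autoImplicit false
open Cfsg

namespace Cfsg.Agent.S3824

universe u

lemma relIndex_dvd_index_of_normal_right {G : Type*} [Group G] [Finite G]
    (A N : Subgroup G) [N.Normal] : A.relIndex N ∣ A.index := by
  have h2 : A.relIndex (A ⊔ N) ∣ A.index := Subgroup.relIndex_dvd_index_of_le le_sup_left
  suffices h : A.relIndex N = A.relIndex (A ⊔ N) by rw [h]; exact h2
  have e1 : Nat.card A * A.relIndex (A ⊔ N) = Nat.card (A ⊔ N : Subgroup G) := by
    have := Subgroup.relIndex_mul_relIndex (⊥ : Subgroup G) A (A ⊔ N) bot_le le_sup_left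
    simpa [Subgroup.relIndex_bot_left] using this
  have e2 : Nat.card N * N.relIndex (A ⊔ N) = Nat.card (A ⊔ N : Subgroup G) := by
    have := Subgroup.relIndex_mul_relIndex (⊥ : Subgroup G) N (A ⊔ N) bot_le le_sup_right
    simpa [Subgroup.relIndex_bot_left] using this
  have e3 : Nat.card (A ⊓ N : Subgroup G) * N.relIndex A = Nat.card A := by
    have := Subgroup.relIndex_mul_relIndex (⊥ : Subgroup G) (A ⊓ N) A bot_le inf_le_left
    rw [Subgroup.inf_relIndex_left] at this
    simpa [Subgroup.relIndex_bot_left] using this
  have e4 : Nat.card (A ⊓ N : Subgroup G) * A.relIndex N = Nat.card N := by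
    have := Subgroup.relIndex_mul_relIndex (⊥ : Subgroup G) (A ⊓ N) N bot_le inf_le_right
    rw [Subgroup.inf_relIndex_right] at this
    simpa [Subgroup.relIndex_bot_left] using this
  have e5 : N.relIndex (A ⊔ N) = N.relIndex A := Subgroup.relIndex_sup_right A N
  have hpos1 : 0 < Nat.card (A ⊓ N : Subgroup G) := Nat.card_pos
  have hpos2 : 0 < N.relIndex A := by
    rcases Nat.eq_zero_or_pos (N.relIndex A) with h | h
    · rw [h, mul_zero] at e3
      have : 0 < Nat.card A := Nat.card_pos
      omega
    · exact h
  have key : (Nat.card (A ⊓ N : Subgroup G) * N.relIndex A) * A.relIndex N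
      = (Nat.card (A ⊓ N : Subgroup G) * N.relIndex A) * A.relIndex (A ⊔ N) := by
    calc (Nat.card (A ⊓ N : Subgroup G) * N.relIndex A) * A.relIndex N
        = (Nat.card (A ⊓ N : Subgroup G) * A.relIndex N) * N.relIndex A := by ring
      _ = Nat.card N * N.relIndex (A ⊔ N) := by rw [e4, e5]
      _ = Nat.card A * A.relIndex (A ⊔ N) := by rw [e2, e1]
      _ = _ := by rw [e3]
  exact Nat.eq_of_mul_eq_mul_left (Nat.mul_pos hpos1 hpos2) key

theorem main : ∀ (n : ℕ) (G : Type u) [Group G] [Finite G], Nat.card G = n →
    ∀ A : Subgroup G, IsMulCommutative A → (∃ k : ℕ, A.index = 2 ^ k) → Group.IsSolvable G := by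
  intro n
  induction n using Nat.strong_induction_on with
  | _ n ih =>
    intro G _ _ hn A hA hidx
    obtain ⟨k, hk⟩ := hidx
    by_cases hs : IsSimpleGroup G
    · by_cases hAbot : A = ⊥
      · subst hAbot
        rw [Subgroup.index_bot] at hk
        have : Fact (Nat.Prime 2) := ⟨Nat.prime_two⟩
        have hp : IsPGroup 2 G := IsPGroup.of_card hk
        have : Group.IsNilpotent G := hp.isNilpotent
        infer_instance
      · obtain ⟨a', ha'⟩ := (Subgroup.ne_bot_iff_exists_ne_one).mp hAbot
        obtain ⟨a, haA, ha1⟩ : ∃ a : G, a ∈ A ∧ a ≠ 1 :=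
          ⟨(a' : G), a'.2, fun h1 => ha' (Subtype.ext h1)⟩
        have hle : A ≤ Subgroup.centralizer ({a} : Set G) := by
          intro x hx
          rw [Subgroup.mem_centralizer_iff]
          intro y hy
          rw [Set.mem_singleton_iff] at hy
          subst hy
          have := (IsMulCommutative.is_comm (M := A)).comm ⟨y, haA⟩ ⟨x, hx⟩
          exact congrArg Subtype.val this
        have hdvd : (Subgroup.centralizer ({a} : Set G)).index ∣ 2 ^ k := by
          rw [← hk]; exact Subgroup.index_dvd_of_le hle
        obtain ⟨j, _, hj⟩ := (Nat.dvd_prime_pow Nat.prime_two).mp hdvd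
        have hprime := Cfsg.Agent.S0143.result 2 j Nat.prime_two a ha1 hj
        have : Fact (Nat.card G).Prime := ⟨hprime⟩
        have hc : IsCyclic G := isCyclic_of_prime_card rfl
        exact Group.isSolvable_of_comm (fun a b => ((IsCyclic.isMulCommutative (α := G)).is_comm).comm a b)
    · by_cases hsub : Subsingleton G
      · infer_instance
      · have hnt : Nontrivial G := not_subsingleton_iff_nontrivial.mp hsub
        have hex : ∃ N : Subgroup G, N.Normal ∧ N ≠ ⊥ ∧ N ≠ ⊤ := by
          by_contra hcon
          apply hs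
          refine ⟨fun N hN => ?_⟩
          by_contra hN2
          rw [not_or] at hN2
          exact hcon ⟨N, hN, hN2.1, hN2.2⟩
        obtain ⟨N, hNn, hNbot, hNtop⟩ := hex
        have hcardN : Nat.card N < n := by
          rw [← hn]
          have hdvd : Nat.card N ∣ Nat.card G := Subgroup.card_subgroup_dvd_card N
          have hle := Nat.le_of_dvd Nat.card_pos hdvd
          rcases lt_or_eq_of_le hle with h | h
          · exact h
          · exact absurd (Subgroup.eq_top_of_card_eq N h) hNtop
        have hcardQ : Nat.card (G ⧸ N) < n := by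
          rw [← hn]
          have h1 : Nat.card N * N.index = Nat.card G := Subgroup.card_mul_index N
          have h2 : 1 < Nat.card N := by
            rw [Subgroup.one_lt_card_iff_ne_bot]; exact hNbot
          rw [← Subgroup.index_eq_card] 
          have hpos : 0 < N.index := Nat.pos_of_ne_zero Subgroup.index_ne_zero_of_finite
          nlinarith
        -- N is solvable
        have hNsol : Group.IsSolvable N := by
          refine ih _ hcardN N rfl (A.subgroupOf N) ?_ ?_
          · refine ⟨⟨fun x y => ?_⟩⟩
            apply Subtype.ext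
            apply Subtype.ext
            have := (IsMulCommutative.is_comm (M := A)).comm ⟨((x : N) : G), x.2⟩ ⟨((y : N) : G), y.2⟩
            have h2 : ((x : N) : G) * ((y : N) : G) = ((y : N) : G) * ((x : N) : G) :=
              congrArg Subtype.val this
            exact h2
          · have hdvd : A.relIndex N ∣ 2 ^ k := by
              rw [← hk]; exact relIndex_dvd_index_of_normal_right A N
            obtain ⟨j, _, hj⟩ := (Nat.dvd_prime_pow Nat.prime_two).mp hdvd
            exact ⟨j, hj⟩
        have hQsol : Group.IsSolvable (G ⧸ N) := by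
          refine ih _ hcardQ (G ⧸ N) rfl (A.map (QuotientGroup.mk' N)) ?_ ?_
          · refine ⟨⟨fun x y => ?_⟩⟩
            apply Subtype.ext
            obtain ⟨x, hx⟩ := x
            obtain ⟨y, hy⟩ := y
            obtain ⟨x', hx', rfl⟩ := hx
            obtain ⟨y', hy', rfl⟩ := hy
            have := (IsMulCommutative.is_comm (M := A)).comm ⟨x', hx'⟩ ⟨y', hy'⟩
            have h2 : x' * y' = y' * x' := congrArg Subtype.val this
            show (QuotientGroup.mk' N) x' * (QuotientGroup.mk' N) y' = (QuotientGroup.mk' N) y' * (QuotientGroup.mk' N) x'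
            rw [← map_mul, ← map_mul, h2]
          · have hdvd : (A.map (QuotientGroup.mk' N)).index ∣ 2 ^ k := by
              rw [← hk]; exact Subgroup.index_map_dvd A (QuotientGroup.mk'_surjective N)
            obtain ⟨j, _, hj⟩ := (Nat.dvd_prime_pow Nat.prime_two).mp hdvd
            exact ⟨j, hj⟩
        exact Group.isSolvable_of_ker_le_range N.subtype (QuotientGroup.mk' N) (by simp)

theorem result {G : Type*} [Group G] [Finite G]
    (A : Subgroup G) (hA : IsMulCommutative A) (hidx : ∃ k : ℕ, A.index = 2 ^ k) : Group.IsSolvable G :=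
  main _ G rfl A hA hidx

end Cfsg.Agent.S3824
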