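import Cfsg.Statements.S3825
import Cfsg.Agent.Lib.Helper68.FixedPointFree

set_option autoImplicit false
open Cfsg

namespace Cfsg.Agent.S3825

open Cfsg.Agent.Lib.Helper68

/-- Let U be a subgroup of a finite group H and w an involution of H normalizing U and commuting with exactly two elements of U, the identity and y. If V is a non-cyclic elementary abelian 2-subgroup of U containing y which is normal in U and invariant under w, then V is a Sylow 2-subgroup of U, V has order 4, and U/V is abelian. -/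
theorem result {H : Type*} [Group H] [Finite H] (U : Subgroup H) (w : H) (hw : orderOf w = 2)
    (hwU : w ∈ Subgroup.normalizer (U : Set H)) (y : H) (hy : y ≠ 1) (hyU : y ∈ U)
    (hfix : ∀ u ∈ U, w * u * w⁻¹ = u ↔ (u = 1 ∨ u = y))
    (V : Subgroup H) (hVU : V ≤ U) (hVn : (V.subgroupOf U).Normal) (hVw : ∀ v ∈ V, w * v * w⁻¹ ∈ V)
    (hVe : Cfsg.IsElementaryAbelian 2 V) (hVc : ¬ IsCyclic ↥V) (hyV : y ∈ V) :
    ¬ 2 ∣ V.relIndex U ∧ Nat.card ↥V = 4 ∧ ⁅U, U⁆ ≤ V := by
  classical
  have hprime2 : Fact (Nat.Prime 2) := ⟨Nat.prime_two⟩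
  obtain ⟨hVcomm, hVexp⟩ := hVe
  have hw2 : w ^ 2 = 1 := by rw [← hw]; exact pow_orderOf_eq_one w
  have hwinv : w⁻¹ = w := by rw [inv_eq_iff_mul_eq_one, ← sq]; exact hw2
  -- conjugation by w
  let σ : H → H := fun x => w * x * w⁻¹
  have hσσ : ∀ x, σ (σ x) = x := by
    intro x
    show w * (w * x * w⁻¹) * w⁻¹ = x
    rw [hwinv]
    have hww : w * w = 1 := by rw [← sq]; exact hw2
    calc w * (w * x * w) * w = (w * w) * x * (w * w) := by group
      _ = x := by rw [hww]; group
  have hσmul : ∀ a b, σ (a * b) = σ a * σ b := by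
    intro a b; show w * (a * b) * w⁻¹ = (w * a * w⁻¹) * (w * b * w⁻¹); group
  have hσinv : ∀ a, σ a⁻¹ = (σ a)⁻¹ := by
    intro a; show w * a⁻¹ * w⁻¹ = (w * a * w⁻¹)⁻¹; group
  have hσone : σ 1 = 1 := by show w * 1 * w⁻¹ = 1; group
  have hσU : ∀ u ∈ U, σ u ∈ U := fun u hu => (Subgroup.mem_normalizer_iff.1 hwU u).1 hu
  have hσV : ∀ v ∈ V, σ v ∈ V := hVw
  have hcomm : ∀ a ∈ V, ∀ b ∈ V, a * b = b * a := by
    intro a ha b hb
    have := mul_comm' (⟨a, ha⟩ : ↥V) ⟨b, hb⟩
    exact congrArg Subtype.val this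
  have hVinv : ∀ v ∈ V, v⁻¹ = v := by
    intro v hv
    rw [inv_eq_iff_mul_eq_one, ← sq]; exact hVexp v hv
  -- elements v of V with v * σ v = 1 are 1 or y
  have hker : ∀ v ∈ V, v * σ v = 1 → v = 1 ∨ v = y := by
    intro v hv h
    have h1 : σ v = v := by
      have : σ v = v⁻¹ := by
        rw [eq_inv_iff_mul_eq_one, ← h, hcomm _ (hσV v hv) _ hv]
      rw [this, hVinv v hv]
    exact (hfix v (hVU hv)).1 h1
  -- v * σ v is always 1 or y
  have hrange : ∀ v ∈ V, v * σ v = 1 ∨ v * σ v = y := by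
    intro v hv
    have hmem : v * σ v ∈ V := V.mul_mem hv (hσV v hv)
    have h1 : σ (v * σ v) = v * σ v := by
      rw [hσmul, hσσ, hcomm _ (hσV v hv) _ hv]
    exact (hfix _ (hVU hmem)).1 h1
  -- the endomorphism v ↦ v * σ v of V
  let f : ↥V →* ↥V := MonoidHom.mk' (fun v => ⟨(v : H) * σ v, V.mul_mem v.2 (hσV v v.2)⟩) (by
    intro a b
    apply Subtype.ext
    show ((a : H) * b) * σ ((a : H) * b) = ((a : H) * σ a) * ((b : H) * σ b)
    rw [hσmul]
    have := hcomm _ b.2 _ (hσV a a.2)
    calc (a : H) * b * (σ a * σ b) = a * (b * σ a) * σ b := by group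
      _ = a * (σ a * b) * σ b := by rw [this]
      _ = a * σ a * (b * σ b) := by group)
  have hf : ∀ v : ↥V, ((f v : ↥V) : H) = (v : H) * σ v := fun v => rfl
  let yV : ↥V := ⟨y, hyV⟩
  have hyV1 : yV ≠ 1 := by
    intro h; apply hy; exact congrArg Subtype.val h
  have hpair : ({1, yV} : Set ↥V).ncard = 2 := Set.ncard_pair (Ne.symm hyV1)
  have hkerle : ((f.ker : Subgroup ↥V) : Set ↥V) ⊆ {1, yV} := by
    intro v hv
    have h1 : f v = 1 := hv
    have h2 : (v : H) * σ v = 1 := by rw [← hf, h1]; rfl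
    rcases hker v v.2 h2 with h | h
    · left; exact Subtype.ext h
    · right; exact Subtype.ext h
  have hrangele : ((f.range : Subgroup ↥V) : Set ↥V) ⊆ {1, yV} := by
    rintro _ ⟨v, rfl⟩
    rcases hrange v v.2 with h | h
    · left; apply Subtype.ext; rw [hf]; exact h
    · right; apply Subtype.ext; rw [hf]; exact h
  have hcardker : Nat.card f.ker ≤ 2 := by
    rw [← hpair, ← Nat.card_coe_set_eq]
    exact Nat.card_mono (Set.toFinite _) hkerle
  have hcardrange : Nat.card f.range ≤ 2 := by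
    rw [← hpair, ← Nat.card_coe_set_eq]
    exact Nat.card_mono (Set.toFinite _) hrangele
  have hcardV : Nat.card ↥V = Nat.card f.ker * Nat.card f.range := by
    rw [← Subgroup.index_ker, Subgroup.card_mul_index]
  have hVle4 : Nat.card ↥V ≤ 4 := by
    rw [hcardV]
    calc Nat.card f.ker * Nat.card f.range ≤ 2 * 2 := Nat.mul_le_mul hcardker hcardrange
      _ = 4 := by norm_num
  have hVp : IsPGroup 2 ↥V := by
    intro v
    refine ⟨1, ?_⟩
    apply Subtype.ext
    simpa using hVexp v v.2
  obtain ⟨n, hn⟩ := hVp.exists_card_eq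
  have hV4 : Nat.card ↥V = 4 := by
    have hn2 : n ≤ 2 := by
      by_contra hlt
      have h3 : 3 ≤ n := by omega
      have : 2 ^ 3 ≤ 2 ^ n := Nat.pow_le_pow_right (by norm_num) h3
      rw [← hn] at this
      omega
    interval_cases n
    · exfalso
      apply hVc
      have : Subsingleton ↥V := by
        rw [← Finite.card_le_one_iff_subsingleton]
        omega
      exact isCyclic_of_subsingleton
    · exfalso
      apply hVc
      exact isCyclic_of_prime_card (p := 2) (by simpa using hn)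
    · simpa using hn
  -- an element of V outside {1, y}
  have hexists : ∃ v' ∈ V, v' * σ v' = y := by
    have hlt : ({1, yV} : Set ↥V).ncard < (Set.univ : Set ↥V).ncard := by
      rw [hpair, Set.ncard_univ, hV4]; norm_num
    obtain ⟨v', _, hv'⟩ := Set.exists_mem_notMem_of_ncard_lt_ncard hlt
    refine ⟨v', v'.2, ?_⟩
    rcases hrange v' v'.2 with h | h
    · exfalso
      apply hv'
      rcases hker v' v'.2 h with h' | h'
      · left; exact Subtype.ext h'
      · right; exact Subtype.ext h'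
    · exact h
  -- key claim: if u⁻¹ σ u ∈ V then u ∈ V
  have hstar : ∀ u ∈ U, u⁻¹ * σ u ∈ V → u ∈ V := by
    intro u hu hv
    set v := u⁻¹ * σ u with hvdef
    have hσu : σ u = u * v := by rw [hvdef]; group
    have h1 : v * σ v = 1 := by
      have h2 : u = u * v * σ v := by
        calc u = σ (σ u) := (hσσ u).symm
          _ = σ (u * v) := by rw [hσu]
          _ = σ u * σ v := hσmul _ _
          _ = u * v * σ v := by rw [hσu]
      have h3 : u * (v * σ v) = u * 1 := by rw [mul_one, ← mul_assoc]; exact h2.symm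
      exact mul_left_cancel h3
    rcases hker v hv h1 with h | h
    · have : σ u = u := by rw [hσu, h, mul_one]
      rcases (hfix u hu).1 this with h' | h'
      · rw [h']; exact V.one_mem
      · rw [h']; exact hyV
    · obtain ⟨v', hv', hv'y⟩ := hexists
      have hfixed : σ (u * v') = u * v' := by
        rw [hσmul, hσu, h]
        have h4 : y * σ v' = v' := by
          rw [← hv'y]
          have h5 : σ v' * σ v' = 1 := by
            rw [← hσmul, ← sq, hVexp v' hv', hσone]
          calc v' * σ v' * σ v' = v' * (σ v' * σ v') := by group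
            _ = v' := by rw [h5, mul_one]
        calc u * y * σ v' = u * (y * σ v') := by group
          _ = u * v' := by rw [h4]
      have huv' : u * v' ∈ U := U.mul_mem hu (hVU hv')
      have hmem : u * v' ∈ V := by
        rcases (hfix _ huv').1 hfixed with h' | h'
        · rw [h']; exact V.one_mem
        · rw [h']; exact hyV
      have : u = u * v' * v'⁻¹ := by group
      rw [this]
      exact V.mul_mem hmem (V.inv_mem hv')
  -- the induced automorphism on the quotient
  let σU : ↥U →* ↥U := MonoidHom.mk' (fun u => ⟨σ u, hσU u u.2⟩) (by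
    intro a b
    apply Subtype.ext
    exact hσmul a b)
  have hσUle : V.subgroupOf U ≤ (V.subgroupOf U).comap σU := by
    intro u hu
    rw [Subgroup.mem_comap, Subgroup.mem_subgroupOf]
    exact hσV _ (Subgroup.mem_subgroupOf.1 hu)
  let φ : (↥U ⧸ V.subgroupOf U) →* (↥U ⧸ V.subgroupOf U) :=
    QuotientGroup.map (V.subgroupOf U) (V.subgroupOf U) σU hσUle
  have hφmk : ∀ u : ↥U, φ (u : ↥U ⧸ V.subgroupOf U) = ((σU u : ↥U) : ↥U ⧸ V.subgroupOf U) := fun u => rfl
  have hφinv : ∀ q, φ (φ q) = q := by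
    intro q
    induction q using QuotientGroup.induction_on with
    | H u =>
      rw [hφmk, hφmk]
      congr 1
      apply Subtype.ext
      exact hσσ u
  have hφfpf : ∀ q, φ q = q → q = 1 := by
    intro q
    induction q using QuotientGroup.induction_on with
    | H u =>
      intro h
      rw [hφmk] at h
      rw [QuotientGroup.eq_one_iff, Subgroup.mem_subgroupOf]
      apply hstar u u.2
      have h1 := QuotientGroup.eq.1 h.symm
      rw [Subgroup.mem_subgroupOf] at h1
      exact h1
  refine ⟨?_, hV4, ?_⟩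
  · exact fpf_involution_odd φ hφfpf hφinv
  · rw [Subgroup.commutator_le]
    intro a ha b hb
    have hc := fpf_involution_comm φ hφfpf hφinv ((⟨a, ha⟩ : ↥U) : ↥U ⧸ V.subgroupOf U) ((⟨b, hb⟩ : ↥U) : ↥U ⧸ V.subgroupOf U)
    have h1 : (((⟨a, ha⟩ : ↥U) * ⟨b, hb⟩ * (⟨a, ha⟩ : ↥U)⁻¹ * (⟨b, hb⟩ : ↥U)⁻¹ : ↥U) : ↥U ⧸ V.subgroupOf U) = 1 := by
      simp only [QuotientGroup.mk_mul, QuotientGroup.mk_inv]
      rw [hc]
      group
    rw [QuotientGroup.eq_one_iff, Subgroup.mem_subgroupOf] at h1
    exact h1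

end Cfsg.Agent.S3825
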