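import Cfsg.Statements.S3835
import Mathlib

set_option autoImplicit false
open Cfsg Matrix
open scoped commutatorElement

namespace Cfsg.Agent.S3835

section aux

/-- all `p`-subgroups are abelian -/
def PAb (p : ℕ) (G : Type*) [Group G] : Prop :=
  ∀ Q : Subgroup G, IsPGroup p Q → ∀ a ∈ Q, ∀ b ∈ Q, a * b = b * a

lemma PAb_of_injective {p : ℕ} {G H : Type*} [Group G] [Group H] (f : G →* H)
    (hf : Function.Injective f) (h : PAb p H) : PAb p G := by
  intro Q hQ a ha b hb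
  apply hf
  rw [map_mul, map_mul]
  apply h (Q.map f) _ _ (Subgroup.mem_map_of_mem f ha) _ (Subgroup.mem_map_of_mem f hb)
  exact hQ.map f

lemma PAb_of_surjective {p : ℕ} [Fact p.Prime] {G H : Type*} [Group G] [Finite G] [Group H]
    (f : G →* H) (hf : Function.Surjective f) (h : PAb p G) : PAb p H := by
  intro Q hQ a ha b hb
  haveI : Finite H := Finite.of_surjective f hf
  obtain ⟨P', hP'⟩ := hQ.exists_le_sylow
  obtain ⟨P⟩ : Nonempty (Sylow p G) := inferInstance
  obtain ⟨g, hg⟩ := MulAction.exists_smul_eq H (Sylow.mapSurjective hf P) P'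
  -- P' = g • map f P
  have hmem : ∀ x ∈ (P' : Subgroup H), ∃ y ∈ (P : Subgroup G), x = g * f y * g⁻¹ := by
    intro x hx
    rw [← hg, Sylow.coe_subgroup_smul, Sylow.coe_mapSurjective,
      Subgroup.mem_smul_pointwise_iff_exists] at hx
    obtain ⟨s, ⟨y, hy, rfl⟩, hsx⟩ := hx
    refine ⟨y, hy, ?_⟩
    rw [← hsx]
    rfl
  obtain ⟨ya, hya, rfl⟩ := hmem a (hP' ha)
  obtain ⟨yb, hyb, rfl⟩ := hmem b (hP' hb)
  have hc : ya * yb = yb * ya := h P P.isPGroup' ya hya yb hyb
  have hc' : f ya * f yb = f yb * f ya := by rw [← map_mul, hc, map_mul]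
  calc g * f ya * g⁻¹ * (g * f yb * g⁻¹) = g * (f ya * f yb) * g⁻¹ := by group
    _ = g * (f yb * f ya) * g⁻¹ := by rw [hc']
    _ = g * f yb * g⁻¹ * (g * f ya * g⁻¹) := by group


/-- in a finite `p`-group, a subgroup of index `< p ^ 2` contains all commutators -/
lemma commutator_mem_of_index_lt {p : ℕ} [Fact p.Prime] {Q : Type*} [Group Q] [Finite Q]
    (hQ : IsPGroup p Q) (N : Subgroup Q) (hN : N.index < p ^ 2) (x y : Q) : ⁅x, y⁆ ∈ N := by
  have hp : p.Prime := Fact.out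
  obtain ⟨k, hk⟩ := hQ.index N
  have hk1 : k < 2 := by
    rw [hk] at hN
    exact (Nat.pow_lt_pow_iff_right hp.one_lt).mp hN
  interval_cases k
  · rw [pow_zero, Subgroup.index_eq_one] at hk
    rw [hk]; exact Subgroup.mem_top _
  · rw [pow_one] at hk
    -- card Q = p ^ m with m ≥ 1
    obtain ⟨m, hm⟩ := hQ.exists_card_eq
    have hm0 : m ≠ 0 := by
      rintro rfl
      rw [pow_zero] at hm
      have : N.index ∣ Nat.card Q := Subgroup.index_dvd_card N
      rw [hm, hk] at this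
      exact hp.one_lt.ne' (Nat.dvd_one.mp this)
    haveI : N.Normal := by
      apply Subgroup.normal_of_index_eq_minFac_card
      rw [hk, hm, hp.pow_minFac hm0]
    haveI : Fact (Nat.card (Q ⧸ N)).Prime := by
      rw [← Subgroup.index_eq_card, hk]; exact ⟨hp⟩
    haveI : IsCyclic (Q ⧸ N) := isCyclic_of_prime_card rfl
    have hcomm : IsMulCommutative (Q ⧸ N) := ⟨⟨fun a b => IsCyclic.commGroup.mul_comm a b⟩⟩
    have := Subgroup.Normal.quotient_commutative_iff_commutator_le.mp hcomm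
    apply this
    rw [commutator_def]
    exact Subgroup.commutator_mem_commutator (Subgroup.mem_top x) (Subgroup.mem_top y)

lemma PAb_perm {p : ℕ} [Fact p.Prime] (n : ℕ) (hn : n < p ^ 2) : PAb p (Equiv.Perm (Fin n)) := by
  intro Q hQ a ha b hb
  set x : Q := ⟨a, ha⟩ with hx
  set y : Q := ⟨b, hb⟩ with hy
  have key : ⁅x, y⁆ = 1 := by
    apply Subtype.ext
    apply Equiv.ext
    intro i
    have hidx : (MulAction.stabilizer Q i).index < p ^ 2 := by
      rw [MulAction.index_stabilizer]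
      refine lt_of_le_of_lt ?_ hn
      calc (MulAction.orbit Q i).ncard ≤ (Set.univ : Set (Fin n)).ncard :=
            Set.ncard_le_ncard (Set.subset_univ _)
        _ = n := by rw [Set.ncard_univ, Nat.card_eq_fintype_card, Fintype.card_fin]
    have := commutator_mem_of_index_lt hQ (MulAction.stabilizer Q i) hidx x y
    exact this
  have h2 : Commute x y := commutatorElement_eq_one_iff_commute.mp key
  exact congrArg Subtype.val h2.eq


variable {p : ℕ} [Fact p.Prime]

/-- the defining set of `qd p` -/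
def S (p : ℕ) : Set (Matrix.SpecialLinearGroup (Fin 3) (ZMod p)) :=
  {M | (M : Matrix (Fin 3) (Fin 3) (ZMod p)) 2 0 = 0 ∧
    (M : Matrix (Fin 3) (Fin 3) (ZMod p)) 2 1 = 0 ∧ (M : Matrix (Fin 3) (Fin 3) (ZMod p)) 2 2 = 1}

lemma qd_def : Cfsg.qd p = Subgroup.closure (S p) := rfl

/-- row-vector characterisation -/
lemma mem_S_iff (M : Matrix.SpecialLinearGroup (Fin 3) (ZMod p)) :
    M ∈ S p ↔ (Pi.single 2 1 : Fin 3 → ZMod p) ᵥ* M.1 = Pi.single 2 1 := by
  constructor
  · rintro ⟨h0, h1, h2⟩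
    funext j
    fin_cases j <;> simp [Matrix.vecMul, dotProduct, Fin.sum_univ_three, h0, h1, h2]
  · intro h
    have h0 := congrFun h 0
    have h1 := congrFun h 1
    have h2 := congrFun h 2
    simp [Matrix.vecMul, dotProduct, Fin.sum_univ_three] at h0 h1 h2
    exact ⟨h0, h1, h2⟩

/-- the affine subgroup -/
def aff (p : ℕ) [Fact p.Prime] : Subgroup (Matrix.SpecialLinearGroup (Fin 3) (ZMod p)) where
  carrier := S p
  mul_mem' := by
    intro a b ha hb
    rw [mem_S_iff] at ha hb ⊢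
    rw [Matrix.SpecialLinearGroup.coe_mul, ← Matrix.vecMul_vecMul, ha, hb]
  one_mem' := by
    rw [mem_S_iff]; simp
  inv_mem' := by
    intro a ha
    rw [mem_S_iff] at ha ⊢
    have h1 : (a.1 * (a⁻¹).1) = 1 := by
      rw [← Matrix.SpecialLinearGroup.coe_mul, mul_inv_cancel]; rfl
    calc (Pi.single 2 1 : Fin 3 → ZMod p) ᵥ* (a⁻¹).1
        = ((Pi.single 2 1 : Fin 3 → ZMod p) ᵥ* a.1) ᵥ* (a⁻¹).1 := by rw [ha]
      _ = Pi.single 2 1 := by rw [Matrix.vecMul_vecMul, h1, Matrix.vecMul_one]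

lemma qd_eq_aff : Cfsg.qd p = aff p := by
  rw [qd_def]
  exact Subgroup.closure_eq (aff p)

lemma mem_qd_iff (M : Matrix.SpecialLinearGroup (Fin 3) (ZMod p)) :
    M ∈ Cfsg.qd p ↔ M ∈ S p := by
  rw [qd_eq_aff]; rfl


/-- elementary matrices -/
def u01 (x : ZMod p) : Matrix.SpecialLinearGroup (Fin 3) (ZMod p) :=
  ⟨!![1, x, 0; 0, 1, 0; 0, 0, 1], by simp [Matrix.det_fin_three]⟩
def u10 (x : ZMod p) : Matrix.SpecialLinearGroup (Fin 3) (ZMod p) :=
  ⟨!![1, 0, 0; x, 1, 0; 0, 0, 1], by simp [Matrix.det_fin_three]⟩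
def u02 (x : ZMod p) : Matrix.SpecialLinearGroup (Fin 3) (ZMod p) :=
  ⟨!![1, 0, x; 0, 1, 0; 0, 0, 1], by simp [Matrix.det_fin_three]⟩
def u12 (x : ZMod p) : Matrix.SpecialLinearGroup (Fin 3) (ZMod p) :=
  ⟨!![1, 0, 0; 0, 1, x; 0, 0, 1], by simp [Matrix.det_fin_three]⟩

lemma u01_mul (x y : ZMod p) : u01 x * u01 y = u01 (x + y) := by
  apply Subtype.ext
  show (u01 x).1 * (u01 y).1 = (u01 (x + y)).1
  simp only [u01]
  ext i j
  fin_cases i <;> fin_cases j <;> simp [Matrix.mul_apply, Fin.sum_univ_three, add_comm]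
lemma u10_mul (x y : ZMod p) : u10 x * u10 y = u10 (x + y) := by
  apply Subtype.ext
  show (u10 x).1 * (u10 y).1 = (u10 (x + y)).1
  simp only [u10]
  ext i j
  fin_cases i <;> fin_cases j <;> simp [Matrix.mul_apply, Fin.sum_univ_three, add_comm]
lemma u02_mul (x y : ZMod p) : u02 x * u02 y = u02 (x + y) := by
  apply Subtype.ext
  show (u02 x).1 * (u02 y).1 = (u02 (x + y)).1
  simp only [u02]
  ext i j
  fin_cases i <;> fin_cases j <;> simp [Matrix.mul_apply, Fin.sum_univ_three, add_comm]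
lemma u12_mul (x y : ZMod p) : u12 x * u12 y = u12 (x + y) := by
  apply Subtype.ext
  show (u12 x).1 * (u12 y).1 = (u12 (x + y)).1
  simp only [u12]
  ext i j
  fin_cases i <;> fin_cases j <;> simp [Matrix.mul_apply, Fin.sum_univ_three, add_comm]

lemma u01_zero : u01 (0 : ZMod p) = 1 := by
  apply Subtype.ext
  show (u01 (0 : ZMod p)).1 = 1
  simp only [u01]
  ext i j
  fin_cases i <;> fin_cases j <;> simp
lemma u10_zero : u10 (0 : ZMod p) = 1 := by
  apply Subtype.ext
  show (u10 (0 : ZMod p)).1 = 1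
  simp only [u10]
  ext i j
  fin_cases i <;> fin_cases j <;> simp
lemma u02_zero : u02 (0 : ZMod p) = 1 := by
  apply Subtype.ext
  show (u02 (0 : ZMod p)).1 = 1
  simp only [u02]
  ext i j
  fin_cases i <;> fin_cases j <;> simp
lemma u12_zero : u12 (0 : ZMod p) = 1 := by
  apply Subtype.ext
  show (u12 (0 : ZMod p)).1 = 1
  simp only [u12]
  ext i j
  fin_cases i <;> fin_cases j <;> simp

/-- a one-parameter family has exponent `p` -/
lemma pow_p_of_family (u : ZMod p → Matrix.SpecialLinearGroup (Fin 3) (ZMod p))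
    (hmul : ∀ x y, u x * u y = u (x + y)) (h0 : u 0 = 1) (x : ZMod p) : u x ^ p = 1 := by
  have : ∀ k : ℕ, u x ^ k = u (k • x) := by
    intro k
    induction k with
    | zero => simp [h0]
    | succ k ih => rw [pow_succ, ih, hmul, succ_nsmul]
  rw [this, ← h0]
  congr 1
  simp

lemma u01_mem (x : ZMod p) : u01 x ∈ S p := by
  refine ⟨?_, ?_, ?_⟩ <;> simp [u01]
lemma u10_mem (x : ZMod p) : u10 x ∈ S p := by
  refine ⟨?_, ?_, ?_⟩ <;> simp [u10]
lemma u02_mem (x : ZMod p) : u02 x ∈ S p := by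
  refine ⟨?_, ?_, ?_⟩ <;> simp [u02]
lemma u12_mem (x : ZMod p) : u12 x ∈ S p := by
  refine ⟨?_, ?_, ?_⟩ <;> simp [u12]


lemma u01_pow (x : ZMod p) : u01 x ^ p = 1 := pow_p_of_family u01 u01_mul u01_zero x
lemma u10_pow (x : ZMod p) : u10 x ^ p = 1 := pow_p_of_family u10 u10_mul u10_zero x
lemma u02_pow (x : ZMod p) : u02 x ^ p = 1 := pow_p_of_family u02 u02_mul u02_zero x
lemma u12_pow (x : ZMod p) : u12 x ^ p = 1 := pow_p_of_family u12 u12_mul u12_zero x

lemma det_rel (M : Matrix.SpecialLinearGroup (Fin 3) (ZMod p)) (hM : M ∈ S p) :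
    M.1 0 0 * M.1 1 1 - M.1 0 1 * M.1 1 0 = 1 := by
  obtain ⟨h0, h1, h2⟩ := hM
  have := M.2
  rw [Matrix.det_fin_three] at this
  simp only [h0, h1, h2] at this
  linear_combination this

lemma decomp (M : Matrix.SpecialLinearGroup (Fin 3) (ZMod p)) (hM : M ∈ S p)
    (hc : M.1 1 0 ≠ 0) :
    M = u02 (M.1 0 2) * u12 (M.1 1 2) * u01 ((M.1 0 0 - 1) / M.1 1 0) * u10 (M.1 1 0) *
      u01 ((M.1 1 1 - 1) / M.1 1 0) := by
  have hdet := det_rel M hM
  obtain ⟨h0, h1, h2⟩ := hM
  apply Subtype.ext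
  show M.1 = (u02 (M.1 0 2)).1 * (u12 (M.1 1 2)).1 * (u01 ((M.1 0 0 - 1) / M.1 1 0)).1 *
    (u10 (M.1 1 0)).1 * (u01 ((M.1 1 1 - 1) / M.1 1 0)).1
  set a := M.1 0 0
  set b := M.1 0 1
  set c := M.1 1 0
  set d := M.1 1 1
  simp only [u01, u10, u02, u12]
  ext i j
  fin_cases i <;> fin_cases j <;>
    simp [Matrix.mul_apply, Fin.sum_univ_three, h0, h1, h2]
  · show a = _
    field_simp
    ring
  · show b = _
    field_simp
    linear_combination -hdet
  · rfl
  · show d = _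
    field_simp
    ring


/-- the elements of `S` of order dividing `p` -/
def T (p : ℕ) : Set (Matrix.SpecialLinearGroup (Fin 3) (ZMod p)) := {N | N ∈ S p ∧ N ^ p = 1}

lemma mem_closure_T_of_ne (M : Matrix.SpecialLinearGroup (Fin 3) (ZMod p)) (hM : M ∈ S p)
    (hc : M.1 1 0 ≠ 0) : M ∈ Subgroup.closure (T p) := by
  rw [decomp M hM hc]
  have h1 : ∀ x, u01 x ∈ Subgroup.closure (T p) :=
    fun x => Subgroup.subset_closure ⟨u01_mem x, u01_pow x⟩
  have h2 : ∀ x, u10 x ∈ Subgroup.closure (T p) :=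
    fun x => Subgroup.subset_closure ⟨u10_mem x, u10_pow x⟩
  have h3 : ∀ x, u02 x ∈ Subgroup.closure (T p) :=
    fun x => Subgroup.subset_closure ⟨u02_mem x, u02_pow x⟩
  have h4 : ∀ x, u12 x ∈ Subgroup.closure (T p) :=
    fun x => Subgroup.subset_closure ⟨u12_mem x, u12_pow x⟩
  exact Subgroup.mul_mem _ (Subgroup.mul_mem _ (Subgroup.mul_mem _ (Subgroup.mul_mem _ (h3 _) (h4 _))
    (h1 _)) (h2 _)) (h1 _)

lemma mem_closure_T (M : Matrix.SpecialLinearGroup (Fin 3) (ZMod p)) (hM : M ∈ S p) :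
    M ∈ Subgroup.closure (T p) := by
  by_cases hc : M.1 1 0 = 0
  · -- multiply by u10 1
    have hM' : u10 1 * M ∈ S p := (aff p).mul_mem (u10_mem 1) hM
    have hdet := det_rel M hM
    have ha : M.1 0 0 ≠ 0 := by
      intro h
      rw [h, hc] at hdet
      simp at hdet
    have hc' : (u10 (1 : ZMod p) * M).1 1 0 ≠ 0 := by
      have : (u10 (1 : ZMod p) * M).1 1 0 = M.1 0 0 + M.1 1 0 := by
        show ((u10 (1 : ZMod p)).1 * M.1) 1 0 = _
        simp [u10, Matrix.mul_apply, Fin.sum_univ_three]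
      rw [this, hc, add_zero]
      exact ha
    have h1 := mem_closure_T_of_ne _ hM' hc'
    have h2 : (u10 (1 : ZMod p))⁻¹ ∈ Subgroup.closure (T p) :=
      Subgroup.inv_mem _ (Subgroup.subset_closure ⟨u10_mem 1, u10_pow 1⟩)
    have := Subgroup.mul_mem _ h2 h1
    rwa [inv_mul_cancel_left] at this
  · exact mem_closure_T_of_ne M hM hc

/-- every hom from `qd p` to `ℤˣ` is trivial, `p` odd -/
lemma hom_trivial (hp : p ≠ 2) (χ : Cfsg.qd p →* ℤˣ) (g : Cfsg.qd p) : χ g = 1 := by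
  have hp' : p.Prime := Fact.out
  have hodd : Odd p := hp'.odd_of_ne_two hp
  -- elements of order dividing p are killed
  have hkill : ∀ h : Cfsg.qd p, h ^ p = 1 → χ h = 1 := by
    intro h hh
    have h1 : χ h ^ p = 1 := by rw [← map_pow, hh, map_one]
    obtain ⟨k, hk⟩ := hodd
    have h2 : χ h ^ 2 = 1 := by
      rw [sq, Int.units_mul_self]
    have h3 : χ h ^ (2 * k + 1) = 1 := by rw [← hk]; exact h1
    rw [pow_succ, pow_mul, h2, one_pow, one_mul] at h3
    exact h3
  have hle : Subgroup.closure (T p) ≤ (χ.ker).map (Cfsg.qd p).subtype := by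
    rw [Subgroup.closure_le]
    rintro N ⟨hNS, hNp⟩
    have hNq : N ∈ Cfsg.qd p := (mem_qd_iff N).mpr hNS
    refine ⟨⟨N, hNq⟩, ?_, rfl⟩
    rw [SetLike.mem_coe, MonoidHom.mem_ker]
    apply hkill
    apply Subtype.ext
    rw [SubmonoidClass.coe_pow]
    exact hNp
  have hg : g.1 ∈ (χ.ker).map (Cfsg.qd p).subtype :=
    hle (mem_closure_T g.1 ((mem_qd_iff g.1).mp g.2))
  obtain ⟨g', hg', hgg'⟩ := hg
  have : g' = g := Subtype.ext hgg'
  rw [← this]
  exact MonoidHom.mem_ker.mp hg'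


/-- unitriangular matrices, as a submonoid -/
def uniM (p : ℕ) [Fact p.Prime] : Submonoid (Matrix.SpecialLinearGroup (Fin 3) (ZMod p)) where
  carrier := {M | M.1 0 0 = 1 ∧ M.1 1 1 = 1 ∧ M.1 2 2 = 1 ∧ M.1 1 0 = 0 ∧ M.1 2 0 = 0 ∧ M.1 2 1 = 0}
  mul_mem' := by
    rintro a b ⟨a1, a2, a3, a4, a5, a6⟩ ⟨b1, b2, b3, b4, b5, b6⟩
    refine ⟨?_, ?_, ?_, ?_, ?_, ?_⟩ <;>
    · show (a.1 * b.1) _ _ = _
      simp [Matrix.mul_apply, Fin.sum_univ_three, a1, a2, a3, a4, a5, a6, b1, b2, b3, b4, b5, b6]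
  one_mem' := by
    refine ⟨?_, ?_, ?_, ?_, ?_, ?_⟩ <;> simp

lemma uniM_pow (hp : p ≠ 2) (M : Matrix.SpecialLinearGroup (Fin 3) (ZMod p)) (hM : M ∈ uniM p) :
    M ^ p = 1 := by
  obtain ⟨a1, a2, a3, a4, a5, a6⟩ := hM
  have hp' : p.Prime := Fact.out
  have h3 : 3 ≤ p := by
    have := hp'.two_le
    omega
  apply Subtype.ext
  rw [Matrix.SpecialLinearGroup.coe_pow]
  show M.1 ^ p = 1
  set N := M.1 - 1 with hN
  have hMN : M.1 = 1 + N := by rw [hN]; abel
  have hN3 : N * N * N = 0 := by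
    ext i j
    fin_cases i <;> fin_cases j <;>
      simp [hN, Matrix.mul_apply, Fin.sum_univ_three, a1, a2, a3, a4, a5, a6]
  have hNp : N ^ p = 0 := by
    apply pow_eq_zero_of_le h3
    rw [pow_succ, pow_succ, pow_one, hN3]
  rw [hMN, add_pow_char_of_commute p (Commute.one_left N), one_pow, hNp, add_zero]

/-- unitriangular matrices, as a subgroup -/
def uni (p : ℕ) [Fact p.Prime] (hp : p ≠ 2) : Subgroup (Matrix.SpecialLinearGroup (Fin 3) (ZMod p)) :=
  { uniM p with
    inv_mem' := by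
      intro a ha
      have h1 : a⁻¹ = a ^ (p - 1) := by
        have hp' : p.Prime := Fact.out
        have h2 : a ^ (p - 1) * a = 1 := by
          rw [← pow_succ, Nat.sub_add_cancel hp'.one_le]; exact uniM_pow hp a ha
        exact (eq_inv_of_mul_eq_one_left h2).symm
      rw [h1]
      exact (uniM p).pow_mem ha _ }

lemma not_PAb_qd (hp : p ≠ 2) : ¬ PAb p (Cfsg.qd p) := by
  intro h
  have hx : u01 (1 : ZMod p) ∈ Cfsg.qd p := by
    rw [mem_qd_iff]; refine ⟨?_, ?_, ?_⟩ <;> simp [u01]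
  have hy : u12 (1 : ZMod p) ∈ Cfsg.qd p := by
    rw [mem_qd_iff]; refine ⟨?_, ?_, ?_⟩ <;> simp [u12]
  have hxu : u01 (1 : ZMod p) ∈ uni p hp := by
    refine ⟨?_, ?_, ?_, ?_, ?_, ?_⟩ <;> simp [u01]
  have hyu : u12 (1 : ZMod p) ∈ uni p hp := by
    refine ⟨?_, ?_, ?_, ?_, ?_, ?_⟩ <;> simp [u12]
  have hQ : IsPGroup p ((uni p hp).subgroupOf (Cfsg.qd p)) := by
    intro g
    refine ⟨1, ?_⟩
    rw [pow_one]
    apply Subtype.ext
    apply Subtype.ext
    have := uniM_pow hp g.1.1 g.2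
    simpa using this
  have key := h _ hQ ⟨_, hx⟩ (Subgroup.mem_subgroupOf.mpr hxu) ⟨_, hy⟩ (Subgroup.mem_subgroupOf.mpr hyu)
  have key2 : u01 (1 : ZMod p) * u12 1 = u12 1 * u01 1 := congrArg Subtype.val key
  have key3 : ((u01 (1 : ZMod p)).1 * (u12 (1 : ZMod p)).1) 0 2 =
      ((u12 (1 : ZMod p)).1 * (u01 (1 : ZMod p)).1) 0 2 := by
    rw [← Matrix.SpecialLinearGroup.coe_mul, ← Matrix.SpecialLinearGroup.coe_mul, key2]
  simp [u01, u12, Matrix.mul_apply, Fin.sum_univ_three] at key3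


/-- the affine plane -/
def Pl (p : ℕ) : Type := {v : Fin 3 → ZMod p // v 2 = 1}

noncomputable def plEquiv (p : ℕ) : Pl p ≃ ZMod p × ZMod p where
  toFun v := (v.1 0, v.1 1)
  invFun ab := ⟨![ab.1, ab.2, 1], rfl⟩
  left_inv v := by
    apply Subtype.ext
    funext i
    fin_cases i
    · rfl
    · rfl
    · exact v.2.symm
  right_inv ab := rfl

instance : Finite (Pl p) := Finite.of_equiv _ (plEquiv p).symm

lemma card_Pl : Nat.card (Pl p) = p ^ 2 := by
  rw [Nat.card_congr (plEquiv p), Nat.card_prod, Nat.card_eq_fintype_card, ZMod.card, sq]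

instance : MulAction (Cfsg.qd p) (Pl p) where
  smul g v := ⟨g.1.1 *ᵥ v.1, by
    obtain ⟨h0, h1, h2⟩ := (mem_qd_iff g.1).mp g.2
    simp [Matrix.mulVec, dotProduct, Fin.sum_univ_three, h0, h1, h2, v.2]⟩
  one_smul v := Subtype.ext (Matrix.one_mulVec v.1)
  mul_smul g h v := Subtype.ext (by
    show (g.1.1 * h.1.1) *ᵥ v.1 = g.1.1 *ᵥ (h.1.1 *ᵥ v.1)
    rw [Matrix.mulVec_mulVec])

lemma smul_val (g : Cfsg.qd p) (v : Pl p) : (g • v).1 = g.1.1 *ᵥ v.1 := rfl

lemma toPermHom_injective :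
    Function.Injective (MulAction.toPermHom (Cfsg.qd p) (Pl p)) := by
  rw [injective_iff_map_eq_one]
  intro g hg
  have hfix : ∀ v : Pl p, g.1.1 *ᵥ v.1 = v.1 := by
    intro v
    have : (MulAction.toPermHom (Cfsg.qd p) (Pl p) g) v = v := by rw [hg]; rfl
    exact congrArg Subtype.val this
  have h0 := hfix ⟨![0, 0, 1], rfl⟩
  have h1 := hfix ⟨![1, 0, 1], rfl⟩
  have h2 := hfix ⟨![0, 1, 1], rfl⟩
  apply Subtype.ext
  apply Subtype.ext
  show g.1.1 = 1
  have e00 := congrFun h0 0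
  have e01 := congrFun h0 1
  have e02 := congrFun h0 2
  have e10 := congrFun h1 0
  have e11 := congrFun h1 1
  have e12 := congrFun h1 2
  have e20 := congrFun h2 0
  have e21 := congrFun h2 1
  have e22 := congrFun h2 2
  simp [Matrix.mulVec, dotProduct, Fin.sum_univ_three] at e00 e01 e02 e10 e11 e12 e20 e21 e22
  ext i j
  fin_cases i <;> fin_cases j <;> simp
  · rw [e00] at e10; simpa using e10
  · rw [e00] at e20; simpa using e20
  · exact e00
  · rw [e01] at e11; simpa using e11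
  · rw [e01] at e21; simpa using e21
  · exact e01
  · rw [e02] at e12; simpa using e12
  · rw [e02] at e22; simpa using e22
  · exact e02


end aux


/-- Let p be an odd prime and n a natural number. The alternating group of degree n has a subgroup isomorphic to Qd(p) (the natural semidirect product of an elementary abelian group of order p² by SL₂(p)) if and only if n ≥ p²; and if n < p² then Qd(p) is not even involved in it. -/
theorem result {p : ℕ} [Fact p.Prime] (hp : p ≠ 2) (n : ℕ) : ((∃ H : Subgroup (alternatingGroup (Fin n)), Nonempty (↥H ≃* ↥(Cfsg.qd p))) ↔ p ^ 2 ≤ n) ∧ (n < p ^ 2 → ¬ Cfsg.Involves ↥(Cfsg.qd p) ↥(alternatingGroup (Fin n))) := by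
  have hAn : ∀ m : ℕ, m < p ^ 2 → PAb p (alternatingGroup (Fin m)) := fun m hm =>
    PAb_of_injective (alternatingGroup (Fin m)).subtype Subtype.coe_injective (PAb_perm m hm)
  constructor
  · constructor
    · rintro ⟨H, ⟨e⟩⟩
      by_contra hlt
      push Not at hlt
      have h1 : PAb p H := PAb_of_injective H.subtype Subtype.coe_injective (hAn n hlt)
      have h2 : PAb p (Cfsg.qd p) :=
        PAb_of_injective e.symm.toMonoidHom e.symm.injective h1
      exact not_PAb_qd hp h2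
    · intro hle
      classical
      haveI : Fintype (Pl p) := Fintype.ofFinite _
      have hcard : Fintype.card (Pl p) ≤ Fintype.card (Fin n) := by
        rw [← Nat.card_eq_fintype_card, card_Pl, Fintype.card_fin]; exact hle
      obtain ⟨ι⟩ := Function.Embedding.nonempty_of_card_le hcard
      let ψ : Cfsg.qd p →* Equiv.Perm (Fin n) :=
        (Equiv.Perm.viaEmbeddingHom ι).comp (MulAction.toPermHom (Cfsg.qd p) (Pl p))
      have hψ : Function.Injective ψ :=
        (Equiv.Perm.viaEmbeddingHom_injective ι).comp toPermHom_injective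
      have hsign : ∀ g, ψ g ∈ alternatingGroup (Fin n) := by
        intro g
        rw [Equiv.Perm.mem_alternatingGroup]
        exact hom_trivial hp (Equiv.Perm.sign.comp ψ) g
      let ψ' : Cfsg.qd p →* alternatingGroup (Fin n) :=
        MonoidHom.codRestrict ψ (alternatingGroup (Fin n)) hsign
      have hψ' : Function.Injective ψ' := by
        intro a b hab
        apply hψ
        exact congrArg Subtype.val hab
      exact ⟨ψ'.range, ⟨(MonoidHom.ofInjective hψ').symm⟩⟩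
  · rintro hlt ⟨K, R, hnorm, ⟨e⟩⟩
    have h1 : PAb p K := PAb_of_injective K.subtype Subtype.coe_injective (hAn n hlt)
    have h2 : PAb p (K ⧸ R.subgroupOf K) :=
      PAb_of_surjective (QuotientGroup.mk' (R.subgroupOf K)) (QuotientGroup.mk'_surjective _) h1
    have h3 : PAb p (Cfsg.qd p) :=
      PAb_of_injective e.symm.toMonoidHom e.symm.injective h2
    exact not_PAb_qd hp h3

end Cfsg.Agent.S3835
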