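import Cfsg.Statements.S3836

set_option autoImplicit false
open Cfsg

namespace Cfsg.Agent.S3836

theorem pCore_normal' (p : ℕ) (G : Type*) [Group G] : (pCore p G).Normal :=
  Subgroup.sSup_normal _ (fun _ h => h.1)

theorem pCore_isPGroup' (p : ℕ) (G : Type*) [Group G] : IsPGroup p ↥(pCore p G) :=
  Sylow.sSup_of_normal _ (fun _ h => h.2) (fun _ h => h.1)

/-- Let G be a finite group that is p-stable in the normalizer form: for every p-subgroup Q and every x ∈ N_G(Q) with [Q, x, x] = 1, the image of x in N_G(Q)/C_G(Q) lies in O_p(N_G(Q)/C_G(Q)). Then every subgroup of G is p-stable in the same sense. -/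
theorem result {G : Type*} [Group G] [Finite G] {p : ℕ} [Fact p.Prime] (hst : Cfsg.IsNormalizerPStable p G) (H : Subgroup G) : Cfsg.IsNormalizerPStable p ↥H := by
  intro P' hP' g' hg' hquad
  set P : Subgroup G := P'.map H.subtype with hPdef
  have hP : IsPGroup p P := hP'.map H.subtype
  have hnorm : ∀ x : ↥H, x ∈ Subgroup.normalizer (P' : Set ↥H) → (x : G) ∈ Subgroup.normalizer (P : Set G) := by
    intro x hx
    have : H.subtype x ∈ (Subgroup.normalizer (P' : Set ↥H)).map H.subtype := ⟨x, hx, rfl⟩
    exact Subgroup.le_normalizer_map H.subtype this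
  have hg : (g' : G) ∈ Subgroup.normalizer (P : Set G) := hnorm g' hg'
  have hquadG : ⁅⁅P, Subgroup.zpowers (g' : G)⁆, Subgroup.zpowers (g' : G)⁆ = ⊥ := by
    have hz : Subgroup.zpowers (g' : G) = (Subgroup.zpowers g').map H.subtype := by
      rw [MonoidHom.map_zpowers]; rfl
    rw [hz, hPdef, ← Subgroup.map_commutator, ← Subgroup.map_commutator, hquad, Subgroup.map_bot]
  have key := hst P hP (g' : G) hg hquadG
  -- the inclusion of normalizers
  let ι : ↥(Subgroup.normalizer (P' : Set ↥H)) →* ↥(Subgroup.normalizer (P : Set G)) :=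
    (H.subtype.comp (Subgroup.normalizer (P' : Set ↥H)).subtype).codRestrict _ (fun x => hnorm x.1 x.2)
  have hι : ∀ x, ((ι x : ↥(Subgroup.normalizer (P : Set G))) : G) = ((x : ↥H) : G) := fun x => rfl
  have hcent : ∀ x : ↥(Subgroup.normalizer (P' : Set ↥H)),
      x ∈ (Subgroup.centralizer (P' : Set ↥H)).subgroupOf (Subgroup.normalizer (P' : Set ↥H)) ↔
      ι x ∈ (Subgroup.centralizer (P : Set G)).subgroupOf (Subgroup.normalizer (P : Set G)) := by
    intro x
    rw [Subgroup.mem_subgroupOf, Subgroup.mem_subgroupOf, Subgroup.mem_centralizer_iff, Subgroup.mem_centralizer_iff]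
    constructor
    · intro h y hy
      obtain ⟨y', hy', rfl⟩ := hy
      have := h y' hy'
      have := congrArg (Subtype.val) this
      rw [hι]
      simpa using this
    · intro h y' hy'
      have := h (y' : G) ⟨y', hy', rfl⟩
      apply Subtype.ext
      rw [hι] at this
      simpa using this
  let φ := QuotientGroup.map
    ((Subgroup.centralizer (P' : Set ↥H)).subgroupOf (Subgroup.normalizer (P' : Set ↥H)))
    ((Subgroup.centralizer (P : Set G)).subgroupOf (Subgroup.normalizer (P : Set G))) ι
    (fun x hx => (hcent x).1 hx)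
  have hφinj : Function.Injective φ := by
    rw [injective_iff_map_eq_one]
    intro q
    induction q using QuotientGroup.induction_on with
    | H x =>
      intro h
      have h1 : φ (x : _ ⧸ _) = ((ι x : ↥(Subgroup.normalizer (P : Set G))) : _ ⧸ _) := rfl
      rw [h1, QuotientGroup.eq_one_iff] at h
      rw [QuotientGroup.eq_one_iff]
      exact (hcent x).2 h
  have hcomapN : ((pCore p (↥(Subgroup.normalizer (P : Set G)) ⧸
          (Subgroup.centralizer (P : Set G)).subgroupOf (Subgroup.normalizer (P : Set G)))).comap φ).Normal :=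
    (pCore_normal' p _).comap φ
  have hcomapP : IsPGroup p ((pCore p (↥(Subgroup.normalizer (P : Set G)) ⧸
          (Subgroup.centralizer (P : Set G)).subgroupOf (Subgroup.normalizer (P : Set G)))).comap φ) :=
    (pCore_isPGroup' p _).comap_of_injective φ hφinj
  have hle : (pCore p (↥(Subgroup.normalizer (P : Set G)) ⧸
          (Subgroup.centralizer (P : Set G)).subgroupOf (Subgroup.normalizer (P : Set G)))).comap φ ≤
      pCore p (↥(Subgroup.normalizer (P' : Set ↥H)) ⧸
          (Subgroup.centralizer (P' : Set ↥H)).subgroupOf (Subgroup.normalizer (P' : Set ↥H))) :=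
    le_sSup ⟨hcomapN, hcomapP⟩
  apply hle
  rw [Subgroup.mem_comap]
  exact key

end Cfsg.Agent.S3836
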