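import Cfsg.Statements.S3838
import Cfsg.Agent.Lib.Helper68.TateSpecial

set_option autoImplicit false
open Cfsg

namespace Cfsg.Agent.S3838

open Cfsg.Agent.Lib.Helper68
open scoped Pointwise commutatorElement

/-- Let G be a finite group with Sylow p-subgroup P such that N_G(P) has a normal p-complement. Then N_G(Q) has a normal p-complement for every subgroup Q with [P, P] ≤ Q ≤ Φ(P). -/
theorem result {G : Type*} [Group G] [Finite G] {p : ℕ} [Fact p.Prime] (P : Sylow p G) (hN : Cfsg.HasNormalPComplement p ↥(Subgroup.normalizer ((P : Subgroup G) : Set G))) (Q : Subgroup G) (h1 : (commutator ↥(P : Subgroup G)).map (P : Subgroup G).subtype ≤ Q) (h2 : Q ≤ (frattini ↥(P : Subgroup G)).map (P : Subgroup G).subtype) : Cfsg.HasNormalPComplement p ↥(Subgroup.normalizer (Q : Set G)) := by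
  classical
  set N := Subgroup.normalizer (Q : Set G) with hNdef
  set M := Subgroup.normalizer ((P : Subgroup G) : Set G) with hMdef
  have hQP : Q ≤ (P : Subgroup G) := h2.trans (Subgroup.map_subtype_le _)
  -- commutators of elements of P lie in Q
  have hcomm : ∀ a ∈ (P : Subgroup G), ∀ b ∈ (P : Subgroup G), a * b * a⁻¹ * b⁻¹ ∈ Q := by
    intro a ha b hb
    apply h1
    refine ⟨⁅(⟨a, ha⟩ : ↥(P : Subgroup G)), ⟨b, hb⟩⁆, ?_, ?_⟩
    · rw [commutator_def]
      exact Subgroup.commutator_mem_commutator (Subgroup.mem_top _) (Subgroup.mem_top _)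
    · simp [commutatorElement_def]
  -- P normalizes Q
  have hPN : (P : Subgroup G) ≤ N := by
    intro u hu
    rw [hNdef, Subgroup.mem_normalizer_iff]
    intro q
    constructor
    · intro hq
      have := Q.mul_mem (hcomm u hu q (hQP hq)) hq
      have e : u * q * u⁻¹ * q⁻¹ * q = u * q * u⁻¹ := by group
      rwa [e] at this
    · intro hq
      have hq' : u * q * u⁻¹ ∈ (P : Subgroup G) := hQP hq
      have hqP : q ∈ (P : Subgroup G) := by
        have e : q = u⁻¹ * (u * q * u⁻¹) * u := by group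
        rw [e]
        exact Subgroup.mul_mem _ (Subgroup.mul_mem _ (Subgroup.inv_mem _ hu) hq') hu
      have := Q.mul_mem (hcomm u⁻¹ (Subgroup.inv_mem _ hu) (u * q * u⁻¹) hq') hq
      have e : u⁻¹ * (u * q * u⁻¹) * u⁻¹⁻¹ * (u * q * u⁻¹)⁻¹ * (u * q * u⁻¹) = q := by group
      rwa [e] at this
  let PX : Sylow p ↥N := P.subtype hPN
  have hPX : (PX : Subgroup ↥N) = (P : Subgroup G).subgroupOf N := rfl
  have hmemPX : ∀ x : ↥N, x ∈ PX ↔ (x : G) ∈ (P : Subgroup G) := fun x => Iff.rfl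
  let QX : Subgroup ↥N := Q.subgroupOf N
  have hQXn : QX.Normal := Subgroup.normal_in_normalizer
  have hQXPX : QX ≤ (PX : Subgroup ↥N) := by
    intro x hx
    exact hQP (Subgroup.mem_subgroupOf.1 hx)
  have hCX : ∀ a ∈ PX, ∀ b ∈ PX, a * b * a⁻¹ * b⁻¹ ∈ QX := by
    intro a ha b hb
    rw [Subgroup.mem_subgroupOf]
    have := hcomm (a : G) ha (b : G) hb
    simpa using this
  have hNGX : ∀ H : Subgroup ↥N, H ≤ PX → (PX : Subgroup ↥N) ≤ QX ⊔ H → (PX : Subgroup ↥N) ≤ H := by
    intro H hHP hle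
    set HG : Subgroup G := H.map N.subtype with hHG
    have hHGP : HG ≤ (P : Subgroup G) := by
      rintro _ ⟨x, hx, rfl⟩
      exact hHP hx
    have hle' : (P : Subgroup G) ≤ Q ⊔ HG := by
      have h3 := Subgroup.map_mono (f := N.subtype) hle
      rw [Subgroup.map_sup, hPX, Subgroup.map_subgroupOf_eq_of_le hPN,
        Subgroup.map_subgroupOf_eq_of_le (hQP.trans hPN)] at h3
      exact h3
    -- now inside P
    have htop : HG.subgroupOf (P : Subgroup G) ⊔ frattini ↥(P : Subgroup G) = ⊤ := by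
      rw [eq_top_iff, ← Subgroup.map_subtype_le_map_subtype, Subgroup.map_sup,
        Subgroup.map_subgroupOf_eq_of_le hHGP, ← MonoidHom.range_eq_map, Subgroup.range_subtype]
      calc (P : Subgroup G) ≤ Q ⊔ HG := hle'
        _ ≤ HG ⊔ (frattini ↥(P : Subgroup G)).map (P : Subgroup G).subtype := by
          rw [sup_comm]; exact sup_le_sup_left h2 _
    have h4 := frattini_nongenerating htop
    rw [Subgroup.subgroupOf_eq_top] at h4
    intro x hx
    obtain ⟨y, hy, hyx⟩ := h4 ((hmemPX x).1 hx)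
    have : y = x := Subtype.ext hyx
    rw [← this]; exact hy
  -- decomposition of N_G(P)
  obtain ⟨P₀, K₀, hK₀n, hK₀⟩ := hN
  let PM : Sylow p ↥M := P.subtype Subgroup.le_normalizer
  have hPMn : (PM : Subgroup ↥M).Normal := by
    show ((P : Subgroup G).subgroupOf M).Normal
    exact Subgroup.normal_in_normalizer
  have hP₀ : P₀ = PM := by
    have := Sylow.unique_of_normal PM hPMn
    exact Subsingleton.elim _ _
  rw [hP₀] at hK₀
  have hcommK : ∀ k ∈ K₀, ∀ u ∈ (PM : Subgroup ↥M), k * u = u * k := by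
    intro k hk u hu
    exact (Subgroup.commute_of_normal_of_disjoint K₀ (PM : Subgroup ↥M) hK₀n hPMn hK₀.disjoint k u hk hu).eq
  have hHX : ∀ x ∈ Subgroup.normalizer ((PX : Subgroup ↥N) : Set ↥N), ∃ u ∈ PX,
      ∃ k ∈ Subgroup.centralizer ((PX : Subgroup ↥N) : Set ↥N), x = u * k := by
    intro x hx
    rw [hPX, ← Subgroup.subgroupOf_normalizer_eq hPN, Subgroup.mem_subgroupOf] at hx
    -- (x : G) ∈ M
    have hxM : (⟨(x : G), hx⟩ : ↥M) ∈ ((PM : Subgroup ↥M) : Set ↥M) * ((K₀ : Subgroup ↥M) : Set ↥M) := by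
      rw [hK₀.symm.mul_eq]; trivial
    obtain ⟨u₀, hu₀, k₀, hk₀, hx₀⟩ := hxM
    have hu₀P : (u₀ : G) ∈ (P : Subgroup G) := hu₀
    have hxeq : (x : G) = (u₀ : G) * (k₀ : G) := by
      have := congrArg Subtype.val hx₀
      simpa using this.symm
    have hk₀N : (k₀ : G) ∈ N := by
      have e : (k₀ : G) = (u₀ : G)⁻¹ * (x : G) := by rw [hxeq]; group
      rw [e]
      exact N.mul_mem (N.inv_mem (hPN hu₀P)) x.2
    refine ⟨⟨(u₀ : G), hPN hu₀P⟩, hu₀P, ⟨(k₀ : G), hk₀N⟩, ?_, ?_⟩
    · rw [Subgroup.mem_centralizer_iff]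
      intro y hy
      have hyP : (y : G) ∈ (P : Subgroup G) := hy
      have hyM : (y : G) ∈ M := Subgroup.le_normalizer hyP
      have := hcommK k₀ hk₀ ⟨(y : G), hyM⟩ hyP
      apply Subtype.ext
      have := congrArg Subtype.val this
      simpa using this.symm
    · apply Subtype.ext
      simpa using hxeq
  obtain ⟨K, hKn, hK⟩ := tate_special PX QX hQXPX hCX hNGX hHX
  exact ⟨PX, K, hKn, hK⟩

end Cfsg.Agent.S3838
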