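import Cfsg.Statements.S3839
-- import your own Cfsg.Agent.* helpers here
import Cfsg.Agent.Lib.Helper03.BadPair
import Cfsg.Agent.Lib.Helper41.Frobenius
import Cfsg.Agent.Lib.Helper41.Alperin
import Cfsg.Agent.Lib.Helper40.OmegaLemma

set_option autoImplicit false
open Cfsg

namespace Cfsg.Agent.S3839

open Cfsg.Agent.Lib.Helper41 Cfsg.Agent.Lib.Helper03

variable {G : Type*} [Group G]

/-- In a subgroup `H` with a normal `p`-complement, `p'`-elements of `H` normalizing a `p`-subgroup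
`R ≤ H` centralize it. -/
theorem commute_of_hasNormalPComplement_subgroup [Finite G] {p : ℕ} [Fact p.Prime]
    {H R : Subgroup G} (hH : Cfsg.HasNormalPComplement p ↥H) (hRH : R ≤ H) (hR : IsPGroup p R)
    {y : G} (hyH : y ∈ H) (hyN : y ∈ Subgroup.normalizer (R : Set G))
    (hyo : (orderOf y).Coprime p) : ∀ r ∈ R, y * r = r * y := by
  have hF := frobCond_of_hasNormalPComplement hH
  have hN : (⟨y, hyH⟩ : H) ∈ Subgroup.normalizer ((R.subgroupOf H : Subgroup H) : Set H) := by
    rw [Subgroup.mem_normalizer_iff]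
    intro h
    rw [Subgroup.mem_subgroupOf, Subgroup.mem_subgroupOf]
    have := Subgroup.mem_normalizer_iff.mp hyN (h : G)
    simpa using this
  have hco : (orderOf (⟨y, hyH⟩ : H)).Coprime p := by
    rw [← Subgroup.orderOf_coe]
    exact hyo
  have hc := hF (R.subgroupOf H) hR.comap_subtype ⟨y, hyH⟩ hN hco
  rw [Subgroup.mem_centralizer_iff] at hc
  intro r hr
  have := hc ⟨r, hRH hr⟩ (by
    show (⟨r, hRH hr⟩ : H) ∈ R.subgroupOf H
    rw [Subgroup.mem_subgroupOf]; exact hr)
  have := congrArg Subtype.val this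
  simpa using this.symm

/-- an element normalizing `A` and `B` normalizes `A ⊔ B`. -/
theorem mem_normalizer_sup [Finite G] {A B : Subgroup G} {n : G}
    (hA : n ∈ Subgroup.normalizer (A : Set G)) (hB : n ∈ Subgroup.normalizer (B : Set G)) :
    n ∈ Subgroup.normalizer ((A ⊔ B : Subgroup G) : Set G) := by
  apply mem_normalizer_of_lc_le
  have h1 : lc n A = A := mem_normalizer_iff_lc.mp hA
  have h2 : lc n B = B := mem_normalizer_iff_lc.mp hB
  have : lc n (A ⊔ B) = lc n A ⊔ lc n B := Subgroup.map_sup _ _ _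
  rw [this, h1, h2]

/-- centralizer of `U` is normalized by the normalizer of `U`. -/
theorem conj_mem_centralizer {U : Subgroup G} {g m : G} (hg : g ∈ Subgroup.normalizer (U : Set G))
    (hm : m ∈ Subgroup.centralizer (U : Set G)) : g * m * g⁻¹ ∈ Subgroup.centralizer (U : Set G) := by
  rw [Subgroup.mem_centralizer_iff] at hm ⊢
  intro u hu
  have hu' : g⁻¹ * u * g ∈ U := by
    have := (Subgroup.mem_normalizer_iff.mp (inv_mem hg) u).mp hu
    simpa using this
  have := hm _ hu'
  calc u * (g * m * g⁻¹) = g * ((g⁻¹ * u * g) * m) * g⁻¹ := by group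
    _ = g * (m * (g⁻¹ * u * g)) * g⁻¹ := by rw [this]
    _ = g * m * g⁻¹ * u := by group

theorem conj_ne_of_ne {g n r : G} (h : n * r ≠ r * n) :
    g * n * g⁻¹ * (g * r * g⁻¹) ≠ g * r * g⁻¹ * (g * n * g⁻¹) := by
  intro heq
  apply h
  have h1 : g * (n * r) * g⁻¹ = g * (r * n) * g⁻¹ := by
    calc g * (n * r) * g⁻¹ = g * n * g⁻¹ * (g * r * g⁻¹) := by group
      _ = g * r * g⁻¹ * (g * n * g⁻¹) := heq
      _ = g * (r * n) * g⁻¹ := by group
  exact mul_left_cancel (mul_right_cancel h1)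

/-- Lemma A: no subgroup of `D` is bad. -/
theorem lemmaA [Finite G] {p : ℕ} [Fact p.Prime] (S : Sylow p G) (D : Subgroup G)
    (hD : Cfsg.IsStronglyClosed D (S : Subgroup G))
    (hloc : ∀ U : Subgroup G, U ≤ D → D ⊓ Subgroup.centralizer (U : Set G) ≤ U →
      Cfsg.HasNormalPComplement p ↥(Subgroup.normalizer (U : Set G))) :
    ∀ U : Subgroup G, U ≤ D → ¬ IsBad p U := by
  have hDp : IsPGroup p D := S.2.to_le hD.1
  intro U
  induction' h : Nat.card D - Nat.card U using Nat.strong_induction_on with k ih generalizing U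
  intro hUD hbad
  obtain ⟨y, hyN, hyo, r₀, hr₀, hne⟩ := hbad
  have hUp : IsPGroup p U := hDp.to_le hUD
  by_cases hc : D ⊓ Subgroup.centralizer (U : Set G) ≤ U
  · exact hne (commute_of_hasNormalPComplement_subgroup (hloc U hUD hc) Subgroup.le_normalizer hUp
      hyN hyN hyo r₀ hr₀)
  · set M := Subgroup.centralizer (U : Set G) with hM
    set Q := D ⊓ M with hQ
    obtain ⟨T, hQT, hTM, hTp, hTs⟩ := exists_sylowIn_ge (p := p) (H := M) (Q := Q)
      (hDp.to_le inf_le_left) inf_le_right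
    have hMN : M ≤ Subgroup.normalizer (U : Set G) := Subgroup.centralizer_le_normalizer _
    have hMnorm : ∀ g ∈ Subgroup.normalizer (U : Set G), ∀ m ∈ M, g * m * g⁻¹ ∈ M :=
      fun g hg m hm => conj_mem_centralizer hg hm
    obtain ⟨n, hnU, hnT, hno, r, hr, hnr⟩ := exists_normalizing_of_sylow hMN hMnorm
      (fun m hm _ => hm) hTM hTp hTs hyN hyo hr₀ hne
    set W := T ⊔ U with hW
    have hWp : IsPGroup p W := IsPGroup.to_sup_of_normal_right' hTp hUp (hTM.trans hMN)
    have hnW : n ∈ Subgroup.normalizer (W : Set G) := mem_normalizer_sup hnT hnU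
    obtain ⟨g, hg⟩ := exists_lc_le_sylow S hWp
    set U₁ := lc g W ⊓ D with hU₁
    have hcl : ∀ x ∈ D, x ∈ W → g * x * g⁻¹ ∈ U₁ := by
      intro x hxD hxW
      have h1 : g * x * g⁻¹ ∈ lc g W := conj_mem_lc hxW
      exact Subgroup.mem_inf.mpr ⟨h1, hD.2 x hxD g (hg h1)⟩
    have hbad₁ : IsBad p U₁ := by
      refine ⟨g * n * g⁻¹, ?_, ?_, g * r * g⁻¹, hcl r (hUD hr) (le_sup_right (a := T) hr),
        conj_ne_of_ne hnr⟩
      · apply mem_normalizer_of_lc_le
        intro x hx
        rw [mem_lc] at hx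
        obtain ⟨hx1, hx2⟩ := Subgroup.mem_inf.mp hx
        have hnW' : g * n * g⁻¹ ∈ Subgroup.normalizer ((lc g W : Subgroup G) : Set G) := by
          rw [normalizer_lc]; exact conj_mem_lc hnW
        have e : x = (g * n * g⁻¹) * ((g * n * g⁻¹)⁻¹ * x * (g * n * g⁻¹)) * (g * n * g⁻¹)⁻¹ := by
          group
        have h1 : x ∈ lc g W := by
          rw [e]
          exact (Subgroup.mem_normalizer_iff.mp hnW' _).mp hx1
        refine Subgroup.mem_inf.mpr ⟨h1, ?_⟩
        rw [e]
        exact hD.2 _ hx2 _ (by rw [← e]; exact hg h1)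
      · rwa [orderOf_conj_eq]
    have hlt : U < U ⊔ Q := left_lt_sup.mpr hc
    have hle : lc g (U ⊔ Q) ≤ U₁ := by
      intro x hx
      rw [mem_lc] at hx
      have := hcl _ (sup_le hUD inf_le_left hx) (sup_le le_sup_right (hQT.trans le_sup_left) hx)
      have e : g * (g⁻¹ * x * g) * g⁻¹ = x := by group
      rwa [e] at this
    have hc1 : Nat.card U < Nat.card U₁ := by
      calc Nat.card U < Nat.card (U ⊔ Q : Subgroup G) := card_lt_card_of_lt' hlt
        _ = Nat.card (lc g (U ⊔ Q)) := (card_lc g _).symm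
        _ ≤ Nat.card U₁ := Subgroup.card_le_of_le hle
    have hc2 : Nat.card U₁ ≤ Nat.card D := Subgroup.card_le_of_le inf_le_right
    exact ih _ (by omega) U₁ rfl inf_le_right hbad₁

/-- elements of `N_G(R)` acting trivially on `R` modulo `D`. -/
def stabMod (R D : Subgroup G) : Subgroup G where
  carrier := {n | n ∈ Subgroup.normalizer (R : Set G) ∧ ∀ r ∈ R, r⁻¹ * (n * r * n⁻¹) ∈ D}
  one_mem' := ⟨one_mem _, fun r _ => by simp [one_mem]⟩
  mul_mem' := by
    rintro a b ⟨haN, ha⟩ ⟨hbN, hb⟩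
    refine ⟨mul_mem haN hbN, fun r hr => ?_⟩
    have hr' : b * r * b⁻¹ ∈ R := (Subgroup.mem_normalizer_iff.mp hbN r).mp hr
    have e : r⁻¹ * (a * b * r * (a * b)⁻¹) =
        (r⁻¹ * (b * r * b⁻¹)) * ((b * r * b⁻¹)⁻¹ * (a * (b * r * b⁻¹) * a⁻¹)) := by group
    rw [e]
    exact mul_mem (hb r hr) (ha _ hr')
  inv_mem' := by
    rintro a ⟨haN, ha⟩
    refine ⟨inv_mem haN, fun r hr => ?_⟩
    have hr' : a⁻¹ * r * a ∈ R := by
      have := (Subgroup.mem_normalizer_iff.mp (inv_mem haN) r).mp hr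
      simpa using this
    have e : r⁻¹ * (a⁻¹ * r * a⁻¹⁻¹) = ((a⁻¹ * r * a)⁻¹ * (a * (a⁻¹ * r * a) * a⁻¹))⁻¹ := by group
    rw [e]
    exact inv_mem (ha _ hr')

theorem mem_stabMod {R D : Subgroup G} {n : G} : n ∈ stabMod R D ↔
    n ∈ Subgroup.normalizer (R : Set G) ∧ ∀ r ∈ R, r⁻¹ * (n * r * n⁻¹) ∈ D := Iff.rfl

/-- Main step: no subgroup of `S` is bad. -/
theorem not_isBad_of_le_sylow [Finite G] {p : ℕ} [Fact p.Prime] (S : Sylow p G) (D : Subgroup G)
    (hD : Cfsg.IsStronglyClosed D (S : Subgroup G))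
    (hloc : ∀ U : Subgroup G, U ≤ D → D ⊓ Subgroup.centralizer (U : Set G) ≤ U →
      Cfsg.HasNormalPComplement p ↥(Subgroup.normalizer (U : Set G))) :
    ∀ R : Subgroup G, R ≤ S → ¬ IsBad p R := by
  have hDp : IsPGroup p D := S.2.to_le hD.1
  have hA := lemmaA S D hD hloc
  have hSD : (S : Subgroup G) ≤ Subgroup.normalizer (D : Set G) := by
    intro s hs
    apply mem_normalizer_of_lc_le
    intro x hx
    rw [mem_lc] at hx
    have e : x = s * (s⁻¹ * x * s) * s⁻¹ := by group
    rw [e]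
    exact hD.2 _ hx s (mul_mem (mul_mem hs (hD.1 hx)) (inv_mem hs))
  intro R
  induction' h : Nat.card S - Nat.card R using Nat.strong_induction_on with k ih generalizing R
  intro hRS hbad
  obtain ⟨y, hyN, hyo, r₀, hr₀, hne⟩ := hbad
  have hRp : IsPGroup p R := S.2.to_le hRS
  have hnDR : ∀ n ∈ Subgroup.normalizer (R : Set G), ∀ x ∈ D, x ∈ R → n * x * n⁻¹ ∈ D := by
    intro n hn x hxD hxR
    exact hD.2 x hxD n (hRS ((Subgroup.mem_normalizer_iff.mp hn x).mp hxR))
  by_cases hDR : D ≤ R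
  · have hyD : y ∈ Subgroup.normalizer (D : Set G) := by
      apply mem_normalizer_of_lc_le
      intro x hx
      rw [mem_lc] at hx
      have e : x = y * (y⁻¹ * x * y) * y⁻¹ := by group
      rw [e]
      exact hnDR y hyN _ hx (hDR hx)
    have hND := hloc D le_rfl inf_le_left
    exact hne (commute_of_hasNormalPComplement_subgroup hND (hRS.trans hSD) hRp hyD hyN hyo r₀ hr₀)
  · set M₀ := stabMod R D with hM₀
    have hMN : M₀ ≤ Subgroup.normalizer (R : Set G) := fun n hn => hn.1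
    have hMnorm : ∀ g ∈ Subgroup.normalizer (R : Set G), ∀ m ∈ M₀, g * m * g⁻¹ ∈ M₀ := by
      intro g hg m hm
      refine ⟨mul_mem (mul_mem hg hm.1) (inv_mem hg), fun r hr => ?_⟩
      have hr' : g⁻¹ * r * g ∈ R := by
        have := (Subgroup.mem_normalizer_iff.mp (inv_mem hg) r).mp hr
        simpa using this
      have hdD := hm.2 _ hr'
      have hdR : (g⁻¹ * r * g)⁻¹ * (m * (g⁻¹ * r * g) * m⁻¹) ∈ R :=
        mul_mem (inv_mem hr') ((Subgroup.mem_normalizer_iff.mp hm.1 _).mp hr')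
      have e : r⁻¹ * (g * m * g⁻¹ * r * (g * m * g⁻¹)⁻¹) =
          g * ((g⁻¹ * r * g)⁻¹ * (m * (g⁻¹ * r * g) * m⁻¹)) * g⁻¹ := by group
      rw [e]
      exact hnDR g hg _ hdD hdR
    have hM : ∀ m ∈ M₀, (orderOf m).Coprime p → m ∈ Subgroup.centralizer (R : Set G) := by
      intro m hm hmo
      have hmV : m ∈ Subgroup.normalizer ((R ⊓ D : Subgroup G) : Set G) := by
        apply mem_normalizer_of_lc_le
        intro x hx
        rw [mem_lc] at hx
        obtain ⟨hx1, hx2⟩ := Subgroup.mem_inf.mp hx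
        have e : x = m * (m⁻¹ * x * m) * m⁻¹ := by group
        rw [e]
        exact Subgroup.mem_inf.mpr ⟨(Subgroup.mem_normalizer_iff.mp hm.1 _).mp hx1,
          hnDR m hm.1 _ hx2 hx1⟩
      have hcV : ∀ v ∈ R ⊓ D, m * v = v * m := by
        by_contra hcon
        push Not at hcon
        obtain ⟨v, hv, hvne⟩ := hcon
        exact hA (R ⊓ D) inf_le_right ⟨m, hmV, hmo, v, hv, hvne⟩
      rw [Subgroup.mem_centralizer_iff]
      intro r hr
      have hzD := hm.2 r hr
      have hzR : r⁻¹ * (m * r * m⁻¹) ∈ R :=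
        mul_mem (inv_mem hr) ((Subgroup.mem_normalizer_iff.mp hm.1 _).mp hr)
      have hzc := hcV _ (Subgroup.mem_inf.mpr ⟨hzR, hzD⟩)
      have hzo : (orderOf (r⁻¹ * (m * r * m⁻¹))).Coprime (orderOf m) := by
        obtain ⟨j, hj⟩ := hDp ⟨_, hzD⟩
        have hj' : (r⁻¹ * (m * r * m⁻¹)) ^ p ^ j = 1 := by
          have := congrArg Subtype.val hj
          simpa using this
        have : orderOf (r⁻¹ * (m * r * m⁻¹)) ∣ p ^ j := orderOf_dvd_of_pow_eq_one hj'
        exact Nat.Coprime.coprime_dvd_left this (Nat.Coprime.pow_left j hmo.symm)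
      have hz1 := Cfsg.Agent.Lib.Helper40.eq_one_of_conj_pow m r (r⁻¹ * (m * r * m⁻¹)) (orderOf m)
        (pow_orderOf_eq_one m) (by group) hzc hzo
      have : m * r * m⁻¹ = r := by
        calc m * r * m⁻¹ = r * (r⁻¹ * (m * r * m⁻¹)) := by group
          _ = r := by rw [hz1, mul_one]
      calc r * m = (m * r * m⁻¹) * m := by rw [this]
        _ = m * r := by group
    have hNDM : D ⊓ Subgroup.normalizer (R : Set G) ≤ M₀ := by
      intro n hn
      obtain ⟨hnD, hnN⟩ := Subgroup.mem_inf.mp hn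
      refine ⟨hnN, fun r hr => ?_⟩
      have e : r⁻¹ * (n * r * n⁻¹) = (r⁻¹ * n * r⁻¹⁻¹) * n⁻¹ := by group
      rw [e]
      refine mul_mem (hD.2 n hnD r⁻¹ ?_) (inv_mem hnD)
      exact mul_mem (mul_mem (inv_mem (hRS hr)) (hD.1 hnD)) (inv_mem (inv_mem (hRS hr)))
    obtain ⟨T, hQT, hTM, hTp, hTs⟩ := exists_sylowIn_ge (p := p) (H := M₀)
      (Q := D ⊓ Subgroup.normalizer (R : Set G)) (hDp.to_le inf_le_left) hNDM
    obtain ⟨n, hnR, hnT, hno, r, hr, hnr⟩ := exists_normalizing_of_sylow hMN hMnorm hM hTM hTp hTs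
      hyN hyo hr₀ hne
    set W := T ⊔ R with hW
    have hWp : IsPGroup p W := IsPGroup.to_sup_of_normal_right' hTp hRp (hTM.trans hMN)
    have hnW : n ∈ Subgroup.normalizer (W : Set G) := mem_normalizer_sup hnT hnR
    have hRW : R < W := by
      have hKp : IsPGroup p (R ⊔ D : Subgroup G) :=
        IsPGroup.to_sup_of_normal_right' hRp hDp (hRS.trans hSD)
      have hRK : R ≠ R ⊔ D := by
        intro heq
        apply hDR
        rw [heq]
        exact le_sup_right
      have hlt := lt_inf_normalizer_of_ne hKp le_sup_left hRK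
      obtain ⟨x, hx1, hx2⟩ := SetLike.exists_of_lt hlt
      obtain ⟨hxK, hxN⟩ := Subgroup.mem_inf.mp hx1
      have hxK' : x ∈ ((R ⊔ D : Subgroup G) : Set G) := hxK
      rw [Subgroup.coe_mul_of_left_le_normalizer_right R D (hRS.trans hSD)] at hxK'
      obtain ⟨a, ha, d, hd, rfl⟩ := Set.mem_mul.mp hxK'
      have hdN : d ∈ Subgroup.normalizer (R : Set G) := by
        have : d = a⁻¹ * (a * d) := by group
        rw [this]
        exact mul_mem (inv_mem (Subgroup.le_normalizer ha)) hxN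
      have hdR : d ∉ R := fun hdR => hx2 (mul_mem ha hdR)
      have hdW : d ∈ W := le_sup_left (a := T) (hQT (Subgroup.mem_inf.mpr ⟨hd, hdN⟩))
      refine lt_of_le_of_ne le_sup_right ?_
      intro heq
      apply hdR
      rw [heq]
      exact hdW
    obtain ⟨g, hg⟩ := exists_lc_le_sylow S hWp
    have hbadW : IsBad p W := ⟨n, hnW, hno, r, le_sup_right (a := T) hr, hnr⟩
    have hc1 : Nat.card R < Nat.card (lc g W) := by
      rw [card_lc]
      exact card_lt_card_of_lt' hRW
    have hc2 : Nat.card (lc g W) ≤ Nat.card S := Subgroup.card_le_of_le hg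
    exact ih _ (by omega) (lc g W) rfl hg (hbadW.lc g)

/-- A Frobenius normal p-complement criterion relative to a strongly closed subgroup. Let G be a finite group, S a Sylow p-subgroup and D a subgroup of S strongly closed in S with respect to G. Then G has a normal p-complement if and only if N_G(U) has a normal p-complement for every subgroup U of D with C_D(U) ≤ U. -/
theorem result {G : Type*} [Group G] [Finite G] {p : ℕ} [Fact p.Prime] (S : Sylow p G) (D : Subgroup G) (hD : Cfsg.IsStronglyClosed D (S : Subgroup G)) : Cfsg.HasNormalPComplement p G ↔ ∀ U : Subgroup G, U ≤ D → D ⊓ Subgroup.centralizer (U : Set G) ≤ U → Cfsg.HasNormalPComplement p ↥(Subgroup.normalizer (U : Set G)) := by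
  constructor
  · intro h U _ _
    exact hasNormalPComplement_subgroup h _
  · intro hloc
    apply hasNormalPComplement_of_frobCond
    intro Q hQ g hgN hcop
    by_contra hgc
    rw [Subgroup.mem_centralizer_iff] at hgc
    push Not at hgc
    obtain ⟨q, hq, hqne⟩ := hgc
    obtain ⟨x, hx⟩ := exists_lc_le_sylow S hQ
    have hbad : IsBad p Q := ⟨g, hgN, hcop, q, hq, fun h => hqne h.symm⟩
    exact not_isBad_of_le_sylow S D hD hloc _ hx (hbad.lc x)

end Cfsg.Agent.S3839
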