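import Mathlib
import Cfsg.Statements.S3857
import Cfsg.Agent.Lib.Helper65.FrobCrit
import Cfsg.Agent.Lib.Helper65.PrimeNormal
import Cfsg.Agent.Lib.Helper65.IndexPi

set_option autoImplicit false
open Cfsg

namespace Cfsg.Agent.S3857

open Cfsg.Agent.Lib.Helper65

theorem isPiSub_of_isPGroup {G : Type*} [Group G] [Finite G] {P : ℕ → Prop} {p : ℕ}
    (hp : p.Prime) (hP : P p) (N : Subgroup G) (hN : IsPGroup p N) : IsPiSub P N := by
  intro r hr hd
  have : Fact p.Prime := ⟨hp⟩
  obtain ⟨k, hk⟩ := hN.exists_card_eq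
  rw [hk] at hd
  rw [(Nat.prime_dvd_prime_iff_eq hr hp).1 (hr.dvd_of_dvd_pow hd)]
  exact hP

theorem main {G : Type*} [Group G] [Finite G] [Group.IsSolvable G] (A : Set ℕ) (hNE : NE A G)
    (hb : ∃ b ∉ A, b.Prime ∧ b ∣ Nat.card G)
    (V : Subgroup G) [V.Normal] (hVc : ∀ a ∈ V, ∀ b ∈ V, a * b = b * a) (hV : V ≠ ⊥)
    (hVA : IsPiSub (· ∈ A) V) :
    (∃ C : Subgroup G, Cfsg.IsFrobeniusComplement C) ∨
    (∃ (H K : Subgroup G) (_ : H.Normal), K.Normal ∧ H < K ∧
      (∃ C : Subgroup ↥K, Cfsg.IsFrobeniusComplement C ∧ Cfsg.frobeniusKernel C = (H.subgroupOf K : Set ↥K)) ∧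
      (∃ C : Subgroup (G ⧸ H), Cfsg.IsFrobeniusComplement C ∧ Cfsg.frobeniusKernel C = (K.map (QuotientGroup.mk' H) : Set (G ⧸ H)))) := by
  obtain ⟨H, hHn, hHA, hHmax⟩ := exists_largest_normal_pi G (· ∈ A)
  have hVH : V ≤ H := hHmax V inferInstance hVA
  have hHbot : H ≠ ⊥ := by
    intro h
    apply hV
    rw [eq_bot_iff, ← h]
    exact hVH
  obtain ⟨b, hbA, hbp, hbd⟩ := hb
  have hHtop : H ≠ ⊤ := by
    intro h
    apply hbA
    apply hHA b hbp
    rw [h, Subgroup.card_top]
    exact hbd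
  obtain ⟨Kb, hKn, hKA, hKmax⟩ := exists_largest_normal_pi (G ⧸ H) (· ∉ A)
  have hQnt : Nontrivial (G ⧸ H) := by
    rw [← Finite.one_lt_card_iff_nontrivial, ← Subgroup.index_eq_card]
    have h1 : H.index ≠ 1 := fun h => hHtop (Subgroup.index_eq_one.1 h)
    have h2 : H.index ≠ 0 := Subgroup.index_ne_zero_of_finite
    omega
  obtain ⟨p, N, hp, hNn, hNbot, hNp, hNc⟩ := exists_normal_abelian_pgroup (G ⧸ H)
  have hpA : p ∉ A := by
    intro hpA
    apply hNbot
    exact eq_bot_of_normal_pi_quotient (· ∈ A) H hHA hHmax N hNn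
      (isPiSub_of_isPGroup hp hpA N hNp)
  have hNK : N ≤ Kb := hKmax N hNn (isPiSub_of_isPGroup hp hpA N hNp)
  have hKbot : Kb ≠ ⊥ := by
    intro h
    apply hNbot
    rw [eq_bot_iff, ← h]
    exact hNK
  obtain ⟨E, hEn, hEcard⟩ :=
    exists_normal_prime_card A hNE H hHA V hVc hV hVA p hp hpA N hNc hNp hNbot
  have hidx : ∀ r : ℕ, r.Prime → r ∣ Kb.index → r ∈ A :=
    index_pi_of_normal_prime A (hNE.quotient H) Kb hKA hKmax E p hp hpA hEcard
  by_cases hKtop : Kb = ⊤
  · left
    have hI : ∀ r : ℕ, r.Prime → r ∣ H.index → r ∉ A := by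
      intro r hr hd
      apply hKA r hr
      rw [hKtop, Subgroup.card_top, ← Subgroup.index_eq_card]
      exact hd
    obtain ⟨T, hT, _⟩ := frobenius_of_normal_fpf H hHbot hHtop (coprime_card_index H hHA hI)
      (hNE.centralizer_le H hHA hI)
    exact ⟨T, hT⟩
  · right
    set K : Subgroup G := Kb.comap (QuotientGroup.mk' H) with hKdef
    have hKnormal : K.Normal := Subgroup.Normal.comap hKn _
    have hHK : H ≤ K := by
      intro h hh
      show QuotientGroup.mk' H h ∈ Kb
      have h1 : QuotientGroup.mk' H h = 1 := (QuotientGroup.eq_one_iff h).2 hh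
      rw [h1]
      exact Kb.one_mem
    have hmap : K.map (QuotientGroup.mk' H) = Kb :=
      Subgroup.map_comap_eq_self_of_surjective (QuotientGroup.mk'_surjective H) Kb
    have hne : H ≠ K := by
      intro h
      apply hKbot
      rw [← hmap, ← h, QuotientGroup.map_mk'_self]
    have hcardK : Nat.card K = Nat.card H * Nat.card Kb := card_comap_mk'_eq H Kb
    refine ⟨H, K, hHn, hKnormal, lt_of_le_of_ne hHK hne, ?_, ?_⟩
    · -- K is Frobenius with kernel H
      have h1 : H.subgroupOf K ≠ ⊥ := by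
        intro h
        apply hHbot
        rw [eq_bot_iff]
        intro x hx
        have h2 : (⟨x, hHK hx⟩ : ↥K) ∈ H.subgroupOf K := Subgroup.mem_subgroupOf.2 hx
        rw [h, Subgroup.mem_bot] at h2
        rw [Subgroup.mem_bot]
        exact congrArg Subtype.val h2
      have h2 : H.subgroupOf K ≠ ⊤ := by
        intro h
        rw [Subgroup.subgroupOf_eq_top] at h
        exact hne (le_antisymm hHK h)
      have hcardH' : Nat.card (H.subgroupOf K) = Nat.card H :=
        Nat.card_congr (Subgroup.subgroupOfEquivOfLe hHK).toEquiv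
      have h3 : IsPiSub (· ∈ A) (H.subgroupOf K) := by
        intro r hr hd
        rw [hcardH'] at hd
        exact hHA r hr hd
      have h4 : ∀ r : ℕ, r.Prime → r ∣ (H.subgroupOf K).index → r ∉ A := by
        intro r hr hd
        apply hKA r hr
        have h5 := (H.subgroupOf K).index_mul_card
        rw [hcardH', hcardK, mul_comm] at h5
        have h6 : (H.subgroupOf K).index = Nat.card Kb :=
          Nat.eq_of_mul_eq_mul_left Nat.card_pos h5
        rw [← h6]
        exact hd
      have hNEK : NE A ↥K := hNE.subgroup K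
      exact frobenius_of_normal_fpf (H.subgroupOf K) h1 h2 (coprime_card_index _ h3 h4)
        (hNEK.centralizer_le _ h3 h4)
    · -- G/H is Frobenius with kernel K/H
      rw [hmap]
      have hNEQ : NE Aᶜ (G ⧸ H) := (hNE.quotient H).compl
      have h3 : IsPiSub (· ∈ Aᶜ) Kb := fun r hr hd => hKA r hr hd
      have h4 : ∀ r : ℕ, r.Prime → r ∣ Kb.index → r ∉ Aᶜ :=
        fun r hr hd h => h (hidx r hr hd)
      exact frobenius_of_normal_fpf Kb hKbot hKtop (coprime_card_index _ h3 h4)
        (hNEQ.centralizer_le _ h3 h4)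

/-- A finite solvable group with disconnected prime graph is a Frobenius group or a 2-Frobenius group. The prime graph has the prime divisors of the order as vertices, p and q joined when the group has an element of order pq; it is disconnected when the vertices split into two nonempty parts A and its complement with no edge between them. The group is Frobenius when it has a Frobenius complement, and 2-Frobenius when it has normal subgroups H < K such that K is a Frobenius group with kernel H and G/H is a Frobenius group with kernel K/H. -/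
theorem result {G : Type*} [Group G] [Finite G] (hsol : Group.IsSolvable G)
    (hdisc : (∃ A : Set ℕ, (∃ a ∈ A, a.Prime ∧ a ∣ Nat.card G) ∧ (∃ b ∉ A, b.Prime ∧ b ∣ Nat.card G) ∧
      ∀ a ∈ A, ∀ b ∉ A, a.Prime → b.Prime → a ∣ Nat.card G → b ∣ Nat.card G → ¬ ∃ g : G, orderOf g = a * b)) :
    (∃ C : Subgroup G, Cfsg.IsFrobeniusComplement C) ∨
    (∃ (H K : Subgroup G) (_ : H.Normal), K.Normal ∧ H < K ∧
      (∃ C : Subgroup ↥K, Cfsg.IsFrobeniusComplement C ∧ Cfsg.frobeniusKernel C = (H.subgroupOf K : Set ↥K)) ∧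
      (∃ C : Subgroup (G ⧸ H), Cfsg.IsFrobeniusComplement C ∧ Cfsg.frobeniusKernel C = (K.map (QuotientGroup.mk' H) : Set (G ⧸ H)))) := by
  obtain ⟨A, ⟨a, haA, hap, had⟩, ⟨b, hbA, hbp, hbd⟩, hne⟩ := hdisc
  have hNE : NE A G := by
    intro a' b' ha' hb' haA' hbA' hex
    obtain ⟨g, hg⟩ := hex
    have h1 : a' ∣ Nat.card G := (Dvd.intro _ hg.symm).trans (orderOf_dvd_natCard g)
    have h2 : b' ∣ Nat.card G := (Dvd.intro_left _ hg.symm).trans (orderOf_dvd_natCard g)
    exact hne a' haA' b' hbA' ha' hb' h1 h2 ⟨g, hg⟩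
  have hnt : Nontrivial G := by
    rw [← Finite.one_lt_card_iff_nontrivial]
    have h1 : a ≤ Nat.card G := Nat.le_of_dvd Nat.card_pos had
    have h2 := hap.two_le
    omega
  obtain ⟨q, V, hq, hVn, hVbot, hVq, hVc⟩ := exists_normal_abelian_pgroup G
  by_cases hqA : q ∈ A
  · exact main A hNE ⟨b, hbA, hbp, hbd⟩ V hVc hVbot (isPiSub_of_isPGroup hq hqA V hVq)
  · exact main Aᶜ hNE.compl ⟨a, fun h => h haA, hap, had⟩ V hVc hVbot
      (isPiSub_of_isPGroup hq hqA V hVq)

end Cfsg.Agent.S3857
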