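import Mathlib
import Cfsg.Statements.S3858
import Cfsg.Agent.Lib.Helper69.AlmostSimple

set_option autoImplicit false
open Cfsg

namespace Cfsg.Agent.S3858

open scoped Pointwise
open Cfsg.Agent.Lib.Helper69

theorem eq_conj_of_unique {G : Type*} [Group G] [Finite G] {r : ℕ} [Fact r.Prime] (R : Sylow r G)
    (M : Subgroup G) (hMuniq : ∀ M' : Subgroup G, IsCoatom M' ∧ (R : Subgroup G) ≤ M' → M' = M)
    (M₁ : Subgroup G) (h1 : IsCoatom M₁) (h1' : ¬ r ∣ M₁.index) :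
    ∃ g : G, M₁ = MulAut.conj g • M := by
  obtain ⟨g, hg⟩ := exists_conj_le_of_not_dvd_index R M₁ h1'
  refine ⟨g, ?_⟩
  have hco : IsCoatom ((MulAut.conj g)⁻¹ • M₁) := by
    rw [← map_inv]; exact isCoatom_conj_smul g⁻¹ M₁ h1
  have hle : (R : Subgroup G) ≤ (MulAut.conj g)⁻¹ • M₁ := by
    rwa [← Subgroup.pointwise_smul_subset_iff]
  rw [← hMuniq _ ⟨hco, hle⟩, smul_inv_smul]

theorem result {G : Type*} [Group G] [Finite G] (T : Subgroup G) [T.Normal] (hT : IsSimpleGroup T) (hna : ¬ IsMulCommutative T)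
    (hC : Subgroup.centralizer (T : Set G) = ⊥) {r : ℕ} [Fact r.Prime] (R : Sylow r G) (hR0 : (R : Subgroup G) ⊓ T ≠ ⊥) :
    (∃! M : Subgroup G, IsCoatom M ∧ (R : Subgroup G) ≤ M) ↔
      ((∃ M : Subgroup G, IsCoatom M ∧ ¬ r ∣ M.index) ∧
        ∀ M₁ M₂ : Subgroup G, IsCoatom M₁ → ¬ r ∣ M₁.index → IsCoatom M₂ → ¬ r ∣ M₂.index → ∃ g : G, M₂ = M₁.map (MulAut.conj g).toMonoidHom) := by
  constructor
  · rintro ⟨M, ⟨hMco, hRM⟩, hMuniq⟩
    refine ⟨⟨M, hMco, fun h => R.not_dvd_index (h.trans (Subgroup.index_dvd_of_le hRM))⟩, ?_⟩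
    intro M₁ M₂ h1 h1' h2 h2'
    obtain ⟨g₁, hg₁⟩ := eq_conj_of_unique R M hMuniq M₁ h1 h1'
    obtain ⟨g₂, hg₂⟩ := eq_conj_of_unique R M hMuniq M₂ h2 h2'
    refine ⟨g₂ * g₁⁻¹, ?_⟩
    rw [map_conj_eq_smul, hg₁, hg₂, map_mul, mul_smul, map_inv, inv_smul_smul]
  · rintro ⟨-, hclass⟩
    have hDp : IsPGroup r ↥((R : Subgroup G) ⊓ T) := R.isPGroup'.to_le inf_le_left
    have hDnn := sylow_not_normal_of_inf_simple T hT hna _ hDp inf_le_right hR0
    have hRnn : ¬ (R : Subgroup G).Normal := by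
      intro h
      exact hDnn (Subgroup.normal_inf_normal _ _)
    have hNtop : Subgroup.normalizer ((R : Subgroup G) : Set G) ≠ ⊤ := by
      rw [Ne, Subgroup.normalizer_eq_top_iff]; exact hRnn
    obtain ⟨M₀, hM₀co, hNM₀⟩ := exists_coatom_ge _ hNtop
    have hRM₀ : (R : Subgroup G) ≤ M₀ := le_trans Subgroup.le_normalizer hNM₀
    have hidx : ∀ M : Subgroup G, (R : Subgroup G) ≤ M → ¬ r ∣ M.index :=
      fun M hRM h => R.not_dvd_index (h.trans (Subgroup.index_dvd_of_le hRM))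
    refine ⟨M₀, ⟨hM₀co, hRM₀⟩, ?_⟩
    rintro M ⟨hMco, hRM⟩
    obtain ⟨g, hg⟩ := hclass M₀ M hM₀co (hidx M₀ hRM₀) hMco (hidx M hRM)
    rw [map_conj_eq_smul] at hg
    have hle : ((g⁻¹ • R : Sylow r G) : Subgroup G) ≤ M₀ := by
      rw [sylow_coe_smul, map_inv, ← Subgroup.subset_pointwise_smul_iff, ← hg]
      exact hRM
    obtain ⟨m, hm⟩ := MulAction.exists_smul_eq (↥M₀) (R.subtype hRM₀) ((g⁻¹ • R).subtype hle)
    rw [Sylow.smul_subtype] at hm
    have hm' := Sylow.subtype_injective hm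
    have hm2 : ((g * (m : G)) • R : Sylow r G) = R := by
      have : ((m : G) • R : Sylow r G) = g⁻¹ • R := hm'
      rw [mul_smul, this, smul_inv_smul]
    rw [Sylow.smul_eq_iff_mem_normalizer] at hm2
    have hgm : g * (m : G) ∈ M₀ := hNM₀ hm2
    have hgM₀ : g ∈ M₀ := by
      have : g = g * (m : G) * (m : G)⁻¹ := by group
      rw [this]
      exact M₀.mul_mem hgm (M₀.inv_mem m.2)
    rw [hg, Subgroup.conj_smul_eq_self_of_mem hgM₀]

end Cfsg.Agent.S3858
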