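import Mathlib
import Cfsg.Statements.S3859
import Cfsg.Agent.Lib.Helper69.AlmostSimple

set_option autoImplicit false
open Cfsg

namespace Cfsg.Agent.S3859

open scoped Pointwise
open Cfsg.Agent.Lib.Helper69

theorem main {G : Type*} [Group G] [Finite G] (T : Subgroup G) [hTn : T.Normal] (hT : IsSimpleGroup T)
    (hna : ¬ IsMulCommutative T) {r : ℕ} [Fact r.Prime] (R : Sylow r G) (Q : Sylow r T)
    (hQ : (R : Subgroup G).comap T.subtype = (Q : Subgroup T))
    (hR0 : (R : Subgroup G) ⊓ T ≠ ⊥)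
    (huniq : ∃! M : Subgroup G, IsCoatom M ∧ (R : Subgroup G) ≤ M) : (R : Subgroup G) ⊔ T = ⊤ := by
  by_contra hne
  obtain ⟨M, ⟨hMco, hRM⟩, hMuniq⟩ := huniq
  have hle := le_of_unique_coatom (R : Subgroup G) M hMuniq
  have hTM : T ≤ M := le_trans le_sup_right (hle _ hne le_sup_left)
  set D := (R : Subgroup G) ⊓ T with hD
  have hDp : IsPGroup r D := R.isPGroup'.to_le inf_le_left
  have hDnn : ¬ D.Normal := sylow_not_normal_of_inf_simple T hT hna D hDp inf_le_right hR0
  have hDnorm : Subgroup.normalizer (D : Set G) ≠ ⊤ := by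
    rw [Ne, Subgroup.normalizer_eq_top_iff]; exact hDnn
  have hRN : (R : Subgroup G) ≤ Subgroup.normalizer (D : Set G) := by
    intro x hx
    rw [Subgroup.mem_normalizer_iff]
    intro h
    rw [hD, Subgroup.mem_inf, Subgroup.mem_inf]
    constructor
    · rintro ⟨h1, h2⟩
      exact ⟨(R : Subgroup G).mul_mem ((R : Subgroup G).mul_mem hx h1) ((R : Subgroup G).inv_mem hx),
        hTn.conj_mem h h2 x⟩
    · rintro ⟨h1, h2⟩
      have e : h = x⁻¹ * (x * h * x⁻¹) * x := by group
      rw [e]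
      refine ⟨(R : Subgroup G).mul_mem ((R : Subgroup G).mul_mem ((R : Subgroup G).inv_mem hx) h1) hx, ?_⟩
      have := hTn.conj_mem _ h2 x⁻¹
      simpa using this
  have hNM : Subgroup.normalizer (D : Set G) ≤ M := hle _ hDnorm hRN
  have hfr := Sylow.normalizer_sup_eq_top Q
  have hmap : (Q : Subgroup T).map T.subtype = D := by
    rw [← hQ, hD]
    exact Subgroup.subgroupOf_map_subtype _ _
  rw [hmap] at hfr
  have : (⊤ : Subgroup G) ≤ M := by
    rw [← hfr]; exact sup_le hNM hTM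
  exact hMco.1 (top_le_iff.mp this)

theorem result {G : Type*} [Group G] [Finite G] (T : Subgroup G) [T.Normal] (hT : IsSimpleGroup T) (hna : ¬ IsMulCommutative T)
    (hC : Subgroup.centralizer (T : Set G) = ⊥) {r : ℕ} [Fact r.Prime] (R : Sylow r G) (hR0 : (R : Subgroup G) ⊓ T ≠ ⊥)
    (huniq : ∃! M : Subgroup G, IsCoatom M ∧ (R : Subgroup G) ≤ M) : IsPGroup r (G ⧸ T) := by
  obtain ⟨R', hR'⟩ := Sylow.exists_comap_subtype_eq (default : Sylow r T)
  obtain ⟨g, hg⟩ := MulAction.exists_smul_eq G R R'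
  have hcoe : (R' : Subgroup G) = MulAut.conj g • (R : Subgroup G) := by
    rw [← hg]; rfl
  have hR0' : (R' : Subgroup G) ⊓ T ≠ ⊥ := by
    rw [hcoe, inf_normal_conj, Ne, conj_smul_eq_bot_iff]; exact hR0
  have huniq' : ∃! M : Subgroup G, IsCoatom M ∧ (R' : Subgroup G) ≤ M := by
    rw [hcoe]; exact unique_coatom_conj _ g huniq
  have htop := main T hT hna R' default hR' hR0' huniq'
  let φ : ↥(R' : Subgroup G) →* G ⧸ T := (QuotientGroup.mk' T).comp (R' : Subgroup G).subtype
  have hsurj : Function.Surjective φ := by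
    intro q
    induction q using QuotientGroup.induction_on with
    | H a =>
      have ha : a ∈ (R' : Subgroup G) ⊔ T := by rw [htop]; exact Subgroup.mem_top a
      rw [Subgroup.mem_sup_of_normal_right] at ha
      obtain ⟨y, hy, z, hz, rfl⟩ := ha
      refine ⟨⟨y, hy⟩, ?_⟩
      show ((y : G) : G ⧸ T) = ((y * z : G) : G ⧸ T)
      rw [QuotientGroup.eq]
      simpa using hz
  exact R'.isPGroup'.of_surjective φ hsurj

end Cfsg.Agent.S3859
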