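import Mathlib
import Cfsg.Statements.S3863

set_option autoImplicit false
open Cfsg

namespace Cfsg.Agent.S3863

/-- If `g` inverts `x`, then odd powers of `g` invert `x`. -/
theorem pow_inverts {G : Type*} [Group G] (x g : G) (h : g * x * g⁻¹ = x⁻¹) (m : ℕ) (hm : Odd m) :
    g ^ m * x * (g ^ m)⁻¹ = x⁻¹ := by
  have h2 : g ^ 2 * x * (g ^ 2)⁻¹ = x := by
    have : g ^ 2 * x * (g ^ 2)⁻¹ = g * (g * x * g⁻¹) * g⁻¹ := by
      rw [pow_two]; group
    rw [this, h]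
    have : g * x⁻¹ * g⁻¹ = (g * x * g⁻¹)⁻¹ := by group
    rw [this, h, inv_inv]
  have h2k : ∀ k : ℕ, (g ^ 2) ^ k * x * ((g ^ 2) ^ k)⁻¹ = x := by
    intro k
    induction k with
    | zero => simp
    | succ k ih =>
      have : (g ^ 2) ^ (k + 1) * x * ((g ^ 2) ^ (k + 1))⁻¹ =
          g ^ 2 * ((g ^ 2) ^ k * x * ((g ^ 2) ^ k)⁻¹) * (g ^ 2)⁻¹ := by
        rw [pow_succ']; group
      rw [this, ih, h2]
  obtain ⟨k, rfl⟩ := hm
  have : g ^ (2 * k + 1) * x * (g ^ (2 * k + 1))⁻¹ =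
      (g ^ 2) ^ k * (g * x * g⁻¹) * ((g ^ 2) ^ k)⁻¹ := by
    rw [pow_succ, pow_mul]; group
  rw [this, h]
  have : (g ^ 2) ^ k * x⁻¹ * ((g ^ 2) ^ k)⁻¹ = ((g ^ 2) ^ k * x * ((g ^ 2) ^ k)⁻¹)⁻¹ := by group
  rw [this, h2k]

theorem exists_two_elt {G : Type*} [Group G] [Finite G] (x : G) (hx : IsConj x x⁻¹) :
    ∃ t : G, (∃ j : ℕ, orderOf t = 2 ^ j) ∧ t * x * t⁻¹ = x⁻¹ := by
  rw [isConj_iff] at hx
  obtain ⟨g, hg⟩ := hx
  have hpos : orderOf g ≠ 0 := (orderOf_pos g).ne'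
  obtain ⟨k, m, hm, hkm⟩ := Nat.exists_eq_two_pow_mul_odd hpos
  refine ⟨g ^ m, ⟨k, ?_⟩, pow_inverts x g hg m hm⟩
  rw [orderOf_pow, hkm]
  have : (2 ^ k * m).gcd m = m := Nat.gcd_eq_right (Dvd.intro_left _ rfl)
  rw [this]
  have hm0 : 0 < m := hm.pos
  exact Nat.mul_div_cancel _ hm0

theorem sq_eq_one_of_odd {G : Type*} [Group G] [Finite G] (x : G) (hx : IsConj x x⁻¹)
    (hodd : Odd (Subgroup.centralizer ({x} : Set G)).index) : x ^ 2 = 1 := by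
  classical
  rw [isConj_iff] at hx
  obtain ⟨g, hg⟩ := hx
  set C := Subgroup.centralizer ({x} : Set G) with hC
  have hg' : g⁻¹ * x * g = x⁻¹ := by
    have : x = g⁻¹ * x⁻¹ * g := by rw [← hg]; group
    have h2 : g⁻¹ * x * g = (g⁻¹ * x⁻¹ * g)⁻¹ := by group
    rw [h2, ← this]
  have hnorm : ∀ c ∈ C, g * c * g⁻¹ ∈ C := by
    intro c hc
    rw [hC, Subgroup.mem_centralizer_singleton_iff] at hc ⊢
    have hcx : c * x⁻¹ = x⁻¹ * c := by
      have : c * x⁻¹ = x⁻¹ * (x * c) * x⁻¹ := by group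
      rw [this, ← hc]; group
    calc g * c * g⁻¹ * x = g * c * (g⁻¹ * x * g) * g⁻¹ := by group
      _ = g * (c * x⁻¹) * g⁻¹ := by rw [hg']; group
      _ = g * (x⁻¹ * c) * g⁻¹ := by rw [hcx]
      _ = (g * x * g⁻¹)⁻¹ * (g * c * g⁻¹) := by group
      _ = x * (g * c * g⁻¹) := by rw [hg, inv_inv]
  have hg2 : g ^ 2 ∈ C := by
    rw [hC, Subgroup.mem_centralizer_singleton_iff]
    have := pow_inverts x g hg 1 (by decide)
    have h2 : g ^ 2 * x * (g ^ 2)⁻¹ = x := by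
      have h3 : g ^ 2 * x * (g ^ 2)⁻¹ = g * (g * x * g⁻¹) * g⁻¹ := by
        rw [pow_two]; group
      rw [h3, hg]
      have : g * x⁻¹ * g⁻¹ = (g * x * g⁻¹)⁻¹ := by group
      rw [this, hg, inv_inv]
    calc g ^ 2 * x = g ^ 2 * x * (g ^ 2)⁻¹ * g ^ 2 := by group
      _ = x * g ^ 2 := by rw [h2]
  let f : G ⧸ C → G ⧸ C := Quotient.map' (fun h => h * g⁻¹) (by
    intro a b hab
    rw [QuotientGroup.leftRel_apply] at hab ⊢
    have : (a * g⁻¹)⁻¹ * (b * g⁻¹) = g * (a⁻¹ * b) * g⁻¹ := by group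
    rw [this]
    exact hnorm _ hab)
  have hf : Function.Involutive f := by
    intro q
    induction q using QuotientGroup.induction_on with
    | H a =>
      show (QuotientGroup.mk (a * g⁻¹ * g⁻¹) : G ⧸ C) = QuotientGroup.mk a
      rw [QuotientGroup.eq]
      have : (a * g⁻¹ * g⁻¹)⁻¹ * a = g ^ 2 * (a⁻¹ * a) := by group
      rw [this, inv_mul_cancel, mul_one]
      exact hg2
  haveI : Fintype (G ⧸ C) := Fintype.ofFinite _
  have hcard : ¬ 2 ∣ Fintype.card (G ⧸ C) := by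
    rw [← Nat.card_eq_fintype_card, ← Subgroup.index_eq_card]
    exact fun h => (Nat.not_even_iff_odd.mpr hodd) (even_iff_two_dvd.mpr h)
  haveI : Fact (Nat.Prime 2) := ⟨Nat.prime_two⟩
  have hσ : (hf.toPerm f) ^ 2 ^ 1 = 1 := by
    ext q
    simp [pow_two, hf q]
  obtain ⟨q, hq⟩ := Equiv.Perm.exists_fixed_point_of_prime (p := 2) (n := 1) hcard hσ
  induction q using QuotientGroup.induction_on with
  | H a =>
    have h1 : (QuotientGroup.mk (a * g⁻¹) : G ⧸ C) = QuotientGroup.mk a := hq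
    rw [QuotientGroup.eq] at h1
    have : (a * g⁻¹)⁻¹ * a = g := by group
    rw [this, hC, Subgroup.mem_centralizer_singleton_iff] at h1
    have hx2 : x = x⁻¹ := by
      calc x = g * x * g⁻¹ := by rw [h1]; group
        _ = x⁻¹ := hg
    calc x ^ 2 = x * x := pow_two x
      _ = x * x⁻¹ := by rw [← hx2]
      _ = 1 := mul_inv_cancel x

theorem result {G : Type*} [Group G] [Finite G] (x : G) (hx : IsConj x x⁻¹) : (∃ t : G, (∃ j : ℕ, orderOf t = 2 ^ j) ∧ t * x * t⁻¹ = x⁻¹) ∧ (Odd (Subgroup.centralizer ({x} : Set G)).index → x ^ 2 = 1) ∧ ∀ (N : Subgroup G) [N.Normal], Odd N.index → ∃ hxN : x ∈ N, IsConj (⟨x, hxN⟩ : N) (⟨x, hxN⟩ : N)⁻¹ := by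
  refine ⟨exists_two_elt x hx, sq_eq_one_of_odd x hx, ?_⟩
  intro N _ hN
  obtain ⟨t, ⟨j, hj⟩, ht⟩ := exists_two_elt x hx
  -- t ∈ N
  have hcop : ∀ y : G, (∃ j : ℕ, orderOf y = 2 ^ j) → y ∈ N := by
    intro y ⟨j, hj⟩
    rw [← QuotientGroup.eq_one_iff]
    have h1 : orderOf (y : G ⧸ N) ∣ 2 ^ j := by
      rw [← hj]
      exact orderOf_dvd_of_pow_eq_one (by rw [← QuotientGroup.mk_pow, pow_orderOf_eq_one]; rfl)
    have h2 : orderOf (y : G ⧸ N) ∣ N.index := by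
      rw [Subgroup.index_eq_card]
      exact orderOf_dvd_natCard _
    have h3 : orderOf (y : G ⧸ N) ∣ Nat.gcd (2 ^ j) N.index := Nat.dvd_gcd h1 h2
    have h4 : Nat.gcd (2 ^ j) N.index = 1 := by
      apply Nat.Coprime.pow_left
      exact (Nat.coprime_two_left).mpr hN
    rw [h4, Nat.dvd_one, orderOf_eq_one_iff] at h3
    exact h3
  have htN : t ∈ N := hcop t ⟨j, hj⟩
  have hxN : x ∈ N := by
    -- x * x = x * t x⁻¹ t⁻¹ ... use quotient
    rw [← QuotientGroup.eq_one_iff]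
    have ht1 : (t : G ⧸ N) = 1 := (QuotientGroup.eq_one_iff t).mpr htN
    have h5 : ((t * x * t⁻¹ : G) : G ⧸ N) = ((x⁻¹ : G) : G ⧸ N) := by rw [ht]
    simp only [QuotientGroup.mk_mul, QuotientGroup.mk_inv, ht1, one_mul, inv_one, mul_one] at h5
    have h6 : (x : G ⧸ N) ^ 2 = 1 := by
      rw [pow_two]
      nth_rewrite 2 [h5]
      exact mul_inv_cancel _
    have h7 : orderOf (x : G ⧸ N) ∣ 2 := orderOf_dvd_of_pow_eq_one h6
    have h8 : orderOf (x : G ⧸ N) ∣ N.index := by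
      rw [Subgroup.index_eq_card]
      exact orderOf_dvd_natCard _
    have h9 : orderOf (x : G ⧸ N) ∣ Nat.gcd 2 N.index := Nat.dvd_gcd h7 h8
    have h10 : Nat.gcd 2 N.index = 1 := (Nat.coprime_two_left).mpr hN
    rw [h10, Nat.dvd_one, orderOf_eq_one_iff] at h9
    exact h9
  refine ⟨hxN, ?_⟩
  rw [isConj_iff]
  refine ⟨⟨t, htN⟩, ?_⟩
  apply Subtype.ext
  simp only [Subgroup.coe_mul, Subgroup.coe_inv]
  exact ht

end Cfsg.Agent.S3863
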