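import Mathlib
import Cfsg.Statements.S3861
import Cfsg.Agent.Lib.Helper69.RealMain
import Cfsg.Agent.S3863

set_option autoImplicit false
open Cfsg

namespace Cfsg.Agent.S3861

open scoped Pointwise
open Cfsg.Agent.Lib.Helper69

theorem result {G : Type*} [Group G] [Finite G] (P : Sylow 2 G) : (∀ x : G, x ≠ 1 → Odd (orderOf x) → ¬ IsConj x x⁻¹) ↔ (P : Subgroup G).Normal := by
  have h2 : Fact (Nat.Prime 2) := ⟨Nat.prime_two⟩
  constructor
  · intro h
    by_contra hP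
    obtain ⟨y, hy1, hyo, g, hg⟩ := hasRealOdd_of_not_closed _ G rfl ⟨P, hP⟩
    exact h y hy1 hyo (isConj_iff.mpr ⟨g, hg⟩)
  · intro hP x hx1 hxo hconj
    obtain ⟨t, ⟨j, hj⟩, ht⟩ := Cfsg.Agent.S3863.exists_two_elt x hconj
    have htP : t ∈ (P : Subgroup G) := by
      apply mem_sylow_of_mem_normalizer P t j hj
      rw [Subgroup.normalizer_eq_top_iff.mpr hP]
      exact Subgroup.mem_top t
    have hc : t * (x * t⁻¹ * x⁻¹) ∈ (P : Subgroup G) :=
      (P : Subgroup G).mul_mem htP (hP.conj_mem _ ((P : Subgroup G).inv_mem htP) x)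
    have hc' : t * (x * t⁻¹ * x⁻¹) = (x ^ 2)⁻¹ := by
      calc t * (x * t⁻¹ * x⁻¹) = (t * x * t⁻¹) * x⁻¹ := by group
        _ = x⁻¹ * x⁻¹ := by rw [ht]
        _ = (x ^ 2)⁻¹ := by rw [pow_two, mul_inv_rev]
    rw [hc'] at hc
    have hx2P : x ^ 2 ∈ (P : Subgroup G) := (P : Subgroup G).inv_mem_iff.mp hc
    obtain ⟨k, hk⟩ := (IsPGroup.iff_orderOf.mp P.isPGroup') ⟨x ^ 2, hx2P⟩
    rw [Subgroup.orderOf_mk] at hk
    have hdvd : orderOf (x ^ 2) ∣ orderOf x := orderOf_pow_dvd 2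
    have hodd2 : Odd (orderOf (x ^ 2)) := by
      obtain ⟨c, hc⟩ := hdvd
      rw [hc] at hxo
      exact (Nat.odd_mul.mp hxo).1
    have hk0 : k = 0 := by
      by_contra hk0
      rw [hk] at hodd2
      have : Even (2 ^ k) := (Nat.even_pow.mpr ⟨even_two, hk0⟩)
      exact (Nat.not_even_iff_odd.mpr hodd2) this
    rw [hk0, pow_zero, orderOf_eq_one_iff] at hk
    have h3 : orderOf x ∣ 2 := orderOf_dvd_of_pow_eq_one hk
    have h4 : orderOf x = 1 := by
      rcases (Nat.dvd_prime Nat.prime_two).mp h3 with h | h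
      · exact h
      · rw [h] at hxo; exact absurd hxo (by decide)
    exact hx1 (orderOf_eq_one_iff.mp h4)

end Cfsg.Agent.S3861
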