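import Cfsg.Statements.S3862
import Cfsg.Agent.S0071
import Cfsg.Agent.Lib.Helper79.RealTwo

set_option autoImplicit false
open Cfsg

namespace Cfsg.Agent.S3862

/-- If every 2-element of the finite group G that is conjugate to its inverse lies in the centre of G, then G has a normal 2-complement. -/
theorem result {G : Type*} [Group G] [Finite G] (h : ∀ x : G, (∃ j : ℕ, orderOf x = 2 ^ j) → IsConj x x⁻¹ → x ∈ Subgroup.center G) : Cfsg.HasNormalPComplement 2 G := by
  haveI : Fact (Nat.Prime 2) := ⟨Nat.prime_two⟩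
  obtain ⟨P⟩ : Nonempty (Sylow 2 G) := inferInstance
  obtain ⟨N, hN, hNP⟩ := (Cfsg.Agent.S0071.result P).mpr (fun Q hQP g hg hcop =>
    Cfsg.Agent.Lib.Helper79.mem_centralizer_of_real_central h Q (P.2.to_le hQP) g hg hcop)
  exact ⟨P, N, hN, hNP⟩


end Cfsg.Agent.S3862
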