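import Cfsg.Statements.S3864
import Cfsg.Agent.Lib.Helper59.DihedralMain
import Cfsg.Agent.Lib.Helper59.QDModel

set_option autoImplicit false
open Cfsg
open Cfsg.Agent.Lib.Helper59

namespace Cfsg.Agent.S3864

/-- Let G be a finite group whose Sylow 2-subgroups are dihedral of order 2 ^ n with n ≥ 3, and count the conjugacy classes of involutions of G. Then exactly one of the following holds: there is one class of involutions and no normal subgroup of index 2; there are two classes of involutions, a normal subgroup of index 2 and none of index 4; there are three classes of involutions and G has a normal 2-complement. -/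
theorem result {G : Type*} [Group G] [Finite G] (P : Sylow 2 G) (n : ℕ) (hn : 3 ≤ n) (hdih : Nonempty (↥(P : Subgroup G) ≃* DihedralGroup (2 ^ (n - 1)))) : (Nat.card {C : ConjClasses G // ∃ g : G, ConjClasses.mk g = C ∧ orderOf g = 2} = 1 ∧ ∀ N : Subgroup G, N.Normal → N.index ≠ 2) ∨ (Nat.card {C : ConjClasses G // ∃ g : G, ConjClasses.mk g = C ∧ orderOf g = 2} = 2 ∧ (∃ N : Subgroup G, N.Normal ∧ N.index = 2) ∧ ∀ N : Subgroup G, N.Normal → N.index ≠ 4) ∨ (Nat.card {C : ConjClasses G // ∃ g : G, ConjClasses.mk g = C ∧ orderOf g = 2} = 3 ∧ Cfsg.HasNormalPComplement 2 G) := by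
  obtain ⟨eP⟩ := hdih
  obtain ⟨k, rfl⟩ : ∃ k, n = k + 3 := ⟨n - 3, by omega⟩
  have h := qdModel_QD k
  obtain ⟨eD⟩ := h.sub_two_zero_dihedral (QD.hdbε k 0)
  have hk : k + 3 - 1 = k + 2 := by omega
  rw [hk] at eP
  let e : ↥(P : Subgroup G) ≃* ↥(h.sub 2 0 (QD.hdbε k 0)) := eP.trans eD.symm
  let j : ↥(P : Subgroup G) →* QDModel k := (h.sub 2 0 (QD.hdbε k 0)).subtype.comp e.toMonoidHom
  have hj : Function.Injective j := by
    intro a b hab
    have h1 : ((e a : ↥(h.sub 2 0 (QD.hdbε k 0))) : QDModel k) = e b := hab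
    exact e.injective (Subtype.ext h1)
  have hr : j.range = h.sub 2 0 (QD.hdbε k 0) := by
    ext s
    constructor
    · rintro ⟨a, rfl⟩
      exact (e a).2
    · intro hs
      refine ⟨e.symm ⟨s, hs⟩, ?_⟩
      show ((e (e.symm ⟨s, hs⟩) : ↥(h.sub 2 0 (QD.hdbε k 0))) : QDModel k) = s
      rw [MulEquiv.apply_symm_apply]
  exact dihedral_trichotomy P h j hj hr

end Cfsg.Agent.S3864
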