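import Mathlib
import Cfsg.Statements.S3866

set_option autoImplicit false
open Cfsg

namespace Cfsg.Agent.S3866

open scoped commutatorElement

theorem hom_prop {G : Type*} [Group G] (A : Subgroup G) [hAn : A.Normal] (hA : IsMulCommutative A) (x : G)
    (a b : G) (ha : a ∈ A) (hb : b ∈ A) :
    x * (a * b) * x⁻¹ * (a * b)⁻¹ = (x * a * x⁻¹ * a⁻¹) * (x * b * x⁻¹ * b⁻¹) := by
  have ha' : x * a * x⁻¹ ∈ A := hAn.conj_mem a ha x
  have hb' : x * b * x⁻¹ ∈ A := hAn.conj_mem b hb x
  have hcomm : ∀ u v : G, u ∈ A → v ∈ A → u * v = v * u := by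
    intro u v hu hv
    have := hA.is_comm.comm ⟨u, hu⟩ ⟨v, hv⟩
    simpa using congrArg Subtype.val this
  have h1 : x * (a * b) * x⁻¹ * (a * b)⁻¹ = (x * a * x⁻¹) * ((x * b * x⁻¹) * b⁻¹) * a⁻¹ := by group
  have h2 : (x * b * x⁻¹) * b⁻¹ ∈ A := A.mul_mem hb' (A.inv_mem hb)
  rw [h1, mul_assoc, hcomm _ _ h2 (A.inv_mem ha)]
  group

/-- the commutator map as a homomorphism -/
noncomputable def phi {G : Type*} [Group G] (A : Subgroup G) [hAn : A.Normal] (hA : IsMulCommutative A) (x : G) :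
    ↥A →* G where
  toFun a := x * a * x⁻¹ * (a : G)⁻¹
  map_one' := by simp
  map_mul' a b := by
    simpa using hom_prop A hA x a b a.2 b.2

theorem phi_apply {G : Type*} [Group G] (A : Subgroup G) [hAn : A.Normal] (hA : IsMulCommutative A) (x : G)
    (a : ↥A) : phi A hA x a = x * a * x⁻¹ * (a : G)⁻¹ := rfl

theorem range_le {G : Type*} [Group G] (A : Subgroup G) [hAn : A.Normal] (hA : IsMulCommutative A) (x : G) :
    (phi A hA x).range ≤ A := by
  rintro _ ⟨a, rfl⟩
  rw [phi_apply]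
  exact A.mul_mem (hAn.conj_mem a a.2 x) (A.inv_mem a.2)

theorem range_normal {G : Type*} [Group G] (A : Subgroup G) [hAn : A.Normal] (hA : IsMulCommutative A) (x : G)
    (hgen : A ⊔ Subgroup.zpowers x = ⊤) : (phi A hA x).range.Normal := by
  rw [← Subgroup.normalizer_eq_top_iff, eq_top_iff, ← hgen, sup_le_iff]
  have hcomm : ∀ u v : G, u ∈ A → v ∈ A → u * v = v * u := by
    intro u v hu hv
    have := hA.is_comm.comm ⟨u, hu⟩ ⟨v, hv⟩
    simpa using congrArg Subtype.val this
  constructor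
  · intro a ha
    rw [Subgroup.mem_normalizer_iff]
    intro h
    constructor
    · intro hh
      have hhA := range_le A hA x hh
      have : a * h * a⁻¹ = h := by
        rw [hcomm a h ha hhA]; group
      rw [this]; exact hh
    · intro hh
      have hhA := range_le A hA x hh
      have hhA' : h ∈ A := by
        have : h = a⁻¹ * (a * h * a⁻¹) * a := by group
        rw [this]
        exact A.mul_mem (A.mul_mem (A.inv_mem ha) hhA) ha
      have : a * h * a⁻¹ = h := by
        rw [hcomm a h ha hhA']; group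
      rw [this] at hh; exact hh
  · rw [Subgroup.zpowers_le, Subgroup.mem_normalizer_iff]
    intro h
    constructor
    · rintro ⟨a, rfl⟩
      refine ⟨⟨x * a * x⁻¹, hAn.conj_mem a a.2 x⟩, ?_⟩
      rw [phi_apply, phi_apply]
      simp only
      group
    · rintro ⟨a, ha⟩
      have hmem : x⁻¹ * a * x⁻¹⁻¹ ∈ A := hAn.conj_mem a a.2 x⁻¹
      refine ⟨⟨x⁻¹ * a * x⁻¹⁻¹, hmem⟩, ?_⟩
      rw [phi_apply] at ha ⊢
      simp only
      have : h = x⁻¹ * (x * h * x⁻¹) * x := by group
      rw [this, ← ha]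
      group

theorem comm_le {G : Type*} [Group G] (A : Subgroup G) [hAn : A.Normal] (hA : IsMulCommutative A) (x : G)
    (hgen : A ⊔ Subgroup.zpowers x = ⊤) : commutator G ≤ (phi A hA x).range := by
  have hBn := range_normal A hA x hgen
  set B := (phi A hA x).range with hB
  have hcomm : ∀ u v : G, u ∈ A → v ∈ A → u * v = v * u := by
    intro u v hu hv
    have := hA.is_comm.comm ⟨u, hu⟩ ⟨v, hv⟩
    simpa using congrArg Subtype.val this
  let π := QuotientGroup.mk' B
  have hclos : Subgroup.closure ((A : Set G) ∪ {x}) = ⊤ := by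
    rw [Subgroup.closure_union, Subgroup.closure_eq, ← Subgroup.zpowers_eq_closure, hgen]
  have hclosQ : Subgroup.closure (π '' ((A : Set G) ∪ {x})) = ⊤ := by
    rw [← MonoidHom.map_closure, hclos, ← MonoidHom.range_eq_map]
    exact MonoidHom.range_eq_top.mpr (QuotientGroup.mk'_surjective B)
  have hxa : ∀ a ∈ A, π x * π a = π a * π x := by
    intro a ha
    rw [← map_mul, ← map_mul]
    apply (QuotientGroup.eq).mpr
    have : (x * a)⁻¹ * (a * x) = x⁻¹ * (x * a⁻¹ * x⁻¹ * a⁻¹⁻¹)⁻¹⁻¹ * x := by group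
    rw [this]
    have hmem : x * a⁻¹ * x⁻¹ * a⁻¹⁻¹ ∈ B := ⟨⟨a⁻¹, A.inv_mem ha⟩, rfl⟩
    have h2 := (inferInstance : B.Normal).conj_mem _ (B.inv_mem (B.inv_mem hmem)) x⁻¹
    simpa using h2
  have hpair : ∀ s ∈ π '' ((A : Set G) ∪ {x}), ∀ t ∈ π '' ((A : Set G) ∪ {x}), s * t = t * s := by
    rintro _ ⟨s, hs, rfl⟩ _ ⟨t, ht, rfl⟩
    rcases hs with hs | hs <;> rcases ht with ht | ht
    · rw [← map_mul, ← map_mul, hcomm s t hs ht]
    · rw [Set.mem_singleton_iff] at ht; subst ht
      exact (hxa s hs).symm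
    · rw [Set.mem_singleton_iff] at hs; subst hs
      exact hxa t ht
    · rw [Set.mem_singleton_iff] at hs ht; subst hs; subst ht; rfl
  have hQ := Subgroup.isMulCommutative_closure hpair
  rw [hclosQ] at hQ
  have hQc : ∀ u v : G ⧸ B, u * v = v * u := by
    intro u v
    have := hQ.is_comm.comm ⟨u, Subgroup.mem_top u⟩ ⟨v, Subgroup.mem_top v⟩
    simpa using congrArg Subtype.val this
  rw [commutator_def, Subgroup.commutator_le]
  intro g _ h _
  rw [← QuotientGroup.eq_one_iff (N := B)]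
  have h3 : ((⁅g, h⁆ : G) : G ⧸ B) = π (g * h * g⁻¹ * h⁻¹) := by rw [commutatorElement_def]; rfl
  rw [h3, map_mul, map_mul, map_mul, hQc (π g) (π h), map_inv, map_inv]
  group

theorem result {G : Type*} [Group G] [Finite G] (A : Subgroup G) [A.Normal] (hA : IsMulCommutative A) (x : G) (hgen : A ⊔ Subgroup.zpowers x = ⊤) : (∀ a ∈ A, x * a * x⁻¹ * a⁻¹ ∈ commutator G) ∧ (∀ c ∈ commutator G, ∃ a ∈ A, x * a * x⁻¹ * a⁻¹ = c) ∧ (∀ a ∈ A, ∀ b ∈ A, x * (a * b) * x⁻¹ * (a * b)⁻¹ = (x * a * x⁻¹ * a⁻¹) * (x * b * x⁻¹ * b⁻¹)) ∧ Nat.card (commutator G) * Nat.card ↥(A ⊓ Subgroup.centralizer ({x} : Set G)) = Nat.card A := by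
  have h1 : ∀ a ∈ A, x * a * x⁻¹ * a⁻¹ ∈ commutator G := by
    intro a _
    rw [commutator_def, ← commutatorElement_def]
    exact Subgroup.commutator_mem_commutator (Subgroup.mem_top x) (Subgroup.mem_top a)
  have h2 := comm_le A hA x hgen
  have heq : commutator G = (phi A hA x).range := by
    apply le_antisymm h2
    rintro _ ⟨a, rfl⟩
    exact h1 a a.2
  refine ⟨h1, ?_, fun a ha b hb => hom_prop A hA x a b ha hb, ?_⟩
  · intro c hc
    obtain ⟨a, rfl⟩ := h2 hc
    exact ⟨a, a.2, rfl⟩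
  · rw [heq]
    have hker : (phi A hA x).ker = (A ⊓ Subgroup.centralizer ({x} : Set G)).subgroupOf A := by
      ext a
      rw [MonoidHom.mem_ker, phi_apply, Subgroup.mem_subgroupOf, Subgroup.mem_inf,
        Subgroup.mem_centralizer_singleton_iff]
      constructor
      · intro h
        refine ⟨a.2, ?_⟩
        have : x * (a : G) = (x * a * x⁻¹ * (a : G)⁻¹) * (a * x) := by group
        rw [this, h, one_mul]
      · rintro ⟨_, h⟩
        rw [← h]; group
    have hcard : Nat.card ↥((A ⊓ Subgroup.centralizer ({x} : Set G)).subgroupOf A) =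
        Nat.card ↥(A ⊓ Subgroup.centralizer ({x} : Set G)) :=
      Nat.card_congr (Subgroup.subgroupOfEquivOfLe inf_le_left).toEquiv
    rw [← hcard, ← hker, ← Subgroup.index_ker, mul_comm]
    exact Subgroup.card_mul_index _

end Cfsg.Agent.S3866
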