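import Mathlib
import Cfsg.Statements.S3867
import Cfsg.Agent.Lib.Helper69.Conj

set_option autoImplicit false
open Cfsg

namespace Cfsg.Agent.S3867

open scoped Pointwise
open Cfsg.Agent.Lib.Helper69

/-- The number of Sylow subgroups of a quotient. -/
theorem card_sylow_quotient {G : Type*} [Group G] [Finite G] (p : ℕ) [Fact p.Prime] (P : Sylow p G)
    (K : Subgroup G) [K.Normal] :
    Nat.card (Sylow p (G ⧸ K)) = (Subgroup.normalizer (((P : Subgroup G) ⊔ K : Subgroup G) : Set G)).index := by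
  have hf : Function.Surjective (QuotientGroup.mk' K) := QuotientGroup.mk'_surjective K
  rw [Sylow.card_eq_index_normalizer (P.mapSurjective hf)]
  have h : Subgroup.normalizer ((P.mapSurjective hf : Sylow p (G ⧸ K)) : Set (G ⧸ K)) =
      Subgroup.normalizer (((P : Subgroup G).map (QuotientGroup.mk' K) : Subgroup (G ⧸ K)) : Set (G ⧸ K)) := rfl
  rw [h, ← Subgroup.index_comap_of_surjective _ hf,
    Subgroup.comap_normalizer_eq_of_le_range (by rw [MonoidHom.range_eq_top.mpr hf]; exact le_top),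
    Subgroup.comap_map_eq, QuotientGroup.ker_mk']

theorem normalizer_le_normalizer_sup {G : Type*} [Group G] (H K : Subgroup G) [hK : K.Normal] :
    Subgroup.normalizer (H : Set G) ≤ Subgroup.normalizer ((H ⊔ K : Subgroup G) : Set G) := by
  rw [Subgroup.le_normalizer_iff]
  intro g hg x hx
  rw [Subgroup.mem_sup_of_normal_right] at hx ⊢
  obtain ⟨y, hy, z, hz, rfl⟩ := hx
  refine ⟨g * y * g⁻¹, (Subgroup.mem_normalizer_iff.mp hg y).mp hy, g * z * g⁻¹, hK.conj_mem z hz g, ?_⟩
  group

theorem relIndex_eq_of_mul {G : Type*} [Group G] (B C D : Subgroup G) (hB : B ≤ D)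
    (h : ∀ d ∈ D, ∃ b ∈ B, ∃ c ∈ C, d = b * c) : C.relIndex B = C.relIndex D := by
  rw [Subgroup.relIndex, Subgroup.relIndex, Subgroup.index_eq_card, Subgroup.index_eq_card]
  refine Nat.card_congr (Equiv.ofBijective (Subgroup.quotientSubgroupOfEmbeddingOfLE C hB)
    ⟨(Subgroup.quotientSubgroupOfEmbeddingOfLE C hB).injective, ?_⟩)
  intro q
  induction q using QuotientGroup.induction_on with
  | H d =>
    obtain ⟨b, hb, c, hc, hd⟩ := h d d.2
    refine ⟨QuotientGroup.mk ⟨b, hb⟩, ?_⟩
    rw [Subgroup.quotientSubgroupOfEmbeddingOfLE_apply_mk, QuotientGroup.eq, Subgroup.mem_subgroupOf]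
    have : ((Subgroup.inclusion hB ⟨b, hb⟩)⁻¹ * d : ↥D) = (⟨c, by
        have : c = b⁻¹ * d := by rw [hd]; group
        rw [this]; exact D.mul_mem (D.inv_mem (hB hb)) d.2⟩ : ↥D) := by
      apply Subtype.ext
      simp only [Subgroup.coe_mul, Subgroup.coe_inv, Subgroup.coe_inclusion]
      rw [hd]; group
    rw [this]
    exact hc

theorem inf_eq {G : Type*} [Group G] [Finite G] (p : ℕ) [Fact p.Prime] (P : Sylow p G)
    (M N : Subgroup G) [M.Normal] [N.Normal] (hMN : M ⊓ N = ⊥) :
    ((P : Subgroup G) ⊔ M) ⊓ ((P : Subgroup G) ⊔ N) = (P : Subgroup G) := by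
  have key : ∀ (K : Subgroup G) [K.Normal], ∀ x ∈ (P : Subgroup G) ⊔ K,
      x ^ Nat.card ↥(P : Subgroup G) ∈ K := by
    intro K _ x hx
    rw [Subgroup.mem_sup_of_normal_right] at hx
    obtain ⟨y, hy, z, hz, rfl⟩ := hx
    rw [← QuotientGroup.eq_one_iff (N := K), QuotientGroup.mk_pow, QuotientGroup.mk_mul,
      (QuotientGroup.eq_one_iff z).mpr hz, mul_one, ← QuotientGroup.mk_pow]
    have : y ^ Nat.card ↥(P : Subgroup G) = 1 := by
      have h1 : (⟨y, hy⟩ : ↥(P : Subgroup G)) ^ Nat.card ↥(P : Subgroup G) = 1 := pow_card_eq_one'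
      have := congrArg Subtype.val h1
      rw [Subgroup.coe_pow] at this
      exact this
    rw [this]; rfl
  have hp : IsPGroup p ↥(((P : Subgroup G) ⊔ M) ⊓ ((P : Subgroup G) ⊔ N)) := by
    obtain ⟨n, hn⟩ := IsPGroup.iff_card.mp P.isPGroup'
    intro x
    refine ⟨n, ?_⟩
    apply Subtype.ext
    have h1 := key M x.1 x.2.1
    have h2 := key N x.1 x.2.2
    have h3 : (x : G) ^ Nat.card ↥(P : Subgroup G) ∈ M ⊓ N := ⟨h1, h2⟩
    rw [hMN, Subgroup.mem_bot, hn] at h3
    simpa using h3
  exact P.is_maximal' hp (le_inf le_sup_left le_sup_left)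

theorem result {G : Type*} [Group G] [Finite G] (p : ℕ) [Fact p.Prime] (M N : Subgroup G) [M.Normal] [N.Normal] (hM : M ≠ ⊥) (hN : N ≠ ⊥) (hMN : M ⊓ N = ⊥) : Nat.card (Sylow p G) * Nat.card (Sylow p (G ⧸ (M ⊔ N))) = Nat.card (Sylow p (G ⧸ M)) * Nat.card (Sylow p (G ⧸ N)) := by
  let P : Sylow p G := default
  set A := Subgroup.normalizer ((P : Subgroup G) : Set G) with hA
  set B := Subgroup.normalizer (((P : Subgroup G) ⊔ M : Subgroup G) : Set G) with hB
  set C := Subgroup.normalizer (((P : Subgroup G) ⊔ N : Subgroup G) : Set G) with hC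
  set D := Subgroup.normalizer (((P : Subgroup G) ⊔ (M ⊔ N) : Subgroup G) : Set G) with hD
  rw [Sylow.card_eq_index_normalizer P, card_sylow_quotient p P (M ⊔ N), card_sylow_quotient p P M,
    card_sylow_quotient p P N]
  show A.index * D.index = B.index * C.index
  have hAB : A ≤ B := normalizer_le_normalizer_sup _ M
  have hAC : A ≤ C := normalizer_le_normalizer_sup _ N
  have hBD : B ≤ D := by
    have := normalizer_le_normalizer_sup ((P : Subgroup G) ⊔ M) N
    rwa [sup_assoc] at this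
  have hCD : C ≤ D := by
    have := normalizer_le_normalizer_sup ((P : Subgroup G) ⊔ N) M
    rwa [sup_assoc, sup_comm N M] at this
  have hinf : B ⊓ C = A := by
    apply le_antisymm
    · have := Subgroup.inf_normalizer_le_normalizer_inf (H := (P : Subgroup G) ⊔ M)
        (K := (P : Subgroup G) ⊔ N)
      rw [inf_eq p P M N hMN] at this
      exact this
    · exact le_inf hAB hAC
  -- D = B * C
  have hmul : ∀ d ∈ D, ∃ b ∈ B, ∃ c ∈ C, d = b * c := by
    intro d hd
    set Q := (P : Subgroup G) ⊔ (M ⊔ N) with hQ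
    have hPQ : (P : Subgroup G) ≤ Q := le_sup_left
    have hdQ : MulAut.conj d • Q = Q := by
      rw [← map_conj_eq_smul]
      exact Subgroup.mem_normalizer_iff_map_conj_eq.mp hd
    have hdP : ((d • P : Sylow p G) : Subgroup G) ≤ Q := by
      show MulAut.conj d • (P : Subgroup G) ≤ Q
      rw [← hdQ]
      exact Subgroup.pointwise_smul_le_pointwise_smul_iff.mpr hPQ
    obtain ⟨q, hq⟩ := MulAction.exists_smul_eq (↥Q) (P.subtype hPQ) ((d • P).subtype hdP)
    rw [Sylow.smul_subtype] at hq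
    have hq' : ((q : G) • P : Sylow p G) = d • P := Sylow.subtype_injective hq
    have hnorm : (q : G)⁻¹ * d ∈ A := by
      have h5 : ((q : G)⁻¹ * d) • P = P := by rw [mul_smul, ← hq', inv_smul_smul]
      exact Sylow.smul_eq_iff_mem_normalizer.mp h5
    -- decompose q
    have hqmem : (q : G) ∈ ((P : Subgroup G) ⊔ M) ⊔ N := by
      rw [sup_assoc]; exact q.2
    rw [Subgroup.mem_sup_of_normal_right] at hqmem
    obtain ⟨u, hu, n, hn, hun⟩ := hqmem
    refine ⟨u, Subgroup.le_normalizer hu, n * ((q : G)⁻¹ * d), ?_, ?_⟩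
    · refine C.mul_mem ?_ (hAC hnorm)
      exact Subgroup.le_normalizer (show n ∈ (P : Subgroup G) ⊔ N from (le_sup_right : N ≤ _) hn)
    · rw [← mul_assoc, hun]; group
  have hrel : C.relIndex B = C.relIndex D := relIndex_eq_of_mul B C D hBD hmul
  have h1 : A.relIndex B = C.relIndex B := by
    rw [← hinf]; exact Subgroup.inf_relIndex_left B C
  rw [← Subgroup.relIndex_mul_index hAB, ← Subgroup.relIndex_mul_index hCD, h1, hrel]
  ring

end Cfsg.Agent.S3867
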