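import Cfsg.Statements.S3869
import Cfsg.Agent.Lib.Helper69.MinNormal

set_option autoImplicit false
open Cfsg

namespace Cfsg.Agent.S3869

open Cfsg.Agent.Lib.Helper69

/-- Let p and q be distinct primes and G a finite non-abelian group with a normal elementary abelian q-subgroup A that is a minimal normal subgroup of G and has index p. Then A has order q^e with e the multiplicative order of q modulo p, and G is minimal non-p-closed: its Sylow p-subgroups are not normal, while in every proper subgroup and in every proper quotient of G the Sylow p-subgroups are normal. -/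
theorem result {G : Type*} [Group G] [Finite G] {p q : ℕ} [Fact p.Prime] (hq : q.Prime) (hpq : q ≠ p)
    (hna : ¬ IsMulCommutative G) (A : Subgroup G) [A.Normal] (hA : Cfsg.IsElementaryAbelian q A) (hidx : A.index = p)
    (hmin : ∀ B : Subgroup G, B.Normal → B ≤ A → B = ⊥ ∨ B = A) :
    Nat.card ↥A = q ^ orderOf (q : ZMod p) ∧ ¬ Cfsg.IsPClosed p G ∧ (∀ H : Subgroup G, H ≠ ⊤ → Cfsg.IsPClosed p ↥H) ∧
      ∀ (N : Subgroup G) [N.Normal], N ≠ ⊥ → Cfsg.IsPClosed p (G ⧸ N) := by
  classical
  haveI : Fact q.Prime := ⟨hq⟩
  have hp : p.Prime := Fact.out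
  have hcomm : ∀ a ∈ A, ∀ b ∈ A, a * b = b * a := by
    intro a ha b hb
    haveI := hA.1
    have h := mul_comm' (⟨a, ha⟩ : ↥A) ⟨b, hb⟩
    exact congrArg Subtype.val h
  have hexp := hA.2
  have hna' : ¬ ∀ g h : G, g * h = h * g := fun h => hna ⟨⟨h⟩⟩
  have hAq : IsPGroup q ↥A := fun a => ⟨1, by
    rw [pow_one]; exact Subtype.ext (by simpa using hexp a a.2)⟩
  refine ⟨card_of_minimal_normal_prime_index hq hpq hna' A hcomm hexp hidx hmin, ?_, ?_, ?_⟩
  · -- not p-closed
    intro hcl
    obtain P : Sylow p G := default
    haveI := hcl P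
    have hPne : (P : Subgroup G) ≠ ⊥ := P.ne_bot_of_dvd_card (by
      rw [← Subgroup.card_mul_index A, hidx]; exact dvd_mul_left _ _)
    have hdis : Disjoint (P : Subgroup G) A := IsPGroup.disjoint_of_ne p q hpq.symm _ _ P.2 hAq
    exact hna' (comm_of_normal_disjoint hp hidx hcomm hPne hdis)
  · intro H hH
    by_cases hHA : H ≤ A
    · have : IsPGroup q ↥H := hAq.to_le hHA
      exact fun P => sylow_normal_of_isPGroup_ne hpq this P
    · obtain ⟨x, hxH, hxA⟩ := SetLike.not_le_iff_exists.mp hHA
      have hKn : (H ⊓ A).Normal :=
        normal_of_le_of_mem_normalizer hp hidx hcomm inf_le_right hxA (by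
          rw [Subgroup.mem_normalizer_iff]
          intro g
          constructor
          · intro hg
            have hgH : g ∈ H := hg.1
            have hgA : g ∈ A := hg.2
            exact ⟨H.mul_mem (H.mul_mem hxH hgH) (H.inv_mem hxH), ‹A.Normal›.conj_mem g hgA x⟩
          · intro hg
            have hgH : x * g * x⁻¹ ∈ H := hg.1
            have hgA : x * g * x⁻¹ ∈ A := hg.2
            have e : x⁻¹ * (x * g * x⁻¹) * x⁻¹⁻¹ = g := by group
            constructor
            · have := H.mul_mem (H.mul_mem (H.inv_mem hxH) hgH) (H.inv_mem (H.inv_mem hxH))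
              rw [e] at this
              exact this
            · have := ‹A.Normal›.conj_mem _ hgA x⁻¹
              rw [e] at this
              exact this)
      rcases hmin _ hKn inf_le_right with h | h
      · have hinj : Function.Injective ((QuotientGroup.mk' A).comp H.subtype) := by
          rw [injective_iff_map_eq_one]
          intro a ha
          have h1 : (a : G) ∈ A := by
            rw [← QuotientGroup.eq_one_iff]; exact ha
          have h2 : (a : G) ∈ H ⊓ A := ⟨a.2, h1⟩
          rw [h, Subgroup.mem_bot] at h2
          exact Subtype.ext h2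
        have : Nat.card ↥H ∣ p := by
          have := Subgroup.card_dvd_of_injective _ hinj
          rwa [show Nat.card (G ⧸ A) = p from hidx] at this
        exact fun P => sylow_normal_of_card_dvd_prime this P
      · exfalso
        apply hH
        exact eq_top_of_prime_index hp hidx (inf_eq_right.mp h) hxH hxA
  · intro N hNn hN
    have hKn : (N ⊓ A).Normal := inferInstance
    rcases hmin _ hKn inf_le_right with h | h
    · exfalso
      exact hna' (comm_of_normal_disjoint hp hidx hcomm hN (disjoint_iff.mpr h))
    · have hAN : A ≤ N := inf_eq_right.mp h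
      have : Nat.card (G ⧸ N) ∣ p := by
        have := Subgroup.index_dvd_of_le hAN
        rwa [hidx] at this
      exact fun P => sylow_normal_of_card_dvd_prime this P

end Cfsg.Agent.S3869
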