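import Mathlib
import Cfsg.Statements.S3870
import Cfsg.Agent.Lib.Helper69.PGroup

set_option autoImplicit false
open Cfsg

namespace Cfsg.Agent.S3870

open scoped Pointwise
open Cfsg.Agent.Lib.Helper69

/-- nontrivial `p`-subgroups have proper normalizers -/
theorem normalizer_ne_top {G : Type*} [Group G] [Finite G] [hs : IsSimpleGroup G] {p : ℕ} [Fact p.Prime]
    (hnc : ¬ Cfsg.IsPClosed p G) (R : Subgroup G) (hR : IsPGroup p R) (hR0 : R ≠ ⊥) :
    Subgroup.normalizer (R : Set G) ≠ ⊤ := by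
  rw [Ne, Subgroup.normalizer_eq_top_iff]
  intro hn
  rcases hn.eq_bot_or_eq_top with h | h
  · exact hR0 h
  · apply hnc
    intro P
    have hG : IsPGroup p (⊤ : Subgroup G) := h ▸ hR
    have : (⊤ : Subgroup G) = (P : Subgroup G) := P.is_maximal' hG le_top
    rw [← this]
    infer_instance

/-- For a proper subgroup there is a Sylow subgroup of `G` containing its `p`-subgroups. -/
theorem key {G : Type*} [Group G] [Finite G] {p : ℕ} [Fact p.Prime]
    (hsub : ∀ H : Subgroup G, H ≠ ⊤ → Cfsg.IsPClosed p ↥H) (H : Subgroup G) (hH : H ≠ ⊤) :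
    ∃ (S₀ : Subgroup G) (P₁ : Sylow p G), S₀ ≤ P₁ ∧ (∀ h ∈ H, MulAut.conj h • S₀ = S₀) ∧
      ∀ A : Subgroup G, A ≤ H → IsPGroup p A → A ≤ S₀ := by
  obtain ⟨S₀, -, hS₀p, hconj, hA⟩ := exists_normal_sylow_image (p := p) H (hsub H hH)
  obtain ⟨P₁, hP₁⟩ := hS₀p.exists_le_sylow
  exact ⟨S₀, P₁, hP₁, hconj, hA⟩

theorem ti_aux {G : Type*} [Group G] [Finite G] [IsSimpleGroup G] {p : ℕ} [Fact p.Prime]
    (hnc : ¬ Cfsg.IsPClosed p G) (hsub : ∀ H : Subgroup G, H ≠ ⊤ → Cfsg.IsPClosed p ↥H) :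
    ∀ n : ℕ, ∀ P Q : Sylow p G, P ≠ Q → (P : Subgroup G) ⊓ (Q : Subgroup G) ≠ ⊥ →
      Nat.card G - Nat.card ↥((P : Subgroup G) ⊓ (Q : Subgroup G)) = n → False := by
  intro n
  induction n using Nat.strong_induction_on with
  | _ n ih =>
    intro P Q hPQ hD0 hn
    set D := (P : Subgroup G) ⊓ (Q : Subgroup G) with hD
    have hDp : IsPGroup p D := P.isPGroup'.to_le inf_le_left
    have hN := normalizer_ne_top hnc D hDp hD0
    obtain ⟨S₀, P₁, hSP₁, -, hA⟩ := key hsub _ hN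
    have hDltP : D < (P : Subgroup G) := by
      refine lt_of_le_of_ne inf_le_left ?_
      intro h
      have hle : (P : Subgroup G) ≤ Q := by rw [← h]; exact inf_le_right
      exact hPQ (Sylow.ext (P.is_maximal' Q.isPGroup' hle).symm)
    have hDltQ : D < (Q : Subgroup G) := by
      refine lt_of_le_of_ne inf_le_right ?_
      intro h
      have hle : (Q : Subgroup G) ≤ P := by rw [← h]; exact inf_le_left
      exact hPQ (Sylow.ext (Q.is_maximal' P.isPGroup' hle))
    obtain ⟨x, hxP, hxD, hxN⟩ := exists_mem_normalizer_notMem (P : Subgroup G) D P.isPGroup' hDltP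
    obtain ⟨y, hyQ, hyD, hyN⟩ := exists_mem_normalizer_notMem (Q : Subgroup G) D Q.isPGroup' hDltQ
    -- the two enlarged subgroups
    have hA1 : Subgroup.normalizer (D : Set G) ⊓ (P : Subgroup G) ≤ S₀ :=
      hA _ inf_le_left (P.isPGroup'.to_le inf_le_right)
    have hA2 : Subgroup.normalizer (D : Set G) ⊓ (Q : Subgroup G) ≤ S₀ :=
      hA _ inf_le_left (Q.isPGroup'.to_le inf_le_right)
    have hDS : D ≤ S₀ := le_trans (le_inf Subgroup.le_normalizer inf_le_left) hA1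
    have hxP₁ : x ∈ (P₁ : Subgroup G) := hSP₁ (hA1 ⟨hxN, hxP⟩)
    have hyP₁ : y ∈ (P₁ : Subgroup G) := hSP₁ (hA2 ⟨hyN, hyQ⟩)
    have hDP₁ : D ≤ (P₁ : Subgroup G) := hDS.trans hSP₁
    -- general step
    have step : ∀ (P' : Sylow p G) (z : G), D ≤ (P' : Subgroup G) → z ∈ (P' : Subgroup G) →
        z ∈ (P₁ : Subgroup G) → z ∉ D → P₁ = P' := by
      intro P' z hDP' hzP' hzP₁ hzD
      by_contra hne
      have hlt : D < (P₁ : Subgroup G) ⊓ (P' : Subgroup G) := by
        refine lt_of_le_of_ne (le_inf hDP₁ hDP') ?_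
        intro h
        apply hzD
        rw [h]; exact ⟨hzP₁, hzP'⟩
      have hne0 : (P₁ : Subgroup G) ⊓ (P' : Subgroup G) ≠ ⊥ := by
        intro h
        rw [h] at hlt
        exact not_lt_bot hlt
      have hcard : Nat.card ↥D < Nat.card ↥((P₁ : Subgroup G) ⊓ (P' : Subgroup G)) := by
        have hle := Subgroup.card_le_of_le hlt.le
        rcases hle.lt_or_eq with h | h
        · exact h
        · exact absurd (Subgroup.eq_of_le_of_card_ge hlt.le h.ge) hlt.ne
      have hbound : Nat.card ↥((P₁ : Subgroup G) ⊓ (P' : Subgroup G)) ≤ Nat.card G :=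
        Subgroup.card_le_card_group _
      exact ih (Nat.card G - Nat.card ↥((P₁ : Subgroup G) ⊓ (P' : Subgroup G))) (by omega)
        P₁ P' hne hne0 rfl
    have h1 := step P x inf_le_left hxP hxP₁ hxD
    have h2 := step Q y inf_le_right hyQ hyP₁ hyD
    exact hPQ (h1.symm.trans h2)

theorem result {G : Type*} [Group G] [Finite G] [IsSimpleGroup G] {p : ℕ} [Fact p.Prime]
    (hnc : ¬ Cfsg.IsPClosed p G) (hsub : ∀ H : Subgroup G, H ≠ ⊤ → Cfsg.IsPClosed p ↥H) :
    (∀ P Q : Sylow p G, P ≠ Q → (P : Subgroup G) ⊓ (Q : Subgroup G) = ⊥) ∧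
      ∀ (P : Sylow p G) (R : Subgroup G), R ≤ P → R ≠ ⊥ →
        Subgroup.normalizer (R : Set G) ≤ Subgroup.normalizer ((P : Subgroup G) : Set G) := by
  have hTI : ∀ P Q : Sylow p G, P ≠ Q → (P : Subgroup G) ⊓ (Q : Subgroup G) = ⊥ := by
    intro P Q hPQ
    by_contra h
    exact ti_aux hnc hsub _ P Q hPQ h rfl
  refine ⟨hTI, ?_⟩
  intro P R hRP hR0 g hg
  have hRp : IsPGroup p R := P.isPGroup'.to_le hRP
  have hN := normalizer_ne_top hnc R hRp hR0
  obtain ⟨S₀, P₁, hSP₁, hconj, hA⟩ := key hsub _ hN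
  have hRS : R ≤ S₀ := hA R Subgroup.le_normalizer hRp
  have hP₁P : P₁ = P := by
    by_contra hne
    have := hTI P₁ P hne
    apply hR0
    rw [eq_bot_iff, ← this]
    exact le_inf (hRS.trans hSP₁) hRP
  rw [hP₁P] at hSP₁
  have hgS : MulAut.conj g • S₀ = S₀ := hconj g hg
  have hgP : g • P = P := by
    by_contra hne
    have := hTI (g • P) P hne
    apply hR0
    rw [eq_bot_iff, ← this]
    refine le_inf ?_ hRP
    show R ≤ MulAut.conj g • (P : Subgroup G)
    calc R ≤ S₀ := hRS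
      _ = MulAut.conj g • S₀ := hgS.symm
      _ ≤ MulAut.conj g • (P : Subgroup G) := Subgroup.pointwise_smul_le_pointwise_smul_iff.mpr hSP₁
  exact Sylow.smul_eq_iff_mem_normalizer.mp hgP

end Cfsg.Agent.S3870
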