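import Cfsg.Statements.S3872
import Cfsg.Agent.S4209
import Cfsg.Agent.Lib.Helper75.Regular
import Cfsg.Agent.Lib.Helper97.UniqueOrderP

set_option autoImplicit false
open Cfsg

namespace Cfsg.Agent.S3872

open scoped commutatorElement

/-- strictness of the lower central series of a nilpotent group -/
theorem lcs_strict {G : Type*} [Group G] (hnil : Group.IsNilpotent G) (i : ℕ)
    (hi : (⊤ : Subgroup G).lowerCentralSeries i ≠ ⊥) :
    (⊤ : Subgroup G).lowerCentralSeries (i + 1) < (⊤ : Subgroup G).lowerCentralSeries i := by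
  refine lt_of_le_of_ne (Subgroup.lowerCentralSeries_antitone _ (Nat.le_succ i)) ?_
  intro heq
  have hall : ∀ k, (⊤ : Subgroup G).lowerCentralSeries (i + k) =
      (⊤ : Subgroup G).lowerCentralSeries i := by
    intro k
    induction k with
    | zero => rfl
    | succ k ih =>
      rw [← Nat.add_assoc, Subgroup.lowerCentralSeries_succ, ih, ← Subgroup.lowerCentralSeries_succ,
        heq]
  obtain ⟨n, hn⟩ := Subgroup.nilpotent_iff_lowerCentralSeries.mp hnil
  apply hi
  rw [← hall n]
  exact le_bot_iff.mp (hn ▸ Subgroup.lowerCentralSeries_antitone _ (Nat.le_add_left n i))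

/-- the abelianization of a non-abelian `p`-group has order at least `p ^ 2` -/
theorem sq_le_index_commutator {G : Type*} [Group G] [Finite G] {p : ℕ} [Fact p.Prime]
    (hG : IsPGroup p G) (h1 : (⊤ : Subgroup G).lowerCentralSeries 1 ≠ ⊥) :
    p ^ 2 ≤ (commutator G).index := by
  have hpp : p.Prime := Fact.out
  by_contra hlt
  push Not at hlt
  obtain ⟨k, hk⟩ := hG.index (commutator G)
  have hk1 : k ≤ 1 := by
    by_contra hk2
    push Not at hk2
    have : p ^ 2 ≤ p ^ k := Nat.pow_le_pow_right hpp.pos hk2
    omega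
  have hcyc : IsCyclic (G ⧸ commutator G) := by
    have hcard : Nat.card (G ⧸ commutator G) = p ^ k := by rw [← Subgroup.index_eq_card, hk]
    interval_cases k
    · have : Subsingleton (G ⧸ commutator G) :=
        (Nat.card_eq_one_iff_unique.mp (by simpa using hcard)).1
      exact isCyclic_of_subsingleton
    · exact isCyclic_of_prime_card (by simpa using hcard)
  have hL21 : (⊤ : Subgroup G).lowerCentralSeries 2 ≤ (⊤ : Subgroup G).lowerCentralSeries 1 :=
    Subgroup.lowerCentralSeries_antitone _ (by norm_num)
  let f : G ⧸ (⊤ : Subgroup G).lowerCentralSeries 2 →* G ⧸ commutator G :=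
    QuotientGroup.map _ (commutator G) (MonoidHom.id G) (by
      intro g hg
      exact hL21 hg)
  have hker : f.ker ≤ Subgroup.center (G ⧸ (⊤ : Subgroup G).lowerCentralSeries 2) := by
    intro q hq
    induction q using QuotientGroup.induction_on with
    | H g =>
      rw [MonoidHom.mem_ker] at hq
      have hg : g ∈ commutator G := by
        have : f (QuotientGroup.mk g) = QuotientGroup.mk g := rfl
        rw [this] at hq
        exact (QuotientGroup.eq_one_iff g).mp hq
      rw [Subgroup.mem_center_iff]
      intro r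
      induction r using QuotientGroup.induction_on with
      | H h =>
        rw [← QuotientGroup.mk_mul, ← QuotientGroup.mk_mul, QuotientGroup.eq]
        have : (h * g)⁻¹ * (g * h) = ⁅g⁻¹, h⁻¹⁆ := by
          rw [commutatorElement_def]
          group
        rw [this]
        exact Subgroup.commutator_mem_commutator (Subgroup.inv_mem _ hg) (Subgroup.mem_top _)
  have hcomm := (MonoidHom.isMulCommutative_of_isCyclic_of_ker_le_center f hker)
  have hle : (⊤ : Subgroup G).lowerCentralSeries 1 ≤ (⊤ : Subgroup G).lowerCentralSeries 2 := by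
    show ⁅(⊤ : Subgroup G), ⊤⁆ ≤ _
    rw [Subgroup.commutator_le]
    intro a _ b _
    have hab : (QuotientGroup.mk a : G ⧸ (⊤ : Subgroup G).lowerCentralSeries 2) *
        QuotientGroup.mk b = QuotientGroup.mk b * QuotientGroup.mk a :=
      hcomm.is_comm.comm _ _
    have h2 : (QuotientGroup.mk ⁅a, b⁆ : G ⧸ (⊤ : Subgroup G).lowerCentralSeries 2) = 1 := by
      rw [commutatorElement_def]
      simp only [QuotientGroup.mk_mul, QuotientGroup.mk_inv]
      rw [hab]
      group
    exact (QuotientGroup.eq_one_iff _).mp h2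
  exact (lcs_strict hG.isNilpotent 1 h1).ne (le_antisymm hL21 hle)

/-- Say that a finite group is p-exponent closed when its elements of order dividing p form a subgroup. Let G be a finite p-group that is not p-exponent closed, but all of whose proper subgroups and proper quotients are. Then G is generated by two elements, has nilpotency class at least p, has exponent p², has cyclic center, and has order at least p^(p+1). -/
theorem result {G : Type*} [Group G] [Finite G] {p : ℕ} [Fact p.Prime] (hG : IsPGroup p G)
    (hnc : ¬ (∃ H : Subgroup G, (H : Set G) = {g : G | g ^ p = 1})) (hsub : ∀ K : Subgroup G, K ≠ ⊤ → (∃ H : Subgroup ↥K, (H : Set ↥K) = {g : ↥K | g ^ p = 1}))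
    (hquo : ∀ (N : Subgroup G) [N.Normal], N ≠ ⊥ → (∃ H : Subgroup (G ⧸ N), (H : Set (G ⧸ N)) = {g : (G ⧸ N) | g ^ p = 1})) :
    (∃ x y : G, Subgroup.closure ({x, y} : Set G) = ⊤) ∧ (⊤ : Subgroup G).lowerCentralSeries (p - 1) ≠ ⊥ ∧
      Monoid.exponent G = p ^ 2 ∧ IsCyclic ↥(Subgroup.center G) ∧ p ^ (p + 1) ≤ Nat.card G := by
  classical
  have hpp : p.Prime := Fact.out
  -- Step 0: elements `x, y` of order dividing `p` with `(x y) ^ p ≠ 1`
  obtain ⟨x, y, hx, hy, hxy⟩ : ∃ x y : G, x ^ p = 1 ∧ y ^ p = 1 ∧ (x * y) ^ p ≠ 1 := by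
    by_contra hno
    push Not at hno
    apply hnc
    refine ⟨{ carrier := {g : G | g ^ p = 1}
              mul_mem' := fun {a b} ha hb => hno a b ha hb
              one_mem' := one_pow p
              inv_mem' := fun {a} ha => by
                show (a⁻¹) ^ p = 1
                rw [inv_pow, ha, inv_one] }, rfl⟩
  -- (a) generation
  have hgen : Subgroup.closure ({x, y} : Set G) = ⊤ := by
    by_contra hK
    obtain ⟨H, hH⟩ := hsub _ hK
    have hxK : x ∈ Subgroup.closure ({x, y} : Set G) := Subgroup.subset_closure (by simp)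
    have hyK : y ∈ Subgroup.closure ({x, y} : Set G) := Subgroup.subset_closure (by simp)
    have hxH : (⟨x, hxK⟩ : ↥(Subgroup.closure ({x, y} : Set G))) ∈ H := by
      have : (⟨x, hxK⟩ : ↥(Subgroup.closure ({x, y} : Set G))) ∈ (H : Set _) := by
        rw [hH]
        exact Subtype.ext (by simpa using hx)
      exact this
    have hyH : (⟨y, hyK⟩ : ↥(Subgroup.closure ({x, y} : Set G))) ∈ H := by
      have : (⟨y, hyK⟩ : ↥(Subgroup.closure ({x, y} : Set G))) ∈ (H : Set _) := by
        rw [hH]
        exact Subtype.ext (by simpa using hy)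
      exact this
    have hm := H.mul_mem hxH hyH
    have hm' : ((⟨x, hxK⟩ : ↥(Subgroup.closure ({x, y} : Set G))) * ⟨y, hyK⟩) ∈ (H : Set _) := hm
    rw [hH] at hm'
    have := congrArg (fun t : ↥(Subgroup.closure ({x, y} : Set G)) => (t : G)) hm'
    exact hxy (by simpa using this)
  -- (b) the class is at least `p`
  have hclass : (⊤ : Subgroup G).lowerCentralSeries (p - 1) ≠ ⊥ := by
    intro hcl
    have hreg := Cfsg.Agent.S4209.result hG hcl
    have hpe := Cfsg.Agent.Lib.Helper75.powEqIff_of_regular hreg
    have := hpe.mul_pow_eq_one (k := 1) (x := x) (y := y) (by simpa using hx) (by simpa using hy)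
    exact hxy (by simpa using this)
  -- quotients by nontrivial normal subgroups have exponent `p`
  have hquoexp : ∀ (N : Subgroup G) [N.Normal], N ≠ ⊥ → ∀ g : G, g ^ p ∈ N := by
    intro N _ hN g
    obtain ⟨H, hH⟩ := hquo N hN
    have hxH : (QuotientGroup.mk x : G ⧸ N) ∈ H := by
      have : (QuotientGroup.mk x : G ⧸ N) ∈ (H : Set _) := by
        rw [hH]
        show (QuotientGroup.mk x : G ⧸ N) ^ p = 1
        rw [← QuotientGroup.mk_pow, hx, QuotientGroup.mk_one]
      exact this
    have hyH : (QuotientGroup.mk y : G ⧸ N) ∈ H := by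
      have : (QuotientGroup.mk y : G ⧸ N) ∈ (H : Set _) := by
        rw [hH]
        show (QuotientGroup.mk y : G ⧸ N) ^ p = 1
        rw [← QuotientGroup.mk_pow, hy, QuotientGroup.mk_one]
      exact this
    have hall : ∀ g : G, g ∈ Subgroup.closure ({x, y} : Set G) → (QuotientGroup.mk g : G ⧸ N) ∈ H := by
      intro g hg
      induction hg using Subgroup.closure_induction with
      | mem z hz =>
        rcases hz with rfl | rfl
        · exact hxH
        · exact hyH
      | one => exact H.one_mem
      | mul a b _ _ iha ihb => rw [QuotientGroup.mk_mul]; exact H.mul_mem iha ihb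
      | inv a _ iha => rw [QuotientGroup.mk_inv]; exact H.inv_mem iha
    have hgH : (QuotientGroup.mk g : G ⧸ N) ∈ (H : Set _) := hall g (by rw [hgen]; exact Subgroup.mem_top g)
    rw [hH] at hgH
    have h1 : (QuotientGroup.mk g : G ⧸ N) ^ p = 1 := hgH
    rw [← QuotientGroup.mk_pow] at h1
    exact (QuotientGroup.eq_one_iff _).mp h1
  -- `G` is nontrivial
  have hnt : Nontrivial G := by
    refine ⟨⟨x * y, 1, ?_⟩⟩
    intro h
    apply hxy
    rw [h, one_pow]
  -- central subgroups of order `p`
  have hcentral : ∀ z : G, z ∈ Subgroup.center G → z ≠ 1 → ∀ g : G, g ^ p ∈ Subgroup.zpowers z := by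
    intro z hz hz1 g
    have hn : (Subgroup.zpowers z).Normal := by
      constructor
      intro n hn a
      obtain ⟨k, rfl⟩ := hn
      have hc : a * z ^ k = z ^ k * a :=
        ((Subgroup.mem_center_iff.mp ((Subgroup.center G).zpow_mem hz k)) a)
      rw [hc, mul_inv_cancel_right]
      exact ⟨k, rfl⟩
    have hne : Subgroup.zpowers z ≠ ⊥ := by
      intro h
      apply hz1
      have : z ∈ Subgroup.zpowers z := Subgroup.mem_zpowers z
      rw [h] at this
      exact Subgroup.mem_bot.mp this
    exact hquoexp _ hne g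
  -- a central element of order `p`
  obtain ⟨z, hzc, hzo⟩ : ∃ z : G, z ∈ Subgroup.center G ∧ orderOf z = p := by
    have := hG.center_nontrivial
    have hZp : IsPGroup p (Subgroup.center G) := hG.to_subgroup _
    obtain ⟨n, hn⟩ := IsPGroup.iff_card.mp hZp
    have hn0 : n ≠ 0 := by
      rintro rfl
      have : Nat.card (Subgroup.center G) = 1 := by simpa using hn
      have hsub := (Nat.card_eq_one_iff_unique.mp this).1
      exact not_subsingleton _ hsub
    have hdvd : p ∣ Nat.card (Subgroup.center G) := by
      rw [hn]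
      exact dvd_pow_self p hn0
    have : Fintype (Subgroup.center G) := Fintype.ofFinite _
    rw [Nat.card_eq_fintype_card] at hdvd
    obtain ⟨w, hw⟩ := exists_prime_orderOf_dvd_card p hdvd
    refine ⟨(w : G), w.2, ?_⟩
    rw [← hw]
    exact (Subgroup.orderOf_coe w)
  have hz1 : z ≠ 1 := by
    intro h
    rw [h, orderOf_one] at hzo
    exact hpp.one_lt.ne hzo
  have hzp : z ^ p = 1 := by rw [← hzo]; exact pow_orderOf_eq_one z
  -- (c) exponent
  have hexp2 : ∀ g : G, g ^ (p ^ 2) = 1 := by
    intro g
    obtain ⟨k, hk⟩ := hcentral z hzc hz1 g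
    rw [pow_two, pow_mul, ← hk, ← zpow_natCast, ← zpow_mul, mul_comm, zpow_mul, zpow_natCast, hzp,
      one_zpow]
  have hexp : Monoid.exponent G = p ^ 2 := by
    have hd := Monoid.exponent_dvd_of_forall_pow_eq_one hexp2
    obtain ⟨k, hk2, hk⟩ := (Nat.dvd_prime_pow hpp).mp hd
    have hk2' : k = 2 := by
      by_contra hne
      have hk1 : k ≤ 1 := by omega
      have hdp : Monoid.exponent G ∣ p := by
        rw [hk]
        calc p ^ k ∣ p ^ 1 := pow_dvd_pow p hk1
          _ = p := pow_one p
      apply hxy
      obtain ⟨m, hm⟩ := hdp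
      rw [hm, pow_mul, Monoid.pow_exponent_eq_one, one_pow]
    rw [hk, hk2']
  -- (d) cyclic centre
  have hcyc : IsCyclic ↥(Subgroup.center G) := by
    apply Cfsg.Agent.Lib.Helper97.isCyclic_of_comm_of_uniqueOrderP (hG.to_subgroup _)
    · intro a b
      exact Subtype.ext (by
        have := Subgroup.mem_center_iff.mp b.2 (a : G)
        simpa using this)
    · intro z1 z2 hz1o hz2o
      have hz1o' : orderOf (z1 : G) = p := by rw [Subgroup.orderOf_coe]; exact hz1o
      have hz2o' : orderOf (z2 : G) = p := by rw [Subgroup.orderOf_coe]; exact hz2o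
      have hz1ne : (z1 : G) ≠ 1 := by
        intro h
        rw [h, orderOf_one] at hz1o'
        exact hpp.one_lt.ne hz1o'
      have hz2ne : (z2 : G) ≠ 1 := by
        intro h
        rw [h, orderOf_one] at hz2o'
        exact hpp.one_lt.ne hz2o'
      set w : G := (x * y) ^ p with hw
      have hw1 : w ∈ Subgroup.zpowers (z1 : G) := hcentral _ z1.2 hz1ne _
      have hw2 : w ∈ Subgroup.zpowers (z2 : G) := hcentral _ z2.2 hz2ne _
      have hwp : w ^ p = 1 := by
        obtain ⟨k, hk⟩ := hw1
        rw [← hk, ← zpow_natCast, ← zpow_mul, mul_comm, zpow_mul, zpow_natCast, ← hz1o',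
          pow_orderOf_eq_one, one_zpow]
      have hwo : orderOf w = p := orderOf_eq_prime hwp hxy
      have heq : Subgroup.zpowers w = Subgroup.zpowers (z2 : G) := by
        apply Subgroup.eq_of_le_of_card_ge (Subgroup.zpowers_le.mpr hw2)
        rw [Nat.card_zpowers, Nat.card_zpowers, hwo, hz2o']
      have h3 : (z2 : G) ∈ Subgroup.zpowers (z1 : G) := by
        have : (z2 : G) ∈ Subgroup.zpowers w := by rw [heq]; exact Subgroup.mem_zpowers _
        exact (Subgroup.zpowers_le.mpr hw1) this
      obtain ⟨k, hk⟩ := h3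
      exact ⟨k, Subtype.ext (by simpa using hk)⟩
  -- (e) the order
  have hord : p ^ (p + 1) ≤ Nat.card G := by
    have hnil : Group.IsNilpotent G := hG.isNilpotent
    have hp2 : 2 ≤ p := hpp.two_le
    have hne : ∀ i, i ≤ p - 1 → (⊤ : Subgroup G).lowerCentralSeries i ≠ ⊥ := by
      intro i hi h
      apply hclass
      exact le_bot_iff.mp (h ▸ Subgroup.lowerCentralSeries_antitone _ hi)
    have hstep : ∀ i, i ≤ p - 1 → p * Nat.card ((⊤ : Subgroup G).lowerCentralSeries (i + 1)) ≤
        Nat.card ((⊤ : Subgroup G).lowerCentralSeries i) := by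
      intro i hi
      have hlt := lcs_strict hnil i (hne i hi)
      obtain ⟨a, ha⟩ := IsPGroup.iff_card.mp (hG.to_subgroup ((⊤ : Subgroup G).lowerCentralSeries i))
      obtain ⟨b, hb⟩ := IsPGroup.iff_card.mp
        (hG.to_subgroup ((⊤ : Subgroup G).lowerCentralSeries (i + 1)))
      have hba : b < a := by
        by_contra hge
        push Not at hge
        have hcard : Nat.card ((⊤ : Subgroup G).lowerCentralSeries i) ≤
            Nat.card ((⊤ : Subgroup G).lowerCentralSeries (i + 1)) := by
          rw [ha, hb]
          exact Nat.pow_le_pow_right hpp.pos hge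
        exact hlt.ne (Subgroup.eq_of_le_of_card_ge hlt.le hcard)
      rw [ha, hb, ← pow_succ']
      exact Nat.pow_le_pow_right hpp.pos hba
    have hchain : ∀ k, k ≤ p - 1 → p ^ (k + 1) ≤
        Nat.card ((⊤ : Subgroup G).lowerCentralSeries (p - 1 - k)) := by
      intro k
      induction k with
      | zero =>
        intro _
        obtain ⟨a, ha⟩ := IsPGroup.iff_card.mp
          (hG.to_subgroup ((⊤ : Subgroup G).lowerCentralSeries (p - 1)))
        have ha0 : a ≠ 0 := by
          rintro rfl
          apply hclass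
          rw [pow_zero] at ha
          exact (Subgroup.card_eq_one).mp ha
        rw [Nat.sub_zero, ha]
        exact Nat.pow_le_pow_right hpp.pos (by omega)
      | succ k ih =>
        intro hk
        have h1 := ih (by omega)
        have h2 := hstep (p - 1 - (k + 1)) (by omega)
        rw [show p - 1 - (k + 1) + 1 = p - 1 - k by omega] at h2
        calc p ^ (k + 1 + 1) = p * p ^ (k + 1) := by rw [pow_succ']
          _ ≤ p * Nat.card ((⊤ : Subgroup G).lowerCentralSeries (p - 1 - k)) :=
            Nat.mul_le_mul_left p h1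
          _ ≤ _ := h2
    have hL1 := hchain (p - 2) (by omega)
    rw [show p - 1 - (p - 2) = 1 by omega, show p - 2 + 1 = p - 1 by omega] at hL1
    have hidx := sq_le_index_commutator hG (hne 1 (by omega))
    have hmul := Subgroup.card_mul_index (commutator G)
    have hL1' : p ^ (p - 1) ≤ Nat.card (commutator G) := hL1
    calc p ^ (p + 1) = p ^ (p - 1) * p ^ 2 := by
          rw [← pow_add]
          congr 1
          omega
      _ ≤ Nat.card (commutator G) * (commutator G).index := Nat.mul_le_mul hL1' hidx
      _ = Nat.card G := hmul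
  exact ⟨⟨x, y, hgen⟩, hclass, hexp, hcyc, hord⟩

end Cfsg.Agent.S3872
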