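import Cfsg.Statements.S3873
import Cfsg.Agent.Lib.Helper69.PClosed

set_option autoImplicit false
open Cfsg

namespace Cfsg.Agent.S3873

open Cfsg.Agent.Lib.Helper69

/-- every `p`-element has order dividing `p` -/
def PExp (p : ℕ) (H : Type*) [Group H] : Prop := ∀ g : H, ∀ k : ℕ, g ^ (p ^ k) = 1 → g ^ p = 1

theorem isPGroup_zpowers {p : ℕ} {H : Type*} [Group H] (g : H) (k : ℕ) (hg : g ^ (p ^ k) = 1) :
    IsPGroup p ↥(Subgroup.zpowers g) := by
  rintro ⟨x, hx⟩
  obtain ⟨n, rfl⟩ := Subgroup.mem_zpowers_iff.mp hx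
  refine ⟨k, Subtype.ext ?_⟩
  simp only [Subgroup.coe_pow, Subgroup.coe_one]
  rw [← zpow_natCast, ← zpow_mul, mul_comm, zpow_mul, zpow_natCast, hg, one_zpow]

theorem closed_iff {p : ℕ} [Fact p.Prime] {H : Type*} [Group H] [Finite H] (hD : PExp p H) :
    (∃ K : Subgroup H, (K : Set H) = {g : H | g ^ p = 1}) ↔
      ∀ P : Sylow p H, (P : Subgroup H).Normal := by
  constructor
  · rintro ⟨K, hK⟩ P
    have hKmem : ∀ g, g ∈ K ↔ g ^ p = 1 := by
      intro g
      rw [← SetLike.mem_coe, hK]
      rfl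
    have hPK : (P : Subgroup H) ≤ K := by
      intro x hx
      rw [hKmem]
      obtain ⟨k, hk⟩ := P.2 ⟨x, hx⟩
      apply hD x k
      have := congrArg Subtype.val hk
      simpa using this
    have hKp : IsPGroup p ↥K := by
      rintro ⟨x, hx⟩
      refine ⟨1, Subtype.ext ?_⟩
      rw [pow_one]
      simpa using (hKmem x).mp hx
    have hKP : K = P := P.is_maximal' hKp hPK
    rw [← hKP]
    refine ⟨fun n hn g => ?_⟩
    rw [hKmem] at hn ⊢
    rw [conj_pow, hn, mul_one, mul_inv_cancel]
  · intro hall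
    obtain P : Sylow p H := default
    refine ⟨P, ?_⟩
    ext g
    simp only [SetLike.mem_coe, Set.mem_ofPred_eq]
    constructor
    · intro hg
      obtain ⟨k, hk⟩ := P.2 ⟨g, hg⟩
      apply hD g k
      have := congrArg Subtype.val hk
      simpa using this
    · intro hg
      have hz := isPGroup_zpowers (p := p) g 1 (by rwa [pow_one])
      obtain ⟨P', hP'⟩ := hz.exists_le_sylow
      obtain ⟨x, rfl⟩ := MulAction.exists_smul_eq H P P'
      haveI := hall P
      rw [Sylow.smul_eq_of_normal] at hP'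
      exact hP' (Subgroup.mem_zpowers g)

theorem pexp_subgroup {p : ℕ} {H : Type*} [Group H] (hD : PExp p H) (K : Subgroup H) :
    PExp p ↥K := by
  intro g k hg
  apply Subtype.ext
  have := hD (g : H) k (by simpa using congrArg Subtype.val hg)
  simpa using this

theorem pexp_quotient {p : ℕ} [Fact p.Prime] {H : Type*} [Group H] [Finite H] (hD : PExp p H)
    (M : Subgroup H) [M.Normal] : PExp p (H ⧸ M) := by
  intro x k hx
  have hz := isPGroup_zpowers (p := p) x k hx
  obtain ⟨Q, hQ⟩ := hz.exists_le_sylow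
  obtain ⟨P, rfl⟩ := Sylow.mapSurjective_surjective (QuotientGroup.mk'_surjective M) p Q
  have hxQ := hQ (Subgroup.mem_zpowers x)
  rw [Sylow.coe_mapSurjective] at hxQ
  obtain ⟨g, hg, rfl⟩ := Subgroup.mem_map.mp hxQ
  obtain ⟨j, hj⟩ := P.2 ⟨g, hg⟩
  have hgp : g ^ p = 1 := by
    apply hD g j
    simpa using congrArg Subtype.val hj
  rw [← map_pow, hgp, map_one]

/-- Say that a finite group is p-exponent closed when its elements of order dividing p form a subgroup. Let G be a finite group that is not p-exponent closed, but all of whose proper subgroups and proper quotients are, and suppose G is neither simple nor a p-group. Then there is a prime q ≠ p such that G has order p · q^e, where e is the multiplicative order of q modulo p, and G has a normal elementary abelian subgroup of order q^e that is a minimal normal subgroup of G. -/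
theorem result {G : Type*} [Group G] [Finite G] {p : ℕ} [Fact p.Prime]
    (hnc : ¬ (∃ H : Subgroup G, (H : Set G) = {g : G | g ^ p = 1})) (hsub : ∀ K : Subgroup G, K ≠ ⊤ → (∃ H : Subgroup ↥K, (H : Set ↥K) = {g : ↥K | g ^ p = 1}))
    (hquo : ∀ (N : Subgroup G) [N.Normal], N ≠ ⊥ → (∃ H : Subgroup (G ⧸ N), (H : Set (G ⧸ N)) = {g : (G ⧸ N) | g ^ p = 1}))
    (hns : ¬ IsSimpleGroup G) (hnp : ¬ IsPGroup p G) :
    ∃ q : ℕ, q.Prime ∧ q ≠ p ∧ Nat.card G = p * q ^ orderOf (q : ZMod p) ∧
      ∃ A : Subgroup G, A.Normal ∧ Nat.card ↥A = q ^ orderOf (q : ZMod p) ∧ Cfsg.IsElementaryAbelian q A ∧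
        ∀ B : Subgroup G, B.Normal → B ≤ A → B = ⊥ ∨ B = A := by
  haveI : Nontrivial G := by
    by_contra hnt
    rw [not_nontrivial_iff_subsingleton] at hnt
    apply hnp
    intro g
    exact ⟨0, Subsingleton.elim _ _⟩
  obtain ⟨N₀, hN₀n, hN₀b, hN₀t⟩ := exists_normal_ne_bot_ne_top hns
  obtain ⟨N, hNn, hNb, hNN₀, hmin⟩ := exists_minimal_normal_le N₀ hN₀n hN₀b
  have hNt : N ≠ ⊤ := by
    rintro rfl
    exact hN₀t (top_le_iff.mp hNN₀)
  -- Step B: `g ^ p ∈ N` for all `g`
  have hB : ∀ g : G, g ^ p ∈ N := by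
    obtain ⟨T', hT'⟩ := hquo N hNb
    have hT'mem : ∀ x, x ∈ T' ↔ x ^ p = 1 := by
      intro x
      rw [← SetLike.mem_coe, hT']
      rfl
    set T := T'.comap (QuotientGroup.mk' N) with hT
    have hTmem : ∀ g, g ∈ T ↔ g ^ p ∈ N := by
      intro g
      rw [hT, Subgroup.mem_comap, hT'mem, ← map_pow, QuotientGroup.mk'_apply,
        QuotientGroup.eq_one_iff]
    by_cases hTt : T = ⊤
    · intro g
      rw [← hTmem, hTt]
      exact Subgroup.mem_top g
    · exfalso
      obtain ⟨H, hH⟩ := hsub T hTt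
      apply hnc
      refine ⟨H.map T.subtype, ?_⟩
      ext g
      simp only [Subgroup.coe_map, Subgroup.coe_subtype, Set.mem_image, SetLike.mem_coe,
        Set.mem_ofPred_eq]
      constructor
      · rintro ⟨x, hx, rfl⟩
        have : x ∈ (H : Set ↥T) := hx
        rw [hH] at this
        have := congrArg Subtype.val this
        simpa using this
      · intro hg
        have hgT : g ∈ T := by
          rw [hTmem, hg]
          exact N.one_mem
        refine ⟨⟨g, hgT⟩, ?_, rfl⟩
        have : (⟨g, hgT⟩ : ↥T) ∈ (H : Set ↥T) := by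
          rw [hH]
          exact Subtype.ext (by simpa using hg)
        exact this
  -- Step C: no elements of order `p` in `N`
  have hC : ∀ n ∈ N, n ^ p = 1 → n = 1 := by
    obtain ⟨H, hH⟩ := hsub N hNt
    have hHmem : ∀ x : ↥N, x ∈ H ↔ x ^ p = 1 := by
      intro x
      rw [← SetLike.mem_coe, hH]
      rfl
    set Ω := H.map N.subtype with hΩ
    have hΩmem : ∀ g, g ∈ Ω ↔ g ∈ N ∧ g ^ p = 1 := by
      intro g
      rw [hΩ, Subgroup.mem_map]
      constructor
      · rintro ⟨x, hx, rfl⟩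
        refine ⟨x.2, ?_⟩
        have := congrArg Subtype.val ((hHmem x).mp hx)
        simpa using this
      · rintro ⟨hgN, hg⟩
        exact ⟨⟨g, hgN⟩, (hHmem _).mpr (Subtype.ext (by simpa using hg)), rfl⟩
    have hΩn : Ω.Normal := by
      refine ⟨fun n hn g => ?_⟩
      rw [hΩmem] at hn ⊢
      refine ⟨hNn.conj_mem n hn.1 g, ?_⟩
      rw [conj_pow, hn.2, mul_one, mul_inv_cancel]
    have hΩN : Ω ≤ N := fun g hg => ((hΩmem g).mp hg).1
    rcases hmin Ω hΩn hΩN with h1 | h1
    · intro n hn hnp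
      have : n ∈ Ω := (hΩmem n).mpr ⟨hn, hnp⟩
      rw [h1, Subgroup.mem_bot] at this
      exact this
    · exfalso
      apply hnp
      intro g
      refine ⟨2, ?_⟩
      have h2 : g ^ p ∈ Ω := by rw [h1]; exact hB g
      have := ((hΩmem _).mp h2).2
      rw [pow_two, pow_mul]
      exact this
  -- Step D
  have hD : PExp p G := by
    intro g k hg
    have key : ∀ j : ℕ, ∀ y ∈ N, y ^ (p ^ j) = 1 → y = 1 := by
      intro j
      induction j with
      | zero => intro y _ hy; simpa using hy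
      | succ j ih =>
        intro y hy hyj
        apply ih y hy
        apply hC _ (N.pow_mem hy _)
        rw [← pow_mul, ← pow_succ]
        exact hyj
    apply key k _ (hB g)
    rw [← pow_mul, mul_comm, pow_mul, hg, one_pow]
  -- Step F
  have h : MinNonPClosed p G := by
    refine ⟨?_, ?_, ?_⟩
    · intro hall
      exact hnc ((closed_iff hD).mpr hall)
    · intro K hK
      exact (closed_iff (pexp_subgroup hD K)).mp (hsub K hK)
    · intro M _ hM
      exact (closed_iff (pexp_quotient hD M)).mp (hquo M hM)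
  obtain ⟨q, hq, hqp, hcard, A, hAn, hcardA, ⟨hcomm, hexp⟩, hmin'⟩ := h.structure_thm hns
  refine ⟨q, hq, hqp, hcard, A, hAn, hcardA, ⟨⟨⟨fun a b => ?_⟩⟩, hexp⟩, hmin'⟩
  exact Subtype.ext (hcomm a a.2 b b.2)

end Cfsg.Agent.S3873
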