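import Cfsg.Statements.S3880
import Cfsg.Agent.Lib.Helper68.MetaExists
import Cfsg.Agent.Lib.Helper68.MetaSub

set_option autoImplicit false
open Cfsg

namespace Cfsg.Agent.S3880

theorem arith_aux {a b c d : ℕ} (h : a * b = c * d) (ha : 0 < a) (hc : 0 < c) : a ≤ d ↔ c ≤ b := by
  constructor
  · intro h1
    by_contra h2
    rw [not_le] at h2
    have : a * b < c * d := by
      calc a * b < a * c := Nat.mul_lt_mul_of_pos_left h2 ha
        _ = c * a := mul_comm _ _
        _ ≤ c * d := Nat.mul_le_mul_left _ h1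
    omega
  · intro h1
    by_contra h2
    rw [not_le] at h2
    have : c * d < a * b := by
      calc c * d < c * a := Nat.mul_lt_mul_of_pos_left h2 hc
        _ = a * c := mul_comm _ _
        _ ≤ a * b := Nat.mul_le_mul_left _ h1
    omega

/-- Let p be an odd prime and G a finite metacyclic p-group (G has a cyclic normal subgroup with cyclic quotient). Then a subgroup L of G is abelian if and only if |L| ≤ |G : G'|, and L is a maximal abelian subgroup of G if and only if |L| = |G : G'|. -/
theorem result {G : Type*} [Group G] [Finite G] {p : ℕ} [Fact p.Prime] (hp : p ≠ 2) (hG : IsPGroup p G) (hmc : Cfsg.IsMetacyclic G) (L : Subgroup G) :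
    (IsMulCommutative ↥L ↔ Nat.card ↥L ≤ (commutator G).index) ∧
      (Maximal (fun K : Subgroup G => IsMulCommutative ↥K) L ↔ Nat.card ↥L = (commutator G).index) := by
  have hpp : p.Prime := Fact.out
  have hodd : Odd p := hpp.odd_of_ne_two hp
  obtain ⟨N, hNn, hNc, hQc⟩ := hmc
  obtain ⟨D⟩ := Cfsg.Agent.Lib.Helper68.MC.exists_data hG N hNc hQc
  have hcomm : ∀ K : Subgroup G, IsMulCommutative ↥K ↔ Nat.card ↥K ≤ (commutator G).index := by
    intro K
    rw [Cfsg.Agent.Lib.Helper68.MC.Data.comm_iff_index (D := D) hodd K]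
    have h1 := Subgroup.card_mul_index K
    have h2 := Subgroup.card_mul_index (commutator G)
    rw [D.card_commutator] at h2
    have h3 : Nat.card ↥K * K.index = p ^ D.n * (commutator G).index := by rw [h1, h2]
    have hidx : 0 < (commutator G).index := Nat.pos_of_ne_zero Subgroup.index_ne_zero_of_finite
    exact (arith_aux h3 Nat.card_pos (pow_pos hpp.pos _)).symm
  refine ⟨hcomm L, ?_⟩
  rw [maximal_iff_forall_gt]
  constructor
  · rintro ⟨hLab, hmax⟩
    have hle := (hcomm L).mp hLab
    by_contra hne
    have hlt : Nat.card ↥L < (commutator G).index := lt_of_le_of_ne hle hne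
    obtain ⟨k, hk⟩ := IsPGroup.iff_card.mp hG
    obtain ⟨c, hc⟩ := IsPGroup.iff_card.mp (hG.to_subgroup L)
    have hidx_dvd : (commutator G).index ∣ p ^ k := by rw [← hk]; exact Subgroup.index_dvd_card _
    obtain ⟨c', hc'k, hc'⟩ := (Nat.dvd_prime_pow hpp).mp hidx_dvd
    rw [hc, hc'] at hlt
    have hcc' : c < c' := (Nat.pow_lt_pow_iff_right hpp.one_lt).mp hlt
    have hdvd : p ^ (c + 1) ∣ Nat.card G := by
      rw [hk]; exact pow_dvd_pow _ (by omega)
    obtain ⟨K, hK, hLK⟩ := Sylow.exists_subgroup_card_pow_succ hdvd hc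
    have hKab : IsMulCommutative ↥K := by
      rw [hcomm K, hK, hc']
      exact Nat.pow_le_pow_right hpp.pos (by omega)
    have hLltK : L < K := by
      refine lt_of_le_of_ne hLK ?_
      intro h
      rw [h, hK] at hc
      exact absurd (Nat.pow_right_injective hpp.two_le hc) (by omega)
    exact hmax hLltK hKab
  · intro h
    refine ⟨(hcomm L).mpr h.le, ?_⟩
    intro K hLK hKab
    have h1 := (hcomm K).mp hKab
    rw [← h] at h1
    have : K ≤ L := by
      have h2 := Subgroup.eq_of_le_of_card_ge hLK.le h1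
      rw [h2]
    exact absurd (lt_of_lt_of_le hLK this) (lt_irrefl _)

end Cfsg.Agent.S3880
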