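import Cfsg.Statements.S3881
import Cfsg.Agent.Lib.Helper68.MetaExists
import Cfsg.Agent.Lib.Helper68.MetaIndex

set_option autoImplicit false
open Cfsg

namespace Cfsg.Agent.S3881

/-- Let p be an odd prime and G a finite metacyclic p-group (G has a cyclic normal subgroup with cyclic quotient). Suppose G is non-abelian with |G'| = p^n. Then for 1 ≤ i ≤ n the number of elements of G whose conjugacy class has exactly p^i elements is |Z(G)| · (p^(2i) − p^(2i−2)). -/
theorem result {G : Type*} [Group G] [Finite G] {p : ℕ} [Fact p.Prime] (hp : p ≠ 2) (hG : IsPGroup p G) (hmc : Cfsg.IsMetacyclic G) (n : ℕ) (hn : n ≠ 0) (hGn : Nat.card ↥(commutator G) = p ^ n) (i : ℕ) (hi : 1 ≤ i) (hin : i ≤ n) :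
    Nat.card {g : G // (Subgroup.centralizer ({g} : Set G)).index = p ^ i} =
      Nat.card ↥(Subgroup.center G) * (p ^ (2 * i) - p ^ (2 * i - 2)) := by
  have hpp : p.Prime := Fact.out
  have hodd : Odd p := hpp.odd_of_ne_two hp
  obtain ⟨N, hNn, hNc, hQc⟩ := hmc
  obtain ⟨D⟩ := Cfsg.Agent.Lib.Helper68.MC.exists_data hG N hNc hQc
  have hDn : D.n = n := by
    have h1 := D.card_commutator
    rw [hGn] at h1
    exact (Nat.pow_right_injective hpp.two_le h1).symm
  subst hDn
  have hs1 : D.n - i ≤ D.n := Nat.sub_le _ _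
  have hs2 : D.n - i + 1 ≤ D.n := by omega
  have hA := D.index_centralizer_le_iff hodd hs1
  have hB := D.index_centralizer_le_iff hodd hs2
  have e1 : D.n - (D.n - i) = i := by omega
  have e2 : D.n - (D.n - i + 1) = i - 1 := by omega
  rw [e1] at hA
  rw [e2] at hB
  obtain ⟨k, hk⟩ := IsPGroup.iff_card.mp hG
  have hiff : ∀ g : G, (Subgroup.centralizer ({g} : Set G)).index = p ^ i ↔
      g ∈ ((Cfsg.Agent.Lib.Helper68.MC.Data.lev G p (D.n - i) : Subgroup G) : Set G) \
        ((Cfsg.Agent.Lib.Helper68.MC.Data.lev G p (D.n - i + 1) : Subgroup G) : Set G) := by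
    intro g
    rw [Set.mem_sdiff, SetLike.mem_coe, SetLike.mem_coe, ← hA, ← hB]
    constructor
    · intro h
      rw [h]
      refine ⟨le_rfl, ?_⟩
      rw [not_le]
      exact Nat.pow_lt_pow_right hpp.one_lt (by omega)
    · rintro ⟨h1, h2⟩
      have hdvd : (Subgroup.centralizer ({g} : Set G)).index ∣ p ^ k := by
        rw [← hk]; exact Subgroup.index_dvd_card _
      obtain ⟨c, -, hc⟩ := (Nat.dvd_prime_pow hpp).mp hdvd
      rw [hc] at h1 h2 ⊢
      have h3 : c ≤ i := (Nat.pow_le_pow_iff_right hpp.one_lt).mp h1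
      have h4 : ¬ c ≤ i - 1 := fun h => h2 (Nat.pow_le_pow_right hpp.pos h)
      congr 1; omega
  rw [Nat.card_congr (Equiv.subtypeEquivRight hiff)]
  rw [Nat.card_coe_set_eq, Set.ncard_sdiff
    (SetLike.coe_subset_coe.mpr (Cfsg.Agent.Lib.Helper68.MC.Data.lev_anti (by omega)))
    (Set.toFinite _)]
  rw [← Nat.card_coe_set_eq, ← Nat.card_coe_set_eq]
  have c1 := D.card_lev hodd hs1
  have c2 := D.card_lev hodd hs2
  rw [e1] at c1
  rw [e2] at c2
  have e3 : 2 * (i - 1) = 2 * i - 2 := by omega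
  rw [e3] at c2
  change Nat.card ↥(Cfsg.Agent.Lib.Helper68.MC.Data.lev G p (D.n - i)) -
    Nat.card ↥(Cfsg.Agent.Lib.Helper68.MC.Data.lev G p (D.n - i + 1)) = _
  rw [c1, c2, Nat.mul_sub]

end Cfsg.Agent.S3881
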