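import Cfsg.Statements.S3883
import Cfsg.Agent.Lib.Helper68.MetaExists
import Cfsg.Agent.Lib.Helper68.MetaFrat

set_option autoImplicit false
open Cfsg

namespace Cfsg.Agent.S3883

/-- Let p be an odd prime and G a finite metacyclic p-group (G has a cyclic normal subgroup with cyclic quotient). Suppose G is non-abelian. Then an element g of G lies outside the Frattini subgroup if and only if its centralizer C_G(g) is abelian. -/
theorem result {G : Type*} [Group G] [Finite G] {p : ℕ} [Fact p.Prime] (hp : p ≠ 2) (hG : IsPGroup p G) (hmc : Cfsg.IsMetacyclic G) (hna : ¬ IsMulCommutative G) (g : G) :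
    g ∉ frattini G ↔ IsMulCommutative ↥(Subgroup.centralizer ({g} : Set G)) := by
  have hpp : p.Prime := Fact.out
  have hodd : Odd p := hpp.odd_of_ne_two hp
  obtain ⟨N, hNn, hNc, hQc⟩ := hmc
  obtain ⟨D⟩ := Cfsg.Agent.Lib.Helper68.MC.exists_data hG N hNc hQc
  have hn1 : 1 ≤ D.n := D.one_le_n_of_not_comm hodd hna
  rw [D.frattini_eq_lev hG, ← D.index_centralizer_le_iff hodd hn1,
    Cfsg.Agent.Lib.Helper68.MC.Data.comm_iff_index (D := D) hodd]
  have hle : (Subgroup.centralizer ({g} : Set G)).index ≤ p ^ (D.n - 0) := by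
    rw [D.index_centralizer_le_iff hodd (Nat.zero_le _), Cfsg.Agent.Lib.Helper68.MC.Data.lev_zero]
    exact Subgroup.mem_top _
  obtain ⟨k, hk⟩ := IsPGroup.iff_card.mp hG
  have hdvd : (Subgroup.centralizer ({g} : Set G)).index ∣ p ^ k := by
    rw [← hk]; exact Subgroup.index_dvd_card _
  obtain ⟨c, -, hc⟩ := (Nat.dvd_prime_pow hpp).mp hdvd
  rw [hc] at hle ⊢
  rw [Nat.pow_le_pow_iff_right hpp.one_lt, Nat.pow_le_pow_iff_right hpp.one_lt]
  rw [Nat.pow_le_pow_iff_right hpp.one_lt] at hle
  omega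

end Cfsg.Agent.S3883
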