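import Cfsg.Statements.S3885
import Cfsg.Agent.Lib.Helper68.MetaExists
import Cfsg.Agent.Lib.Helper68.MetaCD

set_option autoImplicit false
open Cfsg

namespace Cfsg.Agent.S3885

/-- Let p be an odd prime and G a finite metacyclic p-group (G has a cyclic normal subgroup with cyclic quotient). Then every abelian subgroup K of G containing the center of G is the center of its own centralizer: K = Z(C_G(K)). -/
theorem result {G : Type*} [Group G] [Finite G] {p : ℕ} [Fact p.Prime] (hp : p ≠ 2) (hG : IsPGroup p G) (hmc : Cfsg.IsMetacyclic G) (K : Subgroup G) (hK : IsMulCommutative ↥K) (hZ : Subgroup.center G ≤ K) :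
    K = Subgroup.centralizer (K : Set G) ⊓ Subgroup.centralizer (Subgroup.centralizer (K : Set G) : Set G) := by
  have hpp : p.Prime := Fact.out
  have hodd : Odd p := hpp.odd_of_ne_two hp
  obtain ⟨N, hNn, hNc, hQc⟩ := hmc
  obtain ⟨D⟩ := Cfsg.Agent.Lib.Helper68.MC.exists_data hG N hNc hQc
  set C := Subgroup.centralizer (K : Set G) with hC
  have hKC : K ≤ C := Subgroup.le_centralizer_iff_isMulCommutative.mpr hK
  have hKCC : K ≤ Subgroup.centralizer (C : Set G) := Subgroup.le_centralizer_iff.mp le_rfl
  have hle : K ≤ C ⊓ Subgroup.centralizer (C : Set G) := le_inf hKC hKCC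
  have hcent : Subgroup.centralizer ((C ⊓ Subgroup.centralizer (C : Set G) : Subgroup G) : Set G) = C := by
    apply le_antisymm
    · exact Subgroup.centralizer_le (SetLike.coe_subset_coe.mpr hle)
    · exact Subgroup.le_centralizer_iff.mp inf_le_right
  have h1 := D.measure_eq hodd hZ
  have h2 := D.measure_eq hodd (hZ.trans hle)
  rw [hcent] at h2
  rw [← h2] at h1
  have h3 : Nat.card ↥K = Nat.card ↥(C ⊓ Subgroup.centralizer (C : Set G)) :=
    Nat.eq_of_mul_eq_mul_right Nat.card_pos h1
  exact Subgroup.eq_of_le_of_card_ge hle h3.ge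

end Cfsg.Agent.S3885
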