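import Cfsg.Statements.S3886
import Cfsg.Agent.Lib.Helper68.MetaExists
import Cfsg.Agent.Lib.Helper68.MetaCL
import Cfsg.Agent.S3880

set_option autoImplicit false
open Cfsg

namespace Cfsg.Agent.S3886

/-- Let p be an odd prime and G a finite metacyclic p-group (G has a cyclic normal subgroup with cyclic quotient). Then the largest value of |R| · |Z(R)| over subgroups R of G is |G : G'|², and the subgroups attaining it (the centrally large subgroups) are exactly the non-abelian subgroups together with the maximal abelian subgroups of G. -/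
theorem result {G : Type*} [Group G] [Finite G] {p : ℕ} [Fact p.Prime] (hp : p ≠ 2) (hG : IsPGroup p G) (hmc : Cfsg.IsMetacyclic G) : Cfsg.maxCentralProduct G = (commutator G).index ^ 2 ∧
    ∀ R : Subgroup G, Cfsg.IsCentrallyLarge R ↔ (¬ IsMulCommutative ↥R ∨ Maximal (fun K : Subgroup G => IsMulCommutative ↥K) R) := by
  have hpp : p.Prime := Fact.out
  have hodd : Odd p := hpp.odd_of_ne_two hp
  have hmc' := hmc
  obtain ⟨N, hNn, hNc, hQc⟩ := hmc
  obtain ⟨D⟩ := Cfsg.Agent.Lib.Helper68.MC.exists_data hG N hNc hQc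
  -- the value of |R| |Z(R)|
  have hna : ∀ R : Subgroup G, ¬ IsMulCommutative ↥R →
      Nat.card ↥R * Nat.card ↥(Subgroup.center ↥R) = (commutator G).index ^ 2 :=
    fun R hR => D.card_mul_card_center_sub hodd R hR
  have hab : ∀ R : Subgroup G, IsMulCommutative ↥R →
      Nat.card ↥R * Nat.card ↥(Subgroup.center ↥R) = Nat.card ↥R ^ 2 := by
    intro R hR
    rw [Cfsg.Agent.Lib.Helper68.MC.Data.card_center_of_comm R hR, sq]
  have hle : ∀ R : Subgroup G,
      Nat.card ↥R * Nat.card ↥(Subgroup.center ↥R) ≤ (commutator G).index ^ 2 := by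
    intro R
    by_cases hR : IsMulCommutative ↥R
    · rw [hab R hR]
      exact Nat.pow_le_pow_left ((Cfsg.Agent.S3880.result hp hG hmc' R).1.mp hR) 2
    · rw [hna R hR]
  have hmax : Cfsg.maxCentralProduct G = (commutator G).index ^ 2 := by
    unfold Cfsg.maxCentralProduct
    apply IsGreatest.csSup_eq
    constructor
    · by_cases hT : IsMulCommutative ↥(⊤ : Subgroup G)
      · refine ⟨⊤, ?_⟩
        rw [hab ⊤ hT]
        congr 1
        apply le_antisymm
        · exact (Cfsg.Agent.S3880.result hp hG hmc' ⊤).1.mp hT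
        · rw [Subgroup.card_top]
          exact Nat.le_of_dvd Nat.card_pos (Subgroup.index_dvd_card _)
      · exact ⟨⊤, hna ⊤ hT⟩
    · rintro k ⟨R, rfl⟩
      exact hle R
  refine ⟨hmax, ?_⟩
  intro R
  unfold Cfsg.IsCentrallyLarge
  rw [hmax]
  by_cases hR : IsMulCommutative ↥R
  · rw [hab R hR, (Cfsg.Agent.S3880.result hp hG hmc' R).2]
    constructor
    · intro h
      right
      exact Nat.pow_left_injective (by norm_num : 2 ≠ 0) h
    · rintro (h | h)
      · exact absurd hR h
      · rw [h]
  · rw [hna R hR]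
    simp [hR]

end Cfsg.Agent.S3886
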