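import Cfsg.Statements.S3887
import Cfsg.Agent.Lib.Helper68.MetaExists
import Cfsg.Agent.Lib.Helper68.MetaCD

set_option autoImplicit false
open Cfsg

namespace Cfsg.Agent.S3887

/-- Let p be an odd prime and G a finite metacyclic p-group (G has a cyclic normal subgroup with cyclic quotient). Then a subgroup R of G maximizes |R| · |C_G(R)| over all subgroups of G if and only if R contains the center of G. -/
theorem result {G : Type*} [Group G] [Finite G] {p : ℕ} [Fact p.Prime] (hp : p ≠ 2) (hG : IsPGroup p G) (hmc : Cfsg.IsMetacyclic G) (R : Subgroup G) : Cfsg.IsCentralizerLarge R ↔ Subgroup.center G ≤ R := by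
  have hpp : p.Prime := Fact.out
  have hodd : Odd p := hpp.odd_of_ne_two hp
  obtain ⟨N, hNn, hNc, hQc⟩ := hmc
  obtain ⟨D⟩ := Cfsg.Agent.Lib.Helper68.MC.exists_data hG N hNc hQc
  have hcz : ∀ S : Subgroup G, Subgroup.centralizer ((S ⊔ Subgroup.center G : Subgroup G) : Set G) =
      Subgroup.centralizer (S : Set G) := by
    intro S
    rw [Cfsg.Agent.Lib.Helper68.MC.centralizer_sup_eq]
    have h2 : Subgroup.centralizer ((Subgroup.center G : Subgroup G) : Set G) = ⊤ := by
      rw [Subgroup.centralizer_eq_top_iff_subset]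
    rw [h2, inf_top_eq]
  have hle : ∀ S : Subgroup G, Nat.card ↥S * Nat.card ↥(Subgroup.centralizer (S : Set G)) ≤
      Nat.card G * Nat.card ↥(Subgroup.center G) := by
    intro S
    have h1 := D.measure_eq hodd (le_sup_right : Subgroup.center G ≤ S ⊔ Subgroup.center G)
    rw [hcz S] at h1
    rw [← h1]
    exact Nat.mul_le_mul_right _ (Subgroup.card_le_of_le le_sup_left)
  have hmax : Cfsg.maxCentralizerProduct G = Nat.card G * Nat.card ↥(Subgroup.center G) := by
    unfold Cfsg.maxCentralizerProduct
    apply IsGreatest.csSup_eq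
    constructor
    · exact ⟨⊤, D.measure_eq hodd le_top⟩
    · rintro k ⟨S, rfl⟩
      exact hle S
  unfold Cfsg.IsCentralizerLarge
  rw [hmax]
  constructor
  · intro h
    by_contra hZ
    have h1 := D.measure_eq hodd (le_sup_right : Subgroup.center G ≤ R ⊔ Subgroup.center G)
    rw [hcz R, ← h] at h1
    have h2 : Nat.card ↥(R ⊔ Subgroup.center G) = Nat.card ↥R :=
      Nat.eq_of_mul_eq_mul_right Nat.card_pos h1
    have h3 : R = R ⊔ Subgroup.center G := Subgroup.eq_of_le_of_card_ge le_sup_left h2.le
    apply hZ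
    rw [h3]
    exact le_sup_right
  · intro hZ
    exact D.measure_eq hodd hZ

end Cfsg.Agent.S3887
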