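import Mathlib
import Cfsg.Statements.S3889

set_option autoImplicit false
open Cfsg

namespace Cfsg.Agent.S3889

theorem order_dvd {G : Type*} [CommGroup G] [Finite G] (𝓑 : Set (Subgroup G))
    (hcov : ∀ g : G, ∃ B ∈ 𝓑, g ∈ B) (hdisj : ∀ B ∈ 𝓑, ∀ C ∈ 𝓑, B ≠ C → B ⊓ C = ⊥)
    (B₁ B₂ : Subgroup G) (h1 : B₁ ∈ 𝓑) (h2 : B₂ ∈ 𝓑) (hne : B₁ ≠ B₂) (a b : G) (ha : a ∈ B₁) (hb : b ∈ B₂)
    (hb1 : b ≠ 1) : orderOf a ∣ orderOf b := by
  apply orderOf_dvd_of_pow_eq_one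
  by_contra hcon
  obtain ⟨B₃, h3, hab⟩ := hcov (a * b)
  have hpow : (a * b) ^ orderOf b = a ^ orderOf b := by
    rw [mul_pow, pow_orderOf_eq_one, mul_one]
  have hmem3 : a ^ orderOf b ∈ B₃ := by
    rw [← hpow]; exact B₃.pow_mem hab _
  have hmem1 : a ^ orderOf b ∈ B₁ := B₁.pow_mem ha _
  have h31 : B₃ = B₁ := by
    by_contra hne31
    have := hdisj B₃ h3 B₁ h1 hne31
    have hm : a ^ orderOf b ∈ B₃ ⊓ B₁ := ⟨hmem3, hmem1⟩
    rw [this, Subgroup.mem_bot] at hm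
    exact hcon hm
  rw [h31] at hab
  have hbB1 : b ∈ B₁ := by
    have : b = a⁻¹ * (a * b) := by group
    rw [this]
    exact B₁.mul_mem (B₁.inv_mem ha) hab
  have hm : b ∈ B₁ ⊓ B₂ := ⟨hbB1, hb⟩
  rw [hdisj B₁ h1 B₂ h2 hne, Subgroup.mem_bot] at hm
  exact hb1 hm

theorem result {G : Type*} [CommGroup G] [Finite G] (𝓑 : Set (Subgroup G)) (hprop : ∀ B ∈ 𝓑, B ≠ ⊤)
    (hcov : ∀ g : G, ∃ B ∈ 𝓑, g ∈ B) (hdisj : ∀ B ∈ 𝓑, ∀ C ∈ 𝓑, B ≠ C → B ⊓ C = ⊥) :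
    (Monoid.exponent G).Prime := by
  have hord : ∀ (B₁ B₂ : Subgroup G), B₁ ∈ 𝓑 → B₂ ∈ 𝓑 → B₁ ≠ B₂ → ∀ a b : G, a ∈ B₁ → b ∈ B₂ →
      a ≠ 1 → b ≠ 1 → orderOf a = orderOf b := by
    intro B₁ B₂ h1 h2 hne a b ha hb ha1 hb1
    exact Nat.dvd_antisymm (order_dvd 𝓑 hcov hdisj B₁ B₂ h1 h2 hne a b ha hb hb1)
      (order_dvd 𝓑 hcov hdisj B₂ B₁ h2 h1 hne.symm b a hb ha ha1)
  obtain ⟨B, hB, -⟩ := hcov 1
  obtain ⟨b, hbB⟩ : ∃ b : G, b ∉ B := by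
    by_contra hcon
    push Not at hcon
    exact hprop B hB (by rw [eq_top_iff]; intro x _; exact hcon x)
  have hb1 : b ≠ 1 := by
    rintro rfl; exact hbB B.one_mem
  obtain ⟨B₂, h2, hb2⟩ := hcov b
  obtain ⟨a, haB⟩ : ∃ a : G, a ∉ B₂ := by
    by_contra hcon
    push Not at hcon
    exact hprop B₂ h2 (by rw [eq_top_iff]; intro x _; exact hcon x)
  have ha1 : a ≠ 1 := by
    rintro rfl; exact haB B₂.one_mem
  obtain ⟨B₁, h1, ha1'⟩ := hcov a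
  have hne : B₁ ≠ B₂ := by
    rintro rfl; exact haB ha1'
  have hab := hord B₁ B₂ h1 h2 hne a b ha1' hb2 ha1 hb1
  set n := orderOf a with hn
  have hall : ∀ c : G, c ≠ 1 → orderOf c = n := by
    intro c hc1
    obtain ⟨B₃, h3, hc3⟩ := hcov c
    by_cases h31 : B₃ = B₁
    · have : B₃ ≠ B₂ := by rw [h31]; exact hne
      rw [hab]
      exact hord B₃ B₂ h3 h2 this c b hc3 hb2 hc1 hb1
    · exact hord B₃ B₁ h3 h1 h31 c a hc3 ha1' hc1 ha1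
  have hn1 : n ≠ 1 := by
    rw [hn, Ne, orderOf_eq_one_iff]; exact ha1
  have hnprime : n.Prime := by
    obtain ⟨q, hq, hqn⟩ := Nat.exists_prime_and_dvd hn1
    obtain ⟨m, hm⟩ := hqn
    have hnpos : 0 < n := orderOf_pos a
    have hmpos : 0 < m := by
      rcases Nat.eq_zero_or_pos m with h | h
      · rw [h, mul_zero] at hm; omega
      · exact h
    have hord' : orderOf (a ^ m) = q := by
      rw [orderOf_pow, ← hn, hm, Nat.gcd_eq_right (Dvd.intro_left q rfl)]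
      exact Nat.mul_div_cancel _ hmpos
    have hne1 : a ^ m ≠ 1 := by
      intro h
      rw [h, orderOf_one] at hord'
      exact hq.one_lt.ne' hord'.symm
    have := hall (a ^ m) hne1
    rw [hord'] at this
    rw [← this]; exact hq
  haveI : Nontrivial G := ⟨⟨a, 1, ha1⟩⟩
  rw [(Monoid.exponent_eq_prime_iff hnprime).mpr hall]
  exact hnprime

end Cfsg.Agent.S3889
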