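import Mathlib
import Cfsg.Statements.S3890
import Cfsg.Agent.Lib.Helper69.CoverCons

set_option autoImplicit false
open Cfsg

namespace Cfsg.Agent.S3890

open scoped Pointwise
open Cfsg.Agent.Lib.Helper69

theorem result {G : Type*} [Group G] [Finite G] (hZ : Subgroup.center G = ⊥) (𝓐 : Finset (Subgroup G))
    (h𝓐 : ((∀ A ∈ 𝓐, A ≠ ⊤) ∧ (∀ g : G, ∃ A ∈ 𝓐, g ∈ A)) ∧ (∀ 𝓑 : Finset (Subgroup G), (∀ A ∈ 𝓑, A ≠ ⊤) ∧ (∀ g : G, ∃ A ∈ 𝓑, g ∈ A) → 𝓐.card ≤ 𝓑.card) ∧ (∀ A ∈ 𝓐, Group.IsNilpotent ↥A)) {p : ℕ} [Fact p.Prime] (P : Sylow p G) (hab : IsMulCommutative ↥(P : Subgroup G))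
    (hnn : ¬ (P : Subgroup G).Normal) :
    (Cfsg.IsElementaryAbelian p (P : Subgroup G) ∧ p < Nat.card ↥(P : Subgroup G)) ∨
    (∃ A ∈ 𝓐, (P : Subgroup G) ≤ A ∧ ¬ p ∣ ((P : Subgroup G).subgroupOf A).index ∧
      IsCoatom (Subgroup.normalizer ((P : Subgroup G) : Set G)) ∧
      (∀ g : G, g ∉ Subgroup.normalizer ((P : Subgroup G) : Set G) →
        ¬ p ∣ Nat.card ↥(Subgroup.normalizer ((P : Subgroup G) : Set G) ⊓
          (Subgroup.normalizer ((P : Subgroup G) : Set G)).map (MulAut.conj g).toMonoidHom)) ∧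
      Subgroup.centralizer ((P : Subgroup G) : Set G) = A) := by
  have hp : Fact p.Prime := inferInstance
  have h𝓐' : IsNilMinCover 𝓐 := h𝓐
  by_cases hfirst : Cfsg.IsElementaryAbelian p (P : Subgroup G) ∧ p < Nat.card ↥(P : Subgroup G)
  · exact Or.inl hfirst
  right
  have hpel : ∀ a ∈ (P : Subgroup G), ∃ k : ℕ, orderOf a = p ^ k := by
    intro a ha
    obtain ⟨k, hk⟩ := (IsPGroup.iff_orderOf.mp P.isPGroup') ⟨a, ha⟩
    exact ⟨k, by rw [← hk]; exact (Subgroup.orderOf_mk a ha).symm⟩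
  have hcase : Nat.card ↥(P : Subgroup G) = p ∨ ∃ w : G, (∃ k : ℕ, orderOf w = p ^ k) ∧ w ^ p ≠ 1 := by
    by_cases hel : Cfsg.IsElementaryAbelian p (P : Subgroup G)
    · left
      have hle : Nat.card ↥(P : Subgroup G) ≤ p := by
        by_contra h
        exact hfirst ⟨hel, by omega⟩
      obtain ⟨n, hn⟩ := IsPGroup.iff_card.mp P.isPGroup'
      have hn0 : n ≠ 0 := by
        rintro rfl
        apply hnn
        rw [pow_zero] at hn
        have : (P : Subgroup G) = ⊥ := Subgroup.card_eq_one.mp hn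
        rw [this]; infer_instance
      rw [hn] at hle ⊢
      have h1 : p ^ n ≤ p ^ 1 := by simpa using hle
      have := (Nat.pow_le_pow_iff_right hp.out.one_lt).mp h1
      have hn1 : n = 1 := by omega
      rw [hn1, pow_one]
    · right
      have : ¬ ∀ a ∈ (P : Subgroup G), a ^ p = 1 := fun h => hel ⟨hab, h⟩
      push Not at this
      obtain ⟨a, ha, hap⟩ := this
      exact ⟨a, hpel a ha, hap⟩
  obtain ⟨h1, h2, h3, -⟩ := cover_consequences hZ h𝓐' P hab hnn hcase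
  refine ⟨_, h1, Subgroup.le_centralizer_iff_isMulCommutative.mpr hab, ?_, h2, h3, rfl⟩
  intro hdvd
  have hle : (P : Subgroup G) ≤ Subgroup.centralizer ((P : Subgroup G) : Set G) :=
    Subgroup.le_centralizer_iff_isMulCommutative.mpr hab
  exact P.not_dvd_index (hdvd.trans (Subgroup.relIndex_dvd_index_of_le hle))

end Cfsg.Agent.S3890
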