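import Mathlib
import Cfsg.Statements.S3891
import Cfsg.Agent.Lib.Helper69.CoverCons

set_option autoImplicit false
open Cfsg

namespace Cfsg.Agent.S3891

open scoped Pointwise
open Cfsg.Agent.Lib.Helper69

theorem result {G : Type*} [Group G] [Finite G] (hZ : Subgroup.center G = ⊥) (𝓐 : Finset (Subgroup G))
    (h𝓐 : ((∀ A ∈ 𝓐, A ≠ ⊤) ∧ (∀ g : G, ∃ A ∈ 𝓐, g ∈ A)) ∧ (∀ 𝓑 : Finset (Subgroup G), (∀ A ∈ 𝓑, A ≠ ⊤) ∧ (∀ g : G, ∃ A ∈ 𝓑, g ∈ A) → 𝓐.card ≤ 𝓑.card) ∧ (∀ A ∈ 𝓐, Group.IsNilpotent ↥A)) {p : ℕ} [Fact p.Prime] (P : Sylow p G)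
    (hP : IsCyclic ↥(P : Subgroup G) ∨ (IsMulCommutative ↥(P : Subgroup G) ∧ ¬ Cfsg.IsElementaryAbelian p (P : Subgroup G)))
    (hnn : ¬ (P : Subgroup G).Normal) :
    Group.IsNilpotent ↥(Subgroup.centralizer ((P : Subgroup G) : Set G)) ∧
      IsCoatom (Subgroup.normalizer ((P : Subgroup G) : Set G)) ∧
      ∀ M : Subgroup G, IsCoatom M → Subgroup.centralizer ((P : Subgroup G) : Set G) ≤ M →
        M = Subgroup.normalizer ((P : Subgroup G) : Set G) := by
  have hp : Fact p.Prime := inferInstance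
  have h𝓐' : IsNilMinCover 𝓐 := h𝓐
  have hpel : ∀ a ∈ (P : Subgroup G), ∃ k : ℕ, orderOf a = p ^ k := by
    intro a ha
    obtain ⟨k, hk⟩ := (IsPGroup.iff_orderOf.mp P.isPGroup') ⟨a, ha⟩
    exact ⟨k, by rw [← hk]; exact (Subgroup.orderOf_mk a ha).symm⟩
  have hab : IsMulCommutative ↥(P : Subgroup G) := by
    rcases hP with h | h
    · exact ⟨⟨fun a b => IsCyclic.commGroup.mul_comm a b⟩⟩
    · exact h.1
  have hcase : Nat.card ↥(P : Subgroup G) = p ∨ ∃ w : G, (∃ k : ℕ, orderOf w = p ^ k) ∧ w ^ p ≠ 1 := by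
    by_cases hall : ∀ a ∈ (P : Subgroup G), a ^ p = 1
    · rcases hP with h | h
      · left
        haveI := h
        have hexp : Monoid.exponent ↥(P : Subgroup G) ∣ p := by
          apply Monoid.exponent_dvd_of_forall_pow_eq_one
          intro a
          apply Subtype.ext
          have := hall a a.2
          simpa using this
        rw [IsCyclic.exponent_eq_card] at hexp
        rcases (Nat.dvd_prime hp.out).mp hexp with h1 | h1
        · exfalso
          apply hnn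
          have : (P : Subgroup G) = ⊥ := Subgroup.card_eq_one.mp h1
          rw [this]; infer_instance
        · exact h1
      · exact absurd ⟨h.1, hall⟩ h.2
    · right
      push Not at hall
      obtain ⟨a, ha, hap⟩ := hall
      exact ⟨a, hpel a ha, hap⟩
  obtain ⟨h1, h2, -, h4⟩ := cover_consequences hZ h𝓐' P hab hnn hcase
  exact ⟨h𝓐.2.2 _ h1, h2, h4⟩

end Cfsg.Agent.S3891
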