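import Cfsg.Statements.S3893
import Cfsg.Agent.Lib.Helper09.SuzukiCover
import Cfsg.Agent.Lib.Helper09.SuzukiLie

set_option autoImplicit false
open Cfsg

namespace Cfsg.Agent.S3893

open Cfsg.Agent.Lib.Helper09 in
/-- a group isomorphic to the Suzuki group has no nilpotent minimal cover -/
theorem general {F : Type*} [Field F] [Fintype F] {m : ℕ} (hm : 1 ≤ m)
    (hF : Fintype.card F = 2 ^ (2 * m + 1)) {G' : Type*} [Group G']
    (e : ↥(Cfsg.Sz F m) ≃* G') :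
    ¬ ∃ 𝓐 : Finset (Subgroup G'), ((∀ A ∈ 𝓐, A ≠ ⊤) ∧ (∀ g : G', ∃ A ∈ 𝓐, g ∈ A)) ∧
      (∀ 𝓑 : Finset (Subgroup G'), (∀ A ∈ 𝓑, A ≠ ⊤) ∧ (∀ g : G', ∃ A ∈ 𝓑, g ∈ A) →
        𝓐.card ≤ 𝓑.card) ∧ (∀ A ∈ 𝓐, Group.IsNilpotent ↥A) := by
  classical
  rintro ⟨𝓐, ⟨-, hcov⟩, hmin, hnil⟩
  obtain ⟨𝓑, hB1, hB2, hB3⟩ := cheap_cover hm hF
  -- pull the nilpotent cover back
  have hL := nilp_cover_lower hm hF
    (𝓐.image (fun A => A.map (e.symm : G' →* ↥(Cfsg.Sz F m))))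
    (by
      intro g
      obtain ⟨A, hA, hgA⟩ := hcov (e g)
      exact ⟨_, Finset.mem_image.2 ⟨A, hA, rfl⟩,
        Subgroup.mem_map.2 ⟨e g, hgA, e.symm_apply_apply g⟩⟩)
    (by
      intro A' hA'
      obtain ⟨A, hA, rfl⟩ := Finset.mem_image.1 hA'
      have := hnil A hA
      exact Group.nilpotent_of_mulEquiv (e.symm.subgroupMap A))
  have h1 : (𝓐.image (fun A => A.map (e.symm : G' →* ↥(Cfsg.Sz F m)))).card ≤ 𝓐.card :=
    Finset.card_image_le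
  -- push the cheap cover forward
  have h2 := hmin (𝓑.image (fun B => B.map e.toMonoidHom))
    ⟨by
      intro B' hB'
      obtain ⟨B, hB, rfl⟩ := Finset.mem_image.1 hB'
      intro htop
      apply hB1 B hB
      rw [eq_top_iff]
      intro g _
      have : e g ∈ B.map e.toMonoidHom := by rw [htop]; exact Subgroup.mem_top _
      obtain ⟨g', hg', hgg'⟩ := Subgroup.mem_map.1 this
      have : g' = g := e.injective hgg'
      rw [← this]; exact hg',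
     by
      intro g
      obtain ⟨B, hB, hgB⟩ := hB2 (e.symm g)
      refine ⟨_, Finset.mem_image.2 ⟨B, hB, rfl⟩, ?_⟩
      exact Subgroup.mem_map.2 ⟨e.symm g, hgB, e.apply_symm_apply g⟩⟩
  have h3 : (𝓑.image (fun B => B.map e.toMonoidHom)).card ≤ 𝓑.card := Finset.card_image_le
  omega


/-- A cover of a group is a finite set of proper subgroups whose union is the whole group; it is minimal when no cover has fewer members, and nilpotent when all its members are nilpotent. The Suzuki groups Sz(q), q = 2^(2m+1) with m ≥ 1, have no nilpotent minimal cover. -/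
theorem result {F : Type*} [Field F] [Fintype F] (m : ℕ) (hm : 1 ≤ m) (hF : Fintype.card F = 2 ^ (2 * m + 1)) :
    ¬ ∃ 𝓐 : Finset (Subgroup ↥(Cfsg.Lie.Sz F (2 ^ (m + 1)))), ((∀ A ∈ 𝓐, A ≠ ⊤) ∧ (∀ g : ↥(Cfsg.Lie.Sz F (2 ^ (m + 1))), ∃ A ∈ 𝓐, g ∈ A)) ∧ (∀ 𝓑 : Finset (Subgroup ↥(Cfsg.Lie.Sz F (2 ^ (m + 1)))), (∀ A ∈ 𝓑, A ≠ ⊤) ∧ (∀ g : ↥(Cfsg.Lie.Sz F (2 ^ (m + 1))), ∃ A ∈ 𝓑, g ∈ A) → 𝓐.card ≤ 𝓑.card) ∧ (∀ A ∈ 𝓐, Group.IsNilpotent ↥A) := by
  exact general hm hF (Cfsg.Agent.Lib.Helper09.lieEquiv hm hF)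

end Cfsg.Agent.S3893
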