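import Cfsg.Statements.S3895
import Cfsg.Agent.Lib.Helper75.TwoClasses

set_option autoImplicit false
open Cfsg

namespace Cfsg.Agent.S3895

open Cfsg.Agent.Lib.Helper75.TwoClasses Cfsg.Agent.Lib.Helper41 Cfsg.Agent.Lib.Helper27

/-- Let G be a finite group with Sylow 2-subgroup P, and write k₂(G) for the number of conjugacy classes of G consisting of 2-elements (elements of 2-power order, the identity included). Then k₂(G) > |P|/2 if and only if G has a normal 2-complement and P has more than |P|/2 conjugacy classes. -/
theorem result {G : Type*} [Group G] [Finite G] (P : Sylow 2 G) :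
    Nat.card ↥(P : Subgroup G) < 2 * Nat.card {c : ConjClasses G // ∀ x ∈ c.carrier, ∃ k : ℕ, orderOf x = 2 ^ k} ↔
      Cfsg.HasNormalPComplement 2 G ∧ Nat.card ↥(P : Subgroup G) < 2 * Nat.card (ConjClasses ↥(P : Subgroup G)) := by
  rw [card_two_classes P]
  constructor
  · intro h
    have hnpc : Cfsg.HasNormalPComplement 2 G := by
      by_contra hn
      rw [hasNormalPComplement_iff_frobCond] at hn
      obtain ⟨D, hDP, hcent, g, hgN, hcop, hgC⟩ := exists_centric_of_not_frobCond P hn
      have hodd : Odd (orderOf g) := Nat.Coprime.odd_of_right hcop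
      have := two_mul_classes_le P hDP hcent hgN hodd hgC
      omega
    refine ⟨hnpc, ?_⟩
    rwa [card_classes_eq_of_npc P hnpc] at h
  · rintro ⟨hnpc, h⟩
    rwa [card_classes_eq_of_npc P hnpc]

end Cfsg.Agent.S3895
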