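import Cfsg.Statements.S3897
import Cfsg.Agent.Lib.Helper75.PClasses

set_option autoImplicit false
open Cfsg

namespace Cfsg.Agent.S3897

open Cfsg.Agent.Lib.Helper75.PClasses Cfsg.Agent.Lib.Helper41 Cfsg.Agent.Lib.Helper27

/-- Let p be an odd prime and G a finite group with Sylow p-subgroup P, and write k_p(G) for the number of conjugacy classes of G consisting of p-elements (elements of p-power order, the identity included). Then k_p(G) > (p + 1)|P|/(2p) if and only if G has a normal p-complement and P is abelian. -/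
theorem result {G : Type*} [Group G] [Finite G] {p : ℕ} [Fact p.Prime] (hp : p ≠ 2) (P : Sylow p G) :
    (p + 1) * Nat.card ↥(P : Subgroup G) < 2 * p * Nat.card {c : ConjClasses G // ∀ x ∈ c.carrier, ∃ k : ℕ, orderOf x = p ^ k} ↔
      Cfsg.HasNormalPComplement p G ∧ IsMulCommutative ↥(P : Subgroup G) := by
  have hpp : p.Prime := Fact.out
  have hp2 : 2 ≤ p := hpp.two_le
  have hPpos : 0 < Nat.card ↥(P : Subgroup G) := Nat.card_pos
  rw [card_p_classes P]
  constructor
  · intro h
    have hle := ncard_classes_le (P : Subgroup G)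
    -- `P` is abelian
    have hab : ∀ a b : ↥(P : Subgroup G), a * b = b * a := by
      by_contra hnc
      have h1 := card_classes_le_of_not_comm P.2 hnc
      set n := Nat.card ↥(P : Subgroup G)
      set k := Nat.card (ConjClasses ↥(P : Subgroup G))
      set K := (ConjClasses.mk '' ((P : Subgroup G) : Set G)).ncard
      have h2 : (p + 1) * n < 2 * p * k :=
        lt_of_lt_of_le h (Nat.mul_le_mul_left _ hle)
      have h3 : p ^ 2 * ((p + 1) * n) < p ^ 2 * (2 * p * k) :=
        Nat.mul_lt_mul_of_pos_left h2 (by positivity)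
      have h4 : p ^ 2 * (2 * p * k) = 2 * (p ^ 3 * k) := by ring
      have h5 : 2 * (p ^ 3 * k) ≤ 2 * ((p ^ 2 + p - 1) * n) := Nat.mul_le_mul_left _ h1
      have h6 : p ^ 2 * ((p + 1) * n) < 2 * ((p ^ 2 + p - 1) * n) := by
        rw [h4] at h3; exact lt_of_lt_of_le h3 h5
      have h7 : p ^ 2 * (p + 1) < 2 * (p ^ 2 + p - 1) := by
        have : p ^ 2 * (p + 1) * n < 2 * (p ^ 2 + p - 1) * n := by
          calc p ^ 2 * (p + 1) * n = p ^ 2 * ((p + 1) * n) := by ring
            _ < 2 * ((p ^ 2 + p - 1) * n) := h6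
            _ = 2 * (p ^ 2 + p - 1) * n := by ring
        exact lt_of_mul_lt_mul_right this (Nat.zero_le _)
      have h8 : 2 * (p ^ 2 + p - 1) ≤ 2 * (p ^ 2 + p) := by omega
      have h9 : p ^ 2 * (p + 1) < 2 * (p ^ 2 + p) := lt_of_lt_of_le h7 h8
      nlinarith
    have hcomm : IsMulCommutative ↥(P : Subgroup G) := ⟨⟨hab⟩⟩
    refine ⟨?_, hcomm⟩
    by_contra hn
    rw [hasNormalPComplement_iff_frobCond] at hn
    obtain ⟨D, hDP, hcent, g, hgN, hcop, hgC⟩ := exists_centric_of_not_frobCond P hn
    have hDeq : D = (P : Subgroup G) := by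
      apply le_antisymm hDP
      intro x hx
      apply hcent
      refine Subgroup.mem_inf.mpr ⟨hx, ?_⟩
      rw [Subgroup.mem_centralizer_iff]
      intro d hd
      have := hab ⟨d, hDP hd⟩ ⟨x, hx⟩
      exact congrArg Subtype.val this
    rw [hDeq] at hgN hgC
    have := two_p_mul_classes_le P.2 hgN hgC
    omega
  · rintro ⟨hnpc, hcomm⟩
    rw [card_classes_eq_of_npc P hnpc]
    have hcard : Nat.card (ConjClasses ↥(P : Subgroup G)) = Nat.card ↥(P : Subgroup G) := by
      symm
      apply Nat.card_eq_of_bijective (ConjClasses.mk : ↥(P : Subgroup G) → _)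
      constructor
      · intro a b hab
        rw [ConjClasses.mk_eq_mk_iff_isConj, isConj_iff] at hab
        obtain ⟨c, hc⟩ := hab
        rw [← hc, hcomm.is_comm.comm c a]
        group
      · intro c
        obtain ⟨x, rfl⟩ := ConjClasses.exists_rep c
        exact ⟨x, rfl⟩
    rw [hcard]
    have : p + 1 < 2 * p := by omega
    exact Nat.mul_lt_mul_of_pos_right this hPpos

end Cfsg.Agent.S3897
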