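import Cfsg.Statements.S3898
import Cfsg.Agent.S3895
import Cfsg.Agent.Lib.Helper75.PiClasses2

set_option autoImplicit false
open Cfsg

namespace Cfsg.Agent.S3898

open Cfsg.Agent.Lib.Helper75.PiClasses Cfsg.Agent.Lib.Helper75.PClasses

/-- Elements of odd order lie in a normal subgroup of `2`-power index. -/
theorem mem_of_odd_order {G : Type*} [Group G] [Finite G] (M : Subgroup G) [M.Normal] {n : ℕ}
    (hM : M.index = 2 ^ n) {x : G} (hx : Odd (orderOf x)) : x ∈ M := by
  rw [← QuotientGroup.eq_one_iff, ← orderOf_eq_one_iff]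
  have h1 : orderOf (QuotientGroup.mk x : G ⧸ M) ∣ orderOf x := by
    apply orderOf_dvd_of_pow_eq_one
    rw [← QuotientGroup.mk_pow, pow_orderOf_eq_one]
    rfl
  have h2 : orderOf (QuotientGroup.mk x : G ⧸ M) ∣ 2 ^ n := by
    rw [← hM, Subgroup.index_eq_card]
    exact orderOf_dvd_natCard _
  have hcop : Nat.Coprime (orderOf x) (2 ^ n) := Nat.Coprime.pow_right n hx.coprime_two_right
  exact Nat.eq_one_of_dvd_coprimes hcop h1 h2

/-- A normal Hall subgroup of a normal subgroup is normal. -/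
theorem map_normal_of_coprime {G : Type*} [Group G] [Finite G] (M : Subgroup G) [hMn : M.Normal]
    (N' : Subgroup ↥M) [N'.Normal] (hcop : Nat.Coprime (Nat.card N') N'.index) :
    (N'.map M.subtype).Normal := by
  constructor
  intro n hn g
  obtain ⟨n', hn', rfl⟩ := Subgroup.mem_map.mp hn
  have hmem : g * (n' : G) * g⁻¹ ∈ M := hMn.conj_mem _ n'.2 g
  refine Subgroup.mem_map.mpr ⟨⟨g * (n' : G) * g⁻¹, hmem⟩, ?_, rfl⟩
  rw [← QuotientGroup.eq_one_iff, ← orderOf_eq_one_iff]
  set y' : ↥M := ⟨g * (n' : G) * g⁻¹, hmem⟩ with hy'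
  have hord : orderOf y' = orderOf n' := by
    rw [← Subgroup.orderOf_coe y', ← Subgroup.orderOf_coe n']
    show orderOf (g * (n' : G) * g⁻¹) = orderOf (n' : G)
    exact orderOf_conj' g _
  have h1 : orderOf (QuotientGroup.mk y' : ↥M ⧸ N') ∣ Nat.card N' := by
    have h0 : orderOf (QuotientGroup.mk y' : ↥M ⧸ N') ∣ orderOf y' := by
      apply orderOf_dvd_of_pow_eq_one
      rw [← QuotientGroup.mk_pow, pow_orderOf_eq_one]
      rfl
    rw [hord] at h0
    have h3 : orderOf n' ∣ Nat.card N' := by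
      have := orderOf_dvd_natCard (⟨n', hn'⟩ : N')
      rwa [Subgroup.orderOf_mk] at this
    exact h0.trans h3
  have h2 : orderOf (QuotientGroup.mk y' : ↥M ⧸ N') ∣ N'.index := by
    rw [Subgroup.index_eq_card]
    exact orderOf_dvd_natCard _
  exact Nat.eq_one_of_dvd_coprimes hcop h1 h2

/-- Let π be a finite set of primes containing 2 and G a finite group. Write k_π(G) for the number of conjugacy classes of G consisting of π-elements (elements all of whose order's prime divisors lie in π) and |G|_π for the π-part of the order of G. If k_π(G) > |G|_π/2, then G has a normal π-complement (a normal subgroup of order prime to π whose index is a π-number) and an abelian Hall subgroup for the set of odd primes in π. -/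
theorem result {G : Type*} [Group G] [Finite G] (π : Finset ℕ) (hπ : ∀ r ∈ π, r.Prime) (h2 : 2 ∈ π)
    (hk : π.prod (fun r => r ^ (Nat.card G).factorization r) < 2 * Nat.card {c : ConjClasses G // ∀ x ∈ c.carrier, ∀ r : ℕ, r.Prime → r ∣ orderOf x → r ∈ π}) :
    (∃ N : Subgroup G, N.Normal ∧ (∀ r : ℕ, r.Prime → r ∣ Nat.card ↥N → r ∉ π) ∧ ∀ r : ℕ, r.Prime → r ∣ N.index → r ∈ π) ∧ ∃ H : Subgroup G, Cfsg.IsPiHall ((↑π : Set ℕ) \ {2}) H ∧ IsMulCommutative ↥H := by
  classical
  have hf2 : Fact (Nat.Prime 2) := ⟨Nat.prime_two⟩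
  set τ := π.erase 2 with hτdef
  have hτ : ∀ r ∈ τ, r.Prime := fun r hr => hπ r (Finset.mem_of_mem_erase hr)
  have hτ2 : ∀ r ∈ τ, r ≠ 2 := fun r hr => Finset.ne_of_mem_erase hr
  change ordPart π G < 2 * Nat.card (SigClasses π G) at hk
  have hsplit : 2 ^ (Nat.card G).factorization 2 * ordPart τ G = ordPart π G :=
    Finset.mul_prod_erase π (fun r => r ^ (Nat.card G).factorization r) h2
  have hbpos : 0 < ordPart τ G := Finset.prod_pos (fun r hr => pow_pos (hτ r hr).pos _)
  rw [← hsplit] at hk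
  -- Step 1: a normal `2`-complement
  have P0 : Sylow 2 G := default
  have hP0 : Nat.card ↥(P0 : Subgroup G) = 2 ^ (Nat.card G).factorization 2 :=
    Sylow.card_eq_multiplicity P0
  have hB := card_sigClasses_le_mul (G := G) π hπ h2
  have hk2 : Nat.card ↥(P0 : Subgroup G) < 2 * Nat.card {c : ConjClasses G //
      ∀ x ∈ c.carrier, ∃ k : ℕ, orderOf x = 2 ^ k} := by
    rw [hP0]
    have h1 : 2 ^ (Nat.card G).factorization 2 * ordPart τ G
        < 2 * Nat.card {c : ConjClasses G // ∀ x ∈ c.carrier, ∃ k : ℕ, orderOf x = 2 ^ k}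
          * ordPart τ G := by
      calc 2 ^ (Nat.card G).factorization 2 * ordPart τ G < 2 * Nat.card (SigClasses π G) := hk
        _ ≤ 2 * (Nat.card {c : ConjClasses G // ∀ x ∈ c.carrier, ∃ k : ℕ, orderOf x = 2 ^ k}
            * ordPart τ G) := Nat.mul_le_mul_left _ hB
        _ = _ := by ring
    exact lt_of_mul_lt_mul_right h1 (Nat.zero_le _)
  obtain ⟨⟨P, M, hMn, hc⟩, -⟩ := (Cfsg.Agent.S3895.result P0).mp hk2
  have hPcard : Nat.card ↥(P : Subgroup G) = 2 ^ (Nat.card G).factorization 2 :=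
    Sylow.card_eq_multiplicity P
  have hMidx : M.index = 2 ^ (Nat.card G).factorization 2 := by
    rw [hc.symm.index_eq_card, hPcard]
  have hModd : Odd (Nat.card ↥M) := by
    rw [← hc.index_eq_card, ← Nat.not_even_iff_odd, even_iff_two_dvd]
    exact P.not_dvd_index
  have hτodd : ∀ x : G, (∀ r : ℕ, r.Prime → r ∣ orderOf x → r ∈ τ) → Odd (orderOf x) := by
    intro x hx
    rw [← Nat.not_even_iff_odd, even_iff_two_dvd]
    intro h
    exact hτ2 2 (hx 2 Nat.prime_two h) rfl
  -- Step 2: classes of `τ`-elements of `G` and of `M`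
  have hGM : Nat.card (SigClasses τ G) ≤ Nat.card (SigClasses τ ↥M) := by
    have key : ∀ c : SigClasses τ G, ∃ d : SigClasses τ ↥M,
        ConjClasses.map M.subtype d.1 = c.1 := by
      intro c
      obtain ⟨x, hx⟩ := ConjClasses.exists_rep c.1
      have hxτ := c.2 x (by rw [ConjClasses.mem_carrier_iff_mk_eq]; exact hx)
      have hxM : x ∈ M := mem_of_odd_order M hMidx (hτodd x hxτ)
      refine ⟨⟨ConjClasses.mk ⟨x, hxM⟩, ?_⟩, ?_⟩
      · intro z hz r hr hrz
        rw [ConjClasses.mem_carrier_iff_mk_eq, ConjClasses.mk_eq_mk_iff_isConj, isConj_iff] at hz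
        obtain ⟨g, hg⟩ := hz
        have h1 : orderOf z = orderOf x := by
          rw [← orderOf_conj' g z, hg, Subgroup.orderOf_mk]
        exact hxτ r hr (h1 ▸ hrz)
      · rw [← hx]; rfl
    choose ψ hψ using key
    apply Nat.card_le_card_of_injective ψ
    intro c1 c2 h12
    apply Subtype.ext
    rw [← hψ c1, ← hψ c2, h12]
  have hM' : ∀ v : G, Nat.card {d : ConjClasses ↥(Subgroup.centralizer ({v} : Set G)) //
      ∀ x ∈ d.carrier, ∃ k : ℕ, orderOf x = 2 ^ k} ≤ 2 ^ (Nat.card G).factorization 2 := by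
    intro v
    refine (card_qclasses_le (H := ↥(Subgroup.centralizer ({v} : Set G))) (q := 2)).trans ?_
    apply Nat.pow_le_pow_right (by norm_num)
    exact (Nat.factorization_le_iff_dvd Nat.card_pos.ne' Nat.card_pos.ne').mpr
      (Subgroup.card_subgroup_dvd_card _) 2
  have hB' := card_sigClasses_insert_le' (H := G) Nat.prime_two τ
    (2 ^ (Nat.card G).factorization 2) hM'
  rw [hτdef, Finset.insert_erase h2, ← hτdef] at hB'
  have hkM : ordPart τ ↥M < 2 * Nat.card (SigClasses τ ↥M) := by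
    have h1 : ordPart τ G * 2 ^ (Nat.card G).factorization 2
        < 2 * Nat.card (SigClasses τ ↥M) * 2 ^ (Nat.card G).factorization 2 := by
      calc ordPart τ G * 2 ^ (Nat.card G).factorization 2
          = 2 ^ (Nat.card G).factorization 2 * ordPart τ G := by ring
        _ < 2 * Nat.card (SigClasses π G) := hk
        _ ≤ 2 * (Nat.card (SigClasses τ G) * 2 ^ (Nat.card G).factorization 2) :=
            Nat.mul_le_mul_left _ hB'
        _ ≤ 2 * (Nat.card (SigClasses τ ↥M) * 2 ^ (Nat.card G).factorization 2) :=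
            Nat.mul_le_mul_left _ (Nat.mul_le_mul_right _ hGM)
        _ = _ := by ring
    exact lt_of_le_of_lt (ordPart_mono τ hτ M) (lt_of_mul_lt_mul_right h1 (Nat.zero_le _))
  -- Step 3: every `q ∈ τ`
  have h3 : ∀ q ∈ τ, ∀ (_ : Fact q.Prime) (Q : Sylow q ↥M),
      Cfsg.HasNormalPComplement q ↥M ∧ IsMulCommutative ↥(Q : Subgroup ↥M) := by
    intro q hq hqf Q
    apply odd_many_classes hModd (hτ2 q hq) Q
    have hBq := card_sigClasses_le_mul (G := ↥M) τ hτ hq
    have hsplitq : q ^ (Nat.card ↥M).factorization q * ordPart (τ.erase q) ↥M = ordPart τ ↥M :=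
      Finset.mul_prod_erase τ (fun r => r ^ (Nat.card ↥M).factorization r) hq
    have hQ : Nat.card ↥(Q : Subgroup ↥M) = q ^ (Nat.card ↥M).factorization q :=
      Sylow.card_eq_multiplicity Q
    rw [hQ]
    rw [← hsplitq] at hkM
    have h1 : q ^ (Nat.card ↥M).factorization q * ordPart (τ.erase q) ↥M
        < 2 * Nat.card {c : ConjClasses ↥M // ∀ x ∈ c.carrier, ∃ k : ℕ, orderOf x = q ^ k}
          * ordPart (τ.erase q) ↥M := by
      calc q ^ (Nat.card ↥M).factorization q * ordPart (τ.erase q) ↥M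
          < 2 * Nat.card (SigClasses τ ↥M) := hkM
        _ ≤ 2 * (Nat.card {c : ConjClasses ↥M // ∀ x ∈ c.carrier, ∃ k : ℕ, orderOf x = q ^ k}
            * ordPart (τ.erase q) ↥M) := Nat.mul_le_mul_left _ hBq
        _ = _ := by ring
    exact lt_of_mul_lt_mul_right h1 (Nat.zero_le _)
  -- Step 4: assembly inside `M`
  obtain ⟨N', H', hN'n, hN'1, hN'2, hcompl, hH'c⟩ := exists_normal_compl_of_all τ hτ h3
  have hcop : Nat.Coprime (Nat.card N') N'.index := by
    apply Nat.coprime_of_dvd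
    intro r hr hr1 hr2
    exact hN'1 r (hN'2 r hr hr2) hr1
  have hNn : (N'.map M.subtype).Normal := map_normal_of_coprime M N' hcop
  have hModdr : ∀ r : ℕ, r ∣ Nat.card ↥M → r ≠ 2 := by
    intro r hr h
    rw [h] at hr
    exact (Nat.not_even_iff_odd.mpr hModd) (even_iff_two_dvd.mpr hr)
  refine ⟨⟨N'.map M.subtype, hNn, ?_, ?_⟩, H'.map M.subtype, ⟨?_, ?_⟩, ?_⟩
  · intro r hr hrN hrπ
    rw [Subgroup.card_subtype] at hrN
    have hr2 : r ≠ 2 := hModdr r (hrN.trans (Subgroup.card_subgroup_dvd_card N'))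
    exact hN'1 r (Finset.mem_erase.mpr ⟨hr2, hrπ⟩) hrN
  · intro r hr hrN
    rw [Subgroup.index_map_subtype, hMidx] at hrN
    rcases (Nat.Prime.dvd_mul hr).mp hrN with h | h
    · exact Finset.mem_of_mem_erase (hN'2 r hr h)
    · have := (Nat.prime_dvd_prime_iff_eq hr Nat.prime_two).mp (hr.dvd_of_dvd_pow h)
      rw [this]; exact h2
  · intro r hr hrH
    rw [Subgroup.card_subtype, ← hcompl.symm.index_eq_card] at hrH
    have hmem := hN'2 r hr hrH
    exact ⟨Finset.mem_coe.mpr (Finset.mem_of_mem_erase hmem), fun h => hτ2 r hmem h⟩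
  · intro r hr hrπ hrH
    rw [Subgroup.index_map_subtype, hMidx, hcompl.index_eq_card] at hrH
    have hrτ : r ∈ τ := Finset.mem_erase.mpr ⟨fun h => hrπ.2 h, Finset.mem_coe.mp hrπ.1⟩
    rcases (Nat.Prime.dvd_mul hr).mp hrH with h | h
    · exact hN'1 r hrτ h
    · have := (Nat.prime_dvd_prime_iff_eq hr Nat.prime_two).mp (hr.dvd_of_dvd_pow h)
      exact hτ2 r hrτ this
  · refine ⟨⟨?_⟩⟩
    rintro ⟨a, ha⟩ ⟨b, hb⟩
    obtain ⟨a', ha', rfl⟩ := Subgroup.mem_map.mp ha
    obtain ⟨b', hb', rfl⟩ := Subgroup.mem_map.mp hb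
    apply Subtype.ext
    show M.subtype a' * M.subtype b' = M.subtype b' * M.subtype a'
    have := hH'c.is_comm.comm ⟨a', ha'⟩ ⟨b', hb'⟩
    have h' : a' * b' = b' * a' := congrArg Subtype.val this
    rw [← map_mul, ← map_mul, h']

end Cfsg.Agent.S3898
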