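import Cfsg.Statements.S3899
import Cfsg.Agent.S3897
import Cfsg.Agent.Lib.Helper75.PiClasses

set_option autoImplicit false
open Cfsg

namespace Cfsg.Agent.S3899

open Cfsg.Agent.Lib.Helper75.PiClasses

/-- For every `q ∈ π` the group is `q`-nilpotent with abelian Sylow `q`-subgroups. -/
theorem step_q {G : Type*} [Group G] [Finite G] (π : Finset ℕ) (hπ : ∀ r ∈ π, r.Prime) (h2 : 2 ∉ π)
    (p : ℕ) (hp : p ∈ π) (hmin : ∀ r ∈ π, p ≤ r)
    (hk : (p + 1) * π.prod (fun r => r ^ (Nat.card G).factorization r) < 2 * p * Nat.card {c : ConjClasses G // ∀ x ∈ c.carrier, ∀ r : ℕ, r.Prime → r ∣ orderOf x → r ∈ π})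
    (q : ℕ) (hq : q ∈ π) [Fact q.Prime] (Q : Sylow q G) :
    Cfsg.HasNormalPComplement q G ∧ IsMulCommutative ↥(Q : Subgroup G) := by
  have hq2 : q ≠ 2 := fun h => h2 (h ▸ hq)
  have hppos : 0 < p := (hπ p hp).pos
  have hpq : p ≤ q := hmin q hq
  apply (Cfsg.Agent.S3897.result hq2 Q).mp
  have hB := card_sigClasses_le_mul (G := G) π hπ hq
  have hsplit : q ^ (Nat.card G).factorization q * ordPart (π.erase q) G = ordPart π G :=
    Finset.mul_prod_erase π (fun r => r ^ (Nat.card G).factorization r) hq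
  have hbpos : 0 < ordPart (π.erase q) G := by
    apply Finset.prod_pos
    intro r hr
    exact pow_pos (hπ r (Finset.mem_of_mem_erase hr)).pos _
  have ha : Nat.card ↥(Q : Subgroup G) = q ^ (Nat.card G).factorization q :=
    Sylow.card_eq_multiplicity Q
  rw [ha]
  change (p + 1) * ordPart π G < 2 * p * Nat.card (SigClasses π G) at hk
  rw [← hsplit] at hk
  set a := q ^ (Nat.card G).factorization q
  set b := ordPart (π.erase q) G
  set K := Nat.card (SigClasses π G)
  set k := Nat.card {d : ConjClasses G // ∀ x ∈ d.carrier, ∃ k : ℕ, orderOf x = q ^ k}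
  have h1 : (p + 1) * a * b < 2 * p * k * b := by
    calc (p + 1) * a * b = (p + 1) * (a * b) := by ring
      _ < 2 * p * K := hk
      _ ≤ 2 * p * (k * b) := Nat.mul_le_mul_left _ hB
      _ = 2 * p * k * b := by ring
  have h3 : (p + 1) * a < 2 * p * k := lt_of_mul_lt_mul_right h1 (Nat.zero_le _)
  have h4 : p * ((q + 1) * a) ≤ q * ((p + 1) * a) := by
    have : p * (q + 1) ≤ q * (p + 1) := by nlinarith
    calc p * ((q + 1) * a) = p * (q + 1) * a := by ring
      _ ≤ q * (p + 1) * a := Nat.mul_le_mul_right _ this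
      _ = q * ((p + 1) * a) := by ring
  have hqpos : 0 < q := lt_of_lt_of_le hppos hpq
  have h5 : q * ((p + 1) * a) < q * (2 * p * k) := Nat.mul_lt_mul_of_pos_left h3 hqpos
  have h6 : p * ((q + 1) * a) < p * (2 * q * k) := by
    calc p * ((q + 1) * a) ≤ q * ((p + 1) * a) := h4
      _ < q * (2 * p * k) := h5
      _ = p * (2 * q * k) := by ring
  exact lt_of_mul_lt_mul_left h6 (Nat.zero_le _)

/-- The normal `q`-complement with its properties. -/
theorem exists_compl_q {G : Type*} [Group G] [Finite G] {q : ℕ} [Fact q.Prime]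
    (h : ∀ Q : Sylow q G, Cfsg.HasNormalPComplement q G ∧ IsMulCommutative ↥(Q : Subgroup G)) :
    ∃ N : Subgroup G, N.Normal ∧ ¬ q ∣ Nat.card N ∧ (∀ r : ℕ, r.Prime → r ∣ N.index → r = q) ∧
      ∀ a b : G, a * b * a⁻¹ * b⁻¹ ∈ N := by
  have hqp : q.Prime := Fact.out
  obtain ⟨Q, N, hNn, hc⟩ := (h default).1
  have hQc : IsMulCommutative ↥(Q : Subgroup G) := (h Q).2
  refine ⟨N, hNn, ?_, ?_, ?_⟩
  · rw [← hc.index_eq_card]
    exact Q.not_dvd_index
  · intro r hr hrN
    rw [hc.symm.index_eq_card] at hrN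
    obtain ⟨n, hn⟩ := IsPGroup.iff_card.mp Q.2
    rw [hn] at hrN
    exact (Nat.prime_dvd_prime_iff_eq hr hqp).mp (hr.dvd_of_dvd_pow hrN)
  · intro a b
    obtain ⟨⟨n1, u1⟩, hnu1⟩ := hc.2 a
    obtain ⟨⟨n2, u2⟩, hnu2⟩ := hc.2 b
    simp only at hnu1 hnu2
    have hu : (u1 : G) * (u2 : G) = (u2 : G) * (u1 : G) := by
      have := hQc.is_comm.comm u1 u2
      exact congrArg Subtype.val this
    have hmk : ∀ (n : N) (u : G), (QuotientGroup.mk ((n : G) * u) : G ⧸ N) = QuotientGroup.mk u := by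
      intro n u
      rw [QuotientGroup.mk_mul, (QuotientGroup.eq_one_iff (n : G)).mpr n.2, one_mul]
    have ha : (QuotientGroup.mk a : G ⧸ N) = QuotientGroup.mk (u1 : G) := by
      rw [← hnu1]; exact hmk n1 u1
    have hb : (QuotientGroup.mk b : G ⧸ N) = QuotientGroup.mk (u2 : G) := by
      rw [← hnu2]; exact hmk n2 u2
    rw [← QuotientGroup.eq_one_iff]
    simp only [QuotientGroup.mk_mul, QuotientGroup.mk_inv, ha, hb]
    rw [← QuotientGroup.mk_mul, hu, QuotientGroup.mk_mul]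
    group

/-- Let π be a finite non-empty set of odd primes with smallest member p and G a finite group. Write k_π(G) for the number of conjugacy classes of G consisting of π-elements (elements all of whose order's prime divisors lie in π) and |G|_π for the π-part of the order of G. If k_π(G) > (p + 1)|G|_π/(2p), then G has a normal π-complement (a normal subgroup of order prime to π whose index is a π-number) and an abelian Hall π-subgroup. -/
theorem result {G : Type*} [Group G] [Finite G] (π : Finset ℕ) (hπ : ∀ r ∈ π, r.Prime) (h2 : 2 ∉ π) (p : ℕ) (hp : p ∈ π)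
    (hmin : ∀ r ∈ π, p ≤ r) (hk : (p + 1) * π.prod (fun r => r ^ (Nat.card G).factorization r) < 2 * p * Nat.card {c : ConjClasses G // ∀ x ∈ c.carrier, ∀ r : ℕ, r.Prime → r ∣ orderOf x → r ∈ π}) :
    (∃ N : Subgroup G, N.Normal ∧ (∀ r : ℕ, r.Prime → r ∣ Nat.card ↥N → r ∉ π) ∧ ∀ r : ℕ, r.Prime → r ∣ N.index → r ∈ π) ∧ ∃ H : Subgroup G, Cfsg.IsPiHall (↑π : Set ℕ) H ∧ IsMulCommutative ↥H := by
  classical
  have hstep : ∀ q ∈ π, ∃ N : Subgroup G, N.Normal ∧ ¬ q ∣ Nat.card N ∧
      (∀ r : ℕ, r.Prime → r ∣ N.index → r = q) ∧ ∀ a b : G, a * b * a⁻¹ * b⁻¹ ∈ N := by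
    intro q hq
    have : Fact q.Prime := ⟨hπ q hq⟩
    exact exists_compl_q (fun Q => step_q π hπ h2 p hp hmin hk q hq Q)
  have hind : ∀ σ : Finset ℕ, σ ⊆ π → ∃ N : Subgroup G, N.Normal ∧ (∀ r ∈ σ, ¬ r ∣ Nat.card N) ∧
      (∀ r : ℕ, r.Prime → r ∣ N.index → r ∈ σ) ∧ ∀ a b : G, a * b * a⁻¹ * b⁻¹ ∈ N := by
    intro σ
    induction σ using Finset.induction_on with
    | empty =>
      intro _
      refine ⟨⊤, inferInstance, ?_, ?_, ?_⟩
      · intro r hr; exact absurd hr (Finset.notMem_empty r)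
      · intro r hr hrN
        rw [Subgroup.index_top] at hrN
        exact absurd (Nat.dvd_one.mp hrN) hr.ne_one
      · intro a b; exact Subgroup.mem_top _
    | insert q σ hqσ ih =>
      intro hsub
      obtain ⟨N, hNn, hN1, hN2, hN3⟩ := ih (fun r hr => hsub (Finset.mem_insert_of_mem hr))
      obtain ⟨Nq, hNqn, hq1, hq2, hq3⟩ := hstep q (hsub (Finset.mem_insert_self _ _))
      refine ⟨N ⊓ Nq, inferInstance, ?_, ?_, ?_⟩
      · intro r hr hrd
        rcases Finset.mem_insert.mp hr with h | h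
        · rw [h] at hrd
          exact hq1 (hrd.trans (Subgroup.card_dvd_of_le inf_le_right))
        · exact hN1 r h (hrd.trans (Subgroup.card_dvd_of_le inf_le_left))
      · intro r hr hrd
        have h1 : (N ⊓ Nq).relIndex N * N.index = (N ⊓ Nq).index :=
          Subgroup.relIndex_mul_index inf_le_left
        rw [← h1, Subgroup.inf_relIndex_left] at hrd
        rcases (Nat.Prime.dvd_mul hr).mp hrd with h | h
        · have h2 : Nq.relIndex N ∣ Nq.index := Subgroup.relIndex_dvd_index_of_normal Nq N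
          rw [Finset.mem_insert]
          exact Or.inl (hq2 r hr (h.trans h2))
        · exact Finset.mem_insert_of_mem (hN2 r hr h)
      · intro a b
        exact Subgroup.mem_inf.mpr ⟨hN3 a b, hq3 a b⟩
  obtain ⟨N, hNn, hN1, hN2, hN3⟩ := hind π (Finset.Subset.refl _)
  have hcop : Nat.Coprime (Nat.card N) N.index := by
    apply Nat.coprime_of_dvd
    intro r hr hr1 hr2
    exact hN1 r (hN2 r hr hr2) hr1
  obtain ⟨H, hH⟩ := Subgroup.exists_right_complement'_of_coprime hcop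
  refine ⟨⟨N, hNn, ?_, hN2⟩, H, ⟨?_, ?_⟩, ?_⟩
  · intro r _ hrN hrπ
    exact hN1 r hrπ hrN
  · intro r hr hrH
    rw [← hH.symm.index_eq_card] at hrH
    exact hN2 r hr hrH
  · intro r _ hrπ hrH
    rw [hH.index_eq_card] at hrH
    exact hN1 r hrπ hrH
  · refine ⟨⟨?_⟩⟩
    intro h1 h2
    have hmem : (h1 : G) * h2 * (h1 : G)⁻¹ * (h2 : G)⁻¹ ∈ N ⊓ H :=
      Subgroup.mem_inf.mpr ⟨hN3 _ _, H.mul_mem (H.mul_mem (H.mul_mem h1.2 h2.2)
        (H.inv_mem h1.2)) (H.inv_mem h2.2)⟩
    rw [hH.disjoint.eq_bot, Subgroup.mem_bot] at hmem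
    apply Subtype.ext
    show (h1 : G) * h2 = h2 * h1
    calc (h1 : G) * h2 = ((h1 : G) * h2 * (h1 : G)⁻¹ * (h2 : G)⁻¹) * (h2 * h1) := by group
      _ = h2 * h1 := by rw [hmem, one_mul]

end Cfsg.Agent.S3899
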