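import Cfsg.Statements.S3904
import Cfsg.Agent.Lib.Helper65.MaxCentStruct

set_option autoImplicit false
open Cfsg

namespace Cfsg.Agent.S3904

open Cfsg.Agent.Lib.Helper65

/-- Let G be a non-abelian finite group in which the centralizer of every non-central element is a maximal subgroup. Then G/Z(G) is either an elementary abelian p-group for some prime p, or a minimal non-abelian group (non-abelian with all proper subgroups abelian) of order p^a · q for distinct primes p, q with a normal Sylow p-subgroup. -/
theorem result {G : Type*} [Group G] [Finite G] (hna : ¬ IsMulCommutative G)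
    (h : ∀ x : G, x ∉ Subgroup.center G → IsCoatom (Subgroup.centralizer ({x} : Set G))) :
    (∃ p : ℕ, p.Prime ∧ Cfsg.IsElementaryAbelian p (⊤ : Subgroup (G ⧸ Subgroup.center G))) ∨
    (¬ IsMulCommutative (G ⧸ Subgroup.center G) ∧ (∀ H : Subgroup (G ⧸ Subgroup.center G), H ≠ ⊤ → IsMulCommutative ↥H) ∧
      ∃ p q a : ℕ, p.Prime ∧ q.Prime ∧ p ≠ q ∧ Nat.card (G ⧸ Subgroup.center G) = p ^ a * q ∧
        ∀ P : Subgroup (G ⧸ Subgroup.center G), Nat.card ↥P = p ^ a → P.Normal) := by
  have hmc : MaxCent G := h
  obtain ⟨x, hx⟩ : ∃ x : G, x ∉ Subgroup.center G := by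
    by_contra hcon
    simp only [not_exists, not_not] at hcon
    apply hna
    rw [isMulCommutative_iff]
    intro a b
    have := hcon b
    rw [Subgroup.mem_center_iff] at this
    exact this a
  by_cases hI : ∃ w : G, w ∉ Subgroup.center G ∧ (∀ a ∈ cen w, ∀ b ∈ cen w, a * b = b * a) ∧
      ¬ (cen w).Normal
  · right
    obtain ⟨w, hw, hab, hn⟩ := hI
    exact frob_alt hmc w hw hab hn
  · left
    have hII : ∀ w : G, w ∉ Subgroup.center G → (∀ a ∈ cen w, ∀ b ∈ cen w, a * b = b * a) →
        (cen w).Normal := by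
      intro w hw hab
      by_contra hn
      exact hI ⟨w, hw, hab, hn⟩
    have hall := all_normal_of_abelian_normal hmc hII
    obtain ⟨p, hp, hpow, hcomm⟩ := elemAb_of_all_normal hmc x hx hall
    refine ⟨p, hp, ?_, ?_⟩
    · rw [isMulCommutative_iff]
      rintro ⟨u, _⟩ ⟨v, _⟩
      obtain ⟨a, rfl⟩ := QuotientGroup.mk'_surjective _ u
      obtain ⟨b, rfl⟩ := QuotientGroup.mk'_surjective _ v
      apply Subtype.ext
      show (QuotientGroup.mk' (Subgroup.center G)) a * (QuotientGroup.mk' (Subgroup.center G)) b =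
        (QuotientGroup.mk' (Subgroup.center G)) b * (QuotientGroup.mk' (Subgroup.center G)) a
      have h1 : (QuotientGroup.mk' (Subgroup.center G)) (a * b * a⁻¹ * b⁻¹) = 1 := by
        rw [QuotientGroup.mk'_apply, QuotientGroup.eq_one_iff]; exact hcomm a b
      rw [map_mul, map_mul, map_mul, map_inv, map_inv] at h1
      set A := (QuotientGroup.mk' (Subgroup.center G)) a
      set B := (QuotientGroup.mk' (Subgroup.center G)) b
      calc A * B = (A * B * A⁻¹ * B⁻¹) * (B * A) := by group
        _ = B * A := by rw [h1, one_mul]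
    · intro u _
      obtain ⟨a, rfl⟩ := QuotientGroup.mk'_surjective _ u
      rw [← map_pow, QuotientGroup.mk'_apply, QuotientGroup.eq_one_iff]
      exact hpow a

end Cfsg.Agent.S3904
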