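import Cfsg.Statements.S3905
import Cfsg.Agent.Lib.Helper65.RelMaxCentY
import Cfsg.Agent.Lib.Helper65.RelMaxCentX2
import Cfsg.Agent.Lib.Helper65.RelMaxCentQ1

set_option autoImplicit false
open Cfsg

namespace Cfsg.Agent.S3905

/-- Let N be a normal subgroup of the finite group G such that for every element x of N outside the center of N the centralizer C_G(x) is a maximal subgroup of G. Then N/Z(N) is either an elementary abelian p-group for some prime p, or a Frobenius group whose kernel is an elementary abelian normal subgroup and whose complement has prime order. -/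
theorem result {G : Type*} [Group G] [Finite G] (N : Subgroup G) [N.Normal]
    (h : ∀ x : G, x ∈ N → x ∉ Subgroup.centralizer (N : Set G) → IsCoatom (Subgroup.centralizer ({x} : Set G))) :
    (∃ p : ℕ, p.Prime ∧ Cfsg.IsElementaryAbelian p (⊤ : Subgroup (↥N ⧸ Subgroup.center ↥N))) ∨
    (∃ (Q K : Subgroup (↥N ⧸ Subgroup.center ↥N)) (p : ℕ), p.Prime ∧ Cfsg.IsFrobeniusComplement Q ∧ (Nat.card ↥Q).Prime ∧
      K.Normal ∧ (K : Set (↥N ⧸ Subgroup.center ↥N)) = Cfsg.frobeniusKernel Q ∧ Cfsg.IsElementaryAbelian p K) := by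
  open Cfsg.Agent.Lib.Helper65 in
  classical
  have hR : RelMaxCent N := by
    intro x hx hxz
    exact h x hx ((notMem_zN_iff hx).1 hxz)
  have hgoal : RelConclusion N := by
    by_cases hI : ∃ x ∈ N, x ∉ zN N ∧ ∀ c ∈ N, c ∈ cen x → cen x ≤ cen c
    · obtain ⟨x, hx, hxz, hI⟩ := hI
      by_cases hnorm : ∀ n ∈ N, ∀ c ∈ N ⊓ cen x, n * c * n⁻¹ ∈ N ⊓ cen x
      · exact conclusion_of_x1 hR hx hxz hI hnorm
      · exact conclusion_of_x2 hR hx hxz hI hnorm
    · have hnoI : ∀ y ∈ N, y ∉ zN N → ¬ (∀ c ∈ N, c ∈ cen y → cen y ≤ cen c) := by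
        intro y hy hyz hc
        exact hI ⟨y, hy, hyz, hc⟩
      obtain ⟨p, hp, hpg⟩ := rel_pgroup_of_noI hR hnoI
      obtain ⟨hcomm, hpow⟩ := rel_E_of_pgroup hR hp hpg
      exact Or.inl ⟨p, hp, elemAb_of_E hcomm hpow⟩
  exact hgoal

end Cfsg.Agent.S3905
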