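import Mathlib
import Cfsg.Statements.S3909

set_option autoImplicit false
open Cfsg

namespace Cfsg.Agent.S3909

theorem part1 {G : Type*} [Group G] [Finite G] (hB : ∀ A B : Subgroup G, IsMulCommutative ↥A → IsMulCommutative ↥B → Nat.card ↥A = Nat.card ↥B → ∃ g : G, B = A.map (MulAut.conj g).toMonoidHom) (M : Subgroup G) [hM : M.Normal]
    (a : G) (h : ∃ m ∈ M, orderOf m = orderOf a) : a ∈ M := by
  obtain ⟨m, hmM, hma⟩ := h
  obtain ⟨g, hg⟩ := hB (Subgroup.zpowers m) (Subgroup.zpowers a) inferInstance inferInstance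
    (by rw [Nat.card_zpowers, Nat.card_zpowers, hma])
  have ha : a ∈ Subgroup.zpowers a := Subgroup.mem_zpowers a
  rw [hg, Subgroup.mem_map] at ha
  obtain ⟨z, hz, rfl⟩ := ha
  have hzM : z ∈ M := (Subgroup.zpowers_le.mpr hmM) hz
  exact hM.conj_mem z hzM g

/-- every `p`-element has order dividing `p`. -/
theorem pelt {G : Type*} [Group G] [Finite G] (hB : ∀ A B : Subgroup G, IsMulCommutative ↥A → IsMulCommutative ↥B → Nat.card ↥A = Nat.card ↥B → ∃ g : G, B = A.map (MulAut.conj g).toMonoidHom) (M : Subgroup G)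
    (p t : ℕ) [hp : Fact p.Prime] (ht : 2 ≤ t) (hcard : Nat.card ↥M = p ^ t)
    (hel : Cfsg.IsElementaryAbelian p M) (y : G) (k : ℕ) (hy : orderOf y = p ^ k) : k ≤ 1 := by
  by_contra hk
  rw [not_le] at hk
  obtain ⟨hcomm, hexp⟩ := hel
  set j := min k t with hj
  have hj2 : 2 ≤ j := le_min hk ht
  have hjk : j ≤ k := min_le_left _ _
  have hjt : j ≤ t := min_le_right _ _
  set y' := y ^ (p ^ (k - j)) with hy'
  have hppos : 0 < p := hp.out.pos
  have hoy' : orderOf y' = p ^ j := by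
    rw [hy', orderOf_pow, hy]
    have hd : p ^ (k - j) ∣ p ^ k := pow_dvd_pow p (Nat.sub_le _ _)
    rw [Nat.gcd_eq_right hd]
    rw [Nat.pow_div (Nat.sub_le _ _) hppos]
    congr 1
    omega
  -- subgroup of M of order p^j
  obtain ⟨K, hK⟩ := Sylow.exists_subgroup_card_pow_prime (G := ↥M) p (n := j)
    (by rw [hcard]; exact pow_dvd_pow p hjt)
  set K' := K.map M.subtype with hK'
  have hK'card : Nat.card ↥K' = p ^ j := by rw [hK', Subgroup.card_subtype, hK]
  have hK'le : K' ≤ M := Subgroup.map_subtype_le K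
  have hK'comm : IsMulCommutative ↥K' := by
    refine ⟨⟨?_⟩⟩
    rintro ⟨u, hu⟩ ⟨v, hv⟩
    apply Subtype.ext
    have := hcomm.is_comm.comm ⟨u, hK'le hu⟩ ⟨v, hK'le hv⟩
    have h2 := congrArg Subtype.val this
    simpa using h2
  obtain ⟨g, hg⟩ := hB K' (Subgroup.zpowers y') hK'comm inferInstance
    (by rw [hK'card, Nat.card_zpowers, hoy'])
  have hmem : y' ∈ Subgroup.zpowers y' := Subgroup.mem_zpowers y'
  rw [hg, Subgroup.mem_map] at hmem
  obtain ⟨z, hz, hzy⟩ := hmem
  have hzp : z ^ p = 1 := hexp z (hK'le hz)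
  have hy'p : y' ^ p = 1 := by
    rw [← hzy, ← map_pow, hzp, map_one]
  have hdvd : p ^ j ∣ p := by
    rw [← hoy']
    exact orderOf_dvd_of_pow_eq_one hy'p
  have : p ^ j ∣ p ^ 1 := by simpa using hdvd
  have := (Nat.pow_dvd_pow_iff_le_right hp.out.one_lt).mp this
  omega

theorem result {G : Type*} [Group G] [Finite G] (hB : ∀ A B : Subgroup G, IsMulCommutative ↥A → IsMulCommutative ↥B → Nat.card ↥A = Nat.card ↥B → ∃ g : G, B = A.map (MulAut.conj g).toMonoidHom) (M : Subgroup G) [M.Normal] :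
    (∀ a : G, (∃ m ∈ M, orderOf m = orderOf a) → a ∈ M) ∧
    ∀ (p t : ℕ) [Fact p.Prime], 2 ≤ t → Nat.card ↥M = p ^ t → Cfsg.IsElementaryAbelian p M → ∀ P : Sylow p G, (P : Subgroup G) = M := by
  refine ⟨fun a h => part1 hB M a h, ?_⟩
  intro p t hp ht hcard hel P
  have hMp : IsPGroup p ↥M := IsPGroup.of_card hcard
  -- an element of order p in M
  have hpd : p ∣ Nat.card ↥M := by
    rw [hcard]; exact dvd_pow_self p (by omega)
  obtain ⟨m, hm⟩ := exists_prime_orderOf_dvd_card' (G := ↥M) p hpd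
  have hm' : orderOf (m : G) = p := by rw [Subgroup.orderOf_coe, hm]
  have hPM : (P : Subgroup G) ≤ M := by
    intro x hx
    obtain ⟨k, hk⟩ := (IsPGroup.iff_orderOf.mp P.isPGroup') ⟨x, hx⟩
    rw [← Subgroup.orderOf_coe] at hk
    simp only at hk
    have hk1 := pelt hB M p t ht hcard hel x k hk
    interval_cases k
    · rw [pow_zero, orderOf_eq_one_iff] at hk
      rw [hk]; exact M.one_mem
    · rw [pow_one] at hk
      exact part1 hB M x ⟨m, m.2, by rw [hm', hk]⟩
  exact (P.is_maximal' hMp hPM).symm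

end Cfsg.Agent.S3909
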