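import Mathlib
import Cfsg.Statements.S3910
import Cfsg.Agent.Lib.Helper69.Nilpotent

set_option autoImplicit false
open Cfsg

namespace Cfsg.Agent.S3910

open scoped Pointwise
open Cfsg.Agent.Lib.Helper69

theorem comm_of_le {G : Type*} [Group G] (A B : Subgroup G) (h : A ≤ B) (hB : IsMulCommutative ↥B) :
    IsMulCommutative ↥A := by
  refine ⟨⟨?_⟩⟩
  rintro ⟨u, hu⟩ ⟨v, hv⟩
  apply Subtype.ext
  have := hB.is_comm.comm ⟨u, h hu⟩ ⟨v, h hv⟩
  simpa using congrArg Subtype.val this

theorem cyclic_of_card {G : Type*} [Group G] [Finite G] (hB : ∀ A B : Subgroup G, IsMulCommutative ↥A → IsMulCommutative ↥B → Nat.card ↥A = Nat.card ↥B → ∃ g : G, B = A.map (MulAut.conj g).toMonoidHom)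
    [Group.IsNilpotent G] {p : ℕ} [hp : Fact p.Prime] :
    ∀ i : ℕ, ∀ N : Subgroup G, N.Normal → Nat.card ↥N = p ^ i → IsCyclic ↥N := by
  intro i
  induction i with
  | zero =>
    intro N _ hN
    rw [pow_zero] at hN
    haveI : Subsingleton ↥N := (Nat.card_eq_one_iff_unique.mp hN).1
    exact isCyclic_of_subsingleton
  | succ i ih =>
    intro N hNn hN
    obtain ⟨N', hN'n, hN'le, hN'card⟩ := exists_normal_le_card N (i + 1) hN i (by omega)
    haveI := ih N' hN'n hN'card
    have hN'comm : IsMulCommutative ↥N' := ⟨⟨fun a b => IsCyclic.commGroup.mul_comm a b⟩⟩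
    have key : ∀ x : G, ∀ a : ℕ, a ≤ i → orderOf x = p ^ a → x ∈ N' := by
      intro x a ha hx
      obtain ⟨N'', hN''n, hN''le, hN''card⟩ := exists_normal_le_card N' i hN'card a ha
      have hN''comm := comm_of_le N'' N' hN''le hN'comm
      obtain ⟨g, hg⟩ := hB N'' (Subgroup.zpowers x) hN''comm inferInstance
        (by rw [hN''card, Nat.card_zpowers, hx])
      rw [map_conj_eq_smul, Subgroup.Normal.conj_smul_eq_self g N''] at hg
      apply hN''le
      rw [← hg]
      exact Subgroup.mem_zpowers x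
    have hlt : N' < N := by
      refine lt_of_le_of_ne hN'le ?_
      intro h
      rw [h, hN] at hN'card
      have := Nat.pow_right_injective hp.out.two_le hN'card
      omega
    obtain ⟨x, hxN, hxN'⟩ := SetLike.exists_of_lt hlt
    have hNp : IsPGroup p ↥N := IsPGroup.of_card hN
    obtain ⟨a, ha⟩ := (IsPGroup.iff_orderOf.mp hNp) ⟨x, hxN⟩
    rw [← Subgroup.orderOf_coe] at ha
    simp only at ha
    have hai : i < a := by
      by_contra h
      exact hxN' (key x a (by omega) ha)
    have hle : Subgroup.zpowers x ≤ N := Subgroup.zpowers_le.mpr hxN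
    have hcard : Nat.card ↥N ≤ Nat.card ↥(Subgroup.zpowers x) := by
      rw [hN, Nat.card_zpowers, ha]
      exact Nat.pow_le_pow_right hp.out.pos hai
    have heq := Subgroup.eq_of_le_of_card_ge hle hcard
    rw [← heq]
    infer_instance

theorem result {G : Type*} [Group G] [Finite G] (hB : ∀ A B : Subgroup G, IsMulCommutative ↥A → IsMulCommutative ↥B → Nat.card ↥A = Nat.card ↥B → ∃ g : G, B = A.map (MulAut.conj g).toMonoidHom) (hnil : Group.IsNilpotent G) : IsCyclic G := by
  haveI := hnil
  haveI : IsZGroup G := by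
    refine ⟨fun p hp P => ?_⟩
    haveI : Fact p.Prime := ⟨hp⟩
    obtain ⟨n, hn⟩ := IsPGroup.iff_card.mp P.isPGroup'
    exact cyclic_of_card hB n (P : Subgroup G) inferInstance hn
  infer_instance

end Cfsg.Agent.S3910
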