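import Cfsg.Statements.S3911
import Cfsg.Agent.S3908
import Cfsg.Agent.S3909
import Cfsg.Agent.Lib.Helper04.BQL5
import Cfsg.Agent.Lib.Helper65.BQL1
import Cfsg.Agent.Lib.Helper68.BQL6
import Cfsg.Agent.Lib.Helper96.BQL4

set_option autoImplicit false
open Cfsg

namespace Cfsg.Agent.S3911

theorem map_conj_map {G : Type*} [Group G] (M : Subgroup G) [M.Normal] (A0 : Subgroup G) (g : G) :
    (A0.map (MulAut.conj g).toMonoidHom).map (QuotientGroup.mk' M) =
      (A0.map (QuotientGroup.mk' M)).map (MulAut.conj (QuotientGroup.mk' M g)).toMonoidHom := by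
  rw [Subgroup.map_map, Subgroup.map_map]
  congr 1

theorem exists_abelian_lift {G : Type*} [Group G] [Finite G]
    (s3908 : ∀ (p : ℕ) [Fact p.Prime], p ≠ 2 → ∀ P : Sylow p G,
      IsCyclic ↥(P : Subgroup G) ∨ ∀ x ∈ (P : Subgroup G), x ^ p = 1)
    (M : Subgroup G) [M.Normal]
    (s3909 : ∀ a : G, (∃ m ∈ M, orderOf m = orderOf a) → a ∈ M)
    (hM : Odd (Nat.card ↥M)) (A : Subgroup (G ⧸ M)) (hA : IsMulCommutative ↥A) :
    ∃ (A0 : Subgroup G) (n : ℕ), IsMulCommutative ↥A0 ∧ A0.map (QuotientGroup.mk' M) = A ∧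
      Nat.card ↥A0 = n ∧ n = Cfsg.Agent.Lib.Helper04.BQ.liftCard (Nat.card ↥M) (Nat.card ↥A) := by
  obtain ⟨hMH, hidx, hab, hmap⟩ := Cfsg.Agent.Lib.Helper68.BQ.comap_facts M A hA
  obtain ⟨A0, hsup, hmin⟩ := Cfsg.Agent.Lib.Helper65.BQ.exists_min_supplement M (A.comap (QuotientGroup.mk' M)) hMH
  refine ⟨A0, _, Cfsg.Agent.Lib.Helper96.BQ.isMulCommutative_of_min_supplement s3908 M _ A0 s3909 hM hsup hmin hab,
    hmap A0 hsup, rfl, ?_⟩
  rw [Cfsg.Agent.Lib.Helper04.BQ.card_min_supplement s3908 M _ A0 s3909 hM hMH hsup hmin hab, hidx]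

/-- Let G be a finite group in which any two abelian subgroups of the same order are conjugate. If M is a normal subgroup of G of odd order, then any two abelian subgroups of G/M of the same order are conjugate in G/M. -/
theorem result {G : Type*} [Group G] [Finite G] (hB : ∀ A B : Subgroup G, IsMulCommutative ↥A → IsMulCommutative ↥B → Nat.card ↥A = Nat.card ↥B → ∃ g : G, B = A.map (MulAut.conj g).toMonoidHom) (M : Subgroup G) [M.Normal] (hM : Odd (Nat.card ↥M)) :
    ∀ A B : Subgroup (G ⧸ M), IsMulCommutative ↥A → IsMulCommutative ↥B → Nat.card ↥A = Nat.card ↥B →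
      ∃ g : G ⧸ M, B = A.map (MulAut.conj g).toMonoidHom := by
  intro A B hA hBc hcard
  have s3908 := (Cfsg.Agent.S3908.result hB).2
  have s3909 := (Cfsg.Agent.S3909.result hB M).1
  obtain ⟨A0, n, hA0, hA0map, hA0card, hn⟩ := exists_abelian_lift s3908 M s3909 hM A hA
  obtain ⟨B0, n', hB0, hB0map, hB0card, hn'⟩ := exists_abelian_lift s3908 M s3909 hM B hBc
  obtain ⟨g, hg⟩ := hB A0 B0 hA0 hB0 (by rw [hA0card, hB0card, hn, hn', hcard])
  refine ⟨QuotientGroup.mk' M g, ?_⟩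
  rw [← hB0map, hg, map_conj_map, hA0map]

end Cfsg.Agent.S3911
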