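import Mathlib
import Cfsg.Statements.S3917
import Cfsg.Agent.Lib.Helper70.Abelian

set_option autoImplicit false
open Cfsg

namespace Cfsg.Agent.S3917

open Cfsg.Agent.Lib.Helper70 Subgroup

theorem card_dvd_of_cyclic_of_pow {H : Type*} [Group H] [IsCyclic H] (p : ℕ)
    (h : ∀ a : H, a ^ p = 1) : Nat.card H ∣ p := by
  rw [← IsCyclic.exponent_eq_card]
  exact Monoid.exponent_dvd_of_forall_pow_eq_one h

theorem card_sup_le_mul {G : Type*} [CommGroup G] [Finite G] (A B : Subgroup G) :
    Nat.card (A ⊔ B : Subgroup G) ≤ Nat.card A * Nat.card B := by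
  rw [← Nat.card_prod]
  let f : A × B → (A ⊔ B : Subgroup G) := fun t =>
    ⟨t.1 * t.2, Subgroup.mul_mem_sup t.1.2 t.2.2⟩
  apply Nat.card_le_card_of_surjective f
  rintro ⟨g, hg⟩
  obtain ⟨a, ha, b, hb, rfl⟩ := Subgroup.mem_sup.mp hg
  exact ⟨(⟨a, ha⟩, ⟨b, hb⟩), rfl⟩

/-- Say that a group has self-centralizing non-cyclic subgroups when every non-cyclic subgroup H satisfies C_G(H) ≤ H. A finite abelian group with self-centralizing non-cyclic subgroups is cyclic or elementary abelian of order p² for a prime p. -/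
theorem result {G : Type*} [CommGroup G] [Finite G] (hX : (∀ H : Subgroup G, ¬ IsCyclic ↥H → Subgroup.centralizer (H : Set G) ≤ H)) :
    IsCyclic G ∨ ∃ p : ℕ, p.Prime ∧ Nat.card G = p ^ 2 ∧ Monoid.exponent G = p := by
  by_cases hc : IsCyclic G
  · left; exact hc
  right
  have hprop : ∀ H : Subgroup G, ¬ IsCyclic ↥H → H = ⊤ := by
    intro H hH
    rw [eq_top_iff]
    refine le_trans ?_ (hX H hH)
    intro g _
    rw [Subgroup.mem_centralizer_iff]
    intro h _
    exact mul_comm h g
  obtain ⟨p, hp, hlt⟩ := exists_prime_lt_card_tors hc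
  have hT : tors G p = ⊤ := by
    apply hprop
    intro hcyc
    have : Nat.card (tors G p) ∣ p := by
      apply card_dvd_of_cyclic_of_pow
      rintro ⟨a, ha⟩
      ext
      exact (mem_tors p a).mp ha
    have := Nat.le_of_dvd hp.pos this
    omega
  have hpow : ∀ g : G, g ^ p = 1 := by
    intro g
    rw [← mem_tors, hT]; trivial
  have hcard_gt : p < Nat.card G := by
    rw [hT] at hlt
    simpa using hlt
  have hexp : Monoid.exponent G = p := by
    have hd : Monoid.exponent G ∣ p := Monoid.exponent_dvd_of_forall_pow_eq_one hpow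
    rcases (Nat.dvd_prime hp).mp hd with h1 | h1
    · exfalso
      have : Subsingleton G := Monoid.exp_eq_one_iff.mp h1
      have : Nat.card G = 1 := Nat.card_unique
      have := hp.two_le
      omega
    · exact h1
  refine ⟨p, hp, ?_, hexp⟩
  -- a nontrivial element
  have hnt : Nontrivial G := by
    rw [← Finite.one_lt_card_iff_nontrivial]
    have := hp.two_le; omega
  obtain ⟨z, hz⟩ := exists_ne (1 : G)
  have hoz : orderOf z = p := by
    have hd : orderOf z ∣ p := orderOf_dvd_of_pow_eq_one (hpow z)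
    rcases (Nat.dvd_prime hp).mp hd with h1 | h1
    · exact absurd (orderOf_eq_one_iff.mp h1) hz
    · exact h1
  have hcz : Nat.card (zpowers z) = p := by rw [Nat.card_zpowers, hoz]
  have hzne : zpowers z ≠ ⊤ := by
    intro h
    rw [h] at hcz
    simp at hcz
    omega
  obtain ⟨y, hy⟩ : ∃ y : G, y ∉ zpowers z := by
    by_contra hcon
    push Not at hcon
    exact hzne (eq_top_iff.mpr fun g _ => hcon g)
  have hoy : orderOf y ∣ p := orderOf_dvd_of_pow_eq_one (hpow y)
  have hcy : Nat.card (zpowers y) ≤ p := by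
    rw [Nat.card_zpowers]; exact Nat.le_of_dvd hp.pos hoy
  have hH : zpowers y ⊔ zpowers z = ⊤ := by
    apply hprop
    intro hcyc
    have hd : Nat.card (zpowers y ⊔ zpowers z : Subgroup G) ∣ p := by
      apply card_dvd_of_cyclic_of_pow
      rintro ⟨a, ha⟩
      ext
      exact hpow a
    have hle := Nat.le_of_dvd hp.pos hd
    have hzle : zpowers z ≤ zpowers y ⊔ zpowers z := le_sup_right
    have : zpowers z = zpowers y ⊔ zpowers z := by
      apply Subgroup.eq_of_le_of_card_ge hzle
      rw [hcz]; exact hle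
    apply hy
    rw [this]
    exact Subgroup.mem_sup_left (Subgroup.mem_zpowers y)
  have hle : Nat.card G ≤ p * p := by
    have := card_sup_le_mul (zpowers y) (zpowers z)
    rw [hH, hcz] at this
    have h2 : Nat.card (⊤ : Subgroup G) = Nat.card G := by simp
    rw [h2] at this
    exact le_trans this (Nat.mul_le_mul_right p hcy)
  have hpg : IsPGroup p G := fun g => ⟨1, by rw [pow_one]; exact hpow g⟩
  haveI : Fact p.Prime := ⟨hp⟩
  obtain ⟨k, hk⟩ := IsPGroup.iff_card.mp hpg
  rw [hk] at hcard_gt hle ⊢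
  have h2 : 1 < k := by
    by_contra hcon
    push Not at hcon
    have : p ^ k ≤ p ^ 1 := Nat.pow_le_pow_right hp.pos hcon
    rw [pow_one] at this
    omega
  have h3 : k ≤ 2 := by
    by_contra hcon
    push Not at hcon
    have : p ^ 3 ≤ p ^ k := Nat.pow_le_pow_right hp.pos hcon
    have h4 : p * p < p ^ 3 := by
      have := hp.two_le
      have : p ^ 3 = p * p * p := by ring
      nlinarith
    omega
  have : k = 2 := by omega
  rw [this]

end Cfsg.Agent.S3917
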