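import Cfsg.Statements.S3918
import Cfsg.Agent.Lib.Helper97.OddPGroup
import Cfsg.Agent.Lib.Helper60.PGroup
import Cfsg.Agent.Lib.Helper60.PointLine

set_option autoImplicit false
open Cfsg

namespace Cfsg.Agent.S3918

section aux
variable {G : Type*} [Group G] [Finite G] {p : ℕ} [Fact p.Prime]

theorem pow_le_three {n : ℕ} (hp : 2 ≤ p) (h : p ^ n ≤ p ^ 3) : n ≤ 3 :=
  (Nat.pow_le_pow_iff_right hp).mp h

/-- a nonabelian `p`-group has order at least `p ^ 3` -/
theorem three_le_of_not_comm (hna : ¬ IsMulCommutative G) {n : ℕ} (hn : Nat.card G = p ^ n) :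
    3 ≤ n := by
  by_contra hlt
  push Not at hlt
  apply hna
  interval_cases n
  · rw [pow_zero] at hn
    have : Subsingleton G := (Nat.card_eq_one_iff_unique.mp hn).1
    exact ⟨⟨fun a b => Subsingleton.elim _ _⟩⟩
  · rw [pow_one] at hn
    have := isCyclic_of_prime_card hn
    exact IsCyclic.isMulCommutative
  · exact IsPGroup.isMulCommutative_of_card_eq_prime_sq hn

theorem forward (hp : p ≠ 2) (hG : IsPGroup p G) (hna : ¬ IsMulCommutative G)
    (hsc : ∀ H : Subgroup G, ¬ IsCyclic ↥H → Subgroup.centralizer (H : Set G) ≤ H) :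
    Nat.card G = p ^ 3 := by
  have hp' := (Fact.out : p.Prime)
  have hnc : ¬ IsCyclic G := fun h => hna IsCyclic.isMulCommutative
  obtain ⟨A, hAn, ⟨hAc, hAe⟩, hAcard⟩ :=
    Cfsg.Agent.Lib.Helper97.exists_normal_elementary_sq hp hG hnc
  -- `A` is not cyclic
  have hAnc : ¬ IsCyclic ↥A := by
    intro hcyc
    obtain ⟨g, hg⟩ := IsCyclic.exists_generator (α := ↥A)
    have h1 : orderOf g = Nat.card A := orderOf_eq_card_of_forall_mem_zpowers hg
    have h2 : g ^ p = 1 := Subtype.ext (by simpa using hAe g g.2)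
    have h3 : orderOf g ∣ p := orderOf_dvd_of_pow_eq_one h2
    rw [h1, hAcard] at h3
    have := Nat.le_of_dvd hp'.pos h3
    nlinarith [hp'.two_le]
  have hCA : Subgroup.centralizer (A : Set G) ≤ A := hsc A hAnc
  have hAbot : A ≠ ⊥ := by
    intro h
    rw [h, Subgroup.card_bot] at hAcard
    have : 1 < p ^ 2 := Nat.one_lt_pow (by norm_num) hp'.one_lt
    omega
  obtain ⟨z, hzA, hzZ, hz1⟩ := Cfsg.Agent.Lib.Helper60.exists_center_mem_of_normal hG A hAbot
  -- a noncentral element of `A`
  have hex : ∃ a ∈ A, a ∉ Subgroup.center G := by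
    by_contra hcon
    push Not at hcon
    apply hna
    have htop : A = ⊤ := by
      rw [eq_top_iff]
      intro g _
      apply hCA
      rw [Subgroup.mem_centralizer_iff]
      intro x hx
      exact ((Subgroup.mem_center_iff.mp (hcon x hx)) g).symm
    refine ⟨⟨fun x y => ?_⟩⟩
    have hx : x ∈ A := htop ▸ Subgroup.mem_top x
    have hy : y ∈ A := htop ▸ Subgroup.mem_top y
    exact congrArg Subtype.val (hAc.is_comm.comm ⟨x, hx⟩ ⟨y, hy⟩)
  obtain ⟨a, haA, haZ⟩ := hex
  -- `zpowers z` and `zpowers a` have order `p` and generate `A`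
  have hzp : z ^ p = 1 := hAe z hzA
  have hap : a ^ p = 1 := hAe a haA
  have ha1 : a ≠ 1 := fun h => haZ (h ▸ Subgroup.one_mem _)
  have hcz : Nat.card (Subgroup.zpowers z) = p := by
    rw [Nat.card_zpowers]; exact orderOf_eq_prime hzp hz1
  have hca : Nat.card (Subgroup.zpowers a) = p := by
    rw [Nat.card_zpowers]; exact orderOf_eq_prime hap ha1
  have hne : Subgroup.zpowers z ≠ Subgroup.zpowers a := by
    intro h
    apply haZ
    have : a ∈ Subgroup.zpowers z := h ▸ Subgroup.mem_zpowers a
    exact (Subgroup.zpowers_le.mpr hzZ) this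
  have hcm : Cfsg.Agent.Lib.Helper60.Cm (Subgroup.zpowers z) (Subgroup.zpowers a) := by
    intro x hx y _
    exact ((Subgroup.mem_center_iff.mp ((Subgroup.zpowers_le.mpr hzZ) hx)) y).symm
  have hsup := Cfsg.Agent.Lib.Helper60.card_sup_of_card_prime hp' hcz hca hne hcm
  have hsupA : Subgroup.zpowers z ⊔ Subgroup.zpowers a = A := by
    apply Subgroup.eq_of_le_of_card_ge
    · exact sup_le (Subgroup.zpowers_le.mpr hzA) (Subgroup.zpowers_le.mpr haA)
    · rw [hsup, hAcard, pow_two]
  -- `C(a) ≤ C(A) ≤ A`
  have hCa : Subgroup.centralizer ({a} : Set G) ≤ A := by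
    intro g hg
    apply hCA
    have hga : a * g = g * a := (Subgroup.mem_centralizer_iff.mp hg) a rfl
    have h1 : Subgroup.zpowers z ≤ Subgroup.centralizer ({g} : Set G) := by
      rw [Subgroup.zpowers_le, Subgroup.mem_centralizer_iff]
      intro x hx
      rw [Set.mem_singleton_iff] at hx
      rw [hx]
      exact (Subgroup.mem_center_iff.mp hzZ g)
    have h2 : Subgroup.zpowers a ≤ Subgroup.centralizer ({g} : Set G) := by
      rw [Subgroup.zpowers_le, Subgroup.mem_centralizer_iff]
      intro x hx
      rw [Set.mem_singleton_iff] at hx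
      rw [hx]
      exact hga.symm
    have h3 : A ≤ Subgroup.centralizer ({g} : Set G) := hsupA ▸ sup_le h1 h2
    rw [Subgroup.mem_centralizer_iff]
    intro x hx
    exact ((Subgroup.mem_centralizer_iff.mp (h3 hx)) g rfl).symm
  -- the conjugacy class of `a`
  obtain ⟨n, hn⟩ := IsPGroup.iff_card.mp hG
  have h3n : 3 ≤ n := three_le_of_not_comm hna hn
  have hidx := MulAction.index_stabilizer (ConjAct G) a
  have horb : MulAction.orbit (ConjAct G) a ⊆ (A : Set G) \ (↑(Subgroup.zpowers z) : Set G) := by
    rintro x ⟨g, rfl⟩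
    show g • a ∈ (A : Set G) \ (↑(Subgroup.zpowers z) : Set G)
    rw [ConjAct.smul_def]
    refine ⟨hAn.conj_mem a haA _, ?_⟩
    intro hmem
    apply haZ
    have hc : ConjAct.ofConjAct g * a * (ConjAct.ofConjAct g)⁻¹ ∈ Subgroup.center G :=
      (Subgroup.zpowers_le.mpr hzZ) hmem
    have := (Subgroup.center G).normal_of_characteristic.conj_mem _ hc (ConjAct.ofConjAct g)⁻¹
    simpa [mul_assoc] using this
  have hncard : (MulAction.orbit (ConjAct G) a).ncard ≤ p ^ 2 - p := by
    have hfin : ((A : Set G) \ (↑(Subgroup.zpowers z) : Set G)).Finite := Set.toFinite _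
    calc (MulAction.orbit (ConjAct G) a).ncard
        ≤ ((A : Set G) \ (↑(Subgroup.zpowers z) : Set G)).ncard := Set.ncard_le_ncard horb hfin
      _ = (A : Set G).ncard - (↑(Subgroup.zpowers z) : Set G).ncard :=
          Set.ncard_sdiff (Subgroup.zpowers_le.mpr hzA) (Set.toFinite _)
      _ = p ^ 2 - p := by
          rw [← hAcard, ← hcz]
          rfl
  have hdvd : (MulAction.stabilizer (ConjAct G) a).index ∣ p ^ n := by
    have := Subgroup.index_dvd_card (MulAction.stabilizer (ConjAct G) a)
    rwa [show Nat.card (ConjAct G) = Nat.card G from rfl, hn] at this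
  obtain ⟨j, -, hj⟩ := (Nat.dvd_prime_pow hp').mp hdvd
  have hj1 : j ≤ 1 := by
    by_contra hlt
    push Not at hlt
    have : p ^ 2 ≤ p ^ j := Nat.pow_le_pow_right hp'.pos hlt
    rw [hidx] at hj
    have hpos : 0 < p := hp'.pos
    have : p ^ 2 - p < p ^ 2 := Nat.sub_lt (pow_pos hpos 2) hpos
    omega
  have hidxle : (MulAction.stabilizer (ConjAct G) a).index ≤ p := by
    rw [hj]
    calc p ^ j ≤ p ^ 1 := Nat.pow_le_pow_right hp'.pos hj1
      _ = p := pow_one p
  have hstab : Nat.card (MulAction.stabilizer (ConjAct G) a) ≤ p ^ 2 := by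
    rw [← Subgroup.nat_card_centralizer_nat_card_stabilizer, ← hAcard]
    exact Nat.le_of_dvd Nat.card_pos (Subgroup.card_dvd_of_le hCa)
  have hmul := Subgroup.index_mul_card (MulAction.stabilizer (ConjAct G) a)
  rw [show Nat.card (ConjAct G) = Nat.card G from rfl, hn] at hmul
  have hle : p ^ n ≤ p ^ 3 := by
    calc p ^ n = (MulAction.stabilizer (ConjAct G) a).index *
          Nat.card (MulAction.stabilizer (ConjAct G) a) := hmul.symm
      _ ≤ p * p ^ 2 := Nat.mul_le_mul hidxle hstab
      _ = p ^ 3 := by ring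
  have hn3 : n ≤ 3 := pow_le_three hp'.two_le hle
  rw [hn]
  congr 1
  omega

theorem backward (hna : ¬ IsMulCommutative G) (hcard : Nat.card G = p ^ 3)
    (H : Subgroup G) (hH : ¬ IsCyclic ↥H) : Subgroup.centralizer (H : Set G) ≤ H := by
  have hp' := (Fact.out : p.Prime)
  have hdvd : Nat.card H ∣ p ^ 3 := hcard ▸ Subgroup.card_subgroup_dvd_card H
  obtain ⟨j, hj3, hj⟩ := (Nat.dvd_prime_pow hp').mp hdvd
  interval_cases j
  · exfalso
    apply hH
    rw [pow_zero] at hj
    have : Subsingleton H := (Nat.card_eq_one_iff_unique.mp hj).1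
    exact isCyclic_of_subsingleton
  · exfalso
    apply hH
    rw [pow_one] at hj
    exact isCyclic_of_prime_card hj
  · -- `|H| = p ^ 2`
    have hHc : IsMulCommutative H := IsPGroup.isMulCommutative_of_card_eq_prime_sq hj
    have hHC : H ≤ Subgroup.centralizer (H : Set G) := by
      intro x hx
      rw [Subgroup.mem_centralizer_iff]
      intro y hy
      exact congrArg Subtype.val (hHc.is_comm.comm ⟨y, hy⟩ ⟨x, hx⟩)
    have hCdvd : Nat.card (Subgroup.centralizer (H : Set G)) ∣ p ^ 3 :=
      hcard ▸ Subgroup.card_subgroup_dvd_card _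
    obtain ⟨i, hi3, hi⟩ := (Nat.dvd_prime_pow hp').mp hCdvd
    have hle : p ^ 2 ≤ p ^ i := by
      rw [← hj, ← hi]
      exact Nat.le_of_dvd Nat.card_pos (Subgroup.card_dvd_of_le hHC)
    have hi2 : 2 ≤ i := (Nat.pow_le_pow_iff_right hp'.one_lt).mp hle
    have hcases : i = 2 ∨ i = 3 := by omega
    rcases hcases with rfl | rfl
    · have : H = Subgroup.centralizer (H : Set G) := by
        apply Subgroup.eq_of_le_of_card_ge hHC
        rw [hi, hj]
      exact this ▸ le_rfl
    · -- centralizer is everything: `H` is central, so `G` is abelian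
      exfalso
      apply hna
      have hCtop : Subgroup.centralizer (H : Set G) = ⊤ := by
        apply Subgroup.eq_top_of_card_eq
        rw [hi, hcard]
      have hHZ : H ≤ Subgroup.center G := by
        intro x hx
        rw [Subgroup.mem_center_iff]
        intro g
        have hg : g ∈ Subgroup.centralizer (H : Set G) := hCtop ▸ Subgroup.mem_top g
        exact ((Subgroup.mem_centralizer_iff.mp hg) x hx).symm
      have hZdvd : Nat.card (Subgroup.center G) ∣ p ^ 3 :=
        hcard ▸ Subgroup.card_subgroup_dvd_card _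
      obtain ⟨l, hl3, hl⟩ := (Nat.dvd_prime_pow hp').mp hZdvd
      have hle2 : p ^ 2 ≤ p ^ l := by
        rw [← hj, ← hl]
        exact Nat.le_of_dvd Nat.card_pos (Subgroup.card_dvd_of_le hHZ)
      have hl2 : 2 ≤ l := (Nat.pow_le_pow_iff_right hp'.one_lt).mp hle2
      have hidx : (Subgroup.center G).index * p ^ l = p ^ 3 := by
        rw [← hl, ← hcard]
        exact Subgroup.index_mul_card _
      have hcyc : IsCyclic (G ⧸ Subgroup.center G) := by
        have hl' : l = 2 ∨ l = 3 := by omega
        rcases hl' with rfl | rfl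
        · have h1 : (Subgroup.center G).index = p := by
            have : (Subgroup.center G).index * p ^ 2 = p * p ^ 2 := by rw [hidx]; ring
            exact Nat.eq_of_mul_eq_mul_right (pow_pos hp'.pos 2) this
          have h2 : Nat.card (G ⧸ Subgroup.center G) = p := h1
          exact isCyclic_of_prime_card h2
        · have h1 : (Subgroup.center G).index = 1 := by
            have : (Subgroup.center G).index * p ^ 3 = 1 * p ^ 3 := by rw [hidx]; ring
            exact Nat.eq_of_mul_eq_mul_right (pow_pos hp'.pos 3) this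
          have h2 : Nat.card (G ⧸ Subgroup.center G) = 1 := h1
          have : Subsingleton (G ⧸ Subgroup.center G) := (Nat.card_eq_one_iff_unique.mp h2).1
          exact isCyclic_of_subsingleton
      exact MonoidHom.isMulCommutative_of_isCyclic_of_ker_le_center
        (QuotientGroup.mk' (Subgroup.center G)) (by rw [QuotientGroup.ker_mk'])
  · -- `H = ⊤`
    have : H = ⊤ := Subgroup.eq_top_of_card_eq H (by rw [hj, hcard])
    rw [this]
    exact le_top

end aux

/-- Say that a group has self-centralizing non-cyclic subgroups when every non-cyclic subgroup H satisfies C_G(H) ≤ H. For an odd prime p, a finite non-abelian p-group has self-centralizing non-cyclic subgroups if and only if it has order p³. -/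
theorem result {G : Type*} [Group G] [Finite G] {p : ℕ} [Fact p.Prime] (hp : p ≠ 2) (hG : IsPGroup p G) (hna : ¬ IsMulCommutative G) :
    (∀ H : Subgroup G, ¬ IsCyclic ↥H → Subgroup.centralizer (H : Set G) ≤ H) ↔ Nat.card G = p ^ 3 := by
  exact ⟨forward hp hG hna, fun hcard H hH => backward hna hcard H hH⟩

end Cfsg.Agent.S3918
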