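import Mathlib
import Cfsg.Statements.S3920
import Cfsg.Agent.Lib.Helper70.Dihedral

set_option autoImplicit false
open Cfsg

namespace Cfsg.Agent.S3920

open Cfsg.Agent.Lib.Helper70 DihedralGroup Subgroup

theorem isCyclic_of_le_zpowers {Γ : Type*} [Group Γ] (K : Subgroup Γ) (c : Γ) (hK : K ≤ zpowers c) :
    IsCyclic K := by
  have hcyc : IsCyclic (K.subgroupOf (zpowers c)) := inferInstance
  have e : K.subgroupOf (zpowers c) ≃* K := Subgroup.subgroupOfEquivOfLe hK
  exact isCyclic_of_surjective e e.surjective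

theorem add_self_odd {n : ℕ} (hn : Odd n) (i : ZMod n) (h : i + i = 0) : i = 0 := by
  have h3 : (2 : ZMod n) * i = 0 := by rw [two_mul]; exact h
  have hunit : IsUnit (2 : ZMod n) := by
    have : ((2 : ℕ) : ZMod n) = 2 := by norm_cast
    rw [← this, ZMod.isUnit_iff_coprime]
    exact Nat.coprime_two_left.mpr hn
  exact (hunit.mul_right_eq_zero).mp h3

theorem add_self_even (m : ℕ) (hm : 0 < m) (i : ZMod (m + m)) (h : i + i = 0) : i = 0 ∨ i = m := by
  have : NeZero (m + m) := ⟨by omega⟩
  have hi : i = ((i.val : ℕ) : ZMod (m + m)) := (ZMod.natCast_zmod_val i).symm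
  have hlt : i.val < m + m := ZMod.val_lt i
  rw [hi] at h
  have h' : (((i.val + i.val : ℕ)) : ZMod (m + m)) = 0 := by push_cast; exact h
  rw [ZMod.natCast_eq_zero_iff] at h'
  obtain ⟨k, hk⟩ := h'
  have : k = 0 ∨ k = 1 := by
    rcases k with _ | _ | k
    · left; rfl
    · right; rfl
    · exfalso
      have : (m + m) * (k + 1 + 1) ≥ 4 * m := by nlinarith
      omega
  rcases this with rfl | rfl
  · left
    have : i.val = 0 := by omega
    rw [hi, this]; simp
  · right
    have : i.val = m := by omega
    rw [hi, this]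

/-- a non-cyclic subgroup contains a reflection and a nontrivial rotation -/
theorem noncyclic_has {n : ℕ} (H : Subgroup (DihedralGroup n)) (hH : ¬ IsCyclic H) :
    (∃ i : ZMod n, sr i ∈ H) ∧ ∃ j : ZMod n, j ≠ 0 ∧ r j ∈ H := by
  have h1 : ∃ i : ZMod n, sr i ∈ H := by
    by_contra hcon
    push Not at hcon
    apply hH
    apply isCyclic_of_le_zpowers H (r 1)
    intro g hg
    rw [dih_mem_zpowers_r_one]
    rcases g with c | c
    · exact ⟨c, rfl⟩
    · exact absurd hg (hcon c)
  refine ⟨h1, ?_⟩
  obtain ⟨i, hi⟩ := h1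
  by_contra hcon
  push Not at hcon
  apply hH
  apply isCyclic_of_le_zpowers H (sr i)
  intro g hg
  rcases g with c | c
  · have : c = 0 := by
      by_contra hc
      exact hcon c hc hg
    rw [this]
    exact one_mem _
  · have hm : sr i * sr c ∈ H := H.mul_mem hi hg
    rw [sr_mul_sr] at hm
    have : c - i = 0 := by
      by_contra hc
      exact hcon _ hc hm
    have : c = i := sub_eq_zero.mp this
    rw [this]
    exact Subgroup.mem_zpowers _

/-- in a dihedral 2-group, a subgroup with a nontrivial rotation contains the central involution -/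
theorem central_inv_mem (m : ℕ) (hm : 0 < m) (K : ℕ) (hK : m + m = 2 ^ K)
    (H : Subgroup (DihedralGroup (m + m))) (j : ZMod (m + m)) (hj0 : j ≠ 0) (hj : r j ∈ H) :
    r (m : ZMod (m + m)) ∈ H := by
  have hpow : (r j) ^ (2 ^ K) = 1 := by
    rw [r_pow, one_def]
    congr 1
    rw [← hK]
    have : ((m + m : ℕ) : ZMod (m + m)) = 0 := ZMod.natCast_self _
    rw [this, mul_zero]
  have hdvd : orderOf (r j) ∣ 2 ^ K := orderOf_dvd_of_pow_eq_one hpow
  obtain ⟨c, hcK, hc⟩ := (Nat.dvd_prime_pow Nat.prime_two).mp hdvd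
  have hc0 : c ≠ 0 := by
    rintro rfl
    rw [pow_zero, orderOf_eq_one_iff, one_def] at hc
    injection hc with hc
    exact hj0 hc
  obtain ⟨c', rfl⟩ := Nat.exists_eq_succ_of_ne_zero hc0
  have hmem : (r j) ^ (2 ^ c') ∈ H := H.pow_mem hj _
  rw [r_pow] at hmem
  set k : ZMod (m + m) := j * ((2 ^ c' : ℕ) : ZMod (m + m)) with hk
  have hk0 : k ≠ 0 := by
    intro h0
    have h1 : (r j) ^ (2 ^ c') = 1 := by rw [r_pow, ← hk, h0]; rfl
    have h2 := orderOf_dvd_of_pow_eq_one h1
    rw [hc] at h2
    have h3 := Nat.le_of_dvd (by positivity) h2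
    have : 2 ^ c' < 2 ^ (c' + 1) := Nat.pow_lt_pow_right (by norm_num) (Nat.lt_succ_self c')
    omega
  have hkk : k + k = 0 := by
    have h1 : (r j) ^ (2 ^ (c' + 1)) = 1 := by rw [← hc]; exact pow_orderOf_eq_one _
    rw [pow_succ, pow_mul, r_pow, ← hk, sq, r_mul_r, one_def] at h1
    injection h1
  rcases add_self_even m hm k hkk with h | h
  · exact absurd h hk0
  · rw [← h]; exact hmem

/-- the index of an element -/
def idx {n : ℕ} : DihedralGroup n → ZMod n
  | r c => c
  | sr c => c

/-- the subgroup of elements whose index vanishes mod `d` -/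
noncomputable def subK (n d : ℕ) (h : d ∣ n) : Subgroup (DihedralGroup n) where
  carrier := {g | ZMod.castHom h (ZMod d) (idx g) = 0}
  mul_mem' := by
    rintro (a | a) (b | b) ha hb
    · show ZMod.castHom h (ZMod d) (a + b) = 0
      have ha' : ZMod.castHom h (ZMod d) a = 0 := ha
      have hb' : ZMod.castHom h (ZMod d) b = 0 := hb
      rw [map_add, ha', hb', add_zero]
    · show ZMod.castHom h (ZMod d) (b - a) = 0
      have ha' : ZMod.castHom h (ZMod d) a = 0 := ha
      have hb' : ZMod.castHom h (ZMod d) b = 0 := hb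
      rw [map_sub, ha', hb', sub_zero]
    · show ZMod.castHom h (ZMod d) (a + b) = 0
      have ha' : ZMod.castHom h (ZMod d) a = 0 := ha
      have hb' : ZMod.castHom h (ZMod d) b = 0 := hb
      rw [map_add, ha', hb', add_zero]
    · show ZMod.castHom h (ZMod d) (b - a) = 0
      have ha' : ZMod.castHom h (ZMod d) a = 0 := ha
      have hb' : ZMod.castHom h (ZMod d) b = 0 := hb
      rw [map_sub, ha', hb', sub_zero]
  one_mem' := by
    show ZMod.castHom h (ZMod d) (0 : ZMod n) = 0
    rw [map_zero]
  inv_mem' := by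
    rintro (a | a) ha
    · show ZMod.castHom h (ZMod d) (-a) = 0
      have ha' : ZMod.castHom h (ZMod d) a = 0 := ha
      rw [map_neg, ha', neg_zero]
    · exact ha

theorem mem_subK (n d : ℕ) (h : d ∣ n) (g : DihedralGroup n) :
    g ∈ subK n d h ↔ ZMod.castHom h (ZMod d) (idx g) = 0 := Iff.rfl

theorem result (n : ℕ) (hn : 3 ≤ n) : (∀ H : Subgroup (DihedralGroup n), ¬ IsCyclic ↥H → Subgroup.centralizer (H : Set (DihedralGroup n)) ≤ H) ↔ (Odd n ∨ ∃ k : ℕ, n = 2 ^ k) := by
  constructor
  · intro hall
    by_contra hcon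
    push Not at hcon
    obtain ⟨hodd, hpow⟩ := hcon
    obtain ⟨a, b, hb, hab⟩ := Nat.exists_eq_two_pow_mul_odd (n := n) (by omega)
    have ha : a ≠ 0 := by
      rintro rfl
      apply hodd
      rw [hab, pow_zero, one_mul]; exact hb
    have hb3 : 3 ≤ b := by
      obtain ⟨t, ht⟩ := hb
      rcases Nat.eq_zero_or_pos t with h0 | h0
      · exfalso
        apply hpow a
        rw [hab, ht, h0]; ring
      · omega
    obtain ⟨a', rfl⟩ := Nat.exists_eq_succ_of_ne_zero ha
    rw [Nat.succ_eq_add_one] at hab
    have e2 : 2 ^ (a' + 1) = 2 ^ a' * 2 := pow_succ 2 a'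
    have hd : 2 ^ (a' + 1) ∣ n := ⟨b, hab⟩
    -- the subgroup K
    have hK := hall (subK n (2 ^ (a' + 1)) hd)
    have hnc : ¬ IsCyclic (subK n (2 ^ (a' + 1)) hd) := by
      intro hcyc
      have hx : (sr 0 : DihedralGroup n) ∈ subK n (2 ^ (a' + 1)) hd := by
        rw [mem_subK]
        show ZMod.castHom hd (ZMod (2 ^ (a' + 1))) (0 : ZMod n) = 0
        rw [map_zero]
      have hy : (r ((2 ^ (a' + 1) : ℕ) : ZMod n) : DihedralGroup n) ∈ subK n (2 ^ (a' + 1)) hd := by
        rw [mem_subK]
        show ZMod.castHom hd (ZMod (2 ^ (a' + 1))) ((2 ^ (a' + 1) : ℕ) : ZMod n) = 0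
        rw [map_natCast]; exact ZMod.natCast_self _
      have hcm := hcyc.isMulCommutative
      have hcomm := hcm.is_comm.comm (⟨_, hx⟩ : subK n (2 ^ (a' + 1)) hd) ⟨_, hy⟩
      have h1 := congrArg Subtype.val hcomm
      simp only [Subgroup.coe_mul, sr_mul_r, r_mul_sr] at h1
      injection h1 with h1
      have h2 : (((2 ^ (a' + 1) + 2 ^ (a' + 1) : ℕ)) : ZMod n) = 0 := by
        push_cast
        have : (0 : ZMod n) + (2 ^ (a' + 1) : ZMod n) = 0 - (2 ^ (a' + 1) : ZMod n) := by
          simpa using h1
        linear_combination this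
      rw [ZMod.natCast_eq_zero_iff] at h2
      -- n = 2^(a'+1) * b divides 2^(a'+2)
      rw [hab] at h2
      have h3 : 2 ^ (a' + 1) * b ∣ 2 ^ (a' + 1) * 2 := by
        convert h2 using 1; ring
      have h4 : b ∣ 2 := Nat.dvd_of_mul_dvd_mul_left (by positivity) h3
      have := Nat.le_of_dvd (by norm_num) h4
      omega
    have hK' := hK hnc
    -- the central involution
    have hn2 : (2 ^ a' * b : ℕ) + 2 ^ a' * b = n := by rw [hab, e2]; ring
    have hcen : (r ((2 ^ a' * b : ℕ) : ZMod n) : DihedralGroup n) ∈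
        Subgroup.centralizer ((subK n (2 ^ (a' + 1)) hd : Subgroup (DihedralGroup n)) : Set (DihedralGroup n)) := by
      rw [Subgroup.mem_centralizer_iff]
      have hz : ((2 ^ a' * b : ℕ) : ZMod n) + ((2 ^ a' * b : ℕ) : ZMod n) = 0 := by
        rw [← Nat.cast_add, hn2]; exact ZMod.natCast_self n
      rintro (c | c) _
      · simp [add_comm]
      · simp only [sr_mul_r, r_mul_sr]
        congr 1
        linear_combination hz
    have hmem := hK' hcen
    rw [mem_subK] at hmem
    have hmem' : ZMod.castHom hd (ZMod (2 ^ (a' + 1))) ((2 ^ a' * b : ℕ) : ZMod n) = 0 := hmem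
    rw [map_natCast, ZMod.natCast_eq_zero_iff] at hmem'
    have hmem := hmem'
    have h3 : 2 ^ a' * 2 ∣ 2 ^ a' * b := by
      rw [← e2]; exact hmem
    have h4 : 2 ∣ b := Nat.dvd_of_mul_dvd_mul_left (by positivity) h3
    exact (Nat.not_even_iff_odd.mpr hb) (even_iff_two_dvd.mpr h4)
  · intro hn' H hH g hg
    obtain ⟨⟨i, hi⟩, j, hj0, hj⟩ := noncyclic_has H hH
    rw [Subgroup.mem_centralizer_iff] at hg
    have h1 := hg (sr i) hi
    have h2 := hg (r j) hj
    rcases hn' with hodd | ⟨K, hK⟩
    · rcases g with k | k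
      · simp only [sr_mul_r, r_mul_sr] at h1
        injection h1 with h1
        have : k + k = 0 := by linear_combination h1
        rw [add_self_odd hodd k this]
        exact one_mem _
      · simp only [r_mul_sr, sr_mul_r] at h2
        injection h2 with h2
        have : j + j = 0 := by linear_combination -h2
        exact absurd (add_self_odd hodd j this) hj0
    · have heven : Even n := by
        rcases K with _ | K
        · omega
        · rw [hK, pow_succ]; exact even_two.mul_left _
      obtain ⟨m, rfl⟩ := heven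
      have hm : 0 < m := by omega
      have hrm := central_inv_mem m hm K hK H j hj0 hj
      rcases g with k | k
      · simp only [sr_mul_r, r_mul_sr] at h1
        injection h1 with h1
        have : k + k = 0 := by linear_combination h1
        rcases add_self_even m hm k this with h | h
        · rw [h]; exact one_mem _
        · rw [h]; exact hrm
      · simp only [sr_mul_sr] at h1
        injection h1 with h1
        have : (k - i) + (k - i) = 0 := by linear_combination h1
        rcases add_self_even m hm (k - i) this with h | h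
        · have : k = i := sub_eq_zero.mp h
          rw [this]; exact hi
        · have : (sr k : DihedralGroup (m + m)) = sr i * r (m : ZMod (m + m)) := by
            rw [sr_mul_r, ← h]; congr 1; ring
          rw [this]
          exact H.mul_mem hi hrm

end Cfsg.Agent.S3920
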