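import Mathlib
import Cfsg.Statements.S3941

set_option autoImplicit false
open Cfsg

namespace Cfsg.Agent.S3941

open Equiv Equiv.Perm

lemma isPClosed_of_range {K G : Type*} [Group K] [Group G] [Finite K] (φ : K →* G)
    (hφ : Function.Injective φ) (p : ℕ) [Fact p.Prime] (h : Cfsg.IsPClosed p φ.range) :
    Cfsg.IsPClosed p K := by
  intro P
  let e : K ≃* φ.range := MonoidHom.ofInjective hφ
  have hsurj : Function.Surjective e.toMonoidHom := e.surjective
  have hn := h (P.mapSurjective hsurj)
  rw [Sylow.coe_mapSurjective] at hn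
  have : (P : Subgroup K) = ((P : Subgroup K).map e.toMonoidHom).comap e.toMonoidHom :=
    (Subgroup.comap_map_eq_self_of_injective e.injective _).symm
  rw [this]
  exact hn.comap _

lemma not_pclosed_alt {γ : Type*} [Fintype γ] [DecidableEq γ] (hγ : 5 ≤ Fintype.card γ)
    (p : ℕ) [Fact p.Prime] (hp2 : p ≠ 2) (hpγ : p ≤ Fintype.card γ) :
    ¬ Cfsg.IsPClosed p (alternatingGroup γ) := by
  intro h
  have hp : p.Prime := Fact.out
  have : IsSimpleGroup (alternatingGroup γ) :=
    alternatingGroup.isSimpleGroup (by rwa [Nat.card_eq_fintype_card])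
  have : Nontrivial γ := Fintype.one_lt_card_iff_nontrivial.mp (by omega)
  obtain ⟨P⟩ : Nonempty (Sylow p (alternatingGroup γ)) := inferInstance
  have hN := h P
  have hcard2 : 2 * Nat.card (alternatingGroup γ) = (Fintype.card γ).factorial := by
    rw [two_mul_nat_card_alternatingGroup, Nat.card_perm, Nat.card_eq_fintype_card]
  rcases hN.eq_bot_or_eq_top with hbot | htop
  · apply P.ne_bot_of_dvd_card _ hbot
    have h1 : p ∣ 2 * Nat.card (alternatingGroup γ) := by
      rw [hcard2]; exact (Nat.Prime.dvd_factorial hp).mpr hpγ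
    have hcop : Nat.Coprime p 2 := (Nat.coprime_primes hp Nat.prime_two).mpr hp2
    exact hcop.dvd_of_dvd_mul_left h1
  · have hPG : IsPGroup p (alternatingGroup γ) := by
      have h1 := P.isPGroup'
      rw [htop] at h1
      exact h1.of_equiv Subgroup.topEquiv
    obtain ⟨k, hk⟩ := IsPGroup.iff_card.mp hPG
    have h4 : 4 ∣ 2 * Nat.card (alternatingGroup γ) := by
      rw [hcard2]
      have : (4 : ℕ).factorial ∣ (Fintype.card γ).factorial := Nat.factorial_dvd_factorial (by omega)
      exact Dvd.dvd.trans (by decide) this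
    have h2 : 2 ∣ Nat.card (alternatingGroup γ) := by omega
    rw [hk] at h2
    have := (Nat.Prime.dvd_of_dvd_pow Nat.prime_two h2)
    exact hp2 ((Nat.prime_dvd_prime_iff_eq Nat.prime_two hp).mp this).symm

/-- the embedding of the alternating group of a subtype -/
def emb {β : Type*} [Fintype β] [DecidableEq β] (q : β → Prop) [DecidablePred q] :
    alternatingGroup (Subtype q) →* alternatingGroup β :=
  ((Equiv.Perm.ofSubtype (p := q)).comp (alternatingGroup (Subtype q)).subtype).codRestrict
    (alternatingGroup β) (fun g => by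
      rw [Equiv.Perm.mem_alternatingGroup, MonoidHom.comp_apply, Equiv.Perm.sign_ofSubtype]
      exact g.2)

lemma emb_injective {β : Type*} [Fintype β] [DecidableEq β] (q : β → Prop) [DecidablePred q] :
    Function.Injective (emb q) := by
  intro a b hab
  have := congrArg Subtype.val hab
  simp only [emb, MonoidHom.codRestrict_apply, MonoidHom.comp_apply, Subgroup.subtype_apply] at this
  exact Subtype.ext (Equiv.Perm.ofSubtype_injective this)

lemma general (n p : ℕ) (hn : 6 ≤ n) [Fact p.Prime] (hp : p ≠ 2) (hpn : p < n)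
    (h : ∀ H : Subgroup ↥(alternatingGroup (Fin n)), H ≠ ⊤ → p ∣ Nat.card ↥H → Cfsg.IsPClosed p ↥H) :
    False := by
  have hpp : p.Prime := Fact.out
  let a : Fin n := ⟨0, by omega⟩
  let q : Fin n → Prop := fun x => ¬ x = a
  have hcardq : Fintype.card (Subtype q) = n - 1 := by
    rw [Fintype.card_subtype_compl, Fintype.card_subtype_eq, Fintype.card_fin]
  have : Nontrivial (Subtype q) := Fintype.one_lt_card_iff_nontrivial.mp (by omega)
  have : Nontrivial (Fin n) := Fin.nontrivial_iff_two_le.mpr (by omega)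
  have hc1 : 2 * Nat.card (alternatingGroup (Subtype q)) = (n - 1).factorial := by
    rw [two_mul_nat_card_alternatingGroup, Nat.card_perm, Nat.card_eq_fintype_card, hcardq]
  have hc2 : 2 * Nat.card (alternatingGroup (Fin n)) = n.factorial := by
    rw [two_mul_nat_card_alternatingGroup, Nat.card_perm, Nat.card_eq_fintype_card, Fintype.card_fin]
  have hcH : Nat.card (emb q).range = Nat.card (alternatingGroup (Subtype q)) :=
    (Nat.card_congr (MonoidHom.ofInjective (emb_injective q)).toEquiv).symm
  have hne : (emb q).range ≠ ⊤ := by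
    intro htop
    have h1 : Nat.card (emb q).range = Nat.card (alternatingGroup (Fin n)) := by
      rw [htop, Subgroup.card_top]
    rw [hcH] at h1
    have h2 : (n - 1).factorial = n.factorial := by rw [← hc1, ← hc2, h1]
    have h3 : n.factorial = n * (n - 1).factorial := by
      obtain ⟨m, rfl⟩ : ∃ m, n = m + 1 := ⟨n - 1, by omega⟩
      simp [Nat.factorial_succ]
    have hpos : 0 < (n - 1).factorial := Nat.factorial_pos _
    rw [h3] at h2
    nlinarith
  have hdvd : p ∣ Nat.card (emb q).range := by
    rw [hcH]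
    have h1 : p ∣ 2 * Nat.card (alternatingGroup (Subtype q)) := by
      rw [hc1]; exact (Nat.Prime.dvd_factorial hpp).mpr (by omega)
    have hcop : Nat.Coprime p 2 := (Nat.coprime_primes hpp Nat.prime_two).mpr hp
    exact hcop.dvd_of_dvd_mul_left h1
  have h1 := h _ hne hdvd
  have h2 := isPClosed_of_range (emb q) (emb_injective q) p h1
  exact not_pclosed_alt (by rw [hcardq]; omega) p hp (by rw [hcardq]; omega) h2

/-- explicit 3-cycles in `A₅` -/
def x1 : alternatingGroup (Fin 5) := ⟨swap 0 1 * swap 1 2, mem_alternatingGroup.2 (by decide)⟩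
def x2 : alternatingGroup (Fin 5) := ⟨swap 0 1 * swap 1 3, mem_alternatingGroup.2 (by decide)⟩
def x3 : alternatingGroup (Fin 5) := ⟨swap 0 1 * swap 1 4, mem_alternatingGroup.2 (by decide)⟩

lemma five
    (h : ∀ H : Subgroup ↥(alternatingGroup (Fin 5)), H ≠ ⊤ → 3 ∣ Nat.card ↥H → Cfsg.IsPClosed 3 ↥H) :
    False := by
  have : Fact (Nat.Prime 3) := ⟨Nat.prime_three⟩
  let H : Subgroup (alternatingGroup (Fin 5)) := Subgroup.closure {x1, x2}
  have hx1 : x1 ∈ H := Subgroup.subset_closure (by simp)
  have hx2 : x2 ∈ H := Subgroup.subset_closure (by simp)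
  have hle : H ≤ MulAction.stabilizer (alternatingGroup (Fin 5)) (4 : Fin 5) := by
    rw [Subgroup.closure_le]
    rintro x (rfl | rfl)
    · show x1 • (4 : Fin 5) = 4
      decide
    · show x2 • (4 : Fin 5) = 4
      decide
  have hne : H ≠ ⊤ := by
    intro htop
    have : x3 ∈ MulAction.stabilizer (alternatingGroup (Fin 5)) (4 : Fin 5) := hle (htop ▸ Subgroup.mem_top x3)
    have h1 : x3 • (4 : Fin 5) = 4 := this
    revert h1
    decide
  have ho1 : orderOf x1 = 3 := by
    apply orderOf_eq_prime
    · decide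
    · decide
  have hdvd : 3 ∣ Nat.card H := by
    have h1 : orderOf (⟨x1, hx1⟩ : H) = 3 := by
      rw [← ho1]; exact Subgroup.orderOf_mk x1 hx1
    rw [← h1]
    exact orderOf_dvd_natCard _
  have hcl := h H hne hdvd
  obtain ⟨P⟩ : Nonempty (Sylow 3 H) := inferInstance
  have hPn := hcl P
  -- every 3-element lies in P
  have key : ∀ y : H, y ^ 3 = 1 → y ∈ (P : Subgroup H) := by
    intro y hy
    have hpg : IsPGroup 3 (Subgroup.zpowers y) := by
      intro z
      obtain ⟨z, hz⟩ := z
      obtain ⟨k, rfl⟩ := Subgroup.mem_zpowers_iff.mp hz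
      refine ⟨1, ?_⟩
      apply Subtype.ext
      simp only [pow_one, Subgroup.coe_pow, Subgroup.coe_one]
      rw [← zpow_natCast, ← zpow_mul, mul_comm, zpow_mul, zpow_natCast, hy, one_zpow]
    obtain ⟨Q, hQ⟩ := hpg.exists_le_sylow
    have := Sylow.unique_of_normal P hPn
    have hQP : Q = P := Subsingleton.elim _ _
    rw [hQP] at hQ
    exact hQ (Subgroup.mem_zpowers y)
  have m1 := key ⟨x1, hx1⟩ (by apply Subtype.ext; simp only [Subgroup.coe_pow, Subgroup.coe_one]; decide)
  have m2 := key ⟨x2, hx2⟩ (by apply Subtype.ext; simp only [Subgroup.coe_pow, Subgroup.coe_one]; decide)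
  have m3 := (P : Subgroup H).mul_mem m1 m2
  obtain ⟨k, hk⟩ := P.isPGroup' ⟨_, m3⟩
  have hk' : (x1 * x2) ^ 3 ^ k = 1 := by
    have := congrArg (fun z : (P : Subgroup H) => ((z : H) : alternatingGroup (Fin 5))) hk
    simpa using this
  have ho : orderOf (x1 * x2) = 2 := by
    apply orderOf_eq_prime
    · decide
    · decide
  have hd : 2 ∣ 3 ^ k := by
    rw [← ho]; exact orderOf_dvd_of_pow_eq_one hk'
  have := Nat.Prime.dvd_of_dvd_pow Nat.prime_two hd
  omega

/-- Let n ≥ 5 and p an odd prime with p ≤ n, and suppose that every proper subgroup of the alternating group of degree n whose order is divisible by p has a normal Sylow p-subgroup. Then n = p. -/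
theorem result (n p : ℕ) (hn : 5 ≤ n) [Fact p.Prime] (hp : p ≠ 2) (hpn : p ≤ n)
    (h : ∀ H : Subgroup ↥(alternatingGroup (Fin n)), H ≠ ⊤ → p ∣ Nat.card ↥H → Cfsg.IsPClosed p ↥H) : n = p := by
  by_contra hne
  have hlt : p < n := lt_of_le_of_ne hpn (fun h => hne h.symm)
  have hpp : p.Prime := Fact.out
  rcases Nat.lt_or_ge 5 n with h6 | h5
  · exact general n p h6 hp hlt h
  · have hn5 : n = 5 := le_antisymm h5 hn
    subst hn5
    have hp3 : p = 3 := by
      have h2 := hpp.two_le
      interval_cases p
      · exact absurd rfl hp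
      · rfl
      · exact absurd hpp (by decide)
    subst hp3
    exact five h

end Cfsg.Agent.S3941
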