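import Mathlib
import Cfsg.Statements.S3949

set_option autoImplicit false
open Cfsg

namespace Cfsg.Agent.S3949

variable {G : Type*} [Group G]

/-- an element inverted by α is squared by `c ↦ c * (α c)⁻¹` -/
theorem f_inv (α : MulAut G) (x : G) (hx : α x = x⁻¹) : x * (α x)⁻¹ = x ^ 2 := by
  rw [hx, inv_inv, sq]

theorem f_inverted (α : MulAut G) (hα : α ^ 2 = 1) (c : G) : α (c * (α c)⁻¹) = (c * (α c)⁻¹)⁻¹ := by
  have h2 : α (α c) = c := by
    have : (α ^ 2) c = c := by rw [hα]; rfl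
    simpa [sq] using this
  rw [map_mul, map_inv, h2, mul_inv_rev, inv_inv]

theorem iter_inverted (α : MulAut G) (x : G) (hx : α x = x⁻¹) (k : ℕ) :
    (fun c : G => c * (α c)⁻¹)^[k] x = x ^ (2 ^ k) := by
  induction k generalizing x with
  | zero => simp
  | succ k ih =>
    rw [Function.iterate_succ_apply]
    have hx2 : α (x * (α x)⁻¹) = (x * (α x)⁻¹)⁻¹ := by
      rw [hx, inv_inv, map_mul, hx, mul_inv_rev]
    rw [ih _ hx2, f_inv α x hx, ← pow_mul, pow_succ']

theorem result {G : Type*} [Group G] [Finite G] (α : MulAut G) (hα : orderOf α = 2) (hG : Subgroup.closure (Set.range (fun c : G => c * (α c)⁻¹)) = ⊤)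
    (j : ℕ) (hj : ∀ g : G, α g = g⁻¹ → ¬ 2 ^ j ∣ orderOf g) :
    Set.range ((fun c : G => c * (α c)⁻¹)^[j]) = {g : G | Odd (orderOf g) ∧ α g = g⁻¹} := by
  have hα2 : α ^ 2 = 1 := by rw [← hα]; exact pow_orderOf_eq_one α
  have hj0 : j ≠ 0 := by
    rintro rfl
    exact hj 1 (by simp) (by simp)
  obtain ⟨k, rfl⟩ := Nat.exists_eq_succ_of_ne_zero hj0
  ext w
  simp only [Set.mem_range, Set.mem_ofPred_eq]
  constructor
  · rintro ⟨c, rfl⟩
    rw [Function.iterate_succ_apply]
    have hy := f_inverted α hα2 c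
    set y := c * (α c)⁻¹ with hydef
    rw [iter_inverted α y hy k]
    refine ⟨?_, ?_⟩
    · -- order of y^(2^k) is odd
      have hnd := hj y hy
      have hpos : 0 < orderOf y := orderOf_pos y
      rw [orderOf_pow' y (by positivity : 2 ^ k ≠ 0)]
      by_contra hodd
      rw [Nat.not_odd_iff_even] at hodd
      obtain ⟨t, ht⟩ := hodd.two_dvd
      apply hnd
      have hg : Nat.gcd (orderOf y) (2 ^ k) ∣ 2 ^ k := Nat.gcd_dvd_right _ _
      obtain ⟨i, hi, hgi⟩ := (Nat.dvd_prime_pow Nat.prime_two).mp hg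
      have hgd : Nat.gcd (orderOf y) (2 ^ k) ∣ orderOf y := Nat.gcd_dvd_left _ _
      have hoy : orderOf y = 2 ^ i * (2 * t) := by
        have : orderOf y = Nat.gcd (orderOf y) (2 ^ k) * (2 * t) := by
          rw [← ht, Nat.mul_div_cancel' hgd]
        rw [hgi] at this
        exact this
      have hik : i = k := by
        by_contra hne
        have hlt : i < k := lt_of_le_of_ne hi hne
        have h1 : 2 ^ (i + 1) ∣ orderOf y := ⟨t, by rw [hoy]; ring⟩
        have h2 : 2 ^ (i + 1) ∣ 2 ^ k := pow_dvd_pow 2 hlt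
        have h3 : 2 ^ (i + 1) ∣ Nat.gcd (orderOf y) (2 ^ k) := Nat.dvd_gcd h1 h2
        rw [hgi] at h3
        have h4 := Nat.le_of_dvd (by positivity) h3
        have h5 : 2 ^ i < 2 ^ (i + 1) := Nat.pow_lt_pow_right (by norm_num) (Nat.lt_succ_self i)
        omega
      exact ⟨t, by rw [hoy, hik, Nat.succ_eq_add_one]; ring⟩
    · rw [map_pow, hy, inv_pow]
  · rintro ⟨hodd, hinv⟩
    -- w = z^(2^(k+1)) with z = w^m where m * 2^(k+1) ≡ 1 mod ord w
    have hcop : Nat.Coprime (2 ^ (k + 1)) (orderOf w) :=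
      Nat.Coprime.pow_left _ (Nat.coprime_two_left.mpr hodd)
    obtain ⟨m, hm⟩ := exists_pow_eq_self_of_coprime hcop
    refine ⟨w ^ m, ?_⟩
    have hz : α (w ^ m) = (w ^ m)⁻¹ := by rw [map_pow, hinv, inv_pow]
    rw [iter_inverted α (w ^ m) hz (k + 1), ← pow_mul, mul_comm, pow_mul]
    exact hm

end Cfsg.Agent.S3949
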