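import Mathlib
import Cfsg.Statements.S3950
import Cfsg.Agent.Lib.Helper70.StemExt
import Cfsg.Agent.Lib.Helper70.Heis
import Cfsg.Agent.Lib.Helper70.Abelian

set_option autoImplicit false
open Cfsg

namespace Cfsg.Agent.S3950

open Cfsg.Agent.Lib.Helper70 Subgroup

/-- A finite abelian group has trivial Schur multiplier if and only if it is cyclic. -/
theorem result {G : Type*} [CommGroup G] [Finite G] : Cfsg.HasCyclicSchurMultiplier G 1 ↔ IsCyclic G := by
  constructor
  · intro h
    by_contra hc
    obtain ⟨p, hp, hlt⟩ := exists_prime_lt_card_tors hc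
    haveI : Fact p.Prime := ⟨hp⟩
    haveI : NeZero p := ⟨hp.ne_zero⟩
    obtain ⟨q, hq⟩ := exists_surj_zmod_prod p hlt
    letI := Heis.group (dvd_refl p)
    have hne : (Heis.proj (dvd_refl p)).ker ≠ ⊥ := by
      intro hbot
      have hmem : (⟨0, 0, 1⟩ : Heis p p) ∈ (Heis.proj (dvd_refl p)).ker :=
        (Heis.mem_ker_proj _ _).mpr ⟨rfl, rfl⟩
      rw [hbot, Subgroup.mem_bot] at hmem
      have := congrArg Heis.c hmem
      have h1 : (1 : ZMod p) = 0 := this
      haveI : Fact (1 < p) := ⟨hp.one_lt⟩
      exact one_ne_zero h1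
    obtain ⟨Γ, _, _, σ, hσ, hker⟩ := exists_stem_of_pullback (Heis.proj (dvd_refl p))
      (Heis.proj_surjective _) (Heis.ker_le_center _) (Heis.ker_is_commutator _) q hq hne
    exact hker (ker_eq_bot_of_hasCyclicSchurMultiplier_one h Γ σ hσ)
  · intro hc
    apply hasCyclicSchurMultiplier_one_of_forall
    intro Γ _ _ σ hσ
    obtain ⟨hsurj, hcen, hcomm⟩ := hσ
    have hab : ∀ a b : Γ, a * b = b * a := by
      have : IsCyclic G := hc
      exact commutative_of_cyclic_center_quotient σ hcen
    have : commutator Γ = ⊥ := by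
      rw [_root_.commutator_def, Subgroup.commutator_eq_bot_iff_le_centralizer]
      intro a _
      rw [Subgroup.mem_centralizer_iff]
      intro b _
      exact hab b a
    rw [eq_bot_iff, ← this]
    exact hcomm

end Cfsg.Agent.S3950
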