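import Mathlib
import Cfsg.Statements.S3952
import Cfsg.Agent.Lib.Helper71.CentralDegree
import Cfsg.Agent.Lib.Helper71.TransferCentral

set_option autoImplicit false
open Cfsg

namespace Cfsg.Agent.S3952

/-- If `A` is the Schur multiplier of the finite group `Q`, then the square of the exponent of `A` divides the order of `Q`. -/
theorem result {Q : Type*} [Group Q] [Finite Q] {A : Type*} [CommGroup A] (hA : Cfsg.HasSchurMultiplier Q A) : Monoid.exponent A ^ 2 ∣ Nat.card Q := by
  classical
  obtain ⟨⟨Γ, _, _, σ, ⟨hσs, hσc, hσk⟩, ⟨eA⟩⟩, -⟩ := hA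
  have hAfin : Finite A := Finite.of_equiv _ eA.toEquiv
  have he0 : Monoid.exponent A ≠ 0 := Monoid.exponent_ne_zero_of_finite
  have hQ0 : Nat.card Q ≠ 0 := Nat.card_pos.ne'
  rw [← Nat.factorization_le_iff_dvd (pow_ne_zero 2 he0) hQ0]
  intro p
  by_cases hp : p.Prime
  swap
  · rw [Nat.factorization_eq_zero_of_not_prime _ hp]
    exact Nat.zero_le _
  haveI : Fact p.Prime := ⟨hp⟩
  rw [Nat.factorization_pow]
  show 2 * (Monoid.exponent A).factorization p ≤ (Nat.card Q).factorization p
  obtain ⟨a, ha⟩ := hp.exists_orderOf_eq_pow_factorization_exponent A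
  set k := (Monoid.exponent A).factorization p with hk
  -- the element of the kernel
  let z : Γ := ((eA.symm a : σ.ker) : Γ)
  have hzker : z ∈ σ.ker := (eA.symm a).2
  have hzord : orderOf z = p ^ k := by
    rw [← ha, Subgroup.orderOf_coe, MulEquiv.orderOf_eq]
  -- Sylow subgroup and its preimage
  let P : Sylow p Q := default
  let Ph : Subgroup Γ := (P : Subgroup Q).comap σ
  have hidx : Ph.index = (P : Subgroup Q).index := Subgroup.index_comap_of_surjective _ hσs
  have hcop : Nat.Coprime Ph.index (orderOf z) := by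
    rw [hzord, hidx]
    apply Nat.Coprime.pow_right
    rw [Nat.coprime_comm, Nat.Prime.coprime_iff_not_dvd hp]
    exact P.not_dvd_index
  have hzPh : ∀ j : ℕ, z ^ j ∈ Ph := by
    intro j
    show σ (z ^ j) ∈ (P : Subgroup Q)
    rw [map_pow, MonoidHom.mem_ker.mp hzker, one_pow]
    exact Subgroup.one_mem _
  have hzmem : z ∈ Ph := by simpa using hzPh 1
  have h1 := Lib.Helper71.central_pow_index_mem_commutator Ph z (hσc hzker) (hσk hzker)
    (hzPh _)
  obtain ⟨m', hm'⟩ := exists_pow_eq_self_of_coprime hcop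
  have hzc : (⟨z, hzmem⟩ : Ph) ∈ commutator Ph := by
    have h2 := (commutator Ph).pow_mem h1 m'
    have h3 : (⟨z ^ Ph.index, hzPh _⟩ : Ph) ^ m' = ⟨z, hzmem⟩ := by
      apply Subtype.ext
      rw [Subgroup.coe_pow]
      exact hm'
    rwa [h3] at h2
  -- the central extension `Ph → P`
  let σP : Ph →* (P : Subgroup Q) := σ.subgroupComap (P : Subgroup Q)
  have hσPs : Function.Surjective σP := σ.subgroupComap_surjective_of_surjective _ hσs
  have hσPk : ∀ x : Ph, x ∈ σP.ker ↔ (x : Γ) ∈ σ.ker := by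
    intro x
    rw [MonoidHom.mem_ker, MonoidHom.mem_ker]
    constructor
    · intro h; exact congrArg Subtype.val h
    · intro h; exact Subtype.ext h
  have hσPc : σP.ker ≤ Subgroup.center Ph := by
    intro x hx
    have h1 : (x : Γ) ∈ Subgroup.center Γ := hσc ((hσPk x).mp hx)
    rw [Subgroup.mem_center_iff]
    intro y
    exact Subtype.ext (Subgroup.mem_center_iff.mp h1 (y : Γ))
  have hzP : (⟨z, hzmem⟩ : Ph) ∈ σP.ker := (hσPk _).mpr hzker
  have hzPord : orderOf (⟨z, hzmem⟩ : Ph) = p ^ k := by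
    rw [← hzord, ← Subgroup.orderOf_coe]
  have hR := Lib.Helper71.pow_two_mul_card_le σP.ker hσPc _ hzP hzc p k hp hzPord
  have hcard : Nat.card Ph = Nat.card (P : Subgroup Q) * Nat.card σP.ker := by
    rw [Subgroup.card_eq_card_quotient_mul_card_subgroup σP.ker,
      Nat.card_congr (QuotientGroup.quotientKerEquivOfSurjective σP hσPs).toEquiv]
  rw [hcard, mul_comm (Nat.card _) (Nat.card σP.ker), mul_comm] at hR
  have hpos : 0 < Nat.card σP.ker := Nat.card_pos
  have hle : p ^ (2 * k) ≤ Nat.card (P : Subgroup Q) := Nat.le_of_mul_le_mul_left hR hpos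
  rw [P.card_eq_multiplicity] at hle
  exact (Nat.pow_le_pow_iff_right hp.one_lt).mp hle

end Cfsg.Agent.S3952
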