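import Cfsg.Statements.S3953
import Cfsg.Agent.Lib.Helper70.SchurTransfer
import Cfsg.Agent.Lib.Helper70.DirFac

set_option autoImplicit false
open Cfsg

namespace Cfsg.Agent.S3953

/-- Let `P` be a Sylow `p`-subgroup of the finite group `G`, let `A` be the Schur multiplier of `G` and `B` that of `P`. Then the `p`-primary component of `A` is isomorphic to a direct factor of `B`: there are subgroups `C` and `D` of `B` meeting trivially and generating `B`, with `C` isomorphic to the `p`-primary component of `A`. -/
theorem result {G : Type*} [Group G] [Finite G] (p : ℕ) [Fact p.Prime] (P : Sylow p G) {A B : Type*} [CommGroup A] [CommGroup B] (hA : Cfsg.HasSchurMultiplier G A) (hB : Cfsg.HasSchurMultiplier P B) : ∃ C D : Subgroup B, C ⊓ D = ⊥ ∧ C ⊔ D = ⊤ ∧ Nonempty (CommGroup.primaryComponent A p ≃* C) := by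
  classical
  have : (P : Subgroup G).FiniteIndex := inferInstance
  obtain ⟨eA⟩ := Cfsg.Agent.Lib.Helper70.schurMultiplier_unique hA
  obtain ⟨eB⟩ := Cfsg.Agent.Lib.Helper70.schurMultiplier_unique hB
  obtain ⟨tr, cor, htc⟩ := Cfsg.Agent.Lib.Helper70.exists_tr_cor (P : Subgroup G)
  have hfin : Finite (Cfsg.Agent.Lib.Helper70.SchurM G) :=
    Cfsg.Agent.Lib.Helper70.finite_presM Function.surjective_id
  have : Finite A := Finite.of_equiv _ eA.symm.toEquiv
  let trAB : A →* B := eB.symm.toMonoidHom.comp (tr.comp eA.toMonoidHom)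
  let corBA : B →* A := eA.symm.toMonoidHom.comp (cor.comp eB.toMonoidHom)
  have hcomp : ∀ a, corBA (trAB a) = a ^ (P : Subgroup G).index := by
    intro a
    show eA.symm (cor (eB (eB.symm (tr (eA a))))) = a ^ (P : Subgroup G).index
    rw [MulEquiv.apply_symm_apply, htc, map_pow, MulEquiv.symm_apply_apply]
  exact Cfsg.Agent.Lib.Helper70.exists_direct_factor_of_tr_cor p (P : Subgroup G).index
    P.not_dvd_index trAB corBA hcomp

end Cfsg.Agent.S3953
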