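import Mathlib
import Cfsg.Statements.S3954
import Cfsg.Agent.Lib.Helper71.SchurCentral

set_option autoImplicit false
open Cfsg

namespace Cfsg.Agent.S3954

/-- Let `U` be a subgroup of index `m` in the finite group `G`, let `A` be the Schur multiplier of `G` and `B` that of `U`. Then the subgroup of `m`-th powers of `A` is isomorphic to a subgroup of `B`. -/
theorem result {G : Type*} [Group G] [Finite G] (U : Subgroup G) {A B : Type*} [CommGroup A] [CommGroup B] (hA : Cfsg.HasSchurMultiplier G A) (hB : Cfsg.HasSchurMultiplier U B) : ∃ C : Subgroup B, Nonempty ((powMonoidHom U.index : A →* A).range ≃* C) := by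
  classical
  obtain ⟨⟨Γ, _, _, σ, ⟨hσs, hσc, hσk⟩, ⟨eA⟩⟩, -⟩ := hA
  have hBfin : Finite B := by
    obtain ⟨⟨Γ₀, _, _, σ₀, _, ⟨e₀⟩⟩, -⟩ := hB
    exact Finite.of_equiv _ e₀.toEquiv
  let Uh : Subgroup Γ := U.comap σ
  have hidx : Uh.index = U.index := Subgroup.index_comap_of_surjective U hσs
  let σU : Uh →* U := σ.subgroupComap U
  have hσUs : Function.Surjective σU := σ.subgroupComap_surjective_of_surjective U hσs
  have hσU : ∀ x : Uh, ((σU x : U) : G) = σ (x : Γ) := fun x => rfl
  have hσUk : ∀ x : Uh, x ∈ σU.ker ↔ (x : Γ) ∈ σ.ker := by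
    intro x
    rw [MonoidHom.mem_ker, MonoidHom.mem_ker, ← hσU]
    constructor
    · intro h; rw [h]; rfl
    · intro h; exact Subtype.ext h
  have hσUc : σU.ker ≤ Subgroup.center Uh := by
    intro x hx
    have h1 : (x : Γ) ∈ Subgroup.center Γ := hσc ((hσUk x).mp hx)
    rw [Subgroup.mem_center_iff]
    intro y
    exact Subtype.ext (Subgroup.mem_center_iff.mp h1 (y : Γ))
  obtain ⟨π, hπ⟩ := Lib.Helper71.exists_surj_to_ker_inf_commutator hB σU hσUs hσUc
  obtain ⟨ι, hι⟩ := Lib.Helper71.exists_injective_of_surjective π hπ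
  -- powers of kernel elements
  have hpowmem : ∀ z ∈ σ.ker, ∀ k : ℕ, z ^ k ∈ Uh := by
    intro z hz k
    show σ (z ^ k) ∈ U
    rw [map_pow, MonoidHom.mem_ker.mp hz, one_pow]
    exact U.one_mem
  have hkey : ∀ z (hz : z ∈ σ.ker),
      (⟨z ^ U.index, hpowmem z hz _⟩ : Uh) ∈ σU.ker ⊓ commutator Uh := by
    intro z hz
    refine ⟨?_, ?_⟩
    · apply (hσUk _).mpr
      show σ (z ^ U.index) = 1
      rw [map_pow, MonoidHom.mem_ker.mp hz, one_pow]
    · have hzc : z ∈ Subgroup.center Γ := hσc hz
      have key : ∀ (k : ℕ) (g₀ : Γ), g₀⁻¹ * z ^ k * g₀ ∈ Uh → g₀⁻¹ * z ^ k * g₀ = z ^ k := by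
        intro k g₀ _
        have := Subgroup.mem_center_iff.mp ((Subgroup.center Γ).pow_mem hzc k) g₀
        rw [mul_assoc, ← this, inv_mul_cancel_left]
      have h1 := MonoidHom.transfer_eq_pow (Abelianization.of : Uh →* Abelianization Uh) z key
      have h2 : MonoidHom.transfer (Abelianization.of : Uh →* Abelianization Uh) z = 1 :=
        Abelianization.commutator_subset_ker _ (hσk hz)
      rw [h2] at h1
      have h3 : ∀ (k : ℕ), k = Uh.index → ∀ (h : z ^ k ∈ Uh),
          (Abelianization.of : Uh →* Abelianization Uh) ⟨z ^ k, h⟩ = 1 := by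
        rintro k rfl h
        exact h1.symm
      have h4 := h3 U.index hidx.symm (hpowmem z hz _)
      rw [← Abelianization.ker_of]
      exact h4
  let θ : A →* ↥(σU.ker ⊓ commutator Uh) :=
    { toFun := fun a => ⟨⟨((eA.symm a : σ.ker) : Γ) ^ U.index, hpowmem _ (eA.symm a).2 _⟩,
        hkey _ (eA.symm a).2⟩
      map_one' := by
        apply Subtype.ext
        apply Subtype.ext
        show ((eA.symm 1 : σ.ker) : Γ) ^ U.index = 1
        rw [map_one, Subgroup.coe_one, one_pow]
      map_mul' := by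
        intro a b
        apply Subtype.ext
        apply Subtype.ext
        show ((eA.symm (a * b) : σ.ker) : Γ) ^ U.index =
          ((eA.symm a : σ.ker) : Γ) ^ U.index * ((eA.symm b : σ.ker) : Γ) ^ U.index
        rw [map_mul, Subgroup.coe_mul]
        have hc : Commute ((eA.symm a : σ.ker) : Γ) ((eA.symm b : σ.ker) : Γ) :=
          Subgroup.mem_center_iff.mp (hσc (eA.symm b).2) _
        exact hc.mul_pow _ }
  have hθ : ∀ a, (((θ a : ↥(σU.ker ⊓ commutator Uh)) : Uh) : Γ) =
      ((eA.symm a : σ.ker) : Γ) ^ U.index := fun a => rfl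
  let Θ : A →* B := ι.comp θ
  have hker : (powMonoidHom U.index : A →* A).ker = Θ.ker := by
    ext a
    rw [MonoidHom.mem_ker, MonoidHom.mem_ker, powMonoidHom_apply]
    show a ^ U.index = 1 ↔ ι (θ a) = 1
    rw [← map_one ι, hι.eq_iff]
    constructor
    · intro h
      apply Subtype.ext
      apply Subtype.ext
      rw [hθ]
      have : eA.symm (a ^ U.index) = 1 := by rw [h, map_one]
      rw [map_pow] at this
      have := congrArg Subtype.val this
      rw [Subgroup.coe_pow] at this
      exact this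
    · intro h
      have h1 : ((eA.symm a : σ.ker) : Γ) ^ U.index = 1 := by
        rw [← hθ, h]; rfl
      have h2 : (eA.symm a : σ.ker) ^ U.index = 1 := by
        apply Subtype.ext
        rw [Subgroup.coe_pow]
        exact h1
      rw [← map_pow] at h2
      have := congrArg eA h2
      rwa [eA.apply_symm_apply, map_one] at this
  refine ⟨Θ.range, ⟨?_⟩⟩
  exact ((QuotientGroup.quotientKerEquivRange (powMonoidHom U.index : A →* A)).symm.trans
    (QuotientGroup.quotientMulEquivOfEq hker)).trans (QuotientGroup.quotientKerEquivRange Θ)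

end Cfsg.Agent.S3954
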