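import Mathlib
import Cfsg.Statements.S3956
import Cfsg.Agent.Lib.Helper70.SchurPres
import Cfsg.Agent.Lib.Helper71.CentralRep

set_option autoImplicit false
universe u v
open Cfsg

namespace Cfsg.Agent.S3956

/-- Let `σ : Γ →* Q` be a finite stem extension of the finite group `Q` such that every homomorphism from `Q` to the quotient of `GL n ℂ` by its centre, for every `n`, lifts along `σ` to a homomorphism `Γ →* GL n ℂ`. Then `σ` is a Schur covering group of `Q`: for every finite stem extension `τ : Δ →* Q` with `Δ` in the same universe as `Q`, the kernel of `τ` is a homomorphic image of the kernel of `σ`. -/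
theorem result {Q : Type u} [Group Q] [Finite Q] {Γ : Type v} [Group Γ] [Finite Γ] (σ : Γ →* Q) (hσ : Cfsg.IsStemExtension σ) (hlift : ∀ (n : ℕ) (γ : Q →* (GL (Fin n) ℂ ⧸ Subgroup.center (GL (Fin n) ℂ))), ∃ ρ : Γ →* GL (Fin n) ℂ, (QuotientGroup.mk' (Subgroup.center (GL (Fin n) ℂ))).comp ρ = γ.comp σ) (Δ : Type u) [Group Δ] [Finite Δ] (τ : Δ →* Q) (hτ : Cfsg.IsStemExtension τ) : ∃ π : σ.ker →* τ.ker, Function.Surjective π := by
  classical
  have hp : Function.Surjective (id : Q → Q) := Function.surjective_id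
  obtain ⟨φΓ, hφΓ⟩ := Lib.Helper70.exists_lift_presH (id : Q → Q) σ hσ.1 hσ.2.1
  obtain ⟨φΔ, hφΔ⟩ := Lib.Helper70.exists_lift_presH (id : Q → Q) τ hτ.1 hτ.2.1
  have hMΓ := Lib.Helper70.map_presM_of_stem hp σ hσ φΓ hφΓ
  have hMΔ := Lib.Helper70.map_presM_of_stem hp τ hτ φΔ hφΔ
  have hφΓ' : ∀ h, σ (φΓ h) = Lib.Helper70.presπ id h := fun h => DFunLike.congr_fun hφΓ h
  have hφΔ' : ∀ h, τ (φΔ h) = Lib.Helper70.presπ id h := fun h => DFunLike.congr_fun hφΔ h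
  let f₁ : Lib.Helper70.presM (id : Q → Q) →* σ.ker :=
    (φΓ.comp (Lib.Helper70.presM (id : Q → Q)).subtype).codRestrict σ.ker (fun m => by
      rw [← hMΓ]; exact ⟨m, m.2, rfl⟩)
  let f₂ : Lib.Helper70.presM (id : Q → Q) →* τ.ker :=
    (φΔ.comp (Lib.Helper70.presM (id : Q → Q)).subtype).codRestrict τ.ker (fun m => by
      rw [← hMΔ]; exact ⟨m, m.2, rfl⟩)
  have hf₁ : Function.Surjective f₁ := by
    rintro ⟨z, hz⟩
    rw [← hMΓ] at hz
    obtain ⟨m, hm, rfl⟩ := hz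
    exact ⟨⟨m, hm⟩, rfl⟩
  have hf₂ : Function.Surjective f₂ := by
    rintro ⟨z, hz⟩
    rw [← hMΔ] at hz
    obtain ⟨m, hm, rfl⟩ := hz
    exact ⟨⟨m, hm⟩, rfl⟩
  have hk : f₁.ker ≤ f₂.ker := by
    intro m hm
    have hm1 : φΓ (m : Lib.Helper70.PresH (id : Q → Q)) = 1 :=
      congrArg Subtype.val (MonoidHom.mem_ker.mp hm)
    rw [MonoidHom.mem_ker]
    apply Subtype.ext
    show φΔ (m : Lib.Helper70.PresH (id : Q → Q)) = 1
    by_contra hne
    have hzker : φΔ (m : Lib.Helper70.PresH (id : Q → Q)) ∈ τ.ker := (f₂ m).2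
    obtain ⟨d, ρ₀, hcen, hρ₀⟩ :=
      Lib.Helper71.exists_central_scalar_rep τ.ker hτ.2.1 _ hzker hne
    have hker : τ.ker ≤ ((QuotientGroup.mk' (Subgroup.center (GL (Fin d) ℂ))).comp ρ₀).ker := by
      intro k hk
      rw [MonoidHom.mem_ker, MonoidHom.comp_apply, QuotientGroup.mk'_apply,
        QuotientGroup.eq_one_iff]
      exact hcen k hk
    let γ : Q →* (GL (Fin d) ℂ ⧸ Subgroup.center (GL (Fin d) ℂ)) :=
      τ.liftOfSurjective hτ.1 ⟨_, hker⟩
    have hγ : γ.comp τ = (QuotientGroup.mk' (Subgroup.center (GL (Fin d) ℂ))).comp ρ₀ :=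
      τ.liftOfRightInverse_comp _ _ ⟨_, hker⟩
    have hγ' : ∀ x, γ (τ x) = QuotientGroup.mk' (Subgroup.center (GL (Fin d) ℂ)) (ρ₀ x) :=
      fun x => DFunLike.congr_fun hγ x
    obtain ⟨ρ, hρ⟩ := hlift d γ
    have hρ' : ∀ x, QuotientGroup.mk' (Subgroup.center (GL (Fin d) ℂ)) (ρ x) = γ (σ x) :=
      fun x => DFunLike.congr_fun hρ x
    have hdiv : ∀ h, (ρ₀.comp φΔ) h * ((ρ.comp φΓ) h)⁻¹ ∈ Subgroup.center (GL (Fin d) ℂ) := by
      intro h
      rw [← QuotientGroup.eq_one_iff, QuotientGroup.mk_mul, QuotientGroup.mk_inv]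
      have h1 := hγ' (φΔ h)
      have h2 := hρ' (φΓ h)
      rw [hφΔ'] at h1
      rw [hφΓ'] at h2
      simp only [QuotientGroup.mk'_apply] at h1 h2
      rw [MonoidHom.comp_apply, MonoidHom.comp_apply, ← h1, h2, mul_inv_cancel]
    have heq := Lib.Helper71.eq_on_commutator_of_div_central _ _ hdiv
      (m : Lib.Helper70.PresH (id : Q → Q)) (Lib.Helper70.presM_le_commutator _ m.2)
    rw [MonoidHom.comp_apply, MonoidHom.comp_apply, hm1, map_one] at heq
    exact hρ₀ heq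
  obtain ⟨ψ, hψ, -⟩ := Lib.Helper70.exists_surj_of_ker_le f₁ hf₁ f₂ hf₂ hk
  exact ⟨ψ, hψ⟩

end Cfsg.Agent.S3956
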