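import Mathlib
import Cfsg.Statements.S3960
import Cfsg.Agent.Lib.Helper70.SchurPres

set_option autoImplicit false
universe u
open Cfsg

namespace Cfsg.Agent.S3960

open Cfsg.Agent.Lib.Helper70 in
/-- A finite perfect group `Q` has a universal central extension: a finite perfect group `G` in the universe of `Q` and a surjective homomorphism `π : G →* Q` with central kernel such that for every group `X` in that universe and every surjective homomorphism `ξ : X →* Q` with central kernel there is exactly one homomorphism `η : G →* X` with `ξ ∘ η = π`. -/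
theorem result {Q : Type u} [Group Q] [Finite Q] (hQ : Group.IsPerfect Q) : ∃ (G : Type u) (_ : Group G) (_ : Finite G) (π : G →* Q), Group.IsPerfect G ∧ Function.Surjective π ∧ π.ker ≤ Subgroup.center G ∧ ∀ (X : Type u) [Group X] (ξ : X →* Q), Function.Surjective ξ → ξ.ker ≤ Subgroup.center X → ∃! η : G →* X, ξ.comp η = π := by
  have hp : Function.Surjective (id : Q → Q) := Function.surjective_id
  have hs := presπ_surjective (id : Q → Q) hp
  have hc := presπ_ker_le_center (id : Q → Q)
  have hperf : Group.IsPerfect (commutator (PresH (id : Q → Q))) :=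
    commutator_isPerfect_of_central_ext (presπ id) hs hc
  have hstem := restrict_commutator_isStem (presπ (id : Q → Q)) hs hc
  refine ⟨commutator (PresH (id : Q → Q)), inferInstance, finite_commutator_presH hp,
    (presπ id).comp (commutator (PresH (id : Q → Q))).subtype, hperf, hstem.1, hstem.2.1, ?_⟩
  intro X _ ξ hξ hξk
  obtain ⟨φ, hφ⟩ := exists_lift_presH (id : Q → Q) ξ hξ hξk
  refine ⟨φ.comp (commutator (PresH (id : Q → Q))).subtype, ?_, ?_⟩
  · show ξ.comp (φ.comp _) = _
    rw [← MonoidHom.comp_assoc, hφ]
  · intro η' hη'
    apply perfect_lift_unique ξ hξk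
    rw [hη', ← MonoidHom.comp_assoc, hφ]

end Cfsg.Agent.S3960
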