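import Cfsg.Statements.S3962

set_option autoImplicit false
open Cfsg

namespace Cfsg.Agent.S3962

/-- Let `G` be a perfect group and `π : G →* Q` a surjective homomorphism whose kernel is central. Then `π` maps the centre of `G` onto the centre of `Q`. Taking `π` to be the map to `G ⧸ Z(G)` shows that the central quotient of a perfect group has trivial centre. -/
theorem result {G Q : Type*} [Group G] [Group Q] (hG : Group.IsPerfect G) (π : G →* Q) (hπ : Function.Surjective π) (hker : π.ker ≤ Subgroup.center G) : (Subgroup.center G).map π = Subgroup.center Q := by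
  apply le_antisymm
  · rintro _ ⟨z, hz, rfl⟩
    rw [Subgroup.mem_center_iff]
    intro q
    obtain ⟨x, rfl⟩ := hπ q
    rw [← map_mul, ← map_mul, Subgroup.mem_center_iff.mp hz x]
  · intro q hq
    obtain ⟨g, rfl⟩ := hπ q
    refine ⟨g, ?_, rfl⟩
    have hc : ∀ x : G, g * x * g⁻¹ * x⁻¹ ∈ Subgroup.center G := by
      intro x
      apply hker
      rw [MonoidHom.mem_ker]
      have := Subgroup.mem_center_iff.mp hq (π x)
      simp only [map_mul, map_inv]
      rw [← this]
      group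
    let S : Subgroup G := Subgroup.centralizer {g}
    have hS : commutator G ≤ S := by
      rw [commutator_def, Subgroup.commutator_le]
      intro x _ y _
      rw [Subgroup.mem_centralizer_iff]
      intro h hh
      rw [Set.mem_singleton_iff] at hh
      subst hh
      have hx := Subgroup.mem_center_iff.mp (hc x)
      have hy := Subgroup.mem_center_iff.mp (hc y)
      have ex : h * x = (h * x * h⁻¹ * x⁻¹) * x * h := by group
      have ey : h * y = (h * y * h⁻¹ * y⁻¹) * y * h := by group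
      have ex' : h * x⁻¹ = x⁻¹ * (h * x * h⁻¹ * x⁻¹)⁻¹ * h := by group
      have ey' : h * y⁻¹ = y⁻¹ * (h * y * h⁻¹ * y⁻¹)⁻¹ * h := by group
      set zx := h * x * h⁻¹ * x⁻¹ with hzx
      set zy := h * y * h⁻¹ * y⁻¹ with hzy
      rw [commutatorElement_def]
      calc h * (x * y * x⁻¹ * y⁻¹) = (h * x) * y * x⁻¹ * y⁻¹ := by group
        _ = zx * x * (h * y) * x⁻¹ * y⁻¹ := by rw [ex]; group
        _ = zx * x * (zy * y) * (h * x⁻¹) * y⁻¹ := by rw [ey]; group
        _ = zx * x * (zy * y) * (x⁻¹ * zx⁻¹) * (h * y⁻¹) := by rw [ex']; group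
        _ = zx * x * (zy * y) * (x⁻¹ * zx⁻¹) * (y⁻¹ * zy⁻¹) * h := by rw [ey']; group
        _ = x * y * x⁻¹ * y⁻¹ * h := by
          have hx' : ∀ a, a * zx = zx * a := hx
          have hy' : ∀ a, a * zy = zy * a := hy
          have hxi : ∀ a, a * zx⁻¹ = zx⁻¹ * a := fun a => by
            have := hx' (zx⁻¹ * a * zx⁻¹)
            calc a * zx⁻¹ = zx * (zx⁻¹ * a * zx⁻¹) := by group
              _ = (zx⁻¹ * a * zx⁻¹) * zx := (hx' _).symm
              _ = zx⁻¹ * a := by group
          have hyi : ∀ a, a * zy⁻¹ = zy⁻¹ * a := fun a => by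
            calc a * zy⁻¹ = zy * (zy⁻¹ * a * zy⁻¹) := by group
              _ = (zy⁻¹ * a * zy⁻¹) * zy := (hy' _).symm
              _ = zy⁻¹ * a := by group
          calc zx * x * (zy * y) * (x⁻¹ * zx⁻¹) * (y⁻¹ * zy⁻¹) * h
              = zx * x * (zy * y) * (x⁻¹ * zx⁻¹) * y⁻¹ * zy⁻¹ * h := by group
            _ = zy⁻¹ * (zx * x * (zy * y) * (x⁻¹ * zx⁻¹) * y⁻¹) * h := by rw [hyi]
            _ = zy⁻¹ * (zx * (x * zy) * y * x⁻¹ * zx⁻¹ * y⁻¹) * h := by group
            _ = zy⁻¹ * (zx * (zy * x) * y * x⁻¹ * zx⁻¹ * y⁻¹) * h := by rw [hy' x]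
            _ = zy⁻¹ * ((zx * zy) * x * y * (x⁻¹ * zx⁻¹) * y⁻¹) * h := by group
            _ = zy⁻¹ * ((zy * zx) * x * y * (zx⁻¹ * x⁻¹) * y⁻¹) * h := by rw [hx' zy, hxi x⁻¹]
            _ = zx * ((x * y) * zx⁻¹) * x⁻¹ * y⁻¹ * h := by group
            _ = zx * (zx⁻¹ * (x * y)) * x⁻¹ * y⁻¹ * h := by rw [hxi]
            _ = x * y * x⁻¹ * y⁻¹ * h := by group
    show g ∈ Subgroup.center G
    rw [Subgroup.mem_center_iff]
    intro x
    have hx : x ∈ S := hS (by rw [Group.IsPerfect.commutator_eq_top]; trivial)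
    exact (Subgroup.mem_centralizer_iff.mp hx g rfl).symm

end Cfsg.Agent.S3962
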