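import Mathlib
import Cfsg.Statements.S3964
import Cfsg.Agent.Lib.Helper70.StemExt
import Cfsg.Agent.Lib.Helper70.Dihedral

set_option autoImplicit false
open Cfsg

namespace Cfsg.Agent.S3964

open Cfsg.Agent.Lib.Helper70 DihedralGroup

/-- For odd `n` the dihedral group of order `2 n` has trivial Schur multiplier. -/
theorem result (n : ℕ) (hn : Odd n) : Cfsg.HasCyclicSchurMultiplier (DihedralGroup n) 1 := by
  have : NeZero n := ⟨by rintro rfl; simp at hn⟩
  apply hasCyclicSchurMultiplier_one_of_forall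
  intro Γ _ _ σ hσ
  obtain ⟨xt, hxt⟩ := hσ.1 (sr 0)
  rw [eq_bot_iff]
  intro z hz
  obtain ⟨u, hu, hu2, hzu⟩ := stem_ker_form σ hσ (r 1) (sr 0) dih_zpowers_r_one_normal dih_sup_eq_top
    dih_conj_r_one xt hxt z hz
  rw [dih_mem_zpowers_r_one] at hu
  obtain ⟨i, hi⟩ := hu
  rw [hi, sq, r_mul_r, one_def] at hu2
  have hi0 : i = 0 := by
    have h2 : i + i = 0 := by injection hu2
    have h3 : (2 : ZMod n) * i = 0 := by rw [two_mul]; exact h2
    have hunit : IsUnit (2 : ZMod n) := by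
      have : ((2 : ℕ) : ZMod n) = 2 := by norm_cast
      rw [← this, ZMod.isUnit_iff_coprime]
      exact Nat.coprime_two_left.mpr hn
    exact (hunit.mul_right_eq_zero).mp h3
  have huk : u ∈ σ.ker := by
    rw [MonoidHom.mem_ker, hi, hi0]; rfl
  have hucen := hσ.2.1 huk
  rw [Subgroup.mem_center_iff] at hucen
  rw [Subgroup.mem_bot, hzu, hucen xt]
  group

end Cfsg.Agent.S3964
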