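import Cfsg.Statements.S3968
import Cfsg.Agent.Lib.Helper82.CharSchur
import Cfsg.Agent.Lib.Helper04.Burnside
import Cfsg.Agent.Lib.Helper83.Decompose
import Cfsg.Agent.Lib.Helper83.Quotient
import Cfsg.Agent.Lib.Helper83.Linear
import Cfsg.Agent.S4566

set_option autoImplicit false
set_option linter.style.haveILetI false
open Cfsg

namespace Cfsg.Agent.S3968

open Module
open scoped commutatorElement

/-- Burnside: class size coprime to the degree forces value zero or scalar action. -/
theorem burnside_coprime {G : Type*} [Group G] [Finite G] {n : ℕ}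
    (ρ : Representation ℂ G (Fin n → ℂ)) [ρ.IsIrreducible] (x : G)
    (hcop : Nat.Coprime (Subgroup.centralizer ({x} : Set G)).index n) :
    ρ.character x = 0 ∨ ∃ ω : ℂ, ρ x = ω • (LinearMap.id : (Fin n → ℂ) →ₗ[ℂ] (Fin n → ℂ)) := by
  have hfr : finrank ℂ (Fin n → ℂ) = n := by simp
  have hn0 : finrank ℂ (Fin n → ℂ) ≠ 0 := Cfsg.Agent.Lib.Helper04.finrank_ne_zero_of_irreducible ρ
  have hirr : Cfsg.IsIrrCharacter G ρ.character := ⟨n, ρ, inferInstance, rfl⟩
  have h1 := Cfsg.Agent.Lib.Helper82.IsIrrCharacter.isIntegral_centralChar hirr x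
  have h2 : IsIntegral ℤ (ρ.character x) :=
    Cfsg.Agent.Lib.Helper82.isIntegral_character ρ x
  have hint : IsIntegral ℤ (ρ.character x / (finrank ℂ (Fin n → ℂ) : ℂ)) := by
    rw [hfr]
    have hn0' : (n : ℂ) ≠ 0 := by
      rw [hfr] at hn0; exact_mod_cast hn0
    set m := (Subgroup.centralizer ({x} : Set G)).index with hm
    have hbez := Nat.Coprime.isCoprime (m := m) (n := n) hcop
    obtain ⟨a, b, hab⟩ := hbez
    have hab' : ((a : ℤ) : ℂ) * (m : ℂ) + ((b : ℤ) : ℂ) * (n : ℂ) = 1 := by
      have := congrArg (fun z : ℤ => (z : ℂ)) hab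
      simpa using this
    have : ρ.character x / (n : ℂ) = ((a : ℤ) : ℂ) * Cfsg.centralChar ρ.character x
        + ((b : ℤ) : ℂ) * ρ.character x := by
      unfold Cfsg.centralChar
      rw [Representation.char_one, hfr, ← hm]
      field_simp
      linear_combination (-(ρ.character x)) * hab'
    rw [this]
    exact ((isIntegral_algebraMap (R := ℤ) (A := ℂ) (x := a)).mul h1).add
      ((isIntegral_algebraMap (R := ℤ) (A := ℂ) (x := b)).mul h2)
  rcases Cfsg.Agent.Lib.Helper04.char_eq_zero_or_norm_eq_of_isIntegral_div ρ x hn0 hint with h | h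
  · exact Or.inl h
  · exact Or.inr ((Cfsg.Agent.Lib.Helper04.norm_char_eq_iff ρ x).mp h)

/-- Let `p` be a prime and `G` a finite group with a faithful irreducible complex character of degree `p` (so `G` is an irreducible linear group in `p` variables). If `p ^ 2` divides the order of `G`, then the centre of `G` is nontrivial. -/
theorem result {G : Type*} [Group G] [Finite G] (p : ℕ) (hp : p.Prime) (χ : Cfsg.IrrCharacter G) (hdeg : χ.1 1 = p) (hfaith : ∀ g : G, χ.1 g = χ.1 1 → g = 1) (hdiv : p ^ 2 ∣ Nat.card G) : Subgroup.center G ≠ ⊥ := by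
  classical
  intro hbot
  haveI := Fact.mk hp
  obtain ⟨χ, hχirr⟩ := χ
  obtain ⟨n, ρ, hirr, rfl⟩ := hχirr
  haveI := hirr
  simp only at hdeg hfaith
  have hn : n = p := by
    rw [Cfsg.Agent.Lib.Helper83.rep_char_one] at hdeg; exact_mod_cast hdeg
  subst hn
  -- Step 1: vanishing
  have hvanish : ∀ x : G, x ≠ 1 →
      Nat.Coprime (Subgroup.centralizer ({x} : Set G)).index n → ρ.character x = 0 := by
    intro x hx hcop
    rcases burnside_coprime ρ x hcop with h | ⟨ω, hω⟩
    · exact h
    · exfalso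
      apply hx
      have hmem : x ∈ Subgroup.center G := by
        rw [Subgroup.mem_center_iff]
        intro y
        have h0 : ρ (y * x) = ρ (x * y) := by
          rw [map_mul, map_mul, hω]
          ext v
          simp
        have h1 : ρ ((y * x) * (x * y)⁻¹) = 1 := by
          rw [map_mul, h0, ← map_mul, mul_inv_cancel, map_one]
        have h2 := (Cfsg.Agent.Lib.Helper83.rep_char_eq_one_iff ρ _).mpr h1
        have h3 := hfaith _ h2
        exact mul_inv_eq_one.mp h3
      rw [hbot] at hmem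
      exact Subgroup.mem_bot.mp hmem
  -- Sylow subgroup
  obtain ⟨P⟩ : Nonempty (Sylow n G) := inferInstance
  have hPcard : Nat.card P = n ^ (Nat.card G).factorization n := Sylow.card_eq_multiplicity P
  have hk : 2 ≤ (Nat.card G).factorization n :=
    (hp.pow_dvd_iff_le_factorization (Nat.card_pos.ne')).mp hdiv
  have hp2 : n ^ 2 ∣ Nat.card P := by rw [hPcard]; exact pow_dvd_pow n hk
  set χP : ↥(P : Subgroup G) → ℂ := fun h => ρ.character (h : G) with hχP
  have hχPchar : IsCharacter ↥(P : Subgroup G) χP :=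
    Cfsg.Agent.Lib.Helper83.isCharacter_restrict (P : Subgroup G) ⟨n, ρ, rfl⟩
  have hχP1 : χP 1 = n := by
    simp only [hχP, OneMemClass.coe_one]
    exact Cfsg.Agent.Lib.Helper83.rep_char_one ρ
  have hPfaith : ∀ g : ↥(P : Subgroup G), χP g = χP 1 → g = 1 := by
    intro g hg
    apply Subtype.ext
    exact hfaith _ hg
  have hZvanish : ∀ z : ↥(P : Subgroup G), z ∈ Subgroup.center ↥(P : Subgroup G) → z ≠ 1 →
      χP z = 0 := by
    intro z hz hz1
    apply hvanish (z : G) (by intro h; apply hz1; exact Subtype.ext h)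
    have hle : (P : Subgroup G) ≤ Subgroup.centralizer {(z : G)} := by
      intro x hx
      rw [Subgroup.mem_centralizer_singleton_iff]
      have := Subgroup.mem_center_iff.mp hz ⟨x, hx⟩
      have := congrArg Subtype.val this
      simpa using this
    have hdvd := Subgroup.index_dvd_of_le hle
    have hnd : ¬ n ∣ (P : Subgroup G).index := P.not_dvd_index
    exact Nat.Coprime.coprime_dvd_left hdvd ((Nat.Prime.coprime_iff_not_dvd hp).mpr hnd).symm
  have hPnt : Nontrivial ↥(P : Subgroup G) := by
    rw [← Finite.one_lt_card_iff_nontrivial]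
    have h1 : n ^ 2 ≤ Nat.card P := Nat.le_of_dvd Nat.card_pos hp2
    have h2 : 1 < n ^ 2 := Nat.one_lt_pow (by norm_num) hp.one_lt
    exact lt_of_lt_of_le h2 h1
  have hZcard : Nat.card (Subgroup.center ↥(P : Subgroup G)) = n := by
    haveI : Fintype (Subgroup.center ↥(P : Subgroup G)) := Fintype.ofFinite _
    have hχZ : IsCharacter (Subgroup.center ↥(P : Subgroup G))
        (fun z : Subgroup.center ↥(P : Subgroup G) => χP (z : ↥(P : Subgroup G))) :=
      Cfsg.Agent.Lib.Helper83.isCharacter_restrict _ hχPchar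
    obtain ⟨m, hm⟩ := Cfsg.Agent.Lib.Helper83.classInner_char_nat hχZ
      (Cfsg.Agent.Lib.Helper83.isCharacter_one (G := Subgroup.center ↥(P : Subgroup G)))
    have hsum : ∑ z : Subgroup.center ↥(P : Subgroup G),
        χP (z : ↥(P : Subgroup G)) * (starRingEnd ℂ) 1 = n := by
      rw [Finset.sum_eq_single (1 : Subgroup.center ↥(P : Subgroup G))]
      · simp [hχP1]
      · intro z _ hz1
        rw [hZvanish z z.2 (by intro h; apply hz1; exact Subtype.ext h)]; simp
      · simp
    unfold classInner at hm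
    rw [hsum] at hm
    have hZne : (Nat.card (Subgroup.center ↥(P : Subgroup G)) : ℂ) ≠ 0 := by
      exact_mod_cast Nat.card_pos.ne'
    have hnm : n = m * Nat.card (Subgroup.center ↥(P : Subgroup G)) := by
      have : (n : ℂ) = m * Nat.card (Subgroup.center ↥(P : Subgroup G)) := by
        rw [← hm]; field_simp
      exact_mod_cast this
    have hdvd : Nat.card (Subgroup.center ↥(P : Subgroup G)) ∣ n := ⟨m, by rw [mul_comm]; exact hnm⟩
    rcases (Nat.dvd_prime hp).mp hdvd with h1 | h1
    · exfalso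
      have hnt := P.2.center_nontrivial
      rw [← Finite.one_lt_card_iff_nontrivial] at hnt
      omega
    · exact h1
  -- decomposition of χP
  haveI : Fintype ↥(P : Subgroup G) := Fintype.ofFinite _
  haveI : Fintype (IrrCharacter ↥(P : Subgroup G)) := Fintype.ofFinite _
  have hdec := Cfsg.Agent.Lib.Helper83.char_eq_sum_irrMult hχPchar
  have hval : ∀ g, χP g = ∑ ψ : IrrCharacter ↥(P : Subgroup G),
      (Cfsg.Agent.Lib.Helper83.irrMult χP ψ : ℂ) * ψ.1 g := by
    intro g
    have := congrFun hdec g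
    simpa [Finset.sum_apply] using this
  have hdcast : ∀ ψ : IrrCharacter ↥(P : Subgroup G),
      (charDegree ψ.1 : ℂ) = ψ.1 1 := fun ψ =>
    Cfsg.Agent.Lib.Helper83.charDegree_cast (Cfsg.Agent.Lib.Helper83.IrrCharacter_isCharacter ψ)
  have hnsum : n = ∑ ψ : IrrCharacter ↥(P : Subgroup G),
      Cfsg.Agent.Lib.Helper83.irrMult χP ψ * charDegree ψ.1 := by
    have h1 := hval 1
    rw [hχP1] at h1
    have : (n : ℂ) = ((∑ ψ : IrrCharacter ↥(P : Subgroup G),
      Cfsg.Agent.Lib.Helper83.irrMult χP ψ * charDegree ψ.1 : ℕ) : ℂ) := by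
      rw [h1]
      push_cast
      apply Finset.sum_congr rfl
      intro ψ _
      rw [hdcast]
    exact_mod_cast this
  obtain ⟨z, hz1⟩ : ∃ z : Subgroup.center ↥(P : Subgroup G), z ≠ 1 := by
    haveI : Nontrivial (Subgroup.center ↥(P : Subgroup G)) := by
      rw [← Finite.one_lt_card_iff_nontrivial, hZcard]; exact hp.one_lt
    exact exists_ne 1
  by_cases hlin : ∀ ψ : IrrCharacter ↥(P : Subgroup G),
      Cfsg.Agent.Lib.Helper83.irrMult χP ψ ≠ 0 → charDegree ψ.1 = 1
  · -- all constituents linear: P abelian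
    have hcomm : ∀ u v : ↥(P : Subgroup G), u * v = v * u := by
      intro u v
      have hc : ⁅u, v⁆ ∈ commutator ↥(P : Subgroup G) :=
        Subgroup.commutator_mem_commutator (Subgroup.mem_top u) (Subgroup.mem_top v)
      have h1 : χP ⁅u, v⁆ = χP 1 := by
        rw [hval, hval 1]
        apply Finset.sum_congr rfl
        intro ψ _
        by_cases hm : Cfsg.Agent.Lib.Helper83.irrMult χP ψ = 0
        · rw [hm]; simp
        · have hd1 : ψ.1 1 = 1 := by
            rw [← hdcast, hlin ψ hm]; simp
          rw [Cfsg.Agent.Lib.Helper83.char_deg_one_commutator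
            (Cfsg.Agent.Lib.Helper83.IrrCharacter_isCharacter ψ) hd1 hc, hd1]
      have h2 := hPfaith _ h1
      rw [commutatorElement_def] at h2
      have : u * v = (u * v * u⁻¹ * v⁻¹) * (v * u) := by group
      rw [this, h2, one_mul]
    have hZtop : Subgroup.center ↥(P : Subgroup G) = ⊤ := by
      rw [eq_top_iff]
      intro u _
      rw [Subgroup.mem_center_iff]
      intro v
      exact hcomm v u
    rw [hZtop, Subgroup.card_top] at hZcard
    rw [hZcard] at hp2
    have := Nat.le_of_dvd hp.pos hp2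
    have h2 : n < n ^ 2 := by
      have := hp.one_lt
      nlinarith
    omega
  · -- some constituent of degree p: χP irreducible
    push Not at hlin
    obtain ⟨ψ, hmψ, hdψ⟩ := hlin
    have hddvd : charDegree ψ.1 ∣ n ^ (Nat.card G).factorization n := by
      rw [← hPcard]
      exact Cfsg.Agent.Lib.Helper83.irr_charDegree_dvd_card ψ
    obtain ⟨j, _, hj⟩ := (Nat.dvd_prime_pow hp).mp hddvd
    have hj0 : j ≠ 0 := by
      intro h; rw [h, pow_zero] at hj; exact hdψ hj
    have hnle : n ≤ charDegree ψ.1 := by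
      rw [hj]
      exact Nat.le_of_dvd (pow_pos hp.pos j) (dvd_pow_self n hj0)
    have hsingle : Cfsg.Agent.Lib.Helper83.irrMult χP ψ * charDegree ψ.1 ≤ n := by
      conv_rhs => rw [hnsum]
      exact Finset.single_le_sum (f := fun ψ : IrrCharacter ↥(P : Subgroup G) =>
        Cfsg.Agent.Lib.Helper83.irrMult χP ψ * charDegree ψ.1)
        (fun _ _ => Nat.zero_le _) (Finset.mem_univ ψ)
    have hm1 : Cfsg.Agent.Lib.Helper83.irrMult χP ψ = 1 := by
      have hpos : 1 ≤ Cfsg.Agent.Lib.Helper83.irrMult χP ψ := Nat.one_le_iff_ne_zero.mpr hmψ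
      by_contra hne
      have h2 : 2 ≤ Cfsg.Agent.Lib.Helper83.irrMult χP ψ := by omega
      have : 2 * charDegree ψ.1 ≤ n := le_trans (Nat.mul_le_mul_right _ h2) hsingle
      have := hp.pos
      omega
    have hdn : charDegree ψ.1 = n := by
      rw [hm1, one_mul] at hsingle
      omega
    have hothers : ∀ φ : IrrCharacter ↥(P : Subgroup G), φ ≠ ψ →
        Cfsg.Agent.Lib.Helper83.irrMult χP φ = 0 := by
      intro φ hφ
      by_contra hne
      have hdpos := Cfsg.Agent.Lib.Helper83.irr_charDegree_pos φ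
      have h2 : Cfsg.Agent.Lib.Helper83.irrMult χP ψ * charDegree ψ.1 +
          Cfsg.Agent.Lib.Helper83.irrMult χP φ * charDegree φ.1 ≤ n := by
        conv_rhs => rw [hnsum]
        have := Finset.sum_le_sum_of_subset (f := fun ψ : IrrCharacter ↥(P : Subgroup G) =>
          Cfsg.Agent.Lib.Helper83.irrMult χP ψ * charDegree ψ.1)
          (Finset.subset_univ ({ψ, φ} : Finset (IrrCharacter ↥(P : Subgroup G))))
        rw [Finset.sum_pair hφ.symm] at this
        exact this
      rw [hm1, one_mul, hdn] at h2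
      have : 0 < Cfsg.Agent.Lib.Helper83.irrMult χP φ * charDegree φ.1 :=
        Nat.mul_pos (Nat.pos_of_ne_zero hne) hdpos
      omega
    have hχPψ : χP = ψ.1 := by
      funext g
      rw [hval g, Finset.sum_eq_single ψ]
      · rw [hm1]; simp
      · intro φ _ hφ
        rw [hothers φ hφ]; simp
      · intro h; exact absurd (Finset.mem_univ ψ) h
    have hχPirr : IsIrrCharacter ↥(P : Subgroup G) χP := by rw [hχPψ]; exact ψ.2
    obtain ⟨c, hc⟩ := Cfsg.Agent.S4566.char_mul_central χP hχPirr (z : ↥(P : Subgroup G)) z.2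
    have hzne : (z : ↥(P : Subgroup G)) ≠ 1 := by
      intro h; apply hz1; exact Subtype.ext h
    have hz0 : χP (z : ↥(P : Subgroup G)) = 0 := hZvanish _ z.2 hzne
    have h1 := hc 1
    rw [one_mul, hz0, hχP1] at h1
    have hn0 : (n : ℂ) ≠ 0 := by exact_mod_cast hp.ne_zero
    have hc0 : c = 0 := by
      rcases mul_eq_zero.mp h1.symm with h | h
      · exact h
      · exact absurd h hn0
    have h2 := hc ((z : ↥(P : Subgroup G))⁻¹)
    rw [inv_mul_cancel, hχP1, hc0, zero_mul] at h2
    exact hn0 h2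

end Cfsg.Agent.S3968
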