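import Mathlib
import Cfsg.Statements.S3970
import Cfsg.Agent.Lib.Helper71.AbelianSylow

set_option autoImplicit false
open Cfsg

namespace Cfsg.Agent.S3970

open Cfsg.Agent.Lib.Helper71

/-- The hypothesis in a form inherited by subgroups. -/
def Inv {G : Type*} [Group G] (H : Subgroup G) : Prop :=
  ∀ p : ℕ, p.Prime → p ∣ Nat.card H → (∃ q : ℕ, q.Prime ∧ q ∣ Nat.card H ∧ p < q) →
    ∀ Q : Subgroup G, Q ≤ H → IsPGroup p Q →
      (∀ a ∈ Q, ∀ b ∈ Q, a * b = b * a) ∧ {x : G | x ∈ Q ∧ x ^ p = 1}.ncard ≤ p ^ 2

theorem Inv.mono {G : Type*} [Group G] [Finite G] {H K : Subgroup G} (hH : Inv H) (hKH : K ≤ H) :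
    Inv K := by
  intro p hp hpK hq Q hQK hQ
  have hdvd : Nat.card K ∣ Nat.card H := Subgroup.card_dvd_of_le hKH
  obtain ⟨q, hq1, hq2, hq3⟩ := hq
  exact hH p hp (hpK.trans hdvd) ⟨q, hq1, hq2.trans hdvd, hq3⟩ Q (hQK.trans hKH) hQ

theorem prod_Icc_two (p : ℕ) : ∏ i ∈ Finset.Icc 1 2, (p ^ i - 1) = (p - 1) * (p ^ 2 - 1) := by
  have : Finset.Icc 1 2 = {1, 2} := by decide
  rw [this, Finset.prod_insert (by decide), Finset.prod_singleton, pow_one]

theorem prod_Icc_one (p : ℕ) : ∏ i ∈ Finset.Icc 1 1, (p ^ i - 1) = p - 1 := by
  rw [Finset.Icc_self, Finset.prod_singleton, pow_one]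

theorem coprime_odd {n p : ℕ} (hp : p.Prime) (hp2 : p ≠ 2)
    (hmin : ∀ q : ℕ, q.Prime → q ∣ n → p ≤ q) :
    Nat.Coprime n ((p - 1) * (p ^ 2 - 1)) := by
  apply Nat.coprime_of_dvd
  intro q hq hqn hqd
  have hpq : p ≤ q := hmin q hq hqn
  have hp3 : 3 ≤ p := by
    have := hp.two_le
    omega
  have hfact : p ^ 2 - 1 = (p - 1) * (p + 1) := by
    have h1 : 1 ≤ p := by omega
    obtain ⟨m, rfl⟩ : ∃ m, p = m + 1 := ⟨p - 1, by omega⟩
    simp only [Nat.add_sub_cancel]
    ring_nf
    omega
  rw [hfact] at hqd
  have hcase : q ∣ p - 1 ∨ q ∣ p + 1 := by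
    rcases (Nat.Prime.dvd_mul hq).mp hqd with h | h
    · exact Or.inl h
    · rcases (Nat.Prime.dvd_mul hq).mp h with h | h
      · exact Or.inl h
      · exact Or.inr h
  rcases hcase with h | h
  · have := Nat.le_of_dvd (by omega) h
    omega
  · obtain ⟨t, ht⟩ := h
    have ht0 : t ≠ 0 := by rintro rfl; omega
    rcases Nat.lt_or_ge t 2 with ht2 | ht2
    · have ht1 : t = 1 := by omega
      rw [ht1, mul_one] at ht
      -- q = p + 1 is even
      have hodd : Odd p := hp.odd_of_ne_two hp2
      have heven : Even q := by rw [← ht]; exact hodd.add_one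
      have hq2 : q = 2 := (Nat.Prime.even_iff hq).mp heven
      omega
    · have : q * 2 ≤ q * t := Nat.mul_le_mul_left q ht2
      omega

/-- Main induction over subgroups of `G`. -/
theorem solvable_aux {G : Type*} [Group G] [Finite G] :
    ∀ n : ℕ, ∀ H : Subgroup G, Nat.card H = n → Inv H → ¬ 12 ∣ Nat.card H →
      Group.IsSolvable H := by
  intro n
  induction n using Nat.strong_induction_on with
  | _ n ih =>
    intro H hn hInv h12
    by_cases h1 : Nat.card H = 1
    · have : Subsingleton H := (Nat.card_eq_one_iff_unique.mp h1).1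
      infer_instance
    set p := (Nat.card H).minFac with hpdef
    have hp : p.Prime := Nat.minFac_prime h1
    have hpH : p ∣ Nat.card H := Nat.minFac_dvd _
    have hmin : ∀ q : ℕ, q.Prime → q ∣ Nat.card H → p ≤ q :=
      fun q hq hqH => Nat.minFac_le_of_dvd hq.two_le hqH
    have : Fact p.Prime := ⟨hp⟩
    by_cases hlarge : ∃ q : ℕ, q.Prime ∧ q ∣ Nat.card H ∧ p < q
    · -- Sylow p-subgroup of H
      obtain ⟨Q⟩ : Nonempty (Sylow p H) := inferInstance
      set Q' : Subgroup G := (Q : Subgroup H).map H.subtype with hQ'
      have hQ'H : Q' ≤ H := Subgroup.map_subtype_le _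
      have hQ'p : IsPGroup p Q' := Q.isPGroup'.map H.subtype
      obtain ⟨hcomm, hcard⟩ := hInv p hp hpH hlarge Q' hQ'H hQ'p
      have hmemQ' : ∀ x : H, x ∈ (Q : Subgroup H) → (x : G) ∈ Q' := fun x hx =>
        Subgroup.mem_map_of_mem H.subtype hx
      have : IsMulCommutative (Q : Subgroup H) := by
        refine ⟨⟨fun a b => ?_⟩⟩
        apply Subtype.ext
        apply Subtype.ext
        exact hcomm _ (hmemQ' a.1 a.2) _ (hmemQ' b.1 b.2)
      have hΩ2 : Nat.card (omegaOne p (Q : Subgroup H)) ≤ p ^ 2 := by
        refine le_trans ?_ hcard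
        rw [← Nat.card_coe_set_eq]
        apply Nat.card_le_card_of_injective
          (fun x : omegaOne p (Q : Subgroup H) => (⟨((x : H) : G), ?_⟩ :
            ({x : G | x ∈ Q' ∧ x ^ p = 1} : Set G)))
        · intro a b hab
          apply Subtype.ext
          apply Subtype.ext
          have h2 := congrArg Subtype.val hab
          exact h2
        · have hx := (mem_omegaOne p (Q : Subgroup H) (x : H)).mp x.2
          refine ⟨hmemQ' _ hx.1, ?_⟩
          have := congrArg Subtype.val hx.2
          simpa using this
      -- choose d and coprimality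
      have hNC : Subgroup.normalizer ((Q : Subgroup H) : Set H) ≤
          Subgroup.centralizer ((Q : Subgroup H) : Set H) := by
        by_cases hp2 : p = 2
        · by_cases h3 : 3 ∣ Nat.card H
          · -- then 4 ∤ |H|, Sylow 2-subgroup of order 2
            have h4 : ¬ 4 ∣ Nat.card H := by
              intro h4
              apply h12
              have : Nat.Coprime 4 3 := by decide
              exact this.mul_dvd_of_dvd_of_dvd h4 h3
            have hQcard : Nat.card (Q : Subgroup H) = p ^ 1 := by
              rw [Q.card_eq_multiplicity]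
              congr 1
              have hfac : (Nat.card H).factorization p ≤ 1 := by
                by_contra hgt
                rw [not_le] at hgt
                apply h4
                have : p ^ 2 ∣ Nat.card H :=
                  (pow_dvd_pow p hgt).trans (Nat.ordProj_dvd _ _)
                rw [hp2] at this
                exact this
              have hfac' : 1 ≤ (Nat.card H).factorization p :=
                (hp.dvd_iff_one_le_factorization Nat.card_pos.ne').mp hpH
              omega
            have hΩ1 : Nat.card (omegaOne p (Q : Subgroup H)) ≤ p ^ 1 := by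
              rw [← hQcard]
              exact Subgroup.card_le_of_le
                (fun x hx => ((mem_omegaOne p (Q : Subgroup H) x).mp hx).1)
            apply normalizer_le_centralizer_of_coprime' p Q 1 hΩ1
            rw [prod_Icc_one, hp2]
            exact Nat.coprime_one_right _
          · apply normalizer_le_centralizer_of_coprime' p Q 2 hΩ2
            rw [prod_Icc_two, hp2]
            have : (2 - 1) * (2 ^ 2 - 1) = 3 := by norm_num
            rw [this]
            exact (Nat.Coprime.symm ((Nat.Prime.coprime_iff_not_dvd Nat.prime_three).mpr h3))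
        · apply normalizer_le_centralizer_of_coprime' p Q 2 hΩ2
          rw [prod_Icc_two]
          exact coprime_odd hp hp2 hmin
      set K : Subgroup H := (MonoidHom.transferSylow Q hNC).ker with hK
      have hcompl : K.IsComplement' (Q : Subgroup H) :=
        MonoidHom.ker_transferSylow_isComplement' Q hNC
      have hcardKQ : Nat.card K * Nat.card (Q : Subgroup H) = Nat.card H := hcompl.card_mul_card
      have hQne : (Q : Subgroup H) ≠ ⊥ := Q.ne_bot_of_dvd_card hpH
      have hQ1 : 1 < Nat.card (Q : Subgroup H) := by
        rw [Subgroup.one_lt_card_iff_ne_bot]; exact hQne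
      have hKpos : 0 < Nat.card K := Nat.card_pos
      have hKlt : Nat.card K < n := by
        rw [← hn, ← hcardKQ]
        calc Nat.card K = Nat.card K * 1 := (mul_one _).symm
          _ < Nat.card K * Nat.card (Q : Subgroup H) := Nat.mul_lt_mul_of_pos_left hQ1 hKpos
      set K' : Subgroup G := K.map H.subtype with hK'
      have hK'H : K' ≤ H := Subgroup.map_subtype_le _
      have hK'card : Nat.card K' = Nat.card K :=
        Nat.card_congr (K.equivMapOfInjective H.subtype H.subtype_injective).symm.toEquiv
      have hK'sol : Group.IsSolvable K' := by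
        apply ih (Nat.card K') (by rw [hK'card]; exact hKlt) K' rfl (hInv.mono hK'H)
        intro hd
        exact h12 (hd.trans (Subgroup.card_dvd_of_le hK'H))
      have hKsol : Group.IsSolvable K :=
        Group.isSolvable_of_isSolvable_injective
          (f := (K.equivMapOfInjective H.subtype H.subtype_injective).toMonoidHom)
          (K.equivMapOfInjective H.subtype H.subtype_injective).injective
      have hQnil : Group.IsNilpotent (Q : Subgroup H) := Q.isPGroup'.isNilpotent
      have hQsol : Group.IsSolvable (Q : Subgroup H) := inferInstance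
      exact Group.isSolvable_of_ker_le_range K.subtype (MonoidHom.transferSylow Q hNC)
        (by rw [Subgroup.range_subtype])
    · -- p is the only prime divisor
      have hpow : Nat.card H = p ^ (Nat.card H).primeFactorsList.length := by
        apply Nat.eq_prime_pow_of_unique_prime_dvd Nat.card_pos.ne'
        intro d hd hdH
        by_contra hne
        apply hlarge
        refine ⟨d, hd, hdH, lt_of_le_of_ne (hmin d hd hdH) (Ne.symm hne)⟩
      have hHp : IsPGroup p H := IsPGroup.of_card hpow
      have hnil : Group.IsNilpotent H := hHp.isNilpotent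
      infer_instance

/-- Let `G` be a finite group such that for every prime `p` dividing its order, other than the largest such prime, the Sylow `p`-subgroups are abelian and generated by at most two elements, and suppose `12` does not divide the order of `G`. Then `G` is solvable. In particular a group of cube-free order not divisible by `12` is solvable. -/
theorem result {G : Type*} [Group G] [Finite G] (h : ∀ p : ℕ, p.Prime → p ∣ Nat.card G → (∃ q : ℕ, q.Prime ∧ q ∣ Nat.card G ∧ p < q) → ∀ P : Sylow p G, IsMulCommutative (P : Subgroup G) ∧ Group.rank (P : Subgroup G) ≤ 2) (h12 : ¬ 12 ∣ Nat.card G) : Group.IsSolvable G := by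
  have hInv : Inv (⊤ : Subgroup G) := by
    intro p hp hpG hq Q _ hQ
    rw [Subgroup.card_top] at hpG hq
    have : Fact p.Prime := ⟨hp⟩
    obtain ⟨P, hQP⟩ := hQ.exists_le_sylow
    obtain ⟨hPc, hPr⟩ := h p hp hpG hq P
    refine ⟨?_, ?_⟩
    · intro a ha b hb
      have := hPc.is_comm.comm (⟨a, hQP ha⟩ : (P : Subgroup G)) ⟨b, hQP hb⟩
      exact congrArg Subtype.val this
    · have h1 : {x : G | x ∈ Q ∧ x ^ p = 1} ⊆ ((omegaOne p (P : Subgroup G) : Subgroup G) : Set G) := by
        intro x hx
        exact (mem_omegaOne p (P : Subgroup G) x).mpr ⟨hQP hx.1, hx.2⟩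
      calc {x : G | x ∈ Q ∧ x ^ p = 1}.ncard
          ≤ ((omegaOne p (P : Subgroup G) : Subgroup G) : Set G).ncard :=
            Set.ncard_le_ncard h1 (Set.toFinite _)
        _ = Nat.card (omegaOne p (P : Subgroup G)) := rfl
        _ ≤ p ^ Group.rank (P : Subgroup G) := card_omegaOne_le p hp.pos _
        _ ≤ p ^ 2 := Nat.pow_le_pow_right hp.pos hPr
  have h12' : ¬ 12 ∣ Nat.card (⊤ : Subgroup G) := by rwa [Subgroup.card_top]
  have hsol : Group.IsSolvable (⊤ : Subgroup G) := solvable_aux _ ⊤ rfl hInv h12'
  exact Group.isSolvable_of_isSolvable_injective (f := (Subgroup.topEquiv (G := G)).symm.toMonoidHom)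
    (Subgroup.topEquiv (G := G)).symm.injective

end Cfsg.Agent.S3970
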