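import Cfsg.Statements.S4251
import Cfsg.Agent.Lib.Helper42.Alperin
import Cfsg.Agent.Lib.Helper03.FusionControl

set_option autoImplicit false
open Cfsg

namespace Cfsg.Agent.S4251

open Cfsg.Agent.Lib.Helper42 Cfsg.Agent.S2012 Cfsg.Agent.Lib.Helper03
set_option linter.style.haveILetI false
set_option linter.unusedSectionVars false

section aux
variable {G : Type*} [Group G] [Finite G] {p : ℕ} [Fact p.Prime]

/-- If `N/C` is a `p`-group and `S ≤ N` has index prime to `p`, then `N = S C`. -/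
theorem exists_mul_of_isPGroup_quotient (N S C : Subgroup G) (_hS : S ≤ N)
    [hC : (C.subgroupOf N).Normal]
    (hrel : ¬ p ∣ S.relIndex N) (hp : IsPGroup p (N ⧸ C.subgroupOf N)) (x : G) (hx : x ∈ N) :
    ∃ s ∈ S, ∃ c ∈ C, x = s * c := by
  let π := QuotientGroup.mk' (C.subgroupOf N)
  have hsurj : Function.Surjective π := QuotientGroup.mk'_surjective _
  have h1 : ((S.subgroupOf N).map π).index ∣ (S.subgroupOf N).index :=
    Subgroup.index_map_dvd _ hsurj
  obtain ⟨n, hn⟩ := hp.index ((S.subgroupOf N).map π)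
  have h2 : ((S.subgroupOf N).map π).index = 1 := by
    rcases Nat.eq_zero_or_pos n with h0 | hpos
    · rw [hn, h0, pow_zero]
    · exfalso
      apply hrel
      have : p ∣ ((S.subgroupOf N).map π).index := by
        rw [hn]; exact dvd_pow_self p hpos.ne'
      exact this.trans h1
  rw [Subgroup.index_eq_one] at h2
  have hmem : π ⟨x, hx⟩ ∈ (S.subgroupOf N).map π := by rw [h2]; trivial
  obtain ⟨s, hs, hsx⟩ := hmem
  have : s⁻¹ * ⟨x, hx⟩ ∈ C.subgroupOf N := by
    rw [← QuotientGroup.eq]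
    exact hsx
  refine ⟨(s : G), hs, ((s⁻¹ * ⟨x, hx⟩ : N) : G), Subgroup.mem_subgroupOf.mp this, ?_⟩
  simp

theorem step_ctrl (P : Sylow p G)
    (h : ∀ Q : Sylow p G, (P : Subgroup G) ⊓ (Q : Subgroup G) ≠ ⊥ → (¬ p ∣ ((P : Subgroup G) ⊓ Subgroup.normalizer (((P : Subgroup G) ⊓ (Q : Subgroup G) : Subgroup G) : Set G)).relIndex (Subgroup.normalizer (((P : Subgroup G) ⊓ (Q : Subgroup G) : Subgroup G) : Set G)) ∧ ¬ p ∣ ((Q : Subgroup G) ⊓ Subgroup.normalizer (((P : Subgroup G) ⊓ (Q : Subgroup G) : Subgroup G) : Set G)).relIndex (Subgroup.normalizer (((P : Subgroup G) ⊓ (Q : Subgroup G) : Subgroup G) : Set G))) →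
      IsPGroup p (Subgroup.normalizer (((P : Subgroup G) ⊓ (Q : Subgroup G) : Subgroup G) : Set G) ⧸
        (Subgroup.centralizer (((P : Subgroup G) ⊓ (Q : Subgroup G) : Subgroup G) : Set G)).subgroupOf
          (Subgroup.normalizer (((P : Subgroup G) ⊓ (Q : Subgroup G) : Subgroup G) : Set G))))
    (T : Sylow p G) (x : G) (hs : StepOK P T x) :
    ∃ y ∈ (P : Subgroup G), ∀ a ∈ (P : Subgroup G) ⊓ (T : Subgroup G), x⁻¹ * a * x = y⁻¹ * a * y := by
  by_cases hbot : (P : Subgroup G) ⊓ (T : Subgroup G) = ⊥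
  · refine ⟨1, one_mem _, ?_⟩
    intro a ha
    rw [hbot, Subgroup.mem_bot] at ha
    subst ha
    simp
  · obtain ⟨hx, h1, h2, -⟩ := hs
    have hp := h T hbot ⟨h1, h2⟩
    obtain ⟨s, hs, c, hc, hxsc⟩ := exists_mul_of_isPGroup_quotient
      (Subgroup.normalizer (((P : Subgroup G) ⊓ (T : Subgroup G) : Subgroup G) : Set G))
      ((P : Subgroup G) ⊓ Subgroup.normalizer (((P : Subgroup G) ⊓ (T : Subgroup G) : Subgroup G) : Set G))
      (Subgroup.centralizer (((P : Subgroup G) ⊓ (T : Subgroup G) : Subgroup G) : Set G))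
      inf_le_right h1 hp x⁻¹ (Subgroup.inv_mem _ hx)
    refine ⟨s⁻¹, Subgroup.inv_mem _ hs.1, ?_⟩
    intro a ha
    have hca : c * a = a * c := (Subgroup.mem_centralizer_iff.mp hc a ha).symm
    have hx' : x = c⁻¹ * s⁻¹ := by
      rw [← inv_inv x, hxsc, mul_inv_rev]
    rw [hx', mul_inv_rev, inv_inv, inv_inv]
    calc s * c * a * (c⁻¹ * s⁻¹) = s * (c * a) * c⁻¹ * s⁻¹ := by group
      _ = s * (a * c) * c⁻¹ * s⁻¹ := by rw [hca]
      _ = s * a * s⁻¹ := by group

theorem valid_ctrl (P : Sylow p G)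
    (h : ∀ Q : Sylow p G, (P : Subgroup G) ⊓ (Q : Subgroup G) ≠ ⊥ → (¬ p ∣ ((P : Subgroup G) ⊓ Subgroup.normalizer (((P : Subgroup G) ⊓ (Q : Subgroup G) : Subgroup G) : Set G)).relIndex (Subgroup.normalizer (((P : Subgroup G) ⊓ (Q : Subgroup G) : Subgroup G) : Set G)) ∧ ¬ p ∣ ((Q : Subgroup G) ⊓ Subgroup.normalizer (((P : Subgroup G) ⊓ (Q : Subgroup G) : Subgroup G) : Set G)).relIndex (Subgroup.normalizer (((P : Subgroup G) ⊓ (Q : Subgroup G) : Subgroup G) : Set G))) →
      IsPGroup p (Subgroup.normalizer (((P : Subgroup G) ⊓ (Q : Subgroup G) : Subgroup G) : Set G) ⧸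
        (Subgroup.centralizer (((P : Subgroup G) ⊓ (Q : Subgroup G) : Subgroup G) : Set G)).subgroupOf
          (Subgroup.normalizer (((P : Subgroup G) ⊓ (Q : Subgroup G) : Subgroup G) : Set G)))) :
    ∀ (l : List (Sylow p G × G)) (A : Set G), Valid P A l →
    ∃ z ∈ (P : Subgroup G), ∀ a ∈ A,
      (l.map Prod.snd).prod⁻¹ * a * (l.map Prod.snd).prod = z⁻¹ * a * z := by
  intro l
  induction l with
  | nil => intro A _; exact ⟨1, one_mem _, by simp⟩
  | cons tx l ih =>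
    intro A hv
    obtain ⟨T, x⟩ := tx
    obtain ⟨hs, hA, hv'⟩ := valid_cons P T x A l hv
    obtain ⟨y, hy, hstep⟩ := step_ctrl P h T x hs
    obtain ⟨z, hz, hz'⟩ := ih (cj x A) hv'
    refine ⟨y * z, Subgroup.mul_mem _ hy hz, ?_⟩
    intro a ha
    have h1 := hstep a (hA ha)
    have h2 := hz' (x⁻¹ * a * x) ⟨a, ha, rfl⟩
    simp only [List.map_cons, List.prod_cons]
    calc (x * (l.map Prod.snd).prod)⁻¹ * a * (x * (l.map Prod.snd).prod)
        = (l.map Prod.snd).prod⁻¹ * (x⁻¹ * a * x) * (l.map Prod.snd).prod := by group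
      _ = z⁻¹ * (x⁻¹ * a * x) * z := h2
      _ = z⁻¹ * (y⁻¹ * a * y) * z := by rw [h1]
      _ = (y * z)⁻¹ * a * (y * z) := by group

end aux

/-- Let P be a Sylow p-subgroup of a finite group G. Call an intersection H = P ∩ Q with a Sylow p-subgroup Q tame when N_P(H) and N_Q(H) are Sylow p-subgroups of N_G(H). If N_G(H)/C_G(H) is a p-group for every nontrivial tame intersection H = P ∩ Q, then G has a normal p-complement. -/
theorem result {G : Type*} [Group G] [Finite G] (p : ℕ) [Fact p.Prime] (P : Sylow p G)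
    (h : ∀ Q : Sylow p G, (P : Subgroup G) ⊓ (Q : Subgroup G) ≠ ⊥ → (¬ p ∣ ((P : Subgroup G) ⊓ Subgroup.normalizer (((P : Subgroup G) ⊓ (Q : Subgroup G) : Subgroup G) : Set G)).relIndex (Subgroup.normalizer (((P : Subgroup G) ⊓ (Q : Subgroup G) : Subgroup G) : Set G)) ∧ ¬ p ∣ ((Q : Subgroup G) ⊓ Subgroup.normalizer (((P : Subgroup G) ⊓ (Q : Subgroup G) : Subgroup G) : Set G)).relIndex (Subgroup.normalizer (((P : Subgroup G) ⊓ (Q : Subgroup G) : Subgroup G) : Set G))) →
      IsPGroup p (Subgroup.normalizer (((P : Subgroup G) ⊓ (Q : Subgroup G) : Subgroup G) : Set G) ⧸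
        (Subgroup.centralizer (((P : Subgroup G) ⊓ (Q : Subgroup G) : Subgroup G) : Set G)).subgroupOf
          (Subgroup.normalizer (((P : Subgroup G) ⊓ (Q : Subgroup G) : Subgroup G) : Set G)))) :
    Cfsg.HasNormalPComplement p G := by
  have hctrl : ControlsOwnFusion (P : Subgroup G) := by
    intro x hx y hy ⟨g, hg⟩
    have hgood : Good P ({x} : Set G) g⁻¹ := by
      apply good_of_subset P
      · intro b hb; rw [Set.mem_singleton_iff.mp hb]; exact hx
      · rintro _ ⟨b, hb, rfl⟩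
        rw [Set.mem_singleton_iff.mp hb]
        show g⁻¹⁻¹ * x * g⁻¹ ∈ (P : Subgroup G)
        rw [inv_inv, hg]
        exact hy
    obtain ⟨l, hv, hprod, -⟩ := hgood
    obtain ⟨z, hz, hz'⟩ := valid_ctrl P h l {x} hv
    have := hz' x rfl
    rw [hprod, inv_inv, hg] at this
    exact ⟨z⁻¹, Subgroup.inv_mem _ hz, by rw [inv_inv]; exact this.symm⟩
  obtain ⟨N, hN, hc⟩ := exists_normal_complement_of_controlsOwnFusion P hctrl
  exact ⟨P, N, hN, hc⟩

end Cfsg.Agent.S4251
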