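import Mathlib
import Cfsg.Statements.S3971
import Cfsg.Agent.S4251
import Cfsg.Agent.Lib.Helper71.AutTwoGroup

set_option autoImplicit false
set_option linter.style.haveILetI false
open Cfsg

namespace Cfsg.Agent.S3971

open Cfsg.Agent.Lib.Helper71

/-- automizers of subgroups with a big cyclic subgroup are 2-groups when 3 does not divide the order. -/
theorem isPGroup_automizer {G : Type*} [Group G] [Finite G] (h3 : ¬ 3 ∣ Nat.card G)
    (H : Subgroup G) (hH : IsPGroup 2 H) (hB : HasBigCyclic H) :
    IsPGroup 2 (Subgroup.normalizer (H : Set G) ⧸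
      (Subgroup.centralizer (H : Set G)).subgroupOf (Subgroup.normalizer (H : Set G))) := by
  haveI : Fact (Nat.Prime 2) := ⟨Nat.prime_two⟩
  obtain ⟨k, hk⟩ := IsPGroup.iff_card.mp hH
  intro q
  induction q using QuotientGroup.induction_on with
  | H g =>
    obtain ⟨j, w, hwodd, hjw⟩ := Nat.exists_eq_two_pow_mul_odd (orderOf_pos g).ne'
    refine ⟨j, ?_⟩
    rw [← QuotientGroup.mk_pow, QuotientGroup.eq_one_iff, ← Subgroup.normalizerMonoidHom_ker,
      MonoidHom.mem_ker]
    have hpw : (H.normalizerMonoidHom (g ^ 2 ^ j)) ^ w = 1 := by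
      rw [← map_pow, ← pow_mul, ← hjw, pow_orderOf_eq_one, map_one]
    have hwdvd : w ∣ Nat.card G := by
      have h1 : orderOf g ∣ Nat.card G := by
        rw [← Subgroup.orderOf_coe]
        exact orderOf_dvd_natCard _
      exact dvd_trans (Dvd.intro_left _ hjw.symm) h1
    have hw6 : Nat.Coprime w 6 := by
      have h2 : Nat.Coprime w 2 := (Nat.coprime_two_right).mpr hwodd
      have h3' : Nat.Coprime w 3 := by
        rw [Nat.coprime_comm, Nat.Prime.coprime_iff_not_dvd Nat.prime_three]
        intro h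
        exact h3 (dvd_trans h hwdvd)
      have : (6 : ℕ) = 2 * 3 := by norm_num
      rw [this]
      exact Nat.Coprime.mul_right h2 h3'
    exact mulAut_eq_one_of_hasBigCyclic k H hk hB _ w hw6 hpw

theorem result {G : Type*} [Group G] [Finite G] (a n : ℕ) (hG : Nat.card G = 2 ^ a * n) (hn : Odd n) (h3 : ¬ 3 ∣ n) (hx : ∃ x : G, orderOf x = 2 ^ (a - 1)) : ∃ N : Subgroup G, N.Normal ∧ Nat.card N = n := by
  haveI : Fact (Nat.Prime 2) := ⟨Nat.prime_two⟩
  obtain ⟨x, hx⟩ := hx
  have h3G : ¬ 3 ∣ Nat.card G := by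
    rw [hG]
    intro h
    rcases (Nat.Prime.dvd_mul Nat.prime_three).mp h with h | h
    · have := Nat.Prime.dvd_of_dvd_pow Nat.prime_three h
      omega
    · exact h3 h
  have hn0 : n ≠ 0 := by
    rintro rfl
    exact (Nat.not_odd_iff_even.mpr (by decide)) hn
  have hfac : (Nat.card G).factorization 2 = a := by
    rw [hG, Nat.factorization_mul (pow_ne_zero a (by norm_num)) hn0, Nat.Prime.factorization_pow Nat.prime_two]
    simp only [Finsupp.coe_add, Pi.add_apply, Finsupp.single_eq_same]
    rw [Nat.factorization_eq_zero_of_not_dvd]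
    · omega
    · exact fun h => (Nat.not_even_iff_odd.mpr hn) (even_iff_two_dvd.mpr h)
  -- Sylow subgroup containing x
  have hzx : IsPGroup 2 (Subgroup.zpowers x) := by
    apply IsPGroup.of_card (n := a - 1)
    rw [Nat.card_zpowers, hx]
  obtain ⟨P, hxP⟩ := hzx.exists_le_sylow
  have hPcard : Nat.card P = 2 ^ a := by
    rw [Sylow.card_eq_multiplicity, hfac]
  have hBP : HasBigCyclic P := by
    refine ⟨⟨x, hxP (Subgroup.mem_zpowers x)⟩, ?_⟩
    rw [Subgroup.orderOf_mk, hx, hPcard]
    rcases Nat.eq_zero_or_pos a with rfl | ha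
    · simp
    · have : a = (a - 1) + 1 := by omega
      rw [this, pow_succ]
      simp only [Nat.add_one_sub_one]
      omega
  have hcomp : Cfsg.HasNormalPComplement 2 G := by
    apply Cfsg.Agent.S4251.result 2 P
    intro Q _ _
    have hle : (P : Subgroup G) ⊓ (Q : Subgroup G) ≤ (P : Subgroup G) := inf_le_left
    apply isPGroup_automizer h3G
    · exact P.2.to_le hle
    · exact hBP.of_injective (Subgroup.inclusion hle) (Subgroup.inclusion_injective hle)
  obtain ⟨P', N, hN, hNP⟩ := hcomp
  refine ⟨N, hN, ?_⟩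
  have h1 := hNP.card_mul_card
  have hP'card : Nat.card P' = 2 ^ a := by
    rw [Sylow.card_eq_multiplicity, hfac]
  rw [hP'card, hG, mul_comm] at h1
  exact Nat.eq_of_mul_eq_mul_left (pow_pos (by norm_num) a) h1

end Cfsg.Agent.S3971
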