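import Cfsg.Statements.S3972
import Cfsg.Agent.Lib.Helper64.SchurPP

set_option autoImplicit false
open Cfsg
open scoped Pointwise

namespace Cfsg.Agent.S3972

open Cfsg.Agent.Lib.Helper64 MulAction in
/-- a permutation of order `p ^ m` on `p ^ m` points generates a regular cyclic group -/
theorem exists_regAb {Ω : Type*} [Fintype Ω] [DecidableEq Ω] (p m : ℕ) (hp : p.Prime) (hm : 1 ≤ m)
    (hΩ : Fintype.card Ω = p ^ m) (G : Subgroup (Equiv.Perm Ω)) (g : G)
    (hg : orderOf g = p ^ m) : ∃ ω₀ : Ω, RegAb (Subgroup.zpowers g) ω₀ := by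
  have hgn : g ^ (p ^ m) = 1 := by rw [← hg]; exact pow_orderOf_eq_one g
  obtain ⟨ω₀, hω₀⟩ : ∃ ω₀ : Ω, Function.minimalPeriod (fun ω : Ω => g • ω) ω₀ = p ^ m := by
    by_contra hcon
    push Not at hcon
    have hall : ∀ ω : Ω, g ^ (p ^ (m - 1)) • ω = ω := by
      intro ω
      have hper : Function.IsPeriodicPt (fun ω : Ω => g • ω) (p ^ m) ω := by
        rw [Function.IsPeriodicPt, Function.IsFixedPt, smul_iterate, hgn]
        exact one_smul _ _
      have hdvd := hper.minimalPeriod_dvd
      obtain ⟨e, he, hpe⟩ := (Nat.dvd_prime_pow hp).mp hdvd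
      have hem : e ≤ m - 1 := by
        by_contra h
        push Not at h
        have hem' : e = m := by omega
        exact hcon ω (hem' ▸ hpe)
      have hd2 : Function.minimalPeriod (fun ω : Ω => g • ω) ω ∣ p ^ (m - 1) := by
        rw [hpe]
        exact pow_dvd_pow p hem
      have h3 := (Function.isPeriodicPt_minimalPeriod (fun ω : Ω => g • ω) ω).trans_dvd hd2
      rw [Function.IsPeriodicPt, Function.IsFixedPt, smul_iterate] at h3
      exact h3
    have h1 : g ^ (p ^ (m - 1)) = 1 := by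
      apply Subtype.ext
      ext ω
      exact hall ω
    have h2 := orderOf_dvd_of_pow_eq_one h1
    rw [hg] at h2
    have h3 := Nat.le_of_dvd (pow_pos hp.pos _) h2
    have h4 : p ^ (m - 1) < p ^ m := Nat.pow_lt_pow_right hp.one_lt (by omega)
    omega
  have hinjOn := Function.iterate_injOn_Iio_minimalPeriod (f := fun ω : Ω => g • ω) (x := ω₀)
  rw [hω₀] at hinjOn
  have hiter : ∀ i : ℕ, (fun ω : Ω => g • ω)^[i] ω₀ = g ^ i • ω₀ := by
    intro i
    rw [smul_iterate]
  refine ⟨ω₀, ?_, ?_, ?_⟩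
  · intro ω
    have hinj : Function.Injective (fun i : Fin (p ^ m) => g ^ (i : ℕ) • ω₀) := by
      intro i j hij
      have := hinjOn (Set.mem_Iio.mpr i.2) (Set.mem_Iio.mpr j.2)
        (by simp only [hiter]; exact hij)
      exact Fin.ext this
    have hbij : Function.Bijective (fun i : Fin (p ^ m) => g ^ (i : ℕ) • ω₀) :=
      (Fintype.bijective_iff_injective_and_card _).mpr ⟨hinj, by rw [Fintype.card_fin, hΩ]⟩
    obtain ⟨i, hi⟩ := hbij.2 ω
    exact ⟨⟨g ^ (i : ℕ), Subgroup.pow_mem _ (Subgroup.mem_zpowers g) _⟩, hi⟩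
  · rintro ⟨x, hx⟩ hfix
    rw [mem_zpowers_iff_mem_range_orderOf, hg] at hx
    obtain ⟨i, hi, rfl⟩ := Finset.mem_image.mp hx
    rw [Finset.mem_range] at hi
    have hfix' : g ^ i • ω₀ = ω₀ := hfix
    have h0 : i = 0 := by
      apply hinjOn (Set.mem_Iio.mpr hi) (Set.mem_Iio.mpr (pow_pos hp.pos m))
      simp only [hiter]
      rw [hfix', pow_zero, one_smul]
    apply Subtype.ext
    simp only [h0, pow_zero]
    rfl
  · intro x y
    exact Subtype.ext (setLike_mul_comm (s := Subgroup.zpowers g) x.2 y.2)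

/-- Let `p` be a prime, `m ≥ 2`, and `G` a transitive but not doubly transitive permutation group on `p ^ m` points containing a permutation of order `p ^ m` (necessarily a full cycle). Then `G` is imprimitive, and the normal closure in `G` of the `p ^ (m - 1)`-th power of that permutation is an intransitive normal subgroup. -/
theorem result {Ω : Type*} [Fintype Ω] [DecidableEq Ω] (p m : ℕ) (hp : p.Prime) (hm : 2 ≤ m) (hΩ : Fintype.card Ω = p ^ m) (G : Subgroup (Equiv.Perm Ω)) (htr : MulAction.IsPretransitive G Ω) (h2 : ¬ MulAction.IsMultiplyPretransitive G Ω 2) (g : G) (hg : orderOf g = p ^ m) : ¬ MulAction.IsPreprimitive G Ω ∧ ¬ MulAction.IsPretransitive (Subgroup.normalClosure ({g ^ (p ^ (m - 1))} : Set G)) Ω := by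
  classical
  obtain ⟨ω₀, hreg⟩ := exists_regAb p m hp (by omega) hΩ G g hg
  have hcardC : Nat.card (Subgroup.zpowers g) = p ^ m := by rw [Nat.card_zpowers, hg]
  have hcyc : IsCyclic (Subgroup.zpowers g) := inferInstance
  have hnprim : ¬ MulAction.IsPreprimitive G Ω := by
    intro hprim
    apply h2
    refine Cfsg.Agent.Lib.Helper64.schur_composite hreg hprim hcyc hp ?_ ?_
    · rw [hcardC]
      exact dvd_pow_self p (by omega)
    · rw [hcardC]
      intro h
      have h1 : p ^ m = p ^ 1 := by rw [h, pow_one]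
      have h2 := Nat.pow_right_injective hp.two_le h1
      omega
  refine ⟨hnprim, ?_⟩
  obtain ⟨B, hB, hBnt⟩ : ∃ B : Set Ω, MulAction.IsBlock G B ∧ ¬ MulAction.IsTrivialBlock B := by
    by_contra hcon
    push Not at hcon
    exact hnprim { toIsPretransitive := htr, isTrivialBlock_of_isBlock := fun {B} hB => hcon B hB }
  intro hNtr
  have := Fintype.ofFinite (Subgroup.zpowers g)
  have hzmem : g ^ (p ^ (m - 1)) ∈ Subgroup.zpowers g := Subgroup.pow_mem _ (Subgroup.mem_zpowers g) _
  have hzord : orderOf (g ^ (p ^ (m - 1))) = p := by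
    rw [orderOf_pow_of_dvd (pow_pos hp.pos _).ne' (by rw [hg]; exact pow_dvd_pow p (by omega)), hg]
    have : p ^ m = p ^ (m - 1) * p := by rw [← pow_succ]; congr 1; omega
    rw [this, Nat.mul_div_cancel_left _ (pow_pos hp.pos _)]
  have hzord' : orderOf (⟨g ^ (p ^ (m - 1)), hzmem⟩ : Subgroup.zpowers g) = p := by
    exact (Subgroup.orderOf_mk _ hzmem).trans hzord
  have hBnsub : ¬ B.Subsingleton := fun hs => hBnt (Or.inl hs)
  -- `z` fixes every translate of `B`
  have hzfix : ∀ g' : G, (g ^ (p ^ (m - 1))) • (g' • B) = g' • B := by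
    intro g'
    have hB' : MulAction.IsBlock G (g' • B) := hB.translate g'
    obtain ⟨β, hβ, β', hβ', hne⟩ := Set.not_subsingleton_iff.mp hBnsub
    obtain ⟨a, ha⟩ := hreg.trans (g' • β)
    obtain ⟨a', ha'⟩ := hreg.trans (g' • β')
    set x : Subgroup.zpowers g := a' * a⁻¹ with hxdef
    have hxω : (x : G) • (g' • β) = g' • β' := by
      rw [← ha, ← ha', hxdef, Subgroup.coe_mul, Subgroup.coe_inv, mul_smul, smul_smul (a : G)⁻¹,
        inv_mul_cancel, one_smul]
    have hx1 : x ≠ 1 := by
      intro h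
      rw [h, OneMemClass.coe_one, one_smul] at hxω
      exact hne (smul_left_cancel g' hxω)
    have hxB : (x : G) • (g' • B) = g' • B := by
      apply (MulAction.isBlock_iff_smul_eq_of_nonempty.mp hB')
      exact ⟨g' • β', ⟨g' • β, Set.smul_mem_smul_set hβ, hxω⟩, Set.smul_mem_smul_set hβ'⟩
    have hxpow : ∀ i : ℕ, ((x : G) ^ i) • (g' • B) = g' • B := by
      intro i
      induction i with
      | zero => rw [pow_zero, one_smul]
      | succ i ih => rw [pow_succ, mul_smul, hxB, ih]
    have hxord : ∃ e : ℕ, orderOf x = p ^ (e + 1) := by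
      have hdvd : orderOf x ∣ p ^ m := by
        rw [← hcardC]
        exact orderOf_dvd_natCard x
      obtain ⟨e, -, he⟩ := (Nat.dvd_prime_pow hp).mp hdvd
      rcases Nat.eq_zero_or_pos e with h0 | h0
      · exfalso
        rw [h0, pow_zero, orderOf_eq_one_iff] at he
        exact hx1 he
      · exact ⟨e - 1, by rw [he]; congr 1; omega⟩
    obtain ⟨e, he⟩ := hxord
    obtain ⟨i, hi⟩ := Cfsg.Agent.Lib.Helper64.exists_pow_eq_of_order_p hp
      (⟨g ^ (p ^ (m - 1)), hzmem⟩ : Subgroup.zpowers g) x hzord' he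
    have hi' : g ^ (p ^ (m - 1)) = (x : G) ^ i := by
      have := congrArg Subtype.val hi
      simpa using this
    rw [hi']
    exact hxpow i
  -- the kernel of the action on the block system
  let K : Subgroup G :=
    { carrier := {y | ∀ g' : G, y • (g' • B) = g' • B}
      one_mem' := fun g' => one_smul _ _
      mul_mem' := fun {a b} ha hb g' => by rw [mul_smul, hb g', ha g']
      inv_mem' := fun {a} ha g' => by rw [inv_smul_eq_iff, ha g'] }
  have hKn : K.Normal := ⟨fun y hy c g' => by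
    show (c * y * c⁻¹) • (g' • B) = g' • B
    rw [mul_smul, mul_smul, smul_smul c⁻¹ g', hy (c⁻¹ * g'), smul_smul, mul_inv_cancel_left]⟩
  have hNK : Subgroup.normalClosure ({g ^ (p ^ (m - 1))} : Set G) ≤ K :=
    Subgroup.normalClosure_le_normal (Set.singleton_subset_iff.mpr hzfix)
  apply hBnt
  right
  obtain ⟨β, hβ, -⟩ := Set.not_subsingleton_iff.mp hBnsub
  rw [Set.eq_univ_iff_forall]
  intro ω'
  obtain ⟨n, hn⟩ := hNtr.exists_smul_eq β ω'
  have h1 := hNK n.2 1
  rw [one_smul] at h1
  rw [← h1]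
  exact ⟨β, hβ, hn⟩

end Cfsg.Agent.S3972
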