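import Cfsg.Statements.S3973
import Cfsg.Agent.Lib.Helper70.SchurRank

set_option autoImplicit false
open Cfsg

namespace Cfsg.Agent.S3973

open Cfsg.Agent.Lib.Helper70 in
/-- If a finite group is presented by `n` generators and a finite set of `r` relators, then its Schur multiplier can be generated by `r - n` elements. In particular a finite group with a presentation having as many relators as generators has trivial Schur multiplier. -/
theorem result (n : ℕ) (rels : Finset (FreeGroup (Fin n))) [Finite (PresentedGroup (rels : Set (FreeGroup (Fin n))))] {A : Type*} [CommGroup A] [Finite A] (hA : Cfsg.HasSchurMultiplier (PresentedGroup (rels : Set (FreeGroup (Fin n)))) A) : Group.rank A ≤ rels.card - n := by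
  obtain ⟨S, hScard, hS⟩ := exists_finset_closure_eq_presM rels
  have hp := presHom_presentedGroup_of_surjective (rels : Set (FreeGroup (Fin n)))
  have hM := hasSchurMultiplier_presM (PresentedGroup.of (rels := (rels : Set (FreeGroup (Fin n))))) hp
  have : Finite (presM (PresentedGroup.of (rels := (rels : Set (FreeGroup (Fin n)))))) := finite_presM' hp
  obtain ⟨e⟩ := schurMultiplier_equiv hA hM
  have h1 : Group.rank A = Group.rank (presM (PresentedGroup.of (rels := (rels : Set (FreeGroup (Fin n)))))) :=
    Group.rank_congr e
  have h2 := Subgroup.rank_closure_finset_le_card S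
  have h3 := Subgroup.rank_congr hS
  rw [Fintype.card_fin] at hScard
  rw [h1, ← h3]
  exact h2.trans hScard

end Cfsg.Agent.S3973
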