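import Mathlib
import Cfsg.Statements.S3976
import Cfsg.Agent.Lib.Helper71.SubgroupCount

set_option autoImplicit false
open Cfsg
open scoped Pointwise

namespace Cfsg.Agent.S3976

/-- The conjugation action of `G` on its subgroups of a given order. -/
@[reducible] def conjAction (G : Type*) [Group G] (k : ℕ) :
    MulAction G {H : Subgroup G // Nat.card H = k} where
  smul g H := ⟨MulAut.conj g • H.1,
    (Nat.card_congr (Subgroup.equivSMul (MulAut.conj g) H.1).symm.toEquiv).trans H.2⟩
  one_smul H := by
    apply Subtype.ext
    change MulAut.conj (1 : G) • H.1 = H.1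
    rw [map_one, one_smul]
  mul_smul g h H := by
    apply Subtype.ext
    change MulAut.conj (g * h) • H.1 = MulAut.conj g • MulAut.conj h • H.1
    rw [map_mul, mul_smul]

/-- Let `p` be a prime and `G` a group of order `p ^ m`. For every `s ≤ m` the number of normal subgroups of `G` of order `p ^ s` is congruent to `1` modulo `p`. -/
theorem result {G : Type*} [Group G] [Finite G] (p m s : ℕ) (hp : p.Prime) (hG : Nat.card G = p ^ m) (hs : s ≤ m) : Nat.card {H : Subgroup G // H.Normal ∧ Nat.card H = p ^ s} ≡ 1 [MOD p] := by
  have : Fact p.Prime := ⟨hp⟩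
  have hpG : IsPGroup p G := IsPGroup.of_card hG
  have hdiv : p ^ s ∣ Nat.card G := by rw [hG]; exact pow_dvd_pow p hs
  have hall := Cfsg.Agent.Lib.Helper71.card_subgroups_modEq_one (G := G) p s hdiv
  letI := conjAction G (p ^ s)
  have hfix := hpG.card_modEq_card_fixedPoints {H : Subgroup G // Nat.card H = p ^ s}
  have hequiv : Nat.card (MulAction.fixedPoints G {H : Subgroup G // Nat.card H = p ^ s}) =
      Nat.card {H : Subgroup G // H.Normal ∧ Nat.card H = p ^ s} := by
    apply Nat.card_congr
    refine
      { toFun := fun x => ⟨x.1.1, ?_, x.1.2⟩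
        invFun := fun H => ⟨⟨H.1, H.2.2⟩, ?_⟩
        left_inv := fun x => rfl
        right_inv := fun H => rfl }
    · apply Subgroup.Normal.of_conjugate_fixed
      intro g
      have := x.2 g
      exact congrArg Subtype.val this
    · intro g
      apply Subtype.ext
      have := H.2.1
      exact Subgroup.Normal.conj_smul_eq_self g H.1
  rw [← hequiv]
  exact hfix.symm.trans hall

end Cfsg.Agent.S3976
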