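import Mathlib
import Cfsg.Statements.S3977
import Cfsg.Agent.Lib.Helper71.MaxCyclic2

set_option autoImplicit false
open Cfsg

namespace Cfsg.Agent.S3977

open Cfsg.Agent.Lib.Helper71

/-- every element of order dividing `p ^ s` lies in the unique subgroup of order `p ^ s`. -/
theorem mem_of_pow_eq_one {G : Type*} [Group G] [Finite G] (p k s : ℕ) [hp : Fact p.Prime]
    (hG : Nat.card G = p ^ k) (hsk : s ≤ k)
    (huniq : ∀ H K : Subgroup G, Nat.card H = p ^ s → Nat.card K = p ^ s → H = K)
    (H : Subgroup G) (hH : Nat.card H = p ^ s) (g : G) (hg : g ^ (p ^ s) = 1) : g ∈ H := by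
  have hpp : p.Prime := hp.out
  have hdvd : orderOf g ∣ p ^ s := orderOf_dvd_of_pow_eq_one hg
  obtain ⟨j, hjs, hj⟩ := (Nat.dvd_prime_pow hpp).mp hdvd
  have hz : Nat.card (Subgroup.zpowers g) = p ^ j := by rw [Nat.card_zpowers, hj]
  have hd : p ^ s ∣ Nat.card G := by rw [hG]; exact pow_dvd_pow p hsk
  obtain ⟨K, hK, hle⟩ := Sylow.exists_subgroup_card_pow_prime_le p hd (Subgroup.zpowers g) hz hjs
  have := huniq H K hH hK
  rw [this]
  exact hle (Subgroup.mem_zpowers g)

theorem aux.{u} (p s : ℕ) (hp : p.Prime) (hs : 1 ≤ s) (h2 : p ≠ 2 ∨ 2 ≤ s) :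
    ∀ (n : ℕ) (G : Type u) [Group G] [Finite G], Nat.card G = p ^ (s + 1 + n) →
      (∀ H K : Subgroup G, Nat.card H = p ^ s → Nat.card K = p ^ s → H = K) → IsCyclic G := by
  haveI : Fact p.Prime := ⟨hp⟩
  intro n
  induction n with
  | zero =>
    intro G _ _ hG huniq
    rw [add_zero] at hG
    have hd : p ^ s ∣ Nat.card G := by rw [hG]; exact pow_dvd_pow p (by omega)
    obtain ⟨H, hH⟩ := Sylow.exists_subgroup_card_pow_prime p hd
    have hne : H ≠ ⊤ := by
      intro h
      rw [h, Subgroup.card_top, hG] at hH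
      have := Nat.pow_right_injective hp.two_le hH
      omega
    obtain ⟨g, hg⟩ : ∃ g : G, g ∉ H := by
      by_contra hcon
      simp only [not_exists, not_not] at hcon
      exact hne ((Subgroup.eq_top_iff' H).mpr hcon)
    have hdvd : orderOf g ∣ p ^ (s + 1) := hG ▸ orderOf_dvd_natCard g
    obtain ⟨j, hjs, hj⟩ := (Nat.dvd_prime_pow hp).mp hdvd
    rcases Nat.lt_or_ge j (s + 1) with hlt | hge
    · exfalso
      apply hg
      apply mem_of_pow_eq_one p (s + 1) s hG (by omega) huniq H hH g
      have : p ^ s = p ^ j * p ^ (s - j) := by rw [← pow_add]; congr 1; omega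
      rw [this, pow_mul, ← hj, pow_orderOf_eq_one, one_pow]
    · have hj' : j = s + 1 := by omega
      rw [hj'] at hj
      exact isCyclic_of_orderOf_eq_card g (by rw [hj, hG])
  | succ n ih =>
    intro G _ _ hG huniq
    by_contra hnc
    have hk : s + 1 + (n + 1) - 1 = s + 1 + n := by omega
    have hmax : ∀ M : Subgroup G, Nat.card M = p ^ (s + 1 + (n + 1) - 1) → IsCyclic M := by
      intro M hM
      rw [hk] at hM
      apply ih M hM
      intro H' K' hH' hK'
      have h1 : Nat.card (H'.map M.subtype) = p ^ s := by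
        rw [Subgroup.card_map_of_injective M.subtype_injective, hH']
      have h2' : Nat.card (K'.map M.subtype) = p ^ s := by
        rw [Subgroup.card_map_of_injective M.subtype_injective, hK']
      have := huniq _ _ h1 h2'
      exact Subgroup.map_injective M.subtype_injective this
    have hd : p ^ s ∣ Nat.card G := by rw [hG]; exact pow_dvd_pow p (by omega)
    obtain ⟨H, hH⟩ := Sylow.exists_subgroup_card_pow_prime p hd
    have hd' : p ^ (s + 1 + n) ∣ Nat.card G := by rw [hG]; exact pow_dvd_pow p (by omega)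
    obtain ⟨M, hM, hHM⟩ := Sylow.exists_subgroup_card_pow_prime_le p hd' H hH (by omega)
    haveI hMc : IsCyclic M := hmax M (by rw [hk]; exact hM)
    -- counting solutions in M
    have hcount : ∀ (e : ℕ) (E : Subgroup G), 0 < e → e ∣ p ^ s → (∀ x ∈ E, x ^ e = 1) →
        Nat.card E ≤ e := by
      intro e E he0 hes hE
      classical
      haveI : Fintype M := Fintype.ofFinite M
      haveI : Fintype E := Fintype.ofFinite E
      have hle : E ≤ M := by
        intro x hx
        apply hHM
        apply mem_of_pow_eq_one p _ s hG (by omega) huniq H hH x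
        obtain ⟨c, hc⟩ := hes
        rw [hc, pow_mul, hE x hx, one_pow]
      have h1 := IsCyclic.card_pow_eq_one_le (α := M) he0
      refine le_trans ?_ h1
      rw [Nat.card_eq_fintype_card (α := E)] 
      rw [← Finset.card_univ]
      apply Finset.card_le_card_of_injOn (fun x => (⟨x.1, hle x.2⟩ : M))
      · intro x _
        simp only [Finset.coe_filter, Finset.mem_univ, true_and, Set.mem_ofPred_eq]
        apply Subtype.ext
        simp only [SubmonoidClass.mk_pow, OneMemClass.coe_one]
        exact hE x.1 x.2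
      · intro x _ y _ hxy
        apply Subtype.ext
        simpa using congrArg (fun z : M => (z : G)) hxy
    by_cases hp2 : p = 2
    · subst hp2
      have hs2 : 2 ≤ s := by
        rcases h2 with h | h
        · exact absurd rfl h
        · exact h
      obtain ⟨E, hE8, hE⟩ := exists_exponent_four_subgroup (s + 1 + (n + 1)) (by omega) hG hmax hnc
      have : (4 : ℕ) ∣ 2 ^ s := by
        have : (4 : ℕ) = 2 ^ 2 := by norm_num
        rw [this]
        exact pow_dvd_pow 2 hs2
      have := hcount 4 E (by norm_num) this hE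
      omega
    · obtain ⟨E, hEp, hE⟩ := exists_exponent_p_subgroup p (s + 1 + (n + 1)) hp2 (by omega) hG hmax hnc
      have := hcount p E hp.pos (dvd_pow_self p (by omega)) hE
      have h3 : p < p ^ 2 := by
        have := hp.two_le
        nlinarith
      omega

theorem result {G : Type*} [Group G] [Finite G] (p m s : ℕ) (hp : p.Prime) (hG : Nat.card G = p ^ m) (hs : 1 ≤ s) (hsm : s < m) (h2 : p ≠ 2 ∨ 2 ≤ s) (huniq : ∀ H K : Subgroup G, Nat.card H = p ^ s → Nat.card K = p ^ s → H = K) : IsCyclic G := by
  have hm : m = s + 1 + (m - s - 1) := by omega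
  rw [hm] at hG
  exact aux p s hp hs h2 (m - s - 1) G hG huniq

end Cfsg.Agent.S3977
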