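import Cfsg.Statements.S3978
import Cfsg.Agent.S3956
import Cfsg.Agent.Lib.Helper70.SchurProj
import Cfsg.Agent.Lib.Helper70.StemExt

set_option autoImplicit false
open Cfsg

namespace Cfsg.Agent.S3978

/-- A finite group `Q` has trivial Schur multiplier if and only if, for every `n`, every homomorphism from `Q` to the projective general linear group (the quotient of `GL n ℂ` by its centre) lifts to a homomorphism into `GL n ℂ`. -/
theorem result {Q : Type*} [Group Q] [Finite Q] : Cfsg.HasCyclicSchurMultiplier Q 1 ↔ ∀ (n : ℕ) (γ : Q →* (GL (Fin n) ℂ ⧸ Subgroup.center (GL (Fin n) ℂ))), ∃ ρ : Q →* GL (Fin n) ℂ, (QuotientGroup.mk' (Subgroup.center (GL (Fin n) ℂ))).comp ρ = γ := by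
  have hid : Cfsg.IsStemExtension (MonoidHom.id Q) :=
    ⟨Function.surjective_id, by rw [MonoidHom.ker_id]; exact bot_le,
      by rw [MonoidHom.ker_id]; exact bot_le⟩
  have hsub : Subsingleton (MonoidHom.id Q).ker := by
    rw [MonoidHom.ker_id]; infer_instance
  constructor
  · intro h n γ
    have hk : Nonempty ((MonoidHom.id Q).ker ≃* Multiplicative (ZMod 1)) :=
      ⟨{ toFun := fun _ => 1
         invFun := fun _ => 1
         left_inv := fun _ => Subsingleton.elim _ _
         right_inv := fun _ => Subsingleton.elim _ _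
         map_mul' := fun _ _ => Subsingleton.elim _ _ }⟩
    obtain ⟨ρ, hρ⟩ := Cfsg.Agent.Lib.Helper70.exists_projective_lift_of_schur_cover h
      (MonoidHom.id Q) hid hk n γ
    exact ⟨ρ, by rw [hρ, MonoidHom.comp_id]⟩
  · intro hlift
    apply Cfsg.Agent.Lib.Helper70.hasCyclicSchurMultiplier_one_of_forall
    intro Δ _ _ τ hτ
    have hlift' : ∀ (n : ℕ) (γ : Q →* (GL (Fin n) ℂ ⧸ Subgroup.center (GL (Fin n) ℂ))),
        ∃ ρ : Q →* GL (Fin n) ℂ,
          (QuotientGroup.mk' (Subgroup.center (GL (Fin n) ℂ))).comp ρ = γ.comp (MonoidHom.id Q) := by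
      intro n γ
      obtain ⟨ρ, hρ⟩ := hlift n γ
      exact ⟨ρ, by rw [hρ, MonoidHom.comp_id]⟩
    obtain ⟨π, hπ⟩ := Cfsg.Agent.S3956.result (MonoidHom.id Q) hid hlift' Δ τ hτ
    rw [eq_bot_iff]
    intro g hg
    obtain ⟨t, ht⟩ := hπ ⟨g, hg⟩
    have : t = 1 := Subsingleton.elim _ _
    rw [this, map_one] at ht
    rw [Subgroup.mem_bot]
    exact (congrArg Subtype.val ht).symm

end Cfsg.Agent.S3978
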