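import Mathlib
import Cfsg.Statements.S3981
import Cfsg.Agent.Lib.Helper71.Involution

set_option autoImplicit false
open Cfsg

namespace Cfsg.Agent.S3981

open Cfsg.Agent.Lib.Helper71

/-- Let p be an odd prime, Q a p-subgroup of the finite group G and y an involution normalizing Q. Then Q is maximal among the p-subgroups of G normalized by y if and only if the image of y in N_G(Q) ⧸ Q neither inverts nor centralizes any element of order p there; the latter is phrased inside N_G(Q): for every x in N_G(Q) outside Q with x ^ p ∈ Q, neither y x y⁻¹ x nor y x y⁻¹ x⁻¹ lies in Q. -/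
theorem result {G : Type*} [Group G] [Finite G] (p : ℕ) [Fact p.Prime] (hp2 : p ≠ 2) (Q : Subgroup G) (hQ : IsPGroup p ↥Q) (y : G) (hy : orderOf y = 2) (hyQ : y ∈ Subgroup.normalizer (Q : Set G)) : (∀ R : Subgroup G, IsPGroup p ↥R → Q ≤ R → y ∈ Subgroup.normalizer (R : Set G) → R = Q) ↔ ∀ x : G, x ∈ Subgroup.normalizer (Q : Set G) → x ∉ Q → x ^ p ∈ Q → (y * x * y⁻¹ * x ∉ Q ∧ y * x * y⁻¹ * x⁻¹ ∉ Q) := by
  have hp : p.Prime := Fact.out
  have hy2 : y * y = 1 := by rw [← pow_two, ← hy, pow_orderOf_eq_one]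
  have hyinv : y⁻¹ = y := inv_eq_of_mul_eq_one_left hy2
  have hyQ' : ∀ q ∈ Q, y * q * y⁻¹ ∈ Q := fun q hq => (Subgroup.mem_normalizer_iff.mp hyQ q).mp hq
  constructor
  · intro hmax x hxN hxQ hxp
    by_contra hcon
    have hcon' : y * x * y⁻¹ * x ∈ Q ∨ y * x * y⁻¹ * x⁻¹ ∈ Q := by
      by_contra h
      rw [not_or] at h
      exact hcon h
    set R : Subgroup G := Subgroup.zpowers x ⊔ Q with hRdef
    have hQR : Q ≤ R := le_sup_right
    have hxR : x ∈ R := (le_sup_left : Subgroup.zpowers x ≤ R) (Subgroup.mem_zpowers x)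
    have hzp : IsPGroup p (Subgroup.zpowers x) := by
      obtain ⟨k, hk⟩ := hQ ⟨x ^ p, hxp⟩
      have hk' : (x ^ p) ^ p ^ k = 1 := by
        have := congrArg Subtype.val hk
        simpa using this
      have hord : orderOf x ∣ p ^ (k + 1) := by
        apply orderOf_dvd_of_pow_eq_one
        rw [pow_succ', pow_mul]; exact hk'
      obtain ⟨j, _, hj⟩ := (Nat.dvd_prime_pow hp).mp hord
      apply IsPGroup.of_card (n := j)
      rw [Nat.card_zpowers, hj]
    have hR : IsPGroup p R :=
      hzp.to_sup_of_normal_right' hQ (Subgroup.zpowers_le.mpr hxN)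
    have hyxR : y * x * y⁻¹ ∈ R := by
      rcases hcon' with h | h
      · have : y * x * y⁻¹ = (y * x * y⁻¹ * x) * x⁻¹ := by group
        rw [this]
        exact R.mul_mem (hQR h) (R.inv_mem hxR)
      · have : y * x * y⁻¹ = (y * x * y⁻¹ * x⁻¹) * x := by group
        rw [this]
        exact R.mul_mem (hQR h) hxR
    have hmap : R.map (MulAut.conj y).toMonoidHom ≤ R := by
      rw [hRdef, Subgroup.map_sup, MonoidHom.map_zpowers]
      apply sup_le
      · rw [Subgroup.zpowers_le]
        simpa using hyxR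
      · rintro _ ⟨q, hq, rfl⟩
        apply hQR
        simpa using hyQ' q hq
    have hconj : ∀ h ∈ R, y * h * y⁻¹ ∈ R := by
      intro h hh
      apply hmap
      exact ⟨h, hh, by simp⟩
    have hyR : y ∈ Subgroup.normalizer (R : Set G) := by
      rw [Subgroup.mem_normalizer_iff]
      intro h
      refine ⟨hconj h, fun hh => ?_⟩
      have h3 := hconj _ hh
      have h4 : y * (y * h * y⁻¹) * y⁻¹ = h := by
        rw [hyinv]
        calc y * (y * h * y) * y = (y * y) * h * (y * y) := by group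
          _ = h := by rw [hy2, one_mul, mul_one]
      rwa [h4] at h3
    have hRQ := hmax R hR hQR hyR
    exact hxQ (hRQ ▸ hxR)
  · intro hC R hR hQR hyR
    by_contra hne
    have hlt : Q < R := lt_of_le_of_ne hQR (Ne.symm hne)
    -- normalizers grow
    have hnil : Group.IsNilpotent R := hR.isNilpotent
    have nc := Group.normalizerCondition_of_isNilpotent (G := R)
    have hHlt : Q.subgroupOf R < ⊤ := by
      rw [lt_top_iff_ne_top, Ne, Subgroup.subgroupOf_eq_top]
      exact not_le_of_gt hlt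
    obtain ⟨r', hr'N, hr'Q⟩ := SetLike.exists_of_lt (nc _ hHlt)
    set r : G := (r' : G) with hrdef
    have hrR : r ∈ R := r'.2
    have hrQ : r ∉ Q := fun h => hr'Q (Subgroup.mem_subgroupOf.mpr h)
    have hrN : r ∈ Subgroup.normalizer (Q : Set G) := by
      rw [Subgroup.mem_normalizer_iff] at hr'N ⊢
      intro q
      constructor
      · intro hq
        have := (hr'N ⟨q, hQR hq⟩).mp (Subgroup.mem_subgroupOf.mpr hq)
        rw [Subgroup.mem_subgroupOf] at this
        simpa using this
      · intro hq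
        have hqR : q ∈ R := by
          have h1 : r * q * r⁻¹ ∈ R := hQR hq
          have : q = r⁻¹ * (r * q * r⁻¹) * r := by group
          rw [this]
          exact R.mul_mem (R.mul_mem (R.inv_mem hrR) h1) hrR
        have := (hr'N ⟨q, hqR⟩).mpr (by rw [Subgroup.mem_subgroupOf]; simpa using hq)
        exact Subgroup.mem_subgroupOf.mp this
    -- the quotient
    set N : Subgroup G := Subgroup.normalizer (Q : Set G) with hNdef
    set M : Subgroup G := R ⊓ N with hMdef
    let π : N →* N ⧸ Q.subgroupOf N := QuotientGroup.mk' _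
    set S : Subgroup (N ⧸ Q.subgroupOf N) := (M.subgroupOf N).map π with hSdef
    have hM : IsPGroup p M := hR.to_le inf_le_left
    have hS : IsPGroup p S :=
      (hM.comap_of_injective N.subtype N.subtype_injective).map π
    have hπ1 : ∀ a : N, π a = 1 ↔ (a : G) ∈ Q := by
      intro a
      rw [QuotientGroup.mk'_apply, QuotientGroup.eq_one_iff, Subgroup.mem_subgroupOf]
    have hSne : S ≠ ⊥ := by
      intro hbot
      have hmem : π ⟨r, hrN⟩ ∈ S :=
        Subgroup.mem_map_of_mem π (Subgroup.mem_subgroupOf.mpr ⟨hrR, hrN⟩)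
      rw [hbot, Subgroup.mem_bot, hπ1] at hmem
      exact hrQ hmem
    set t : N ⧸ Q.subgroupOf N := π ⟨y, hyQ⟩ with htdef
    have ht2 : t * t = 1 := by
      rw [htdef, ← map_mul, hπ1]
      simp [hy2, Q.one_mem]
    have hyR' : ∀ h ∈ R, y * h * y⁻¹ ∈ R := fun h hh =>
      (Subgroup.mem_normalizer_iff.mp hyR h).mp hh
    have hnorm : ∀ s ∈ S, t * s * t⁻¹ ∈ S := by
      rintro _ ⟨m, hm0, rfl⟩
      have hm : (m : G) ∈ M := Subgroup.mem_subgroupOf.mp hm0
      rw [htdef, ← map_inv, ← map_mul, ← map_mul]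
      apply Subgroup.mem_map_of_mem
      rw [Subgroup.mem_subgroupOf]
      refine ⟨?_, ?_⟩
      · simpa using hyR' _ hm.1
      · exact (⟨y, hyQ⟩ * m * (⟨y, hyQ⟩ : N)⁻¹ : N).2
    obtain ⟨z, hzS, hz1, hzp, hz⟩ := exists_fixed_or_inverted p S hS hSne t ht2 hnorm
    obtain ⟨x', hx'M, rfl⟩ := hzS
    have hxN : (x' : G) ∈ Subgroup.normalizer (Q : Set G) := x'.2
    have hxQ : (x' : G) ∉ Q := fun h => hz1 ((hπ1 x').mpr h)
    have hxp : (x' : G) ^ p ∈ Q := by
      rw [← map_pow, hπ1] at hzp
      simpa using hzp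
    obtain ⟨h1, h2⟩ := hC (x' : G) hxN hxQ hxp
    rcases hz with hz | hz
    · apply h2
      have : π (⟨y, hyQ⟩ * x' * (⟨y, hyQ⟩ : N)⁻¹ * x'⁻¹) = 1 := by
        rw [map_mul, map_mul, map_mul, map_inv, map_inv]
        rw [htdef] at hz
        rw [hz]; group
      rw [hπ1] at this
      simpa using this
    · apply h1
      have : π (⟨y, hyQ⟩ * x' * (⟨y, hyQ⟩ : N)⁻¹ * x') = 1 := by
        rw [map_mul, map_mul, map_mul, map_inv]
        rw [htdef] at hz
        rw [hz]; group
      rw [hπ1] at this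
      simpa using this

end Cfsg.Agent.S3981
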