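import Mathlib
import Cfsg.Statements.S3982
import Cfsg.Agent.Lib.Helper71.InvolutionAction
import Cfsg.Agent.Lib.Helper71.PGroupNormalizer

set_option autoImplicit false
open Cfsg

namespace Cfsg.Agent.S3982

open Cfsg.Agent.Lib.Helper71

/-- Let p be an odd prime and G a finite group of even order divisible by p in which the centralizer of every non-identity p-element has odd order. If some nontrivial p-subgroup of G has a normalizer of even order, then the normalizer of every Sylow p-subgroup of G has even order. -/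
theorem result {G : Type*} [Group G] [Finite G] (p : ℕ) [Fact p.Prime] (hp2 : p ≠ 2) (hpG : p ∣ Nat.card G) (h2G : 2 ∣ Nat.card G) (hC : ∀ g : G, g ≠ 1 → (∃ k : ℕ, orderOf g = p ^ k) → Odd (Nat.card ↥(Subgroup.centralizer ({g} : Set G)))) (Q : Subgroup G) (hQ : IsPGroup p ↥Q) (hQ1 : Q ≠ ⊥) (hev : Even (Nat.card ↥(Subgroup.normalizer (Q : Set G)))) (P : Sylow p G) : Even (Nat.card ↥(Subgroup.normalizer ((P : Subgroup G) : Set G))) := by
  classical
  have hp : p.Prime := Fact.out
  have hpodd : Odd p := hp.odd_of_ne_two hp2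
  let 𝒮 : Set (Subgroup G) :=
    {R | IsPGroup p R ∧ R ≠ ⊥ ∧ Even (Nat.card (Subgroup.normalizer (R : Set G)))}
  have hQS : Q ∈ 𝒮 := ⟨hQ, hQ1, hev⟩
  obtain ⟨R, hRS, hRmax⟩ : ∃ R ∈ 𝒮, ∀ R' ∈ 𝒮, Nat.card R' ≤ Nat.card R :=
    Set.exists_max_image 𝒮 (fun R => Nat.card R) (Set.toFinite _) ⟨Q, hQS⟩
  obtain ⟨hRp, hRne, hRev⟩ := hRS
  obtain ⟨P0, hRP0⟩ := hRp.exists_le_sylow
  have hRP0eq : R = (P0 : Subgroup G) := by
    by_contra hne
    have hlt : R < (P0 : Subgroup G) := lt_of_le_of_ne hRP0 hne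
    obtain ⟨r1, hr1P0, hr1N, hr1R⟩ :=
      exists_mem_normalizer_notMem_of_lt p R (P0 : Subgroup G) P0.isPGroup' hlt
    set P1 : Subgroup G := (P0 : Subgroup G) ⊓ Subgroup.normalizer (R : Set G) with hP1
    have hRP1 : R ≤ P1 := le_inf hRP0 Subgroup.le_normalizer
    have hP1p : IsPGroup p P1 := P0.isPGroup'.to_le inf_le_left
    have hcardlt : Nat.card R < Nat.card P1 := by
      by_contra hge
      rw [not_lt] at hge
      have := Subgroup.eq_of_le_of_card_ge hRP1 hge
      apply hr1R
      rw [this]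
      exact Subgroup.mem_inf.mpr ⟨hr1P0, hr1N⟩
    -- an involution in N(R)
    have h2N : 2 ∣ Nat.card (Subgroup.normalizer (R : Set G)) := even_iff_two_dvd.mp hRev
    obtain ⟨y', hy'⟩ := exists_prime_orderOf_dvd_card' 2 h2N
    set y : G := (y' : G) with hydef
    have hyord : orderOf y = 2 := by rw [hydef, Subgroup.orderOf_coe]; exact hy'
    have hy2 : y * y = 1 := by rw [← pow_two, ← hyord, pow_orderOf_eq_one]
    have hyN : y ∈ Subgroup.normalizer (R : Set G) := y'.2
    have hnorm : ∀ r ∈ R, y * r * y⁻¹ ∈ R := fun r hr =>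
      (Subgroup.mem_normalizer_iff.mp hyN r).mp hr
    have hpelt : ∀ r ∈ R, ∃ k : ℕ, orderOf r = p ^ k := by
      intro r hr
      obtain ⟨k, hk⟩ := (IsPGroup.iff_orderOf.mp hRp) ⟨r, hr⟩
      exact ⟨k, by rw [← hk]; exact (Subgroup.orderOf_mk r hr).symm⟩
    have hnot2 : ∀ K : Subgroup G, Odd (Nat.card K) → y ∉ K := by
      intro K hK hyK
      have h1 : 2 ∣ Nat.card K := hyord ▸ Subgroup.orderOf_dvd_natCard _ hyK
      exact (Nat.not_even_iff_odd.mpr hK) (even_iff_two_dvd.mpr h1)
    have hfpf : ∀ r ∈ R, y * r * y⁻¹ = r → r = 1 := by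
      intro r hr hfix
      by_contra hr1
      have hodd := hC r hr1 (hpelt r hr)
      apply hnot2 _ hodd
      rw [Subgroup.mem_centralizer_singleton_iff]
      exact (mul_inv_eq_iff_eq_mul.mp hfix)
    have hinv := fpf_inverts R y hy2 hnorm hfpf
    set C : Subgroup G := Subgroup.centralizer (R : Set G) with hCdef
    obtain ⟨r0, hr01⟩ := (Subgroup.ne_bot_iff_exists_ne_one.mp hRne)
    have hr0R' : (r0 : G) ∈ R := r0.2
    have hr01' : (r0 : G) ≠ 1 := fun h => hr01 (Subtype.ext h)
    have hCodd : Odd (Nat.card C) := by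
      have hle : C ≤ Subgroup.centralizer ({(r0 : G)} : Set G) :=
        Subgroup.centralizer_le (Set.singleton_subset_iff.mpr hr0R')
      exact Odd.of_dvd_nat (hC _ hr01' (hpelt _ hr0R')) (Subgroup.card_dvd_of_le hle)
    set L : Subgroup G := P1 ⊔ C with hLdef
    have hP1NC : P1 ≤ Subgroup.normalizer (C : Set G) :=
      (inf_le_right : P1 ≤ Subgroup.normalizer (R : Set G)).trans
        (normalizer_le_normalizer_centralizer R)
    have hLcard : Nat.card L ∣ Nat.card P1 * Nat.card C :=
      card_sup_dvd_of_le_normalizer P1 C hP1NC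
    obtain ⟨k1, hk1⟩ := IsPGroup.iff_card.mp hP1p
    have hLodd : Odd (Nat.card L) := by
      apply Odd.of_dvd_nat _ hLcard
      rw [hk1]
      exact (hpodd.pow).mul hCodd
    have hyL : y ∉ L := hnot2 L hLodd
    have hy2L : y * y ∈ L := by rw [hy2]; exact L.one_mem
    have hLN : L ≤ Subgroup.normalizer (R : Set G) :=
      sup_le inf_le_right (Subgroup.centralizer_le_normalizer _)
    have hconjL : ∀ l ∈ L, y * l * y⁻¹ ∈ L := by
      intro l hl
      have h1 := comm_mem_centralizer_of_inverts R y hy2 hinv l (hLN hl)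
      have : y * l * y⁻¹ = (y * l * y⁻¹ * l⁻¹) * l := by group
      rw [this]
      exact L.mul_mem ((le_sup_right : C ≤ L) h1) hl
    have hyinv : y⁻¹ = y := inv_eq_of_mul_eq_one_left hy2
    have hyNL : y ∈ Subgroup.normalizer (L : Set G) := by
      rw [Subgroup.mem_normalizer_iff]
      intro l
      refine ⟨hconjL l, fun h => ?_⟩
      have h3 := hconjL _ h
      have h4 : y * (y * l * y⁻¹) * y⁻¹ = l := by
        rw [hyinv]
        calc y * (y * l * y) * y = (y * y) * l * (y * y) := by group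
          _ = l := by rw [hy2, one_mul, mul_one]
      rwa [h4] at h3
    obtain ⟨P2, _, hP2p, hP2card, hP2even⟩ := exists_sylow_even_normalizer p L y hyNL hyL hy2L
    have hP2big : Nat.card P1 ≤ Nat.card P2 := by
      rw [hP2card, hk1]
      apply Nat.pow_le_pow_right hp.pos
      have hdvd : p ^ k1 ∣ Nat.card L := by
        rw [← hk1]; exact Subgroup.card_dvd_of_le le_sup_left
      exact (hp.pow_dvd_iff_le_factorization Nat.card_pos.ne').mp hdvd
    have hRpos : 0 < Nat.card R := Nat.card_pos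
    have hP2ne : P2 ≠ ⊥ := by
      rw [← Subgroup.one_lt_card_iff_ne_bot]
      omega
    have := hRmax P2 ⟨hP2p, hP2ne, hP2even⟩
    omega
  -- transfer to P
  have h1 : (Subgroup.normalizer ((P : Subgroup G) : Set G)).index =
      (Subgroup.normalizer ((P0 : Subgroup G) : Set G)).index :=
    (Sylow.card_eq_index_normalizer P).symm.trans (Sylow.card_eq_index_normalizer P0)
  have h2 := (Subgroup.normalizer ((P : Subgroup G) : Set G)).card_mul_index
  have h3 := (Subgroup.normalizer ((P0 : Subgroup G) : Set G)).card_mul_index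
  have hidx : 0 < (Subgroup.normalizer ((P0 : Subgroup G) : Set G)).index :=
    Nat.pos_of_ne_zero Subgroup.index_ne_zero_of_finite
  have h4 : Nat.card (Subgroup.normalizer ((P : Subgroup G) : Set G)) =
      Nat.card (Subgroup.normalizer ((P0 : Subgroup G) : Set G)) := by
    rw [h1] at h2
    exact Nat.eq_of_mul_eq_mul_right hidx (h2.trans h3.symm)
  rw [h4, ← hRP0eq]
  exact hRev

end Cfsg.Agent.S3982
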