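import Mathlib
import Cfsg.Statements.S3983
import Cfsg.Agent.Lib.Helper71.TI

set_option autoImplicit false
open Cfsg
open scoped Pointwise

namespace Cfsg.Agent.S3983

open Cfsg.Agent.Lib.Helper71

/-- Let P be a Sylow p-subgroup of the finite group G that meets each conjugate g P g⁻¹ with g outside N_G(P) trivially, and let U be a subgroup of G of order divisible by p. Then a Sylow p-subgroup Q of U has the same property inside U: Q meets each conjugate u Q u⁻¹ with u ∈ U outside N_U(Q) trivially. -/
theorem result {G : Type*} [Group G] [Finite G] (p : ℕ) [Fact p.Prime] (P : Sylow p G) (hTI : ∀ g : G, g ∉ Subgroup.normalizer ((P : Subgroup G) : Set G) → (P : Subgroup G) ⊓ (MulAut.conj g • (P : Subgroup G)) = ⊥) (U : Subgroup G) (hU : p ∣ Nat.card ↥U) (Q : Sylow p ↥U) : ∀ u : ↥U, u ∉ Subgroup.normalizer ((Q : Subgroup ↥U) : Set ↥U) → (Q : Subgroup ↥U) ⊓ (MulAut.conj u • (Q : Subgroup ↥U)) = ⊥ := by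
  have hP : IsTI (P : Subgroup G) := (isTI_iff _).mpr hTI
  rw [← isTI_iff]
  -- a Sylow subgroup of G containing the image of Q
  have hQ' : IsPGroup p ((Q : Subgroup U).map U.subtype) := Q.isPGroup'.map U.subtype
  obtain ⟨R, hR⟩ := hQ'.exists_le_sylow
  have hRTI : IsTI (R : Subgroup G) := hP.sylow R
  have hQR : (Q : Subgroup U) = (R : Subgroup G).subgroupOf U := by
    have hle : (Q : Subgroup U) ≤ (R : Subgroup G).subgroupOf U := by
      intro x hx
      rw [Subgroup.mem_subgroupOf]
      exact hR (Subgroup.mem_map_of_mem U.subtype hx)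
    have hpg : IsPGroup p ((R : Subgroup G).subgroupOf U) :=
      R.isPGroup'.comap_of_injective U.subtype U.subtype_injective
    exact (Q.is_maximal' hpg hle).symm
  intro u x hx hne hux
  rw [hQR, Subgroup.mem_subgroupOf] at hx hux
  have hu : (u : G) ∈ Subgroup.normalizer ((R : Subgroup G) : Set G) := by
    apply hRTI (u : G) (x : G) hx
    · intro h; apply hne; exact Subtype.ext h
    · simpa using hux
  rw [Subgroup.mem_normalizer_iff] at hu ⊢
  intro y
  rw [hQR, Subgroup.mem_subgroupOf, Subgroup.mem_subgroupOf, hu (y : G)]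
  simp

end Cfsg.Agent.S3983
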