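import Mathlib
import Cfsg.Statements.S3984
import Cfsg.Agent.Lib.Helper71.TI

set_option autoImplicit false
open Cfsg
open scoped Pointwise

namespace Cfsg.Agent.S3984

open Cfsg.Agent.Lib.Helper71

/-- A `p`-element of `R ⊔ N` (with `R` a Sylow `p`-subgroup of `G`, `N` normal) is conjugate into `R`
by an element of `N`. -/
theorem exists_conj_mem {G : Type*} [Group G] [Finite G] (p : ℕ) [Fact p.Prime] (R : Sylow p G)
    (N : Subgroup G) [N.Normal] (y : G) (hy : y ∈ N ⊔ (R : Subgroup G)) (k : ℕ) (hyk : y ^ p ^ k = 1) :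
    ∃ n ∈ N, n⁻¹ * y * n ∈ (R : Subgroup G) := by
  set L : Subgroup G := N ⊔ (R : Subgroup G) with hL
  have hRL : (R : Subgroup G) ≤ L := le_sup_right
  let RL : Sylow p L := R.subtype hRL
  let yL : L := ⟨y, hy⟩
  have hz : IsPGroup p (Subgroup.zpowers yL) := by
    rintro ⟨w, hw⟩
    obtain ⟨i, rfl⟩ := Subgroup.mem_zpowers_iff.mp hw
    refine ⟨k, ?_⟩
    have h1 : yL ^ p ^ k = 1 := Subtype.ext (by simpa [yL] using hyk)
    apply Subtype.ext
    change (yL ^ i) ^ p ^ k = 1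
    rw [← zpow_natCast, ← zpow_mul, mul_comm, zpow_mul, zpow_natCast, h1, one_zpow]
  obtain ⟨S, hS⟩ := hz.exists_le_sylow
  obtain ⟨m, hm⟩ := MulAction.exists_smul_eq L RL S
  have hyS : yL ∈ (S : Subgroup L) := hS (Subgroup.mem_zpowers yL)
  rw [← hm, Sylow.coe_subgroup_smul, mem_conj_smul_iff, Sylow.coe_subtype, Subgroup.mem_subgroupOf] at hyS
  have hmL : (m : G) ∈ (↑(N ⊔ (R : Subgroup G)) : Set G) := m.2
  rw [Subgroup.normal_mul] at hmL
  obtain ⟨n, hn, r, hr, hnr⟩ := Set.mem_mul.mp hmL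
  refine ⟨n, hn, ?_⟩
  have h3 : n⁻¹ * y * n = r * ((m : G)⁻¹ * y * m) * r⁻¹ := by
    rw [← hnr]; group
  rw [h3]
  refine (R : Subgroup G).mul_mem ((R : Subgroup G).mul_mem hr ?_) ((R : Subgroup G).inv_mem hr)
  simpa [yL] using hyS

/-- Let P be a Sylow p-subgroup of the finite group G that meets each conjugate g P g⁻¹ with g outside N_G(P) trivially, and let N be a normal subgroup of G of order prime to p. Then every Sylow p-subgroup Q of G ⧸ N meets each conjugate x Q x⁻¹ with x outside its normalizer trivially. -/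
theorem result {G : Type*} [Group G] [Finite G] (p : ℕ) [Fact p.Prime] (P : Sylow p G) (hTI : ∀ g : G, g ∉ Subgroup.normalizer ((P : Subgroup G) : Set G) → (P : Subgroup G) ⊓ (MulAut.conj g • (P : Subgroup G)) = ⊥) (N : Subgroup G) [N.Normal] (hN : (Nat.card ↥N).Coprime p) (Q : Sylow p (G ⧸ N)) : ∀ x : G ⧸ N, x ∉ Subgroup.normalizer ((Q : Subgroup (G ⧸ N)) : Set (G ⧸ N)) → (Q : Subgroup (G ⧸ N)) ⊓ (MulAut.conj x • (Q : Subgroup (G ⧸ N))) = ⊥ := by
  have hP : IsTI (P : Subgroup G) := (isTI_iff _).mpr hTI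
  rw [← isTI_iff]
  have hsurj : Function.Surjective (QuotientGroup.mk' N) := QuotientGroup.mk'_surjective N
  obtain ⟨R, hR⟩ := Sylow.mapSurjective_surjective hsurj p Q
  have hRTI : IsTI (R : Subgroup G) := hP.sylow R
  have hQR : (Q : Subgroup (G ⧸ N)) = (R : Subgroup G).map (QuotientGroup.mk' N) := by
    rw [← hR]; rfl
  intro gbar xbar hx hne hgx
  obtain ⟨g, rfl⟩ := hsurj gbar
  rw [hQR] at hx hgx
  obtain ⟨x, hxR, rfl⟩ := Subgroup.mem_map.mp hx
  have hx1 : x ≠ 1 := by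
    rintro rfl
    exact hne (map_one _)
  -- the conjugate lies in N ⊔ R
  have hy : g⁻¹ * x * g ∈ N ⊔ (R : Subgroup G) := by
    have : g⁻¹ * x * g ∈ ((R : Subgroup G).map (QuotientGroup.mk' N)).comap (QuotientGroup.mk' N) := by
      rw [Subgroup.mem_comap]
      simpa using hgx
    rw [Subgroup.comap_map_eq, QuotientGroup.ker_mk', sup_comm] at this
    exact this
  obtain ⟨k, hk⟩ := R.isPGroup' ⟨x, hxR⟩
  have hxk : x ^ p ^ k = 1 := by
    have := congrArg Subtype.val hk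
    simpa using this
  have hyk : (g⁻¹ * x * g) ^ p ^ k = 1 := by
    have : (g⁻¹ * x * g) ^ p ^ k = g⁻¹ * x ^ p ^ k * g := by
      have := conj_pow (a := g⁻¹) (b := x) (i := p ^ k)
      simpa using this
    rw [this, hxk]; group
  obtain ⟨n, hn, hmem⟩ := exists_conj_mem p R N _ hy k hyk
  have hgn : g * n ∈ Subgroup.normalizer ((R : Subgroup G) : Set G) := by
    apply hRTI (g * n) x hxR hx1
    have : (g * n)⁻¹ * x * (g * n) = n⁻¹ * (g⁻¹ * x * g) * n := by group
    rw [this]; exact hmem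
  have : (QuotientGroup.mk' N) (g * n) ∈ Subgroup.normalizer (((R : Subgroup G).map (QuotientGroup.mk' N) : Subgroup (G ⧸ N)) : Set (G ⧸ N)) :=
    Subgroup.le_normalizer_map _ (Subgroup.mem_map_of_mem _ hgn)
  rw [hQR]
  have h5 : (QuotientGroup.mk' N) (g * n) = (QuotientGroup.mk' N) g := by
    rw [map_mul]
    have : (QuotientGroup.mk' N) n = 1 := by
      rw [← MonoidHom.mem_ker, QuotientGroup.ker_mk']; exact hn
    rw [this, mul_one]
  rw [h5] at this
  exact this

end Cfsg.Agent.S3984
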