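import Mathlib
import Cfsg.Statements.S3985
import Cfsg.Agent.Lib.Helper71.TI
import Cfsg.Agent.Lib.Helper71.Cyclic
import Cfsg.Agent.Lib.Helper71.CoprimeAction
import Cfsg.Agent.Lib.Helper71.DirectFactor

set_option autoImplicit false
open Cfsg
open scoped Pointwise

namespace Cfsg.Agent.S3985

open Cfsg.Agent.Lib.Helper71

/-- A `p`-element centralizing a Sylow `p`-subgroup lies in it. -/
theorem mem_sylow_of_mem_centralizer {G : Type*} [Group G] (p : ℕ) [Fact p.Prime]
    (P : Sylow p G) (h : G) (hC : h ∈ Subgroup.centralizer ((P : Subgroup G) : Set G)) (k : ℕ)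
    (hk : h ^ p ^ k = 1) : h ∈ (P : Subgroup G) := by
  have hz : IsPGroup p (Subgroup.zpowers h) := by
    rintro ⟨w, hw⟩
    obtain ⟨i, rfl⟩ := Subgroup.mem_zpowers_iff.mp hw
    refine ⟨k, ?_⟩
    apply Subtype.ext
    change (h ^ i) ^ p ^ k = 1
    rw [← zpow_natCast, ← zpow_mul, mul_comm, zpow_mul, zpow_natCast, hk, one_zpow]
  have hle : Subgroup.zpowers h ≤ Subgroup.normalizer ((P : Subgroup G) : Set G) :=
    Subgroup.zpowers_le.mpr (Subgroup.centralizer_le_normalizer _ hC)
  have hsup : IsPGroup p (Subgroup.zpowers h ⊔ (P : Subgroup G) : Subgroup G) :=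
    hz.to_sup_of_normal_right' P.isPGroup' hle
  have heq := P.is_maximal' hsup le_sup_right
  rw [← heq]
  exact (le_sup_left : Subgroup.zpowers h ≤ _) (Subgroup.mem_zpowers h)

/-- Let P be a cyclic Sylow p-subgroup of the finite group G. Then P meets each conjugate g P g⁻¹ with g outside N_G(P) trivially if and only if P is weakly self-centralizing: C_G(x) = C_G(P) for every non-identity x ∈ P. -/
theorem result {G : Type*} [Group G] [Finite G] (p : ℕ) [Fact p.Prime] (P : Sylow p G) (hcyc : IsCyclic ↥(P : Subgroup G)) : (∀ g : G, g ∉ Subgroup.normalizer ((P : Subgroup G) : Set G) → (P : Subgroup G) ⊓ (MulAut.conj g • (P : Subgroup G)) = ⊥) ↔ ∀ x : G, x ∈ (P : Subgroup G) → x ≠ 1 → Subgroup.centralizer ({x} : Set G) = Subgroup.centralizer ((P : Subgroup G) : Set G) := by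
  have hp : p.Prime := Fact.out
  rw [← isTI_iff]
  have hcomm : ∀ a ∈ (P : Subgroup G), ∀ b ∈ (P : Subgroup G), a * b = b * a := by
    intro a ha b hb
    have := (IsCyclic.isMulCommutative (α := (P : Subgroup G))).is_comm.comm ⟨a, ha⟩ ⟨b, hb⟩
    exact congrArg Subtype.val this
  have hPC : (P : Subgroup G) ≤ Subgroup.centralizer ((P : Subgroup G) : Set G) := by
    intro a ha
    rw [Subgroup.mem_centralizer_iff]
    intro b hb
    exact hcomm b hb a ha
  have hpel : ∀ y ∈ (P : Subgroup G), ∃ k : ℕ, y ^ p ^ k = 1 := by
    intro y hy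
    obtain ⟨k, hk⟩ := P.isPGroup' ⟨y, hy⟩
    refine ⟨k, ?_⟩
    have := congrArg Subtype.val hk
    simpa using this
  constructor
  · intro hTI x hxP hx1
    apply le_antisymm
    · -- C(x) ≤ C(P)
      have hCN : Subgroup.centralizer ({x} : Set G) ≤
          Subgroup.normalizer ((P : Subgroup G) : Set G) := by
        intro g hg
        rw [Subgroup.mem_centralizer_singleton_iff] at hg
        apply hTI g x hxP hx1
        have : g⁻¹ * x * g = x := by rw [mul_assoc, ← hg]; group
        rw [this]; exact hxP
      set C := Subgroup.centralizer ({x} : Set G) with hC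
      have hPCx : (P : Subgroup G) ≤ C := by
        intro a ha
        rw [hC, Subgroup.mem_centralizer_singleton_iff]
        exact hcomm a ha x hxP
      have htop : (Subgroup.centralizer ((P : Subgroup G) : Set G)).subgroupOf C = ⊤ := by
        apply eq_top_of_forall_sylow_le
        intro r hr
        by_cases hrp : r = p
        · subst hrp
          refine ⟨P.subtype hPCx, ?_⟩
          intro y hy
          rw [Sylow.coe_subtype, Subgroup.mem_subgroupOf] at hy
          rw [Subgroup.mem_subgroupOf]
          exact hPC hy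
        · obtain ⟨S⟩ : Nonempty (Sylow r C) := inferInstance
          refine ⟨S, ?_⟩
          intro y hy
          obtain ⟨k, hk⟩ := exists_orderOf_eq_of_mem_sylow r S hy
          rw [Subgroup.mem_subgroupOf]
          have hyN : (y : G) ∈ Subgroup.normalizer ((P : Subgroup G) : Set G) := hCN y.2
          have hyx : (y : G) * x = x * (y : G) := by
            have hyC : (y : G) ∈ Subgroup.centralizer ({x} : Set G) := y.2
            exact Subgroup.mem_centralizer_singleton_iff.mp hyC
          have hord : orderOf (y : G) = r ^ k := by rw [← hk]; exact Subgroup.orderOf_coe y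
          have hcop : Nat.Coprime (orderOf (y : G)) p := by
            rw [hord]
            exact Nat.Coprime.pow_left k ((Nat.coprime_primes hr.out hp).mpr hrp)
          have hyP : ∀ a ∈ (P : Subgroup G), (y : G) * a * (y : G)⁻¹ ∈ (P : Subgroup G) :=
            fun a ha => (Subgroup.mem_normalizer_iff.mp hyN a).mp ha
          have hΩ : ∀ ω ∈ (P : Subgroup G), ω ^ p = 1 → (y : G) * ω * (y : G)⁻¹ = ω := by
            intro ω hω hωp
            have hmem := mem_zpowers_of_pow_eq_one_of_ne_one (A := (P : Subgroup G)) p
              P.isPGroup' ⟨x, hxP⟩ ⟨ω, hω⟩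
              (fun h => hx1 (congrArg Subtype.val h))
              (Subtype.ext (by simpa using hωp))
            obtain ⟨i, hi⟩ := Subgroup.mem_zpowers_iff.mp hmem
            have hi' : x ^ i = ω := by
              have := congrArg Subtype.val hi
              simpa using this
            have hcomm' : Commute (y : G) x := hyx
            have : Commute (y : G) ω := by rw [← hi']; exact hcomm'.zpow_right i
            rw [this.eq]; group
          have hcent := conj_eq_of_conj_eq_on_omega p (P : Subgroup G) hcomm P.isPGroup' (y : G)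
            hyP hcop hΩ
          rw [Subgroup.mem_centralizer_iff]
          intro a ha
          exact (mul_inv_eq_iff_eq_mul.mp (hcent a ha)).symm
      exact Subgroup.subgroupOf_eq_top.mp htop
    · exact Subgroup.centralizer_le (Set.singleton_subset_iff.mpr hxP)
  · intro hW g x hxP hx1 hgx
    set x' := g⁻¹ * x * g with hx'
    have hx'1 : x' ≠ 1 := by
      intro h
      apply hx1
      have : x = g * x' * g⁻¹ := by rw [hx']; group
      rw [this, h]; group
    have h1 := hW x hxP hx1
    have h2 := hW x' hgx hx'1
    have hconj : ∀ c : G, c ∈ Subgroup.centralizer ((P : Subgroup G) : Set G) ↔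
        g⁻¹ * c * g ∈ Subgroup.centralizer ((P : Subgroup G) : Set G) := by
      intro c
      suffices key : c ∈ Subgroup.centralizer ({x} : Set G) ↔
          g⁻¹ * c * g ∈ Subgroup.centralizer ({x'} : Set G) by
        rw [h1, h2] at key; exact key
      rw [Subgroup.mem_centralizer_singleton_iff, Subgroup.mem_centralizer_singleton_iff]
      constructor
      · intro h
        rw [hx']
        calc g⁻¹ * c * g * (g⁻¹ * x * g) = g⁻¹ * (c * x) * g := by group
          _ = g⁻¹ * (x * c) * g := by rw [h]
          _ = g⁻¹ * x * g * (g⁻¹ * c * g) := by group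
      · intro h
        rw [hx'] at h
        have : g⁻¹ * (c * x) * g = g⁻¹ * (x * c) * g := by
          calc g⁻¹ * (c * x) * g = g⁻¹ * c * g * (g⁻¹ * x * g) := by group
            _ = g⁻¹ * x * g * (g⁻¹ * c * g) := h
            _ = g⁻¹ * (x * c) * g := by group
        exact mul_left_cancel (mul_right_cancel this)
    rw [Subgroup.mem_normalizer_iff'']
    intro h
    constructor
    · intro hh
      obtain ⟨k, hk⟩ := hpel h hh
      apply mem_sylow_of_mem_centralizer p P _ ((hconj h).mp (hPC hh)) k
      have := conj_pow (a := g⁻¹) (b := h) (i := p ^ k)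
      rw [inv_inv] at this
      rw [this, hk]; group
    · intro hh
      obtain ⟨k, hk⟩ := hpel _ hh
      apply mem_sylow_of_mem_centralizer p P _ ((hconj h).mpr (hPC hh)) k
      have h3 := conj_pow (a := g⁻¹) (b := h) (i := p ^ k)
      rw [inv_inv] at h3
      rw [h3] at hk
      have : h ^ p ^ k = g * (g⁻¹ * h ^ p ^ k * g) * g⁻¹ := by group
      rw [this, hk]; group

end Cfsg.Agent.S3985
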