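import Mathlib
import Cfsg.Statements.S3987
import Cfsg.Agent.Lib.Helper71.Basic
import Cfsg.Agent.Lib.Helper71.DirectFactor

set_option autoImplicit false
open Cfsg

namespace Cfsg.Agent.S3987

open Cfsg.Agent.Lib.Helper71

/-- If the class of `x * y` has as many elements as the product of the sizes of the classes of
`x` and `y`, then `x` and `y` commute. -/
theorem commute_of_index_mul {G : Type*} [Group G] [Finite G] (x y : G)
    (h : (Subgroup.centralizer ({x * y} : Set G)).index =
      (Subgroup.centralizer ({x} : Set G)).index * (Subgroup.centralizer ({y} : Set G)).index) :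
    x * y = y * x := by
  set A : Set G := {h : G | IsConj x h} with hA
  set B : Set G := {h : G | IsConj y h} with hB
  set C : Set G := {h : G | IsConj (x * y) h} with hC
  set f : G × G → G := fun q => q.1 * q.2 with hf
  have hcard : C.ncard = (A ×ˢ B).ncard := by
    rw [Set.ncard_prod, hA, hB, hC, ncard_conj_eq_index_centralizer, ncard_conj_eq_index_centralizer,
      ncard_conj_eq_index_centralizer, h]
  have hsub : C ⊆ f '' (A ×ˢ B) := by
    intro z hz
    obtain ⟨g, hg⟩ := isConj_iff.mp hz
    refine ⟨(g * x * g⁻¹, g * y * g⁻¹), ⟨?_, ?_⟩, ?_⟩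
    · exact isConj_iff.mpr ⟨g, rfl⟩
    · exact isConj_iff.mpr ⟨g, rfl⟩
    · simp only [hf]
      rw [← hg]; group
  have hle : (f '' (A ×ˢ B)).ncard ≤ (A ×ˢ B).ncard := Set.ncard_image_le (Set.toFinite _)
  have hge : (A ×ˢ B).ncard ≤ (f '' (A ×ˢ B)).ncard := by
    rw [← hcard]; exact Set.ncard_le_ncard hsub (Set.toFinite _)
  have hinj : Set.InjOn f (A ×ˢ B) :=
    Set.injOn_of_ncard_image_eq (le_antisymm hle hge) (Set.toFinite _)
  have h1 : ((x, y) : G × G) ∈ A ×ˢ B := ⟨IsConj.refl x, IsConj.refl y⟩
  have h2 : (((x * y) * x * (x * y)⁻¹, (x * y) * y * (x * y)⁻¹) : G × G) ∈ A ×ˢ B :=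
    ⟨isConj_iff.mpr ⟨x * y, rfl⟩, isConj_iff.mpr ⟨x * y, rfl⟩⟩
  have h3 : f (x, y) = f ((x * y) * x * (x * y)⁻¹, (x * y) * y * (x * y)⁻¹) := by
    simp only [hf]; group
  have h4 := hinj h1 h2 h3
  have h5 : x = (x * y) * x * (x * y)⁻¹ := congrArg Prod.fst h4
  have h6 : x * (x * y) = (x * y) * x := by
    calc x * (x * y) = ((x * y) * x * (x * y)⁻¹) * (x * y) := by rw [← h5]
      _ = (x * y) * x := by group
  have h7 : x * (x * y) = x * (y * x) := by rw [h6]; group
  exact mul_left_cancel h7

/-- Class sizes multiply for commuting elements `x ∈ P`, `y ∈ K` in a direct decomposition. -/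
theorem index_mul_of_directFactor {G : Type*} [Group G] [Finite G] (p : ℕ) [Fact p.Prime]
    (P : Sylow p G) (K : Subgroup G) (hP : (P : Subgroup G).Normal) (hK : K.Normal)
    (hdisj : (P : Subgroup G) ⊓ K = ⊥) (htop : (P : Subgroup G) ⊔ K = ⊤)
    (x y : G) (hx : x ∈ (P : Subgroup G)) (hy : y ∈ K)
    (hcop : Nat.Coprime (orderOf x) (orderOf y)) :
    (Subgroup.centralizer ({x * y} : Set G)).index =
      (Subgroup.centralizer ({x} : Set G)).index * (Subgroup.centralizer ({y} : Set G)).index := by
  have hp : p.Prime := Fact.out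
  have hd : Disjoint (P : Subgroup G) K := disjoint_iff.mpr hdisj
  have hcomm : Commute x y := Subgroup.commute_of_normal_of_disjoint _ _ hP hK hd x y hx hy
  -- centralizer of the product
  have hinf : Subgroup.centralizer ({x * y} : Set G) =
      Subgroup.centralizer ({x} : Set G) ⊓ Subgroup.centralizer ({y} : Set G) := by
    apply le_antisymm
    · intro g hg
      rw [Subgroup.mem_centralizer_singleton_iff] at hg
      have hgc : Commute g (x * y) := hg
      have hgx : Commute g x := by
        have h1 : Commute g ((x * y) ^ orderOf y) := hgc.pow_right _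
        rw [hcomm.mul_pow, pow_orderOf_eq_one, mul_one] at h1
        obtain ⟨m, hm⟩ := exists_pow_eq_self_of_coprime hcop.symm
        have h2 : Commute g ((x ^ orderOf y) ^ m) := h1.pow_right m
        rwa [hm] at h2
      have hgy : Commute g y := by
        have h1 : Commute g (x⁻¹ * (x * y)) := hgx.inv_right.mul_right hgc
        rwa [inv_mul_cancel_left] at h1
      exact Subgroup.mem_inf.mpr ⟨Subgroup.mem_centralizer_singleton_iff.mpr hgx,
        Subgroup.mem_centralizer_singleton_iff.mpr hgy⟩
    · intro g hg
      obtain ⟨h1, h2⟩ := Subgroup.mem_inf.mp hg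
      rw [Subgroup.mem_centralizer_singleton_iff] at h1 h2 ⊢
      have h1' : Commute g x := h1
      have h2' : Commute g y := h2
      exact h1'.mul_right h2'
  -- K centralizes x and P centralizes y
  have hKx : K ≤ Subgroup.centralizer ({x} : Set G) := by
    intro k hk
    rw [Subgroup.mem_centralizer_singleton_iff]
    exact (Subgroup.commute_of_normal_of_disjoint _ _ hP hK hd x k hx hk).symm
  have hPy : (P : Subgroup G) ≤ Subgroup.centralizer ({y} : Set G) := by
    intro a ha
    rw [Subgroup.mem_centralizer_singleton_iff]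
    exact (Subgroup.commute_of_normal_of_disjoint _ _ hP hK hd a y ha hy)
  have hcompl : (P : Subgroup G).IsComplement' K := by
    apply Subgroup.isComplement'_of_disjoint_and_mul_eq_univ hd
    rw [← Subgroup.mul_normal, htop]; rfl
  have hKidx : K.index = Nat.card (P : Subgroup G) := hcompl.index_eq_card
  obtain ⟨n, hn⟩ := IsPGroup.iff_card.mp P.isPGroup'
  have h1 : (Subgroup.centralizer ({x} : Set G)).index ∣ p ^ n := by
    rw [← hn, ← hKidx]; exact Subgroup.index_dvd_of_le hKx
  have h2 : (Subgroup.centralizer ({y} : Set G)).index ∣ (P : Subgroup G).index :=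
    Subgroup.index_dvd_of_le hPy
  have hcop2 : Nat.Coprime (Subgroup.centralizer ({x} : Set G)).index
      (Subgroup.centralizer ({y} : Set G)).index := by
    have h3 : Nat.Coprime (p ^ n) (P : Subgroup G).index :=
      Nat.Coprime.pow_left n ((Nat.Prime.coprime_iff_not_dvd hp).mpr P.not_dvd_index)
    exact Nat.Coprime.of_dvd h1 h2 h3
  rw [hinf]
  apply le_antisymm Subgroup.index_inf_le
  apply Nat.le_of_dvd
  · exact Nat.pos_of_ne_zero Subgroup.index_ne_zero_of_finite
  · exact Nat.Coprime.mul_dvd_of_dvd_of_dvd hcop2 (Subgroup.index_dvd_of_le inf_le_left)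
      (Subgroup.index_dvd_of_le inf_le_right)

/-- Let p be a prime and G a finite group. Then some Sylow p-subgroup of G is a direct factor of G (normal with a normal complement) if and only if for every element x of p-power order and every element y whose order is a power of a prime other than p, the conjugacy class of x y has as many elements as the product of the sizes of the classes of x and of y. -/
theorem result {G : Type*} [Group G] [Finite G] (p : ℕ) [Fact p.Prime] : (∃ (P : Sylow p G) (K : Subgroup G), (P : Subgroup G).Normal ∧ K.Normal ∧ (P : Subgroup G) ⊓ K = ⊥ ∧ (P : Subgroup G) ⊔ K = ⊤) ↔ ∀ x y : G, (∃ a : ℕ, orderOf x = p ^ a) → (∃ q b : ℕ, q.Prime ∧ q ≠ p ∧ orderOf y = q ^ b) → (Subgroup.centralizer ({x * y} : Set G)).index = (Subgroup.centralizer ({x} : Set G)).index * (Subgroup.centralizer ({y} : Set G)).index := by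
  have hp : p.Prime := Fact.out
  constructor
  · rintro ⟨P, K, hP, hK, hdisj, htop⟩ x y ⟨a, ha⟩ ⟨q, b, hq, hqp, hy⟩
    have hx : x ∈ (P : Subgroup G) := mem_sylow_of_normal_of_orderOf p P hP ha
    have hyK : y ∈ K := mem_complement_of_orderOf p P K hP hK hdisj htop hq hqp hy
    apply index_mul_of_directFactor p P K hP hK hdisj htop x y hx hyK
    rw [ha, hy]
    exact Nat.Coprime.pow a b ((Nat.coprime_primes hp hq).mpr (Ne.symm hqp))
  · intro h
    apply (sylowDirectFactor_iff_pElementsCommute p).mpr
    intro x y hx hy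
    exact commute_of_index_mul x y (h x y hx hy)

end Cfsg.Agent.S3987
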