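import Mathlib
import Cfsg.Statements.S3992
import Cfsg.Agent.S3633
import Cfsg.Agent.S0144

set_option autoImplicit false
set_option linter.style.haveILetI false
open Cfsg

namespace Cfsg.Agent.S3992

/-- every nonidentity element has prime power order. -/
def CP (X : Type*) [Group X] : Prop := ∀ x : X, x ≠ 1 → IsPrimePow (orderOf x)

theorem CP.subgroup {X : Type*} [Group X] (h : CP X) (H : Subgroup X) : CP H := by
  intro x hx
  rw [← Subgroup.orderOf_coe]
  apply h
  intro h1
  exact hx (Subtype.ext h1)

theorem CP.quotient {X : Type*} [Group X] [Finite X] (h : CP X) (N : Subgroup X) [N.Normal] :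
    CP (X ⧸ N) := by
  intro q hq
  induction q using QuotientGroup.induction_on with
  | H g =>
    have hg1 : g ≠ 1 := by
      rintro rfl
      exact hq rfl
    obtain ⟨p, k, hp, hk, hpk⟩ := (isPrimePow_nat_iff _).mp (h g hg1)
    have hdvd : orderOf (g : X ⧸ N) ∣ p ^ k := by
      rw [hpk]
      exact orderOf_map_dvd (QuotientGroup.mk' N) g
    obtain ⟨j, hj, hjo⟩ := (Nat.dvd_prime_pow hp).mp hdvd
    rw [hjo]
    refine (isPrimePow_nat_iff _).mpr ⟨p, j, hp, ?_, rfl⟩
    rcases Nat.eq_zero_or_pos j with rfl | h0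
    · rw [pow_zero, orderOf_eq_one_iff] at hjo
      exact absurd hjo hq
    · exact h0

theorem CP.no_commuting {X : Type*} [Group X] (h : CP X) (x y : X) (hxy : Commute x y)
    (r s : ℕ) (hr : r.Prime) (hs : s.Prime) (hrs : r ≠ s) (hx : orderOf x = r)
    (hy : orderOf y = s) : False := by
  have h1 : orderOf (x * y) = r * s := by
    rw [← hx, ← hy]
    apply hxy.orderOf_mul_eq_mul_orderOf_of_coprime
    rw [hx, hy]
    exact (Nat.coprime_primes hr hs).mpr hrs
  have hne : x * y ≠ 1 := by
    intro h2
    rw [h2, orderOf_one] at h1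
    have := hr.two_le
    have := hs.two_le
    nlinarith
  obtain ⟨p, k, hp, hk, hpk⟩ := (isPrimePow_nat_iff _).mp (h _ hne)
  rw [h1] at hpk
  have hrp : r = p := by
    have : r ∣ p ^ k := by rw [hpk]; exact dvd_mul_right r s
    exact (Nat.prime_dvd_prime_iff_eq hr hp).mp (hr.dvd_of_dvd_pow this)
  have hsp : s = p := by
    have : s ∣ p ^ k := by rw [hpk]; exact dvd_mul_left s r
    exact (Nat.prime_dvd_prime_iff_eq hs hp).mp (hs.dvd_of_dvd_pow this)
  exact hrs (hrp.trans hsp.symm)

/-- two elementwise commuting subgroups of a CP group have orders that are powers of the same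
prime. -/
theorem CP.no_commuting_subgroups {X : Type*} [Group X] [Finite X] (h : CP X) (A B : Subgroup X)
    (hAB : ∀ a ∈ A, ∀ b ∈ B, Commute a b) (r s : ℕ) (hr : r.Prime) (hs : s.Prime) (hrs : r ≠ s)
    (hrA : r ∣ Nat.card A) (hsB : s ∣ Nat.card B) : False := by
  haveI : Fact r.Prime := ⟨hr⟩
  haveI : Fact s.Prime := ⟨hs⟩
  obtain ⟨a, ha⟩ := exists_prime_orderOf_dvd_card' r hrA
  obtain ⟨b, hb⟩ := exists_prime_orderOf_dvd_card' s hsB
  rw [← Subgroup.orderOf_coe] at ha hb
  exact h.no_commuting a b (hAB a a.2 b b.2) r s hr hs hrs ha hb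

/-- a finite group with at most two prime divisors is solvable. -/
theorem solvable_of_card_primeFactors_le_two {X : Type*} [Group X] [Finite X]
    (h : (Nat.card X).primeFactors.card ≤ 2) : Group.IsSolvable X := by
  have hn0 : Nat.card X ≠ 0 := Nat.card_pos.ne'
  have hprod := Nat.prod_factorization_pow_eq_self hn0
  rw [Finsupp.prod, Nat.support_factorization] at hprod
  have hc : (Nat.card X).primeFactors.card = 0 ∨ (Nat.card X).primeFactors.card = 1 ∨
      (Nat.card X).primeFactors.card = 2 := by omega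
  rcases hc with h0 | h1 | h2
  · rw [Finset.card_eq_zero] at h0
    rw [h0, Finset.prod_empty] at hprod
    exact Cfsg.Agent.S0144.result 2 3 0 0 Nat.prime_two Nat.prime_three (by rw [← hprod]; norm_num)
  · obtain ⟨p, hp⟩ := Finset.card_eq_one.mp h1
    have hpp : p.Prime := by
      have : p ∈ (Nat.card X).primeFactors := by rw [hp]; exact Finset.mem_singleton_self p
      exact Nat.prime_of_mem_primeFactors this
    rw [hp, Finset.prod_singleton] at hprod
    by_cases hp2 : p = 2
    · exact Cfsg.Agent.S0144.result p 3 ((Nat.card X).factorization p) 0 hpp Nat.prime_three (by rw [pow_zero, mul_one]; exact hprod.symm)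
    · exact Cfsg.Agent.S0144.result p 2 ((Nat.card X).factorization p) 0 hpp Nat.prime_two (by rw [pow_zero, mul_one]; exact hprod.symm)
  · obtain ⟨p, q, hpq, hp⟩ := Finset.card_eq_two.mp h2
    have hpp : p.Prime := by
      have : p ∈ (Nat.card X).primeFactors := by rw [hp]; simp
      exact Nat.prime_of_mem_primeFactors this
    have hqp : q.Prime := by
      have : q ∈ (Nat.card X).primeFactors := by rw [hp]; simp
      exact Nat.prime_of_mem_primeFactors this
    rw [hp, Finset.prod_pair hpq] at hprod
    exact Cfsg.Agent.S0144.result p q _ _ hpp hqp hprod.symm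

/-- a solvable CP group has at most two prime divisors. -/
theorem CP.card_primeFactors_le_two {X : Type*} [Group X] [Finite X] (h : CP X)
    (hs : Group.IsSolvable X) : (Nat.card X).primeFactors.card ≤ 2 := by
  by_contra hcon
  have h3 : 3 ≤ (Nat.card X).primeFactors.card := by omega
  have hc1 : ∀ r ∈ (Nat.card X).primeFactors, r.Prime ∧ r ∣ Nat.card X := fun r hr =>
    ⟨Nat.prime_of_mem_primeFactors hr, Nat.dvd_of_mem_primeFactors hr⟩
  have hc2 : ∀ r ∈ (Nat.card X).primeFactors, ∀ s ∈ (Nat.card X).primeFactors, r ≠ s →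
      ¬ ∃ x : X, orderOf x = r * s := by
    intro r hr s hs' hrs
    rintro ⟨x, hx⟩
    have hrp := Nat.prime_of_mem_primeFactors hr
    have hsp := Nat.prime_of_mem_primeFactors hs'
    have hne : x ≠ 1 := by
      rintro rfl
      rw [orderOf_one] at hx
      have := hrp.two_le
      have := hsp.two_le
      nlinarith
    obtain ⟨p, k, hp, hk, hpk⟩ := (isPrimePow_nat_iff _).mp (h x hne)
    rw [hx] at hpk
    have hrp' : r = p := by
      have : r ∣ p ^ k := by rw [hpk]; exact dvd_mul_right r s
      exact (Nat.prime_dvd_prime_iff_eq hrp hp).mp (hrp.dvd_of_dvd_pow this)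
    have hsp' : s = p := by
      have : s ∣ p ^ k := by rw [hpk]; exact dvd_mul_left s r
      exact (Nat.prime_dvd_prime_iff_eq hsp hp).mp (hsp.dvd_of_dvd_pow this)
    exact hrs (hrp'.trans hsp'.symm)
  have hbot : Group.IsSolvable (⊥ : Subgroup X) := inferInstance
  exact (Cfsg.Agent.S3633.result (Nat.card X).primeFactors h3 ⟨hc1, hc2⟩ (⊥ : Subgroup X) hbot).2 hs

/-- a nonsolvable finite group has a prime divisor different from any given prime. -/
theorem exists_other_prime {X : Type*} [Group X] [Finite X] (hns : ¬ Group.IsSolvable X)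
    (r : ℕ) (hr : r.Prime) : ∃ s : ℕ, s.Prime ∧ s ≠ r ∧ s ∣ Nat.card X := by
  by_contra hcon
  simp only [not_exists, not_and] at hcon
  haveI : Fact r.Prime := ⟨hr⟩
  have hn0 : Nat.card X ≠ 0 := Nat.card_pos.ne'
  have huniq : ∀ {d : ℕ}, d.Prime → d ∣ Nat.card X → d = r := by
    intro d hd hdvd
    by_contra hne
    exact hcon d hd hne hdvd
  have hcard := Nat.eq_prime_pow_of_unique_prime_dvd hn0 huniq
  have hp : IsPGroup r X := IsPGroup.of_card hcard
  haveI := hp.isNilpotent
  exact hns inferInstance

theorem exists_simple_min_normal {Q : Type*} [Group Q] [Finite Q] [Nontrivial Q] (hcp : CP Q)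
    (hrad : ∀ N : Subgroup Q, N.Normal → Group.IsSolvable N → N = ⊥) :
    ∃ M : Subgroup Q, M.Normal ∧ IsSimpleGroup M ∧ ¬ IsMulCommutative M ∧
      ∀ N : Subgroup Q, N.Normal → N ≠ ⊥ → M ≤ N := by
  let P : Subgroup Q → Prop := fun N => N.Normal ∧ N ≠ ⊥
  have hPtop : P ⊤ := ⟨inferInstance, top_ne_bot⟩
  obtain ⟨M, -, hMmin⟩ := exists_minimal_le_of_wellFoundedLT P ⊤ hPtop
  obtain ⟨⟨hMn, hMne⟩, hMle⟩ := hMmin
  haveI := hMn
  have hMns : ¬ Group.IsSolvable M := fun hs => hMne (hrad M hMn hs)
  haveI : Nontrivial M := (Subgroup.nontrivial_iff_ne_bot M).mpr hMne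
  have hMcp : CP M := hcp.subgroup M
  refine ⟨M, hMn, ⟨fun N' hN' => ?_⟩, ?_, ?_⟩
  · -- simplicity
    by_contra hcon
    rw [not_or] at hcon
    let P' : Subgroup M → Prop := fun T => T.Normal ∧ T ≠ ⊥
    obtain ⟨S', hS'le, hS'min⟩ := exists_minimal_le_of_wellFoundedLT P' N' ⟨hN', hcon.1⟩
    obtain ⟨⟨hS'n, hS'ne⟩, hS'le'⟩ := hS'min
    haveI := hS'n
    have hS'top : S' ≠ ⊤ := by
      intro h
      apply hcon.2
      rw [eq_top_iff, ← h]
      exact hS'le
    let cj : Q → Subgroup M := fun g => S'.map (MulAut.conjNormal g : MulAut M).toMonoidHom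
    have hcjn : ∀ g, (cj g).Normal := fun g =>
      Subgroup.Normal.map hS'n _ (MulAut.conjNormal g : MulAut M).surjective
    have hcjcard : ∀ g, Nat.card (cj g) = Nat.card S' := fun g =>
      Subgroup.card_map_of_injective (MulAut.conjNormal g : MulAut M).injective
    by_cases hall : ∀ g, cj g = S'
    · -- S' gives a normal subgroup of Q strictly inside M
      have hSn : (S'.map M.subtype).Normal := by
        constructor
        intro x hx g
        obtain ⟨x', hx', rfl⟩ := hx
        have h1 : (MulAut.conjNormal g : MulAut M) x' ∈ cj g := Subgroup.mem_map_of_mem _ hx'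
        rw [hall g] at h1
        refine ⟨_, h1, ?_⟩
        simp [MulAut.conjNormal_apply]
      have hSne : S'.map M.subtype ≠ ⊥ := by
        intro h
        apply hS'ne
        exact (Subgroup.map_eq_bot_iff_of_injective S' M.subtype_injective).mp h
      have hSM : S'.map M.subtype ≤ M := Subgroup.map_subtype_le S'
      have hMS := hMle ⟨hSn, hSne⟩ hSM
      apply hS'top
      rw [eq_top_iff]
      intro m _
      obtain ⟨x', hx', hxm⟩ := hMS m.2
      have : x' = m := Subtype.ext hxm
      rw [← this]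
      exact hx'
    · -- a conjugate different from S'
      simp only [not_forall] at hall
      obtain ⟨g, hg⟩ := hall
      have hdisj : S' ⊓ cj g = ⊥ := by
        by_contra hne
        haveI := hcjn g
        have hP : P' (S' ⊓ cj g) := ⟨inferInstance, hne⟩
        have h1 : S' ≤ S' ⊓ cj g := hS'le' hP inf_le_left
        have h2 : S' ≤ cj g := h1.trans inf_le_right
        have h3 : S' = cj g := Subgroup.eq_of_le_of_card_ge h2 (le_of_eq (hcjcard g))
        exact hg h3.symm
      have hcomm : ∀ a ∈ S', ∀ b ∈ cj g, Commute a b := fun a ha b hb =>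
        Subgroup.commute_of_normal_of_disjoint S' (cj g) hS'n (hcjn g) (disjoint_iff.mpr hdisj) a b ha hb
      -- S' is an r-group
      have hS'card1 : Nat.card S' ≠ 1 := by
        intro h
        exact hS'ne (Subgroup.card_eq_one.mp h)
      obtain ⟨r, hr, hrS⟩ := Nat.exists_prime_and_dvd hS'card1
      haveI : Fact r.Prime := ⟨hr⟩
      have hn0 : Nat.card S' ≠ 0 := Nat.card_pos.ne'
      have huniq : ∀ {d : ℕ}, d.Prime → d ∣ Nat.card S' → d = r := by
        intro d hd hdvd
        by_contra hne
        exact hMcp.no_commuting_subgroups S' (cj g) hcomm r d hr hd (Ne.symm hne) hrS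
          (by rw [hcjcard g]; exact hdvd)
      have hS'p : IsPGroup r S' := IsPGroup.of_card (Nat.eq_prime_pow_of_unique_prime_dvd hn0 huniq)
      -- the normal closure is an r-group
      obtain ⟨Pr⟩ : Nonempty (Sylow r M) := inferInstance
      have hcjle : ∀ h : Q, cj h ≤ (Pr : Subgroup M) := by
        intro h
        haveI := hcjn h
        have : IsPGroup r (cj h) := hS'p.map _
        exact this.le_sylow_of_normal Pr
      set T := Subgroup.normalClosure ((S'.map M.subtype : Subgroup Q) : Set Q) with hT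
      have hTle : T ≤ (Pr : Subgroup M).map M.subtype := by
        rw [hT, Subgroup.normalClosure, Subgroup.closure_le]
        intro y hy
        rw [Group.mem_conjugatesOfSet_iff] at hy
        obtain ⟨x, hx, hxy⟩ := hy
        obtain ⟨c, hc⟩ := isConj_iff.mp hxy
        obtain ⟨x', hx', rfl⟩ := hx
        have h1 : (MulAut.conjNormal c : MulAut M) x' ∈ cj c := Subgroup.mem_map_of_mem _ hx'
        refine ⟨_, hcjle c h1, ?_⟩
        rw [← hc]
        simp [MulAut.conjNormal_apply]
      have hTp : IsPGroup r T := (Pr.isPGroup'.map M.subtype).to_le hTle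
      haveI := hTp.isNilpotent
      have hTbot : T = ⊥ := hrad T (by rw [hT]; exact Subgroup.normalClosure_normal) inferInstance
      have hSle : S'.map M.subtype ≤ T := by rw [hT]; exact Subgroup.le_normalClosure
      rw [hTbot, le_bot_iff] at hSle
      exact hS'ne ((Subgroup.map_eq_bot_iff_of_injective S' M.subtype_injective).mp hSle)
  · -- not commutative
    intro hcomm
    apply hMns
    haveI := hcomm
    exact Group.isSolvable_of_comm (fun a b => mul_comm' a b)
  · -- contained in every nontrivial normal subgroup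
    intro N hNn hNne
    by_contra hMN
    haveI := hNn
    have hdisj : M ⊓ N = ⊥ := by
      by_contra hne
      have hP : P (M ⊓ N) := ⟨inferInstance, hne⟩
      have := hMle hP inf_le_left
      exact hMN (this.trans inf_le_right)
    have hcomm : ∀ a ∈ M, ∀ b ∈ N, Commute a b := fun a ha b hb =>
      Subgroup.commute_of_normal_of_disjoint M N hMn hNn (disjoint_iff.mpr hdisj) a b ha hb
    have hNcard1 : Nat.card N ≠ 1 := fun h => hNne (Subgroup.card_eq_one.mp h)
    obtain ⟨r, hr, hrN⟩ := Nat.exists_prime_and_dvd hNcard1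
    obtain ⟨s, hs, hsr, hsM⟩ := exists_other_prime hMns r hr
    exact hcp.no_commuting_subgroups M N hcomm s r hs hr hsr hsM hrN

theorem CP.no_order_mul {X : Type*} [Group X] (h : CP X) (r s : ℕ) (hrp : r.Prime) (hsp : s.Prime)
    (hrs : r ≠ s) : ¬ ∃ x : X, orderOf x = r * s := by
  rintro ⟨x, hx⟩
  have hne : x ≠ 1 := by
    rintro rfl
    rw [orderOf_one] at hx
    have := hrp.two_le
    have := hsp.two_le
    nlinarith
  obtain ⟨p, k, hp, hk, hpk⟩ := (isPrimePow_nat_iff _).mp (h x hne)
  rw [hx] at hpk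
  have hrp' : r = p := by
    have : r ∣ p ^ k := by rw [hpk]; exact dvd_mul_right r s
    exact (Nat.prime_dvd_prime_iff_eq hrp hp).mp (hrp.dvd_of_dvd_pow this)
  have hsp' : s = p := by
    have : s ∣ p ^ k := by rw [hpk]; exact dvd_mul_left s r
    exact (Nat.prime_dvd_prime_iff_eq hsp hp).mp (hsp.dvd_of_dvd_pow this)
  exact hrs (hrp'.trans hsp'.symm)

theorem result {G : Type*} [Group G] [Finite G] (hns : ¬ Group.IsSolvable G) (hpp : ∀ g : G, g ≠ 1 → IsPrimePow (orderOf g))
    (R : Subgroup G) [R.Normal] (hRs : Group.IsSolvable ↥R) (hRmax : ∀ N : Subgroup G, N.Normal → Group.IsSolvable ↥N → N ≤ R) :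
    (∃ p : ℕ, p.Prime ∧ IsPGroup p ↥R) ∧
      (∃ M : Subgroup (G ⧸ R), M.Normal ∧ IsSimpleGroup ↥M ∧ ¬ IsMulCommutative ↥M ∧
        ∀ N : Subgroup (G ⧸ R), N.Normal → N ≠ ⊥ → M ≤ N) ∧
      ∀ H : Subgroup G, Group.IsSolvable ↥H → (Nat.card ↥H).primeFactors.card ≤ 2 := by
  have hcp : CP G := hpp
  refine ⟨?_, ?_, ?_⟩
  · have h3 : 3 ≤ (Nat.card G).primeFactors.card := by
      by_contra hcon
      exact hns (solvable_of_card_primeFactors_le_two (by omega))
    have hc1 : ∀ r ∈ (Nat.card G).primeFactors, r.Prime ∧ r ∣ Nat.card G := fun r hr =>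
      ⟨Nat.prime_of_mem_primeFactors hr, Nat.dvd_of_mem_primeFactors hr⟩
    have hc2 : ∀ r ∈ (Nat.card G).primeFactors, ∀ s ∈ (Nat.card G).primeFactors, r ≠ s →
        ¬ ∃ x : G, orderOf x = r * s := fun r hr s hs hrs =>
      hcp.no_order_mul r s (Nat.prime_of_mem_primeFactors hr) (Nat.prime_of_mem_primeFactors hs) hrs
    have hres := (Cfsg.Agent.S3633.result (Nat.card G).primeFactors h3 ⟨hc1, hc2⟩ R hRs).1
    have hn0 : Nat.card G ≠ 0 := Nat.card_pos.ne'
    by_cases hR1 : Nat.card R = 1
    · haveI : Fact (Nat.Prime 2) := ⟨Nat.prime_two⟩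
      exact ⟨2, Nat.prime_two, IsPGroup.of_card (n := 0) (by rw [hR1, pow_zero])⟩
    · obtain ⟨p, hp, hpR⟩ := Nat.exists_prime_and_dvd hR1
      refine ⟨p, hp, ?_⟩
      haveI : Fact p.Prime := ⟨hp⟩
      apply IsPGroup.of_card (n := (Nat.card R).primeFactorsList.length)
      apply Nat.eq_prime_pow_of_unique_prime_dvd (Nat.card_pos.ne')
      intro d hd hdvd
      have hRG : Nat.card R ∣ Nat.card G := Subgroup.card_subgroup_dvd_card R
      exact hres d (Nat.mem_primeFactors.mpr ⟨hd, dvd_trans hdvd hRG, hn0⟩) p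
        (Nat.mem_primeFactors.mpr ⟨hp, dvd_trans hpR hRG, hn0⟩) hdvd hpR
  · have hrad : ∀ N : Subgroup (G ⧸ R), N.Normal → Group.IsSolvable N → N = ⊥ := by
      intro N hN hNs
      set N' := N.comap (QuotientGroup.mk' R) with hN'
      have hN'n : N'.Normal := hN.comap _
      have hRN' : R ≤ N' := by
        intro x hx
        rw [hN', Subgroup.mem_comap, QuotientGroup.mk'_apply, (QuotientGroup.eq_one_iff x).mpr hx]
        exact N.one_mem
      have hN's : Group.IsSolvable N' := by
        refine Group.isSolvable_of_ker_le_range (Subgroup.inclusion hRN')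
          ((QuotientGroup.mk' R).subgroupComap N) ?_
        intro x hx
        rw [MonoidHom.mem_ker] at hx
        have h1 : (QuotientGroup.mk' R) (x : G) = 1 := congrArg Subtype.val hx
        have h2 : (x : G) ∈ R := by
          rw [QuotientGroup.mk'_apply, QuotientGroup.eq_one_iff] at h1
          exact h1
        exact ⟨⟨(x : G), h2⟩, Subtype.ext rfl⟩
      have hle := hRmax N' hN'n hN's
      rw [eq_bot_iff]
      intro q hq
      induction q using QuotientGroup.induction_on with
      | H g =>
        have : g ∈ N' := hq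
        rw [Subgroup.mem_bot]
        exact (QuotientGroup.eq_one_iff g).mpr (hle this)
    haveI : Nontrivial (G ⧸ R) := by
      by_contra hcon
      rw [not_nontrivial_iff_subsingleton] at hcon
      apply hns
      have htop : R = ⊤ := by
        rw [eq_top_iff]
        intro g _
        have : (g : G ⧸ R) = 1 := Subsingleton.elim _ _
        exact (QuotientGroup.eq_one_iff g).mp this
      have : Group.IsSolvable (⊤ : Subgroup G) := htop ▸ hRs
      exact Group.isSolvable_of_surjective (f := (⊤ : Subgroup G).subtype)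
        (fun g => ⟨⟨g, trivial⟩, rfl⟩)
    exact exists_simple_min_normal (hcp.quotient R) hrad
  · intro H hH
    exact (hcp.subgroup H).card_primeFactors_le_two hH

end Cfsg.Agent.S3992
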