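import Cfsg.Statements.S3999
import Cfsg.Agent.S3997
import Cfsg.Agent.S3359
import Cfsg.Agent.Lib.Helper03.OTFF4
import Cfsg.Agent.Lib.Helper13.OTFHall
import Cfsg.Agent.Lib.Helper14.OTFNS5b
import Cfsg.Agent.Lib.Helper18.OTFArith
import Cfsg.Agent.Lib.Helper23.OTFF3
import Cfsg.Agent.Lib.Helper42.OTFF1
import Cfsg.Agent.Lib.Helper52.OTFG2
import Cfsg.Agent.Lib.Helper54.OTFCNT5
import Cfsg.Agent.Lib.Helper60.OTFNS5c
import Cfsg.Agent.Lib.Helper62.OTFF2
import Cfsg.Agent.Lib.Helper65.OTFSolv
import Cfsg.Agent.Lib.Helper94.OTFG1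

set_option autoImplicit false
open Cfsg

namespace Cfsg.Agent.S3999

theorem solvable_card_order_five_ne {D : Type*} [Group D] [Finite D] (hs : Group.IsSolvable D)
    (h5 : (Nat.card D).factorization 5 = 1) :
    Nat.card {x : D // orderOf x = 5} ≠ 24 := by
  intro h24
  haveI : Fact (Nat.Prime 5) := ⟨by norm_num⟩
  obtain ⟨l, hl, hgood⟩ := Cfsg.Agent.Lib.Helper13.OTF.hall_card_sylow_of_solvable hs 5
  have h := Cfsg.Agent.Lib.Helper54.OTF.card_order_five_eq_four_mul h5
  rw [h24] at h
  have h6 : Nat.card (Sylow 5 D) = 6 := by omega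
  rw [h6] at hl
  exact Cfsg.Agent.Lib.Helper18.OTF.six_not_hall_product l hl hgood

theorem nonsolvable_complement_five {L : Type*} [Group L] [Finite L] (H : Subgroup L)
    (hH : Cfsg.IsFrobeniusComplement H) (hns : ¬ Group.IsSolvable H) :
    (Nat.card H).factorization 5 = 1 ∧ Nat.card {x : H // orderOf x = 5} = 24 :=
  Cfsg.Agent.Lib.Helper14.OTF.card_order_five_of_structure (Cfsg.Agent.S3359.result hns (Cfsg.Agent.Lib.Helper60.OTF.hFC_of_isFrobeniusComplement H hH))

/-- Let F be a finite Frobenius group (it has a Frobenius complement) and G a finite group with the same order type as F (for every m the same number of elements of order m). Then G is a Frobenius group; moreover G is solvable if and only if F is. -/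
theorem result {F G : Type*} [Group F] [Finite F] [Group G] [Finite G] (hF : (∃ C : Subgroup F, Cfsg.IsFrobeniusComplement C)) (hT : (∀ m : ℕ, Nat.card {g : F // orderOf g = m} = Nat.card {h : G // orderOf h = m})) :
    (∃ C : Subgroup G, Cfsg.IsFrobeniusComplement C) ∧ (Group.IsSolvable G ↔ Group.IsSolvable F) := by
  obtain ⟨C, hC⟩ := hF
  obtain ⟨e, he⟩ := Cfsg.Agent.S3997.exists_equiv hT
  obtain ⟨hco, hk, hc⟩ := Cfsg.Agent.Lib.Helper62.OTF.frob_coprime C hC
  have hcardF : Nat.card F = C.index * Nat.card C := (Subgroup.index_mul_card C).symm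
  have hcardG : Nat.card G = C.index * Nat.card C := by
    rw [← hcardF]; exact (Nat.card_congr e).symm
  have hordG : ∀ y : G, orderOf y ∣ C.index ∨ orderOf y ∣ Nat.card C := by
    intro y
    have h := Cfsg.Agent.Lib.Helper42.OTF.frob_order_dvd C hC (e.symm y)
    rwa [← he (e.symm y), e.apply_symm_apply] at h
  have hpG : ∀ p : ℕ, p.Prime → p ∣ C.index →
      Nat.card {x : G // ∃ j : ℕ, orderOf x = p ^ j} = p ^ (C.index.factorization p) := by
    intro p hp hpk
    haveI := Fact.mk hp
    rw [← Cfsg.Agent.Lib.Helper23.OTF.frob_card_pElts C hC p hpk]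
    exact (Nat.card_congr (e.subtypeEquiv (fun x => by rw [he]))).symm
  obtain ⟨N, hNn, hN⟩ := Cfsg.Agent.Lib.Helper94.OTF.exists_normal_hall C.index (Nat.card C) hcardG hco hpG
  obtain ⟨D, hD, hDc⟩ :=
    Cfsg.Agent.Lib.Helper52.OTF.exists_frobenius_complement C.index (Nat.card C) hcardG hco hk hc N hNn hN hordG
  refine ⟨⟨D, hD⟩, ?_⟩
  rw [Cfsg.Agent.Lib.Helper65.OTF.frob_solvable_iff D hD, Cfsg.Agent.Lib.Helper65.OTF.frob_solvable_iff C hC]
  have hDi : D.index = C.index := by
    have h := Subgroup.index_mul_card D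
    rw [hDc, hcardG] at h
    exact Nat.eq_of_mul_eq_mul_right (by omega) h
  have key : ∀ m : ℕ, m ∣ Nat.card C → m ≠ 1 →
      Nat.card {x : C // orderOf x = m} = Nat.card {x : D // orderOf x = m} := by
    intro m hm hm1
    have h1 := Cfsg.Agent.Lib.Helper03.OTF.frob_card_order_eq C hC m hm hm1
    have h2 := Cfsg.Agent.Lib.Helper03.OTF.frob_card_order_eq D hD m (hDc ▸ hm) hm1
    rw [hDi] at h2
    have h3 : Nat.card {x : F // orderOf x = m} = Nat.card {x : G // orderOf x = m} := hT m
    rw [h1, h2] at h3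
    exact Nat.eq_of_mul_eq_mul_left (by omega) h3
  have dvd5 : ∀ n : ℕ, n.factorization 5 = 1 → 5 ∣ n := by
    intro n hn
    by_contra h
    rw [Nat.factorization_eq_zero_of_not_dvd h] at hn
    exact absurd hn (by norm_num)
  constructor
  · intro hDs
    by_contra hCs
    obtain ⟨h5, h24⟩ := nonsolvable_complement_five C hC hCs
    have h := key 5 (dvd5 _ h5) (by norm_num)
    exact solvable_card_order_five_ne hDs (by rw [hDc]; exact h5) (by rw [← h]; exact h24)
  · intro hCs
    by_contra hDs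
    obtain ⟨h5, h24⟩ := nonsolvable_complement_five D hD hDs
    rw [hDc] at h5
    have h := key 5 (dvd5 _ h5) (by norm_num)
    exact solvable_card_order_five_ne hCs h5 (by rw [h]; exact h24)

end Cfsg.Agent.S3999
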