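import Cfsg.Statements.S4001
import Cfsg.Agent.Lib.Helper01.FrobPackage
import Cfsg.Agent.Lib.Helper69.Nilpotent
import Cfsg.Agent.Lib.Helper14.NilpHall
import Cfsg.Agent.S0068
import Cfsg.Agent.S0040
import Cfsg.Agent.S0041

set_option autoImplicit false
set_option linter.style.haveILetI false
open Cfsg
open Cfsg.Agent.Lib.Helper01

namespace Cfsg.Agent.S4001

open scoped Pointwise

section aux
variable {G : Type*} [Group G]

/-- a power of an element of order divisible by a prime has that prime order -/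
theorem orderOf_pow_div [Finite G] {p : ℕ} (hp : p.Prime) (x : G) (hx : p ∣ orderOf x) :
    orderOf (x ^ (orderOf x / p)) = p := by
  have hpos : 0 < orderOf x := orderOf_pos x
  have hne : orderOf x / p ≠ 0 := by
    intro h
    rw [Nat.div_eq_zero_iff] at h
    rcases h with h | h
    · exact hp.ne_zero h
    · exact absurd (Nat.le_of_dvd hpos hx) (not_le.mpr h)
  rw [orderOf_pow_of_dvd hne (Nat.div_dvd_of_dvd hx)]
  exact Nat.div_div_self hx hpos.ne'

/-- commuting elements with orders divisible by distinct primes give an element of order `p * q` -/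
theorem exists_orderOf_mul [Finite G] {p q : ℕ} (hp : p.Prime) (hq : q.Prime) (hpq : p ≠ q)
    (a b : G) (hab : a * b = b * a) (ha : p ∣ orderOf a) (hb : q ∣ orderOf b) :
    ∃ g : G, orderOf g = p * q := by
  refine ⟨a ^ (orderOf a / p) * b ^ (orderOf b / q), ?_⟩
  have hc : Commute (a ^ (orderOf a / p)) (b ^ (orderOf b / q)) :=
    (show Commute a b from hab).pow_pow _ _
  rw [hc.orderOf_mul_eq_mul_orderOf_of_coprime, orderOf_pow_div hp a ha, orderOf_pow_div hq b hb]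
  rw [orderOf_pow_div hp a ha, orderOf_pow_div hq b hb]
  exact (Nat.coprime_primes hp hq).mpr hpq

/-- The `p`-part of the centre of a normal subgroup `H`, as a subgroup of the ambient group. -/
def zp (H : Subgroup G) (p : ℕ) : Subgroup G where
  carrier := {x | x ∈ H ∧ (∀ h ∈ H, h * x = x * h) ∧ ∃ k : ℕ, x ^ (p ^ k) = 1}
  one_mem' := ⟨H.one_mem, fun h _ => by simp, 0, by simp⟩
  mul_mem' := by
    rintro a b ⟨ha, hac, ka, hka⟩ ⟨hb, hbc, kb, hkb⟩
    refine ⟨H.mul_mem ha hb, fun h hh => ?_, ka + kb, ?_⟩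
    · rw [← mul_assoc, hac h hh, mul_assoc, hbc h hh, mul_assoc]
    · have hcomm : Commute a b := hbc a ha
      rw [hcomm.mul_pow, pow_add, pow_mul, hka, one_pow, mul_comm (p ^ ka), pow_mul, hkb, one_pow,
        one_mul]
  inv_mem' := by
    rintro a ⟨ha, hac, ka, hka⟩
    refine ⟨H.inv_mem ha, fun h hh => ?_, ka, by rw [inv_pow, hka, inv_one]⟩
    have := hac h hh
    calc h * a⁻¹ = a⁻¹ * (a * h) * a⁻¹ := by group
      _ = a⁻¹ * (h * a) * a⁻¹ := by rw [this]
      _ = a⁻¹ * h := by group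

theorem mem_zp (H : Subgroup G) (p : ℕ) (x : G) :
    x ∈ zp H p ↔ x ∈ H ∧ (∀ h ∈ H, h * x = x * h) ∧ ∃ k : ℕ, x ^ (p ^ k) = 1 := Iff.rfl

instance zp_normal (H : Subgroup G) [hH : H.Normal] (p : ℕ) : (zp H p).Normal := by
  constructor
  rintro x ⟨hx, hxc, k, hk⟩ g
  refine ⟨hH.conj_mem x hx g, fun h hh => ?_, k, ?_⟩
  · have h1 : g⁻¹ * h * g ∈ H := by
      have := hH.conj_mem h hh g⁻¹
      simpa using this
    have h2 := hxc _ h1
    calc h * (g * x * g⁻¹) = g * (g⁻¹ * h * g * x) * g⁻¹ := by group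
      _ = g * (x * (g⁻¹ * h * g)) * g⁻¹ := by rw [h2]
      _ = g * x * g⁻¹ * h := by group
  · rw [conj_pow, hk]; group

theorem zp_le (H : Subgroup G) (p : ℕ) : zp H p ≤ H := fun _ hx => hx.1

theorem zp_comm (H : Subgroup G) (p : ℕ) (a b : zp H p) : a * b = b * a :=
  Subtype.ext (b.2.2.1 a.1 a.2.1)

/-- the action of `G ⧸ H` on the `p`-part of the centre of `H` -/
noncomputable def rho (H : Subgroup G) [H.Normal] (p : ℕ) : G ⧸ H →* MulAut (zp H p) :=
  QuotientGroup.lift H (MulAut.conjNormal (H := zp H p)) (by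
    intro h hh
    rw [MonoidHom.mem_ker]
    ext v
    rw [MulAut.conjNormal_apply]
    have := v.2.2.1 h hh
    rw [this]
    simp)

theorem rho_mk (H : Subgroup G) [H.Normal] (p : ℕ) (g : G) (v : zp H p) :
    ((rho H p (QuotientGroup.mk' H g) v : zp H p) : G) = g * v * g⁻¹ := by
  rw [← MulAut.conjNormal_apply]
  rfl

/-- in a finite nilpotent normal subgroup whose order is divisible by `p`, the `p`-part of the
centre is nontrivial -/
theorem exists_mem_zp [Finite G] (H : Subgroup G) (hHnil : Group.IsNilpotent H) {p : ℕ}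
    (hp : p.Prime) (hpH : p ∣ Nat.card H) : ∃ z ∈ zp H p, z ≠ 1 := by
  haveI := Fact.mk hp
  obtain P : Sylow p H := default
  have hPbot : (P : Subgroup H) ≠ ⊥ := P.ne_bot_of_dvd_card hpH
  obtain ⟨x, hxP, hxZ, hx1⟩ := Lib.Helper69.exists_mem_center_of_normal (P : Subgroup H) hPbot
  refine ⟨x.1, ⟨x.2, fun h hh => ?_, ?_⟩, fun h => hx1 (Subtype.ext h)⟩
  · rw [Subgroup.mem_center_iff] at hxZ
    exact congrArg Subtype.val (hxZ ⟨h, hh⟩)
  · obtain ⟨k, hk⟩ := P.isPGroup' ⟨x, hxP⟩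
    refine ⟨k, ?_⟩
    have h1 := congrArg Subtype.val hk
    have h2 := congrArg Subtype.val h1
    simpa using h2

end aux

/-- the mixed case: a prime dividing `|H|` and a prime dividing `|G : K|` are joined -/
theorem mixed {G : Type*} [Group G] [Finite G] (H K : Subgroup G) [H.Normal] [K.Normal]
    (hHK : H ≤ K) (hHnil : Group.IsNilpotent H)
    (hcentH : ∀ h ∈ H, h ≠ 1 → ∀ k ∈ K, k * h = h * k → k ∈ H)
    (C₂ : Subgroup (G ⧸ H)) (hC₂ : Cfsg.IsFrobeniusComplement C₂)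
    (pkg₂ : FrobPkg C₂ (K.map (QuotientGroup.mk' H)))
    (p q : ℕ) (hp : p.Prime) (hq : q.Prime) (hpq : p ≠ q) (hpH : p ∣ Nat.card H)
    (hqC : q ∣ Nat.card C₂) (hpN : ¬ p ∣ Nat.card (K.map (QuotientGroup.mk' H))) :
    ∃ g : G, orderOf g = p * q := by
  classical
  haveI := Fact.mk hp
  haveI := Fact.mk hq
  obtain ⟨z, hzV, hz1⟩ := exists_mem_zp H hHnil hp hpH
  set V := zp H p with hV
  set N₂ := K.map (QuotientGroup.mk' H) with hN₂
  obtain ⟨y, hy⟩ := exists_prime_orderOf_dvd_card' (G := C₂) q hqC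
  have hyo : orderOf (y : G ⧸ H) = q := by rw [Subgroup.orderOf_coe, hy]
  set D := Subgroup.zpowers (y : G ⧸ H) with hD
  have hDC : D ≤ C₂ := by rw [hD, Subgroup.zpowers_le]; exact y.2
  have hDbot : D ≠ ⊥ := by
    intro h
    rw [hD, Subgroup.zpowers_eq_bot] at h
    rw [h, orderOf_one] at hyo
    exact hq.one_lt.ne hyo
  obtain ⟨hT, hTidx⟩ := frob_sub C₂ N₂ hC₂ pkg₂ D hDC hDbot
  set Y := N₂ ⊔ D with hY
  letI : CommGroup V := { (inferInstance : Group V) with mul_comm := zp_comm H p }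
  letI : MulDistribMulAction Y V := MulDistribMulAction.compHom V ((rho H p).comp Y.subtype)
  have hsmul : ∀ (x : Y) (v : V), x • v = rho H p (x : G ⧸ H) v := fun x v => rfl
  have hex : ∃ x : Y, x ≠ 1 ∧ ∃ v : V, x • v = v ∧ v ≠ 1 := by
    by_contra hne
    have hfpf : ∀ x : Y, x ≠ 1 → ∀ a : V, x • a = a → a = 1 := by
      intro x hx a ha
      by_contra ha1
      exact hne ⟨x, hx, a, ha, ha1⟩
    have h1 := pow_index_eq_one_of_fpf hfpf _ hT (⟨z, hzV⟩ : V)
    rw [hTidx] at h1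
    have h2 : z ^ Nat.card N₂ = 1 := congrArg Subtype.val h1
    obtain ⟨k, hk⟩ := hzV.2.2
    have h3 : orderOf z ∣ Nat.card N₂ := orderOf_dvd_of_pow_eq_one h2
    have h4 : orderOf z ∣ p ^ k := orderOf_dvd_of_pow_eq_one hk
    have hcop : (Nat.card N₂).Coprime (p ^ k) :=
      Nat.Coprime.pow_right k ((Nat.Prime.coprime_iff_not_dvd hp).mpr hpN).symm
    have : orderOf z = 1 := Nat.eq_one_of_dvd_coprimes hcop h3 h4
    exact hz1 (orderOf_eq_one_iff.mp this)
  obtain ⟨x, hx1, v, hxv, hv1⟩ := hex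
  obtain ⟨g, hg⟩ := QuotientGroup.mk'_surjective H (x : G ⧸ H)
  have hgv : g * (v : G) * g⁻¹ = v := by
    rw [← rho_mk H p g v, hg, ← hsmul, hxv]
  have hgv' : g * (v : G) = v * g := by
    calc g * (v : G) = g * v * g⁻¹ * g := by group
      _ = v * g := by rw [hgv]
  have hvH : (v : G) ∈ H := v.2.1
  have hv1' : (v : G) ≠ 1 := fun h => hv1 (Subtype.ext h)
  have hgK : g ∉ K := by
    intro hgK
    have := hcentH v hvH hv1' g hgK hgv'
    apply hx1
    apply Subtype.ext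
    rw [← hg]
    show (QuotientGroup.mk' H g) = 1
    rw [QuotientGroup.mk'_apply, QuotientGroup.eq_one_iff]; exact this
  set ψ : G ⧸ H →* G ⧸ K := QuotientGroup.map H K (MonoidHom.id G) hHK with hψ
  have hψmk : ∀ a : G, ψ (QuotientGroup.mk' H a) = QuotientGroup.mk' K a := fun a => rfl
  have hψN : ∀ n ∈ N₂, ψ n = 1 := by
    rintro n ⟨k, hk, rfl⟩
    rw [hψmk, QuotientGroup.mk'_apply, QuotientGroup.eq_one_iff]; exact hk
  have hgq : (QuotientGroup.mk' K g) ^ q = 1 := by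
    obtain ⟨n, hn, d, hd, hxnd⟩ : ∃ n ∈ N₂, ∃ d ∈ D, (x : G ⧸ H) = n * d := by
      have h2 : (x : G ⧸ H) ∈ ((N₂ ⊔ D : Subgroup (G ⧸ H)) : Set (G ⧸ H)) := x.2
      haveI := pkg₂.normal
      rw [Subgroup.normal_mul] at h2
      obtain ⟨n, hn, d, hd, h⟩ := Set.mem_mul.mp h2
      exact ⟨n, hn, d, hd, h.symm⟩
    rw [← hψmk, hg, hxnd, map_mul, hψN n hn, one_mul, ← map_pow]
    obtain ⟨i, rfl⟩ := Subgroup.mem_zpowers_iff.mp hd
    rw [← zpow_natCast, ← zpow_mul, mul_comm, zpow_mul, zpow_natCast, ← hyo, pow_orderOf_eq_one,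
      one_zpow, map_one]
  have hgne : QuotientGroup.mk' K g ≠ 1 := by
    rw [QuotientGroup.mk'_apply, Ne, QuotientGroup.eq_one_iff]; exact hgK
  have hoq : orderOf (QuotientGroup.mk' K g) = q := by
    have := orderOf_dvd_of_pow_eq_one hgq
    rcases (Nat.dvd_prime hq).mp this with h | h
    · exact absurd (orderOf_eq_one_iff.mp h) hgne
    · exact h
  have hqg : q ∣ orderOf g := by rw [← hoq]; exact orderOf_map_dvd _ g
  have hpv : p ∣ orderOf (v : G) := by
    obtain ⟨k, hk⟩ := v.2.2.2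
    obtain ⟨j, hj, hjo⟩ := (Nat.dvd_prime_pow hp).mp (orderOf_dvd_of_pow_eq_one hk)
    rw [hjo]
    have : j ≠ 0 := by
      rintro rfl
      rw [pow_zero, orderOf_eq_one_iff] at hjo
      exact hv1' hjo
    exact dvd_pow_self p this
  obtain ⟨w, hw⟩ := exists_orderOf_mul hq hp hpq.symm g v hgv' hqg hpv
  exact ⟨w, by rw [hw, mul_comm]⟩

/-- Let G be a 2-Frobenius group: it has normal subgroups H < K with K a Frobenius group with kernel H and G/H a Frobenius group with kernel K/H. Then G is solvable; K/H has odd order coprime to the order of H and to the order of G/K (it is the image of an odd-order Hall subgroup); G/K is cyclic; and the prime graph of G has exactly two connected components, both complete: for distinct primes p, q dividing the order of G, G has an element of order pq exactly when p and q either both divide the order of K/H or both do not. -/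
theorem result {G : Type*} [Group G] [Finite G] (H K : Subgroup G) [H.Normal] [K.Normal] (hlt : H < K)
    (hK : ∃ C : Subgroup ↥K, Cfsg.IsFrobeniusComplement C ∧ Cfsg.frobeniusKernel C = (H.subgroupOf K : Set ↥K))
    (hGH : ∃ C : Subgroup (G ⧸ H), Cfsg.IsFrobeniusComplement C ∧ Cfsg.frobeniusKernel C = (K.map (QuotientGroup.mk' H) : Set (G ⧸ H))) :
    Group.IsSolvable G ∧ Odd (Nat.card (↥K ⧸ H.subgroupOf K)) ∧
      Nat.Coprime (Nat.card (↥K ⧸ H.subgroupOf K)) (Nat.card ↥H * Nat.card (G ⧸ K)) ∧ IsCyclic (G ⧸ K) ∧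
      ∀ p q : ℕ, p.Prime → q.Prime → p ≠ q → p ∣ Nat.card G → q ∣ Nat.card G →
        ((∃ g : G, orderOf g = p * q) ↔ (p ∣ Nat.card (↥K ⧸ H.subgroupOf K) ↔ q ∣ Nat.card (↥K ⧸ H.subgroupOf K))) := by
  classical
  obtain ⟨C₁, hC₁, hker₁⟩ := hK
  obtain ⟨C₂, hC₂, hker₂⟩ := hGH
  have hHK : H ≤ K := hlt.le
  set N₁ : Subgroup ↥K := H.subgroupOf K with hN₁
  set N₂ : Subgroup (G ⧸ H) := K.map (QuotientGroup.mk' H) with hN₂
  have pkg₁ : FrobPkg C₁ N₁ := frobPkg_of C₁ N₁ hC₁ hker₁.symm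
  have pkg₂ : FrobPkg C₂ N₂ := frobPkg_of C₂ N₂ hC₂ hker₂.symm
  haveI hN₁n : N₁.Normal := pkg₁.normal
  haveI hN₂n : N₂.Normal := pkg₂.normal
  set π := QuotientGroup.mk' H with hπ
  set φ : C₁ →* G ⧸ H := π.comp (K.subtype.comp C₁.subtype) with hφ
  have hφapp : ∀ c : C₁, φ c = π ((c : ↥K) : G) := fun c => rfl
  have hφinj : Function.Injective φ := by
    rw [injective_iff_map_eq_one]
    intro c hc
    rw [hφapp, hπ, QuotientGroup.mk'_apply, QuotientGroup.eq_one_iff] at hc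
    have h1 : (c : ↥K) ∈ N₁ := by rw [hN₁, Subgroup.mem_subgroupOf]; exact hc
    exact Subtype.ext (pkg₁.disj _ h1 c.2)
  have hφmem : ∀ c : C₁, φ c ∈ N₂ := fun c => ⟨((c : ↥K) : G), (c : ↥K).2, rfl⟩
  have hφsurj : ∀ x ∈ N₂, ∃ c : C₁, φ c = x := by
    rintro x ⟨k, hk, rfl⟩
    obtain ⟨n, hn, c, hc, h⟩ := pkg₁.decomp ⟨k, hk⟩
    refine ⟨⟨c, hc⟩, ?_⟩
    rw [hφapp]
    have hk' : k = (n : G) * (c : G) := congrArg Subtype.val h
    rw [hk', map_mul]
    have : π (n : G) = 1 := by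
      rw [hπ, QuotientGroup.mk'_apply, QuotientGroup.eq_one_iff]
      exact Subgroup.mem_subgroupOf.mp hn
    rw [this, one_mul]
  let e : C₁ ≃* N₂ := MulEquiv.ofBijective (φ.codRestrict N₂ hφmem)
    ⟨fun a b hab => hφinj (congrArg Subtype.val hab), fun x => by
      obtain ⟨c, hc⟩ := hφsurj x.1 x.2
      exact ⟨c, Subtype.ext hc⟩⟩
  set b := Nat.card (↥K ⧸ H.subgroupOf K) with hb
  have hbC₁ : Nat.card C₁ = b := by
    have := pkg₁.compl.symm.index_eq_card
    rw [← this]; rfl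
  have hbN₂ : Nat.card N₂ = b := by rw [← hbC₁]; exact (Nat.card_congr e.toEquiv).symm
  have hcardN₁ : Nat.card N₁ = Nat.card H :=
    Nat.card_congr (Subgroup.subgroupOfEquivOfLe hHK).toEquiv
  let e₂ : (G ⧸ H) ⧸ N₂ ≃* G ⧸ K := QuotientGroup.quotientQuotientEquivQuotient H K hHK
  have hcC₂ : Nat.card C₂ = Nat.card (G ⧸ K) := by
    rw [← Nat.card_congr e₂.toEquiv]
    have := pkg₂.compl.symm.index_eq_card
    rw [← this]; rfl
  have hcop : Nat.Coprime b (Nat.card H * Nat.card (G ⧸ K)) := by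
    apply Nat.Coprime.mul_right
    · rw [← hbC₁, ← hcardN₁]; exact pkg₁.cop
    · rw [← hbN₂, ← hcC₂]; exact pkg₂.cop.symm
  have hodd : Odd b := by
    rw [← Nat.not_even_iff_odd]
    intro heven
    have h2 : 2 ∣ Nat.card C₁ := by rw [hbC₁]; exact heven.two_dvd
    obtain ⟨⟨s, hsC, hso, huniq, -⟩, -⟩ :=
      Cfsg.Agent.S0068.result N₁ C₁ pkg₁.compl pkg₁.N_ne pkg₁.fpf h2
    set sb := φ ⟨s, hsC⟩ with hsb
    have hsbo : orderOf sb = 2 := by
      rw [hsb, orderOf_injective φ hφinj, ← hso, ← Subgroup.orderOf_coe]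
    have hsbN : sb ∈ N₂ := hφmem _
    have hsb1 : sb ≠ 1 := by
      intro h
      rw [h, orderOf_one] at hsbo
      norm_num at hsbo
    obtain ⟨c, hc⟩ := (Subgroup.ne_bot_iff_exists_ne_one (H := C₂)).mp pkg₂.C_ne
    have hc1 : (c : G ⧸ H) ≠ 1 := fun h => hc (Subtype.ext h)
    have hconj : (c : G ⧸ H) * sb * (c : G ⧸ H)⁻¹ = sb := by
      have h1 : (c : G ⧸ H) * sb * (c : G ⧸ H)⁻¹ ∈ N₂ := hN₂n.conj_mem sb hsbN c
      obtain ⟨t, ht⟩ := hφsurj _ h1
      have hto : orderOf (t : ↥K) = 2 := by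
        rw [Subgroup.orderOf_coe, ← orderOf_injective φ hφinj, ht, ← MulAut.conj_apply,
          MulEquiv.orderOf_eq]
        exact hsbo
      have := huniq t t.2 hto
      rw [← ht, hsb]
      congr 1
      exact Subtype.ext this
    have hmem : sb ∈ N₂ ⊓ Subgroup.centralizer ({(c : G ⧸ H)} : Set (G ⧸ H)) := by
      refine ⟨hsbN, ?_⟩
      show sb ∈ Subgroup.centralizer ({(c : G ⧸ H)} : Set (G ⧸ H))
      rw [Subgroup.mem_centralizer_iff]
      intro y hy
      rw [Set.mem_singleton_iff] at hy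
      subst hy
      calc (c : G ⧸ H) * sb = c * sb * (c : G ⧸ H)⁻¹ * c := by group
        _ = sb * c := by rw [hconj]
    rw [pkg₂.fpf c c.2 hc1, Subgroup.mem_bot] at hmem
    exact hsb1 hmem
  haveI hZ₁ : IsZGroup C₁ := by
    refine ⟨fun p hp P => ?_⟩
    haveI := Fact.mk hp
    rcases Cfsg.Agent.S0040.result N₁ C₁ pkg₁.compl pkg₁.N_ne pkg₁.fpf p P with h | ⟨n, ⟨eq⟩⟩
    · exact h
    · exfalso
      have h1 : Nat.card P = 4 * 2 ^ n := by
        haveI : NeZero (2 ^ n) := ⟨pow_ne_zero n two_ne_zero⟩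
        rw [Nat.card_congr eq.toEquiv, Nat.card_eq_fintype_card, QuaternionGroup.card]
      have h2 : 2 ∣ Nat.card C₁ :=
        dvd_trans ⟨2 * 2 ^ n, by rw [h1]; ring⟩ (Subgroup.card_subgroup_dvd_card (P : Subgroup C₁))
      rw [hbC₁] at h2
      exact (Nat.not_even_iff_odd.mpr hodd) (even_iff_two_dvd.mpr h2)
  haveI hZ₂ : IsZGroup N₂ := IsZGroup.of_surjective (f := e.toMonoidHom) e.surjective
  haveI := pkg₂.nilp
  haveI hcyc₂ : IsCyclic N₂ := inferInstance
  haveI hcyc₁ : IsCyclic C₁ := isCyclic_of_surjective e.symm.toMonoidHom e.symm.surjective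
  obtain ⟨n₀', hn₀'⟩ := IsCyclic.exists_generator (α := N₂)
  set n₀ : G ⧸ H := n₀'.1 with hn₀
  have hn₀N : n₀ ∈ N₂ := n₀'.2
  have hgen : ∀ n ∈ N₂, ∃ i : ℤ, n₀ ^ i = n := by
    intro n hn
    obtain ⟨i, hi⟩ := Subgroup.mem_zpowers_iff.mp (hn₀' ⟨n, hn⟩)
    refine ⟨i, ?_⟩
    have := congrArg Subtype.val hi
    simpa using this
  have hn₀1 : n₀ ≠ 1 := by
    intro h
    apply pkg₂.N_ne
    rw [eq_bot_iff]
    intro n hn
    obtain ⟨i, hi⟩ := hgen n hn
    rw [Subgroup.mem_bot, ← hi, h, one_zpow]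
  have hconjpow : ∀ c : G ⧸ H, ∃ i : ℤ, c * n₀ * c⁻¹ = n₀ ^ i := by
    intro c
    obtain ⟨i, hi⟩ := hgen _ (hN₂n.conj_mem n₀ hn₀N c)
    exact ⟨i, hi.symm⟩
  have hC₂comm : ∀ c ∈ C₂, ∀ d ∈ C₂, c * d = d * c := by
    intro c hc d hd
    obtain ⟨i, hi⟩ := hconjpow c
    obtain ⟨j, hj⟩ := hconjpow d
    have h1 : (c * d) * n₀ * (c * d)⁻¹ = (d * c) * n₀ * (d * c)⁻¹ := by
      have e1 : (c * d) * n₀ * (c * d)⁻¹ = c * (d * n₀ * d⁻¹) * c⁻¹ := by group
      have e2 : (d * c) * n₀ * (d * c)⁻¹ = d * (c * n₀ * c⁻¹) * d⁻¹ := by group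
      rw [e1, e2, hj, hi, ← conj_zpow, ← conj_zpow, hi, hj, ← zpow_mul, ← zpow_mul, mul_comm]
    set w := (d * c)⁻¹ * (c * d) with hw
    have hwC : w ∈ C₂ := C₂.mul_mem (C₂.inv_mem (C₂.mul_mem hd hc)) (C₂.mul_mem hc hd)
    by_contra hne
    have hw1 : w ≠ 1 := by
      intro h
      apply hne
      have : c * d = (d * c) * w := by rw [hw]; group
      rw [this, h, mul_one]
    have hmem : n₀ ∈ N₂ ⊓ Subgroup.centralizer ({w} : Set (G ⧸ H)) := by
      refine ⟨hn₀N, ?_⟩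
      show n₀ ∈ Subgroup.centralizer ({w} : Set (G ⧸ H))
      rw [Subgroup.mem_centralizer_iff]
      intro y hy
      rw [Set.mem_singleton_iff] at hy
      rw [hy]
      have h3 : (d * c)⁻¹ * ((c * d) * n₀ * (c * d)⁻¹) * (d * c) = n₀ := by rw [h1]; group
      calc w * n₀ = (d * c)⁻¹ * ((c * d) * n₀ * (c * d)⁻¹) * (d * c) * w := by rw [hw]; group
        _ = n₀ * w := by rw [h3]
    rw [pkg₂.fpf w hwC hw1, Subgroup.mem_bot] at hmem
    exact hn₀1 hmem
  haveI : IsMulCommutative C₂ := ⟨⟨fun a b => Subtype.ext (hC₂comm a.1 a.2 b.1 b.2)⟩⟩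
  haveI : IsMulCommutative N₂ := ⟨⟨fun a b => by
    letI := IsCyclic.commGroup (α := N₂)
    exact mul_comm a b⟩⟩
  haveI hcycC₂ : IsCyclic C₂ := Cfsg.Agent.S0041.result C₂ N₂ pkg₂.N_ne
    (by rw [Subgroup.normalizer_eq_top]; exact le_top) pkg₂.fpf (Or.inl inferInstance)
  have hcycGK : IsCyclic (G ⧸ K) := by
    let f : C₂ →* G ⧸ K := (e₂.toMonoidHom.comp (QuotientGroup.mk' N₂)).comp C₂.subtype
    apply isCyclic_of_surjective f
    intro x
    obtain ⟨x', rfl⟩ := e₂.surjective x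
    obtain ⟨x'', rfl⟩ := QuotientGroup.mk'_surjective N₂ x'
    obtain ⟨n, hn, c, hc, h⟩ := pkg₂.decomp x''
    refine ⟨⟨c, hc⟩, ?_⟩
    show e₂ (QuotientGroup.mk' N₂ c) = e₂ (QuotientGroup.mk' N₂ x'')
    congr 1
    rw [h, map_mul]
    have : QuotientGroup.mk' N₂ n = 1 := by
      rw [QuotientGroup.mk'_apply, QuotientGroup.eq_one_iff]; exact hn
    rw [this, one_mul]
  have hHnil : Group.IsNilpotent H := by
    haveI := pkg₁.nilp
    exact Group.nilpotent_of_surjective (Subgroup.subgroupOfEquivOfLe hHK).toMonoidHom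
      (Subgroup.subgroupOfEquivOfLe hHK).surjective
  have hsolv : Group.IsSolvable G := by
    haveI : Group.IsSolvable H := inferInstance
    haveI : Group.IsSolvable N₂ := inferInstance
    haveI : Group.IsSolvable (G ⧸ K) := inferInstance
    haveI : Group.IsSolvable ((G ⧸ H) ⧸ N₂) :=
      Group.isSolvable_of_isSolvable_injective (f := e₂.toMonoidHom) e₂.injective
    haveI : Group.IsSolvable (G ⧸ H) :=
      Group.isSolvable_of_ker_le_range N₂.subtype (QuotientGroup.mk' N₂)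
        (by rw [QuotientGroup.ker_mk', Subgroup.range_subtype])
    exact Group.isSolvable_of_ker_le_range H.subtype (QuotientGroup.mk' H)
      (by rw [QuotientGroup.ker_mk', Subgroup.range_subtype])
  have hcardG : Nat.card G = Nat.card H * b * Nat.card (G ⧸ K) := by
    have h1 : Nat.card G = Nat.card (G ⧸ K) * Nat.card K :=
      Subgroup.card_eq_card_quotient_mul_card_subgroup K
    have h2 : Nat.card K = Nat.card (↥K ⧸ N₁) * Nat.card N₁ :=
      Subgroup.card_eq_card_quotient_mul_card_subgroup N₁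
    rw [h1, h2, hcardN₁]; ring
  have hcentH : ∀ h ∈ H, h ≠ 1 → ∀ k ∈ K, k * h = h * k → k ∈ H := by
    intro h hh h1 k hk hkh
    have := pkg₁.cent_le ⟨h, hHK hh⟩ (Subgroup.mem_subgroupOf.mpr hh)
      (fun e => h1 (congrArg Subtype.val e)) ⟨k, hk⟩ (Subtype.ext hkh)
    exact Subgroup.mem_subgroupOf.mp this
  have nogo : ∀ p q : ℕ, p.Prime → q.Prime → p ∣ b → ¬ q ∣ b →
      ¬ ∃ g : G, orderOf g = p * q := by
    rintro p q hp hq hpb hqb ⟨g, hg⟩
    set u := g ^ q with hu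
    set w := g ^ p with hw
    have huo : orderOf u = p := by
      rw [hu, orderOf_pow_of_dvd hq.ne_zero (by rw [hg]; exact dvd_mul_left q p), hg,
        Nat.mul_div_cancel _ hq.pos]
    have hwo : orderOf w = q := by
      rw [hw, orderOf_pow_of_dvd hp.ne_zero (by rw [hg]; exact dvd_mul_right p q), hg,
        Nat.mul_div_cancel_left _ hp.pos]
    have huw : w * u = u * w := by rw [hu, hw, ← pow_add, ← pow_add, add_comm]
    have hu1 : u ≠ 1 := by
      intro h
      rw [h, orderOf_one] at huo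
      exact hp.one_lt.ne huo
    have hw1 : w ≠ 1 := by
      intro h
      rw [h, orderOf_one] at hwo
      exact hq.one_lt.ne hwo
    have hpH : ¬ p ∣ Nat.card H := fun h =>
      hp.one_lt.ne' (Nat.eq_one_of_dvd_coprimes hcop hpb (dvd_mul_of_dvd_left h _))
    have hpGK : ¬ p ∣ Nat.card (G ⧸ K) := fun h =>
      hp.one_lt.ne' (Nat.eq_one_of_dvd_coprimes hcop hpb (dvd_mul_of_dvd_right h _))
    have huK : u ∈ K := by
      rw [← QuotientGroup.eq_one_iff, ← orderOf_eq_one_iff]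
      have h1 : orderOf ((u : G) : G ⧸ K) ∣ p := by
        rw [← huo]; exact orderOf_map_dvd (QuotientGroup.mk' K) u
      have h2 : orderOf ((u : G) : G ⧸ K) ∣ Nat.card (G ⧸ K) := orderOf_dvd_natCard _
      rcases (Nat.dvd_prime hp).mp h1 with h | h
      · exact h
      · exact absurd (h ▸ h2) hpGK
    have huH : u ∉ H := by
      intro h
      apply hpH
      rw [← huo]; exact Subgroup.orderOf_dvd_natCard H h
    have hπu : π u ∈ N₂ := ⟨u, huK, rfl⟩
    have hπu1 : π u ≠ 1 := by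
      rw [hπ, QuotientGroup.mk'_apply, Ne, QuotientGroup.eq_one_iff]; exact huH
    have hπw : π w ∈ N₂ :=
      pkg₂.cent_le (π u) hπu hπu1 (π w) (by rw [← map_mul, ← map_mul, huw])
    have hwH : w ∈ H := by
      rw [← QuotientGroup.eq_one_iff, ← orderOf_eq_one_iff]
      have h1 : orderOf (π w) ∣ q := by rw [← hwo]; exact orderOf_map_dvd π w
      have h2 : orderOf (π w) ∣ b := by
        rw [← hbN₂]; exact Subgroup.orderOf_dvd_natCard N₂ hπw
      rcases (Nat.dvd_prime hq).mp h1 with h | h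
      · exact h
      · exact absurd (h ▸ h2) hqb
    exact huH (hcentH w hwH hw1 u huK huw.symm)
  have pos_neither : ∀ p q : ℕ, p.Prime → q.Prime → p ≠ q → p ∣ Nat.card G → q ∣ Nat.card G →
      ¬ p ∣ b → ¬ q ∣ b → ∃ g : G, orderOf g = p * q := by
    intro p q hp hq hpq hpG hqG hpb hqb
    have hsplit : ∀ r : ℕ, r.Prime → r ∣ Nat.card G → ¬ r ∣ b →
        r ∣ Nat.card H ∨ r ∣ Nat.card (G ⧸ K) := by
      intro r hr hrG hrb
      rw [hcardG] at hrG
      rcases (Nat.Prime.dvd_mul hr).mp hrG with h | h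
      · rcases (Nat.Prime.dvd_mul hr).mp h with h | h
        · exact Or.inl h
        · exact absurd h hrb
      · exact Or.inr h
    rcases hsplit p hp hpG hpb with hpH | hpc <;> rcases hsplit q hq hqG hqb with hqH | hqc
    · haveI := Fact.mk hp
      haveI := Fact.mk hq
      obtain ⟨x, hx⟩ := exists_prime_orderOf_dvd_card' (G := H) p hpH
      obtain ⟨y, hy⟩ := exists_prime_orderOf_dvd_card' (G := H) q hqH
      have hxo : orderOf (x : G) = p := by rw [Subgroup.orderOf_coe, hx]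
      have hyo : orderOf (y : G) = q := by rw [Subgroup.orderOf_coe, hy]
      have hcomm := Lib.Helper14.commute_of_mem_nilpotent hHnil x.2 y.2
        (by rw [hxo, hyo]; exact (Nat.coprime_primes hp hq).mpr hpq)
      exact exists_orderOf_mul hp hq hpq x y hcomm (by rw [hxo]) (by rw [hyo])
    · exact mixed H K hHK hHnil hcentH C₂ hC₂ pkg₂ p q hp hq hpq hpH
        (by rw [hcC₂]; exact hqc) (by rw [hbN₂]; exact hpb)
    · obtain ⟨g, hg⟩ := mixed H K hHK hHnil hcentH C₂ hC₂ pkg₂ q p hq hp hpq.symm hqH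
        (by rw [hcC₂]; exact hpc) (by rw [hbN₂]; exact hqb)
      exact ⟨g, by rw [hg, mul_comm]⟩
    · obtain ⟨y, hy⟩ := IsCyclic.exists_ofOrder_eq_natCard (α := G ⧸ K)
      obtain ⟨g, rfl⟩ := QuotientGroup.mk'_surjective K y
      have hpq_dvd : p * q ∣ orderOf g := by
        have h1 : p * q ∣ Nat.card (G ⧸ K) :=
          Nat.Coprime.mul_dvd_of_dvd_of_dvd ((Nat.coprime_primes hp hq).mpr hpq) hpc hqc
        rw [← hy] at h1
        exact dvd_trans h1 (orderOf_map_dvd _ g)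
      exact exists_orderOf_mul hp hq hpq g g rfl (dvd_trans (dvd_mul_right p q) hpq_dvd)
        (dvd_trans (dvd_mul_left q p) hpq_dvd)
  have pos_both : ∀ p q : ℕ, p.Prime → q.Prime → p ≠ q → p ∣ b → q ∣ b →
      ∃ g : G, orderOf g = p * q := by
    intro p q hp hq hpq hpb hqb
    obtain ⟨y, hy⟩ := IsCyclic.exists_ofOrder_eq_natCard (α := C₁)
    rw [hbC₁] at hy
    have hyo : orderOf (((y : ↥K)) : G) = b := by
      rw [Subgroup.orderOf_coe, Subgroup.orderOf_coe, hy]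
    exact exists_orderOf_mul hp hq hpq _ _ rfl (by rw [hyo]; exact hpb) (by rw [hyo]; exact hqb)
  refine ⟨hsolv, hodd, hcop, hcycGK, ?_⟩
  intro p q hp hq hpq hpG hqG
  constructor
  · intro hex
    by_cases hpb : p ∣ b
    · by_cases hqb : q ∣ b
      · exact ⟨fun _ => hqb, fun _ => hpb⟩
      · exact absurd hex (nogo p q hp hq hpb hqb)
    · by_cases hqb : q ∣ b
      · obtain ⟨g, hg⟩ := hex
        exact absurd ⟨g, by rw [hg, mul_comm]⟩ (nogo q p hq hp hqb hpb)
      · exact ⟨fun h => absurd h hpb, fun h => absurd h hqb⟩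
  · intro hiff
    by_cases hpb : p ∣ b
    · exact pos_both p q hp hq hpq hpb (hiff.mp hpb)
    · exact pos_neither p q hp hq hpq hpG hqG hpb (fun h => hpb (hiff.mpr h))

end Cfsg.Agent.S4001
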