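import Mathlib
import Cfsg.Statements.S4002
import Cfsg.Agent.S3633

set_option autoImplicit false
open Cfsg

namespace Cfsg.Agent.S4002

/-- three primes up to `n` whose pairwise products exceed `n`. -/
theorem exists_three_primes (n : ℕ) (hn : 7 ≤ n) :
    ∃ p q r : ℕ, p.Prime ∧ q.Prime ∧ r.Prime ∧ p < q ∧ q < r ∧ r ≤ n ∧ n < p * q := by
  by_cases h1 : n ≤ 14
  · exact ⟨3, 5, 7, by norm_num, by norm_num, by norm_num, by norm_num, by norm_num, hn, by omega⟩
  by_cases h2 : n ≤ 34
  · exact ⟨5, 7, 11, by norm_num, by norm_num, by norm_num, by norm_num, by norm_num, by omega, by omega⟩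
  by_cases h3 : n ≤ 63
  · exact ⟨7, 11, 13, by norm_num, by norm_num, by norm_num, by norm_num, by norm_num, by omega, by omega⟩
  -- Bertrand
  set s := Nat.sqrt n with hs
  have hs1 : s * s ≤ n := Nat.sqrt_le n
  have hs2 : n < (s + 1) * (s + 1) := Nat.lt_succ_sqrt n
  have hs8 : 8 ≤ s := by
    by_contra hcon
    have : s + 1 ≤ 8 := by omega
    have : (s + 1) * (s + 1) ≤ 8 * 8 := Nat.mul_le_mul this this
    omega
  obtain ⟨p, hp, hsp, hp2⟩ := Nat.exists_prime_lt_and_le_two_mul s (by omega)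
  obtain ⟨q, hq, hpq, hq2⟩ := Nat.exists_prime_lt_and_le_two_mul p (by omega)
  obtain ⟨r, hr, hqr, hr2⟩ := Nat.exists_prime_lt_and_le_two_mul q (by omega)
  refine ⟨p, q, r, hp, hq, hr, hpq, hqr, ?_, ?_⟩
  · have : r ≤ 8 * s := by omega
    have h8 : 8 * s ≤ s * s := Nat.mul_le_mul_right s hs8
    omega
  · have h5 : (s + 1) * (s + 1) ≤ p * q := Nat.mul_le_mul (by omega) (by omega)
    omega

theorem result {G : Type*} [Group G] [Finite G] (n : ℕ) (hn : 7 ≤ n) (h : Set.range (orderOf : G → ℕ) = {k : ℕ | 1 ≤ k ∧ k ≤ n}) : ¬ Group.IsSolvable G := by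
  obtain ⟨p, q, r, hp, hq, hr, hpq, hqr, hrn, hnpq⟩ := exists_three_primes n hn
  have hmem : ∀ k : ℕ, 1 ≤ k → k ≤ n → ∃ g : G, orderOf g = k := by
    intro k h1 h2
    have : k ∈ Set.range (orderOf : G → ℕ) := by rw [h]; exact ⟨h1, h2⟩
    exact this
  have hle : ∀ g : G, orderOf g ≤ n := by
    intro g
    have : orderOf g ∈ Set.range (orderOf : G → ℕ) := ⟨g, rfl⟩
    rw [h] at this
    exact this.2
  have hdvd : ∀ k : ℕ, 1 ≤ k → k ≤ n → k ∣ Nat.card G := by
    intro k h1 h2
    obtain ⟨g, hg⟩ := hmem k h1 h2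
    rw [← hg]
    exact orderOf_dvd_natCard g
  have hp1 := hp.one_lt
  have hρ : 3 ≤ ({p, q, r} : Finset ℕ).card := by
    rw [Finset.card_insert_of_notMem, Finset.card_insert_of_notMem, Finset.card_singleton]
    · simp only [Finset.mem_singleton]; omega
    · simp only [Finset.mem_insert, Finset.mem_singleton]; omega
  have hc1 : ∀ x ∈ ({p, q, r} : Finset ℕ), x.Prime ∧ x ∣ Nat.card G := by
    intro x hx
    simp only [Finset.mem_insert, Finset.mem_singleton] at hx
    rcases hx with rfl | rfl | rfl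
    · exact ⟨hp, hdvd _ (by omega) (by omega)⟩
    · exact ⟨hq, hdvd _ (by omega) (by omega)⟩
    · exact ⟨hr, hdvd _ (by omega) (by omega)⟩
  have hc2 : ∀ x ∈ ({p, q, r} : Finset ℕ), ∀ y ∈ ({p, q, r} : Finset ℕ), x ≠ y →
      ¬ ∃ g : G, orderOf g = x * y := by
    intro x hx y hy hxy
    rintro ⟨g, hg⟩
    have h1 := hle g
    rw [hg] at h1
    have key : n < x * y := by
      simp only [Finset.mem_insert, Finset.mem_singleton] at hx hy
      have hqr' : p * q ≤ p * r := Nat.mul_le_mul_left p (by omega)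
      have hqr'' : p * q ≤ q * r := Nat.mul_le_mul (by omega) (by omega)
      rcases hx with rfl | rfl | rfl <;> rcases hy with rfl | rfl | rfl
      · exact absurd rfl hxy
      · exact hnpq
      · omega
      · rw [mul_comm]; exact hnpq
      · exact absurd rfl hxy
      · omega
      · rw [mul_comm]; omega
      · rw [mul_comm]; omega
      · exact absurd rfl hxy
    omega
  have hbot : Group.IsSolvable (⊥ : Subgroup G) := inferInstance
  exact (Cfsg.Agent.S3633.result ({p, q, r} : Finset ℕ) hρ ⟨hc1, hc2⟩ (⊥ : Subgroup G) hbot).2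

end Cfsg.Agent.S4002
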