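import Cfsg.Statements.S4004
import Cfsg.Agent.S3995
import Cfsg.Agent.S3994
import Cfsg.Agent.S0039
import Cfsg.Agent.Lib.Helper22.NseDefs
import Cfsg.Agent.Lib.Helper61.NseA
import Cfsg.Agent.Lib.Helper04.BurnsidePQ
import Cfsg.Agent.Lib.Helper05.N3Defs
import Cfsg.Agent.Lib.Helper98.N3W
import Cfsg.Agent.Lib.Helper21.N3B
import Cfsg.Agent.Lib.Helper81.N3A2
import Cfsg.Agent.Lib.Helper61.N3A3
import Cfsg.Agent.Lib.Helper63.N3C2a
import Cfsg.Agent.Lib.Helper62.N3C2b
import Cfsg.Agent.Lib.Helper29.N3C1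
import Cfsg.Agent.Lib.Helper21.N3C4a
import Cfsg.Agent.Lib.Helper80.N3C4b
import Cfsg.Agent.Lib.Helper47.N3C4d
import Cfsg.Agent.Lib.Helper21.N3L0
import Cfsg.Agent.Lib.Helper44.N3A4
import Cfsg.Agent.Lib.Helper30.N3C3
import Cfsg.Agent.Lib.Helper95.N3C4c
-- import your own Cfsg.Agent.* helpers here

set_option autoImplicit false
open Cfsg

namespace Cfsg.Agent.S4004

open Cfsg.Agent.Lib.Helper05.N3 Cfsg.Agent.Lib.Helper22.Nse
open Cfsg.Agent.S3995 (s)
open Cfsg.Agent.Lib.Helper98.N3 (weisnerHyp_of_group)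
open Cfsg.Agent.Lib.Helper21.N3 (prime_val)
open Cfsg.Agent.Lib.Helper81.N3 (no_mixed)
open Cfsg.Agent.Lib.Helper61.N3 (moebius_values)
open Cfsg.Agent.Lib.Helper63.N3 (pq_zero)
open Cfsg.Agent.Lib.Helper62.N3 (spectrum_alpha)
open Cfsg.Agent.Lib.Helper29.N3 (pq_count_ge)
open Cfsg.Agent.Lib.Helper21.N3 (exists_normal_abelian)
open Cfsg.Agent.Lib.Helper80.N3 (sylow_card_prime)
open Cfsg.Agent.Lib.Helper47.N3 (frobenius_of_self_normalizing)
open Cfsg.Agent.Lib.Helper21.N3 (exists_values)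
open Cfsg.Agent.Lib.Helper44.N3 (one_class_false)
open Cfsg.Agent.Lib.Helper30.N3 (exponent_sylow)
open Cfsg.Agent.Lib.Helper95.N3 (normalizer_zpowers_le)

/-! ## Glue (architect) -/

theorem ctx_symm {N : ℕ} {S : ℕ → ℕ} {m n : ℕ} (C : Ctx N S m n) : Ctx N S n m := by
  refine ⟨?_, C.W, C.odd, C.n1, C.m1, C.mn.symm⟩
  have h : ({1, n, m} : Finset ℕ) = {1, m, n} := by
    ext x; simp only [Finset.mem_insert, Finset.mem_singleton]; tauto
  rw [h]; exact C.H

theorem same_class_false {N : ℕ} {S : ℕ → ℕ} {m n : ℕ} (C : Ctx N S m n) {p q : ℕ} (hp : p.Prime) (hq : q.Prime)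
    (hpq : p ≠ q) (hpN : p ∣ N) (hqN : q ∣ N) (h1 : S p = m) (h2 : S q = m) : False := by
  have hall : ∀ t : ℕ, t.Prime → t ∣ N → S t = m := by
    intro t ht htN
    rcases (prime_val C ht htN).1 with h | h
    · exact h
    · exfalso
      have hpt : p ≠ t := by rintro rfl; exact C.mn (h1.symm.trans h)
      have hqt : q ≠ t := by rintro rfl; exact C.mn (h2.symm.trans h)
      exact no_mixed C hp hq ht hpq hpt hqt hpN hqN htN h1 h2 h
  obtain ⟨hsq, hval⟩ := moebius_values C hp hq hpq hpN hqN hall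
  exact one_class_false C hp hq hpq hpN hqN hall hsq hval

theorem partA {N : ℕ} {S : ℕ → ℕ} {m n : ℕ} (C : Ctx N S m n) :
    (∀ p q : ℕ, p.Prime → q.Prime → p ∣ N → q ∣ N → p ≠ q → S p ≠ S q) ∧ N.primeFactors.card ≤ 2 := by
  have key : ∀ p q : ℕ, p.Prime → q.Prime → p ∣ N → q ∣ N → p ≠ q → S p ≠ S q := by
    intro p q hp hq hpN hqN hpq heq
    rcases (prime_val C hp hpN).1 with h | h
    · exact same_class_false C hp hq hpq hpN hqN h (heq ▸ h)
    · exact same_class_false (ctx_symm C) hp hq hpq hpN hqN h (heq ▸ h)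
  refine ⟨key, ?_⟩
  by_contra hcon
  have h3 : 2 < N.primeFactors.card := by omega
  obtain ⟨a, b, c, ha, hb, hc, hab, hac, hbc⟩ := Finset.two_lt_card_iff.mp h3
  have pa := Nat.prime_of_mem_primeFactors ha
  have pb := Nat.prime_of_mem_primeFactors hb
  have pc := Nat.prime_of_mem_primeFactors hc
  have da := Nat.dvd_of_mem_primeFactors ha
  have db := Nat.dvd_of_mem_primeFactors hb
  have dc := Nat.dvd_of_mem_primeFactors hc
  have kab := key a b pa pb da db hab
  have kac := key a c pa pc da dc hac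
  have kbc := key b c pb pc db dc hbc
  rcases (prime_val C pa da).1 with h1 | h1 <;> rcases (prime_val C pb db).1 with h2 | h2 <;>
    rcases (prime_val C pc dc).1 with h3 | h3 <;> simp_all

theorem frob_core {G : Type*} [Group G] [Finite G] (r r' : ℕ) (hr : r.Prime) (hr' : r'.Prime) (hrr : r ≠ r')
    (hord : ∀ g : G, orderOf g = 1 ∨ orderOf g = r ∨ orderOf g = r')
    (hrG : r ∣ Nat.card G) (hr'G : r' ∣ Nat.card G)
    (V : Subgroup G) (hVn : V.Normal) (hV : V ≠ ⊥) (hVr : IsPGroup r V) (hVc : ∀ a ∈ V, ∀ b ∈ V, a * b = b * a) :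
    ∃ C : Subgroup G, Cfsg.IsFrobeniusComplement C ∧ (Nat.card ↥C).Prime := by
  have : Fact r'.Prime := ⟨hr'⟩
  have hQ : ∀ Q : Sylow r' G, Nat.card Q = r' := fun Q =>
    sylow_card_prime r r' hr hrr hord V hVn hV hVr hVc hr'G Q
  obtain ⟨c, hc⟩ := exists_prime_orderOf_dvd_card' r' hr'G
  have hN := normalizer_zpowers_le r r' hr hrr hord V hVn hV hVr hVc hQ c hc
  have hF := frobenius_of_self_normalizing r r' hr hrr hord hrG hQ c hc hN
  refine ⟨Subgroup.zpowers c, hF, ?_⟩
  rw [Nat.card_zpowers, hc]; exact hr'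

theorem partC {G : Type*} [Group G] [Finite G] {m n : ℕ} (C : Ctx (Nat.card G) (s G) m n) {p q : ℕ}
    (hp : p.Prime) (hq : q.Prime) (hpq : p ≠ q) (hpf : (Nat.card G).primeFactors = {p, q})
    (h1 : s G p = m) (h2 : s G q = n) :
    (∀ (r : ℕ) [Fact r.Prime] (P : Sylow r G), r ∣ Nat.card G → Monoid.exponent ↥(P : Subgroup G) = r) ∧
      ∃ C' : Subgroup G, Cfsg.IsFrobeniusComplement C' ∧ (Nat.card ↥C').Prime := by
  have hpN : p ∣ Nat.card G := Nat.dvd_of_mem_primeFactors (by rw [hpf]; simp)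
  have hqN : q ∣ Nat.card G := Nat.dvd_of_mem_primeFactors (by rw [hpf]; simp)
  have honly : ∀ t : ℕ, t.Prime → t ∣ Nat.card G → t = p ∨ t = q := by
    intro t ht htN
    have : t ∈ (Nat.card G).primeFactors := Nat.mem_primeFactors.mpr ⟨ht, htN, Nat.card_pos.ne'⟩
    rw [hpf] at this; simpa using this
  have hβ : s G q % p = 1 → s G p * (q - 1) ≤ s G (p * q) := pq_count_ge p q hp hq hpq
  have hγ : s G p % q = 1 → s G q * (p - 1) ≤ s G (p * q) := by
    intro h; have := pq_count_ge q p hq hp hpq.symm h; rwa [mul_comm q p] at this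
  obtain ⟨h0, hpn, hqm⟩ := pq_zero C hp hq hpq hpN hqN h1 h2 hβ hγ
  have hspec := spectrum_alpha C hp hq hpq hpN hqN honly h1 h2 h0 hpn hqm
  have hord : ∀ g : G, orderOf g = 1 ∨ orderOf g = p ∨ orderOf g = q := fun g =>
    hspec _ ((Cfsg.Agent.S3995.s_ne_zero_iff _).mpr ⟨g, rfl⟩)
  refine ⟨fun r _ P hr => exponent_sylow p q hpq hord r P hr (honly r Fact.out hr) hp hq, ?_⟩
  have hcard : Nat.card G = p ^ (Nat.card G).factorization p * q ^ (Nat.card G).factorization q := by
    conv_lhs => rw [← Nat.prod_factorization_pow_eq_self (Nat.card_pos (α := G)).ne']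
    rw [Finsupp.prod, Nat.support_factorization, hpf, Finset.prod_pair hpq]
  have hs : Group.IsSolvable G := Cfsg.Agent.Lib.Helper04.burnside_paqb p q _ _ hp hq hcard
  have : Nontrivial G := by
    rw [← Finite.one_lt_card_iff_nontrivial]
    exact lt_of_lt_of_le hp.one_lt (Nat.le_of_dvd Nat.card_pos hpN)
  obtain ⟨r, V, hr, hVn, hV, hVr, hVc⟩ := exists_normal_abelian hs
  have hrpq : r = p ∨ r = q := by
    obtain ⟨⟨v, hvV⟩, hv1'⟩ := (Subgroup.ne_bot_iff_exists_ne_one).mp hV
    have hv1 : v ≠ 1 := fun h => hv1' (Subtype.ext h)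
    obtain ⟨k, hk⟩ := hVr ⟨v, hvV⟩
    have hdvd : orderOf v ∣ r ^ k := by
      apply orderOf_dvd_of_pow_eq_one
      have := congrArg Subtype.val hk
      simpa using this
    have hne : orderOf v ≠ 1 := fun h => hv1 (orderOf_eq_one_iff.mp h)
    rcases hord v with h | h | h
    · exact absurd h hne
    · left; rw [h] at hdvd
      exact ((Nat.prime_dvd_prime_iff_eq hp hr).mp (hp.dvd_of_dvd_pow hdvd)).symm
    · right; rw [h] at hdvd
      exact ((Nat.prime_dvd_prime_iff_eq hq hr).mp (hq.dvd_of_dvd_pow hdvd)).symm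
  rcases hrpq with rfl | rfl
  · exact frob_core r q hr hq hpq hord hpN hqN V hVn hV hVr hVc
  · refine frob_core r p hr hp hpq.symm (fun g => ?_) hqN hpN V hVn hV hVr hVc
    rcases hord g with h | h | h
    · exact Or.inl h
    · exact Or.inr (Or.inr h)
    · exact Or.inr (Or.inl h)

theorem main_aux {G : Type*} [Group G] [Finite G] (hodd : Odd (Nat.card G)) (h : (((fun m : ℕ => Nat.card {g : G // orderOf g = m}) '' Set.range (orderOf : G → ℕ))).ncard = 3) :
    (Nat.card G).primeFactors.card ≤ 2 ∧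
      ((Nat.card G).primeFactors.card = 2 →
        (∀ (p : ℕ) [Fact p.Prime] (P : Sylow p G), p ∣ Nat.card G → Monoid.exponent ↥(P : Subgroup G) = p) ∧
        ∃ C : Subgroup G, Cfsg.IsFrobeniusComplement C ∧ (Nat.card ↥C).Prime) := by
  obtain ⟨m, n, hm1, hn1, hmn, hset⟩ := exists_values h
  have H := Cfsg.Agent.Lib.Helper61.Nse.nseHyp_of_group ({1, m, n} : Finset ℕ) hset
  have C : Ctx (Nat.card G) (s G) m n := ⟨H, weisnerHyp_of_group, hodd, hm1, hn1, hmn⟩
  obtain ⟨hdiff, hcard⟩ := partA C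
  refine ⟨hcard, fun h2 => ?_⟩
  obtain ⟨p, q, hpq, hpf⟩ := Finset.card_eq_two.mp h2
  have hpm : p ∈ (Nat.card G).primeFactors := by rw [hpf]; simp
  have hqm : q ∈ (Nat.card G).primeFactors := by rw [hpf]; simp
  have hp := Nat.prime_of_mem_primeFactors hpm
  have hq := Nat.prime_of_mem_primeFactors hqm
  have hpN := Nat.dvd_of_mem_primeFactors hpm
  have hqN := Nat.dvd_of_mem_primeFactors hqm
  have hne := hdiff p q hp hq hpN hqN hpq
  rcases (prime_val C hp hpN).1 with h1 | h1 <;> rcases (prime_val C hq hqN).1 with h2 | h2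
  · exact absurd (h1.trans h2.symm) hne
  · exact partC C hp hq hpq hpf h1 h2
  · exact partC (ctx_symm C) hp hq hpq hpf h1 h2
  · exact absurd (h1.trans h2.symm) hne

/-- Let G be a finite group of odd order in which the numbers of elements of each order that occurs (the numbers #{g : o(g) = m}, m ranging over the element orders of G) take exactly three different values. Then the order of G has at most two prime divisors; and if it has exactly two, then every Sylow subgroup of G for a prime dividing its order has prime exponent, G is a Frobenius group, and some Frobenius complement of G has prime order. -/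
theorem result {G : Type*} [Group G] [Finite G] (hodd : Odd (Nat.card G)) (h : (((fun m : ℕ => Nat.card {g : G // orderOf g = m}) '' Set.range (orderOf : G → ℕ))).ncard = 3) :
    (Nat.card G).primeFactors.card ≤ 2 ∧
      ((Nat.card G).primeFactors.card = 2 →
        (∀ (p : ℕ) [Fact p.Prime] (P : Sylow p G), p ∣ Nat.card G → Monoid.exponent ↥(P : Subgroup G) = p) ∧
        ∃ C : Subgroup G, Cfsg.IsFrobeniusComplement C ∧ (Nat.card ↥C).Prime) := by
  exact main_aux hodd h

end Cfsg.Agent.S4004
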