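import Mathlib
import Cfsg.Statements.S4005
import Cfsg.Agent.S0144
import Cfsg.Agent.Lib.Helper71.InvolutionAction

set_option autoImplicit false
set_option linter.style.haveILetI false
open Cfsg

namespace Cfsg.Agent.S4005

open Cfsg.Agent.Lib.Helper71

theorem ring_lemma {R : Type*} [Ring R] (h2 : (1 : R) + 1 = 0) (X Y : R)
    (hX : X * X = 1 + X) (hY : Y * Y = 1 + Y) (hXY : (X * Y) * (X * Y) = 1 + X * Y)
    (hX2Y : (X * X * Y) * (X * X * Y) = 1 + X * X * Y) : (1 : R) = 0 := by
  have hadd : ∀ r : R, r + r = 0 := by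
    intro r
    have : r + r = (1 + 1) * r := by noncomm_ring
    rw [this, h2, zero_mul]
  have hneg : ∀ r : R, -r = r := fun r => neg_eq_of_add_eq_zero_left (hadd r)
  have hY3 : Y * (Y * Y) = 1 := by
    rw [hY, mul_add, mul_one, hY]
    have : Y + (1 + Y) = 1 + (Y + Y) := by abel
    rw [this, hadd, add_zero]
  have e1 : X * X * Y = Y + X * Y := by rw [hX, add_mul, one_mul]
  rw [e1] at hX2Y
  have e2 : (Y + X * Y) * (Y + X * Y) = Y * Y + Y * X * Y + X * (Y * Y) + (X * Y) * (X * Y) := by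
    noncomm_ring
  rw [e2, hY, hXY, mul_add, mul_one] at hX2Y
  have e3 : Y * X * Y = 1 + X + X * Y := by
    have h1 : Y * X * Y = (1 + Y + Y * X * Y + (X + X * Y) + (1 + X * Y)) - (1 + Y + (X + X * Y) + (1 + X * Y)) := by
      abel
    rw [h1, hX2Y, sub_eq_add_neg, hneg]
    have h3 : 1 + (Y + X * Y) + (1 + Y + (X + X * Y) + (1 + X * Y)) = 1 + X + X * Y + ((1 + 1) + ((Y + Y) + (X * Y + X * Y))) := by abel
    rw [h3, hadd 1, hadd Y, hadd (X * Y)]
    abel
  have e4 : X * (Y * X * Y) = 1 + X * Y := by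
    rw [← hXY]; noncomm_ring
  rw [e3, mul_add, mul_add, mul_one, ← mul_assoc, hX] at e4
  have e5 : (1 + X) * Y = X * Y := by
    have h1 : (1 + X) * Y = (X + (1 + X) + (1 + X) * Y) - (X + (1 + X)) := by abel
    rw [h1, e4, sub_eq_add_neg, hneg]
    have h3 : 1 + X * Y + (X + (1 + X)) = X * Y + ((1 + 1) + (X + X)) := by abel
    rw [h3, hadd 1, hadd X]
    abel
  have e6 : Y = 0 := by
    have : Y = (1 + X) * Y - X * Y := by noncomm_ring
    rw [this, e5, sub_self]
  rw [e6, zero_mul] at hY3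
  exact hY3.symm

section
variable {G : Type*} [Group G]

/-- no element of order six. -/
theorem no6 (hord : ∀ g : G, orderOf g = 1 ∨ orderOf g = 2 ∨ orderOf g = 3) (u v : G)
    (huv : Commute u v) (hu : u ^ 2 = 1) (hv : v ^ 3 = 1) : u = 1 ∨ v = 1 := by
  by_contra hcon
  rw [not_or] at hcon
  haveI : Fact (Nat.Prime 2) := ⟨Nat.prime_two⟩
  haveI : Fact (Nat.Prime 3) := ⟨Nat.prime_three⟩
  have h2 : orderOf u = 2 := orderOf_eq_prime hu hcon.1
  have h3 : orderOf v = 3 := orderOf_eq_prime hv hcon.2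
  have h6 : orderOf (u * v) = 2 * 3 := by
    rw [← h2, ← h3]
    apply huv.orderOf_mul_eq_mul_orderOf_of_coprime
    rw [h2, h3]
    norm_num
  rcases hord (u * v) with h | h | h <;> omega

theorem sq_eq_one_of_pow_four (hord : ∀ g : G, orderOf g = 1 ∨ orderOf g = 2 ∨ orderOf g = 3)
    (w : G) (hw : w ^ 4 = 1) : w ^ 2 = 1 := by
  have h1 : orderOf w ∣ 4 := orderOf_dvd_of_pow_eq_one hw
  rcases hord w with h | h | h
  · rw [orderOf_eq_one_iff] at h
    rw [h, one_pow]
  · rw [← h]
    exact pow_orderOf_eq_one w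
  · rw [h] at h1
    omega

theorem sq_or_cube (hord : ∀ g : G, orderOf g = 1 ∨ orderOf g = 2 ∨ orderOf g = 3) (g : G) :
    g ^ 2 = 1 ∨ g ^ 3 = 1 := by
  rcases hord g with h | h | h
  · rw [orderOf_eq_one_iff] at h
    left; rw [h, one_pow]
  · left; rw [← h]; exact pow_orderOf_eq_one g
  · right; rw [← h]; exact pow_orderOf_eq_one g


theorem inv_eq_self_of_sq (g : G) (hg : g ^ 2 = 1) : g⁻¹ = g := by
  rw [pow_two] at hg
  exact inv_eq_of_mul_eq_one_left hg

theorem comm_of_sq (a b : G) (ha : a ^ 2 = 1) (hb : b ^ 2 = 1) (hab : (a * b) ^ 2 = 1) :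
    a * b = b * a := by
  have h1 := inv_eq_self_of_sq (a * b) hab
  rw [mul_inv_rev, inv_eq_self_of_sq a ha, inv_eq_self_of_sq b hb] at h1
  exact h1.symm

open scoped IsMulCommutative in
theorem caseII [Finite G] (hord : ∀ g : G, orderOf g = 1 ∨ orderOf g = 2 ∨ orderOf g = 3)
    (x0 : G) (hx0 : orderOf x0 = 3)
    (A : Subgroup G) [hAn : A.Normal] (hA1 : A ≠ ⊥) (hA2 : ∀ a ∈ A, a ^ 2 = 1)
    (hAc : ∀ a ∈ A, ∀ b ∈ A, a * b = b * a) :
    ∃ N : Subgroup G, N.Normal ∧ Cfsg.IsElementaryAbelian 2 N ∧ N.index = 3 := by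
  obtain ⟨a0, ha0⟩ := (Subgroup.ne_bot_iff_exists_ne_one).mp hA1
  set N := Subgroup.centralizer (A : Set G) with hN
  have hmemN : ∀ g : G, g ∈ N ↔ g ^ 2 = 1 := by
    intro g
    constructor
    · intro hg
      rcases sq_or_cube hord g with h | h
      · exact h
      · have hc : Commute (a0 : G) g := (Subgroup.mem_centralizer_iff.mp hg) a0 a0.2
        rcases no6 hord a0 g hc (hA2 a0 a0.2) h with h1 | h1
        · exact absurd (Subtype.ext h1) ha0
        · rw [h1, one_pow]
    · intro hg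
      rw [hN, Subgroup.mem_centralizer_iff]
      intro a ha
      have hginv := inv_eq_self_of_sq g hg
      have ha' : g * a * g⁻¹ ∈ A := hAn.conj_mem a ha g
      have hw2 : (g * a) ^ 2 = g * a * g⁻¹ * a := by
        rw [hginv, pow_two]; group
      have hw4 : (g * a) ^ 4 = 1 := by
        have : (g * a) ^ 4 = ((g * a) ^ 2) ^ 2 := by rw [← pow_mul]
        rw [this, hw2]
        exact hA2 _ (A.mul_mem ha' ha)
      have h1 := sq_eq_one_of_pow_four hord _ hw4
      rw [hw2] at h1
      have h2 : g * a * g⁻¹ = a⁻¹ := eq_inv_of_mul_eq_one_left h1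
      rw [inv_eq_self_of_sq a (hA2 a ha)] at h2
      have : g * a = a * g := by
        calc g * a = g * a * g⁻¹ * g := by group
          _ = a * g := by rw [h2]
      exact this.symm
  have hAN : A ≤ N := fun a ha => (hmemN a).mpr (hA2 a ha)
  refine ⟨N, inferInstance, ⟨⟨⟨fun a b => ?_⟩⟩, fun a ha => (hmemN a).mp ha⟩, ?_⟩
  · apply Subtype.ext
    exact comm_of_sq (a : G) (b : G) ((hmemN a).mp a.2) ((hmemN b).mp b.2) ((hmemN _).mp (N.mul_mem a.2 b.2))
  -- the index
  haveI : IsMulCommutative A := ⟨⟨fun a b => Subtype.ext (hAc a a.2 b b.2)⟩⟩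
  let Φ : G → AddMonoid.End (Additive A) := fun g =>
    MonoidHom.toAdditive ((MulAut.conjNormal g : MulAut A).toMonoidHom)
  have hΦapp : ∀ (g : G) (a : A), Φ g (Additive.ofMul a) = Additive.ofMul (MulAut.conjNormal g a) :=
    fun g a => rfl
  have hΦmul : ∀ g h : G, Φ (g * h) = Φ g * Φ h := by
    intro g h
    apply AddMonoid.End.ext
    intro a
    obtain ⟨a, rfl⟩ := Additive.ofMul.surjective a
    rw [AddMonoid.End.coe_mul, Function.comp_apply, hΦapp, hΦapp, hΦapp, map_mul]
    rfl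
  have h2 : (1 : AddMonoid.End (Additive A)) + 1 = 0 := by
    apply AddMonoid.End.ext
    intro a
    obtain ⟨a, rfl⟩ := Additive.ofMul.surjective a
    change Additive.ofMul a + Additive.ofMul a = 0
    rw [← ofMul_mul, ← pow_two]
    have : a ^ 2 = 1 := Subtype.ext (by simpa using hA2 a a.2)
    rw [this, ofMul_one]
  have hrel : ∀ g : G, g ∉ N → Φ g * Φ g = 1 + Φ g := by
    intro g hg
    have hg3 : g ^ 3 = 1 := by
      rcases sq_or_cube hord g with h | h
      · exact absurd ((hmemN g).mpr h) hg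
      · exact h
    apply AddMonoid.End.ext
    intro a
    obtain ⟨a, rfl⟩ := Additive.ofMul.surjective a
    rw [AddMonoid.End.coe_mul, Function.comp_apply, hΦapp, hΦapp]
    change _ = Additive.ofMul a + Φ g (Additive.ofMul a)
    rw [hΦapp, ← ofMul_mul]
    congr 1
    apply Subtype.ext
    rw [MulAut.conjNormal_apply, MulAut.conjNormal_apply, Subgroup.coe_mul, MulAut.conjNormal_apply]
    -- goal : g * (g * a * g⁻¹) * g⁻¹ = a * (g * a * g⁻¹)
    have hga : g * a ∉ N := by
      intro h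
      apply hg
      have : g = g * a * (a : G)⁻¹ := by group
      rw [this]
      exact N.mul_mem h (N.inv_mem (hAN a.2))
    have hga3 : (g * (a : G)) ^ 3 = 1 := by
      rcases sq_or_cube hord (g * a) with h | h
      · exact absurd ((hmemN _).mpr h) hga
      · exact h
    have hc1 : g * a * g⁻¹ ∈ A := hAn.conj_mem a a.2 g
    have hc2 : g * (g * a * g⁻¹) * g⁻¹ ∈ A := hAn.conj_mem _ hc1 g
    have key : (g * a * g⁻¹) * (g * (g * a * g⁻¹) * g⁻¹) * a = 1 := by
      have : (g * a * g⁻¹) * (g * (g * a * g⁻¹) * g⁻¹) * a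
          = (g * (a : G)) * (g * (a : G)) * (g * (a : G)) * ((a : G)⁻¹ * (g * g * g)⁻¹ * a) := by group
      have e1 : (g * (a : G)) * (g * (a : G)) * (g * (a : G)) = 1 := by
        rw [← hga3, pow_succ, pow_two]
      have e2 : g * g * g = 1 := by rw [← hg3, pow_succ, pow_two]
      rw [this, e1, e2]
      group
    have h5 : g * (g * a * g⁻¹) * g⁻¹ = (g * a * g⁻¹)⁻¹ * (a : G)⁻¹ := by
      have : g * (g * a * g⁻¹) * g⁻¹
          = (g * a * g⁻¹)⁻¹ * ((g * a * g⁻¹) * (g * (g * a * g⁻¹) * g⁻¹) * a) * (a : G)⁻¹ := by group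
      rw [this, key, mul_one]
    rw [h5, inv_eq_self_of_sq _ (hA2 _ hc1), inv_eq_self_of_sq _ (hA2 _ a.2)]
    exact hAc _ hc1 _ a.2
  have hΦN : ∀ g : G, Φ g = 1 → g ∈ N := by
    intro g hg
    rw [hN, Subgroup.mem_centralizer_iff]
    intro a ha
    have h1 := congrArg (fun f : AddMonoid.End (Additive A) => f (Additive.ofMul ⟨a, ha⟩)) hg
    simp only [hΦapp, AddMonoid.End.coe_one, id_eq] at h1
    have h3 := congrArg (fun z : A => (z : G)) (Additive.ofMul.injective h1)
    simp only [MulAut.conjNormal_apply] at h3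
    calc a * g = g * a * g⁻¹ * g := by rw [h3]
      _ = g * a := by group
  have hfour : ∀ x y : G, x ∈ N ∨ y ∈ N ∨ x * y ∈ N ∨ x * x * y ∈ N := by
    intro x y
    by_contra hcon
    simp only [not_or] at hcon
    obtain ⟨hx, hy, hxy, hxxy⟩ := hcon
    have h10 := ring_lemma h2 (Φ x) (Φ y) (hrel x hx) (hrel y hy)
      (by rw [← hΦmul]; exact hrel _ hxy) (by rw [← hΦmul, ← hΦmul]; exact hrel _ hxxy)
    have h11 := congrArg (fun f : AddMonoid.End (Additive A) => f (Additive.ofMul a0)) h10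
    simp only [AddMonoid.End.coe_one, id_eq] at h11
    exact ha0 (Additive.ofMul.injective h11)
  -- x0 is outside N
  have hx0N : x0 ∉ N := by
    intro h
    have := (hmemN x0).mp h
    have h1 : orderOf x0 ∣ 2 := orderOf_dvd_of_pow_eq_one this
    rw [hx0] at h1
    omega
  have hx03 : x0 ^ 3 = 1 := by rw [← hx0]; exact pow_orderOf_eq_one x0
  set q0 : G ⧸ N := (x0 : G ⧸ N) with hq0
  have hq01 : q0 ≠ 1 := by
    intro h
    rw [hq0, QuotientGroup.eq_one_iff] at h
    exact hx0N h
  have hq03 : q0 ^ 3 = 1 := by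
    rw [hq0, ← QuotientGroup.mk_pow, hx03]
    rfl
  haveI : Fact (Nat.Prime 3) := ⟨Nat.prime_three⟩
  have hoq0 : orderOf q0 = 3 := orderOf_eq_prime hq03 hq01
  have hgen : ∀ q : G ⧸ N, q ∈ Subgroup.zpowers q0 := by
    intro q
    induction q using QuotientGroup.induction_on with
    | H y =>
      rcases hfour x0 y with h | h | h | h
      · exact absurd h hx0N
      · have : (y : G ⧸ N) = 1 := (QuotientGroup.eq_one_iff y).mpr h
        rw [this]
        exact Subgroup.one_mem _
      · have h1 : q0 * (y : G ⧸ N) = 1 := by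
          rw [hq0, ← QuotientGroup.mk_mul]
          exact (QuotientGroup.eq_one_iff _).mpr h
        have h2 : (y : G ⧸ N) = q0⁻¹ := eq_inv_of_mul_eq_one_right h1
        rw [h2]
        exact Subgroup.inv_mem _ (Subgroup.mem_zpowers q0)
      · have h1 : q0 * q0 * (y : G ⧸ N) = 1 := by
          rw [hq0, ← QuotientGroup.mk_mul, ← QuotientGroup.mk_mul]
          exact (QuotientGroup.eq_one_iff _).mpr h
        have h2 : (y : G ⧸ N) = (q0 * q0)⁻¹ := eq_inv_of_mul_eq_one_right h1
        rw [h2]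
        exact Subgroup.inv_mem _ (Subgroup.mul_mem _ (Subgroup.mem_zpowers q0) (Subgroup.mem_zpowers q0))
  rw [Subgroup.index_eq_card, ← orderOf_eq_card_of_forall_mem_zpowers hgen, hoq0]


theorem caseI [Finite G] (hord : ∀ g : G, orderOf g = 1 ∨ orderOf g = 2 ∨ orderOf g = 3)
    (t0 : G) (ht0 : orderOf t0 = 2)
    (A : Subgroup G) [hAn : A.Normal] (a0 : G) (ha0 : a0 ∈ A) (ha03 : orderOf a0 = 3)
    (hAc : ∀ a ∈ A, ∀ b ∈ A, a * b = b * a) :
    ∃ N : Subgroup G, N.Normal ∧ Cfsg.IsElementaryAbelian 3 N ∧ N.index = 2 := by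
  haveI : Fact (Nat.Prime 2) := ⟨Nat.prime_two⟩
  have ha0ne : a0 ≠ 1 := by
    intro h
    rw [h, orderOf_one] at ha03
    omega
  have ha0c : a0 ^ 3 = 1 := by rw [← ha03]; exact pow_orderOf_eq_one a0
  have ht0ne : t0 ≠ 1 := by
    intro h
    rw [h, orderOf_one] at ht0
    omega
  have ht0sq : t0 ^ 2 = 1 := by rw [← ht0]; exact pow_orderOf_eq_one t0
  -- (a) A has exponent 3
  have hA3 : ∀ a ∈ A, a ^ 3 = 1 := by
    intro a ha
    rcases sq_or_cube hord a with h | h
    · rcases no6 hord a a0 (hAc a ha a0 ha0) h ha0c with h1 | h1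
      · rw [h1, one_pow]
      · exact absurd h1 ha0ne
    · exact h
  -- (b) involutions invert A
  have hinv : ∀ t : G, t ^ 2 = 1 → t ≠ 1 → ∀ r ∈ A, t * r * t⁻¹ = r⁻¹ := by
    intro t ht htne
    apply fpf_inverts A t (by rw [← pow_two]; exact ht) (fun r hr => hAn.conj_mem r hr t)
    intro r hr hfix
    have hc : Commute t r := by
      have : t * r = r * t := by
        calc t * r = t * r * t⁻¹ * t := by group
          _ = r * t := by rw [hfix]
      exact this
    rcases no6 hord t r hc ht (hA3 r hr) with h | h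
    · exact absurd h htne
    · exact h
  -- (c) commuting involutions coincide
  have hcomminv : ∀ s t : G, s ^ 2 = 1 → t ^ 2 = 1 → s ≠ 1 → t ≠ 1 → s * t = t * s → s = t := by
    intro s t hs ht hsne htne hst
    have hu2 : (s * t) ^ 2 = 1 := by
      rw [pow_two]
      calc s * t * (s * t) = s * (t * s) * t := by group
        _ = s * (s * t) * t := by rw [hst]
        _ = (s * s) * (t * t) := by group
        _ = 1 := by rw [← pow_two, ← pow_two, hs, ht, one_mul]
    have hua : (s * t) * a0 * (s * t)⁻¹ = a0 := by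
      have : (s * t) * a0 * (s * t)⁻¹ = s * (t * a0 * t⁻¹) * s⁻¹ := by group
      rw [this, hinv t ht htne a0 ha0]
      have h2 : s * a0⁻¹ * s⁻¹ = (s * a0 * s⁻¹)⁻¹ := by group
      rw [h2, hinv s hs hsne a0 ha0, inv_inv]
    have hc : Commute (s * t) a0 := by
      have : (s * t) * a0 = a0 * (s * t) := by
        calc (s * t) * a0 = (s * t) * a0 * (s * t)⁻¹ * (s * t) := by group
          _ = a0 * (s * t) := by rw [hua]
      exact this
    rcases no6 hord (s * t) a0 hc hu2 ha0c with h | h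
    · have h1 : s = t⁻¹ := eq_inv_of_mul_eq_one_left h
      rw [h1, inv_eq_self_of_sq t ht]
    · exact absurd h ha0ne
  -- (d) the Sylow 2-subgroup
  have hz : IsPGroup 2 (Subgroup.zpowers t0) := by
    apply IsPGroup.of_card (n := 1)
    rw [Nat.card_zpowers, ht0, pow_one]
  obtain ⟨S, hzS⟩ := hz.exists_le_sylow
  have ht0S : t0 ∈ (S : Subgroup G) := hzS (Subgroup.mem_zpowers t0)
  have hSsq : ∀ s ∈ (S : Subgroup G), s ^ 2 = 1 := by
    intro s hs
    obtain ⟨k, hk⟩ := S.isPGroup' ⟨s, hs⟩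
    have hk' : s ^ 2 ^ k = 1 := by
      have := congrArg Subtype.val hk
      simpa using this
    have hdvd : orderOf s ∣ 2 ^ k := orderOf_dvd_of_pow_eq_one hk'
    rcases hord s with h | h | h
    · rw [orderOf_eq_one_iff] at h
      rw [h, one_pow]
    · rw [← h]; exact pow_orderOf_eq_one s
    · rw [h] at hdvd
      have := (Nat.Prime.dvd_of_dvd_pow Nat.prime_three hdvd)
      omega
  have hSelts : ∀ s ∈ (S : Subgroup G), s = 1 ∨ s = t0 := by
    intro s hs
    by_cases hs1 : s = 1
    · left; exact hs1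
    · right
      have hcomm : s * t0 = t0 * s :=
        comm_of_sq s t0 (hSsq s hs) ht0sq (hSsq _ (Subgroup.mul_mem _ hs ht0S))
      exact hcomminv s t0 (hSsq s hs) ht0sq hs1 ht0ne hcomm
  have hSeq : (S : Subgroup G) = Subgroup.zpowers t0 := by
    apply le_antisymm
    · intro s hs
      rcases hSelts s hs with h | h
      · rw [h]; exact Subgroup.one_mem _
      · rw [h]; exact Subgroup.mem_zpowers t0
    · exact hzS
  have hScard : Nat.card (S : Subgroup G) = 2 := by
    rw [hSeq, Nat.card_zpowers, ht0]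
  -- (e) normalizer in centralizer
  have hNC : Subgroup.normalizer ((S : Subgroup G) : Set G) ≤ Subgroup.centralizer (S : Set G) := by
    intro g hg
    rw [Subgroup.mem_centralizer_iff]
    intro h hh
    rcases hSelts h hh with rfl | rfl
    · simp
    · have h1 : g * h * g⁻¹ ∈ (S : Subgroup G) := (Subgroup.mem_normalizer_iff.mp hg h).mp hh
      rcases hSelts _ h1 with h2 | h2
      · exfalso
        apply ht0ne
        have : h = g⁻¹ * (g * h * g⁻¹) * g := by group
        rw [this, h2]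
        group
      · calc h * g = g * h * g⁻¹ * g := by rw [h2]
          _ = g * h := by group
  -- (f) the transfer kernel
  set N := (MonoidHom.transferSylow S hNC).ker with hN
  have hcomp : N.IsComplement' (S : Subgroup G) := MonoidHom.ker_transferSylow_isComplement' S hNC
  have hcard : Nat.card N * 2 = Nat.card G := by
    rw [← hScard]
    exact hcomp.card_mul_card
  have hidx : N.index = 2 := by
    have h1 := N.card_mul_index
    rw [← hcard] at h1
    have hpos : 0 < Nat.card N := Nat.card_pos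
    exact Nat.eq_of_mul_eq_mul_left hpos h1
  -- (g) N has odd order
  have hcop : Nat.Coprime 2 (Nat.card N) := by
    have h1 := S.card_coprime_index
    have h2 := (S : Subgroup G).card_mul_index
    rw [hScard] at h1 h2
    have h3 : (S : Subgroup G).index = Nat.card N := by
      have : 2 * (S : Subgroup G).index = 2 * Nat.card N := by rw [h2, ← hcard, mul_comm]
      exact Nat.eq_of_mul_eq_mul_left (by norm_num) this
    rw [h3] at h1
    exact h1
  have hN3 : ∀ n ∈ N, n ^ 3 = 1 := by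
    intro n hn
    rcases hord n with h | h | h
    · rw [orderOf_eq_one_iff] at h
      rw [h, one_pow]
    · exfalso
      have h1 : orderOf (⟨n, hn⟩ : N) ∣ Nat.card N := orderOf_dvd_natCard _
      rw [Subgroup.orderOf_mk, h] at h1
      have := Nat.Coprime.eq_one_of_dvd hcop h1
      omega
    · rw [← h]; exact pow_orderOf_eq_one n
  -- (h) t0 inverts N
  have hNn : N.Normal := by rw [hN]; infer_instance
  have hinvN : ∀ r ∈ N, t0 * r * t0⁻¹ = r⁻¹ := by
    apply fpf_inverts N t0 (by rw [← pow_two]; exact ht0sq) (fun r hr => hNn.conj_mem r hr t0)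
    intro r hr hfix
    have hc : Commute t0 r := by
      have : t0 * r = r * t0 := by
        calc t0 * r = t0 * r * t0⁻¹ * t0 := by group
          _ = r * t0 := by rw [hfix]
      exact this
    rcases no6 hord t0 r hc ht0sq (hN3 r hr) with h | h
    · exact absurd h ht0ne
    · exact h
  refine ⟨N, hNn, ⟨⟨⟨fun a b => ?_⟩⟩, hN3⟩, hidx⟩
  apply Subtype.ext
  change (a : G) * b = b * a
  have h1 := hinvN _ (N.mul_mem a.2 b.2)
  have h2 : t0 * ((a : G) * b) * t0⁻¹ = (t0 * a * t0⁻¹) * (t0 * b * t0⁻¹) := by group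
  rw [h2, hinvN a a.2, hinvN b b.2, mul_inv_rev] at h1
  have h3 := congrArg (fun z : G => z⁻¹) h1
  simp only [mul_inv_rev, inv_inv] at h3
  exact h3.symm

end

theorem card_two_three {G : Type*} [Group G] [Finite G]
    (hord : ∀ g : G, orderOf g = 1 ∨ orderOf g = 2 ∨ orderOf g = 3) :
    ∃ a b : ℕ, Nat.card G = 2 ^ a * 3 ^ b := by
  have hn0 : Nat.card G ≠ 0 := Nat.card_pos.ne'
  have hprime : ∀ d : ℕ, d.Prime → d ∣ Nat.card G → d = 2 ∨ d = 3 := by
    intro d hd hdvd
    haveI : Fact d.Prime := ⟨hd⟩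
    obtain ⟨g, hg⟩ := exists_prime_orderOf_dvd_card' d hdvd
    have := hd.two_le
    rcases hord g with h | h | h <;> omega
  set m := Nat.card G / 2 ^ (Nat.card G).factorization 2 with hm
  have hsplit : 2 ^ (Nat.card G).factorization 2 * m = Nat.card G :=
    Nat.ordProj_mul_ordCompl_eq_self (Nat.card G) 2
  have hm0 : m ≠ 0 := by
    intro h
    rw [h, mul_zero] at hsplit
    exact hn0 hsplit.symm
  have hm2 : ¬ 2 ∣ m := Nat.not_dvd_ordCompl Nat.prime_two hn0
  have hmdvd : m ∣ Nat.card G := Dvd.intro_left _ hsplit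
  have hm3 : ∀ {d : ℕ}, d.Prime → d ∣ m → d = 3 := by
    intro d hd hdm
    rcases hprime d hd (dvd_trans hdm hmdvd) with h | h
    · rw [h] at hdm
      exact absurd hdm hm2
    · exact h
  have := Nat.eq_prime_pow_of_unique_prime_dvd hm0 hm3
  exact ⟨_, _, by rw [← this]; exact hsplit.symm⟩

theorem result {G : Type*} [Group G] [Finite G] (h : Set.range (orderOf : G → ℕ) = {k : ℕ | 1 ≤ k ∧ k ≤ 3}) :
    (∃ N : Subgroup G, N.Normal ∧ Cfsg.IsElementaryAbelian 3 N ∧ N.index = 2) ∨
      (∃ N : Subgroup G, N.Normal ∧ Cfsg.IsElementaryAbelian 2 N ∧ N.index = 3) := by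
  have hord : ∀ g : G, orderOf g = 1 ∨ orderOf g = 2 ∨ orderOf g = 3 := by
    intro g
    have h1 : orderOf g ∈ Set.range (orderOf : G → ℕ) := ⟨g, rfl⟩
    rw [h] at h1
    obtain ⟨h2, h3⟩ := h1
    omega
  obtain ⟨t0, ht0⟩ : ∃ t0 : G, orderOf t0 = 2 := by
    have : (2 : ℕ) ∈ Set.range (orderOf : G → ℕ) := by rw [h]; exact ⟨by norm_num, by norm_num⟩
    exact this
  obtain ⟨x0, hx0⟩ : ∃ x0 : G, orderOf x0 = 3 := by
    have : (3 : ℕ) ∈ Set.range (orderOf : G → ℕ) := by rw [h]; exact ⟨by norm_num, by norm_num⟩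
    exact this
  obtain ⟨a, b, hab⟩ := card_two_three hord
  have hsolv : Group.IsSolvable G := Cfsg.Agent.S0144.result 2 3 a b Nat.prime_two Nat.prime_three hab
  -- last nontrivial term of the derived series
  have hex : ∃ n : ℕ, derivedSeries G n = ⊥ := (Group.isSolvable_def G).mp hsolv
  classical
  set n := Nat.find hex with hn
  have hnspec : derivedSeries G n = ⊥ := Nat.find_spec hex
  have hn0 : n ≠ 0 := by
    intro h0
    rw [h0, derivedSeries_zero] at hnspec
    have : t0 ∈ (⊥ : Subgroup G) := by rw [← hnspec]; trivial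
    rw [Subgroup.mem_bot] at this
    rw [this, orderOf_one] at ht0
    omega
  obtain ⟨k, hk⟩ : ∃ k, n = k + 1 := Nat.exists_eq_succ_of_ne_zero hn0
  set A := derivedSeries G k with hA
  have hA1 : A ≠ ⊥ := by
    intro hbot
    have : n ≤ k := Nat.find_min' hex hbot
    omega
  have hAc : ∀ a ∈ A, ∀ b ∈ A, a * b = b * a := by
    rw [hk, derivedSeries_succ] at hnspec
    have hle := (Subgroup.commutator_eq_bot_iff_le_centralizer).mp hnspec
    intro a ha b hb
    exact (Subgroup.mem_centralizer_iff.mp (hle ha) b hb).symm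
  haveI hAn : A.Normal := by rw [hA]; infer_instance
  by_cases hex3 : ∃ a0 ∈ A, orderOf a0 = 3
  · obtain ⟨a0, ha0, ha03⟩ := hex3
    left
    exact caseI hord t0 ht0 A a0 ha0 ha03 hAc
  · right
    simp only [not_exists, not_and] at hex3
    have hA2 : ∀ a ∈ A, a ^ 2 = 1 := by
      intro a ha
      rcases hord a with h1 | h1 | h1
      · rw [orderOf_eq_one_iff] at h1
        rw [h1, one_pow]
      · rw [← h1]; exact pow_orderOf_eq_one a
      · exact absurd h1 (hex3 a ha)
    exact caseII hord x0 hx0 A hA1 hA2 hAc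

end Cfsg.Agent.S4005
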