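import Cfsg.Statements.S4006
import Mathlib
import Cfsg.Agent.S0144
import Cfsg.Agent.Lib.Helper01.SolvableNP
import Cfsg.Agent.Lib.Helper71.OrdFour
import Cfsg.Agent.Lib.Helper71.OrdFourB
-- import your own Cfsg.Agent.* helpers here

set_option autoImplicit false
open Cfsg

namespace Cfsg.Agent.S4006

open Cfsg.Agent.Lib.Helper71.OrdFour in
/-- A finite group whose set of element orders is exactly {1, 2, 3, 4} has a normal subgroup N such that either N is a 2-group of exponent 4 and nilpotency class at most 2 with G/N of order 3, or N is an elementary abelian 2-group with G/N isomorphic to the symmetric group of degree 3, or N is an elementary abelian 3-group with G/N cyclic of order 4 or quaternion of order 8. -/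
theorem result {G : Type*} [Group G] [Finite G] (h : Set.range (orderOf : G → ℕ) = {k : ℕ | 1 ≤ k ∧ k ≤ 4}) :
    ∃ (N : Subgroup G) (_ : N.Normal),
      (IsPGroup 2 ↥N ∧ Monoid.exponent ↥N = 4 ∧ Group.nilpotencyClass ↥N ≤ 2 ∧ N.index = 3) ∨
      (Cfsg.IsElementaryAbelian 2 N ∧ Nonempty (G ⧸ N ≃* Equiv.Perm (Fin 3))) ∨
      (Cfsg.IsElementaryAbelian 3 N ∧ ((IsCyclic (G ⧸ N) ∧ N.index = 4) ∨ Nonempty (G ⧸ N ≃* QuaternionGroup 2))) := by
  classical
  -- orders
  have hord : ∀ g : G, 1 ≤ orderOf g ∧ orderOf g ≤ 4 := by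
    intro g
    have : orderOf g ∈ Set.range (orderOf : G → ℕ) := ⟨g, rfl⟩
    rw [h] at this
    exact this
  have H4 : ∀ g : G, g ^ 3 = 1 ∨ g ^ 4 = 1 := by
    intro g
    obtain ⟨h1, h2⟩ := hord g
    have hp := pow_orderOf_eq_one g
    interval_cases ho : orderOf g
    · left; rw [pow_one] at hp; rw [hp, one_pow]
    · right
      have : g ^ 4 = (g ^ 2) ^ 2 := by rw [← pow_mul]
      rw [this, hp, one_pow]
    · left; exact hp
    · right; exact hp
  obtain ⟨x, hx⟩ : ∃ x : G, orderOf x = 3 := by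
    have : (3 : ℕ) ∈ {k : ℕ | 1 ≤ k ∧ k ≤ 4} := ⟨by norm_num, by norm_num⟩
    rw [← h] at this
    exact this
  obtain ⟨y, hy⟩ : ∃ y : G, orderOf y = 4 := by
    have : (4 : ℕ) ∈ {k : ℕ | 1 ≤ k ∧ k ≤ 4} := ⟨by norm_num, by norm_num⟩
    rw [← h] at this
    exact this
  -- the order of `G`
  have hcard : ∃ a b : ℕ, Nat.card G = 2 ^ a * 3 ^ b := by
    have hn0 : Nat.card G ≠ 0 := Nat.card_pos.ne'
    refine ⟨(Nat.card G).factorization 2,
      (Nat.card G / 2 ^ (Nat.card G).factorization 2).primeFactorsList.length, ?_⟩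
    have h1 : 2 ^ (Nat.card G).factorization 2 * (Nat.card G / 2 ^ (Nat.card G).factorization 2)
        = Nat.card G := Nat.ordProj_mul_ordCompl_eq_self (Nat.card G) 2
    have h2 : Nat.card G / 2 ^ (Nat.card G).factorization 2 ≠ 0 :=
      (Nat.ordCompl_pos 2 hn0).ne'
    have h3 := Nat.eq_prime_pow_of_unique_prime_dvd (p := 3) h2 (by
      intro d hd hdd
      have hdG : d ∣ Nat.card G := Dvd.dvd.trans hdd (Nat.ordCompl_dvd (Nat.card G) 2)
      rcases prime_dvd_card H4 hd hdG with h' | h'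
      · exfalso
        rw [h'] at hdd
        exact Nat.not_dvd_ordCompl Nat.prime_two hn0 hdd
      · exact h')
    rw [← h3, h1]
  obtain ⟨a, b, hab⟩ := hcard
  have hsolv : Group.IsSolvable G := Cfsg.Agent.S0144.result 2 3 a b Nat.prime_two Nat.prime_three hab
  have hy1 : y ≠ 1 := by
    intro h1
    rw [h1, orderOf_one] at hy
    omega
  have : Nontrivial G := ⟨⟨y, 1, hy1⟩⟩
  obtain ⟨p, hp, K, hKn, hKp, hKne⟩ :=
    Cfsg.Agent.Lib.Helper01.exists_normal_pSubgroup_of_solvable hsolv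
  -- `p` is two or three
  have hp23 : p = 2 ∨ p = 3 := by
    apply prime_dvd_card H4 hp
    obtain ⟨k0, hk0, hk01⟩ : ∃ k ∈ K, k ≠ 1 := by
      by_contra hcon
      push Not at hcon
      exact hKne ((Subgroup.eq_bot_iff_forall K).mpr hcon)
    have : Fact p.Prime := ⟨hp⟩
    obtain ⟨n, hn⟩ := IsPGroup.iff_card.mp hKp
    have hn0 : n ≠ 0 := by
      intro h0
      rw [h0, pow_zero] at hn
      have := (Subgroup.card_eq_one.mp hn)
      exact hKne this
    have h1 : p ∣ Nat.card K := by rw [hn]; exact dvd_pow_self p hn0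
    exact Dvd.dvd.trans h1 (Subgroup.card_subgroup_dvd_card K)
  rcases hp23 with rfl | rfl
  · obtain ⟨N, hNn, hN⟩ := caseB H4 K hKp hKne hx hy
    refine ⟨N, hNn, ?_⟩
    rcases hN with h1 | ⟨h1, h2⟩
    · exact Or.inl h1
    · exact Or.inr (Or.inl ⟨h1, h2⟩)
  · have hK3 : ∀ k ∈ K, k ^ 3 = 1 := by
      intro k hk
      apply pow_three_of_three_elt H4
      obtain ⟨j, hj⟩ := hKp ⟨k, hk⟩
      exact ⟨j, congrArg (fun u : K => (u : G)) hj⟩
    obtain ⟨N, hNn, hN1, hN2⟩ := caseA H4 K hK3 hKne y hy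
    exact ⟨N, hNn, Or.inr (Or.inr ⟨hN1, hN2⟩)⟩

end Cfsg.Agent.S4006
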