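import Cfsg.Statements.S4010
import Mathlib
import Cfsg.Agent.Lib.Helper71.LinPGroupCharP
import Cfsg.Agent.Lib.Helper71.LinPGroupCross

set_option autoImplicit false
open Cfsg

namespace Cfsg.Agent.S4010

/-- Let F be a field, n ≥ 1, and P a finite p-group (p a prime) admitting an injective homomorphism into the general linear group of degree n over F. Then the derived length of P is at most ⌊log₂ n⌋ + 1: that term of the derived series of P is trivial. -/
theorem result {P : Type*} [Group P] [Finite P] (p : ℕ) [Fact p.Prime] (hP : IsPGroup p P) (F : Type*) [Field F] (n : ℕ) (hn : 1 ≤ n) (ρ : P →* Matrix.GeneralLinearGroup (Fin n) F) (hρ : Function.Injective ρ) : derivedSeries P (Nat.log 2 n + 1) = ⊥ := by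
  classical
  by_cases hpF : (p : F) = 0
  · have : CharP F p := (CharP.charP_iff_prime_eq_zero (Fact.out : p.Prime)).mpr hpF
    let r : Representation F P (Fin n → F) :=
      { toFun := fun g => Matrix.toLin' (ρ g : Matrix (Fin n) (Fin n) F)
        map_one' := by simp; rfl
        map_mul' := fun a b => by
          simp [Matrix.toLin'_mul, Module.End.mul_eq_comp] }
    have hr : Function.Injective r := by
      intro a b hab
      apply hρ
      apply Units.ext
      exact Matrix.toLin'.injective hab
    have h := Cfsg.Agent.Lib.Helper71.derivedSeries_log_eq_bot_of_charP hP r hr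
    rwa [Module.finrank_fin_fun] at h
  · let K := AlgebraicClosure F
    have hinj : Function.Injective (algebraMap F K) := (algebraMap F K).injective
    let r : Representation K P (Fin n → K) :=
      { toFun := fun g => Matrix.toLin' ((ρ g : Matrix (Fin n) (Fin n) F).map (algebraMap F K))
        map_one' := by simp; rfl
        map_mul' := fun a b => by
          simp [Matrix.toLin'_mul, Module.End.mul_eq_comp, Matrix.map_mul] }
    have hr : Function.Injective r := by
      intro a b hab
      apply hρ
      apply Units.ext
      have h1 : ((ρ a : Matrix (Fin n) (Fin n) F).map (algebraMap F K)) =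
          ((ρ b : Matrix (Fin n) (Fin n) F).map (algebraMap F K)) :=
        Matrix.toLin'.injective hab
      exact Matrix.map_injective hinj h1
    have hpK : (p : K) ≠ 0 := by
      intro h
      apply hpF
      apply hinj
      rw [map_natCast, h, map_zero]
    have h := Cfsg.Agent.Lib.Helper71.derivedSeries_log_eq_bot_of_cross hpK hP r hr
    rwa [Module.finrank_fin_fun] at h

end Cfsg.Agent.S4010
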