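import Mathlib
import Cfsg.Statements.S4013
import Cfsg.Agent.Lib.Helper71.Basic

set_option autoImplicit false
open Cfsg

namespace Cfsg.Agent.S4013

theorem arith {p a b k : ℕ} (hp : p.Prime) (hb : 1 ≤ b) (h : p ^ a * p ^ b - p ^ a = p ^ k) :
    p = 2 ∧ p ^ b = 2 := by
  have hpos : 0 < p ^ a := pow_pos hp.pos a
  have hb1 : 2 ≤ p ^ b := by
    calc 2 ≤ p := hp.two_le
      _ = p ^ 1 := (pow_one p).symm
      _ ≤ p ^ b := Nat.pow_le_pow_right hp.pos hb
  have h' : p ^ a * (p ^ b - 1) = p ^ k := by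
    rw [Nat.mul_sub, mul_one]; exact h
  have hdvd : (p ^ b - 1) ∣ p ^ k := Dvd.intro_left _ h'
  obtain ⟨j, _, hj⟩ := (Nat.dvd_prime_pow hp).mp hdvd
  have hj0 : j = 0 := by
    by_contra hne
    have hpd : p ∣ p ^ b - 1 := by rw [hj]; exact dvd_pow_self p hne
    have hpd2 : p ∣ p ^ b := dvd_pow_self p (by omega)
    have : p ∣ 1 := by
      have := Nat.dvd_sub hpd2 hpd
      rwa [Nat.sub_sub_self (by omega)] at this
    exact hp.one_lt.ne' (Nat.dvd_one.mp this)
  rw [hj0, pow_zero] at hj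
  have hpb : p ^ b = 2 := by omega
  refine ⟨?_, hpb⟩
  have : p ∣ 2 := by rw [← hpb]; exact dvd_pow_self p (by omega)
  exact (Nat.prime_dvd_prime_iff_eq hp Nat.prime_two).mp this

/-- Let G be a finite p-group (p prime) and N < M normal subgroups of G such that for some g ∈ M ∖ N the conjugacy class of g is exactly M ∖ N. Then p = 2 and N has index 2 in M. -/
theorem result {G : Type*} [Group G] [Finite G] (p : ℕ) [Fact p.Prime] (hG : IsPGroup p G) (N M : Subgroup G) [N.Normal] [M.Normal] (hNM : N < M) (g : G) (hgM : g ∈ M) (hgN : g ∉ N) (hcl : {h : G | IsConj g h} = (M : Set G) \ (N : Set G)) : p = 2 ∧ N.relIndex M = 2 := by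
  have hp : p.Prime := Fact.out
  have h1 := Cfsg.Agent.Lib.Helper71.ncard_conj_eq_index_centralizer g
  obtain ⟨k, hk⟩ := hG.index (Subgroup.centralizer ({g} : Set G))
  have hsub : (N : Set G) ⊆ (M : Set G) := hNM.le
  have h2 : ((M : Set G) \ (N : Set G)).ncard = Nat.card M - Nat.card N := by
    rw [Set.ncard_sdiff hsub (Set.toFinite _)]
    rfl
  have h3 : Nat.card N * N.relIndex M = Nat.card M := by
    have := Subgroup.relIndex_mul_relIndex ⊥ N M bot_le hNM.le
    rwa [Subgroup.relIndex_bot_left, Subgroup.relIndex_bot_left] at this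
  obtain ⟨a, ha⟩ := (IsPGroup.iff_card.mp (hG.to_subgroup N))
  obtain ⟨b, hb⟩ := (hG.to_subgroup M).index (N.subgroupOf M)
  change N.relIndex M = p ^ b at hb
  have hb1 : 1 ≤ b := by
    rcases Nat.eq_zero_or_pos b with h0 | h0
    · exfalso
      rw [h0, pow_zero, Subgroup.relIndex_eq_one] at hb
      exact (not_le_of_gt hNM) hb
    · exact h0
  have key : p ^ a * p ^ b - p ^ a = p ^ k := by
    rw [← hk, ← h1, hcl, h2, ← h3, ha, hb]
  obtain ⟨hp2, hpb⟩ := arith hp hb1 key
  exact ⟨hp2, hb.trans hpb⟩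

end Cfsg.Agent.S4013
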