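import Cfsg.Statements.S4015
import Mathlib
import Cfsg.Agent.Lib.Helper44.WreathReachP
import Cfsg.Agent.Lib.Helper44.GLWreath
import Cfsg.Agent.Lib.Helper44.GLSylowNum

set_option autoImplicit false
open Cfsg

namespace Cfsg.Agent.S4015

open Cfsg.Agent.Lib.Helper44 Equiv

/-- the index equivalence `(Fin e × Fin m) ⊕ Fin (n - e * m) ≃ Fin n` -/
def idxEquiv (e m n : ℕ) (h : e * m ≤ n) : (Fin e × Fin m) ⊕ Fin (n - e * m) ≃ Fin n :=
  ((finProdFinEquiv (m := e) (n := m)).sumCongr (Equiv.refl _)).trans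
    (finSumFinEquiv.trans (finCongr (by omega)))

/-- `GL_e ≀ S_m → GL_n` -/
noncomputable def bigHom {F : Type*} [Field F] (e m n : ℕ) (h : e * m ≤ n) :
    (Fin m → GL (Fin e) F) ⋊[permAut m _] Perm (Fin m) →* GL (Fin n) F :=
  (Cfsg.Agent.Lib.Helper46.blockGL (idxEquiv e m n h)).comp (glWr m e)

lemma bigHom_injective {F : Type*} [Field F] (e m n : ℕ) [NeZero e] (h : e * m ≤ n) :
    Function.Injective (bigHom (F := F) e m n h) :=
  (Cfsg.Agent.Lib.Helper46.blockGL_injective (idxEquiv e m n h)).comp (glWr_injective m e)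


/-- Let p be an odd prime, F a finite field with q elements where p does not divide q, and e the multiplicative order of q modulo p. Let n ≥ e and write w = ⌊n/e⌋ and k = ⌊log_p w⌋. Then a Sylow p-subgroup of GL(n, F) has derived length exactly k + 1: its (k+1)-st derived subgroup is trivial and its k-th is not. -/
theorem result (p : ℕ) [Fact p.Prime] (hp : p ≠ 2) (F : Type*) [Field F] [Fintype F] (q : ℕ) (hq : Fintype.card F = q) (hpq : ¬ p ∣ q) (n : ℕ) (hn : orderOf (q : ZMod p) ≤ n) (P : Sylow p (Matrix.GeneralLinearGroup (Fin n) F)) : derivedSeries ↥(P : Subgroup (Matrix.GeneralLinearGroup (Fin n) F)) (Nat.log p (n / orderOf (q : ZMod p)) + 1) = ⊥ ∧ derivedSeries ↥(P : Subgroup (Matrix.GeneralLinearGroup (Fin n) F)) (Nat.log p (n / orderOf (q : ZMod p))) ≠ ⊥ := by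
  classical
  have hp1 : Odd p := (Fact.out : p.Prime).odd_of_ne_two hp
  have hpp : p.Prime := Fact.out
  set e := orderOf (q : ZMod p) with he
  have he0 : 0 < e := Cfsg.Agent.Lib.Helper46.orderOf_zmod_pos hpq
  have : NeZero e := ⟨he0.ne'⟩
  set m := n / e with hm
  have hm0 : m ≠ 0 := by
    rw [hm]
    exact (Nat.div_pos hn he0).ne'
  have hem : e * m ≤ n := Nat.mul_div_le n e
  have hq2 : 2 ≤ q := by rw [← hq]; exact Fintype.one_lt_card
  set a := padicValNat p (q ^ e - 1) with ha
  -- the abelian Sylow subgroup of `GL_e`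
  obtain ⟨S, hScomm, hScard⟩ := exists_abelian_pgroup_GL (F := F) p e he0
  rw [hq, ← ha] at hScard
  have ha1 : 1 ≤ a := by
    have hd : p ∣ q ^ e - 1 :=
      (Cfsg.Agent.Lib.Helper46.dvd_pow_sub_one_iff (by omega) e).mpr dvd_rfl
    have hne : q ^ e - 1 ≠ 0 := by
      have : 1 < q ^ e := Nat.one_lt_pow (by omega) (by omega)
      omega
    exact one_le_padicValNat_of_dvd hne hd
  have hSd : dser S 1 = ⊥ := by
    rw [dser_succ, dser_zero, Subgroup.commutator_eq_bot_iff_le_centralizer]
    intro x hx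
    rw [Subgroup.mem_centralizer_iff]
    intro y hy
    exact hScomm y hy x hx
  obtain ⟨s, hs, hs1⟩ : ∃ s ∈ S, s ≠ 1 := by
    have h1 : 1 < Nat.card S := by
      rw [hScard]
      exact Nat.one_lt_pow (by omega) hpp.one_lt
    rw [Subgroup.one_lt_card_iff_ne_bot, Subgroup.ne_bot_iff_exists_ne_one] at h1
    obtain ⟨x, hx⟩ := h1
    exact ⟨x.1, x.2, fun h => hx (Subtype.ext h)⟩
  set Ψ := bigHom (F := F) e m n hem with hΨ
  have hΨinj : Function.Injective Ψ := bigHom_injective e m n hem
  have key : dser (P : Subgroup (GL (Fin n) F)) (Nat.log p m + 1) = ⊥ ∧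
      dser (P : Subgroup (GL (Fin n) F)) (Nat.log p m) ≠ ⊥ := by
    constructor
    · obtain ⟨I, hI, hIc, hId⟩ := pGenD_all p m
      set T0 := (wrSub m S (Subgroup.closure I)).map Ψ with hT0
      have hcard : Nat.card T0 = p ^ (Nat.card (GL (Fin n) F)).factorization p := by
        rw [hT0, Subgroup.card_map_of_injective hΨinj, card_wrSub, hIc, hScard, ← pow_mul,
          ← pow_add, Nat.factorization_def _ hpp, padicVal_card_GL hp1 hq hpq n]
        congr 1
        rw [← he, ← hm, ← ha]
        ring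
      let P0 : Sylow p (GL (Fin n) F) := Sylow.ofCard T0 hcard
      obtain ⟨g, hg⟩ := MulAction.exists_smul_eq (GL (Fin n) F) P0 P
      have hP : (P : Subgroup (GL (Fin n) F)) = T0.map (MulAut.conj g).toMonoidHom := by
        rw [← hg]
        rfl
      rw [hP, dser_map_eq_bot_iff _ (MulAut.conj g).injective, hT0,
        dser_map_eq_bot_iff _ hΨinj]
      exact dser_wrSub_add_eq_bot m S _ _ 1 hId hSd
    · obtain ⟨T, i₀, X, hT, hR⟩ := exists_p_subgroup_reach p m hm0
      have hW := hR.dser_wrSub_ne_bot' S s hs hs1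
      set V := (wrSub m S T).map Ψ with hV
      have hVp : IsPGroup p V := by
        obtain ⟨c, hc⟩ := hT.exists_card_eq
        apply IsPGroup.of_card (n := a * m + c)
        rw [hV, Subgroup.card_map_of_injective hΨinj, card_wrSub, hc, hScard, ← pow_mul,
          ← pow_add]
      obtain ⟨Q, hQ⟩ := hVp.exists_le_sylow
      have h1 : dser (Q : Subgroup (GL (Fin n) F)) (Nat.log p m) ≠ ⊥ := by
        intro hbot
        have h2 := dser_mono hQ (Nat.log p m)
        rw [hbot, le_bot_iff, hV, dser_map_eq_bot_iff _ hΨinj] at h2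
        exact hW h2
      obtain ⟨g, hg⟩ := MulAction.exists_smul_eq (GL (Fin n) F) P Q
      have hQP : (Q : Subgroup (GL (Fin n) F)) =
          (P : Subgroup (GL (Fin n) F)).map (MulAut.conj g).toMonoidHom := by
        rw [← hg]
        rfl
      rw [hQP, Ne, dser_map_eq_bot_iff _ (MulAut.conj g).injective] at h1
      exact h1
  refine ⟨?_, ?_⟩
  · rw [derivedSeries_eq_bot_iff]
    exact key.1
  · rw [Ne, derivedSeries_eq_bot_iff]
    exact key.2

end Cfsg.Agent.S4015
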