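import Cfsg.Statements.S4020
-- import your own Cfsg.Agent.* helpers here

import Cfsg.Agent.Lib.Helper15.IsoSubG

set_option autoImplicit false
open Cfsg

namespace Cfsg.Agent.S4020

/-- Let G be a finite group in which, for every prime p, any two p-subgroups of the same order are conjugate. Then every Sylow subgroup of G is cyclic, elementary abelian, or a quaternion group of order 8. -/
theorem result {G : Type*} [Group G] [Finite G]
    (hD : ∀ p : ℕ, p.Prime → ∀ H K : Subgroup G, IsPGroup p H → IsPGroup p K → Nat.card H = Nat.card K →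
      ∃ g : G, K = H.map (MulAut.conj g).toMonoidHom) {p : ℕ} [Fact p.Prime] (P : Sylow p G) :
    IsCyclic P ∨ Cfsg.IsElementaryAbelian p (P : Subgroup G) ∨ Nonempty ((P : Subgroup G) ≃* QuaternionGroup 2) := by
  have hI : Cfsg.Agent.Lib.Helper15.IsoSub.SameOrderIso (P : Subgroup G) :=
    Cfsg.Agent.Lib.Helper15.IsoSub.sameOrderIso_of_conj (hD p Fact.out) (P : Subgroup G) P.2
  rcases Cfsg.Agent.Lib.Helper15.IsoSub.classify (p := p) P.2 hI with
    hcyc | ⟨hcomm, hexp⟩ | ⟨_, hq⟩ | ⟨hp2, hcard, hexp, hna⟩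
  · exact Or.inl hcyc
  · refine Or.inr (Or.inl ⟨⟨⟨fun a b => hcomm a b⟩⟩, ?_⟩)
    intro a ha
    exact congrArg Subtype.val (hexp ⟨a, ha⟩)
  · exact Or.inr (Or.inr hq)
  · exfalso
    refine Cfsg.Agent.Lib.Helper15.IsoSub.cube_false (p := p) (P := (P : Subgroup G)) hD hp2
      ⟨hcard, ?_, ?_⟩
    · intro a ha
      exact congrArg Subtype.val (hexp ⟨a, ha⟩)
    · intro hc
      apply hna
      intro a b
      exact Subtype.ext (hc a a.2 b b.2)

end Cfsg.Agent.S4020
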