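import Cfsg.Statements.S4024
import Cfsg.Agent.S4023
import Cfsg.Agent.Lib.Helper81.PSolvable
import Cfsg.Agent.Lib.Helper15.PSolv

set_option autoImplicit false
open Cfsg

namespace Cfsg.Agent.S4024

/-- If subgroups of order `p` are all conjugate, a normal subgroup of order divisible by `p`
contains every element of order `p`. -/
theorem mem_of_orderOf_eq {G : Type*} [Group G] [Finite G] {p : ℕ} [Fact p.Prime]
    (hC : ∀ H K : Subgroup G, IsPGroup p H → IsPGroup p K → Nat.card H = Nat.card K →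
      ∃ g : G, K = H.map (MulAut.conj g).toMonoidHom)
    (M : Subgroup G) [hM : M.Normal] (hdiv : p ∣ Nat.card M) (x : G) (hx : orderOf x = p) :
    x ∈ M := by
  obtain ⟨h0, hh0⟩ := exists_prime_orderOf_dvd_card' p hdiv
  have hh : orderOf (h0 : G) = p := by rw [Subgroup.orderOf_coe]; exact hh0
  have hp1 : IsPGroup p (Subgroup.zpowers (h0 : G)) :=
    IsPGroup.of_card (n := 1) (by rw [Nat.card_zpowers, hh, pow_one])
  have hp2 : IsPGroup p (Subgroup.zpowers x) :=
    IsPGroup.of_card (n := 1) (by rw [Nat.card_zpowers, hx, pow_one])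
  obtain ⟨g, hg⟩ := hC _ _ hp1 hp2 (by rw [Nat.card_zpowers, Nat.card_zpowers, hh, hx])
  have hxm : x ∈ (Subgroup.zpowers (h0 : G)).map (MulAut.conj g).toMonoidHom := by
    rw [← hg]; exact Subgroup.mem_zpowers x
  obtain ⟨y, hy, hyx⟩ := Subgroup.mem_map.mp hxm
  have hyM : y ∈ M := by
    have : Subgroup.zpowers (h0 : G) ≤ M := by
      rw [Subgroup.zpowers_le]; exact h0.2
    exact this hy
  rw [← hyx]
  simp only [MulEquiv.coe_toMonoidHom, MulAut.conj_apply]
  exact hM.conj_mem y hyM g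

/-- A group with a `p`-solvable normal subgroup of order divisible by `p` has `O_{p',p} ≠ O_{p'}`:
there is a normal subgroup `M ≥ O_{p'}(G)` with `|M| = |O_{p'}(G)| p^m`, `m ≥ 1`. -/
theorem exists_normal_above_pPrimeCore {G : Type*} [Group G] [Finite G] {p : ℕ} [hpf : Fact p.Prime]
    (H : Subgroup G) [hH : H.Normal] (hsolv : Cfsg.IsPSolvable p H) (hdiv : p ∣ Nat.card H) :
    ∃ M : Subgroup G, M.Normal ∧ Cfsg.pPrimeCore p G ≤ M ∧
      ∃ m : ℕ, m ≠ 0 ∧ Nat.card M = Nat.card (Cfsg.pPrimeCore p G) * p ^ m := by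
  have hp : p.Prime := hpf.out
  haveI hOn : (Cfsg.pPrimeCore p G).Normal := Cfsg.Agent.Lib.Helper81.pPrimeCore_normal p
  have hOc : (Nat.card (Cfsg.pPrimeCore p G)).Coprime p :=
    Cfsg.Agent.Lib.Helper81.card_pPrimeCore_coprime p
  let f := QuotientGroup.mk' (Cfsg.pPrimeCore p G)
  have hf : Function.Surjective f := QuotientGroup.mk'_surjective _
  haveI hHbn : (H.map f).Normal := hH.map f hf
  have hO' : Cfsg.pPrimeCore p (G ⧸ Cfsg.pPrimeCore p G) = ⊥ :=
    Cfsg.Agent.Lib.Helper81.pPrimeCore_quotient_eq_bot p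
  have hHbO : Cfsg.pPrimeCore p ↥(H.map f) = ⊥ :=
    Cfsg.Agent.Lib.Helper15.pPrimeCore_eq_bot_of_normal p (H.map f) hO'
  have hHbs : Cfsg.IsPSolvable p ↥(H.map f) :=
    Cfsg.Agent.Lib.Helper15.IsPSolvable.of_surjective hp hsolv (f.subgroupMap H)
      (f.subgroupMap_surjective H)
  have hcent := Cfsg.Agent.Lib.Helper81.centralizer_pCore_le hHbs hHbO
  -- the image of `H` is nontrivial
  have hHb : H.map f ≠ ⊥ := by
    intro hbot
    have hle : H ≤ Cfsg.pPrimeCore p G := by
      intro x hx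
      have : f x ∈ H.map f := Subgroup.mem_map_of_mem f hx
      rw [hbot, Subgroup.mem_bot] at this
      exact (QuotientGroup.eq_one_iff x).mp this
    have h1 : Nat.card H ∣ Nat.card (Cfsg.pPrimeCore p G) := Subgroup.card_dvd_of_le hle
    have h2 : p ∣ Nat.card (Cfsg.pPrimeCore p G) := dvd_trans hdiv h1
    exact (Nat.Prime.coprime_iff_not_dvd hp).mp hOc.symm h2
  have hcore : Cfsg.pCore p ↥(H.map f) ≠ ⊥ := by
    intro hbot
    rw [hbot] at hcent
    have htop : (⊤ : Subgroup ↥(H.map f)) ≤ ⊥ := by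
      refine le_trans ?_ hcent
      intro x _
      rw [Subgroup.mem_centralizer_iff]
      intro y hy
      rw [SetLike.mem_coe, Subgroup.mem_bot] at hy
      rw [hy, one_mul, mul_one]
    apply hHb
    rw [eq_bot_iff]
    intro x hx
    have : (⟨x, hx⟩ : ↥(H.map f)) ∈ (⊥ : Subgroup ↥(H.map f)) := htop (Subgroup.mem_top _)
    rw [Subgroup.mem_bot] at this
    rw [Subgroup.mem_bot]
    exact congrArg Subtype.val this
  have hle := Cfsg.Agent.Lib.Helper15.map_pCore_le_of_normal p (H.map f)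
  have hRne : Cfsg.pCore p (G ⧸ Cfsg.pPrimeCore p G) ≠ ⊥ := by
    intro hbot
    rw [hbot, le_bot_iff] at hle
    exact hcore ((Subgroup.map_eq_bot_iff_of_injective _ (H.map f).subtype_injective).mp hle)
  have hRp : IsPGroup p ↥(Cfsg.pCore p (G ⧸ Cfsg.pPrimeCore p G)) :=
    Cfsg.Agent.Lib.Helper81.isPGroup_pCore p
  obtain ⟨m, hm⟩ := IsPGroup.iff_card.mp hRp
  have hm0 : m ≠ 0 := by
    rintro rfl
    rw [pow_zero] at hm
    exact hRne (Subgroup.card_eq_one.mp hm)
  have hRn : (Cfsg.pCore p (G ⧸ Cfsg.pPrimeCore p G)).Normal :=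
    Cfsg.Agent.Lib.Helper81.pCore_normal p
  refine ⟨(Cfsg.pCore p (G ⧸ Cfsg.pPrimeCore p G)).comap f, hRn.comap f, ?_, m, hm0, ?_⟩
  · intro x hx
    rw [Subgroup.mem_comap]
    have : f x = 1 := (QuotientGroup.eq_one_iff x).mpr hx
    rw [this]; exact one_mem _
  · rw [Cfsg.Agent.Lib.Helper81.card_comap_mk', hm]

theorem result {G : Type*} [Group G] [Finite G]
    {p : ℕ} [Fact p.Prime] (hp : p ≠ 2) (hC : ∀ H K : Subgroup G, IsPGroup p H → IsPGroup p K → Nat.card H = Nat.card K →
      ∃ g : G, K = H.map (MulAut.conj g).toMonoidHom) (P : Sylow p G)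
    (H : Subgroup G) [H.Normal] (hsolv : Cfsg.IsPSolvable p H) (hdiv : p ∣ Nat.card H) :
    IsMulCommutative P ∧ ((P : Subgroup G) ≤ H ∨ IsCyclic P) := by
  classical
  have hpp : p.Prime := Fact.out
  -- elements of `P` killed by `p` lie in every normal subgroup of order divisible by `p`
  have key : ∀ (M : Subgroup G) [M.Normal], p ∣ Nat.card M → ∀ x : G, x ^ p = 1 → x ∈ M := by
    intro M _ hM x hx
    by_cases hx1 : x = 1
    · rw [hx1]; exact one_mem M
    · exact mem_of_orderOf_eq hC M hM x (orderOf_eq_prime hx hx1)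
  rcases Cfsg.Agent.S4023.result hC P with hcyc | hel | ⟨h2, _⟩ | ⟨_, hnc, hcard, hexp⟩
  · exact ⟨IsCyclic.isMulCommutative, Or.inr hcyc⟩
  · refine ⟨hel.1, Or.inl ?_⟩
    intro x hx
    exact key H hdiv x (hel.2 x hx)
  · exact absurd h2 hp
  · exfalso
    have hexpP : ∀ x ∈ (P : Subgroup G), x ^ p = 1 := by
      intro x hx
      have := Monoid.pow_exponent_eq_one (⟨x, hx⟩ : ↥(P : Subgroup G))
      rw [hexp] at this
      have := congrArg Subtype.val this
      simpa using this
    obtain ⟨M, hMn, hOM, m, hm0, hMcard⟩ := exists_normal_above_pPrimeCore H hsolv hdiv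
    haveI := hMn
    haveI hOn : (Cfsg.pPrimeCore p G).Normal := Cfsg.Agent.Lib.Helper81.pPrimeCore_normal p
    have hOc : (Nat.card (Cfsg.pPrimeCore p G)).Coprime p :=
      Cfsg.Agent.Lib.Helper81.card_pPrimeCore_coprime p
    have hpM : p ∣ Nat.card M := by
      rw [hMcard]
      exact dvd_mul_of_dvd_right (dvd_pow_self p hm0) _
    have hPM : (P : Subgroup G) ≤ M := fun x hx => key M hpM x (hexpP x hx)
    -- `M = P ⊔ O`
    have hPcard : Nat.card (P : Subgroup G) = p ^ m := by
      apply Nat.dvd_antisymm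
      · have h1 : Nat.card (P : Subgroup G) ∣ Nat.card (Cfsg.pPrimeCore p G) * p ^ m := by
          rw [← hMcard]; exact Subgroup.card_dvd_of_le hPM
        have h2 : (Nat.card (P : Subgroup G)).Coprime (Nat.card (Cfsg.pPrimeCore p G)) := by
          rw [hcard]
          exact Nat.Coprime.pow_left 3 hOc.symm
        exact h2.dvd_of_dvd_mul_left h1
      · apply P.pow_dvd_card_of_pow_dvd_card
        have : p ^ m ∣ Nat.card M := by rw [hMcard]; exact dvd_mul_left _ _
        exact dvd_trans this (Subgroup.card_subgroup_dvd_card M)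
    have hcop : (Nat.card (P : Subgroup G)).Coprime (Nat.card (Cfsg.pPrimeCore p G)) := by
      rw [hPcard]; exact Nat.Coprime.pow_left m hOc.symm
    have hsup : (P : Subgroup G) ⊔ Cfsg.pPrimeCore p G = M := by
      apply Subgroup.eq_of_le_of_card_ge (sup_le hPM hOM)
      rw [hMcard, ← hPcard, mul_comm]
      apply Nat.le_of_dvd Nat.card_pos
      exact hcop.mul_dvd_of_dvd_of_dvd (Subgroup.card_dvd_of_le le_sup_left)
        (Subgroup.card_dvd_of_le le_sup_right)
    have hdisj : (P : Subgroup G) ⊓ Cfsg.pPrimeCore p G = ⊥ :=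
      (Subgroup.disjoint_of_coprime_natCard hcop).eq_bot
    -- Frattini
    have hfrat : Subgroup.normalizer ((P : Subgroup G) : Set G) ⊔ M = ⊤ := by
      have := Sylow.normalizer_sup_eq_top (P.subtype hPM)
      rw [Sylow.coe_subtype, Subgroup.map_subgroupOf_eq_of_le hPM] at this
      exact this
    have hdecomp : ∀ g : G, ∃ n ∈ Subgroup.normalizer ((P : Subgroup G) : Set G),
        ∃ o ∈ Cfsg.pPrimeCore p G, g = n * o := by
      intro g
      have hg : g ∈ Subgroup.normalizer ((P : Subgroup G) : Set G) ⊔ M := by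
        rw [hfrat]; exact Subgroup.mem_top g
      rw [← SetLike.mem_coe, Subgroup.mul_normal] at hg
      obtain ⟨n, hn, m', hm', rfl⟩ := Set.mem_mul.mp hg
      rw [SetLike.mem_coe, ← hsup, ← SetLike.mem_coe, Subgroup.mul_normal] at hm'
      obtain ⟨u, hu, o, ho, rfl⟩ := Set.mem_mul.mp hm'
      refine ⟨n * u, mul_mem hn (Subgroup.le_normalizer hu), o, ho, by rw [mul_assoc]⟩
    -- a central element `z` of order `p` and a non-central `x`
    haveI : Nontrivial ↥(P : Subgroup G) := by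
      rw [← Finite.one_lt_card_iff_nontrivial, hcard]
      exact Nat.one_lt_pow (by norm_num) hpp.one_lt
    haveI := IsPGroup.center_nontrivial P.isPGroup'
    obtain ⟨c, hc1⟩ := exists_ne (1 : ↥(Subgroup.center ↥(P : Subgroup G)))
    have hzP : ((c : ↥(P : Subgroup G)) : G) ∈ (P : Subgroup G) := (c : ↥(P : Subgroup G)).2
    have hzc : ∀ w ∈ (P : Subgroup G), w * ((c : ↥(P : Subgroup G)) : G) =
        ((c : ↥(P : Subgroup G)) : G) * w := by
      intro w hw
      have := Subgroup.mem_center_iff.mp c.2 ⟨w, hw⟩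
      exact congrArg Subtype.val this
    have hz1 : ((c : ↥(P : Subgroup G)) : G) ≠ 1 := by
      intro h
      apply hc1
      apply Subtype.ext
      apply Subtype.ext
      simpa using h
    obtain ⟨x, hxP, w0, hw0P, hxw⟩ : ∃ x ∈ (P : Subgroup G), ∃ w ∈ (P : Subgroup G),
        x * w ≠ w * x := by
      by_contra hall
      push Not at hall
      apply hnc
      exact ⟨⟨fun a b => Subtype.ext (hall a a.2 b b.2)⟩⟩
    have hx1 : x ≠ 1 := by
      rintro rfl
      exact hxw (by rw [one_mul, mul_one])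
    set z : G := ((c : ↥(P : Subgroup G)) : G) with hzdef
    have hzo : orderOf z = p := orderOf_eq_prime (hexpP z hzP) hz1
    have hxo : orderOf x = p := orderOf_eq_prime (hexpP x hxP) hx1
    have hp1 : IsPGroup p (Subgroup.zpowers z) :=
      IsPGroup.of_card (n := 1) (by rw [Nat.card_zpowers, hzo, pow_one])
    have hp2 : IsPGroup p (Subgroup.zpowers x) :=
      IsPGroup.of_card (n := 1) (by rw [Nat.card_zpowers, hxo, pow_one])
    obtain ⟨g, hg⟩ := hC _ _ hp1 hp2 (by rw [Nat.card_zpowers, Nat.card_zpowers, hzo, hxo])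
    have hxm : x ∈ (Subgroup.zpowers z).map (MulAut.conj g).toMonoidHom := by
      rw [← hg]; exact Subgroup.mem_zpowers x
    obtain ⟨w, hw, hwx⟩ := Subgroup.mem_map.mp hxm
    simp only [MulEquiv.coe_toMonoidHom, MulAut.conj_apply] at hwx
    -- `w` is central in `P`
    have hwP : w ∈ (P : Subgroup G) := by
      have : Subgroup.zpowers z ≤ (P : Subgroup G) := by
        rw [Subgroup.zpowers_le]; exact hzP
      exact this hw
    have hwc : ∀ v ∈ (P : Subgroup G), v * w = w * v := by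
      intro v hv
      obtain ⟨k, rfl⟩ := Subgroup.mem_zpowers_iff.mp hw
      have : Commute v z := hzc v hv
      exact (this.zpow_right k).eq
    obtain ⟨n, hn, o, ho, rfl⟩ := hdecomp g
    -- `x' = n⁻¹ x n = o w o⁻¹`
    have hx' : n⁻¹ * x * n = o * w * o⁻¹ := by
      rw [← hwx]; group
    have hx'P : n⁻¹ * x * n ∈ (P : Subgroup G) := by
      have hn' : n⁻¹ ∈ Subgroup.normalizer ((P : Subgroup G) : Set G) := inv_mem hn
      have := (Subgroup.mem_normalizer_iff.mp hn' x).mp hxP
      simpa using this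
    have hmem : n⁻¹ * x * n * w⁻¹ ∈ (P : Subgroup G) ⊓ Cfsg.pPrimeCore p G := by
      refine Subgroup.mem_inf.mpr ⟨mul_mem hx'P (inv_mem hwP), ?_⟩
      rw [hx']
      have h1 : w * o⁻¹ * w⁻¹ ∈ Cfsg.pPrimeCore p G := hOn.conj_mem _ (inv_mem ho) w
      have h2 : o * w * o⁻¹ * w⁻¹ = o * (w * o⁻¹ * w⁻¹) := by group
      rw [h2]
      exact mul_mem ho h1
    rw [hdisj, Subgroup.mem_bot] at hmem
    have hxw' : x = n * w * n⁻¹ := by
      have h1 : n⁻¹ * x * n = w := by
        have := mul_inv_eq_one.mp hmem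
        exact this
      rw [← h1]; group
    -- hence `x` is central in `P`
    apply hxw
    have hv : n⁻¹ * w0 * n ∈ (P : Subgroup G) := by
      have hn' : n⁻¹ ∈ Subgroup.normalizer ((P : Subgroup G) : Set G) := inv_mem hn
      have := (Subgroup.mem_normalizer_iff.mp hn' w0).mp hw0P
      simpa using this
    have hcomm := hwc _ hv
    rw [hxw']
    calc n * w * n⁻¹ * w0 = n * (w * (n⁻¹ * w0 * n)) * n⁻¹ := by group
      _ = n * ((n⁻¹ * w0 * n) * w) * n⁻¹ := by rw [hcomm]
      _ = w0 * (n * w * n⁻¹) := by group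

end Cfsg.Agent.S4024
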