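import Cfsg.Statements.S4145
import Cfsg.Agent.Lib.Helper74.NPC
import Cfsg.Agent.Lib.Helper74.CyclicSylowNPC
import Cfsg.Agent.Lib.Helper20.SylowNormal

set_option autoImplicit false
open Cfsg

namespace Cfsg.Agent.S4145

open Cfsg.Agent.Lib.Helper74

/-- Let G be a finite group with a cyclic Sylow p-subgroup and H a normal subgroup such that p divides both the order of H and the index of H. Then H has a normal p-complement and G is p-solvable. -/
theorem result {G : Type*} [Group G] [Finite G] (p : ℕ) [Fact p.Prime]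
    (P : Sylow p G) (hP : IsCyclic (P : Subgroup G)) (H : Subgroup G) [H.Normal] (h1 : p ∣ Nat.card H) (h2 : p ∣ H.index) :
    Cfsg.HasNormalPComplement p H ∧ Cfsg.IsPSolvable p G := by
  have hp : p.Prime := Fact.out
  -- `P` is not contained in `H`
  have hPH : ¬ (P : Subgroup G) ≤ H := by
    intro hle
    exact P.not_dvd_index (h2.trans (Subgroup.index_dvd_of_le hle))
  -- `Q = P ⊓ H` is a nontrivial Sylow subgroup of `H`
  have hQidx : ¬ p ∣ ((P : Subgroup G) ⊓ H).relIndex H :=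
    Cfsg.Agent.Lib.Helper20.not_dvd_relIndex_inf_normal P H
  have hQcard : p ∣ Nat.card ((P : Subgroup G) ⊓ H : Subgroup G) := by
    have h3 := relIndex_mul_card_of_le' (inf_le_right : (P : Subgroup G) ⊓ H ≤ H)
    rw [← h3] at h1
    rcases (Nat.Prime.dvd_mul hp).mp h1 with h | h
    · exact absurd h hQidx
    · exact h
  obtain ⟨x', hx'⟩ := exists_prime_orderOf_dvd_card' p hQcard
  have hxP : (x' : G) ∈ (P : Subgroup G) := (Subgroup.mem_inf.mp x'.2).1
  have hxH : (x' : G) ∈ H := (Subgroup.mem_inf.mp x'.2).2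
  have hxo : orderOf (x' : G) = p := by rw [Subgroup.orderOf_coe]; exact hx'
  have hx1 : (x' : G) ≠ 1 := by
    intro h
    rw [h, orderOf_one] at hxo
    exact hp.one_lt.ne hxo
  have hxp : (x' : G) ^ p = 1 := by
    have := pow_orderOf_eq_one (x' : G)
    rwa [hxo] at this
  -- Burnside in `K = H P`
  have hK : HasNormalPComplement p ↥(H ⊔ (P : Subgroup G)) := by
    apply hasNormalPComplement_of_cyclic_of_fixed (H ⊔ (P : Subgroup G)) P hP le_sup_right
      (x' : G) hxP hx1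
    intro n hn hnP
    apply commute_of_mem_sup_of_normalizes P hP H hPH (x' : G) hxP hxH hxp n hn
    intro y hy
    exact (hnP y (le_sup_right (a := H) hy)).mp hy
  obtain ⟨LK, hLK⟩ := (hasNormalPComplement_iff_exists_isNPC _).mp hK
  have hM : IsNPC p (LK ⊓ H) H := hLK.inf le_sup_left
  refine ⟨(hasNormalPComplement_iff_exists_isNPC H).mpr ⟨_, hM⟩, ?_⟩
  -- second part
  set M := LK ⊓ H with hMdef
  have hMn : M.Normal := hM.normal
  have hsup : M ⊔ ((P : Subgroup G) ⊓ H) = H := hM.sup_eq inf_le_right hQidx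
  have hHmap : (H.map (QuotientGroup.mk' M)).Normal :=
    Subgroup.Normal.map inferInstance _ (QuotientGroup.mk'_surjective M)
  set X : Subgroup G := (Subgroup.centralizer
    ((H.map (QuotientGroup.mk' M) : Subgroup (G ⧸ M)) : Set (G ⧸ M))).comap (QuotientGroup.mk' M)
    with hXdef
  have hXn : X.Normal := by rw [hXdef]; infer_instance
  have hcomm : ∀ u ∈ (P : Subgroup G), ∀ q ∈ (P : Subgroup G), q * u = u * q := by
    obtain ⟨c, -, hgen⟩ := exists_gen_of_isCyclic (P : Subgroup G) hP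
    intro u hu q hq
    obtain ⟨i, rfl⟩ := hgen u hu
    obtain ⟨j, rfl⟩ := hgen q hq
    exact zpow_mul_comm c j i
  have hPX : (P : Subgroup G) ≤ X := by
    intro u hu
    rw [hXdef, Subgroup.mem_comap, Subgroup.mem_centralizer_iff]
    rintro z ⟨h, hh, rfl⟩
    rw [QuotientGroup.mk'_apply, QuotientGroup.mk'_apply, ← QuotientGroup.mk_mul,
      ← QuotientGroup.mk_mul, QuotientGroup.eq]
    have hh' : h ∈ M ⊔ ((P : Subgroup G) ⊓ H) := by rw [hsup]; exact hh
    obtain ⟨m, hm, q, hq, rfl⟩ := Subgroup.mem_sup_of_normal_left.mp hh'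
    have hc := hcomm u hu q (Subgroup.mem_inf.mp hq).1
    have e1 : (m * q * u)⁻¹ * (u * (m * q)) = q⁻¹ * ((u⁻¹ * m⁻¹ * u⁻¹⁻¹) * m) * q⁻¹⁻¹ := by
      calc (m * q * u)⁻¹ * (u * (m * q)) = (q * u)⁻¹ * m⁻¹ * u * m * q := by group
        _ = (u * q)⁻¹ * m⁻¹ * u * m * q := by rw [hc]
        _ = q⁻¹ * ((u⁻¹ * m⁻¹ * u⁻¹⁻¹) * m) * q⁻¹⁻¹ := by group
    rw [e1]
    exact hMn.conj_mem _ (M.mul_mem (hMn.conj_mem _ (M.inv_mem hm) _) hm) _
  have hXidx : ¬ p ∣ X.index := fun h => P.not_dvd_index (h.trans (Subgroup.index_dvd_of_le hPX))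
  have hMP : ∀ w ∈ M, w ∈ (P : Subgroup G) → w = 1 := by
    intro w hwM hwP
    obtain ⟨k, hk⟩ := IsPGroup.iff_card.mp P.2
    have hcop : (Nat.card M).Coprime (Nat.card (P : Subgroup G)) := by
      rw [hk]; exact Nat.Coprime.pow_right _ hM.cop
    have := (Subgroup.disjoint_of_coprime_natCard hcop).eq_bot
    have hw : w ∈ M ⊓ (P : Subgroup G) := ⟨hwM, hwP⟩
    rw [this] at hw
    exact Subgroup.mem_bot.mp hw
  have hXc : HasNormalPComplement p ↥X := by
    apply hasNormalPComplement_of_cyclic_of_fixed X P hP hPX (x' : G) hxP hx1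
    intro n hn hnP
    have hnX : QuotientGroup.mk' M n ∈ Subgroup.centralizer
        ((H.map (QuotientGroup.mk' M) : Subgroup (G ⧸ M)) : Set (G ⧸ M)) := hn
    rw [Subgroup.mem_centralizer_iff] at hnX
    have h3 := hnX (QuotientGroup.mk' M (x' : G)) ⟨(x' : G), hxH, rfl⟩
    rw [QuotientGroup.mk'_apply, QuotientGroup.mk'_apply, ← QuotientGroup.mk_mul,
      ← QuotientGroup.mk_mul, QuotientGroup.eq] at h3
    -- `w = n⁻¹ x⁻¹ n x ∈ M ⊓ P`
    have hy : n⁻¹ * (x' : G)⁻¹ * n ∈ (P : Subgroup G) := by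
      have hyX : n⁻¹ * (x' : G)⁻¹ * n ∈ X :=
        X.mul_mem (X.mul_mem (X.inv_mem hn) (X.inv_mem (hPX hxP))) hn
      rw [hnP _ hyX]
      have : n * (n⁻¹ * (x' : G)⁻¹ * n) * n⁻¹ = (x' : G)⁻¹ := by group
      rw [this]
      exact (P : Subgroup G).inv_mem hxP
    have hw : ((x' : G) * n)⁻¹ * (n * (x' : G)) = n⁻¹ * (x' : G)⁻¹ * n * (x' : G) := by group
    rw [hw] at h3
    have h4 := hMP _ h3 ((P : Subgroup G).mul_mem hy hxP)
    calc n * (x' : G) = (x' : G) * n * (n⁻¹ * (x' : G)⁻¹ * n * (x' : G)) := by group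
      _ = (x' : G) * n := by rw [h4, mul_one]
  obtain ⟨L, hL⟩ := (hasNormalPComplement_iff_exists_isNPC _).mp hXc
  have hLn : L.Normal := hL.normal
  obtain ⟨j, hj⟩ := hL.idx
  refine ⟨3, ![⊥, L, X, ⊤], rfl, rfl, ?_, ?_, ?_⟩
  · rw [Fin.monotone_iff_le_succ]
    intro i
    fin_cases i
    · show (⊥ : Subgroup G) ≤ L
      exact bot_le
    · show L ≤ X
      exact hL.le
    · show X ≤ ⊤
      exact le_top
  · intro i
    fin_cases i
    · show (⊥ : Subgroup G).Normal
      infer_instance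
    · exact hLn
    · exact hXn
    · show (⊤ : Subgroup G).Normal
      infer_instance
  · intro i
    fin_cases i
    · right
      show ((⊥ : Subgroup G).relIndex L).Coprime p
      rw [Subgroup.relIndex_bot_left]
      exact hL.cop
    · left
      exact ⟨j, hj⟩
    · right
      show (X.relIndex ⊤).Coprime p
      rw [Subgroup.relIndex_top_right]
      exact (Nat.Coprime.symm ((Nat.Prime.coprime_iff_not_dvd hp).mpr hXidx))

end Cfsg.Agent.S4145
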