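import Cfsg.Statements.S4403
import Cfsg.Agent.Lib.Helper28.FStar
import Cfsg.Agent.Lib.Helper28.FStarP
import Cfsg.Agent.Lib.Helper38.Component
import Cfsg.Agent.Lib.Helper30.PCompNorm
import Cfsg.Agent.S4145
import Cfsg.Agent.Lib.Helper57.CyclicSylow
import Cfsg.Agent.Lib.Helper03.NormalPComplement
import Cfsg.Agent.Lib.Helper71.Cyclic
import Cfsg.Agent.Lib.Helper69.PClosed

set_option autoImplicit false
open Cfsg
open scoped commutatorElement

namespace Cfsg.Agent.S4403

/-- A perfect finite group with a normal `p`-complement has order prime to `p`. -/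
theorem not_dvd_card_of_perfect_of_npc {G : Type*} [Group G] [Finite G] {p : ℕ} [Fact p.Prime]
    [hperf : Group.IsPerfect G] (h : Cfsg.HasNormalPComplement p G) : ¬ p ∣ Nat.card G := by
  obtain ⟨Q, N, hN, hc⟩ := h
  haveI := hN
  have hidx : N.index = Nat.card (Q : Subgroup G) := by
    have := hc.symm.index_eq_card
    exact this
  have hpg : IsPGroup p (G ⧸ N) := by
    obtain ⟨k, hk⟩ := IsPGroup.iff_card.mp Q.isPGroup'
    exact IsPGroup.of_card (n := k) (by rw [← Subgroup.index_eq_card, hidx, hk])
  intro hdvd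
  have hsub : Subsingleton (G ⧸ N) := by
    by_contra hns
    rw [not_subsingleton_iff_nontrivial] at hns
    haveI := hns
    exact Group.IsPerfect.not_isNilpotent (G ⧸ N) hpg.isNilpotent
  have hNtop : N = ⊤ := QuotientGroup.subgroup_eq_top_of_subsingleton N hsub
  have hQ1 : Nat.card (Q : Subgroup G) = 1 := by rw [← hidx, hNtop, Subgroup.index_top]
  have := Q.dvd_card_of_dvd_card hdvd
  rw [hQ1] at this
  exact (Fact.out : p.Prime).one_lt.ne' (Nat.dvd_one.mp this)

/-- All Sylow `p`-subgroups are cyclic if one is. -/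
theorem sylow_isCyclic {K : Type*} [Group K] [Finite K] {p : ℕ} [Fact p.Prime]
    (P : Sylow p K) (hP : IsCyclic ↥(P : Subgroup K)) (Q : Sylow p K) :
    IsCyclic ↥(Q : Subgroup K) := by
  obtain ⟨g, rfl⟩ := MulAction.exists_smul_eq K P Q
  exact isCyclic_of_surjective (P.equivSMul g) (P.equivSMul g).surjective

/-- `p`-subgroups of a group with cyclic Sylow `p`-subgroups are cyclic. -/
theorem isCyclic_of_isPGroup {K : Type*} [Group K] [Finite K] {p : ℕ} [Fact p.Prime]
    (P : Sylow p K) (hP : IsCyclic ↥(P : Subgroup K)) (A : Subgroup K) (hA : IsPGroup p A) :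
    IsCyclic ↥A := by
  obtain ⟨Q, hQ⟩ := hA.exists_le_sylow
  haveI := sylow_isCyclic P hP Q
  exact isCyclic_of_injective (Subgroup.inclusion hQ) (Subgroup.inclusion_injective hQ)

/-- Sylow `p`-subgroups of subgroups are cyclic. -/
theorem sylow_subgroup_isCyclic {K : Type*} [Group K] [Finite K] {p : ℕ} [Fact p.Prime]
    (P : Sylow p K) (hP : IsCyclic ↥(P : Subgroup K)) (H : Subgroup K) (Q : Sylow p ↥H) :
    IsCyclic ↥(Q : Subgroup ↥H) := by
  have hA : IsPGroup p ((Q : Subgroup ↥H).map H.subtype) := Q.isPGroup'.map _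
  haveI := isCyclic_of_isPGroup P hP _ hA
  exact isCyclic_of_injective
    ((Q : Subgroup ↥H).equivMapOfInjective H.subtype H.subtype_injective).toMonoidHom
    ((Q : Subgroup ↥H).equivMapOfInjective H.subtype H.subtype_injective).injective

/-- Two commuting elements of order `p` in a group with cyclic Sylow `p`-subgroups generate the
same subgroup. -/
theorem mem_zpowers_of_commute {K : Type*} [Group K] [Finite K] {p : ℕ} [Fact p.Prime]
    (P : Sylow p K) (hP : IsCyclic ↥(P : Subgroup K)) {x y : K} (hx : orderOf x = p)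
    (hy : orderOf y = p) (hc : Commute x y) : y ∈ Subgroup.zpowers x := by
  have hp : p.Prime := Fact.out
  have hpx : IsPGroup p (Subgroup.zpowers x) :=
    IsPGroup.of_card (n := 1) (by rw [Nat.card_zpowers, hx, pow_one])
  have hpy : IsPGroup p (Subgroup.zpowers y) :=
    IsPGroup.of_card (n := 1) (by rw [Nat.card_zpowers, hy, pow_one])
  have hnorm : Subgroup.zpowers x ≤ Subgroup.normalizer (Subgroup.zpowers y : Set K) := by
    rw [Subgroup.zpowers_le]
    rw [Subgroup.mem_normalizer_iff]
    intro h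
    have hxh : ∀ h ∈ Subgroup.zpowers y, x * h * x⁻¹ = h := by
      intro h hh
      obtain ⟨k, rfl⟩ := Subgroup.mem_zpowers_iff.mp hh
      have : Commute x (y ^ k) := hc.zpow_right k
      rw [this.eq, mul_inv_cancel_right]
    constructor
    · intro hh
      rw [hxh h hh]; exact hh
    · intro hh
      have h2 : x⁻¹ * (x * h * x⁻¹) * x⁻¹⁻¹ = h := by group
      have : x⁻¹ * (x * h * x⁻¹) * x⁻¹⁻¹ = x * h * x⁻¹ := by
        have hc' : Commute x⁻¹ (x * h * x⁻¹) := by
          obtain ⟨k, hk⟩ := Subgroup.mem_zpowers_iff.mp hh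
          rw [← hk]
          exact (hc.zpow_right k).inv_left
        rw [hc'.eq, mul_inv_cancel_right]
      rw [← h2, this]; exact hh
  have hA : IsPGroup p ↥(Subgroup.zpowers x ⊔ Subgroup.zpowers y) :=
    IsPGroup.to_sup_of_normal_right' hpx hpy hnorm
  haveI := isCyclic_of_isPGroup P hP _ hA
  have hxA : x ∈ Subgroup.zpowers x ⊔ Subgroup.zpowers y :=
    le_sup_left (a := Subgroup.zpowers x) (Subgroup.mem_zpowers x)
  have hyA : y ∈ Subgroup.zpowers x ⊔ Subgroup.zpowers y :=
    le_sup_right (a := Subgroup.zpowers x) (Subgroup.mem_zpowers y)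
  have key := Cfsg.Agent.Lib.Helper71.mem_zpowers_of_pow_eq_one
    (A := ↥(Subgroup.zpowers x ⊔ Subgroup.zpowers y)) p hp.pos ⟨x, hxA⟩ ⟨y, hyA⟩
    (by rw [Subgroup.orderOf_mk]; exact hx)
    (by apply Subtype.ext; simp only [Subgroup.coe_pow, Subgroup.coe_one]; rw [← hy]; exact pow_orderOf_eq_one y)
  obtain ⟨k, hk⟩ := Subgroup.mem_zpowers_iff.mp key
  rw [Subgroup.mem_zpowers_iff]
  refine ⟨k, ?_⟩
  have := congrArg Subtype.val hk
  simpa using this

/-- An element of order `p` centralizing a centerless component of order divisible by `p`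
does not exist when Sylow `p`-subgroups are cyclic. -/
theorem no_order_p_in_centralizer {K : Type*} [Group K] [Finite K] {p : ℕ} [Fact p.Prime]
    (P : Sylow p K) (hP : IsCyclic ↥(P : Subgroup K)) (L : Subgroup K)
    (hZ : Subgroup.center ↥L = ⊥) (hpL : p ∣ Nat.card L) (y : K) (hy : orderOf y = p)
    (hyC : y ∈ Subgroup.centralizer (L : Set K)) : False := by
  have hp : p.Prime := Fact.out
  obtain ⟨x0, hx0⟩ := exists_prime_orderOf_dvd_card' p hpL
  have hx : orderOf (x0 : K) = p := by rw [Subgroup.orderOf_coe]; exact hx0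
  have hc : Commute (x0 : K) y := by
    have := Subgroup.mem_centralizer_iff.mp hyC (x0 : K) x0.2
    exact this
  have hyx := mem_zpowers_of_commute P hP hx hy hc
  have hyL : y ∈ L := by
    have : Subgroup.zpowers (x0 : K) ≤ L := by
      rw [Subgroup.zpowers_le]; exact x0.2
    exact this hyx
  have hcen : (⟨y, hyL⟩ : ↥L) ∈ Subgroup.center ↥L := by
    rw [Subgroup.mem_center_iff]
    intro l
    apply Subtype.ext
    have := Subgroup.mem_centralizer_iff.mp hyC (l : K) l.2
    simpa using this
  rw [hZ, Subgroup.mem_bot] at hcen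
  have hy1 : y = 1 := by
    have := congrArg Subtype.val hcen
    simpa using this
  rw [hy1, orderOf_one] at hy
  exact hp.one_lt.ne hy

/-- In a normal cyclic subgroup `R`, commutators of the ambient group centralize `R`. -/
theorem commutator_mem_centralizer_of_cyclic_normal {K : Type*} [Group K] (R : Subgroup K)
    [hRn : R.Normal] [hRc : IsCyclic ↥R] (a b : K) :
    ⁅a, b⁆ ∈ Subgroup.centralizer (R : Set K) := by
  have hcomm : ∀ f g : MulAut ↥R, f * g = g * f := fun f g =>
    (IsCyclic.mulAutMulEquiv ↥R).injective (by rw [map_mul, map_mul, mul_comm])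
  have h1 : (MulAut.conjNormal (H := R)) ⁅a, b⁆ = 1 := by
    rw [map_commutatorElement, commutatorElement_eq_one_iff_mul_comm]
    exact hcomm _ _
  rw [Subgroup.mem_centralizer_iff]
  intro r hr
  have h2 := congrArg (fun f : MulAut ↥R => ((f ⟨r, hr⟩ : ↥R) : K)) h1
  simp only [MulAut.conjNormal_apply, MulAut.one_apply] at h2
  calc r * ⁅a, b⁆ = (⁅a, b⁆ * r * ⁅a, b⁆⁻¹) * ⁅a, b⁆ := by rw [h2]
    _ = ⁅a, b⁆ * r := by group

theorem result {K : Type*} [Group K] [Finite K] (p : ℕ) [Fact p.Prime] (hp : p ∣ Nat.card K) (hO : Cfsg.pPrimeCore p K = ⊥)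
    (P : Sylow p K) (hP : IsCyclic ↥(P : Subgroup K)) :
    ((P : Subgroup K).Normal ∧ Subgroup.centralizer ((P : Subgroup K) : Set K) = (P : Subgroup K) ∧
      (∀ (_ : (P : Subgroup K).Normal), IsCyclic (K ⧸ (P : Subgroup K))) ∧ (P : Subgroup K).index ∣ p - 1) ∨
    (IsSimpleGroup ↥(Cfsg.generalizedFittingSubgroup K) ∧ ¬ IsMulCommutative ↥(Cfsg.generalizedFittingSubgroup K) ∧
      ¬ p ∣ (Cfsg.generalizedFittingSubgroup K).index) := by
  classical
  have hp' : p.Prime := Fact.out
  -- `O_q(K) = 1` for `q ≠ p`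
  have hq : ∀ q : ℕ, q.Prime → q ≠ p → Cfsg.pCore q K = ⊥ := by
    intro q hq hqp
    haveI : Fact q.Prime := ⟨hq⟩
    have hle : Cfsg.pCore q K ≤ Cfsg.pPrimeCore p K := by
      apply le_sSup
      refine ⟨Cfsg.Agent.Lib.Helper76.pCore_normal q, ?_⟩
      obtain ⟨k, hk⟩ := IsPGroup.iff_card.mp (Cfsg.Agent.Lib.Helper76.pCore_isPGroup (G := K) q)
      rw [hk]
      exact Nat.Coprime.pow_left k ((Nat.coprime_primes hq hp').mpr hqp)
    rw [hO] at hle
    exact le_bot_iff.mp hle
  have hfit : Cfsg.fittingSubgroup K ≤ Cfsg.pCore p K := by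
    rw [Cfsg.Agent.Lib.Helper76.fittingSubgroup_eq_pCoreJoin]
    apply iSup_le
    intro q
    by_cases hqp : (q : ℕ) = p
    · rw [hqp]
    · rw [hq q (Nat.prime_of_mem_primeFactors q.2) hqp]
      exact bot_le
  have hRn : (Cfsg.pCore p K).Normal := Cfsg.Agent.Lib.Helper76.pCore_normal p
  have hRp : IsPGroup p ↥(Cfsg.pCore p K) := Cfsg.Agent.Lib.Helper76.pCore_isPGroup p
  by_cases hcomp : ∃ L : Subgroup K, Cfsg.IsComponent L
  · right
    obtain ⟨L, hL⟩ := hcomp
    have hpL : p ∣ Nat.card L :=
      Cfsg.Agent.Lib.Helper30.component_dvd_card_of_core_eq_bot p hO hL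
    haveI hLperf : Group.IsPerfect ↥L := hL.2.1
    have hLnt : Nontrivial ↥L := by
      rw [← Finite.one_lt_card_iff_nontrivial]
      exact lt_of_lt_of_le hp'.one_lt (Nat.le_of_dvd Nat.card_pos hpL)
    -- `Z(L) = 1`
    have hZ : Subgroup.center ↥L = ⊥ := by
      by_contra hne
      obtain ⟨z, hz1⟩ := (Subgroup.ne_bot_iff_exists_ne_one).mp hne
      have hZp := Cfsg.Agent.Lib.Helper38.center_isPGroup_of_isComponent p hO L hL
      obtain ⟨Q⟩ : Nonempty (Sylow p ↥L) := inferInstance
      have hzQ : (z : ↥L) ∈ (Q : Subgroup ↥L) :=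
        Cfsg.Agent.Lib.Helper69.le_sylow_of_normal_isPGroup hZp Q z.2
      have hQc := sylow_subgroup_isCyclic P hP L Q
      have hNC := Cfsg.Agent.Lib.Helper57.normalizer_le_centralizer_of_cyclic_of_fixed Q hQc
        (z : ↥L) hzQ (fun h => hz1 (Subtype.ext h)) (by
          intro n _
          rw [Subgroup.mem_centralizer_iff]
          intro y hy
          rw [Set.mem_singleton_iff] at hy
          subst hy
          exact (Subgroup.mem_center_iff.mp z.2 n).symm)
      have hnpc := Cfsg.Agent.Lib.Helper03.hasNormalPComplement_of_normalizer_le_centralizer Q hNC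
      exact not_dvd_card_of_perfect_of_npc hnpc hpL
    have hno := no_order_p_in_centralizer P hP L hZ hpL
    -- uniqueness of the component
    have huniq : ∀ L' : Subgroup K, Cfsg.IsComponent L' → L' = L := by
      intro L' hL'
      by_contra hne
      have hcomm := Cfsg.Agent.Lib.Helper30.component_commute hL hL' (Ne.symm hne)
      have hpL' : p ∣ Nat.card L' :=
        Cfsg.Agent.Lib.Helper30.component_dvd_card_of_core_eq_bot p hO hL'
      obtain ⟨y0, hy0⟩ := exists_prime_orderOf_dvd_card' p hpL'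
      have hy : orderOf (y0 : K) = p := by rw [Subgroup.orderOf_coe]; exact hy0
      have hle : L' ≤ Subgroup.centralizer (L : Set K) := by
        rw [Subgroup.commutator_eq_bot_iff_le_centralizer] at hcomm
        exact Subgroup.le_centralizer_iff.mp hcomm
      exact hno (y0 : K) hy (hle y0.2)
    have hlayer : Cfsg.layer K = L := by
      apply le_antisymm
      · apply sSup_le
        intro L' hL'
        exact (huniq L' hL').le
      · exact le_sSup hL
    -- `O_p(K) = 1`
    have hR : Cfsg.pCore p K = ⊥ := by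
      by_contra hne
      have hpR : p ∣ Nat.card ↥(Cfsg.pCore p K) := by
        obtain ⟨k, hk⟩ := IsPGroup.iff_card.mp hRp
        rw [hk]
        have hk0 : k ≠ 0 := by
          rintro rfl
          rw [pow_zero] at hk
          exact hne ((Subgroup.card_eq_one).mp hk)
        exact dvd_pow_self p hk0
      obtain ⟨y0, hy0⟩ := exists_prime_orderOf_dvd_card' p hpR
      have hy : orderOf (y0 : K) = p := by rw [Subgroup.orderOf_coe]; exact hy0
      have hcomm := Cfsg.Agent.Lib.Helper30.layer_commute_fitting (G := K)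
      rw [hlayer, Subgroup.commutator_eq_bot_iff_le_centralizer] at hcomm
      have hle : Cfsg.fittingSubgroup K ≤ Subgroup.centralizer (L : Set K) :=
        Subgroup.le_centralizer_iff.mp hcomm
      exact hno (y0 : K) hy
        (hle ((Cfsg.Agent.Lib.Helper76.pCore_le_fittingSubgroup (G := K) p) y0.2))
    have hF0 : Cfsg.fittingSubgroup K = ⊥ := by
      rw [hR] at hfit
      exact le_bot_iff.mp hfit
    have hF : Cfsg.generalizedFittingSubgroup K = L := by
      unfold Cfsg.generalizedFittingSubgroup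
      rw [hlayer, hF0, sup_bot_eq]
    have hLn : L.Normal := by
      rw [← hlayer]; exact Cfsg.Agent.Lib.Helper30.layer_normal
    have hsimple : IsSimpleGroup ↥L := by
      haveI : IsSimpleGroup (↥L ⧸ Subgroup.center ↥L) := hL.2.2
      let e : ↥L ⧸ Subgroup.center ↥L ≃* ↥L :=
        (QuotientGroup.quotientMulEquivOfEq hZ).trans QuotientGroup.quotientBot
      exact IsSimpleGroup.isSimpleGroup_of_surjective e.toMonoidHom e.surjective
    rw [hF]
    refine ⟨hsimple, Group.IsPerfect.not_isMulCommutative ↥L, ?_⟩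
    intro hdvd
    have h1 := (Cfsg.Agent.S4145.result p P hP L hpL hdvd).1
    exact not_dvd_card_of_perfect_of_npc h1 hpL
  · left
    push Not at hcomp
    have hFS : Cfsg.Agent.Lib.Helper28.FStarP p K :=
      (Cfsg.Agent.Lib.Helper28.fStarP_iff p).2 ⟨hcomp, hq⟩
    have hF : Cfsg.generalizedFittingSubgroup K = Cfsg.pCore p K :=
      Cfsg.Agent.Lib.Helper28.fStarP_genFitting_eq p hFS
    have hC : Subgroup.centralizer (Cfsg.pCore p K : Set K) ≤ Cfsg.pCore p K := by
      have := Cfsg.Agent.Lib.Helper28.centralizer_genFitting_le (G := K)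
      rwa [hF] at this
    have hRP : Cfsg.pCore p K ≤ (P : Subgroup K) :=
      Cfsg.Agent.Lib.Helper69.le_sylow_of_normal_isPGroup hRp P
    haveI hRc : IsCyclic ↥(Cfsg.pCore p K) := isCyclic_of_isPGroup P hP _ hRp
    -- commutators lie in `R`
    have hK' : ∀ a b : K, ⁅a, b⁆ ∈ Cfsg.pCore p K := fun a b =>
      hC (commutator_mem_centralizer_of_cyclic_normal (Cfsg.pCore p K) a b)
    have hPn : (P : Subgroup K).Normal := by
      refine ⟨fun x hx g => ?_⟩
      have h1 : g * x * g⁻¹ = ⁅g, x⁆ * x := by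
        rw [commutatorElement_def]; group
      rw [h1]
      exact mul_mem (hRP (hK' g x)) hx
    have hPR : (P : Subgroup K) = Cfsg.pCore p K :=
      le_antisymm (Cfsg.Agent.Lib.Helper76.le_pCore hPn P.isPGroup') hRP
    have hPcomm : ∀ a ∈ (P : Subgroup K), ∀ b ∈ (P : Subgroup K), a * b = b * a := by
      intro a ha b hb
      obtain ⟨g, hg⟩ := IsCyclic.exists_generator (α := ↥(P : Subgroup K))
      obtain ⟨i, hi⟩ := Subgroup.mem_zpowers_iff.mp (hg ⟨a, ha⟩)
      obtain ⟨j, hj⟩ := Subgroup.mem_zpowers_iff.mp (hg ⟨b, hb⟩)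
      have : (⟨a, ha⟩ : ↥(P : Subgroup K)) * ⟨b, hb⟩ = ⟨b, hb⟩ * ⟨a, ha⟩ := by
        rw [← hi, ← hj, ← zpow_add, ← zpow_add, add_comm]
      exact congrArg Subtype.val this
    have hCP : Subgroup.centralizer ((P : Subgroup K) : Set K) = (P : Subgroup K) := by
      apply le_antisymm
      · rw [hPR]; exact hC
      · intro a ha
        rw [Subgroup.mem_centralizer_iff]
        intro b hb
        exact hPcomm b hb a ha
    refine ⟨hPn, hCP, ?_⟩
    -- the conjugation action on `P`
    haveI := hPn
    have hker : (MulAut.conjNormal (H := (P : Subgroup K))).ker = (P : Subgroup K) := by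
      refine Eq.trans ?_ hCP
      ext c
      rw [MonoidHom.mem_ker, Subgroup.mem_centralizer_iff]
      constructor
      · intro h1 r hr
        have h2 := congrArg (fun f : MulAut ↥(P : Subgroup K) => ((f ⟨r, hr⟩ : ↥(P : Subgroup K)) : K)) h1
        simp only [MulAut.conjNormal_apply, MulAut.one_apply] at h2
        calc r * c = (c * r * c⁻¹) * c := by rw [h2]
          _ = c * r := by group
      · intro h1
        ext r
        simp only [MulAut.conjNormal_apply, MulAut.one_apply]
        have := h1 (r : K) r.2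
        calc c * (r : K) * c⁻¹ = ((r : K) * c) * c⁻¹ := by rw [this]
          _ = r := by group
    obtain ⟨n, hn⟩ := IsPGroup.iff_card.mp P.isPGroup'
    have hn0 : 0 < n := by
      rcases Nat.eq_zero_or_pos n with h0 | h0
      · exfalso
        have := P.dvd_card_of_dvd_card hp
        rw [hn, h0, pow_zero] at this
        exact hp'.one_lt.ne' (Nat.dvd_one.mp this)
      · exact h0
    have hidx : (P : Subgroup K).index ∣ p - 1 := by
      have h1 : (P : Subgroup K).index ∣ Nat.card (MulAut ↥(P : Subgroup K)) := by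
        have h0 := Subgroup.index_ker (MulAut.conjNormal (H := (P : Subgroup K)))
        rw [hker] at h0
        rw [h0]
        exact Subgroup.card_subgroup_dvd_card _
      rw [IsCyclic.card_mulAut, hn, Nat.totient_prime_pow hp' hn0] at h1
      have hcop : ((P : Subgroup K).index).Coprime (p ^ (n - 1)) :=
        Nat.Coprime.pow_right _ ((Nat.Prime.coprime_iff_not_dvd hp').mpr P.not_dvd_index).symm
      exact hcop.dvd_of_dvd_mul_left h1
    refine ⟨fun _ => ?_, hidx⟩
    by_cases hp2 : p = 2
    · have h1 : (P : Subgroup K).index = 1 := by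
        have h21 : p - 1 = 1 := by omega
        rw [h21] at hidx
        exact Nat.dvd_one.mp hidx
      have htop : (P : Subgroup K) = ⊤ := Subgroup.index_eq_one.mp h1
      have : Subsingleton (K ⧸ (P : Subgroup K)) := by
        rw [htop]
        exact QuotientGroup.subsingleton_quotient_top
      exact isCyclic_of_subsingleton
    · haveI : IsCyclic (ZMod (Nat.card ↥(P : Subgroup K)))ˣ := by
        rw [hn]
        exact ZMod.isCyclic_units_of_prime_pow p hp' hp2 n
      haveI hA : IsCyclic (MulAut ↥(P : Subgroup K)) :=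
        isCyclic_of_injective (IsCyclic.mulAutMulEquiv ↥(P : Subgroup K)).toMonoidHom
          (IsCyclic.mulAutMulEquiv ↥(P : Subgroup K)).injective
      haveI hRg : IsCyclic ↥(MulAut.conjNormal (H := (P : Subgroup K))).range := Subgroup.isCyclic _
      haveI hQ : IsCyclic (K ⧸ (MulAut.conjNormal (H := (P : Subgroup K))).ker) :=
        isCyclic_of_injective
          (QuotientGroup.quotientKerEquivRange (MulAut.conjNormal (H := (P : Subgroup K)))).toMonoidHom
          (QuotientGroup.quotientKerEquivRange (MulAut.conjNormal (H := (P : Subgroup K)))).injective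
      exact isCyclic_of_injective (QuotientGroup.quotientMulEquivOfEq hker.symm).toMonoidHom
        (QuotientGroup.quotientMulEquivOfEq hker.symm).injective

end Cfsg.Agent.S4403
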