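import Cfsg.Statements.S4022
import Cfsg.Agent.S4024
import Cfsg.Agent.S4403
import Cfsg.Agent.Lib.Helper01.SZRel
import Cfsg.Agent.Lib.Helper13.MinNormalSolvable
import Cfsg.Agent.Lib.Helper20.UniqueInvolution
import Cfsg.Agent.Lib.Helper69.Conj

set_option autoImplicit false
open Cfsg

namespace Cfsg.Agent.S4022

open scoped Pointwise

universe u

/-- `p`-subgroups of equal order are conjugate. -/
def DP (G : Type*) [Group G] (p : ℕ) : Prop :=
  ∀ H K : Subgroup G, IsPGroup p H → IsPGroup p K → Nat.card H = Nat.card K →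
    ∃ g : G, K = H.map (MulAut.conj g).toMonoidHom

theorem sylow_eq_top_of_isPGroup {Γ : Type*} [Group Γ] {p : ℕ} (h : IsPGroup p Γ)
    (P : Sylow p Γ) : (P : Subgroup Γ) = ⊤ :=
  (P.is_maximal' (h.to_subgroup ⊤) le_top).symm

theorem map_conj_map {G G' : Type*} [Group G] [Group G'] (f : G →* G') (g : G) (X : Subgroup G) :
    (X.map (MulAut.conj g).toMonoidHom).map f = (X.map f).map (MulAut.conj (f g)).toMonoidHom := by
  rw [Subgroup.map_map, Subgroup.map_map]
  congr 1
  ext x
  simp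

/-- `DP` passes to quotients. -/
theorem dp_quotient {G : Type*} [Group G] [Finite G] {p : ℕ} [Fact p.Prime] (h : DP G p)
    (N : Subgroup G) [N.Normal] : DP (G ⧸ N) p := by
  intro X Y hX hY hXY
  have hf : Function.Surjective (QuotientGroup.mk' N) := QuotientGroup.mk'_surjective N
  obtain ⟨PX⟩ : Nonempty (Sylow p ↥(X.comap (QuotientGroup.mk' N))) := inferInstance
  obtain ⟨PY⟩ : Nonempty (Sylow p ↥(Y.comap (QuotientGroup.mk' N))) := inferInstance
  have hX'p : IsPGroup p ((PX : Subgroup _).map (X.comap (QuotientGroup.mk' N)).subtype) :=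
    PX.isPGroup'.map _
  have hY'p : IsPGroup p ((PY : Subgroup _).map (Y.comap (QuotientGroup.mk' N)).subtype) :=
    PY.isPGroup'.map _
  have hcard : Nat.card ((PX : Subgroup _).map (X.comap (QuotientGroup.mk' N)).subtype) =
      Nat.card ((PY : Subgroup _).map (Y.comap (QuotientGroup.mk' N)).subtype) := by
    rw [Subgroup.card_map_of_injective (Subgroup.subtype_injective _),
      Subgroup.card_map_of_injective (Subgroup.subtype_injective _),
      Sylow.card_eq_multiplicity, Sylow.card_eq_multiplicity,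
      Cfsg.Agent.Lib.Helper81.card_comap_mk', Cfsg.Agent.Lib.Helper81.card_comap_mk', hXY]
  obtain ⟨g, hg⟩ := h _ _ hX'p hY'p hcard
  -- the images are `X` and `Y`
  have himg : ∀ (Z : Subgroup (G ⧸ N)) (hZ : IsPGroup p Z)
      (PZ : Sylow p ↥(Z.comap (QuotientGroup.mk' N))),
      ((PZ : Subgroup _).map (Z.comap (QuotientGroup.mk' N)).subtype).map (QuotientGroup.mk' N) = Z := by
    intro Z hZ PZ
    apply le_antisymm
    · rintro _ ⟨_, ⟨x, _, rfl⟩, rfl⟩
      exact x.2
    · intro z hz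
      have hφ := MonoidHom.subgroupComap_surjective_of_surjective (QuotientGroup.mk' N) Z hf
      have htop := sylow_eq_top_of_isPGroup hZ (PZ.mapSurjective hφ)
      rw [Sylow.coe_mapSurjective] at htop
      have hz' : (⟨z, hz⟩ : ↥Z) ∈ (PZ : Subgroup _).map ((QuotientGroup.mk' N).subgroupComap Z) := by
        rw [htop]; exact Subgroup.mem_top _
      obtain ⟨x, hx, hxz⟩ := hz'
      refine ⟨(x : G), ⟨x, hx, rfl⟩, ?_⟩
      exact congrArg Subtype.val hxz
  refine ⟨QuotientGroup.mk' N g, ?_⟩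
  rw [← himg Y hY PY, hg, map_conj_map, himg X hX PX]

/-- Cyclic Sylow subgroups pass to quotients. -/
theorem sylow_cyclic_quotient {G : Type*} [Group G] [Finite G] {p : ℕ} [Fact p.Prime]
    (h : ∀ P : Sylow p G, IsCyclic P) (N : Subgroup G) [N.Normal] :
    ∀ P : Sylow p (G ⧸ N), IsCyclic P := by
  intro P
  have hf : Function.Surjective (QuotientGroup.mk' N) := QuotientGroup.mk'_surjective N
  obtain ⟨Q, rfl⟩ := Sylow.mapSurjective_surjective hf p P
  haveI := h Q
  have : IsCyclic ↥((Q : Subgroup G).map (QuotientGroup.mk' N)) :=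
    isCyclic_of_surjective ((QuotientGroup.mk' N).subgroupMap (Q : Subgroup G))
      ((QuotientGroup.mk' N).subgroupMap_surjective _)
  exact this

/-- A finite group whose Sylow `p`-subgroups are cyclic satisfies `DP`. -/
theorem dp_of_cyclic {G : Type*} [Group G] [Finite G] {p : ℕ} [Fact p.Prime]
    (h : ∀ P : Sylow p G, IsCyclic P) : DP G p := by
  intro H K hH hK hHK
  obtain ⟨P, hP⟩ := hH.exists_le_sylow
  obtain ⟨Q, hQ⟩ := hK.exists_le_sylow
  obtain ⟨g, rfl⟩ := MulAction.exists_smul_eq G P Q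
  refine ⟨g, ?_⟩
  haveI := h (g • P)
  have h1 : H.map (MulAut.conj g).toMonoidHom ≤ ((g • P : Sylow p G) : Subgroup G) := by
    rintro _ ⟨x, hx, rfl⟩
    exact ⟨x, hP hx, rfl⟩
  have h2 := Cfsg.Agent.Lib.Helper20.subgroup_eq_of_card_eq_of_isCyclic
    (K.subgroupOf ((g • P : Sylow p G) : Subgroup G))
    ((H.map (MulAut.conj g).toMonoidHom).subgroupOf ((g • P : Sylow p G) : Subgroup G))
    (by
      rw [Cfsg.Agent.Lib.Helper01.card_subgroupOf_of_le hQ, Cfsg.Agent.Lib.Helper01.card_subgroupOf_of_le h1,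
        Subgroup.card_map_of_injective (MulAut.conj g).injective, hHK])
  have h3 := congrArg (Subgroup.map ((g • P : Sylow p G) : Subgroup G).subtype) h2
  rwa [Subgroup.map_subgroupOf_eq_of_le hQ, Subgroup.map_subgroupOf_eq_of_le h1] at h3

theorem pow_eq_of_mul_eq {q a b m m' : ℕ} (hq : q.Prime) (hm : ¬ q ∣ m) (hm' : ¬ q ∣ m')
    (h : q ^ a * m = q ^ b * m') : q ^ a = q ^ b := by
  apply Nat.dvd_antisymm
  · have h1 : q ^ a ∣ q ^ b * m' := ⟨m, h.symm⟩
    exact (Nat.Coprime.pow_left a ((Nat.Prime.coprime_iff_not_dvd hq).mpr hm')).dvd_of_dvd_mul_right h1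
  · have h1 : q ^ b ∣ q ^ a * m := ⟨m', h⟩
    exact (Nat.Coprime.pow_left b ((Nat.Prime.coprime_iff_not_dvd hq).mpr hm)).dvd_of_dvd_mul_right h1

/-- `|N ⊓ H| * [H : N ⊓ H] = |H|`. -/
theorem card_inf_mul_relIndex {G : Type*} [Group G] (N H : Subgroup G) :
    Nat.card (H ⊓ N : Subgroup G) * N.relIndex H = Nat.card H := by
  have h3 := (N.subgroupOf H).card_mul_index
  rw [Cfsg.Agent.Lib.Helper01.card_subgroupOf_eq_card_inf, inf_comm] at h3
  exact h3

/-- Last step: `N` a normal abelian Sylow `q`-subgroup, `H ⊓ N = K ⊓ N`, `H ⊔ N = K ⊔ N`,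
`|H| = |K|` imply `H`, `K` conjugate. -/
theorem conj_of_inf_sup_eq {G : Type*} [Group G] [Finite G] {q : ℕ} [hqf : Fact q.Prime]
    (N : Subgroup G) [hNn : N.Normal] (hNp : IsPGroup q N) (hNi : ¬ q ∣ N.index)
    (hNcomm : ∀ a ∈ N, ∀ b ∈ N, a * b = b * a)
    (H K : Subgroup G) (hHK : Nat.card H = Nat.card K) (hinf : H ⊓ N = K ⊓ N)
    (hsup : H ⊔ N = K ⊔ N) : ∃ g : G, MulAut.conj g • H = K := by
  have hq : q.Prime := hqf.out
  haveI : Group.IsNilpotent ↥N := hNp.isNilpotent
  have hNsolv : Group.IsSolvable ↥N := inferInstance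
  -- normalizer facts
  have hHA : H ≤ Subgroup.normalizer ((H ⊓ N : Subgroup G) : Set G) :=
    Cfsg.Agent.Lib.Helper01.le_normalizer_inf_normal H N
  have hKA : K ≤ Subgroup.normalizer ((H ⊓ N : Subgroup G) : Set G) := by
    rw [hinf]; exact Cfsg.Agent.Lib.Helper01.le_normalizer_inf_normal K N
  have hNA : N ≤ Subgroup.normalizer ((H ⊓ N : Subgroup G) : Set G) := by
    intro n hn
    rw [Subgroup.mem_normalizer_iff]
    intro h
    constructor
    · intro hh
      have : n * h * n⁻¹ = h := by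
        rw [hNcomm n hn h (Subgroup.mem_inf.mp hh).2, mul_inv_cancel_right]
      rw [this]; exact hh
    · intro hh
      have h1 : n * h * n⁻¹ ∈ N := (Subgroup.mem_inf.mp hh).2
      have h2 : h = n⁻¹ * (n * h * n⁻¹) * n := by group
      have h3 : n⁻¹ * (n * h * n⁻¹) * n = n * h * n⁻¹ := by
        rw [hNcomm n⁻¹ (inv_mem hn) _ h1, inv_mul_cancel_right]
      rw [h2, h3]; exact hh
  -- orders
  have hA_pg : IsPGroup q ↥(H ⊓ N : Subgroup G) := hNp.to_le inf_le_right
  obtain ⟨a, ha⟩ := IsPGroup.iff_card.mp hA_pg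
  have hmH : ¬ q ∣ N.relIndex H := fun h =>
    hNi (dvd_trans h (Subgroup.relIndex_dvd_index_of_normal N H))
  have hmK : ¬ q ∣ N.relIndex K := fun h =>
    hNi (dvd_trans h (Subgroup.relIndex_dvd_index_of_normal N K))
  have hcH := card_inf_mul_relIndex N H
  have hcK := card_inf_mul_relIndex N K
  have hmm : N.relIndex K = N.relIndex H := by
    rw [← hinf, ← hHK, ← hcH] at hcK
    exact Nat.eq_of_mul_eq_mul_left Nat.card_pos hcK
  have hcopA : (Nat.card ↥(H ⊓ N : Subgroup G)).Coprime (N.relIndex H) := by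
    rw [ha]; exact Nat.Coprime.pow_left a ((Nat.Prime.coprime_iff_not_dvd hq).mpr hmH)
  obtain ⟨H0, hH0, hH0c⟩ := Cfsg.Agent.Lib.Helper01.sz_exists_in H (H ⊓ N) inf_le_left hHA
    (N.relIndex H) hcH.symm hcopA
  obtain ⟨K0, hK0, hK0c⟩ := Cfsg.Agent.Lib.Helper01.sz_exists_in K (H ⊓ N)
    (by rw [hinf]; exact inf_le_left) hKA (N.relIndex H)
    (by rw [← hmm, hinf]; exact hcK.symm) hcopA
  -- `|H ⊔ N| = |N| * m`
  have hX : Nat.card (H ⊔ N : Subgroup G) = Nat.card N * N.relIndex H := by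
    have h1 := Cfsg.Agent.Lib.Helper01.card_sup_mul_card_inf N H
    rw [inf_comm, ← hcH] at h1
    have h2 : Nat.card ↥(H ⊔ N) * Nat.card ↥(H ⊓ N) =
        (Nat.card ↥N * N.relIndex H) * Nat.card ↥(H ⊓ N) := by rw [h1]; ring
    exact Nat.eq_of_mul_eq_mul_right Nat.card_pos h2
  obtain ⟨b, hb⟩ := IsPGroup.iff_card.mp hNp
  have hcopN : (Nat.card N).Coprime (Nat.card H0) := by
    rw [hb, hH0c]; exact Nat.Coprime.pow_left b ((Nat.Prime.coprime_iff_not_dvd hq).mpr hmH)
  obtain ⟨x, hxX, hx⟩ := Cfsg.Agent.Lib.Helper01.sz_conj_in (H ⊔ N) N H0 K0 le_sup_right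
    (hH0.trans le_sup_left) (by rw [hsup]; exact hK0.trans le_sup_left)
    (by rw [Subgroup.normalizer_eq_top]; exact le_top)
    (by rw [hX, hH0c]) hcopN (by rw [hK0c, hH0c]) (Or.inl hNsolv)
  -- `H = A ⊔ H0`, `K = A ⊔ K0`
  have hdecomp : ∀ (H' H0' : Subgroup G), H0' ≤ H' → H ⊓ N ≤ H' → Nat.card H0' = N.relIndex H →
      Nat.card H' = Nat.card H → (H ⊓ N) ⊔ H0' = H' := by
    intro H' H0' h1 h2 h3 h4
    apply Subgroup.eq_of_le_of_card_ge (sup_le h2 h1)
    rw [h4, ← hcH]
    apply Nat.le_of_dvd Nat.card_pos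
    apply hcopA.mul_dvd_of_dvd_of_dvd (Subgroup.card_dvd_of_le le_sup_left)
    rw [← h3]
    exact Subgroup.card_dvd_of_le le_sup_right
  have hHd := hdecomp H H0 hH0 inf_le_left hH0c rfl
  have hKd := hdecomp K K0 hK0 (by rw [hinf]; exact inf_le_left) hK0c hHK.symm
  have hxA : MulAut.conj x • (H ⊓ N : Subgroup G) = H ⊓ N := by
    apply Cfsg.Agent.Lib.Helper01.mem_normalizer_iff_conj_smul.mp
    exact (sup_le hHA hNA) hxX
  refine ⟨x, ?_⟩
  rw [← hHd, Subgroup.smul_sup, hxA, hx, hKd]

theorem main : ∀ (n : ℕ) (G : Type u) [Group G] [Finite G] [Group.IsSolvable G], Nat.card G = n →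
    (∀ p : ℕ, p.Prime → DP G p) → ∀ r : ℕ,
    (∀ p : ℕ, p.Prime → p ≠ r → ∀ P : Sylow p G, IsCyclic P) →
    ∀ H K : Subgroup G, Nat.card H = Nat.card K → ∃ g : G, MulAut.conj g • H = K := by
  intro n
  induction n using Nat.strong_induction_on with
  | _ n ih =>
  intro G _ _ _ hn hD r hcyc H K hHK
  rcases subsingleton_or_nontrivial G with hs | hnt
  · refine ⟨1, ?_⟩
    rw [map_one, one_smul]
    ext x
    rw [Subsingleton.elim x 1]
    simp
  obtain ⟨N, hN⟩ := Cfsg.Agent.Lib.Helper13.exists_isMinNormal (G := G)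
  obtain ⟨q, hq, hqN, hexp, hNp⟩ := hN.exists_prime
  haveI : Fact q.Prime := ⟨hq⟩
  haveI hNn : N.Normal := hN.1
  have hNcomm : ∀ a ∈ N, ∀ b ∈ N, a * b = b * a := fun a ha b hb => hN.mul_comm_of_mem ha hb
  have hf : Function.Surjective (QuotientGroup.mk' N) := QuotientGroup.mk'_surjective N
  have hker : (QuotientGroup.mk' N).ker = N := QuotientGroup.ker_mk' N
  have hN1 : 1 < Nat.card N := lt_of_lt_of_le hq.one_lt (Nat.le_of_dvd Nat.card_pos hqN)
  have hlt : Nat.card (G ⧸ N) < n := by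
    rw [← hn, ← Subgroup.index_eq_card, ← N.card_mul_index]
    have hpos : 0 < N.index := Nat.pos_of_ne_zero Subgroup.index_ne_zero_of_finite
    nlinarith
  have hDQ : ∀ p : ℕ, p.Prime → DP (G ⧸ N) p := fun p hp => by
    haveI : Fact p.Prime := ⟨hp⟩
    exact dp_quotient (hD p hp) N
  have hcycQ : ∀ p : ℕ, p.Prime → p ≠ r → ∀ P : Sylow p (G ⧸ N), IsCyclic P := fun p hp hpr => by
    haveI : Fact p.Prime := ⟨hp⟩
    exact sylow_cyclic_quotient (hcyc p hp hpr) N
  have ihQ := ih _ hlt (G ⧸ N) rfl hDQ r hcycQ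
  have hmemN : ∀ x : G, orderOf x = q → x ∈ N := fun x hx =>
    Cfsg.Agent.S4024.mem_of_orderOf_eq (hD q hq) N hqN x hx
  by_cases hNq : Nat.card N = q
  · -- `N` has order `q`
    have hNle : ∀ H' : Subgroup G, q ∣ Nat.card H' → N ≤ H' := by
      intro H' hH'
      obtain ⟨x0, hx0⟩ := exists_prime_orderOf_dvd_card' q hH'
      have hx : orderOf (x0 : G) = q := by rw [Subgroup.orderOf_coe]; exact hx0
      have hxN : (x0 : G) ∈ N := hmemN _ hx
      have hz : Subgroup.zpowers (x0 : G) = N := by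
        apply Subgroup.eq_of_le_of_card_ge
        · rw [Subgroup.zpowers_le]; exact hxN
        · rw [Nat.card_zpowers, hx, hNq]
      rw [← hz, Subgroup.zpowers_le]
      exact x0.2
    by_cases hqH : q ∣ Nat.card H
    · have hNH : N ≤ H := hNle H hqH
      have hNK : N ≤ K := hNle K (hHK ▸ hqH)
      have hcard : Nat.card (H.map (QuotientGroup.mk' N)) = Nat.card (K.map (QuotientGroup.mk' N)) := by
        have h1 := Cfsg.Agent.Lib.Helper01.card_map_mul_card_ker_of_le (QuotientGroup.mk' N) H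
          (by rw [hker]; exact hNH)
        have h2 := Cfsg.Agent.Lib.Helper01.card_map_mul_card_ker_of_le (QuotientGroup.mk' N) K
          (by rw [hker]; exact hNK)
        rw [← hHK, ← h1] at h2
        exact (Nat.eq_of_mul_eq_mul_right Nat.card_pos h2).symm
      obtain ⟨g, hg⟩ := Cfsg.Agent.Lib.Helper01.conj_of_conj_map (QuotientGroup.mk' N) hf
        (ihQ _ _ hcard)
      refine ⟨g, ?_⟩
      rw [hker] at hg
      have h1 : N ≤ MulAut.conj g • H := by
        rw [← Cfsg.Agent.Lib.Helper01.conj_smul_normal g N]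
        exact Subgroup.pointwise_smul_le_pointwise_smul_iff.mpr hNH
      rwa [sup_eq_left.mpr h1, sup_eq_left.mpr hNK] at hg
    · have hcopH : (Nat.card H).Coprime (Nat.card N) := by
        rw [hNq]; exact ((Nat.Prime.coprime_iff_not_dvd hq).mpr hqH).symm
      have hcopK : (Nat.card K).Coprime (Nat.card N) := by rw [← hHK]; exact hcopH
      have hcard : Nat.card (H.map (QuotientGroup.mk' N)) = Nat.card (K.map (QuotientGroup.mk' N)) := by
        rw [Cfsg.Agent.Lib.Helper01.card_map_of_coprime _ _ (by rw [hker]; exact hcopH),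
          Cfsg.Agent.Lib.Helper01.card_map_of_coprime _ _ (by rw [hker]; exact hcopK), hHK]
      obtain ⟨g, hg⟩ := Cfsg.Agent.Lib.Helper01.conj_of_conj_map (QuotientGroup.mk' N) hf
        (ihQ _ _ hcard)
      rw [hker] at hg
      have hc1 : Nat.card (MulAut.conj g • H : Subgroup G) = Nat.card K := by
        rw [Cfsg.Agent.Lib.Helper01.card_conj_smul, hHK]
      haveI : Group.IsNilpotent ↥N := hNp.isNilpotent
      have hNsolv : Group.IsSolvable ↥N := inferInstance
      obtain ⟨x, _, hx⟩ := Cfsg.Agent.Lib.Helper01.sz_conj_in (K ⊔ N) N (MulAut.conj g • H) K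
        le_sup_right (by rw [← hg]; exact le_sup_left) le_sup_left
        (by rw [Subgroup.normalizer_eq_top]; exact le_top)
        (by rw [Cfsg.Agent.Lib.Helper01.card_sup_of_coprime N K hcopK.symm, hc1])
        (by rw [hc1]; exact hcopK.symm) hc1.symm (Or.inl hNsolv)
      refine ⟨x * g, ?_⟩
      rw [← Cfsg.Agent.Lib.Helper01.conj_smul_conj_smul]
      exact hx
  · -- `N` is a normal Sylow subgroup of order `> q`
    obtain ⟨a, ha⟩ := IsPGroup.iff_card.mp hNp
    have ha2 : 2 ≤ a := by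
      rcases a with _ | _ | a
      · rw [pow_zero] at ha; omega
      · rw [pow_one] at ha; exact absurd ha hNq
      · omega
    -- `q = r`
    have hqr : q = r := by
      by_contra hne
      obtain ⟨Q⟩ : Nonempty (Sylow q G) := inferInstance
      haveI hNc : IsCyclic ↥N := Cfsg.Agent.S4403.isCyclic_of_isPGroup Q (hcyc q hq hne Q) N hNp
      have h1 : Monoid.exponent ↥N ∣ q := Monoid.exponent_dvd_of_forall_pow_eq_one (fun g => by
        apply Subtype.ext
        simpa using hexp g g.2)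
      rw [IsCyclic.exponent_eq_card] at h1
      rcases (Nat.dvd_prime hq).mp h1 with h | h
      · omega
      · exact hNq h
    -- every `q`-element has `q`-th power `1`
    have hqel : ∀ y : G, (∃ j : ℕ, orderOf y = q ^ j) → y ^ q = 1 := by
      rintro y ⟨j, hj⟩
      by_contra hy
      have hj2 : 2 ≤ j := by
        by_contra hlt
        push Not at hlt
        apply hy
        have : orderOf y ∣ q := by
          rw [hj]
          calc q ^ j ∣ q ^ 1 := pow_dvd_pow q (by omega)
            _ = q := pow_one q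
        exact orderOf_dvd_iff_pow_eq_one.mp this
      have hord : orderOf (y ^ q ^ (j - 2)) = q ^ 2 := by
        rw [orderOf_pow_of_dvd (pow_ne_zero _ hq.ne_zero) (by rw [hj]; exact pow_dvd_pow q (by omega)),
          hj, Nat.pow_div (by omega) hq.pos]
        congr 1
        omega
      have hdvd : q ^ 2 ∣ Nat.card ↥N := by rw [ha]; exact pow_dvd_pow q ha2
      obtain ⟨E, hE⟩ := Sylow.exists_subgroup_card_pow_prime q hdvd
      have hE' : Nat.card (E.map N.subtype) = q ^ 2 := by
        rw [Subgroup.card_map_of_injective N.subtype_injective, hE]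
      have hEN : E.map N.subtype ≤ N := Subgroup.map_subtype_le E
      obtain ⟨g, hg⟩ := hD q hq (E.map N.subtype) (Subgroup.zpowers (y ^ q ^ (j - 2)))
        (IsPGroup.of_card hE') (IsPGroup.of_card (n := 2) (by rw [Nat.card_zpowers, hord]))
        (by rw [hE', Nat.card_zpowers, hord])
      have hxN : y ^ q ^ (j - 2) ∈ N := by
        have h1 : y ^ q ^ (j - 2) ∈ (E.map N.subtype).map (MulAut.conj g).toMonoidHom := by
          rw [← hg]; exact Subgroup.mem_zpowers _
        obtain ⟨e, he, hee⟩ := Subgroup.mem_map.mp h1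
        rw [← hee]
        simp only [MulEquiv.coe_toMonoidHom, MulAut.conj_apply]
        exact hNn.conj_mem e (hEN he) g
      have h2 := hexp _ hxN
      have h3 : orderOf (y ^ q ^ (j - 2)) ∣ q := orderOf_dvd_of_pow_eq_one h2
      rw [hord] at h3
      have h4 : q ^ 2 ≤ q := Nat.le_of_dvd hq.pos h3
      have h5 : 2 ≤ q := hq.two_le
      nlinarith
    -- `N` is the Sylow `q`-subgroup
    have hNi : ¬ q ∣ N.index := by
      obtain ⟨Q⟩ : Nonempty (Sylow q G) := inferInstance
      have hQN : (Q : Subgroup G) = N := by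
        apply le_antisymm
        · intro y hy
          have hyq : y ^ q = 1 := by
            apply hqel y
            obtain ⟨k, hk⟩ := (IsPGroup.iff_orderOf.mp Q.isPGroup') ⟨y, hy⟩
            exact ⟨k, by rw [← hk, Subgroup.orderOf_mk]⟩
          by_cases hy1 : y = 1
          · rw [hy1]; exact one_mem N
          · exact hmemN y (orderOf_eq_prime hyq hy1)
        · exact Cfsg.Agent.Lib.Helper69.le_sylow_of_normal_isPGroup hNp Q
      rw [← hQN]
      exact Q.not_dvd_index
    -- all Sylow subgroups of subgroups of `G ⧸ N` are cyclic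
    have hcycL : ∀ (Lb : Subgroup (G ⧸ N)) (p : ℕ) [Fact p.Prime] (P : Sylow p ↥Lb), IsCyclic P := by
      intro Lb p _ P
      by_cases hpr : p = r
      · have hp0 : ¬ p ∣ Nat.card ↥Lb := by
          intro h
          apply hNi
          rw [hqr, ← hpr, Subgroup.index_eq_card]
          exact dvd_trans h (Subgroup.card_subgroup_dvd_card Lb)
        have hP1 : Nat.card ↥(P : Subgroup ↥Lb) = 1 := by
          rw [Sylow.card_eq_multiplicity, Nat.factorization_eq_zero_of_not_dvd hp0, pow_zero]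
        haveI : Subsingleton ↥(P : Subgroup ↥Lb) := (Nat.card_eq_one_iff_unique.mp hP1).1
        exact isCyclic_of_subsingleton
      · obtain ⟨P0⟩ : Nonempty (Sylow p (G ⧸ N)) := inferInstance
        exact Cfsg.Agent.S4403.sylow_subgroup_isCyclic P0
          (hcycQ p (Fact.out : p.Prime) hpr P0) Lb P
    -- conjugacy when the intersections with `N` agree
    have key : ∀ H K : Subgroup G, Nat.card H = Nat.card K → H ⊓ N = K ⊓ N →
        ∃ g : G, MulAut.conj g • H = K := by
      intro H K hHK hinf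
      have hHA : H ≤ Subgroup.normalizer ((H ⊓ N : Subgroup G) : Set G) :=
        Cfsg.Agent.Lib.Helper01.le_normalizer_inf_normal H N
      have hKA : K ≤ Subgroup.normalizer ((H ⊓ N : Subgroup G) : Set G) := by
        rw [hinf]; exact Cfsg.Agent.Lib.Helper01.le_normalizer_inf_normal K N
      have hcard : Nat.card (H.map (QuotientGroup.mk' N)) = Nat.card (K.map (QuotientGroup.mk' N)) := by
        have h1 := Cfsg.Agent.Lib.Helper01.card_map_mul_card_inf_ker (QuotientGroup.mk' N) H
        have h2 := Cfsg.Agent.Lib.Helper01.card_map_mul_card_inf_ker (QuotientGroup.mk' N) K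
        rw [hker, inf_comm] at h1 h2
        rw [← hinf, ← hHK, ← h1] at h2
        exact (Nat.eq_of_mul_eq_mul_right Nat.card_pos h2).symm
      have hHL : H.map (QuotientGroup.mk' N) ≤
          (Subgroup.normalizer ((H ⊓ N : Subgroup G) : Set G)).map (QuotientGroup.mk' N) :=
        Subgroup.map_mono hHA
      have hKL : K.map (QuotientGroup.mk' N) ≤
          (Subgroup.normalizer ((H ⊓ N : Subgroup G) : Set G)).map (QuotientGroup.mk' N) :=
        Subgroup.map_mono hKA
      have hltL : Nat.card ↥((Subgroup.normalizer ((H ⊓ N : Subgroup G) : Set G)).map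
          (QuotientGroup.mk' N)) < n :=
        lt_of_le_of_lt (Subgroup.card_le_card_group _) hlt
      have ihL := ih _ hltL ↥((Subgroup.normalizer ((H ⊓ N : Subgroup G) : Set G)).map
          (QuotientGroup.mk' N)) rfl
        (fun p hp => by
          haveI : Fact p.Prime := ⟨hp⟩
          exact dp_of_cyclic (hcycL _ p))
        r (fun p hp _ P => by
          haveI : Fact p.Prime := ⟨hp⟩
          exact hcycL _ p P)
        ((H.map (QuotientGroup.mk' N)).subgroupOf _) ((K.map (QuotientGroup.mk' N)).subgroupOf _)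
        (by rw [Cfsg.Agent.Lib.Helper01.card_subgroupOf_of_le hHL,
          Cfsg.Agent.Lib.Helper01.card_subgroupOf_of_le hKL, hcard])
      obtain ⟨gb, hgbL, hgb⟩ := Cfsg.Agent.Lib.Helper01.conj_of_conj_subgroupOf hHL hKL ihL
      obtain ⟨l, hl, rfl⟩ := Subgroup.mem_map.mp hgbL
      rw [← Cfsg.Agent.Lib.Helper01.map_conj_smul] at hgb
      have hsup : (MulAut.conj l • H) ⊔ N = K ⊔ N := by
        have := congrArg (Subgroup.comap (QuotientGroup.mk' N)) hgb
        rwa [Subgroup.comap_map_eq, Subgroup.comap_map_eq, hker] at this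
      have hlA : MulAut.conj l • (H ⊓ N : Subgroup G) = H ⊓ N :=
        Cfsg.Agent.Lib.Helper01.mem_normalizer_iff_conj_smul.mp hl
      have hinf' : (MulAut.conj l • H) ⊓ N = K ⊓ N := by
        rw [← hinf, ← hlA, Subgroup.smul_inf, Cfsg.Agent.Lib.Helper01.conj_smul_normal l N]
      obtain ⟨x, hx⟩ := conj_of_inf_sup_eq N hNp hNi hNcomm (MulAut.conj l • H) K
        (by rw [Cfsg.Agent.Lib.Helper01.card_conj_smul, hHK]) hinf' hsup
      refine ⟨x * l, ?_⟩
      rw [← Cfsg.Agent.Lib.Helper01.conj_smul_conj_smul]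
      exact hx
    -- general case: first conjugate the intersections with `N`
    have hAp : IsPGroup q ↥(H ⊓ N : Subgroup G) := hNp.to_le inf_le_right
    have hBp : IsPGroup q ↥(K ⊓ N : Subgroup G) := hNp.to_le inf_le_right
    have hAB : Nat.card ↥(H ⊓ N : Subgroup G) = Nat.card ↥(K ⊓ N : Subgroup G) := by
      obtain ⟨a1, ha1⟩ := IsPGroup.iff_card.mp hAp
      obtain ⟨b1, hb1⟩ := IsPGroup.iff_card.mp hBp
      have hmH : ¬ q ∣ N.relIndex H := fun h =>
        hNi (dvd_trans h (Subgroup.relIndex_dvd_index_of_normal N H))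
      have hmK : ¬ q ∣ N.relIndex K := fun h =>
        hNi (dvd_trans h (Subgroup.relIndex_dvd_index_of_normal N K))
      have hcH := card_inf_mul_relIndex N H
      have hcK := card_inf_mul_relIndex N K
      rw [ha1, hb1]
      apply pow_eq_of_mul_eq hq hmH hmK
      rw [← ha1, ← hb1, hcH, hcK, hHK]
    obtain ⟨g, hg⟩ := hD q hq _ _ hAp hBp hAB
    have hg' : MulAut.conj g • (H ⊓ N : Subgroup G) = K ⊓ N := hg.symm
    obtain ⟨x, hx⟩ := key (MulAut.conj g • H) K
      (by rw [Cfsg.Agent.Lib.Helper01.card_conj_smul, hHK])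
      (by rw [← hg', Subgroup.smul_inf, Cfsg.Agent.Lib.Helper01.conj_smul_normal g N])
    refine ⟨x * g, ?_⟩
    rw [← Cfsg.Agent.Lib.Helper01.conj_smul_conj_smul]
    exact hx

theorem result {G : Type*} [Group G] [Finite G]
    [Group.IsSolvable G] (hD : ∀ p : ℕ, p.Prime → ∀ H K : Subgroup G, IsPGroup p H → IsPGroup p K → Nat.card H = Nat.card K →
      ∃ g : G, K = H.map (MulAut.conj g).toMonoidHom)
    (r : ℕ) (hcyc : ∀ p : ℕ, p.Prime → p ≠ r → ∀ P : Sylow p G, IsCyclic P) :
    ∀ H K : Subgroup G, Nat.card H = Nat.card K → ∃ g : G, K = H.map (MulAut.conj g).toMonoidHom := by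
  intro H K hHK
  obtain ⟨g, hg⟩ := main _ G rfl hD r hcyc H K hHK
  exact ⟨g, hg.symm⟩

end Cfsg.Agent.S4022
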