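import Cfsg.Statements.S4032
import Cfsg.Agent.Lib.Helper72.Basic

set_option autoImplicit false
open Cfsg

namespace Cfsg.Agent.S4032

open Cfsg.Agent.Lib.Helper72

theorem conj_mem_zpowers_conj_iff {G : Type*} [Group G] (h v y : G) :
    h * v * h⁻¹ ∈ Subgroup.zpowers (h * y * h⁻¹) ↔ v ∈ Subgroup.zpowers y := by
  simp only [Subgroup.mem_zpowers_iff, conj_zpow]
  constructor
  · rintro ⟨k, hk⟩
    refine ⟨k, ?_⟩
    have := congrArg (fun t => h⁻¹ * t * h) hk
    simpa [mul_assoc] using this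
  · rintro ⟨k, hk⟩
    exact ⟨k, by rw [hk]⟩

theorem orderOf_conj' {G : Type*} [Group G] (g u : G) : orderOf (g * u * g⁻¹) = orderOf u := by
  have := (MulAut.conj g).orderOf_eq u
  rwa [MulAut.conj_apply] at this

/-- in a finite group, an element conjugating `u` into `zpowers u` normalizes `zpowers u` -/
theorem mem_normalizer_zpowers_of_conj_mem {G : Type*} [Group G] [Finite G] (t u : G)
    (h : t * u * t⁻¹ ∈ Subgroup.zpowers u) :
    t ∈ Subgroup.normalizer ((Subgroup.zpowers u : Subgroup G) : Set G) := by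
  have heq : Subgroup.zpowers (t * u * t⁻¹) = Subgroup.zpowers u := by
    apply Subgroup.eq_of_le_of_card_ge
    · rw [Subgroup.zpowers_le]; exact h
    · rw [Nat.card_zpowers, Nat.card_zpowers, orderOf_conj']
  rw [Subgroup.mem_set_normalizer_iff]
  intro v
  rw [SetLike.mem_coe, SetLike.mem_coe]
  conv_rhs => rw [← heq]
  exact (conj_mem_zpowers_conj_iff t v u).symm

theorem mem_normalizer_zpowers_zpow {G : Type*} [Group G] [Finite G] (g y : G) (j : ℤ)
    (hg : g ∈ Subgroup.normalizer ((Subgroup.zpowers y : Subgroup G) : Set G)) :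
    g ∈ Subgroup.normalizer ((Subgroup.zpowers (y ^ j) : Subgroup G) : Set G) := by
  apply mem_normalizer_zpowers_of_conj_mem
  rw [Subgroup.mem_set_normalizer_iff] at hg
  have h1 := (hg y).mp (Subgroup.mem_zpowers y)
  obtain ⟨k, hk⟩ := Subgroup.mem_zpowers_iff.mp h1
  rw [← conj_zpow, ← hk, ← zpow_mul, mul_comm, zpow_mul]
  exact Subgroup.zpow_mem _ (Subgroup.mem_zpowers _) _

/-- the prime-power case -/
theorem prime_power_case {G : Type*} [Group G] [Finite G] (π : Set ℕ)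
    (hirr : ∀ x : G, (∀ r : ℕ, r.Prime → r ∣ orderOf x → r ∈ π) →
      Subgroup.normalizer ((Subgroup.zpowers x : Subgroup G) : Set G) ≤ Subgroup.centralizer {x})
    (N : Subgroup G) [N.Normal] (hN : ∀ r : ℕ, r.Prime → r ∣ Nat.card N → r ∉ π)
    (p : ℕ) [hp : Fact p.Prime] (hpπ : p ∈ π) (y : G ⧸ N) (a : ℕ) (hy : orderOf y = p ^ a)
    (gbar : G ⧸ N)
    (hg : gbar ∈ Subgroup.normalizer ((Subgroup.zpowers y : Subgroup (G ⧸ N)) : Set (G ⧸ N))) :
    gbar * y = y * gbar := by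
  have hpN : ¬ p ∣ Nat.card N := fun h => hN p hp.out h hpπ
  obtain ⟨g, rfl⟩ := QuotientGroup.mk_surjective gbar
  obtain ⟨u₀, rfl⟩ := QuotientGroup.mk_surjective y
  obtain ⟨y', u, hdec, hy', hu, hcop, k, hk⟩ := exists_coprime_part_decomp p u₀
  -- the image of y' is trivial
  have hy'1 : (QuotientGroup.mk y' : G ⧸ N) = 1 := by
    obtain ⟨i, rfl⟩ := Subgroup.mem_zpowers_iff.mp hy'
    have hmem : (QuotientGroup.mk (u₀ ^ i) : G ⧸ N) ∈ Subgroup.zpowers (QuotientGroup.mk u₀ : G ⧸ N) :=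
      ⟨i, by simp⟩
    have h1 : orderOf (QuotientGroup.mk (u₀ ^ i) : G ⧸ N) ∣ p ^ a := by
      rw [← hy]; exact orderOf_dvd_of_mem_zpowers hmem
    have h2 : orderOf (QuotientGroup.mk (u₀ ^ i) : G ⧸ N) ∣ orderOf (u₀ ^ i) :=
      orderOf_map_dvd (QuotientGroup.mk' N) (u₀ ^ i)
    have h3 : Nat.Coprime (orderOf (u₀ ^ i)) (p ^ a) := Nat.Coprime.pow_right a hcop
    exact orderOf_eq_one_iff.mp (Nat.eq_one_of_dvd_coprimes h3 h2 h1)
  have huy : (QuotientGroup.mk u : G ⧸ N) = QuotientGroup.mk u₀ := by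
    rw [hdec, QuotientGroup.mk_mul, hy'1, one_mul]
  rw [← huy] at hy hg ⊢
  clear huy hdec hy' hu hy'1 hcop y' u₀
  -- order of u
  have hupa : u ^ (p ^ a) = 1 := by
    have hmemN : u ^ (p ^ a) ∈ N := by
      rw [← QuotientGroup.eq_one_iff, QuotientGroup.mk_pow, ← hy, pow_orderOf_eq_one]
    have h1 : orderOf (u ^ (p ^ a)) ∣ Nat.card N := by
      have := orderOf_dvd_natCard (⟨u ^ (p ^ a), hmemN⟩ : N)
      rwa [Subgroup.orderOf_mk] at this
    have h2 : orderOf (u ^ (p ^ a)) ∣ p ^ k := by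
      apply orderOf_dvd_of_pow_eq_one
      rw [← pow_mul, mul_comm, pow_mul, hk, one_pow]
    have h3 : Nat.Coprime (Nat.card N) (p ^ k) :=
      Nat.Coprime.pow_right k ((Nat.Prime.coprime_iff_not_dvd hp.out).mpr hpN).symm
    exact orderOf_eq_one_iff.mp (Nat.eq_one_of_dvd_coprimes h3 h1 h2)
  have hou : orderOf u = p ^ a := by
    apply Nat.dvd_antisymm (orderOf_dvd_of_pow_eq_one hupa)
    rw [← hy]
    exact orderOf_map_dvd (QuotientGroup.mk' N) u
  have huπ : ∀ r : ℕ, r.Prime → r ∣ orderOf u → r ∈ π := by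
    intro r hr hdvd
    rw [hou] at hdvd
    have := (Nat.prime_dvd_prime_iff_eq hr hp.out).mp (hr.dvd_of_dvd_pow hdvd)
    rw [this]; exact hpπ
  have hNC := hirr u huπ
  -- the subgroup H
  set H : Subgroup G := (Subgroup.zpowers (QuotientGroup.mk u : G ⧸ N)).comap (QuotientGroup.mk' N) with hH
  have huH : u ∈ H := by
    rw [hH, Subgroup.mem_comap]; exact Subgroup.mem_zpowers _
  have hguH : g * u * g⁻¹ ∈ H := by
    rw [hH, Subgroup.mem_comap]
    rw [Subgroup.mem_set_normalizer_iff] at hg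
    have := (hg _).mp (Subgroup.mem_zpowers (QuotientGroup.mk u : G ⧸ N))
    simpa using this
  have hcardH : Nat.card H = Nat.card N * p ^ a := by
    have h1 := H.card_mul_index
    have h2 : H.index = (Subgroup.zpowers (QuotientGroup.mk u : G ⧸ N)).index :=
      Subgroup.index_comap_of_surjective _ (QuotientGroup.mk'_surjective N)
    have h3 := (Subgroup.zpowers (QuotientGroup.mk u : G ⧸ N)).card_mul_index
    have h4 := Subgroup.card_eq_card_quotient_mul_card_subgroup N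
    rw [Nat.card_zpowers, hy] at h3
    have hpos : 0 < (Subgroup.zpowers (QuotientGroup.mk u : G ⧸ N)).index :=
      Nat.pos_of_ne_zero Subgroup.index_ne_zero_of_finite
    rw [h2] at h1
    have : Nat.card H * (Subgroup.zpowers (QuotientGroup.mk u : G ⧸ N)).index =
        Nat.card N * p ^ a * (Subgroup.zpowers (QuotientGroup.mk u : G ⧸ N)).index := by
      rw [h1, h4, ← h3]; ring
    exact Nat.eq_of_mul_eq_mul_right hpos this
  have hfac : (Nat.card H).factorization p = a := by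
    rw [hcardH, Nat.factorization_mul Nat.card_pos.ne' (pow_pos hp.out.pos a).ne']
    simp [Nat.factorization_eq_zero_of_not_dvd hpN, hp.out.factorization_self]
  have hle1 : Subgroup.zpowers u ≤ H := by rw [Subgroup.zpowers_le]; exact huH
  have hle2 : Subgroup.zpowers (g * u * g⁻¹) ≤ H := by rw [Subgroup.zpowers_le]; exact hguH
  have hc1 : Nat.card ((Subgroup.zpowers u).subgroupOf H) = p ^ (Nat.card H).factorization p := by
    rw [hfac, Nat.card_congr (Subgroup.subgroupOfEquivOfLe hle1).toEquiv, Nat.card_zpowers, hou]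
  have hc2 : Nat.card ((Subgroup.zpowers (g * u * g⁻¹)).subgroupOf H) =
      p ^ (Nat.card H).factorization p := by
    rw [hfac, Nat.card_congr (Subgroup.subgroupOfEquivOfLe hle2).toEquiv, Nat.card_zpowers,
      orderOf_conj', hou]
  obtain ⟨h, hh⟩ := MulAction.exists_smul_eq H (Sylow.ofCard _ hc1) (Sylow.ofCard _ hc2)
  have hmem : (h : G) * u * (h : G)⁻¹ ∈ Subgroup.zpowers (g * u * g⁻¹) := by
    have h1 : (h * ⟨u, huH⟩ * h⁻¹ : H) ∈ ((h • Sylow.ofCard _ hc1 : Sylow p H) : Subgroup H) := by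
      rw [Sylow.coe_subgroup_smul]
      refine ⟨⟨u, huH⟩, ?_, rfl⟩
      change (⟨u, huH⟩ : H) ∈ (Subgroup.zpowers u).subgroupOf H
      rw [Subgroup.mem_subgroupOf]
      exact Subgroup.mem_zpowers u
    rw [hh] at h1
    have h2 : (h * ⟨u, huH⟩ * h⁻¹ : H) ∈ (Subgroup.zpowers (g * u * g⁻¹)).subgroupOf H := h1
    rw [Subgroup.mem_subgroupOf] at h2
    simpa using h2
  -- t = g⁻¹ h normalizes ⟨u⟩
  have ht : g⁻¹ * h * u * (g⁻¹ * h)⁻¹ ∈ Subgroup.zpowers u := by
    have e : g⁻¹ * h * u * (g⁻¹ * h)⁻¹ = g⁻¹ * ((h : G) * u * (h : G)⁻¹) * g⁻¹⁻¹ := by group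
    rw [e]
    have e2 : Subgroup.zpowers u = Subgroup.zpowers (g⁻¹ * (g * u * g⁻¹) * g⁻¹⁻¹) := by
      congr 1; group
    rw [e2, conj_mem_zpowers_conj_iff]
    exact hmem
  have htc := hNC (mem_normalizer_zpowers_of_conj_mem _ _ ht)
  rw [Subgroup.mem_centralizer_singleton_iff] at htc
  -- images
  have hbar : (QuotientGroup.mk (g⁻¹ * h) : G ⧸ N) * QuotientGroup.mk u =
      QuotientGroup.mk u * QuotientGroup.mk (g⁻¹ * h) := by
    rw [← QuotientGroup.mk_mul, ← QuotientGroup.mk_mul, htc]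
  have hhbar : (QuotientGroup.mk (h : G) : G ⧸ N) * QuotientGroup.mk u =
      QuotientGroup.mk u * QuotientGroup.mk (h : G) := by
    have hh2 : (h : G) ∈ (Subgroup.zpowers (QuotientGroup.mk u : G ⧸ N)).comap (QuotientGroup.mk' N) := h.2
    rw [Subgroup.mem_comap] at hh2
    obtain ⟨i, hi⟩ := Subgroup.mem_zpowers_iff.mp hh2
    rw [QuotientGroup.mk'_apply] at hi
    rw [← hi, ← zpow_add_one, ← zpow_one_add]
    rw [add_comm]
  have hgg : (QuotientGroup.mk g : G ⧸ N) =
      QuotientGroup.mk (h : G) * (QuotientGroup.mk (g⁻¹ * h) : G ⧸ N)⁻¹ := by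
    rw [← QuotientGroup.mk_inv, ← QuotientGroup.mk_mul]
    congr 1; group
  have hinv : (QuotientGroup.mk (g⁻¹ * h) : G ⧸ N)⁻¹ * QuotientGroup.mk u =
      QuotientGroup.mk u * (QuotientGroup.mk (g⁻¹ * h) : G ⧸ N)⁻¹ := by
    have := congrArg (fun t => (QuotientGroup.mk (g⁻¹ * h) : G ⧸ N)⁻¹ * t *
      (QuotientGroup.mk (g⁻¹ * h) : G ⧸ N)⁻¹) hbar
    simp only [mul_assoc, inv_mul_cancel_left, mul_inv_cancel, mul_one] at this
    exact this.symm
  rw [hgg, mul_assoc, hinv, ← mul_assoc, hhbar, mul_assoc]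

/-- Let π be a set of primes and G a finite group in which N_G(⟨x⟩) = C_G(x) for every π-element x. If N is a normal subgroup of G whose order is divisible by no prime of π, then G/N has the same property: N_{G/N}(⟨y⟩) = C_{G/N}(y) for every π-element y of G/N. -/
theorem result {G : Type*} [Group G] [Finite G] (π : Set ℕ)
    (hirr : ∀ x : G, (∀ r : ℕ, r.Prime → r ∣ orderOf x → r ∈ π) →
      Subgroup.normalizer ((Subgroup.zpowers x : Subgroup G) : Set G) ≤ Subgroup.centralizer {x})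
    (N : Subgroup G) [N.Normal] (hN : ∀ r : ℕ, r.Prime → r ∣ Nat.card N → r ∉ π) :
    ∀ y : G ⧸ N, (∀ r : ℕ, r.Prime → r ∣ orderOf y → r ∈ π) →
      Subgroup.normalizer ((Subgroup.zpowers y : Subgroup (G ⧸ N)) : Set (G ⧸ N)) ≤ Subgroup.centralizer {y} := by
  intro y
  induction' hm : orderOf y using Nat.strong_induction_on with m ih generalizing y
  intro hyπ gbar hg
  rw [Subgroup.mem_centralizer_singleton_iff]
  by_cases h1 : m = 1
  · rw [h1] at hm
    rw [orderOf_eq_one_iff.mp hm]; simp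
  · have hp : (m.minFac).Prime := Nat.minFac_prime h1
    have hpm : m.minFac ∣ m := Nat.minFac_dvd m
    have : Fact (m.minFac).Prime := ⟨hp⟩
    have hpπ : m.minFac ∈ π := hyπ _ hp (hm ▸ hpm)
    obtain ⟨y₁, u, hdec, hy₁, hu, hcop, k, hk⟩ := exists_coprime_part_decomp m.minFac y
    obtain ⟨i, hi⟩ := Subgroup.mem_zpowers_iff.mp hy₁
    obtain ⟨j, hj⟩ := Subgroup.mem_zpowers_iff.mp hu
    -- u part
    have hgu : gbar * u = u * gbar := by
      obtain ⟨b, -, hb⟩ := (Nat.dvd_prime_pow hp).mp (orderOf_dvd_of_pow_eq_one hk)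
      apply prime_power_case π hirr N hN m.minFac hpπ u b hb gbar
      rw [← hj]
      exact mem_normalizer_zpowers_zpow gbar y j hg
    -- y₁ part
    have hgy : gbar * y₁ = y₁ * gbar := by
      have hdvd : orderOf y₁ ∣ m := hm ▸ orderOf_dvd_of_mem_zpowers hy₁
      have hlt : orderOf y₁ < m := by
        have hmpos : 0 < m := hm ▸ orderOf_pos y
        apply lt_of_le_of_ne (Nat.le_of_dvd hmpos hdvd)
        intro heq
        rw [heq] at hcop
        have := Nat.Coprime.eq_one_of_dvd hcop.symm hpm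
        exact hp.one_lt.ne' this
      have hπ₁ : ∀ r : ℕ, r.Prime → r ∣ orderOf y₁ → r ∈ π := by
        intro r hr hdvd'
        exact hyπ r hr (hdvd'.trans hdvd)
      have hn₁ : gbar ∈ Subgroup.normalizer ((Subgroup.zpowers y₁ : Subgroup (G ⧸ N)) : Set (G ⧸ N)) := by
        rw [← hi]
        exact mem_normalizer_zpowers_zpow gbar y i hg
      have := ih (orderOf y₁) hlt y₁ rfl hπ₁ hn₁
      rwa [Subgroup.mem_centralizer_singleton_iff] at this
    rw [hdec, ← mul_assoc, hgy, mul_assoc, hgu, ← mul_assoc]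

end Cfsg.Agent.S4032
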