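import Cfsg.Statements.S4028
import Cfsg.Agent.Lib.Helper72.Basic

set_option autoImplicit false
open Cfsg

namespace Cfsg.Agent.S4028

open Cfsg.Agent.Lib.Helper72

theorem conj_mem_zpowers_conj_iff {G : Type*} [Group G] (h v y : G) :
    h * v * h⁻¹ ∈ Subgroup.zpowers (h * y * h⁻¹) ↔ v ∈ Subgroup.zpowers y := by
  simp only [Subgroup.mem_zpowers_iff, conj_zpow]
  constructor
  · rintro ⟨k, hk⟩
    refine ⟨k, ?_⟩
    have := congrArg (fun t => h⁻¹ * t * h) hk
    simpa [mul_assoc] using this
  · rintro ⟨k, hk⟩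
    exact ⟨k, by rw [hk]⟩

/-- conjugating a normalizing element -/
theorem conj_mem_normalizer_zpowers {G : Type*} [Group G] (h w y : G)
    (hw : w ∈ Subgroup.normalizer ((Subgroup.zpowers y : Subgroup G) : Set G)) :
    h * w * h⁻¹ ∈ Subgroup.normalizer ((Subgroup.zpowers (h * y * h⁻¹) : Subgroup G) : Set G) := by
  rw [Subgroup.mem_set_normalizer_iff] at hw ⊢
  intro v
  have e1 : v = h * (h⁻¹ * v * h) * h⁻¹ := by group
  have e2 : h * w * h⁻¹ * v * (h * w * h⁻¹)⁻¹ = h * (w * (h⁻¹ * v * h) * w⁻¹) * h⁻¹ := by group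
  rw [e2]
  conv_lhs => rw [e1]
  rw [SetLike.mem_coe, SetLike.mem_coe, conj_mem_zpowers_conj_iff, conj_mem_zpowers_conj_iff]
  exact hw _

theorem coe_mem_zpowers_iff {G : Type*} [Group G] (P : Subgroup G) (v y : P) :
    (v : G) ∈ Subgroup.zpowers (y : G) ↔ v ∈ Subgroup.zpowers y := by
  simp only [Subgroup.mem_zpowers_iff]
  constructor
  · rintro ⟨k, hk⟩
    exact ⟨k, Subtype.ext (by simpa using hk)⟩
  · rintro ⟨k, hk⟩
    exact ⟨k, by rw [← hk]; simp⟩

/-- the hypothesis on `P`, restated in `G` -/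
theorem bridge {G : Type*} [Group G] (P : Subgroup G)
    (hP : ∀ y : P, Subgroup.normalizer ((Subgroup.zpowers y : Subgroup P) : Set P) ≤
        Subgroup.centralizer {y}) (y w : G) (hy : y ∈ P) (hw : w ∈ P)
    (hn : w ∈ Subgroup.normalizer ((Subgroup.zpowers y : Subgroup G) : Set G)) : w * y = y * w := by
  have h1 : (⟨w, hw⟩ : P) ∈ Subgroup.normalizer ((Subgroup.zpowers (⟨y, hy⟩ : P) : Subgroup P) : Set P) := by
    rw [Subgroup.mem_set_normalizer_iff] at hn ⊢
    intro v
    rw [SetLike.mem_coe, SetLike.mem_coe, ← coe_mem_zpowers_iff, ← coe_mem_zpowers_iff]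
    exact hn v
  have h2 := hP ⟨y, hy⟩ h1
  rw [Subgroup.mem_centralizer_singleton_iff] at h2
  have := congrArg Subtype.val h2
  simpa using this

/-- Let G be a finite group with Sylow 2-subgroup P. Then N_G(⟨x⟩) = C_G(x) holds for every 2-element x of G if and only if N_P(⟨y⟩) = C_P(y) holds for every y ∈ P (computed inside P). -/
theorem result {G : Type*} [Group G] [Finite G] (P : Sylow 2 G) :
    (∀ x : G, (∀ r : ℕ, r.Prime → r ∣ orderOf x → r = 2) →
      Subgroup.normalizer ((Subgroup.zpowers x : Subgroup G) : Set G) ≤ Subgroup.centralizer {x}) ↔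
    (∀ y : ↥(P : Subgroup G), Subgroup.normalizer ((Subgroup.zpowers y : Subgroup ↥(P : Subgroup G)) : Set ↥(P : Subgroup G)) ≤
        Subgroup.centralizer {y}) := by
  have : Fact (Nat.Prime 2) := ⟨Nat.prime_two⟩
  constructor
  · intro hG y w hw
    have hy2 : ∀ r : ℕ, r.Prime → r ∣ orderOf (y : G) → r = 2 := by
      intro r hr hdvd
      obtain ⟨k, hk⟩ := (IsPGroup.iff_orderOf.mp P.isPGroup') y
      rw [Subgroup.orderOf_coe, hk] at hdvd
      exact (Nat.prime_dvd_prime_iff_eq hr Nat.prime_two).mp (hr.dvd_of_dvd_pow hdvd)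
    have h1 : (w : G) ∈ Subgroup.normalizer ((Subgroup.zpowers (y : G) : Subgroup G) : Set G) := by
      rw [Subgroup.mem_set_normalizer_iff] at hw ⊢
      intro v
      by_cases hv : v ∈ (P : Subgroup G)
      · have := hw ⟨v, hv⟩
        rw [SetLike.mem_coe, SetLike.mem_coe, ← coe_mem_zpowers_iff, ← coe_mem_zpowers_iff] at this
        exact this
      · constructor
        · intro h
          exfalso
          apply hv
          have hle : Subgroup.zpowers (y : G) ≤ (P : Subgroup G) := by
            rw [Subgroup.zpowers_le]; exact y.2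
          exact hle h
        · intro h
          exfalso
          apply hv
          have hle : Subgroup.zpowers (y : G) ≤ (P : Subgroup G) := by
            rw [Subgroup.zpowers_le]; exact y.2
          have h3 := hle h
          have h4 : v = (w : G)⁻¹ * ((w : G) * v * (w : G)⁻¹) * (w : G) := by group
          rw [h4]
          exact Subgroup.mul_mem _ (Subgroup.mul_mem _ (Subgroup.inv_mem _ w.2) h3) w.2
    have h2 := hG y hy2 h1
    rw [Subgroup.mem_centralizer_singleton_iff] at h2 ⊢
    exact Subtype.ext h2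
  · intro hP x hx g hg
    rw [Subgroup.mem_centralizer_singleton_iff]
    -- x is a 2-element
    have hx2 : orderOf x = 2 ^ (orderOf x).primeFactorsList.length :=
      Nat.eq_prime_pow_of_unique_prime_dvd (orderOf_pos x).ne' (fun {d} hd hdvd => hx d hd hdvd)
    set n := (orderOf x).primeFactorsList.length with hn
    have hHp : IsPGroup 2 (Subgroup.zpowers x) := by
      apply IsPGroup.of_card (n := n)
      rw [Nat.card_zpowers, hx2]
    obtain ⟨y', u, hgyu, hy', hu, hcop, hpu⟩ := exists_coprime_part_decomp 2 g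
    have hzle : Subgroup.zpowers g ≤ Subgroup.normalizer ((Subgroup.zpowers x : Subgroup G) : Set G) := by
      rw [Subgroup.zpowers_le]; exact hg
    have hy'N := hzle hy'
    have huN := hzle hu
    -- the odd part centralizes x
    have hy'c : y' * x = x * y' := by
      let φ := (Subgroup.zpowers x).normalizerMonoidHom
      have hcard : Nat.card (MulAut (Subgroup.zpowers x)) = 2 ^ (n - 1) := by
        rw [IsCyclic.card_mulAut, Nat.card_zpowers, hx2]
        rcases Nat.eq_zero_or_pos n with h0 | hpos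
        · rw [h0]; simp
        · rw [Nat.totient_prime_pow Nat.prime_two hpos]; simp
      have hA : IsPGroup 2 (MulAut (Subgroup.zpowers x)) := IsPGroup.of_card hcard
      obtain ⟨j, hj⟩ := (IsPGroup.iff_orderOf.mp hA) (φ ⟨y', hy'N⟩)
      have hdvd : orderOf (φ ⟨y', hy'N⟩) ∣ orderOf y' := by
        have := orderOf_map_dvd φ (⟨y', hy'N⟩ : Subgroup.normalizer ((Subgroup.zpowers x : Subgroup G) : Set G))
        rwa [Subgroup.orderOf_mk] at this
      have h1 : orderOf (φ ⟨y', hy'N⟩) = 1 := by
        have hc : Nat.Coprime (orderOf (φ ⟨y', hy'N⟩)) (2 ^ j) :=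
          Nat.Coprime.pow_right j (Nat.Coprime.coprime_dvd_left hdvd hcop)
        rw [hj] at hc ⊢
        exact (Nat.coprime_self _).mp hc
      have hker : (⟨y', hy'N⟩ : Subgroup.normalizer ((Subgroup.zpowers x : Subgroup G) : Set G)) ∈ φ.ker := by
        rw [MonoidHom.mem_ker]; exact orderOf_eq_one_iff.mp h1
      rw [Subgroup.normalizerMonoidHom_ker, Subgroup.mem_subgroupOf] at hker
      have := hker x (Subgroup.mem_zpowers x)
      exact this.symm
    -- the 2-part centralizes x
    have huc : u * x = x * u := by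
      have hUp : IsPGroup 2 (Subgroup.zpowers u) := by
        obtain ⟨k, hk⟩ := hpu
        apply IsPGroup.of_card_dvd_pow (n := k)
        rw [Nat.card_zpowers]
        exact orderOf_dvd_of_pow_eq_one hk
      have hsup : IsPGroup 2 (Subgroup.zpowers x ⊔ Subgroup.zpowers u : Subgroup G) := by
        apply IsPGroup.to_sup_of_normal_left' hHp hUp
        rw [Subgroup.zpowers_le]; exact huN
      obtain ⟨Q, hQ⟩ := hsup.exists_le_sylow
      obtain ⟨h, hh⟩ := MulAction.exists_smul_eq G Q P
      have hxQ : x ∈ Q := hQ (Subgroup.mem_sup_left (Subgroup.mem_zpowers x))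
      have huQ : u ∈ Q := hQ (Subgroup.mem_sup_right (Subgroup.mem_zpowers u))
      have hxP : h * x * h⁻¹ ∈ (P : Subgroup G) := by
        rw [← hh]
        exact ⟨x, hxQ, rfl⟩
      have huP : h * u * h⁻¹ ∈ (P : Subgroup G) := by
        rw [← hh]
        exact ⟨u, huQ, rfl⟩
      have h1 := bridge (P : Subgroup G) hP (h * x * h⁻¹) (h * u * h⁻¹) hxP huP
        (conj_mem_normalizer_zpowers h u x huN)
      have h2 : h * (u * x) * h⁻¹ = h * (x * u) * h⁻¹ := by
        calc h * (u * x) * h⁻¹ = h * u * h⁻¹ * (h * x * h⁻¹) := by group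
          _ = h * x * h⁻¹ * (h * u * h⁻¹) := h1
          _ = _ := by group
      exact mul_left_cancel (mul_right_cancel h2)
    rw [hgyu, mul_assoc, huc, ← mul_assoc, hy'c, mul_assoc]

end Cfsg.Agent.S4028
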