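import Cfsg.Statements.S4029
import Cfsg.Agent.S4032
import Cfsg.Agent.Lib.Helper72.Basic
import Cfsg.Agent.Lib.Helper03.PGroupFrattini

set_option autoImplicit false
open Cfsg

namespace Cfsg.Agent.S4029

open Finset Cfsg.Agent.Lib.Helper72

section

variable {P : Type*} [Group P] [Fintype P] [DecidableEq P]

/-- number of square roots -/
def r (w : P) : ℕ := (univ.filter (fun z : P => z * z = w)).card

omit [Fintype P] [DecidableEq P] in
theorem inv_iff (x y : P) : x * y * x⁻¹ = y⁻¹ ↔ (x * y) * (x * y) = x * x := by
  constructor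
  · intro h
    have h0 : x * y = y⁻¹ * x := by rw [← h]; group
    have h1 : y * x * y = x := by
      calc y * x * y = y * (x * y) := by group
        _ = y * (y⁻¹ * x) := by rw [h0]
        _ = x := by group
    calc x * y * (x * y) = x * (y * x * y) := by group
      _ = x * x := by rw [h1]
  · intro h
    have h1 : y * x * y = x := by
      have : x * (y * x * y) = x * x := by rw [← h]; group
      exact mul_left_cancel this
    have h0 : x * y = y⁻¹ * x := by
      calc x * y = y⁻¹ * (y * x * y) := by group
        _ = y⁻¹ * x := by rw [h1]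
    rw [h0]; group

theorem card_T_eq_sum_sq :
    (univ.filter (fun q : P × P => q.1 * q.2 * q.1⁻¹ = q.2⁻¹)).card =
      ∑ w ∈ univ.image (fun x : P => x * x), r w ^ 2 := by
  rw [Finset.card_filter, Fintype.sum_prod_type]
  have h1 : ∀ x : P, (∑ y : P, if x * y * x⁻¹ = y⁻¹ then 1 else 0) = r (x * x) := by
    intro x
    unfold r
    rw [Finset.card_filter]
    exact Fintype.sum_equiv (Equiv.mulLeft x) _ _
      (fun y => by rw [Equiv.coe_mulLeft]; exact if_congr (inv_iff x y) rfl rfl)
  simp_rw [h1]
  rw [Finset.sum_comp (fun w => r w) (fun x : P => x * x)]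
  apply Finset.sum_congr rfl
  intro w _
  rw [smul_eq_mul, sq]
  rfl

theorem card_eq_sum_r : Fintype.card P = ∑ w ∈ univ.image (fun x : P => x * x), r w := by
  rw [← Finset.card_univ, Finset.card_eq_sum_card_image (fun x : P => x * x) univ]
  rfl

theorem cauchy :
    Fintype.card P ^ 2 ≤ (univ.image (fun x : P => x * x)).card *
      (univ.filter (fun q : P × P => q.1 * q.2 * q.1⁻¹ = q.2⁻¹)).card := by
  rw [card_T_eq_sum_sq, card_eq_sum_r]
  exact sq_sum_le_card_mul_sum_sq

omit [DecidableEq P] in
theorem T_iff
    (hirr : ∀ y : P, Subgroup.normalizer ((Subgroup.zpowers y : Subgroup P) : Set P) ≤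
      Subgroup.centralizer {y}) (x y : P) :
    x * y * x⁻¹ = y⁻¹ ↔ (y * y = 1 ∧ x ∈ Subgroup.centralizer ({y} : Set P)) := by
  constructor
  · intro h
    have hN : x ∈ Subgroup.normalizer ((Subgroup.zpowers y : Subgroup P) : Set P) := by
      apply Cfsg.Agent.S4032.mem_normalizer_zpowers_of_conj_mem
      rw [h]; exact Subgroup.inv_mem _ (Subgroup.mem_zpowers y)
    have hC := hirr y hN
    refine ⟨?_, hC⟩
    rw [Subgroup.mem_centralizer_singleton_iff] at hC
    have : y = y⁻¹ := by rw [← h, hC, mul_inv_cancel_right]
    exact mul_eq_one_iff_eq_inv.mpr this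
  · rintro ⟨h1, h2⟩
    rw [Subgroup.mem_centralizer_singleton_iff] at h2
    rw [h2, mul_inv_cancel_right]
    exact mul_eq_one_iff_eq_inv.mp h1

omit [Fintype P] [DecidableEq P] in
theorem sq_one_of_isConj {y g : P} (h : IsConj y g) (hy : y * y = 1) : g * g = 1 := by
  obtain ⟨t, ht⟩ := isConj_iff.mp h
  rw [← ht]
  calc t * y * t⁻¹ * (t * y * t⁻¹) = t * (y * y) * t⁻¹ := by group
    _ = 1 := by rw [hy, mul_one, mul_inv_cancel]

omit [DecidableEq P] in
theorem card_centralizer_of_mk_eq {y g : P} (h : ConjClasses.mk y = ConjClasses.mk g) :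
    Nat.card (Subgroup.centralizer ({y} : Set P)) = Nat.card (Subgroup.centralizer ({g} : Set P)) := by
  have h1 := ncard_carrier_eq_index_centralizer y
  have h2 := ncard_carrier_eq_index_centralizer g
  rw [h] at h1
  have h3 : (Subgroup.centralizer ({y} : Set P)).index = (Subgroup.centralizer ({g} : Set P)).index := by
    rw [← h1, ← h2]
  have h4 := (Subgroup.centralizer ({y} : Set P)).card_mul_index
  have h5 := (Subgroup.centralizer ({g} : Set P)).card_mul_index
  have hpos : 0 < (Subgroup.centralizer ({g} : Set P)).index :=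
    Nat.pos_of_ne_zero Subgroup.index_ne_zero_of_finite
  rw [h3] at h4
  exact Nat.eq_of_mul_eq_mul_right hpos (h4.trans h5.symm)

theorem card_T_eq [Fintype (ConjClasses P)]
    (hirr : ∀ y : P, Subgroup.normalizer ((Subgroup.zpowers y : Subgroup P) : Set P) ≤
      Subgroup.centralizer {y}) :
    (univ.filter (fun q : P × P => q.1 * q.2 * q.1⁻¹ = q.2⁻¹)).card =
      Fintype.card P * (univ.filter (fun c : ConjClasses P =>
        ∃ y : P, ConjClasses.mk y = c ∧ y * y = 1)).card := by
  classical
  rw [Finset.card_filter, Fintype.sum_prod_type, Finset.sum_comm]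
  have h1 : ∀ y : P, (∑ x : P, if x * y * x⁻¹ = y⁻¹ then 1 else 0) =
      if y * y = 1 then Nat.card (Subgroup.centralizer ({y} : Set P)) else 0 := by
    intro y
    by_cases hy : y * y = 1
    · rw [if_pos hy, ← Finset.card_filter, Nat.card_eq_fintype_card, Fintype.card_subtype]
      congr 1
      ext x
      simp only [Finset.mem_filter, Finset.mem_univ, true_and]
      rw [T_iff hirr]
      exact ⟨fun h => h.2, fun h => ⟨hy, h⟩⟩
    · rw [if_neg hy]
      apply Finset.sum_eq_zero
      intro x _
      rw [if_neg]
      intro h; exact hy ((T_iff hirr x y).mp h).1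
  simp_rw [h1]
  rw [← Finset.sum_fiberwise univ (ConjClasses.mk : P → ConjClasses P)]
  have h2 : ∀ c : ConjClasses P,
      (∑ y ∈ univ.filter (fun y : P => ConjClasses.mk y = c),
        if y * y = 1 then Nat.card (Subgroup.centralizer ({y} : Set P)) else 0) =
      if (∃ y : P, ConjClasses.mk y = c ∧ y * y = 1) then Fintype.card P else 0 := by
    intro c
    obtain ⟨g₀, rfl⟩ := ConjClasses.exists_rep c
    have hterm : ∀ y ∈ univ.filter (fun y : P => ConjClasses.mk y = ConjClasses.mk g₀),
        (if y * y = 1 then Nat.card (Subgroup.centralizer ({y} : Set P)) else 0) =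
        (if g₀ * g₀ = 1 then Nat.card (Subgroup.centralizer ({g₀} : Set P)) else 0) := by
      intro y hy
      have hmk : ConjClasses.mk y = ConjClasses.mk g₀ := (Finset.mem_filter.mp hy).2
      have hconj : IsConj y g₀ := ConjClasses.mk_eq_mk_iff_isConj.mp hmk
      rw [card_centralizer_of_mk_eq hmk]
      exact if_congr ⟨sq_one_of_isConj hconj, sq_one_of_isConj hconj.symm⟩ rfl rfl
    rw [Finset.sum_congr rfl hterm, Finset.sum_const, smul_eq_mul]
    have hfib : (univ.filter (fun y : P => ConjClasses.mk y = ConjClasses.mk g₀)).card =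
        (Subgroup.centralizer ({g₀} : Set P)).index := by
      rw [← ncard_carrier_eq_index_centralizer, Set.ncard_eq_toFinset_card']
      congr 1
      ext y
      simp [ConjClasses.mem_carrier_iff_mk_eq]
    by_cases hg : g₀ * g₀ = 1
    · rw [if_pos hg, if_pos ⟨g₀, rfl, hg⟩, hfib, ← Nat.card_eq_fintype_card (α := P)]
      exact Subgroup.index_mul_card _
    · rw [if_neg hg, if_neg, mul_zero]
      rintro ⟨y, hy, hyy⟩
      exact hg (sq_one_of_isConj (ConjClasses.mk_eq_mk_iff_isConj.mp hy) hyy)
  simp_rw [h2]
  rw [← Finset.sum_filter, Finset.sum_const, smul_eq_mul, mul_comm]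

end


/-- Let P be a finite 2-group in which N_P(⟨y⟩) = C_P(y) for every y ∈ P. If s is the number of conjugacy classes of involutions of P, then #(P/Φ(P)) ≤ s + 1; in particular the subgroup generated by the involutions of P has order at least #(P/Φ(P)). -/
theorem result {P : Type*} [Group P] [Finite P] (hP : IsPGroup 2 P)
    (hirr : ∀ y : P, Subgroup.normalizer ((Subgroup.zpowers y : Subgroup P) : Set P) ≤ Subgroup.centralizer {y}) :
    Nat.card (P ⧸ frattini P) ≤ Nat.card {c : ConjClasses P // ∃ y : P, ConjClasses.mk y = c ∧ orderOf y = 2} + 1 ∧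
    Nat.card (P ⧸ frattini P) ≤ Nat.card (Subgroup.closure {y : P | orderOf y = 2}) := by
  classical
  have : Fintype P := Fintype.ofFinite P
  have : Fintype (ConjClasses P) := Fintype.ofFinite _
  have : Fact (Nat.Prime 2) := ⟨Nat.prime_two⟩
  have first : Nat.card (P ⧸ frattini P) ≤
      Nat.card {c : ConjClasses P // ∃ y : P, ConjClasses.mk y = c ∧ orderOf y = 2} + 1 := by
    have h1 := cauchy (P := P)
    rw [card_T_eq hirr] at h1
    have h2 : (univ.image (fun x : P => x * x)).card ≤ Nat.card (frattini P) := by
      rw [Nat.card_eq_fintype_card, Fintype.card_subtype]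
      apply Finset.card_le_card
      intro w hw
      obtain ⟨x, -, rfl⟩ := Finset.mem_image.mp hw
      rw [Finset.mem_filter]
      refine ⟨Finset.mem_univ _, ?_⟩
      rw [← pow_two]
      exact Cfsg.Agent.Lib.Helper03.pow_mem_frattini_of_isPGroup hP x
    have h3 : (univ.filter (fun c : ConjClasses P =>
        ∃ y : P, ConjClasses.mk y = c ∧ y * y = 1)).card ≤
        Nat.card {c : ConjClasses P // ∃ y : P, ConjClasses.mk y = c ∧ orderOf y = 2} + 1 := by
      rw [Nat.card_eq_fintype_card, Fintype.card_subtype]
      have hsub : univ.filter (fun c : ConjClasses P =>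
          ∃ y : P, ConjClasses.mk y = c ∧ y * y = 1) ⊆
          insert (ConjClasses.mk 1) (univ.filter (fun c : ConjClasses P =>
            ∃ y : P, ConjClasses.mk y = c ∧ orderOf y = 2)) := by
        intro c hc
        obtain ⟨y, hy, hyy⟩ := (Finset.mem_filter.mp hc).2
        by_cases hy1 : y = 1
        · rw [Finset.mem_insert]; left; rw [← hy, hy1]
        · rw [Finset.mem_insert]; right
          rw [Finset.mem_filter]
          exact ⟨Finset.mem_univ _, y, hy, orderOf_eq_prime (by rw [pow_two]; exact hyy) hy1⟩
      exact (Finset.card_le_card hsub).trans (Finset.card_insert_le _ _)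
    have hcard := Subgroup.card_eq_card_quotient_mul_card_subgroup (frattini P)
    rw [← Nat.card_eq_fintype_card (α := P)] at h1
    have hn : 0 < Nat.card P := Nat.card_pos
    have hf : 0 < Nat.card (frattini P) := Nat.card_pos
    have h4 : Nat.card P ≤ Nat.card (frattini P) *
        (Nat.card {c : ConjClasses P // ∃ y : P, ConjClasses.mk y = c ∧ orderOf y = 2} + 1) := by
      have h5 : Nat.card P * Nat.card P ≤ Nat.card P * (Nat.card (frattini P) *
          (Nat.card {c : ConjClasses P // ∃ y : P, ConjClasses.mk y = c ∧ orderOf y = 2} + 1)) := by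
        calc Nat.card P * Nat.card P = Nat.card P ^ 2 := (sq _).symm
          _ ≤ _ := h1
          _ ≤ Nat.card (frattini P) * (Nat.card P *
              (Nat.card {c : ConjClasses P // ∃ y : P, ConjClasses.mk y = c ∧ orderOf y = 2} + 1)) :=
            Nat.mul_le_mul h2 (Nat.mul_le_mul_left _ h3)
          _ = _ := by ring
      exact Nat.le_of_mul_le_mul_left h5 hn
    rw [hcard, mul_comm] at h4
    exact Nat.le_of_mul_le_mul_left h4 hf
  refine ⟨first, first.trans ?_⟩
  let f : Option {c : ConjClasses P // ∃ y : P, ConjClasses.mk y = c ∧ orderOf y = 2} →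
      Subgroup.closure {y : P | orderOf y = 2} := fun o =>
    match o with
    | none => 1
    | some c => ⟨c.2.choose, Subgroup.subset_closure c.2.choose_spec.2⟩
  have hf : Function.Injective f := by
    intro a b hab
    cases a with
    | none =>
      cases b with
      | none => rfl
      | some c =>
        exfalso
        have h1 : (1 : P) = c.2.choose := congrArg Subtype.val hab
        have h2 := c.2.choose_spec.2
        rw [← h1, orderOf_one] at h2
        omega
    | some c =>
      cases b with
      | none =>
        exfalso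
        have h1 : c.2.choose = (1 : P) := congrArg Subtype.val hab
        have h2 := c.2.choose_spec.2
        rw [h1, orderOf_one] at h2
        omega
      | some d =>
        have h1 : c.2.choose = d.2.choose := congrArg Subtype.val hab
        congr 1
        apply Subtype.ext
        rw [← c.2.choose_spec.1, ← d.2.choose_spec.1, h1]
  have h6 := Nat.card_le_card_of_injective f hf
  rwa [Finite.card_option] at h6

end Cfsg.Agent.S4029
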