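import Cfsg.Statements.S4036

set_option autoImplicit false
open Cfsg

namespace Cfsg.Agent.S4036

theorem perm_pow_coe {P : Type*} [Group P] (W : Subgroup P) (a : MulAut P)
    (h : ∀ v : P, v ∈ W ↔ a v ∈ W) (k : ℕ) (w : W) :
    (((a.toEquiv.subtypeEquiv h : Equiv.Perm W) ^ k) w : P) = (a ^ k) (w : P) := by
  induction k generalizing w with
  | zero => simp
  | succ k ih =>
    rw [pow_succ, Equiv.Perm.mul_apply, ih, pow_succ, MulAut.mul_apply]
    rfl

/-- Let P be a finite abelian p-group and K a group of automorphisms of P (a subgroup of Aut P) whose order is divisible by p. If all non-identity elements of K have the same fixed-point subgroup on P, then K has no non-trivial normal subgroup of order prime to p. -/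
theorem result {P : Type*} [CommGroup P] [Finite P] {p : ℕ}
    [Fact p.Prime] (hP : IsPGroup p P) (K : Subgroup (MulAut P)) (hK : p ∣ Nat.card K)
    (hfix : ∀ x y : MulAut P, x ∈ K → y ∈ K → x ≠ 1 → y ≠ 1 → ∀ v : P, x v = v ↔ y v = v) :
    ∀ N : Subgroup ↥K, N.Normal → ¬ p ∣ Nat.card N → N = ⊥ := by
  intro N hN hpN
  by_contra hne
  obtain ⟨n, hn1⟩ := (Subgroup.ne_bot_iff_exists_ne_one).mp hne
  obtain ⟨a, ha⟩ := exists_prime_orderOf_dvd_card' p hK
  have hp := (Fact.out : p.Prime)
  classical
  haveI : Fintype N := Fintype.ofFinite N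
  let τ : P →* P :=
    { toFun := fun v => ∏ m : N, ((m : K) : MulAut P) v
      map_one' := by simp
      map_mul' := fun v w => by simp [Finset.prod_mul_distrib] }
  have hτ : ∀ v, τ v = ∏ m : N, ((m : K) : MulAut P) v := fun v => rfl
  -- T1: elements of K commute with τ
  have T1 : ∀ (k : K) (v : P), (k : MulAut P) (τ v) = τ ((k : MulAut P) v) := by
    intro k v
    rw [hτ, hτ, map_prod]
    refine Fintype.prod_equiv (MulAut.conjNormal (H := N) k).toEquiv _ _ ?_
    intro m
    have : (((MulAut.conjNormal (H := N) k) m : N) : K) = k * m * k⁻¹ := MulAut.conjNormal_apply k m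
    simp only [MulEquiv.toEquiv_eq_coe, EquivLike.coe_coe, this]
    simp [MulAut.mul_apply]
  -- T2
  have T2 : ∀ (m₀ : N) (v : P), τ (((m₀ : K) : MulAut P) v) = τ v := by
    intro m₀ v
    rw [hτ, hτ]
    refine Fintype.prod_equiv (Equiv.mulRight m₀) _ _ ?_
    intro m
    simp [MulAut.mul_apply]
  -- T3
  have T3 : ∀ v : P, (∀ m : N, ((m : K) : MulAut P) v = v) → τ v = v ^ Nat.card N := by
    intro v hv
    rw [hτ, Finset.prod_congr rfl (fun m _ => hv m), Finset.prod_const, Finset.card_univ,
      Nat.card_eq_fintype_card]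
  have ha1 : ((a : K) : MulAut P) ≠ 1 := by
    intro h
    have : a = 1 := Subtype.ext h
    rw [this, orderOf_one] at ha
    exact hp.one_lt.ne ha
  have hker : τ.ker = ⊥ := by
    by_contra hW
    have hinv : ∀ v : P, v ∈ τ.ker ↔ ((a : K) : MulAut P) v ∈ τ.ker := by
      intro v
      rw [MonoidHom.mem_ker, MonoidHom.mem_ker, ← T1]
      constructor
      · intro h; rw [h, map_one]
      · intro h
        have := congrArg (((a : K) : MulAut P)⁻¹) h
        simpa using this
    let σ : Equiv.Perm τ.ker := ((a : K) : MulAut P).toEquiv.subtypeEquiv hinv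
    have hσ : σ ^ p ^ 1 = 1 := by
      ext w
      rw [pow_one, perm_pow_coe]
      have : ((a : K) : MulAut P) ^ p = 1 := by
        have h1 : a ^ p = 1 := by rw [← ha]; exact pow_orderOf_eq_one a
        have := congrArg (fun x : K => (x : MulAut P)) h1
        simpa using this
      rw [this]
      simp
    haveI : Fintype τ.ker := Fintype.ofFinite _
    have hcard : p ∣ Fintype.card τ.ker := by
      have hpg : IsPGroup p τ.ker := hP.to_subgroup _
      obtain ⟨j, hj⟩ := hpg.exists_card_eq
      rw [← Nat.card_eq_fintype_card, hj]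
      rcases Nat.eq_zero_or_pos j with h0 | hpos
      · exfalso
        rw [h0, pow_zero] at hj
        exact hW ((Subgroup.card_eq_one).mp hj)
      · exact dvd_pow_self p hpos.ne'
    have hfix1 : σ 1 = 1 := by
      apply Subtype.ext
      change ((a : K) : MulAut P) ((1 : τ.ker) : P) = 1
      simp
    obtain ⟨b, hb, hb1⟩ := Equiv.Perm.exists_fixed_point_of_prime' hcard hσ hfix1
    have hab : ((a : K) : MulAut P) (b : P) = b := congrArg Subtype.val hb
    have hall : ∀ m : N, ((m : K) : MulAut P) (b : P) = b := by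
      intro m
      by_cases hm : ((m : K) : MulAut P) = 1
      · rw [hm]; rfl
      · exact (hfix _ _ a.2 (m : K).2 ha1 hm b).mp hab
    have h3 := T3 b hall
    have hbk : τ (b : P) = 1 := b.2
    rw [hbk] at h3
    have hdvd : orderOf (b : P) ∣ Nat.card N := orderOf_dvd_of_pow_eq_one h3.symm
    obtain ⟨j, hj⟩ := hP (b : P)
    have hdvd2 : orderOf (b : P) ∣ p ^ j := orderOf_dvd_of_pow_eq_one hj
    have hcop : Nat.Coprime (Nat.card N) (p ^ j) :=
      Nat.Coprime.pow_right j ((Nat.Prime.coprime_iff_not_dvd hp).mpr hpN).symm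
    have h1 : orderOf (b : P) = 1 := Nat.eq_one_of_dvd_coprimes hcop hdvd hdvd2
    apply hb1
    apply Subtype.ext
    exact orderOf_eq_one_iff.mp h1
  have hinj : Function.Injective τ := (MonoidHom.ker_eq_bot_iff τ).mp hker
  apply hn1
  apply Subtype.ext
  apply Subtype.ext
  ext v
  exact hinj (T2 n v)

end Cfsg.Agent.S4036
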