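import Cfsg.Statements.S4043
import Cfsg.Agent.Lib.Helper01.SZRel
import Cfsg.Agent.Lib.Helper39.PGroupBasic

set_option autoImplicit false
open Cfsg

namespace Cfsg.Agent.S4043

open Cfsg.Agent.Lib.Helper01
open scoped Pointwise

theorem mem_conj_smul_iff {G : Type*} [Group G] (n v : G) (H : Subgroup G) :
    v ∈ MulAut.conj n • H ↔ n⁻¹ * v * n ∈ H := by
  rw [Subgroup.mem_pointwise_smul_iff_inv_smul_mem]
  simp [MulAut.smul_def]

/-- a normal subgroup of `A`, viewed in `G`, is normalized by `A` -/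
theorem le_normalizer_map_subtype {G : Type*} [Group G] (A : Subgroup G) (K : Subgroup A)
    [hK : K.Normal] : A ≤ Subgroup.normalizer ((K.map A.subtype : Subgroup G) : Set G) := by
  have h := Subgroup.le_normalizer_map (H := K) A.subtype
  rw [Subgroup.normalizer_eq_top, ← MonoidHom.range_eq_map, Subgroup.range_subtype] at h
  exact h

theorem conj_smul_le_normalizer {G : Type*} [Group G] (n : G) (A H : Subgroup G)
    (h : A ≤ Subgroup.normalizer (H : Set G)) :
    MulAut.conj n • A ≤ Subgroup.normalizer ((MulAut.conj n • H : Subgroup G) : Set G) := by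
  intro a ha
  rw [mem_conj_smul_iff] at ha
  have h1 := h ha
  rw [Subgroup.mem_set_normalizer_iff] at h1 ⊢
  intro v
  have h2 := h1 (n⁻¹ * v * n)
  have e : n⁻¹ * a * n * (n⁻¹ * v * n) * (n⁻¹ * a * n)⁻¹ = n⁻¹ * (a * v * a⁻¹) * n := by group
  rw [e] at h2
  rw [SetLike.mem_coe, SetLike.mem_coe, mem_conj_smul_iff, mem_conj_smul_iff]
  exact h2

/-- Let G be a finite group that is the semidirect product of a normal p-subgroup N by a subgroup A, and also of N by a subgroup A₁, where p is a prime and A and A₁ both have normal p-complements. If C_N(A) = C_N(A₁) = 1, then A₁ is conjugate to A by an element of N. -/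
theorem result {G : Type*} [Group G] [Finite G] {p : ℕ}
    [Fact p.Prime] (N : Subgroup G) [N.Normal] (hN : IsPGroup p N) (A A₁ : Subgroup G)
    (hA : A.IsComplement' N) (hA₁ : A₁.IsComplement' N)
    (hAp : Cfsg.HasNormalPComplement p A) (hA₁p : Cfsg.HasNormalPComplement p A₁)
    (hC : ∀ n : G, n ∈ N → (∀ a : G, a ∈ A → a * n * a⁻¹ = n) → n = 1)
    (hC₁ : ∀ n : G, n ∈ N → (∀ a : G, a ∈ A₁ → a * n * a⁻¹ = n) → n = 1) :
    ∃ n : G, n ∈ N ∧ A₁ = A.map (MulAut.conj n).toMonoidHom := by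
  have hp := (Fact.out : p.Prime)
  obtain ⟨S, K, hKn, hKS⟩ := hAp
  obtain ⟨S₁, K₁, hK₁n, hK₁S₁⟩ := hA₁p
  -- cardinalities
  have hcardA : Nat.card A = N.index := card_eq_index_of_isComplement' hA.symm
  have hcardA₁ : Nat.card A₁ = N.index := card_eq_index_of_isComplement' hA₁.symm
  have hKidx : Nat.card K = (S : Subgroup A).index := card_eq_index_of_isComplement' hKS.symm
  have hK₁idx : Nat.card K₁ = (S₁ : Subgroup A₁).index := card_eq_index_of_isComplement' hK₁S₁.symm
  have hpK : ¬ p ∣ Nat.card K := by rw [hKidx]; exact S.not_dvd_index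
  have hpK₁ : ¬ p ∣ Nat.card K₁ := by rw [hK₁idx]; exact S₁.not_dvd_index
  have hScard : Nat.card S = p ^ (N.index).factorization p := by
    rw [S.card_eq_multiplicity, hcardA]
  have hS₁card : Nat.card S₁ = p ^ (N.index).factorization p := by
    rw [S₁.card_eq_multiplicity, hcardA₁]
  have hKK₁ : Nat.card K = Nat.card K₁ := by
    have h1 := hKS.card_mul_card
    have h2 := hK₁S₁.card_mul_card
    rw [hcardA, hScard] at h1
    rw [hcardA₁, hS₁card] at h2
    have hpos : 0 < p ^ (N.index).factorization p := pow_pos hp.pos _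
    exact Nat.eq_of_mul_eq_mul_right hpos (h1.trans h2.symm)
  set K' : Subgroup G := K.map A.subtype with hK'
  set K₁' : Subgroup G := K₁.map A₁.subtype with hK₁'
  have hcK' : Nat.card K' = Nat.card K := Subgroup.card_map_of_injective A.subtype_injective
  have hcK₁' : Nat.card K₁' = Nat.card K₁ := Subgroup.card_map_of_injective A₁.subtype_injective
  obtain ⟨b, hb⟩ := hN.exists_card_eq
  have hcopNK : (Nat.card N).Coprime (Nat.card K') := by
    rw [hb, hcK']
    exact Nat.Coprime.pow_left b ((Nat.Prime.coprime_iff_not_dvd hp).mpr hpK)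
  have hcopNK₁ : (Nat.card N).Coprime (Nat.card K₁') := by
    rw [hb, hcK₁']
    exact Nat.Coprime.pow_left b ((Nat.Prime.coprime_iff_not_dvd hp).mpr hpK₁)
  -- the subgroup M = K'N
  set M : Subgroup G := K' ⊔ N with hM
  have hcardM : Nat.card M = Nat.card N * Nat.card K' := card_sup_of_coprime N K' hcopNK
  have hAnK : A ≤ Subgroup.normalizer (K' : Set G) := le_normalizer_map_subtype A K
  have hA₁nK₁ : A₁ ≤ Subgroup.normalizer (K₁' : Set G) := le_normalizer_map_subtype A₁ K₁
  have hMn : M.Normal := by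
    rw [← Subgroup.normalizer_eq_top_iff, eq_top_iff, ← hA.sup_eq_top]
    apply sup_le
    · intro a ha
      rw [mem_normalizer_iff_conj_smul, hM, Subgroup.smul_sup, conj_smul_normal a N,
        mem_normalizer_iff_conj_smul.mp (hAnK ha)]
    · exact le_trans le_sup_right Subgroup.le_normalizer
  have hidxM : M.index = Nat.card S := by
    have h1 := M.card_mul_index
    have h2 := hA.card_mul_card
    have h3 := hKS.card_mul_card
    rw [hcardM, hcK', ← h2, ← h3] at h1
    have hpos : 0 < Nat.card N * Nat.card K := Nat.mul_pos Nat.card_pos Nat.card_pos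
    apply Nat.eq_of_mul_eq_mul_left hpos
    rw [h1]; ring
  have hK₁M : K₁' ≤ M := by
    intro x hx
    rw [← QuotientGroup.eq_one_iff (N := M)]
    have h1 : orderOf (QuotientGroup.mk' M x) ∣ orderOf x := orderOf_map_dvd _ x
    have h2 : orderOf x ∣ Nat.card K₁' := by
      have := orderOf_dvd_natCard (⟨x, hx⟩ : K₁')
      rwa [Subgroup.orderOf_mk] at this
    have h3 : orderOf (QuotientGroup.mk' M x) ∣ Nat.card (G ⧸ M) := orderOf_dvd_natCard _
    rw [← Subgroup.index_eq_card, hidxM, hScard] at h3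
    have h4 : (Nat.card K₁').Coprime (p ^ (N.index).factorization p) := by
      rw [hcK₁']
      exact Nat.Coprime.pow_right _ ((Nat.Prime.coprime_iff_not_dvd hp).mpr hpK₁).symm
    exact orderOf_eq_one_iff.mp (Nat.eq_one_of_dvd_coprimes h4 (h1.trans h2) h3)
  -- Schur–Zassenhaus conjugacy inside M
  have hNsolv : Group.IsSolvable N := by
    have := hN.isNilpotent
    infer_instance
  obtain ⟨g, hgM, hg⟩ := sz_conj_in M N K' K₁' le_sup_right le_sup_left hK₁M
    (by rw [Subgroup.normalizer_eq_top]; exact le_top) hcardM hcopNK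
    (by rw [hcK₁', hcK', hKK₁]) (Or.inl hNsolv)
  -- reduce to an element of N
  have hgM' : g ∈ ((N ⊔ K' : Subgroup G) : Set G) := by
    rw [sup_comm]; exact hgM
  rw [Subgroup.normal_mul, Set.mem_mul] at hgM'
  obtain ⟨n, hn, k, hk, hnk⟩ := hgM'
  have hnK : MulAut.conj n • K' = K₁' := by
    rw [← hg, ← hnk, ← conj_smul_conj_smul, Subgroup.conj_smul_eq_self_of_mem hk]
  refine ⟨n, hn, ?_⟩
  change A₁ = MulAut.conj n • A
  set A' : Subgroup G := MulAut.conj n • A with hA'
  set L : Subgroup G := Subgroup.normalizer (K₁' : Set G) with hL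
  have hA'L : A' ≤ L := by
    rw [hL, ← hnK]
    exact conj_smul_le_normalizer n A K' hAnK
  have hA₁L : A₁ ≤ L := hA₁nK₁
  -- N ⊓ L centralizes K₁'
  have hDK : ∀ d ∈ N ⊓ L, ∀ k ∈ K₁', d * k = k * d := by
    intro d hd k hk
    have hdN := (Subgroup.mem_inf.mp hd).1
    have hdL := (Subgroup.mem_inf.mp hd).2
    have h1 : d * k * d⁻¹ ∈ K₁' := ((Subgroup.mem_set_normalizer_iff.mp hdL) k).mp hk
    have h2 : d * k * d⁻¹ * k⁻¹ ∈ K₁' := K₁'.mul_mem h1 (K₁'.inv_mem hk)
    have h3 : d * k * d⁻¹ * k⁻¹ ∈ N := by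
      have : d * k * d⁻¹ * k⁻¹ = d * (k * d⁻¹ * k⁻¹) := by group
      rw [this]
      exact N.mul_mem hdN (Subgroup.Normal.conj_mem inferInstance _ (N.inv_mem hdN) k)
    have h4 : d * k * d⁻¹ * k⁻¹ ∈ N ⊓ K₁' := Subgroup.mem_inf.mpr ⟨h3, h2⟩
    rw [(Subgroup.disjoint_of_coprime_natCard hcopNK₁).eq_bot, Subgroup.mem_bot] at h4
    have : d * k * d⁻¹ * k⁻¹ * (k * d) = k * d := by rw [h4, one_mul]
    rw [← this]; group
  -- N ⊓ L = ⊥
  have hD : N ⊓ L = ⊥ := by
    by_contra hDne
    set D : Subgroup G := N ⊓ L with hDdef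
    set S₁' : Subgroup G := (S₁ : Subgroup A₁).map A₁.subtype with hS₁'
    have hS₁'A₁ : S₁' ≤ A₁ := Subgroup.map_subtype_le _
    have hLD : L ≤ Subgroup.normalizer (D : Set G) := by
      rw [hDdef, inf_comm]
      exact le_normalizer_inf_normal L N
    have hS₁'D : S₁' ≤ Subgroup.normalizer (D : Set G) := (hS₁'A₁.trans hA₁L).trans hLD
    have hDp : IsPGroup p D := hN.to_le inf_le_left
    have hS₁'p : IsPGroup p S₁' := S₁.isPGroup'.map _
    have hTp : IsPGroup p (S₁' ⊔ D : Subgroup G) := IsPGroup.to_sup_of_normal_right' hS₁'p hDp hS₁'D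
    set T : Subgroup G := S₁' ⊔ D with hT
    have hDT : D ≤ T := le_sup_right
    have hTD : T ≤ Subgroup.normalizer (D : Set G) := sup_le hS₁'D Subgroup.le_normalizer
    have hnorm : (D.subgroupOf T).Normal :=
      (Subgroup.normal_subgroupOf_iff_le_normalizer hDT).mpr hTD
    have hne : D.subgroupOf T ≠ ⊥ := by
      intro h
      apply hDne
      rw [Subgroup.subgroupOf_eq_bot] at h
      rw [disjoint_iff, inf_of_le_left hDT] at h
      exact h
    obtain ⟨z, hzD, hzc, hz1⟩ :=
      Cfsg.Agent.Lib.Helper39.exists_mem_center_of_normal_ne_bot hTp (D.subgroupOf T) hne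
    have hzD' : (z : G) ∈ D := Subgroup.mem_subgroupOf.mp hzD
    have hzN : (z : G) ∈ N := (Subgroup.mem_inf.mp hzD').1
    apply hz1
    apply Subtype.ext
    apply hC₁ (z : G) hzN
    intro a ha
    -- a = k * s with k ∈ K₁, s ∈ S₁
    obtain ⟨⟨k, s⟩, hks⟩ := hK₁S₁.surjective ⟨a, ha⟩
    simp only at hks
    have hka : a = (k : A₁) * ((s : A₁) : G) := by
      have := congrArg Subtype.val hks
      simpa using this.symm
    have hkK : ((k : A₁) : G) ∈ K₁' := ⟨k, k.2, rfl⟩
    have hsS : ((s : A₁) : G) ∈ S₁' := ⟨s, s.2, rfl⟩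
    have h1 : (z : G) * ((k : A₁) : G) = ((k : A₁) : G) * (z : G) := hDK _ hzD' _ hkK
    have h2 : (z : G) * ((s : A₁) : G) = ((s : A₁) : G) * (z : G) := by
      have hsT : ((s : A₁) : G) ∈ T := Subgroup.mem_sup_left hsS
      have := Subgroup.mem_center_iff.mp hzc ⟨_, hsT⟩
      have := congrArg Subtype.val this
      simpa using this.symm
    rw [hka]
    calc ((k : A₁) : G) * ((s : A₁) : G) * (z : G) * (((k : A₁) : G) * ((s : A₁) : G))⁻¹
        = ((k : A₁) : G) * (((s : A₁) : G) * (z : G)) * ((s : A₁) : G)⁻¹ * ((k : A₁) : G)⁻¹ := by group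
      _ = ((k : A₁) : G) * ((z : G) * ((s : A₁) : G)) * ((s : A₁) : G)⁻¹ * ((k : A₁) : G)⁻¹ := by rw [h2]
      _ = (((k : A₁) : G) * (z : G)) * ((k : A₁) : G)⁻¹ := by group
      _ = ((z : G) * ((k : A₁) : G)) * ((k : A₁) : G)⁻¹ := by rw [h1]
      _ = (z : G) := by group
  -- A' ≤ A₁
  have hle : A' ≤ A₁ := by
    intro a ha
    obtain ⟨⟨a₁, n₁⟩, han⟩ := hA₁.surjective a
    simp only at han
    have hn₁L : (n₁ : G) ∈ L := by
      have : (n₁ : G) = (a₁ : G)⁻¹ * a := by rw [← han]; group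
      rw [this]
      exact L.mul_mem (L.inv_mem (hA₁L a₁.2)) (hA'L ha)
    have : (n₁ : G) ∈ N ⊓ L := Subgroup.mem_inf.mpr ⟨n₁.2, hn₁L⟩
    rw [hD, Subgroup.mem_bot] at this
    rw [← han, this, mul_one]
    exact a₁.2
  have hcard' : Nat.card A' = Nat.card A := card_conj_smul n A
  exact (Subgroup.eq_of_le_of_card_ge hle (by rw [hcard', hcardA, hcardA₁])).symm

end Cfsg.Agent.S4043
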