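import Cfsg.Statements.S4049
import Cfsg.Agent.S4032
import Cfsg.Agent.Lib.Helper06.BaerSuzuki
import Cfsg.Agent.Lib.Helper06.Isolated
import Cfsg.Agent.Lib.Helper72.HomStar

set_option autoImplicit false
open Cfsg

namespace Cfsg.Agent.S4049

open Cfsg.Agent.Lib.Helper72 Cfsg.Agent.Lib.Helper06

/-- under homogeneity, the product of two involutions is a `2`-element -/
theorem prod_invol_two_elt {G : Type*} [Group G] [Finite G] (hG : HomStar {2} G)
    (a b : G) (ha : a * a = 1) (hb : b * b = 1) : ∃ k : ℕ, (a * b) ^ 2 ^ k = 1 := by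
  have ha' : a⁻¹ = a := inv_eq_of_mul_eq_one_left ha
  have hb' : b⁻¹ = b := inv_eq_of_mul_eq_one_left hb
  have hinv : a * (a * b) * a⁻¹ = (a * b)⁻¹ := by
    rw [mul_inv_rev, ha', hb', ← mul_assoc, ha, one_mul]
  have hpos : orderOf (a * b) ≠ 0 := (orderOf_pos _).ne'
  have huniq : ∀ {d : ℕ}, d.Prime → d ∣ orderOf (a * b) → d = 2 := by
    intro s hs hsd
    by_contra hs2
    have : Fact s.Prime := ⟨hs⟩
    set w := (a * b) ^ (orderOf (a * b) / s) with hw
    have hwo : orderOf w = s := orderOf_pow_orderOf_div hpos hsd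
    have hinvw : a * w * a⁻¹ = w⁻¹ := by
      rw [hw, ← conj_pow, hinv, inv_pow]
    have haN : a ∈ Subgroup.normalizer ((Subgroup.zpowers w : Subgroup G) : Set G) := by
      apply Cfsg.Agent.S4032.mem_normalizer_zpowers_of_conj_mem
      rw [hinvw]
      exact Subgroup.inv_mem _ (Subgroup.mem_zpowers w)
    have hS : IsPGroup s (Subgroup.zpowers w) := by
      apply IsPGroup.of_card (n := 1)
      rw [Nat.card_zpowers, hwo, pow_one]
    have hc := hG 2 s Nat.prime_two rfl hs hs2 a (Subgroup.zpowers w)
      ⟨1, by rw [pow_one, pow_two, ha]⟩ hS haN w (Subgroup.mem_zpowers w)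
    have h1 : a * w * a⁻¹ = w := by rw [hc, mul_inv_cancel_right]
    rw [hinvw] at h1
    have hw2 : w ^ 2 = 1 := by
      rw [pow_two]; nth_rewrite 1 [← h1]; exact inv_mul_cancel w
    have h3 : s ∣ 2 := by rw [← hwo]; exact orderOf_dvd_of_pow_eq_one hw2
    exact hs2 ((Nat.prime_dvd_prime_iff_eq hs Nat.prime_two).mp h3)
  refine ⟨(orderOf (a * b)).primeFactorsList.length, ?_⟩
  rw [← Nat.eq_prime_pow_of_unique_prime_dvd hpos huniq]
  exact pow_orderOf_eq_one _

theorem aux : ∀ (n : ℕ) (G : Type*) [Group G] [Finite G], Nat.card G = n → HomStar {2} G →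
    ∀ P : Sylow 2 G, (P : Subgroup G).Normal := by
  intro n
  induction n using Nat.strong_induction_on with
  | _ n ih =>
    intro G _ _ hn hG P
    have : Fact (Nat.Prime 2) := ⟨Nat.prime_two⟩
    by_cases h2 : 2 ∣ Nat.card G
    · obtain ⟨t, ht⟩ := exists_prime_orderOf_dvd_card' 2 h2
      let K : Set G := {x | x * x = 1}
      have hKconj : ∀ g k : G, k ∈ K → g * k * g⁻¹ ∈ K := by
        intro g k hk
        change g * k * g⁻¹ * (g * k * g⁻¹) = 1
        have hk' : k * k = 1 := hk
        calc g * k * g⁻¹ * (g * k * g⁻¹) = g * (k * k) * g⁻¹ := by group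
          _ = 1 := by rw [hk', mul_one, mul_inv_cancel]
      have hKp : ∀ a ∈ K, ∀ b ∈ K, IsPGroup 2 (Subgroup.closure ({a, b} : Set G)) := by
        intro a ha b hb
        obtain ⟨k, hk⟩ := prod_invol_two_elt hG a b ha hb
        exact pgroup_closure_pair ha hb k hk
      obtain ⟨N, hN, hNp, hKN⟩ := baer_suzuki_set (p := 2) K hKconj hKp
      have htK : t ∈ K := by
        change t * t = 1
        rw [← pow_two, ← ht]; exact pow_orderOf_eq_one t
      have htN : t ∈ N := hKN htK
      have ht1 : t ≠ 1 := by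
        intro h
        rw [h, orderOf_one] at ht
        omega
      have hNbot : N ≠ ⊥ := by
        intro h
        rw [h, Subgroup.mem_bot] at htN
        exact ht1 htN
      have hcardlt : Nat.card (G ⧸ N) < n := by
        rw [← hn, ← Subgroup.index_eq_card, ← N.card_mul_index]
        have h1 : 1 < Nat.card N := by
          rw [Subgroup.one_lt_card_iff_ne_bot]; exact hNbot
        have h2 : 0 < N.index := Nat.pos_of_ne_zero Subgroup.index_ne_zero_of_finite
        nlinarith
      have hNπ : ∀ r : ℕ, r.Prime → r ∣ Nat.card N → r ∈ ({2} : Set ℕ) := by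
        intro r hr hrN
        obtain ⟨j, hj⟩ := hNp.exists_card_eq
        rw [hj] at hrN
        exact (Nat.prime_dvd_prime_iff_eq hr Nat.prime_two).mp (hr.dvd_of_dvd_pow hrN)
      have hGQ := homStar_quotient hG N hNπ
      have hQ := ih (Nat.card (G ⧸ N)) hcardlt (G ⧸ N) rfl hGQ
        (P.mapSurjective (QuotientGroup.mk'_surjective N))
      rw [Sylow.coe_mapSurjective] at hQ
      have hNP : N ≤ P := hNp.le_sylow_of_normal P
      have hcm : ((P : Subgroup G).map (QuotientGroup.mk' N)).comap (QuotientGroup.mk' N) = P := by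
        apply Subgroup.comap_map_eq_self
        rw [QuotientGroup.ker_mk']; exact hNP
      rw [← hcm]
      exact Subgroup.Normal.comap hQ _
    · have hP : (P : Subgroup G) = ⊥ := by
        obtain ⟨j, hj⟩ := P.isPGroup'.exists_card_eq
        rcases Nat.eq_zero_or_pos j with h0 | hpos
        · rw [h0, pow_zero] at hj
          exact Subgroup.card_eq_one.mp hj
        · exfalso
          apply h2
          have h1 : 2 ∣ Nat.card (P : Subgroup G) := by
            rw [hj]; exact dvd_pow_self 2 hpos.ne'
          exact h1.trans (Subgroup.card_subgroup_dvd_card _)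
      rw [hP]
      exact Subgroup.normal_bot

/-- Let G be a finite group such that N_G(H)/C_G(H) has odd order for every nontrivial subgroup H of odd order. Then the Sylow 2-subgroups of G are normal. -/
theorem result {G : Type*} [Group G] [Finite G]
    (hhom : ∀ H : Subgroup G, H ≠ ⊥ → ¬ 2 ∣ Nat.card ↥H →
        ¬ 2 ∣ (Subgroup.centralizer (H : Set G)).relIndex (Subgroup.normalizer (H : Set G))) (P : Sylow 2 G) :
    (P : Subgroup G).Normal := by
  apply aux (Nat.card G) G rfl _ P
  apply homStar_of_hhom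
  intro H hH hHcard p hp hpd hp2
  have h2 : p = 2 := hp2
  subst h2
  exact hhom H hH (fun h => hHcard 2 hp h rfl) hpd

end Cfsg.Agent.S4049
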