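import Cfsg.Statements.S4050
import Cfsg.Agent.Lib.Helper72.PiClosedExt

set_option autoImplicit false
open Cfsg

namespace Cfsg.Agent.S4050

open Cfsg.Agent.Lib.Helper72

theorem forward_hom {G : Type*} [Group G] [Finite G] (π : Set ℕ) (T : Subgroup G)
    (hT : ∀ x : G, x ∈ T ↔ ∀ p : ℕ, p.Prime → p ∣ orderOf x → p ∈ π) :
    ∀ H : Subgroup G, H ≠ ⊥ → (∀ p : ℕ, p.Prime → p ∣ Nat.card ↥H → p ∉ π) →
        ∀ p : ℕ, p.Prime → p ∣ (Subgroup.centralizer (H : Set G)).relIndex
          (Subgroup.normalizer (H : Set G)) → p ∉ π := by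
  intro H _ hH p hp hpd hpπ
  have : Fact p.Prime := ⟨hp⟩
  have hTn : T.Normal := piSubgroup_normal T hT
  let φ := H.normalizerMonoidHom
  have hidx : φ.ker.index = (Subgroup.centralizer (H : Set G)).relIndex
      (Subgroup.normalizer (H : Set G)) := by
    rw [Subgroup.normalizerMonoidHom_ker]; rfl
  rw [← hidx, Subgroup.index_ker] at hpd
  obtain ⟨⟨_, x, rfl⟩, hx⟩ := exists_prime_orderOf_dvd_card' p hpd
  have hx' : orderOf (φ x) = p := by
    rw [← hx]; exact (Subgroup.orderOf_mk _ _).symm
  obtain ⟨w, v, hdec, hw, hv, hcop, k, hk⟩ := exists_coprime_part_decomp p x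
  -- v is a π-element normalizing H, hence centralizes H
  have hvT : (v : G) ∈ T := by
    rw [hT]
    intro r hr hrv
    have h1 : orderOf (v : G) ∣ p ^ k := by
      apply orderOf_dvd_of_pow_eq_one
      have := congrArg Subtype.val hk
      simpa using this
    rw [(Nat.prime_dvd_prime_iff_eq hr hp).mp (hr.dvd_of_dvd_pow (hrv.trans h1))]
    exact hpπ
  have hdisj : ∀ g : G, g ∈ T → g ∈ H → g = 1 := by
    intro g hgT hgH
    by_contra hne
    have h1 : orderOf g ≠ 1 := fun h => hne (orderOf_eq_one_iff.mp h)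
    obtain ⟨r, hr, hrg⟩ := Nat.exists_prime_and_dvd h1
    have h2 : r ∈ π := (hT g).mp hgT r hr hrg
    have h3 : orderOf g ∣ Nat.card H := by
      rw [← Subgroup.orderOf_mk g hgH]; exact orderOf_dvd_natCard _
    exact hH r hr (hrg.trans h3) h2
  have hvker : φ v = 1 := by
    have : v ∈ φ.ker := by
      rw [Subgroup.normalizerMonoidHom_ker, Subgroup.mem_subgroupOf, Subgroup.mem_centralizer_iff]
      intro h hh
      have hconj : (v : G) * h * (v : G)⁻¹ ∈ H := by
        have := (Subgroup.mem_normalizer_iff.mp v.2 h).mp hh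
        exact this
      have h1 : (v : G) * h * (v : G)⁻¹ * h⁻¹ ∈ H := H.mul_mem hconj (H.inv_mem hh)
      have h2 : (v : G) * h * (v : G)⁻¹ * h⁻¹ ∈ T := by
        have : (v : G) * h * (v : G)⁻¹ * h⁻¹ = (v : G) * (h * (v : G)⁻¹ * h⁻¹) := by group
        rw [this]
        exact T.mul_mem hvT (hTn.conj_mem _ (T.inv_mem hvT) h)
      have h3 := hdisj _ h2 h1
      have : (v : G) * h = h * (v : G) := by
        have h4 : (v : G) * h * (v : G)⁻¹ = h := by
          rw [← mul_inv_eq_one]; exact h3
        calc (v : G) * h = ((v : G) * h * (v : G)⁻¹) * (v : G) := by group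
          _ = h * (v : G) := by rw [h4]
      exact this.symm
    exact this
  have h5 : φ x = φ w := by
    rw [hdec, map_mul, hvker, mul_one]
  rw [h5] at hx'
  have h6 : orderOf (φ w) ∣ orderOf w := orderOf_map_dvd φ w
  rw [hx'] at h6
  exact hp.one_lt.ne' (Nat.Coprime.eq_one_of_dvd hcop.symm h6)

theorem backward {G : Type*} [Group G] [Finite G] (π : Set ℕ) (hG : HomStar π G)
    (n : ℕ) (H : Fin (n + 1) → Subgroup G) (h0 : H 0 = ⊥) (hlast : H (Fin.last n) = ⊤)
    (hmono : Monotone H) (hnorm : ∀ i, (H i).Normal)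
    (hfac : ∀ i : Fin n, (∀ q : ℕ, q.Prime → q ∣ (H i.castSucc).relIndex (H i.succ) → q ∈ π) ∨
        (∀ q : ℕ, q.Prime → q ∣ (H i.castSucc).relIndex (H i.succ) → q ∉ π)) :
    PiClosed π G := by
  have key : ∀ i : Fin (n + 1), PiClosed π ↥(H i) := by
    intro i
    induction i using Fin.induction with
    | zero =>
      apply piClosed_of_pi_card
      intro p hp hpd
      rw [h0, Subgroup.card_bot] at hpd
      exact absurd (Nat.dvd_one.mp hpd) hp.one_lt.ne'
    | succ i ih =>
      have hle : H i.castSucc ≤ H i.succ := hmono (Fin.castSucc_lt_succ (i := i)).le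
      have hX : HomStar π ↥(H i.succ) := homStar_subgroup hG _
      let K : Subgroup ↥(H i.succ) := (H i.castSucc).subgroupOf (H i.succ)
      have hKn : K.Normal := (hnorm i.castSucc).subgroupOf _
      have hK : PiClosed π K :=
        PiClosed.of_mulEquiv (Subgroup.subgroupOfEquivOfLe hle).symm ih
      have hQ : PiClosed π (↥(H i.succ) ⧸ K) := by
        have hcard : Nat.card (↥(H i.succ) ⧸ K) = (H i.castSucc).relIndex (H i.succ) := by
          rw [← Subgroup.index_eq_card]; rfl
        rcases hfac i with h | h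
        · apply piClosed_of_pi_card
          intro p hp hpd
          rw [hcard] at hpd
          exact h p hp hpd
        · apply piClosed_of_pi'_card
          intro p hp hpd
          rw [hcard] at hpd
          exact h p hp hpd
      exact piClosed_of_normal_ext hX K hK hQ
  have h1 := key (Fin.last n)
  rw [hlast] at h1
  exact PiClosed.of_mulEquiv Subgroup.topEquiv h1

/-- Let π be a set of primes and G a finite group. The π-elements of G (elements whose order is divisible only by primes of π) form a subgroup if and only if G is π-separable (it has a chain of normal subgroups from 1 to G with each successive index divisible only by primes in π or only by primes outside π) and N_G(H)/C_G(H) is a π'-group for every nontrivial π'-subgroup H of G. -/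
theorem result {G : Type*} [Group G] [Finite G] (π : Set ℕ)
    (hπ : ∀ p ∈ π, p.Prime) :
    (∃ K : Subgroup G, ∀ x : G, x ∈ K ↔ ∀ p : ℕ, p.Prime → p ∣ orderOf x → p ∈ π) ↔
    ((∃ (n : ℕ) (H : Fin (n + 1) → Subgroup G), H 0 = ⊥ ∧ H (Fin.last n) = ⊤ ∧ Monotone H ∧ (∀ i, (H i).Normal) ∧
      ∀ i : Fin n, (∀ q : ℕ, q.Prime → q ∣ (H i.castSucc).relIndex (H i.succ) → q ∈ π) ∨
        (∀ q : ℕ, q.Prime → q ∣ (H i.castSucc).relIndex (H i.succ) → q ∉ π)) ∧
     (∀ H : Subgroup G, H ≠ ⊥ → (∀ p : ℕ, p.Prime → p ∣ Nat.card ↥H → p ∉ π) →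
        ∀ p : ℕ, p.Prime → p ∣ (Subgroup.centralizer (H : Set G)).relIndex (Subgroup.normalizer (H : Set G)) → p ∉ π)) := by
  constructor
  · rintro ⟨T, hT⟩
    have hTn : T.Normal := piSubgroup_normal T hT
    refine ⟨⟨2, ![⊥, T, ⊤], rfl, rfl, ?_, ?_, ?_⟩, forward_hom π T hT⟩
    · intro i j hij
      fin_cases i <;> fin_cases j <;> simp at hij ⊢
    · intro i
      fin_cases i
      · exact Subgroup.normal_bot
      · exact hTn
      · exact Subgroup.normal_top
    · intro i
      fin_cases i
      · left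
        intro q hq hqd
        simp at hqd
        exact piSubgroup_card T hT q hq hqd
      · right
        intro q hq hqd hqπ
        simp at hqd
        exact piSubgroup_index T hT q hq hqπ hqd
  · rintro ⟨⟨n, H, h0, hlast, hmono, hnorm, hfac⟩, hhom⟩
    exact backward π (homStar_of_hhom hhom) n H h0 hlast hmono hnorm hfac

end Cfsg.Agent.S4050
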