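import Cfsg.Statements.S4056
import Cfsg.Agent.Lib.Helper72.Frattini
import Cfsg.Agent.Lib.Helper32.Class2

set_option autoImplicit false
open Cfsg

namespace Cfsg.Agent.S4056

open Cfsg.Agent.Lib.Helper72 Cfsg.Agent.Lib.Helper32
open scoped commutatorElement

/-- In a finite 2-group of nilpotency class at most 2 and exponent dividing 4, the Frattini subgroup lies in the centre and is elementary abelian. -/
theorem result {P : Type*} [Group P] [Finite P] (hP : IsPGroup 2 P)
    (hcl : Group.nilpotencyClass P ≤ 2) (hexp : Monoid.exponent P ∣ 4) :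
    frattini P ≤ Subgroup.center P ∧ Cfsg.IsElementaryAbelian 2 (frattini P) := by
  have : Fact (Nat.Prime 2) := ⟨Nat.prime_two⟩
  have hnil : Group.IsNilpotent P := hP.isNilpotent
  have hucs : Subgroup.upperCentralSeries P 2 = ⊤ :=
    Subgroup.upperCentralSeries_eq_top_iff_nilpotencyClass_le.mpr hcl
  have hcc : ∀ x y : P, ⁅x, y⁆ ∈ Subgroup.center P := by
    intro x y
    have hx : x ∈ Subgroup.upperCentralSeries P (1 + 1) := by rw [hucs]; trivial
    rw [Subgroup.mem_upperCentralSeries_succ_iff] at hx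
    have := hx y
    rwa [Subgroup.upperCentralSeries_one] at this
  have h4 : ∀ x : P, x ^ 4 = 1 := by
    intro x
    obtain ⟨k, hk⟩ := hexp
    rw [hk, pow_mul, Monoid.pow_exponent_eq_one, one_pow]
  have hcomm : ∀ u v : P, Commute ⁅v, u⁆ u ∧ Commute ⁅v, u⁆ v := by
    intro u v
    have hz := Subgroup.mem_center_iff.mp (hcc v u)
    exact ⟨(hz u).symm, (hz v).symm⟩
  have hc2 : ∀ u v : P, ⁅v, u⁆ ^ 2 = 1 := by
    intro u v
    obtain ⟨hzu, hzv⟩ := hcomm u v
    have h := mul_pow_of_central u v hzu hzv 4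
    rw [h4, h4, h4, one_mul, one_mul] at h
    norm_num at h
    have h6 : ⁅v, u⁆ ^ 6 = 1 := h.symm
    have : ⁅v, u⁆ ^ 6 = ⁅v, u⁆ ^ 4 * ⁅v, u⁆ ^ 2 := by rw [← pow_add]
    rw [this, h4, one_mul] at h6
    exact h6
  have hsqc : ∀ v : P, v ^ 2 ∈ Subgroup.center P := by
    intro v
    rw [Subgroup.mem_center_iff]
    intro u
    obtain ⟨hzu, hzv⟩ := hcomm u v
    have h := commutator_pow_left_of_central u v hzv 2
    rw [hc2, commutatorElement_def] at h
    have : v ^ 2 * u = (v ^ 2 * u * (v ^ 2)⁻¹ * u⁻¹) * (u * v ^ 2) := by group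
    rw [this, h, one_mul]
  set N : Subgroup P := Subgroup.closure {y : P | ∃ x : P, y = x ^ 2} with hN
  have hNc : N ≤ Subgroup.center P := by
    rw [hN, Subgroup.closure_le]
    rintro y ⟨x, rfl⟩
    exact hsqc x
  have hNn : N.Normal := by
    constructor
    intro n hn g
    have := Subgroup.mem_center_iff.mp (hNc hn) g
    have e : g * n * g⁻¹ = n := by rw [this]; group
    rw [e]; exact hn
  have hfr : frattini P ≤ N :=
    frattini_le_of_sq_mem N (fun x => Subgroup.subset_closure ⟨x, rfl⟩)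
  refine ⟨hfr.trans hNc, ?_, ?_⟩
  · refine ⟨⟨fun a b => Subtype.ext ?_⟩⟩
    have := Subgroup.mem_center_iff.mp (hNc (hfr a.2)) b
    simpa using this.symm
  · intro a ha
    have haN := hfr ha
    refine Subgroup.closure_induction (p := fun a _ => a ^ 2 = 1 ∧ a ∈ Subgroup.center P)
      ?_ ?_ ?_ ?_ haN |>.1
    · rintro y ⟨x, rfl⟩
      exact ⟨by rw [← pow_mul]; exact h4 x, hsqc x⟩
    · exact ⟨by simp, Subgroup.one_mem _⟩
    · rintro a b _ _ ⟨ha2, hac⟩ ⟨hb2, hbc⟩
      have hab : Commute a b := (Subgroup.mem_center_iff.mp hac b).symm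
      exact ⟨by rw [hab.mul_pow, ha2, hb2, one_mul], Subgroup.mul_mem _ hac hbc⟩
    · rintro a _ ⟨ha2, hac⟩
      exact ⟨by rw [inv_pow, ha2, inv_one], Subgroup.inv_mem _ hac⟩

end Cfsg.Agent.S4056
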