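import Cfsg.Statements.S4058
import Cfsg.Agent.Lib.Helper42.TwistAction
import Cfsg.Agent.Lib.Helper79.FrobSchurCount
import Cfsg.Agent.Lib.Helper75.PGroupFrattini
import Cfsg.Agent.Lib.Helper05.CharDegree

set_option autoImplicit false
open Cfsg

namespace Cfsg.Agent.S4058

open Cfsg.Agent.Lib.Helper42 in
/-- squares are killed by the twists when `G` is a 2-group -/
theorem tw_sq {G : Type*} [Group G] [Finite G] (hG : IsPGroup 2 G) (l : Lam G) (u : G) :
    tw l (u * u) = 1 := by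
  haveI : Fact (Nat.Prime 2) := ⟨Nat.prime_two⟩
  have h := Cfsg.Agent.Lib.Helper75.frattini_quotient_pow hG (u : G ⧸ frattini G)
  rw [tw_apply, QuotientGroup.mk_mul, ← pow_two, h, map_one, Units.val_one]


/-- Let G be a finite 2-group with #(G/Φ(G)) ≥ 2^(2k+1). Then the number of elements x of G with x² = 1 is divisible by 2^(k+1). -/
theorem result {G : Type*} [Group G] [Finite G] (hG : IsPGroup 2 G) (k : ℕ)
    (hgen : 2 ^ (2 * k + 1) ≤ Nat.card (G ⧸ frattini G)) :
    2 ^ (k + 1) ∣ Nat.card {x : G // x ^ 2 = 1} := by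
  classical
  letI : Fintype G := Fintype.ofFinite G
  haveI : Fact (Nat.Prime 2) := ⟨Nat.prime_two⟩
  haveI : Finite (IrrCharacter G) := Cfsg.Agent.Lib.Helper83.irr_finite
  letI : Fintype (IrrCharacter G) := Fintype.ofFinite _
  -- the dual of the Frattini quotient
  have hcardL : Nat.card (Cfsg.Agent.Lib.Helper42.Lam G) = Nat.card (G ⧸ frattini G) := by
    letI : CommGroup (G ⧸ frattini G) :=
      { (inferInstance : Group (G ⧸ frattini G)) with
        mul_comm := Cfsg.Agent.Lib.Helper75.frattini_quotient_comm hG }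
    exact CommGroup.card_monoidHom_of_hasEnoughRootsOfUnity (G ⧸ frattini G) ℂ
  haveI : Finite (Cfsg.Agent.Lib.Helper42.Lam G) :=
    Nat.finite_of_card_ne_zero (by rw [hcardL]; exact Nat.card_pos.ne')
  obtain ⟨d, hd⟩ := (hG.to_quotient (frattini G)).exists_card_eq
  have hdk : 2 * k + 1 ≤ d := by
    rw [hd] at hgen
    exact (Nat.pow_le_pow_iff_right (by norm_num)).mp hgen
  obtain ⟨n, hn⟩ := hG.exists_card_eq
  -- the count
  have hcount := Cfsg.Agent.Lib.Helper79.one_add_card_involutions (G := G)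
  rw [← Cfsg.Agent.Lib.Helper79.card_sq_eq_one] at hcount
  choose ν hν using Cfsg.Agent.Lib.Helper79.exists_int_fsInd (G := G)
  choose deg hdeg using fun χ : IrrCharacter G => Cfsg.Agent.Lib.Helper05.exists_degree_dvd χ.2
  have hZ : (Nat.card {u : G // u * u = 1} : ℤ) = ∑ χ : IrrCharacter G, ν χ * deg χ := by
    have : ((Nat.card {u : G // u * u = 1} : ℤ) : ℂ) =
        ((∑ χ : IrrCharacter G, ν χ * deg χ : ℤ) : ℂ) := by
      push_cast
      rw [hcount]
      refine Finset.sum_congr rfl fun χ _ => ?_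
      rw [(hν χ).2.1, (hdeg χ).2.1]
    exact_mod_cast this
  -- invariance
  have hdeginv : ∀ (l : Cfsg.Agent.Lib.Helper42.Lam G) (χ : IrrCharacter G),
      deg (l • χ) = deg χ := by
    intro l χ
    have h1 : ((deg (l • χ) : ℕ) : ℂ) = deg χ := by
      rw [← (hdeg (l • χ)).2.1, ← (hdeg χ).2.1, Cfsg.Agent.Lib.Helper42.smul_coe, Pi.mul_apply,
        (Cfsg.Agent.Lib.Helper42.tw_char l).2, mul_one]
    exact_mod_cast h1
  have hνinv : ∀ (l : Cfsg.Agent.Lib.Helper42.Lam G) (χ : IrrCharacter G),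
      ν (l • χ) = ν χ := by
    intro l χ
    have h1 : ((ν (l • χ) : ℤ) : ℂ) = ν χ := by
      rw [(hν (l • χ)).2.1, (hν χ).2.1]
      unfold Cfsg.Agent.Lib.Helper79.fsInd
      congr 1
      refine Finset.sum_congr rfl fun u _ => ?_
      rw [Cfsg.Agent.Lib.Helper42.smul_coe, Pi.mul_apply, tw_sq hG, mul_one]
    exact_mod_cast h1
  -- reduce to the integer divisibility
  have hgoal : ((2 ^ (k + 1) : ℕ) : ℤ) ∣ (Nat.card {u : G // u * u = 1} : ℤ) := by
    rw [hZ]
    apply Cfsg.Agent.Lib.Helper42.dvd_sum_of_invariant (L := Cfsg.Agent.Lib.Helper42.Lam G)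
    · intro l χ
      rw [hdeginv, hνinv]
    · intro χ
      set S := MulAction.stabilizer (Cfsg.Agent.Lib.Helper42.Lam G) χ with hS
      have hmul : Nat.card S * S.index = 2 ^ d := by
        rw [Subgroup.card_mul_index, hcardL, hd]
      obtain ⟨s, hs, hs'⟩ := (Nat.dvd_prime_pow Nat.prime_two).mp (Dvd.intro _ hmul)
      obtain ⟨i, hi, hi'⟩ := (Nat.dvd_prime_pow Nat.prime_two).mp (Dvd.intro_left _ hmul)
      have hsi : s + i = d := by
        rw [hs', hi', ← pow_add] at hmul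
        exact Nat.pow_right_injective (le_refl 2) hmul
      obtain ⟨a, ha, ha'⟩ := (Nat.dvd_prime_pow Nat.prime_two).mp (hn ▸ (hdeg χ).2.2)
      have hle := Cfsg.Agent.Lib.Helper42.card_stabilizer_le χ (deg χ) (hdeg χ).2.1
      rw [← hS, hs', ha', ← pow_mul] at hle
      have hs2a : s ≤ a * 2 := (Nat.pow_le_pow_iff_right (by norm_num)).mp hle
      have hk : k + 1 ≤ i + a := by omega
      rw [hi', ha']
      have : ((2 ^ (k + 1) : ℕ) : ℤ) ∣ ((2 ^ i : ℕ) : ℤ) * ((2 ^ a : ℕ) : ℤ) := by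
        rw [← Nat.cast_mul, ← pow_add]
        exact Int.natCast_dvd_natCast.mpr (pow_dvd_pow 2 hk)
      calc ((2 ^ (k + 1) : ℕ) : ℤ) ∣ ((2 ^ i : ℕ) : ℤ) * ((2 ^ a : ℕ) : ℤ) := this
        _ ∣ ((2 ^ i : ℕ) : ℤ) * (ν χ * ((2 ^ a : ℕ) : ℤ)) :=
          Dvd.intro (ν χ) (by ring)
  have hnat : 2 ^ (k + 1) ∣ Nat.card {u : G // u * u = 1} := Int.natCast_dvd_natCast.mp hgoal
  have heq : Nat.card {x : G // x ^ 2 = 1} = Nat.card {u : G // u * u = 1} := by
    apply Nat.card_congr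
    exact Equiv.subtypeEquivRight (fun x => by rw [pow_two])
  rw [heq]
  exact hnat

end Cfsg.Agent.S4058
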