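import Cfsg.Statements.S4059
import Mathlib.Tactic

set_option autoImplicit false
open Cfsg
open scoped commutatorElement

namespace Cfsg.Agent.S4059

/-- the extended centralizer of `x`: elements that centralize or invert `x`. -/
def invSub {G : Type*} [Group G] (x : G) : Subgroup G where
  carrier := {g | g * x * g⁻¹ = x ∨ g * x * g⁻¹ = x⁻¹}
  one_mem' := Or.inl (by group)
  mul_mem' := by
    rintro a b (ha | ha) (hb | hb)
    · left
      calc a * b * x * (a * b)⁻¹ = a * (b * x * b⁻¹) * a⁻¹ := by group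
        _ = x := by rw [hb, ha]
    · right
      calc a * b * x * (a * b)⁻¹ = a * (b * x * b⁻¹) * a⁻¹ := by group
        _ = (a * x * a⁻¹)⁻¹ := by rw [hb]; group
        _ = x⁻¹ := by rw [ha]
    · right
      calc a * b * x * (a * b)⁻¹ = a * (b * x * b⁻¹) * a⁻¹ := by group
        _ = x⁻¹ := by rw [hb, ha]
    · left
      calc a * b * x * (a * b)⁻¹ = a * (b * x * b⁻¹) * a⁻¹ := by group
        _ = (a * x * a⁻¹)⁻¹ := by rw [hb]; group
        _ = x := by rw [ha, inv_inv]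
  inv_mem' := by
    rintro a (ha | ha)
    · left
      calc a⁻¹ * x * a⁻¹⁻¹ = a⁻¹ * (a * x * a⁻¹) * a := by rw [ha, inv_inv]
        _ = x := by group
    · right
      have h : a * x⁻¹ * a⁻¹ = x := by
        calc a * x⁻¹ * a⁻¹ = (a * x * a⁻¹)⁻¹ := by group
          _ = x := by rw [ha, inv_inv]
      calc a⁻¹ * x * a⁻¹⁻¹ = a⁻¹ * (a * x⁻¹ * a⁻¹) * a := by rw [h, inv_inv]
        _ = x⁻¹ := by group

theorem mem_invSub {G : Type*} [Group G] (x g : G) :
    g ∈ invSub x ↔ (g * x * g⁻¹ = x ∨ g * x * g⁻¹ = x⁻¹) := Iff.rfl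

theorem mem_cent {G : Type*} [Group G] (x c : G) :
    c ∈ Subgroup.centralizer ({x} : Set G) ↔ c * x * c⁻¹ = x := by
  rw [Subgroup.mem_centralizer_singleton_iff]
  constructor
  · intro h
    rw [h]; group
  · intro h
    calc c * x = c * x * c⁻¹ * c := by group
      _ = x * c := by rw [h]

theorem part1 {G : Type*} [Group G] [Finite G] (hamb : ∀ x : G, IsConj x x⁻¹)
    (S : Sylow 2 G) (x : G) (hxS : x ∈ Subgroup.centralizer ((S : Subgroup G) : Set G)) (hx1 : x ≠ 1) :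
    orderOf x = 2 := by
  have : Fact (Nat.Prime 2) := ⟨Nat.prime_two⟩
  by_contra hne
  have hxx : x⁻¹ ≠ x := by
    intro h
    apply hne
    apply orderOf_eq_prime _ hx1
    rw [pow_two]
    calc x * x = x * x⁻¹ := by rw [h]
      _ = 1 := mul_inv_cancel x
  obtain ⟨g0, hg0⟩ := isConj_iff.mp (hamb x)
  set C := Subgroup.centralizer ({x} : Set G) with hC
  have hCle : C ≤ invSub x := by
    intro c hc
    exact Or.inl ((mem_cent x c).mp hc)
  have hSC : (S : Subgroup G) ≤ C := by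
    intro s hs
    rw [hC, Subgroup.mem_centralizer_singleton_iff]
    exact (Subgroup.mem_centralizer_iff.mp hxS s hs)
  have hg0mem : g0 ∈ invSub x := Or.inr hg0
  have hidx : C.relIndex (invSub x) = 2 := by
    rw [Subgroup.relIndex, Subgroup.index_eq_two_iff]
    refine ⟨⟨g0, hg0mem⟩, fun b => ?_⟩
    obtain ⟨b, hb⟩ := b
    simp only [Subgroup.mem_subgroupOf, Subgroup.coe_mul]
    rw [hC, mem_cent, mem_cent]
    rcases hb with hb | hb
    · right
      refine ⟨hb, ?_⟩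
      intro hcon
      apply hxx
      calc x⁻¹ = b * x⁻¹ * b⁻¹ := by
            have : b * x⁻¹ * b⁻¹ = (b * x * b⁻¹)⁻¹ := by group
            rw [this, hb]
        _ = b * g0 * x * (b * g0)⁻¹ := by rw [← hg0]; group
        _ = x := hcon
    · left
      refine ⟨?_, ?_⟩
      · calc b * g0 * x * (b * g0)⁻¹ = b * (g0 * x * g0⁻¹) * b⁻¹ := by group
          _ = (b * x * b⁻¹)⁻¹ := by rw [hg0]; group
          _ = x := by rw [hb, inv_inv]
      · intro hcon
        apply hxx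
        rw [← hb, hcon]
  have h1 : Nat.card C * 2 = Nat.card (invSub x) := by
    rw [← hidx, Subgroup.relIndex, ← Nat.card_congr (Subgroup.subgroupOfEquivOfLe hCle).toEquiv]
    exact Subgroup.card_mul_index _
  have h2 : Nat.card (S : Subgroup G) ∣ Nat.card C := Subgroup.card_dvd_of_le hSC
  have h3 : Nat.card (invSub x) ∣ Nat.card G := Subgroup.card_subgroup_dvd_card _
  have h4 : Nat.card (S : Subgroup G) = 2 ^ (Nat.card G).factorization 2 := S.card_eq_multiplicity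
  have h5 : 2 ^ ((Nat.card G).factorization 2 + 1) ∣ Nat.card G := by
    rw [pow_succ, ← h4]
    exact (Nat.mul_dvd_mul_right h2 2).trans (h1 ▸ h3)
  exact Nat.pow_succ_factorization_not_dvd Nat.card_pos.ne' Nat.prime_two h5

theorem conj_odd_pow {G : Type*} [Group G] (g y : G) (h : g * y * g⁻¹ = y⁻¹) (j : ℕ) :
    g ^ (2 * j + 1) * y * (g ^ (2 * j + 1))⁻¹ = y⁻¹ := by
  have h2 : g * y⁻¹ * g⁻¹ = y := by
    calc g * y⁻¹ * g⁻¹ = (g * y * g⁻¹)⁻¹ := by group
      _ = y := by rw [h, inv_inv]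
  induction j with
  | zero => simpa using h
  | succ j ih =>
    have e : g ^ (2 * (j + 1) + 1) = g * g * g ^ (2 * j + 1) := by
      rw [show 2 * (j + 1) + 1 = 1 + 1 + (2 * j + 1) by ring, pow_add, pow_add, pow_one]
    rw [e]
    calc g * g * g ^ (2 * j + 1) * y * (g * g * g ^ (2 * j + 1))⁻¹
        = g * (g * (g ^ (2 * j + 1) * y * (g ^ (2 * j + 1))⁻¹) * g⁻¹) * g⁻¹ := by group
      _ = y⁻¹ := by rw [ih, h2, h]

theorem part4 {G : Type*} [Group G] [Finite G] (hamb : ∀ x : G, IsConj x x⁻¹) (x : G) :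
    x ∈ Subgroup.closure {x : G | ∃ k : ℕ, orderOf x = 2 ^ k} := by
  set N := Subgroup.closure {x : G | ∃ k : ℕ, orderOf x = 2 ^ k} with hN
  have hTN : ∀ u : G, (∃ k : ℕ, orderOf u = 2 ^ k) → u ∈ N := fun u hu => Subgroup.subset_closure hu
  -- odd order elements lie in N
  have hodd : ∀ y : G, Odd (orderOf y) → y ∈ N := by
    intro y hy
    obtain ⟨g, hg⟩ := isConj_iff.mp (hamb y)
    obtain ⟨c, b, hb, hcb⟩ := Nat.exists_eq_two_pow_mul_odd (orderOf_pos g).ne'
    obtain ⟨j, rfl⟩ := hb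
    have hu : orderOf (g ^ (2 * j + 1)) = 2 ^ c := by
      rw [orderOf_pow_of_dvd (by omega) (Dvd.intro_left _ hcb.symm), hcb]
      exact Nat.mul_div_cancel _ (by omega)
    have hinv := conj_odd_pow g y hg j
    set u := g ^ (2 * j + 1) with hu_def
    have hu' : orderOf (y * u⁻¹ * y⁻¹) = 2 ^ c := by
      rw [← hu, ← orderOf_inv u]
      have := MulEquiv.orderOf_eq (MulAut.conj y) u⁻¹
      simpa using this
    have hy2 : y⁻¹ * y⁻¹ ∈ N := by
      have e : y⁻¹ * y⁻¹ = u * (y * u⁻¹ * y⁻¹) := by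
        calc y⁻¹ * y⁻¹ = (u * y * u⁻¹) * y⁻¹ := by rw [hinv]
          _ = u * (y * u⁻¹ * y⁻¹) := by group
      rw [e]
      exact N.mul_mem (hTN u ⟨c, hu⟩) (hTN _ ⟨c, hu'⟩)
    have hy2' : y ^ 2 ∈ N := by
      have : y ^ 2 = (y⁻¹ * y⁻¹)⁻¹ := by group
      rw [this]
      exact N.inv_mem hy2
    obtain ⟨m, hm⟩ := hy
    have : y = (y ^ 2) ^ (m + 1) := by
      rw [← pow_mul, show 2 * (m + 1) = orderOf y + 1 by omega, pow_succ, pow_orderOf_eq_one, one_mul]
    rw [this]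
    exact N.pow_mem hy2' _
  obtain ⟨a, m, hm, ham⟩ := Nat.exists_eq_two_pow_mul_odd (orderOf_pos x).ne'
  have hm0 : m ≠ 0 := by
    rintro rfl
    simp at hm
  have h1 : x ^ m ∈ N := by
    apply hTN
    refine ⟨a, ?_⟩
    rw [orderOf_pow_of_dvd hm0 (Dvd.intro_left _ ham.symm), ham]
    exact Nat.mul_div_cancel _ (Nat.pos_of_ne_zero hm0)
  have h2 : x ^ (2 ^ a) ∈ N := by
    apply hodd
    rw [orderOf_pow_of_dvd (by positivity) (Dvd.intro _ ham.symm), ham, Nat.mul_div_cancel_left _ (by positivity)]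
    exact hm
  have hcop : Nat.Coprime m (2 ^ a) := by
    apply Nat.Coprime.pow_right
    exact (Nat.coprime_two_right.mpr hm)
  have hbez := Nat.gcd_eq_gcd_ab m (2 ^ a)
  rw [hcop.gcd_eq_one] at hbez
  have : x = (x ^ m) ^ (Nat.gcdA m (2 ^ a)) * (x ^ (2 ^ a)) ^ (Nat.gcdB m (2 ^ a)) := by
    rw [← zpow_natCast x m, ← zpow_natCast x (2 ^ a), ← zpow_mul, ← zpow_mul, ← zpow_add]
    have e : ((m : ℕ) : ℤ) * Nat.gcdA m (2 ^ a) + ((2 ^ a : ℕ) : ℤ) * Nat.gcdB m (2 ^ a) = 1 := by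
      rw [← hbez]; simp
    rw [e, zpow_one]
  rw [this]
  exact N.mul_mem (N.zpow_mem h1 _) (N.zpow_mem h2 _)

theorem result {G : Type*} [Group G] [Finite G] (hamb : ∀ x : G, IsConj x x⁻¹) :
    (∀ (S : Sylow 2 G) (x : G), x ∈ Subgroup.centralizer ((S : Subgroup G) : Set G) → x ≠ 1 → orderOf x = 2) ∧
    (∀ z : G, z ∈ Subgroup.center G → z ^ 2 = 1) ∧
    (∀ x : G, x ^ 2 ∈ commutator G) ∧
    Subgroup.closure {x : G | ∃ k : ℕ, orderOf x = 2 ^ k} = ⊤ := by
  refine ⟨fun S x hx hx1 => part1 hamb S x hx hx1, ?_, ?_, ?_⟩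
  · intro z hz
    obtain ⟨g, hg⟩ := isConj_iff.mp (hamb z)
    have hz' : g * z = z * g := (Subgroup.mem_center_iff.mp hz g)
    have h1 : z⁻¹ = z := by
      rw [← hg, hz']; group
    rw [pow_two]
    calc z * z = z * z⁻¹ := by rw [h1]
      _ = 1 := mul_inv_cancel z
  · intro x
    obtain ⟨g, hg⟩ := isConj_iff.mp (hamb x)
    have : x ^ 2 = ⁅x, g⁆ := by
      rw [commutatorElement_def]
      calc x ^ 2 = x * (g * x * g⁻¹)⁻¹ := by rw [hg, inv_inv, pow_two]
        _ = x * g * x⁻¹ * g⁻¹ := by group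
    rw [this, commutator_def]
    exact Subgroup.commutator_mem_commutator (Subgroup.mem_top x) (Subgroup.mem_top g)
  · rw [Subgroup.eq_top_iff']
    exact fun x => part4 hamb x

end Cfsg.Agent.S4059
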