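import Cfsg.Statements.S4060
import Cfsg.Agent.Lib.Helper72.Real
import Cfsg.Agent.Lib.Helper01.SolvableNP

set_option autoImplicit false
open Cfsg

namespace Cfsg.Agent.S4060

open Cfsg.Agent.Lib.Helper72 Cfsg.Agent.Lib.Helper01

universe u

theorem aux (n : ℕ) : ∀ (G : Type u) [Group G] [Finite G] [Group.IsSolvable G], Nat.card G = n →
    ∀ (S : Sylow 2 G) (x : G), x ≠ 1 → Odd (orderOf x) →
      x ∈ Subgroup.normalizer ((S : Subgroup G) : Set G) → ¬ IsConj x x⁻¹ := by
  induction n using Nat.strong_induction_on with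
  | _ n ih =>
  intro G _ _ _ hn S x hx hodd hnorm hconj
  have : Fact (Nat.Prime 2) := ⟨Nat.prime_two⟩
  have hnt : Nontrivial G := ⟨⟨x, 1, hx⟩⟩
  obtain ⟨q, hq, A, hAn, hAq, hAne⟩ :=
    exists_normal_pSubgroup_of_solvable (inferInstance : Group.IsSolvable G)
  have : Fact q.Prime := ⟨hq⟩
  by_cases hxA : x ∈ A
  · -- x ∈ A, so q is odd
    obtain ⟨k, hk⟩ := (IsPGroup.iff_orderOf.mp hAq) ⟨x, hxA⟩
    rw [Subgroup.orderOf_mk] at hk
    have hq2 : q ≠ 2 := by
      rintro rfl
      rcases Nat.eq_zero_or_pos k with h0 | hpos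
      · rw [h0, pow_zero] at hk
        exact hx (orderOf_eq_one_iff.mp hk)
      · rw [hk] at hodd
        have : Even (2 ^ k) := (Nat.even_pow.mpr ⟨even_two, hpos.ne'⟩)
        exact (Nat.not_even_iff_odd.mpr hodd) this
    -- S centralizes x
    have hS : ∀ s ∈ (S : Subgroup G), s * x = x * s := by
      intro s hs
      have h1 : x * s * x⁻¹ ∈ (S : Subgroup G) :=
        ((Subgroup.mem_set_normalizer_iff.mp hnorm) s).mp hs
      have h2 : x * s * x⁻¹ * s⁻¹ ∈ (S : Subgroup G) := Subgroup.mul_mem _ h1 (Subgroup.inv_mem _ hs)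
      have h3 : x * s * x⁻¹ * s⁻¹ ∈ A := by
        have : x * s * x⁻¹ * s⁻¹ = x * (s * x⁻¹ * s⁻¹) := by group
        rw [this]
        exact Subgroup.mul_mem _ hxA (hAn.conj_mem _ (Subgroup.inv_mem _ hxA) s)
      have h4 : x * s * x⁻¹ * s⁻¹ = 1 := by
        obtain ⟨i, hi⟩ := (IsPGroup.iff_orderOf.mp S.isPGroup') ⟨_, h2⟩
        obtain ⟨j, hj⟩ := (IsPGroup.iff_orderOf.mp hAq) ⟨_, h3⟩
        rw [Subgroup.orderOf_mk] at hi hj
        have hcop : Nat.Coprime (2 ^ i) (q ^ j) :=
          Nat.Coprime.pow _ _ ((Nat.coprime_primes Nat.prime_two hq).mpr (Ne.symm hq2))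
        rw [← hi, ← hj] at hcop
        exact orderOf_eq_one_iff.mp ((Nat.coprime_self _).mp hcop)
      have : x * s * x⁻¹ * s⁻¹ * (s * x) = s * x := by rw [h4, one_mul]
      rw [← this]; group
    have hsq := sq_eq_one_of_real_of_sylow_le_centralizer S x hS hconj
    have hdvd : orderOf x ∣ 2 := orderOf_dvd_of_pow_eq_one hsq
    have h1 : orderOf x = 1 := by
      rcases (Nat.dvd_prime Nat.prime_two).mp hdvd with h | h
      · exact h
      · rw [h] at hodd; exact absurd hodd (by decide)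
    exact hx (orderOf_eq_one_iff.mp h1)
  · -- pass to the quotient
    have hsurj : Function.Surjective (QuotientGroup.mk' A) := QuotientGroup.mk'_surjective A
    have hlt : Nat.card (G ⧸ A) < n := by
      rw [← hn, Subgroup.card_eq_card_quotient_mul_card_subgroup A]
      have h1 : 1 < Nat.card A := by
        rw [Subgroup.one_lt_card_iff_ne_bot]; exact hAne
      have h2 : 0 < Nat.card (G ⧸ A) := Nat.card_pos
      nlinarith
    have hx' : (QuotientGroup.mk' A x) ≠ 1 := by
      intro h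
      exact hxA ((QuotientGroup.eq_one_iff x).mp h)
    have hodd' : Odd (orderOf (QuotientGroup.mk' A x)) :=
      Odd.of_dvd_nat hodd (orderOf_map_dvd _ x)
    have hnorm' : (QuotientGroup.mk' A x) ∈
        Subgroup.normalizer (((S.mapSurjective hsurj : Sylow 2 (G ⧸ A)) : Subgroup (G ⧸ A)) : Set (G ⧸ A)) := by
      have := Subgroup.le_normalizer_map (H := (S : Subgroup G)) (QuotientGroup.mk' A)
      exact this ⟨x, hnorm, rfl⟩
    have hconj' : IsConj (QuotientGroup.mk' A x) (QuotientGroup.mk' A x)⁻¹ := by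
      have := (QuotientGroup.mk' A).map_isConj hconj
      rwa [map_inv] at this
    exact ih _ hlt (G ⧸ A) rfl (S.mapSurjective hsurj) _ hx' hodd' hnorm' hconj'

/-- Let G be a finite solvable group with Sylow 2-subgroup S, and let x ≠ 1 be an element of odd order normalizing S. Then x is not conjugate to its inverse in G. -/
theorem result {G : Type*} [Group G] [Finite G] [Group.IsSolvable G]
    (S : Sylow 2 G) (x : G) (hx : x ≠ 1) (hodd : Odd (orderOf x))
    (hnorm : x ∈ Subgroup.normalizer ((S : Subgroup G) : Set G)) : ¬ IsConj x x⁻¹ :=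
  aux _ G rfl S x hx hodd hnorm

end Cfsg.Agent.S4060
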