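import Cfsg.Statements.S4062
import Cfsg.Agent.Lib.Helper11.DihedralThree

set_option autoImplicit false
open Cfsg

namespace Cfsg.Agent.S4062

variable {G : Type*} [Group G]

/-- a normal subgroup of index two -/
theorem exists_index_two [Finite G] [Group.IsSolvable G] [Nontrivial G]
    (h : ∀ x y : G, orderOf x = orderOf y → IsConj x y) :
    ∃ M : Subgroup G, M.Normal ∧ M.index = 2 := by
  have hsq : ∀ a : Abelianization G, a ^ 2 = 1 := by
    intro a
    obtain ⟨x, rfl⟩ := QuotientGroup.mk_surjective (s := commutator G) a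
    change Abelianization.of x ^ 2 = 1
    have hc : IsConj x x⁻¹ := h x x⁻¹ (orderOf_inv x).symm
    obtain ⟨c, hc⟩ := isConj_iff.mp hc
    have : Abelianization.of x = Abelianization.of x⁻¹ := by
      rw [← hc, map_mul, map_mul, map_inv, mul_comm, inv_mul_cancel_left]
    rw [map_inv] at this
    rw [sq]
    nth_rewrite 2 [this]
    exact mul_inv_cancel _
  have : Fact (Nat.Prime 2) := ⟨Nat.prime_two⟩
  have hp : IsPGroup 2 (Abelianization G) := fun a => ⟨1, by rw [pow_one]; exact hsq a⟩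
  obtain ⟨n, hn⟩ := IsPGroup.iff_card.mp hp
  have hnt : Nontrivial (Abelianization G) := by
    have hlt := Group.IsSolvable.commutator_lt_top_of_nontrivial G
    obtain ⟨g, -, hg⟩ := SetLike.exists_of_lt hlt
    refine ⟨⟨Abelianization.of g, 1, ?_⟩⟩
    intro h1
    apply hg
    rw [← Abelianization.ker_of]
    exact h1
  have hn1 : 1 ≤ n := by
    rcases Nat.eq_zero_or_pos n with h0 | h0
    · exfalso
      rw [h0, pow_zero] at hn
      have := Finite.one_lt_card (α := Abelianization G)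
      omega
    · exact h0
  obtain ⟨K, hK⟩ := Sylow.exists_subgroup_card_pow_prime 2 (n := n - 1)
    (G := Abelianization G) (by rw [hn]; exact pow_dvd_pow 2 (by omega))
  have hKi : K.index = 2 := by
    have := K.card_mul_index
    rw [hK, hn] at this
    have h2 : 2 ^ n = 2 ^ (n - 1) * 2 := by rw [← pow_succ, Nat.sub_add_cancel hn1]
    rw [h2] at this
    exact Nat.eq_of_mul_eq_mul_left (by positivity) this
  refine ⟨K.comap Abelianization.of, inferInstance, ?_⟩
  rw [Subgroup.index_comap_of_surjective, hKi]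
  exact QuotientGroup.mk_surjective

theorem pow_odd_mem_iff (M : Subgroup G) (hM : M.index = 2) (g : G) {m : ℕ} (hm : Odd m) :
    g ^ m ∈ M ↔ g ∈ M := by
  obtain ⟨j, rfl⟩ := hm
  rw [pow_succ, pow_mul]
  exact Subgroup.mul_mem_cancel_left M (M.pow_mem (Subgroup.sq_mem_of_index_two hM g) j)

/-- with `M` of index two, if `x ∉ M` has order `2^d` then no element has order `2^e`, `e > d` -/
theorem no_bigger_two_power (h : ∀ x y : G, orderOf x = orderOf y → IsConj x y)
    (M : Subgroup G) [hMn : M.Normal] (hM : M.index = 2) {x y : G} {d e : ℕ} (hx : x ∉ M)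
    (hxo : orderOf x = 2 ^ d) (hyo : orderOf y = 2 ^ e) (hde : d < e) : False := by
  set z := y ^ (2 ^ (e - d)) with hz
  have hzo : orderOf z = 2 ^ d := by
    rw [hz, orderOf_pow_of_dvd (by positivity) (by rw [hyo]; exact pow_dvd_pow 2 (by omega)), hyo,
      Nat.pow_div (by omega) (by norm_num)]
    congr 1
    omega
  have hzM : z ∈ M := by
    have : 2 ^ (e - d) = 2 * 2 ^ (e - d - 1) := by
      rw [← pow_succ']
      congr 1
      omega
    rw [hz, this, pow_mul]
    exact M.pow_mem (Subgroup.sq_mem_of_index_two hM y) _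
  obtain ⟨c, hc⟩ := isConj_iff.mp (h z x (hzo.trans hxo.symm))
  apply hx
  rw [← hc]
  exact hMn.conj_mem z hzM c

theorem conj_pow_even {v u : G} (hv : v * u * v⁻¹ = u⁻¹) (j : ℕ) :
    v ^ (2 * j) * u * (v ^ (2 * j))⁻¹ = u := by
  induction j with
  | zero => simp
  | succ j ih =>
    have h1 : v ^ (2 * (j + 1)) = v * (v * v ^ (2 * j)) := by
      rw [show 2 * (j + 1) = 2 * j + 1 + 1 by ring, pow_succ', pow_succ']
    rw [h1]
    have e : v * (v * v ^ (2 * j)) * u * (v * (v * v ^ (2 * j)))⁻¹ =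
        v * (v * (v ^ (2 * j) * u * (v ^ (2 * j))⁻¹) * v⁻¹) * v⁻¹ := by group
    rw [e, ih, hv]
    have h2 : v * u⁻¹ * v⁻¹ = (v * u * v⁻¹)⁻¹ := by group
    rw [h2, hv, inv_inv]

theorem conj_pow_odd {v u : G} (hv : v * u * v⁻¹ = u⁻¹) {m : ℕ} (hm : Odd m) :
    v ^ m * u * (v ^ m)⁻¹ = u⁻¹ := by
  obtain ⟨j, rfl⟩ := hm
  rw [pow_succ']
  have e : v * v ^ (2 * j) * u * (v * v ^ (2 * j))⁻¹ =
      v * (v ^ (2 * j) * u * (v ^ (2 * j))⁻¹) * v⁻¹ := by group
  rw [e, conj_pow_even hv, hv]

theorem two_part_outside [Finite G] (M : Subgroup G) (hM : M.index = 2) {g : G} (hg : g ∉ M) :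
    ∃ u : G, u ∉ M ∧ ∃ a, 1 ≤ a ∧ orderOf u = 2 ^ a := by
  obtain ⟨k, m, hm, hkm⟩ := Nat.exists_eq_two_pow_mul_odd (orderOf_pos g).ne'
  have hu : g ^ m ∉ M := by rwa [pow_odd_mem_iff M hM g hm]
  have huo : orderOf (g ^ m) = 2 ^ k := by
    rw [orderOf_pow_of_dvd hm.pos.ne' ⟨2 ^ k, by rw [hkm, mul_comm]⟩, hkm,
      Nat.mul_div_cancel _ hm.pos]
  refine ⟨g ^ m, hu, k, ?_, huo⟩
  rcases Nat.eq_zero_or_pos k with h0 | h0
  · exfalso
    rw [h0, pow_zero, orderOf_eq_one_iff] at huo
    exact hu (huo ▸ M.one_mem)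
  · exact h0

theorem order_two_outside [Finite G] (h : ∀ x y : G, orderOf x = orderOf y → IsConj x y)
    (M : Subgroup G) [hMn : M.Normal] (hM : M.index = 2) {u : G} (hu : u ∉ M) {a : ℕ}
    (huo : orderOf u = 2 ^ a) : a ≤ 1 := by
  by_contra ha
  push Not at ha
  obtain ⟨v₀, hv₀⟩ := isConj_iff.mp (h u u⁻¹ (orderOf_inv u).symm)
  obtain ⟨v, hvM, hv⟩ : ∃ v ∈ M, v * u * v⁻¹ = u⁻¹ := by
    by_cases hv₀M : v₀ ∈ M
    · exact ⟨v₀, hv₀M, hv₀⟩
    · refine ⟨v₀ * u, ?_, ?_⟩
      · rw [Subgroup.mul_mem_iff_of_index_two hM]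
        exact ⟨fun h => absurd h hv₀M, fun h => absurd h hu⟩
      · calc v₀ * u * u * (v₀ * u)⁻¹ = v₀ * u * v₀⁻¹ := by group
          _ = u⁻¹ := hv₀
  obtain ⟨c, m, hm, hcm⟩ := Nat.exists_eq_two_pow_mul_odd (orderOf_pos v).ne'
  set v' := v ^ m with hv'def
  have hv'M : v' ∈ M := M.pow_mem hvM m
  have hv'o : orderOf v' = 2 ^ c := by
    rw [hv'def, orderOf_pow_of_dvd hm.pos.ne' ⟨2 ^ c, by rw [hcm, mul_comm]⟩, hcm,
      Nat.mul_div_cancel _ hm.pos]
  have hv' : v' * u * v'⁻¹ = u⁻¹ := conj_pow_odd hv hm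
  have hca : c < a := by
    by_contra hca
    push Not at hca
    rcases Nat.lt_or_ge a c with h1 | h1
    · exact no_bigger_two_power h M hM hu huo hv'o h1
    · have hceq : c = a := le_antisymm h1 hca
      obtain ⟨k, hk⟩ := isConj_iff.mp (h v' u (by rw [hv'o, huo, hceq]))
      apply hu
      rw [← hk]
      exact hMn.conj_mem _ hv'M k
  set w := u * v' with hwdef
  have hwM : w ∉ M := by
    rw [Subgroup.mul_mem_iff_of_index_two hM]
    intro hh
    exact hu (hh.mpr hv'M)
  have hw2 : w ^ 2 = v' ^ 2 := by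
    calc w ^ 2 = u * (v' * u * v'⁻¹) * (v' * v') := by rw [hwdef, sq]; group
      _ = v' ^ 2 := by rw [hv', mul_inv_cancel, one_mul, sq]
  set k := max c 1 with hkdef
  have hk1 : 1 ≤ k := le_max_right _ _
  have hka : k < a := max_lt hca ha
  have hwk : w ^ (2 ^ k) = 1 := by
    have h2 : 2 ^ k = 2 * 2 ^ (k - 1) := by
      rw [← pow_succ']
      congr 1
      omega
    rw [h2, pow_mul, hw2, ← pow_mul, ← h2]
    apply orderOf_dvd_iff_pow_eq_one.mp
    rw [hv'o]
    exact pow_dvd_pow 2 (le_max_left _ _)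
  have hwo := orderOf_dvd_of_pow_eq_one hwk
  obtain ⟨d, hdk, hd⟩ := (Nat.dvd_prime_pow Nat.prime_two).mp hwo
  exact no_bigger_two_power h M hM hwM hd huo (by omega)

theorem exists_involution_outside [Finite G]
    (h : ∀ x y : G, orderOf x = orderOf y → IsConj x y)
    (M : Subgroup G) [hMn : M.Normal] (hM : M.index = 2) :
    ∃ t : G, t ∉ M ∧ orderOf t = 2 ∧ ∀ s ∈ M, orderOf s ≠ 2 := by
  have hMtop : M ≠ ⊤ := by
    intro htop
    rw [htop, Subgroup.index_top] at hM
    omega
  obtain ⟨g, hg⟩ : ∃ g, g ∉ M := by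
    by_contra hcon
    push Not at hcon
    exact hMtop (eq_top_iff.mpr fun x _ => hcon x)
  obtain ⟨u, hu, a, ha1, hua⟩ := two_part_outside M hM hg
  have ha := order_two_outside h M hM hu hua
  have ha' : a = 1 := le_antisymm ha ha1
  rw [ha', pow_one] at hua
  refine ⟨u, hu, hua, ?_⟩
  intro s hs hso
  obtain ⟨k, hk⟩ := isConj_iff.mp (h s u (hso.trans hua.symm))
  apply hu
  rw [← hk]
  exact hMn.conj_mem _ hs k

theorem odd_order_of_no_involution [Finite G] (M : Subgroup G)
    (hodd : ∀ s ∈ M, orderOf s ≠ 2) {c : G} (hc : c ∈ M) : Odd (orderOf c) := by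
  by_contra hnodd
  rw [Nat.not_odd_iff_even, even_iff_two_dvd] at hnodd
  obtain ⟨k, hk⟩ := hnodd
  have hkpos : k ≠ 0 := by
    rintro rfl
    have := orderOf_pos c
    omega
  have : orderOf (c ^ k) = 2 := by
    rw [orderOf_pow_of_dvd hkpos ⟨2, by rw [hk, mul_comm]⟩, hk,
      Nat.mul_div_cancel _ (Nat.pos_of_ne_zero hkpos)]
  exact hodd _ (M.pow_mem hc k) this

/-- in a group of odd order no nontrivial element is inverted -/
theorem eq_one_of_inverted [Finite G] {g c : G} (hg : Odd (orderOf g)) (hc : Odd (orderOf c))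
    (hgc : g * c * g⁻¹ = c⁻¹) : c = 1 := by
  obtain ⟨j, hj⟩ := hg
  have h1 := conj_pow_even hgc (j + 1)
  have h2 : g ^ (2 * (j + 1)) = g := by
    rw [show 2 * (j + 1) = (2 * j + 1) + 1 by ring, ← hj, pow_succ, pow_orderOf_eq_one, one_mul]
  rw [h2, hgc] at h1
  have h3 : c ^ 2 = 1 := by
    rw [sq]
    nth_rewrite 1 [← h1]
    exact inv_mul_cancel c
  have h4 := orderOf_dvd_of_pow_eq_one h3
  have h5 : orderOf c = 1 := by
    rcases (Nat.dvd_prime Nat.prime_two).mp h4 with h | h
    · exact h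
    · exfalso
      rw [h] at hc
      exact (by decide : ¬ Odd 2) hc
  exact orderOf_eq_one_iff.mp h5

theorem centralizer_trivial [Finite G] (h : ∀ x y : G, orderOf x = orderOf y → IsConj x y)
    (M : Subgroup G) (hM : M.index = 2) {t : G} (htM : t ∉ M)
    (hto : orderOf t = 2) (hodd : ∀ s ∈ M, orderOf s ≠ 2) :
    ∀ c ∈ M, t * c = c * t → c = 1 := by
  intro c hc htc
  have hco : Odd (orderOf c) := odd_order_of_no_involution M hodd hc
  have hcomm : Commute t c := htc
  have hcomm' : Commute t c⁻¹ := hcomm.inv_right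
  have hcop : (orderOf t).Coprime (orderOf c) := by
    rw [hto]
    exact Nat.coprime_two_left.mpr hco
  have hcop' : (orderOf t).Coprime (orderOf c⁻¹) := by rwa [orderOf_inv]
  have ho1 := hcomm.orderOf_mul_eq_mul_orderOf_of_coprime hcop
  have ho2 := hcomm'.orderOf_mul_eq_mul_orderOf_of_coprime hcop'
  rw [orderOf_inv] at ho2
  obtain ⟨g, hg⟩ := isConj_iff.mp (h (t * c) (t * c⁻¹) (ho1.trans ho2.symm))
  set m := orderOf c with hm
  have ht2 : t ^ 2 = 1 := by rw [← hto]; exact pow_orderOf_eq_one t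
  have htm1 : t ^ (m + 1) = 1 := by
    obtain ⟨j, hj⟩ := hco
    rw [hj, show 2 * j + 1 + 1 = 2 * (j + 1) by ring, pow_mul, ht2, one_pow]
  have hcm1 : c ^ (m + 1) = c := by rw [pow_succ, hm, pow_orderOf_eq_one, one_mul]
  have hcm1' : c⁻¹ ^ (m + 1) = c⁻¹ := by
    rw [inv_pow, hcm1]
  have hpow := congrArg (· ^ (m + 1)) hg
  simp only [conj_pow, hcomm.mul_pow, hcomm'.mul_pow, htm1, hcm1, hcm1', one_mul] at hpow
  -- hpow : g * c * g⁻¹ = c⁻¹
  by_cases hgM : g ∈ M
  · exact eq_one_of_inverted (odd_order_of_no_involution M hodd hgM) hco hpow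
  · have hg'M : t⁻¹ * g ∈ M := by
      rw [Subgroup.mul_mem_iff_of_index_two hM]
      exact ⟨fun h => absurd (by simpa using M.inv_mem h) htM, fun h => absurd h hgM⟩
    have hg' : (t⁻¹ * g) * c * (t⁻¹ * g)⁻¹ = c⁻¹ := by
      calc (t⁻¹ * g) * c * (t⁻¹ * g)⁻¹ = t⁻¹ * (g * c * g⁻¹) * t := by group
        _ = t⁻¹ * (c⁻¹ * t) := by rw [hpow, mul_assoc]
        _ = t⁻¹ * (t * c⁻¹) := by rw [hcomm'.eq]
        _ = c⁻¹ := by group
    exact eq_one_of_inverted (odd_order_of_no_involution M hodd hg'M) hco hg'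

/-- a fixed-point-free involution inverts -/
theorem inverts [Finite G] (M : Subgroup G) [hMn : M.Normal] {t : G} (ht2 : t * t = 1)
    (hfix : ∀ c ∈ M, t * c = c * t → c = 1) : ∀ x ∈ M, t * x * t⁻¹ = x⁻¹ := by
  have htinv : t⁻¹ = t := inv_eq_of_mul_eq_one_right ht2
  let f : M → M := fun m => ⟨(m : G)⁻¹ * (t * m * t⁻¹),
    M.mul_mem (M.inv_mem m.2) (hMn.conj_mem _ m.2 t)⟩
  have hinj : Function.Injective f := by
    intro m n hmn
    have hmn' : (m : G)⁻¹ * (t * m * t⁻¹) = (n : G)⁻¹ * (t * n * t⁻¹) := congrArg Subtype.val hmn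
    have hc : t * ((n : G) * (m : G)⁻¹) = ((n : G) * (m : G)⁻¹) * t := by
      have e1 : (n : G) * (m : G)⁻¹ = (t * n * t⁻¹) * (t * m * t⁻¹)⁻¹ := by
        have : (t * m * t⁻¹) = (m : G) * ((n : G)⁻¹ * (t * n * t⁻¹)) := by
          rw [← hmn']; group
        rw [this]; group
      have e2 : (t * n * t⁻¹) * (t * m * t⁻¹)⁻¹ = t * ((n : G) * (m : G)⁻¹) * t⁻¹ := by group
      rw [e2] at e1
      nth_rewrite 2 [e1]
      group
    have := hfix _ (M.mul_mem n.2 (M.inv_mem m.2)) hc
    apply Subtype.ext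
    exact (mul_inv_eq_one.mp this).symm
  have hsurj : Function.Surjective f := Finite.injective_iff_surjective.mp hinj
  intro x hx
  obtain ⟨m, hm⟩ := hsurj ⟨x, hx⟩
  have hm' : (m : G)⁻¹ * (t * m * t⁻¹) = x := congrArg Subtype.val hm
  rw [← hm']
  have : t * ((m : G)⁻¹ * (t * m * t⁻¹)) * t⁻¹ = (t * (m : G)⁻¹ * t⁻¹) * ((t * t) * m * (t * t)⁻¹) := by
    group
  rw [this, ht2]
  group

/-- A finite solvable group in which any two elements of the same order are conjugate has order 1 or 2 or is isomorphic to the symmetric group of degree 3. -/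
theorem result {G : Type*} [Group G] [Finite G] [Group.IsSolvable G]
    (h : ∀ x y : G, orderOf x = orderOf y → IsConj x y) :
    Nat.card G = 1 ∨ Nat.card G = 2 ∨ Nonempty (G ≃* Equiv.Perm (Fin 3)) := by
  rcases subsingleton_or_nontrivial G with hsub | hnt
  · left
    exact Nat.card_of_subsingleton 1
  · right
    obtain ⟨M, hMn, hM⟩ := exists_index_two h
    obtain ⟨t, htM, hto, hodd⟩ := exists_involution_outside h M hM
    have hfix := centralizer_trivial h M hM htM hto hodd
    have ht2 : t * t = 1 := by rw [← sq, ← hto]; exact pow_orderOf_eq_one t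
    have hinv := inverts M ht2 hfix
    have htinv : t⁻¹ = t := inv_eq_of_mul_eq_one_right ht2
    have hab : ∀ x ∈ M, ∀ y ∈ M, x * y = y * x := by
      intro x hx y hy
      have h1 := hinv (x * y) (M.mul_mem hx hy)
      have h2 : t * (x * y) * t⁻¹ = (t * x * t⁻¹) * (t * y * t⁻¹) := by group
      rw [h2, hinv x hx, hinv y hy] at h1
      have h3 := congrArg (·⁻¹) h1
      simp only [mul_inv_rev, inv_inv] at h3
      exact h3.symm
    have hcls : ∀ x ∈ M, ∀ y : G, orderOf x = orderOf y → y = x ∨ y = x⁻¹ := by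
      intro x hx y hxy
      obtain ⟨g, hg⟩ := isConj_iff.mp (h x y hxy)
      by_cases hgM : g ∈ M
      · left
        rw [← hg, hab g hgM x hx, mul_inv_cancel_right]
      · right
        have hg'M : t⁻¹ * g ∈ M := by
          rw [Subgroup.mul_mem_iff_of_index_two hM]
          exact ⟨fun h => absurd (by simpa using M.inv_mem h) htM, fun h => absurd h hgM⟩
        have hgeq : g = t * (t⁻¹ * g) := by group
        rw [← hg, hgeq]
        calc t * (t⁻¹ * g) * x * (t * (t⁻¹ * g))⁻¹
            = t * ((t⁻¹ * g) * x * (t⁻¹ * g)⁻¹) * t⁻¹ := by group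
          _ = t * x * t⁻¹ := by rw [hab _ hg'M x hx, mul_inv_cancel_right]
          _ = x⁻¹ := hinv x hx
    have hcube : ∀ x ∈ M, x ^ 3 = 1 := by
      intro x hx
      have hxo := odd_order_of_no_involution M hodd hx
      have hsame : orderOf (x ^ 2) = orderOf x :=
        Nat.Coprime.orderOf_pow (Nat.coprime_two_right.mpr hxo)
      rcases hcls x hx (x ^ 2) hsame.symm with h1 | h1
      · have hx1 : x = 1 := by
          rw [sq] at h1
          exact mul_left_cancel (a := x) (by rw [h1, mul_one])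
        rw [hx1, one_pow]
      · rw [pow_succ, h1, inv_mul_cancel]
    by_cases hMbot : M = ⊥
    · left
      have := M.card_mul_index
      rw [hM, hMbot, Subgroup.card_bot] at this
      omega
    · right
      obtain ⟨⟨x, hxM⟩, hx1⟩ := (Subgroup.ne_bot_iff_exists_ne_one).mp hMbot
      have hx1' : (x : G) ≠ 1 := fun h => hx1 (Subtype.ext h)
      have : Fact (Nat.Prime 3) := ⟨Nat.prime_three⟩
      have hxo : orderOf (x : G) = 3 := orderOf_eq_prime (hcube x hxM) hx1'
      have hMz : M = Subgroup.zpowers (x : G) := by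
        apply le_antisymm
        · intro y hy
          by_cases hy1 : y = 1
          · rw [hy1]
            exact one_mem _
          · have hyo : orderOf y = 3 := orderOf_eq_prime (hcube y hy) hy1
            rcases hcls x hxM y (hxo.trans hyo.symm) with e | e
            · rw [e]
              exact Subgroup.mem_zpowers x
            · rw [e]
              exact (Subgroup.zpowers x).inv_mem (Subgroup.mem_zpowers x)
        · rw [Subgroup.zpowers_le]
          exact hxM
      have hMcard : Nat.card M = 3 := by rw [hMz, Nat.card_zpowers, hxo]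
      have hGcard : Nat.card G = 6 := by
        have := M.card_mul_index
        rw [hMcard, hM] at this
        omega
      have he : (t * x) * (t * x) = 1 := by
        calc t * x * (t * x) = (t * x * t⁻¹) * x := by rw [htinv]; group
          _ = 1 := by rw [hinv x hxM, inv_mul_cancel]
      have h3 : (t * (t * x)) ^ 3 = 1 := by
        rw [← mul_assoc, ht2, one_mul]
        exact hcube x hxM
      have hne : ¬ Commute t (t * x) := by
        intro hc
        have e1 : t * (t * x) = x := by rw [← mul_assoc, ht2, one_mul]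
        have e2 : (t * x) * t = x⁻¹ := by rw [← hinv x hxM, htinv]
        have e3 : x = x⁻¹ := by
          calc x = t * (t * x) := e1.symm
            _ = (t * x) * t := hc.eq
            _ = x⁻¹ := e2
        have e4 : x ^ 2 = 1 := by
          rw [sq]
          nth_rewrite 1 [e3]
          exact inv_mul_cancel x
        have e5 := hcube x hxM
        rw [pow_succ, e4, one_mul] at e5
        exact hx1' e5
      have hinj := Cfsg.Agent.Lib.Helper11.dihedralHom_injective ht2 he h3 hne
      have hbij : Function.Bijective (Cfsg.Agent.Lib.Helper11.dihedralHom t (t * x) ht2 he h3) := by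
        rw [Nat.bijective_iff_injective_and_card]
        refine ⟨hinj, ?_⟩
        rw [hGcard, Nat.card_eq_fintype_card, DihedralGroup.card]
      obtain ⟨e3⟩ := Cfsg.Agent.Lib.Helper11.dihedral_three_equiv_perm
      exact ⟨(MulEquiv.ofBijective _ hbij).symm.trans e3⟩

end Cfsg.Agent.S4062
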