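import Cfsg.Statements.S4066
import Cfsg.Agent.Lib.Helper72.PClosure

set_option autoImplicit false
open Cfsg

namespace Cfsg.Agent.S4066

open Cfsg.Agent.Lib.Helper72

/-- Let G be a finite group in which the centralizer of every element meets each of its conjugates by elements outside its normalizer trivially. Then any two distinct Sylow p-subgroups of G, for any prime p, intersect trivially. -/
theorem result {G : Type*} [Group G] [Finite G] (hTI : ∀ x : G, Cfsg.IsTISubset (Subgroup.centralizer ({x} : Set G) : Set G))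
    {p : ℕ} [Fact p.Prime] (P Q : Sylow p G) (hPQ : P ≠ Q) : (P : Subgroup G) ⊓ (Q : Subgroup G) = ⊥ := by
  by_contra hne
  obtain ⟨⟨y, hy⟩, hy1⟩ := (Subgroup.ne_bot_iff_exists_ne_one).mp hne
  have hy1' : y ≠ 1 := fun h => hy1 (Subtype.ext h)
  obtain ⟨hyP, hyQ⟩ := Subgroup.mem_inf.mp hy
  -- a nontrivial central element of P
  have : Nontrivial (P : Subgroup G) := ⟨⟨⟨y, hyP⟩, 1, fun h => hy1' (congrArg Subtype.val h)⟩⟩
  have hcn := P.isPGroup'.center_nontrivial
  obtain ⟨⟨z', hz'⟩, hz'1⟩ := exists_ne (1 : Subgroup.center (P : Subgroup G))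
  set z : G := (z' : G) with hz
  have hz1 : z ≠ 1 := by
    intro h
    apply hz'1
    apply Subtype.ext
    apply Subtype.ext
    exact h
  have hzP : ∀ a ∈ (P : Subgroup G), a * z = z * a := by
    intro a ha
    have := (Subgroup.mem_center_iff.mp hz') ⟨a, ha⟩
    exact congrArg Subtype.val this
  have hPC : ∀ a ∈ (P : Subgroup G), a ∈ Subgroup.centralizer ({z} : Set G) := by
    intro a ha
    rw [Subgroup.mem_centralizer_singleton_iff]
    exact hzP a ha
  obtain ⟨g, hg⟩ := MulAction.exists_smul_eq G P Q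
  have hQmem : ∀ q : G, q ∈ (Q : Subgroup G) ↔ g⁻¹ * q * g ∈ (P : Subgroup G) := by
    intro q
    rw [← hg, Sylow.coe_subgroup_smul, Subgroup.mem_pointwise_smul_iff_inv_smul_mem]
    simp [MulAut.smul_def]
  -- g normalizes C(z)
  have hgN : g ∈ Subgroup.normalizer (Subgroup.centralizer ({z} : Set G) : Set G) := by
    by_contra hgn
    have h1 := hTI z g hgn (g⁻¹ * y * g) (hPC _ ((hQmem y).mp hyQ))
      (by
        have : g * (g⁻¹ * y * g) * g⁻¹ = y := by group
        rw [this]; exact hPC y hyP)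
    apply hy1'
    have : y = g * (g⁻¹ * y * g) * g⁻¹ := by group
    rw [this, h1]; group
  have hQC : ∀ q ∈ (Q : Subgroup G), q ∈ Subgroup.centralizer ({z} : Set G) := by
    intro q hq
    have h1 := hPC _ ((hQmem q).mp hq)
    have h2 := ((Subgroup.mem_set_normalizer_iff.mp hgN) (g⁻¹ * q * g)).mp h1
    have : g * (g⁻¹ * q * g) * g⁻¹ = q := by group
    rwa [this] at h2
  -- every h ∈ C(z) normalizes C(x), x ∈ P
  have hnorm : ∀ x ∈ (P : Subgroup G), ∀ h ∈ Subgroup.centralizer ({z} : Set G),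
      h ∈ Subgroup.normalizer (Subgroup.centralizer ({x} : Set G) : Set G) := by
    intro x hx h hh
    by_contra hhn
    have hzx : z ∈ Subgroup.centralizer ({x} : Set G) := by
      rw [Subgroup.mem_centralizer_singleton_iff]
      exact (hzP x hx).symm
    have h1 := hTI x h hhn z hzx
      (by
        rw [Subgroup.mem_centralizer_singleton_iff] at hh
        have : h * z * h⁻¹ = z := by rw [hh]; group
        rw [this]; exact hzx)
    exact hz1 h1
  -- P ≤ Q
  have hle : (P : Subgroup G) ≤ (Q : Subgroup G) := by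
    intro x hx
    set s : Set G := {v | ∃ q ∈ (Q : Subgroup G), v = q * x * q⁻¹} with hs
    have hsC : ∀ q ∈ (Q : Subgroup G), q * x * q⁻¹ ∈ Subgroup.centralizer ({x} : Set G) := by
      intro q hq
      have h1 := hnorm x hx q (hQC q hq)
      have hxx : x ∈ Subgroup.centralizer ({x} : Set G) := by
        rw [Subgroup.mem_centralizer_singleton_iff]
      exact ((Subgroup.mem_set_normalizer_iff.mp h1) x).mp hxx
    have hcomm : ∀ a ∈ s, ∀ b ∈ s, a * b = b * a := by
      rintro a ⟨q₁, hq₁, rfl⟩ b ⟨q₂, hq₂, rfl⟩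
      have h1 := hsC (q₁⁻¹ * q₂) (Subgroup.mul_mem _ (Subgroup.inv_mem _ hq₁) hq₂)
      rw [Subgroup.mem_centralizer_singleton_iff] at h1
      have e1 : q₁ * x * q₁⁻¹ * (q₂ * x * q₂⁻¹) = q₁ * (x * (q₁⁻¹ * q₂ * x * (q₁⁻¹ * q₂)⁻¹)) * q₁⁻¹ := by
        group
      have e2 : q₂ * x * q₂⁻¹ * (q₁ * x * q₁⁻¹) = q₁ * ((q₁⁻¹ * q₂ * x * (q₁⁻¹ * q₂)⁻¹) * x) * q₁⁻¹ := by
        group
      rw [e1, e2, h1]
    have hpel : ∀ a ∈ s, ∃ k : ℕ, a ^ p ^ k = 1 := by
      rintro a ⟨q, hq, rfl⟩
      obtain ⟨k, hk⟩ := P.isPGroup' ⟨x, hx⟩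
      refine ⟨k, ?_⟩
      have hk' : x ^ p ^ k = 1 := by
        have := congrArg Subtype.val hk
        simpa using this
      rw [conj_pow, hk']; group
    have hA : IsPGroup p (Subgroup.closure s) := isPGroup_closure_of_comm s hcomm hpel
    have hQN : (Q : Subgroup G) ≤ Subgroup.normalizer ((Subgroup.closure s : Subgroup G) : Set G) := by
      intro q' hq'
      apply Subgroup.normalizer_le_normalizer_closure
      rw [Subgroup.mem_set_normalizer_iff]
      intro v
      constructor
      · rintro ⟨q, hq, rfl⟩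
        exact ⟨q' * q, Subgroup.mul_mem _ hq' hq, by group⟩
      · rintro ⟨q, hq, hv⟩
        refine ⟨q'⁻¹ * q, Subgroup.mul_mem _ (Subgroup.inv_mem _ hq') hq, ?_⟩
        have : v = q'⁻¹ * (q' * v * q'⁻¹) * q' := by group
        rw [this, hv]; group
    have hsup : IsPGroup p ((Q : Subgroup G) ⊔ Subgroup.closure s : Subgroup G) :=
      IsPGroup.to_sup_of_normal_right' Q.isPGroup' hA hQN
    have hmax := Q.is_maximal' hsup le_sup_left
    have hxs : x ∈ Subgroup.closure s := by
      apply Subgroup.subset_closure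
      exact ⟨1, Subgroup.one_mem _, by group⟩
    have : x ∈ ((Q : Subgroup G) ⊔ Subgroup.closure s : Subgroup G) := Subgroup.mem_sup_right hxs
    rw [hmax] at this
    exact this
  apply hPQ
  have := P.is_maximal' Q.isPGroup' hle
  exact Sylow.ext this.symm

end Cfsg.Agent.S4066
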