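import Cfsg.Statements.S4067
import Cfsg.Agent.Lib.Helper75.AutOrbMain
import Cfsg.Agent.Lib.Helper75.AutOrbChar

set_option autoImplicit false
open Cfsg

namespace Cfsg.Agent.S4067

open Cfsg.Agent.Lib.Helper75.AutOrb
open scoped commutatorElement

/-- Let G be a finite non-abelian group and p the least prime dividing its order. Then the automorphism group of G has at most #G/p orbits on G. -/
theorem result {G : Type*} [Group G] [Finite G] (hna : ¬ IsMulCommutative G) :
    Nat.card (MulAction.orbitRel.Quotient (MulAut G) G) ≤ Nat.card G / (Nat.card G).minFac := by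
  classical
  have hnc : ∃ a b : G, a * b ≠ b * a := by
    by_contra h
    push Not at h
    exact hna ⟨⟨h⟩⟩
  obtain ⟨a, b, hab⟩ := hnc
  have hn1 : Nat.card G ≠ 1 := by
    intro h
    have : Subsingleton G := (Nat.card_eq_one_iff_unique.1 h).1
    exact hab (Subsingleton.elim _ _)
  have hp : (Nat.card G).minFac.Prime := Nat.minFac_prime hn1
  have hnpos : 0 < Nat.card G := Nat.card_pos
  have hmin : ∀ d : ℕ, d ∣ Nat.card G → d ≠ 1 → (Nat.card G).minFac ≤ d := by
    intro d hd h1
    have hd0 : d ≠ 0 := by
      rintro rfl
      rw [zero_dvd_iff] at hd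
      omega
    exact Nat.minFac_le_of_dvd (by omega) hd
  suffices hsuff : (Nat.card G).minFac * Nat.card (MulAction.orbitRel.Quotient (MulAut G) G) ≤
      Nat.card G by
    rw [Nat.le_div_iff_mul_le hp.pos, mul_comm]
    exact hsuff
  have hcne : commutator G ≠ ⊥ := by
    intro h
    apply hab
    have h1 : ⁅a, b⁆ ∈ commutator G := by
      rw [commutator_def]
      exact Subgroup.commutator_mem_commutator (Subgroup.mem_top a) (Subgroup.mem_top b)
    rw [h, Subgroup.mem_bot, commutatorElement_def] at h1
    calc a * b = (a * b * a⁻¹ * b⁻¹) * (b * a) := by group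
      _ = b * a := by rw [h1, one_mul]
  by_cases hc : Nat.card (commutator G) = (Nat.card G).minFac
  · -- class 2
    set p := (Nat.card G).minFac with hpdef
    haveI : Fact p.Prime := ⟨hp⟩
    obtain ⟨c₀', hc₀'⟩ : ∃ c : commutator G, c ≠ 1 := by
      have : Nontrivial (commutator G) := by
        rw [← Finite.one_lt_card_iff_nontrivial, hc]
        exact hp.one_lt
      exact exists_ne 1
    have htop : Subgroup.zpowers c₀' = ⊤ := zpowers_eq_top_of_prime_card hc hc₀'
    have hord' : orderOf c₀' = p := by
      rw [← Nat.card_zpowers, htop, Subgroup.card_top, hc]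
    have hord : orderOf (c₀' : G) = p := by rw [Subgroup.orderOf_coe, hord']
    have hcomm : ∀ g h : G, ∃ i : ℕ, ⁅g, h⁆ = (c₀' : G) ^ i := by
      intro g h
      have h1 : ⁅g, h⁆ ∈ commutator G := by
        rw [commutator_def]
        exact Subgroup.commutator_mem_commutator (Subgroup.mem_top g) (Subgroup.mem_top h)
      have h2 : (⟨⁅g, h⁆, h1⟩ : commutator G) ∈ Subgroup.zpowers c₀' := by rw [htop]; trivial
      obtain ⟨i, hi⟩ := (mem_powers_iff_mem_zpowers).2 h2
      refine ⟨i, ?_⟩
      have := congrArg Subtype.val hi
      simpa using this.symm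
    have hc₀ : (c₀' : G) ∈ Subgroup.center G := by
      let f : G →* MulAut (commutator G) := MulAut.conjNormal
      haveI : IsCyclic (commutator G) := isCyclic_of_prime_card hc
      have hcardAut : Nat.card (MulAut (commutator G)) = p - 1 := by
        rw [IsCyclic.card_mulAut, hc, Nat.totient_prime hp]
      have h1 : Nat.card f.range ∣ Nat.card G := Subgroup.card_range_dvd f
      have h2 : Nat.card f.range ∣ p - 1 := by
        rw [← hcardAut]; exact Subgroup.card_subgroup_dvd_card _
      have h3 : Nat.card f.range = 1 := by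
        by_contra hne
        have h4 := hmin _ h1 hne
        have h5 : Nat.card f.range ≤ p - 1 := Nat.le_of_dvd (by have := hp.two_le; omega) h2
        have := hp.two_le
        omega
      have h4 : f.range = ⊥ := Subgroup.card_eq_one.1 h3
      rw [Subgroup.mem_center_iff]
      intro g
      have h5 : f g ∈ f.range := ⟨g, rfl⟩
      rw [h4, Subgroup.mem_bot] at h5
      have h6 : f g c₀' = c₀' := by rw [h5]; rfl
      have h7 := congrArg Subtype.val h6
      rw [MulAut.conjNormal_apply] at h7
      calc g * (c₀' : G) = (g * (c₀' : G) * g⁻¹) * g := by group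
        _ = (c₀' : G) * g := by rw [h7]
    have hncen : ∃ x : G, x ∉ Subgroup.center G := by
      refine ⟨a, fun h => hab ?_⟩
      exact (Subgroup.mem_center_iff.1 h b).symm
    exact mul_card_autOrbits_le_of_class2 hp hmin (c₀' : G) hc₀ hord hcomm hncen
  · -- character degrees
    have h1 : Nat.card (commutator G) ≠ 1 := fun h => hcne (Subgroup.card_eq_one.1 h)
    have h2 := hmin _ (Subgroup.card_subgroup_dvd_card (commutator G)) h1
    have h3 : (Nat.card G).minFac + 1 ≤ Nat.card (commutator G) := by omega
    exact (Nat.mul_le_mul_left _ card_autOrbits_le_card_conjClasses).trans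
      (mul_card_conjClasses_le _ hp.pos hmin h3)

end Cfsg.Agent.S4067
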