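import Cfsg.Statements.S4068
import Cfsg.Agent.S0183
import Cfsg.Agent.S2202
import Cfsg.Agent.Lib.Helper24.Singer
import Cfsg.Agent.Lib.Helper72.A4ODefs
import Cfsg.Agent.Lib.Helper96.A4OL1a
import Cfsg.Agent.Lib.Helper33.A4OL1b
import Cfsg.Agent.Lib.Helper54.A4OL2
import Cfsg.Agent.Lib.Helper26.A4OL3
import Cfsg.Agent.Lib.Helper23.A4OL5
import Cfsg.Agent.Lib.Helper85.A4OL6
import Cfsg.Agent.Lib.Helper27.A4OL7
import Cfsg.Agent.Lib.Helper77.A4OL8a
import Cfsg.Agent.Lib.Helper69.A4OL8b
import Cfsg.Agent.Lib.Helper46.A4OL8d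
import Cfsg.Agent.Lib.Helper45.A4OL8f
import Cfsg.Agent.Lib.Helper18.A4OL8g

/-!
S4068 (pack K-A4O, architect helper72): a nonsolvable finite group on which `Aut(G)` has exactly four
orbits is `A₅`. Leaves by helper96, helper33, helper54, helper26, helper23, helper85, helper27, helper77,
helper69, helper46, helper45, helper18; uses S0183 (CN-groups of odd order), S2202 (abelian involution
centralizers) and helper24's Singer element.
-/

set_option autoImplicit false
open Cfsg

namespace Cfsg.Agent.S4068

open Cfsg.Agent.Lib.Helper72.A4O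
open Cfsg.Agent.Lib.Helper96.A4O (three_le_primeFactors)
open Cfsg.Agent.Lib.Helper33.A4O (epo_of_four_orbits)
open Cfsg.Agent.Lib.Helper54.A4O (isPGroup_centralizer_of_epo)
open Cfsg.Agent.Lib.Helper26.A4O (epo_subgroup epo_quotient epo_of_equiv)
open Cfsg.Agent.Lib.Helper23.A4O (comm_centralizer_involution)
open Cfsg.Agent.Lib.Helper85.A4O (solvable_of_cyclic_sylow2)
open Cfsg.Agent.Lib.Helper27.A4O (odd_card_quotient_sylow solvable_of_normal_sylow2)
open Cfsg.Agent.Lib.Helper77.A4O (eq_one_of_epo_prod)
open Cfsg.Agent.Lib.Helper69.A4O (exists_orderOf_card_sub_one)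
open Cfsg.Agent.Lib.Helper46.A4O (two_or_four card_eq_two_pow)
open Cfsg.Agent.Lib.Helper45.A4O (solvable_sl2_two)
open Cfsg.Agent.Lib.Helper18.A4O (sl2_four_equiv_a5)

universe u

/-- An EPO group of odd order is solvable (CN-theorem for odd order, S0183). -/
theorem solvable_of_epo_odd {G : Type u} [Group G] [Finite G] (hep : EPO G)
    (hodd : Odd (Nat.card G)) : Group.IsSolvable G := by
  apply Cfsg.Agent.S0183.result hodd
  intro g hg
  have hp : (orderOf g).Prime := hep g hg
  haveI : Fact (orderOf g).Prime := ⟨hp⟩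
  exact (isPGroup_centralizer_of_epo hep g hg).isNilpotent

/-- The `SL₂(F) × A` case. -/
theorem sl2_case {G : Type u} [Group G] [Finite G] (hep : EPO G) (hns : ¬ Group.IsSolvable G)
    {F : Type} [Field F] [Fintype F] {A : Type} [CommGroup A] [Finite A] (hchar : CharP F 2)
    (hA : Odd (Nat.card A)) (e : G ≃* Matrix.SpecialLinearGroup (Fin 2) F × A) :
    Nonempty (G ≃* alternatingGroup (Fin 5)) := by
  have hep' : EPO (Matrix.SpecialLinearGroup (Fin 2) F × A) := epo_of_equiv hep e
  have hA1 : ∀ a : A, a = 1 := fun a => eq_one_of_epo_prod hA hep' a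
  -- G ≃* SL₂(F)
  let e1 : Matrix.SpecialLinearGroup (Fin 2) F × A ≃* Matrix.SpecialLinearGroup (Fin 2) F :=
    { toFun := fun x => x.1
      invFun := fun x => (x, 1)
      left_inv := fun x => by
        apply Prod.ext
        · rfl
        · exact (hA1 x.2).symm
      right_inv := fun x => rfl
      map_mul' := fun x y => rfl }
  let e2 : G ≃* Matrix.SpecialLinearGroup (Fin 2) F := e.trans e1
  have hepS : EPO (Matrix.SpecialLinearGroup (Fin 2) F) := epo_of_equiv hep e2
  -- q - 1 is 1 or prime
  set q := Fintype.card F with hq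
  have hq2 : 2 ≤ q := Fintype.one_lt_card
  have h1 : q - 1 = 1 ∨ (q - 1).Prime := by
    obtain ⟨g, hg⟩ := exists_orderOf_card_sub_one (F := F)
    by_cases hg1 : g = 1
    · left
      rw [← hg, hg1, orderOf_one]
    · right
      rw [← hg]
      exact hepS g hg1
  have h2 : (q + 1).Prime := by
    obtain ⟨g, hg⟩ := Cfsg.Agent.Lib.Helper24.exists_SL2_orderOf_singer (K := F)
    have hg1 : g ≠ 1 := by
      intro h
      rw [h, orderOf_one] at hg
      omega
    rw [← hg]
    exact hepS g hg1
  obtain ⟨n, hn, hqn⟩ := card_eq_two_pow (F := F)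
  rcases two_or_four q n hn hqn h1 h2 with h | h
  · exfalso
    apply hns
    have hs : Group.IsSolvable (Matrix.SpecialLinearGroup (Fin 2) F) := solvable_sl2_two (F := F) h
    exact Group.isSolvable_of_isSolvable_injective (f := e2.toMonoidHom) e2.injective
  · obtain ⟨e3⟩ := sl2_four_equiv_a5 (F := F) h
    exact ⟨e2.trans e3⟩

/-- A finite non-solvable group on which its automorphism group has exactly four orbits is isomorphic to the alternating group of degree 5. -/
theorem result {G : Type*} [Group G] [Finite G] (hns : ¬ Group.IsSolvable G)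
    (h4 : Nat.card (MulAction.orbitRel.Quotient (MulAut G) G) = 4) : Nonempty (G ≃* alternatingGroup (Fin 5)) := by
  have hep : EPO G := epo_of_four_orbits (three_le_primeFactors hns) h4
  have heven : Even (Nat.card G) := by
    by_contra hodd
    exact hns (solvable_of_epo_odd hep (Nat.not_even_iff_odd.mp hodd))
  have hcomm : ∀ t : G, orderOf t = 2 → IsMulCommutative ↥(Subgroup.centralizer ({t} : Set G)) :=
    fun t ht => comm_centralizer_involution hep t ht
  rcases Cfsg.Agent.S2202.result heven hcomm with hcyc | hnorm | ⟨F, _, _, A, _, _, hchar, hA, ⟨e⟩⟩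
  · exfalso
    apply hns
    apply solvable_of_cyclic_sylow2 hep heven hcyc
    intro K hK
    exact solvable_of_epo_odd (epo_subgroup hep K) hK
  · exfalso
    apply hns
    obtain ⟨P⟩ : Nonempty (Sylow 2 G) := inferInstance
    haveI : (P : Subgroup G).Normal := hnorm P
    apply solvable_of_normal_sylow2 P
    exact solvable_of_epo_odd (epo_quotient hep (P : Subgroup G)) (odd_card_quotient_sylow P)
  · exact sl2_case hep hns hchar hA e

end Cfsg.Agent.S4068
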