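import Cfsg.Statements.S4072
import Cfsg.Agent.Lib.Helper72.MinNonabelian
import Cfsg.Agent.Lib.Helper12.SmallSimple
import Cfsg.Agent.S4032

set_option autoImplicit false
open Cfsg

namespace Cfsg.Agent.S4072

open Cfsg.Agent.Lib.Helper72
open scoped commutatorElement

universe u

/-- every non-commutative subgroup is self-normalizing -/
def SN (G : Type*) [Group G] : Prop :=
  ∀ H : Subgroup G, ¬ IsMulCommutative H → Subgroup.normalizer (H : Set G) = H

theorem isMulCommutative_iff {G : Type*} [Group G] (H : Subgroup G) :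
    IsMulCommutative H ↔ ∀ a ∈ H, ∀ b ∈ H, a * b = b * a := by
  constructor
  · intro h a ha b hb
    exact congrArg Subtype.val (h.is_comm.comm (⟨a, ha⟩ : H) ⟨b, hb⟩)
  · intro h
    exact ⟨⟨fun a b => Subtype.ext (h a a.2 b b.2)⟩⟩

/-- proper normal subgroups are commutative -/
theorem comm_of_normal {G : Type*} [Group G] (hS : SN G) (N : Subgroup G) [hN : N.Normal]
    (hNt : N ≠ ⊤) : IsMulCommutative N := by
  by_contra h
  have h1 := hS N h
  apply hNt
  rw [← h1]
  exact Subgroup.normalizer_eq_top N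

/-- self-normalizing passes to the quotient -/
theorem normalizer_quot {G : Type*} [Group G] (N : Subgroup G) [N.Normal]
    (K : Subgroup (G ⧸ N))
    (h : Subgroup.normalizer ((K.comap (QuotientGroup.mk' N) : Subgroup G) : Set G) =
      K.comap (QuotientGroup.mk' N)) :
    Subgroup.normalizer (K : Set (G ⧸ N)) = K := by
  apply le_antisymm _ Subgroup.le_normalizer
  intro xbar hx
  obtain ⟨x, rfl⟩ := QuotientGroup.mk_surjective xbar
  have h1 : x ∈ (Subgroup.normalizer (K : Set (G ⧸ N))).comap (QuotientGroup.mk' N) := hx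
  have h2 := Subgroup.le_normalizer_comap (QuotientGroup.mk' N) h1
  rw [h] at h2
  exact h2

theorem comap_not_comm {G : Type*} [Group G] (N : Subgroup G) [N.Normal]
    (K : Subgroup (G ⧸ N)) (hK : ¬ IsMulCommutative K) :
    ¬ IsMulCommutative (K.comap (QuotientGroup.mk' N) : Subgroup G) := by
  intro h
  apply hK
  rw [isMulCommutative_iff] at h ⊢
  intro a ha b hb
  obtain ⟨a', rfl⟩ := QuotientGroup.mk_surjective a
  obtain ⟨b', rfl⟩ := QuotientGroup.mk_surjective b
  rw [← QuotientGroup.mk_mul, ← QuotientGroup.mk_mul, h a' ha b' hb]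

theorem sn_quot {G : Type*} [Group G] (hS : SN G) (N : Subgroup G) [N.Normal] : SN (G ⧸ N) := by
  intro K hK
  exact normalizer_quot N K (hS _ (comap_not_comm N K hK))

/-- case 1: `N` not central -/
theorem key1 {G : Type u} [Group G] [Finite G] (hS : SN G) (N : Subgroup G) [hN : N.Normal]
    (hNc : ∀ a ∈ N, ∀ b ∈ N, a * b = b * a) (hQs : IsSimpleGroup (G ⧸ N))
    (hQc : ¬ IsMulCommutative (G ⧸ N)) (hcen : ¬ N ≤ Subgroup.center G) : False := by
  set C := Subgroup.centralizer (N : Set G) with hC
  have hCn : C.Normal := inferInstance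
  have hNC : N ≤ C := by
    intro a ha
    rw [hC, Subgroup.mem_centralizer_iff]
    intro b hb
    exact hNc b hb a ha
  have hCmap : C.map (QuotientGroup.mk' N) = ⊥ := by
    have hn : (C.map (QuotientGroup.mk' N)).Normal :=
      Subgroup.Normal.map hCn _ (QuotientGroup.mk'_surjective N)
    rcases hn.eq_bot_or_eq_top with h | h
    · exact h
    · exfalso
      apply hcen
      have hCtop : C = ⊤ := by
        have h1 := Subgroup.comap_map_eq (QuotientGroup.mk' N) C
        rw [h, Subgroup.comap_top, QuotientGroup.ker_mk', sup_of_le_left hNC] at h1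
        exact h1.symm
      intro a ha
      rw [Subgroup.mem_center_iff]
      intro g
      have hg : g ∈ C := hCtop ▸ Subgroup.mem_top g
      rw [hC, Subgroup.mem_centralizer_iff] at hg
      exact (hg a ha).symm
  have hCN : C ≤ N := by
    intro c hc
    have : QuotientGroup.mk' N c ∈ C.map (QuotientGroup.mk' N) := ⟨c, hc, rfl⟩
    rw [hCmap, Subgroup.mem_bot] at this
    exact (QuotientGroup.eq_one_iff c).mp this
  have hself : ∀ K : Subgroup (G ⧸ N), K ≠ ⊥ → Subgroup.normalizer (K : Set (G ⧸ N)) = K := by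
    intro K hK
    apply normalizer_quot
    apply hS
    intro hcomm
    rw [isMulCommutative_iff] at hcomm
    apply hK
    rw [eq_bot_iff]
    intro k hk
    obtain ⟨k', rfl⟩ := QuotientGroup.mk_surjective k
    have hk' : k' ∈ K.comap (QuotientGroup.mk' N) := hk
    have hNK : N ≤ K.comap (QuotientGroup.mk' N) := by
      intro a ha
      rw [Subgroup.mem_comap, QuotientGroup.mk'_apply, (QuotientGroup.eq_one_iff a).mpr ha]
      exact K.one_mem
    have hkC : k' ∈ C := by
      rw [hC, Subgroup.mem_centralizer_iff]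
      intro a ha
      exact hcomm a (hNK ha) k' hk'
    rw [Subgroup.mem_bot]
    exact (QuotientGroup.eq_one_iff k').mpr (hCN hkC)
  have hnt : Nontrivial (G ⧸ N) := IsSimpleGroup.toNontrivial
  obtain ⟨p, hp, hpd⟩ := Nat.exists_prime_and_dvd (Finite.one_lt_card (α := G ⧸ N)).ne'
  have : Fact p.Prime := ⟨hp⟩
  let P : Sylow p (G ⧸ N) := default
  have hPnt : Nontrivial (P : Subgroup (G ⧸ N)) := by
    rw [← Finite.one_lt_card_iff_nontrivial, P.card_eq_multiplicity]
    have h1 : 1 ≤ (Nat.card (G ⧸ N)).factorization p :=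
      (hp.dvd_iff_one_le_factorization Nat.card_pos.ne').mp hpd
    calc 1 < p := hp.one_lt
      _ = p ^ 1 := (pow_one p).symm
      _ ≤ p ^ (Nat.card (G ⧸ N)).factorization p := Nat.pow_le_pow_right hp.pos h1
  have hPne : (P : Subgroup (G ⧸ N)) ≠ ⊥ := by
    intro h
    exact (Subgroup.nontrivial_iff_ne_bot _).mp hPnt h
  have hNP := hself P hPne
  have hZnt : Nontrivial (Subgroup.center (P : Subgroup (G ⧸ N))) := P.isPGroup'.center_nontrivial
  obtain ⟨⟨z, hz⟩, hz1⟩ := exists_ne (1 : Subgroup.center (P : Subgroup (G ⧸ N)))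
  have hz1' : (z : G ⧸ N) ≠ 1 := by
    intro h
    apply hz1
    apply Subtype.ext
    apply Subtype.ext
    exact h
  have hKne : Subgroup.zpowers (z : G ⧸ N) ≠ ⊥ := by
    intro h
    rw [Subgroup.zpowers_eq_bot] at h
    exact hz1' h
  have hNK := hself _ hKne
  have hPle : (P : Subgroup (G ⧸ N)) ≤ Subgroup.zpowers (z : G ⧸ N) := by
    intro g hg
    rw [← hNK]
    apply Cfsg.Agent.S4032.mem_normalizer_zpowers_of_conj_mem
    have hcomm := Subgroup.mem_center_iff.mp hz ⟨g, hg⟩
    have hcomm' : g * (z : G ⧸ N) = (z : G ⧸ N) * g := congrArg Subtype.val hcomm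
    rw [hcomm', mul_inv_cancel_right]
    exact Subgroup.mem_zpowers _
  have hPc : ∀ a ∈ (P : Subgroup (G ⧸ N)), ∀ b ∈ (P : Subgroup (G ⧸ N)), a * b = b * a := by
    intro a ha b hb
    obtain ⟨i, rfl⟩ := Subgroup.mem_zpowers_iff.mp (hPle ha)
    obtain ⟨j, rfl⟩ := Subgroup.mem_zpowers_iff.mp (hPle hb)
    rw [← zpow_add, ← zpow_add, add_comm]
  refine Cfsg.Agent.Lib.Helper12.false_of_normalizer_le_centralizer hQc p P ?_ hPne
  intro a ha
  have ha' : a ∈ Subgroup.normalizer ((P : Subgroup (G ⧸ N)) : Set (G ⧸ N)) := ha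
  rw [hNP] at ha'
  rw [Subgroup.mem_centralizer_iff]
  intro b hb
  exact hPc b hb a ha'

/-- case 2: `N` central -/
theorem key2 {G : Type u} [Group G] [Finite G] (hS : SN G) (N : Subgroup G) [hN : N.Normal]
    (hNb : N ≠ ⊥) (hNc : ∀ a ∈ N, ∀ b ∈ N, a * b = b * a) (hQs : IsSimpleGroup (G ⧸ N))
    (hQc : ¬ IsMulCommutative (G ⧸ N)) (hperf : commutator G = ⊤)
    (hcen : N ≤ Subgroup.center G) : False := by
  have hNcard : Nat.card N ≠ 1 := fun h => hNb (Subgroup.card_eq_one.mp h)
  obtain ⟨p, hp, hpd⟩ := Nat.exists_prime_and_dvd hNcard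
  have : Fact p.Prime := ⟨hp⟩
  obtain ⟨⟨z, hzN⟩, hz⟩ := exists_prime_orderOf_dvd_card' p hpd
  have hzo : orderOf z = p := by rw [← hz]; exact (Subgroup.orderOf_mk z hzN).symm
  have hzc : z ∈ Subgroup.center G := hcen hzN
  let P : Sylow p G := default
  have hzP : z ∈ (P : Subgroup G) := by
    have hn : (Subgroup.zpowers z).Normal := by
      constructor
      intro n hn g
      have hnc : n ∈ Subgroup.center G := (Subgroup.zpowers_le.mpr hzc) hn
      rw [Subgroup.mem_center_iff] at hnc
      rw [hnc g, mul_inv_cancel_right]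
      exact hn
    have hpz : IsPGroup p (Subgroup.zpowers z) :=
      IsPGroup.of_card (n := 1) (by rw [Nat.card_zpowers, hzo, pow_one])
    exact hpz.le_sylow_of_normal P (Subgroup.mem_zpowers z)
  -- transfer
  let φ : (P : Subgroup G) →* Abelianization (P : Subgroup G) := Abelianization.of
  have htriv : ∀ g : G, MonoidHom.transfer φ g = 1 := by
    intro g
    have hk : commutator G ≤ (MonoidHom.transfer φ).ker := Abelianization.commutator_subset_ker _
    have : g ∈ (MonoidHom.transfer φ).ker := hk (hperf ▸ Subgroup.mem_top g)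
    exact this
  have key : ∀ (k : ℕ) (g₀ : G), g₀⁻¹ * z ^ k * g₀ ∈ (P : Subgroup G) →
      g₀⁻¹ * z ^ k * g₀ = z ^ k := by
    intro k g₀ _
    have hzk : z ^ k ∈ Subgroup.center G := Subgroup.pow_mem _ hzc k
    rw [Subgroup.mem_center_iff] at hzk
    rw [mul_assoc, ← hzk g₀, inv_mul_cancel_left]
  have h1 := MonoidHom.transfer_eq_pow φ z key
  rw [htriv] at h1
  have h2 : (⟨z ^ (P : Subgroup G).index, MonoidHom.transfer_eq_pow_aux z key⟩ :
      (P : Subgroup G)) ∈ commutator (P : Subgroup G) := by
    rw [← Abelianization.ker_of]; exact h1.symm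
  have hzP' : (⟨z, hzP⟩ : (P : Subgroup G)) ∈ commutator (P : Subgroup G) := by
    have hcop : ((P : Subgroup G).index).Coprime (orderOf z) := by
      rw [hzo]
      exact (Nat.Coprime.symm ((Nat.Prime.coprime_iff_not_dvd hp).mpr P.not_dvd_index))
    obtain ⟨m, hm⟩ := exists_pow_eq_self_of_coprime hcop
    have : (⟨z, hzP⟩ : (P : Subgroup G)) =
        (⟨z ^ (P : Subgroup G).index, MonoidHom.transfer_eq_pow_aux z key⟩ :
          (P : Subgroup G)) ^ m := Subtype.ext (by simp [hm])
    rw [this]; exact Subgroup.pow_mem _ h2 m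
  have hz1 : (⟨z, hzP⟩ : (P : Subgroup G)) ≠ 1 := by
    intro h
    have : z = 1 := congrArg Subtype.val h
    rw [this, orderOf_one] at hzo
    exact hp.one_lt.ne hzo
  -- noncommuting pair in P
  have hex : ∃ x y : (P : Subgroup G), x * y ≠ y * x := by
    by_contra hcon
    push Not at hcon
    apply hz1
    have hle : commutator (P : Subgroup G) ≤ ⊥ := by
      rw [commutator_eq_closure, Subgroup.closure_le]
      rintro _ ⟨a, b, rfl⟩
      rw [SetLike.mem_coe, Subgroup.mem_bot, commutatorElement_eq_one_iff_commute]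
      exact hcon a b
    exact (Subgroup.mem_bot.mp (hle hzP'))
  obtain ⟨x, y, hxy⟩ := hex
  -- proper subgroups of P are commutative
  have hmin : ∀ H : Subgroup (P : Subgroup G), H ≠ ⊤ → ∀ a ∈ H, ∀ b ∈ H, a * b = b * a := by
    intro H hH
    by_contra hcon
    set H' := H.map (P : Subgroup G).subtype with hH'
    have hnc : ¬ IsMulCommutative H' := by
      rw [isMulCommutative_iff]
      intro h
      apply hcon
      intro a ha b hb
      exact Subtype.ext (h a ⟨a, ha, rfl⟩ b ⟨b, hb, rfl⟩)
    have hN' := hS H' hnc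
    have hnil : Group.IsNilpotent (P : Subgroup G) := P.isPGroup'.isNilpotent
    have hlt := Group.normalizerCondition_of_isNilpotent H (lt_top_iff_ne_top.mpr hH)
    obtain ⟨g, hgN, hgH⟩ := SetLike.exists_of_lt hlt
    have hg : (g : G) ∈ Subgroup.normalizer (H' : Set G) :=
      Subgroup.le_normalizer_map _ ⟨g, hgN, rfl⟩
    rw [hN'] at hg
    obtain ⟨g', hg', hgg'⟩ := hg
    have : g' = g := Subtype.ext hgg'
    exact hgH (this ▸ hg')
  obtain ⟨hord, -, hall⟩ := minNonabelian_commutator P.isPGroup' hmin x y hxy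
  have hcomle : commutator (P : Subgroup G) ≤ Subgroup.zpowers ⁅x, y⁆ := by
    rw [commutator_eq_closure, Subgroup.closure_le]
    rintro _ ⟨a, b, rfl⟩
    exact hall a b
  have hzeq : Subgroup.zpowers (⟨z, hzP⟩ : (P : Subgroup G)) = Subgroup.zpowers ⁅x, y⁆ := by
    apply Subgroup.eq_of_le_of_card_ge
    · rw [Subgroup.zpowers_le]; exact hcomle hzP'
    · rw [Nat.card_zpowers, Nat.card_zpowers, hord, Subgroup.orderOf_mk, hzo]
  have hcomN : ∀ a b : (P : Subgroup G), ((⁅a, b⁆ : (P : Subgroup G)) : G) ∈ N := by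
    intro a b
    have h3 := hall a b
    rw [← hzeq] at h3
    obtain ⟨k, hk⟩ := Subgroup.mem_zpowers_iff.mp h3
    rw [← hk]
    simp only [Subgroup.coe_zpow]
    exact N.zpow_mem hzN k
  -- the image of P in the quotient
  let Pbar : Sylow p (G ⧸ N) := P.mapSurjective (QuotientGroup.mk'_surjective N)
  have hPbar : (Pbar : Subgroup (G ⧸ N)) = (P : Subgroup G).map (QuotientGroup.mk' N) :=
    Sylow.coe_mapSurjective _ P
  have hPc : ∀ a ∈ (Pbar : Subgroup (G ⧸ N)), ∀ b ∈ (Pbar : Subgroup (G ⧸ N)),
      a * b = b * a := by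
    intro a ha b hb
    rw [hPbar] at ha hb
    obtain ⟨a', ha', rfl⟩ := ha
    obtain ⟨b', hb', rfl⟩ := hb
    have h4 := hcomN ⟨a', ha'⟩ ⟨b', hb'⟩
    have h5 : a' * b' = ((⁅(⟨a', ha'⟩ : (P : Subgroup G)), ⟨b', hb'⟩⁆ : (P : Subgroup G)) : G) *
        (b' * a') := by
      simp only [commutatorElement_def, Subgroup.coe_mul, Subgroup.coe_inv]
      group
    rw [← map_mul, ← map_mul, h5, map_mul, QuotientGroup.mk'_apply,
      (QuotientGroup.eq_one_iff _).mpr h4, one_mul]
  have hPne : (Pbar : Subgroup (G ⧸ N)) ≠ ⊥ := by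
    intro h
    rw [hPbar, ← le_bot_iff, Subgroup.map_le_iff_le_comap, MonoidHom.comap_bot,
      QuotientGroup.ker_mk'] at h
    apply hxy
    exact Subtype.ext (hNc _ (h x.2) _ (h y.2))
  have hncK : ¬ IsMulCommutative
      ((Pbar : Subgroup (G ⧸ N)).comap (QuotientGroup.mk' N) : Subgroup G) := by
    rw [isMulCommutative_iff]
    intro h
    have hle : (P : Subgroup G) ≤ (Pbar : Subgroup (G ⧸ N)).comap (QuotientGroup.mk' N) := by
      rw [hPbar]; exact Subgroup.le_comap_map _ _
    apply hxy
    exact Subtype.ext (h _ (hle x.2) _ (hle y.2))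
  have hNP := normalizer_quot N (Pbar : Subgroup (G ⧸ N)) (hS _ hncK)
  refine Cfsg.Agent.Lib.Helper12.false_of_normalizer_le_centralizer hQc p Pbar ?_ hPne
  intro a ha
  have ha' : a ∈ Subgroup.normalizer ((Pbar : Subgroup (G ⧸ N)) : Set (G ⧸ N)) := ha
  rw [hNP] at ha'
  rw [Subgroup.mem_centralizer_iff]
  intro b hb
  exact hPc b hb a ha'

theorem aux : ∀ (n : ℕ) (G : Type u) [Group G] [Finite G], Nat.card G = n → SN G →
    Group.IsSolvable G ∨ IsSimpleGroup G := by
  intro n
  induction n using Nat.strong_induction_on with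
  | _ n ih =>
    intro G _ _ hn hS
    by_cases hsimple : ∃ N : Subgroup G, N.Normal ∧ N ≠ ⊥ ∧ N ≠ ⊤
    · left
      obtain ⟨N, hN, hbot, htop⟩ := hsimple
      have hNc := comm_of_normal hS N htop
      have hNc' := (isMulCommutative_iff N).mp hNc
      have hNs : Group.IsSolvable N :=
        Group.isSolvable_of_comm (fun a b => Subtype.ext (hNc' a a.2 b b.2))
      have hcardQ : Nat.card (G ⧸ N) < n := by
        rw [← hn, ← Subgroup.index_eq_card, ← Subgroup.index_mul_card N]
        have h1 : 1 < Nat.card N := (Subgroup.one_lt_card_iff_ne_bot N).2 hbot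
        have h2 : 0 < N.index := Nat.pos_of_ne_zero Subgroup.index_ne_zero_of_finite
        exact lt_mul_of_one_lt_right h2 h1
      have hGs : Group.IsSolvable (G ⧸ N) → Group.IsSolvable G := by
        intro hQ
        exact Group.isSolvable_of_ker_le_range N.subtype (QuotientGroup.mk' N)
          (by rw [QuotientGroup.ker_mk', Subgroup.range_subtype])
      rcases ih _ hcardQ (G ⧸ N) rfl (sn_quot hS N) with hQ | hQ
      · exact hGs hQ
      · by_cases hQc : IsMulCommutative (G ⧸ N)
        · exact hGs (Group.isSolvable_of_comm (fun a b => hQc.is_comm.comm a b))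
        · by_cases hperf : commutator G = ⊤
          · by_cases hcen : N ≤ Subgroup.center G
            · exact (key2 hS N hbot hNc' hQ hQc hperf hcen).elim
            · exact (key1 hS N hNc' hQ hQc hcen).elim
          · have hc := comm_of_normal hS (commutator G) hperf
            have hc' := (isMulCommutative_iff _).mp hc
            have h1 : Group.IsSolvable (commutator G) :=
              Group.isSolvable_of_comm (fun a b => Subtype.ext (hc' a a.2 b b.2))
            have h2 : Group.IsSolvable (Abelianization G) :=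
              Group.isSolvable_of_comm (fun a b => mul_comm a b)
            exact Group.isSolvable_of_ker_le_range (commutator G).subtype Abelianization.of
              (by rw [Abelianization.ker_of, Subgroup.range_subtype])
    · by_cases htriv : Subsingleton G
      · left
        exact Group.isSolvable_of_comm (fun a b => Subsingleton.elim _ _)
      · right
        rw [not_subsingleton_iff_nontrivial] at htriv
        refine ⟨fun N hN => ?_⟩
        by_contra hcon
        rw [not_or] at hcon
        exact hsimple ⟨N, hN, hcon.1, hcon.2⟩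


/-- A finite group in which every non-abelian subgroup is self-normalizing is solvable or simple. -/
theorem result {G : Type*} [Group G] [Finite G] (hS : ∀ H : Subgroup G, ¬ IsMulCommutative H → Subgroup.normalizer (H : Set G) = H) :
    Group.IsSolvable G ∨ IsSimpleGroup G := by
  exact aux (Nat.card G) G rfl hS

end Cfsg.Agent.S4072
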