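import Cfsg.Statements.S4071
import Cfsg.Agent.S4072
import Cfsg.Agent.S0055
import Cfsg.Agent.Lib.Helper01.Basic
import Cfsg.Agent.Lib.Helper12.Schmidt

set_option autoImplicit false
open Cfsg

namespace Cfsg.Agent.S4071


open Cfsg.Agent.S4072 Cfsg.Agent.Lib.Helper01
open scoped commutatorElement

universe u

section backward

variable {G : Type u} [Group G] [Finite G] (x : G) (A : Subgroup G) (p : ℕ)

/-- the structure side implies self-normalizing of non-commutative subgroups -/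
theorem backward (hp : p.Prime) [hAn : A.Normal] (hAc : ∀ a ∈ A, ∀ b ∈ A, a * b = b * a)
    (hxo : ∃ k : ℕ, orderOf x = p ^ k) (hc : (Subgroup.zpowers x).IsComplement' A)
    (hxp : x ^ p ∈ Subgroup.center G) (hfpf : ∀ a : G, a ∈ A → a ≠ 1 → x * a * x⁻¹ ≠ a) :
    SN G := by
  have : Fact p.Prime := ⟨hp⟩
  obtain ⟨k, hk⟩ := hxo
  -- every element is x^i * a
  have hdec : ∀ g : G, ∃ i : ℤ, ∃ a ∈ A, g = x ^ i * a := by
    intro g
    obtain ⟨⟨⟨u, hu⟩, ⟨a, ha⟩⟩, hua⟩ := hc.surjective g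
    obtain ⟨i, rfl⟩ := Subgroup.mem_zpowers_iff.mp hu
    exact ⟨i, a, ha, hua.symm⟩
  intro H hH
  apply le_antisymm _ Subgroup.le_normalizer
  -- Claim 1: H contains an element of the coset x A
  have hcl1 : ∃ h ∈ H, ∃ a₀ ∈ A, h = x * a₀ := by
    by_contra hcon
    push Not at hcon
    apply hH
    rw [Cfsg.Agent.S4072.isMulCommutative_iff]
    -- every element of H is (x^p)^j * a
    have hform : ∀ h ∈ H, ∃ j : ℤ, ∃ a ∈ A, h = (x ^ p) ^ j * a := by
      intro h hh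
      obtain ⟨i, a, ha, hia⟩ := hdec h
      by_cases hpi : (p : ℤ) ∣ i
      · obtain ⟨j, rfl⟩ := hpi
        exact ⟨j, a, ha, by rw [hia, zpow_mul, zpow_natCast]⟩
      · exfalso
        -- x is a power of x^i
        have hcop : IsCoprime i ((p ^ k : ℕ) : ℤ) := by
          have h1 : IsCoprime i (p : ℤ) :=
            ((Nat.prime_iff_prime_int.mp hp).coprime_iff_not_dvd.mpr hpi).symm
          push_cast
          exact h1.pow_right
        obtain ⟨s, t, hst⟩ := hcop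
        have hxt : x ^ ((p ^ k : ℕ) : ℤ) = 1 := by rw [zpow_natCast, ← hk, pow_orderOf_eq_one]
        have hx1 : (x ^ i) ^ s = x := by
          have h1 : x ^ (s * i + t * ((p ^ k : ℕ) : ℤ)) = x := by rw [hst, zpow_one]
          have h2 : (x ^ t) ^ ((p ^ k : ℕ) : ℤ) = 1 := by
            rw [← zpow_mul, mul_comm, zpow_mul, hxt, one_zpow]
          rw [zpow_add, zpow_mul, zpow_mul, h2, mul_one, ← zpow_mul, mul_comm s i, zpow_mul] at h1
          exact h1
        -- h^s ∈ H lies in x A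
        have hmk : (QuotientGroup.mk (h ^ s) : G ⧸ A) = QuotientGroup.mk x := by
          rw [QuotientGroup.mk_zpow, hia, QuotientGroup.mk_mul, (QuotientGroup.eq_one_iff a).mpr ha,
            mul_one, ← QuotientGroup.mk_zpow, hx1]
        have hmem : x⁻¹ * h ^ s ∈ A := by
          rw [← QuotientGroup.eq_one_iff, QuotientGroup.mk_mul, hmk, QuotientGroup.mk_inv,
            inv_mul_cancel]
        exact hcon (h ^ s) (H.zpow_mem hh s) (x⁻¹ * h ^ s) hmem (by group)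
    intro h₁ hh₁ h₂ hh₂
    obtain ⟨j₁, a₁, ha₁, rfl⟩ := hform h₁ hh₁
    obtain ⟨j₂, a₂, ha₂, rfl⟩ := hform h₂ hh₂
    have hz : ∀ j : ℤ, ∀ g : G, g * (x ^ p) ^ j = (x ^ p) ^ j * g := by
      intro j g
      have := Subgroup.zpow_mem _ hxp j
      exact Subgroup.mem_center_iff.mp this g
    calc (x ^ p) ^ j₁ * a₁ * ((x ^ p) ^ j₂ * a₂)
        = (x ^ p) ^ j₁ * (a₁ * (x ^ p) ^ j₂) * a₂ := by group
      _ = (x ^ p) ^ j₁ * ((x ^ p) ^ j₂ * a₁) * a₂ := by rw [hz j₂ a₁]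
      _ = (x ^ p) ^ j₁ * (x ^ p) ^ j₂ * (a₁ * a₂) := by group
      _ = (x ^ p) ^ j₂ * (x ^ p) ^ j₁ * (a₂ * a₁) := by
        rw [hAc a₁ ha₁ a₂ ha₂, ← zpow_add, ← zpow_add, add_comm]
      _ = (x ^ p) ^ j₂ * ((x ^ p) ^ j₁ * a₂) * a₁ := by group
      _ = (x ^ p) ^ j₂ * (a₂ * (x ^ p) ^ j₁) * a₁ := by rw [hz j₁ a₂]
      _ = (x ^ p) ^ j₂ * a₂ * ((x ^ p) ^ j₁ * a₁) := by group
  obtain ⟨h, hhH, a₀, ha₀, hxa⟩ := hcl1
  -- conjugation by h on A agrees with conjugation by x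
  have hconj : ∀ a ∈ A, h * a * h⁻¹ = x * a * x⁻¹ := by
    intro a ha
    rw [hxa]
    have : a₀ * a * a₀⁻¹ = a := by rw [hAc a₀ ha₀ a ha, mul_inv_cancel_right]
    calc x * a₀ * a * (x * a₀)⁻¹ = x * (a₀ * a * a₀⁻¹) * x⁻¹ := by group
      _ = x * a * x⁻¹ := by rw [this]
  -- τ(a) = a * (h a⁻¹ h⁻¹) is injective on A
  have hinj : ∀ a ∈ A, ∀ b ∈ A, a * (h * a⁻¹ * h⁻¹) = b * (h * b⁻¹ * h⁻¹) → a = b := by
    intro a ha b hb hab
    rw [hconj a⁻¹ (A.inv_mem ha), hconj b⁻¹ (A.inv_mem hb)] at hab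
    have hxa' : x * a⁻¹ * x⁻¹ ∈ A := hAn.conj_mem _ (A.inv_mem ha) x
    have hxb' : x * b⁻¹ * x⁻¹ ∈ A := hAn.conj_mem _ (A.inv_mem hb) x
    -- c = b⁻¹ * a is fixed by x
    have hcA : b⁻¹ * a ∈ A := A.mul_mem (A.inv_mem hb) ha
    have hfix : x * (b⁻¹ * a) * x⁻¹ = b⁻¹ * a := by
      have h1 : x * (b⁻¹ * a) * x⁻¹ = (x * b⁻¹ * x⁻¹) * (x * a⁻¹ * x⁻¹)⁻¹ := by group
      rw [h1]
      -- from hab: a * xa' = b * xb'  =>  xb' * xa'⁻¹ = b⁻¹ * a
      have h2 : x * b⁻¹ * x⁻¹ = b⁻¹ * (a * (x * a⁻¹ * x⁻¹)) := by rw [hab]; group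
      rw [h2]; group
    by_contra hne
    have hc1 : b⁻¹ * a ≠ 1 := by
      intro h1
      apply hne
      have := congrArg (fun t => b * t) h1
      simpa using this
    exact hfpf _ hcA hc1 hfix
  intro g hg
  -- write g = h^i * a'
  obtain ⟨i, a, ha, hia⟩ := hdec g
  have hmk : (QuotientGroup.mk (h ^ i) : G ⧸ A) = QuotientGroup.mk (x ^ i) := by
    rw [QuotientGroup.mk_zpow, QuotientGroup.mk_zpow, hxa, QuotientGroup.mk_mul,
      (QuotientGroup.eq_one_iff a₀).mpr ha₀, mul_one]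
  set a' := (h ^ i)⁻¹ * g with ha'
  have ha'A : a' ∈ A := by
    rw [← QuotientGroup.eq_one_iff, ha', QuotientGroup.mk_mul, QuotientGroup.mk_inv, hmk, hia,
      QuotientGroup.mk_mul, (QuotientGroup.eq_one_iff a).mpr ha, mul_one, inv_mul_cancel]
  have hhi : h ^ i ∈ H := H.zpow_mem hhH i
  have ha'N : a' ∈ Subgroup.normalizer (H : Set G) :=
    Subgroup.mul_mem _ (Subgroup.inv_mem _ (Subgroup.le_normalizer hhi)) hg
  -- τ(a') ∈ H ⊓ A
  have hτH : a' * (h * a'⁻¹ * h⁻¹) ∈ H := by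
    have h1 : a' * h * a'⁻¹ ∈ H := (Subgroup.mem_normalizer_iff.mp ha'N h).mp hhH
    have h2 : a' * (h * a'⁻¹ * h⁻¹) = (a' * h * a'⁻¹) * h⁻¹ := by group
    rw [h2]
    exact H.mul_mem h1 (H.inv_mem hhH)
  have hτA : a' * (h * a'⁻¹ * h⁻¹) ∈ A := A.mul_mem ha'A (hAn.conj_mem _ (A.inv_mem ha'A) h)
  -- surjectivity of τ on B = H ⊓ A
  classical
  let B : Subgroup G := H ⊓ A
  have hτB : ∀ b : B, (b : G) * (h * (b : G)⁻¹ * h⁻¹) ∈ B := by
    intro b
    have hbH : (b : G) ∈ H := (Subgroup.mem_inf.mp b.2).1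
    have hbA : (b : G) ∈ A := (Subgroup.mem_inf.mp b.2).2
    refine Subgroup.mem_inf.mpr ⟨?_, ?_⟩
    · exact H.mul_mem hbH (H.mul_mem (H.mul_mem hhH (H.inv_mem hbH)) (H.inv_mem hhH))
    · exact A.mul_mem hbA (hAn.conj_mem _ (A.inv_mem hbA) h)
  let τ : B → B := fun b => ⟨(b : G) * (h * (b : G)⁻¹ * h⁻¹), hτB b⟩
  have hτinj : Function.Injective τ := by
    intro b₁ b₂ hb
    have := congrArg Subtype.val hb
    exact Subtype.ext (hinj _ (Subgroup.mem_inf.mp b₁.2).2 _ (Subgroup.mem_inf.mp b₂.2).2 this)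
  have hτsurj : Function.Surjective τ := Finite.surjective_of_injective hτinj
  obtain ⟨b, hb⟩ := hτsurj ⟨a' * (h * a'⁻¹ * h⁻¹), Subgroup.mem_inf.mpr ⟨hτH, hτA⟩⟩
  have hb' : (b : G) * (h * (b : G)⁻¹ * h⁻¹) = a' * (h * a'⁻¹ * h⁻¹) := congrArg Subtype.val hb
  have hba : (b : G) = a' := hinj _ (Subgroup.mem_inf.mp b.2).2 _ ha'A hb'
  have ha'H : a' ∈ H := hba ▸ (Subgroup.mem_inf.mp b.2).1
  have : g = h ^ i * a' := by rw [ha']; group
  rw [this]
  exact H.mul_mem hhi ha'H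

end backward

section forward

variable {G : Type u} [Group G] [Finite G]

theorem central_of_gen (A : Subgroup G) (x : G) (hHtop : A ⊔ Subgroup.zpowers x = ⊤) (z : G)
    (hzA : ∀ a ∈ A, a * z = z * a) (hzx : x * z = z * x) : z ∈ Subgroup.center G := by
  have hle : A ⊔ Subgroup.zpowers x ≤ Subgroup.centralizer {z} := by
    rw [sup_le_iff]
    constructor
    · intro a ha
      rw [Subgroup.mem_centralizer_iff]
      intro h hh
      rw [Set.mem_singleton_iff.mp hh]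
      exact (hzA a ha).symm
    · rw [Subgroup.zpowers_le, Subgroup.mem_centralizer_iff]
      intro h hh
      rw [Set.mem_singleton_iff.mp hh]
      exact hzx.symm
  rw [hHtop] at hle
  rw [Subgroup.mem_center_iff]
  intro g
  have := Subgroup.mem_centralizer_iff.mp (hle (Subgroup.mem_top g)) z rfl
  exact this.symm

theorem forward [Group.IsSolvable G] (hnn : ¬ Group.IsNilpotent G) (hS : SN G) :
    ∃ (x : G) (A : Subgroup G) (p : ℕ), p.Prime ∧ A.Normal ∧ IsMulCommutative A ∧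
      (∃ k : ℕ, orderOf x = p ^ k) ∧
      ¬ p ∣ Nat.card A ∧ (Subgroup.zpowers x).IsComplement' A ∧ x ^ p ∈ Subgroup.center G ∧
      ∀ a : G, a ∈ A → a ≠ 1 → x * a * x⁻¹ ≠ a := by
  have hnt : Nontrivial G := by
    by_contra h
    rw [not_nontrivial_iff_subsingleton] at h
    exact hnn inferInstance
  obtain ⟨M, hMn, hMp⟩ := Cfsg.Agent.Lib.Helper12.exists_normal_prime_index (G := G)
  obtain ⟨p, hp_def⟩ : ∃ p, p = M.index := ⟨_, rfl⟩
  have hp : p.Prime := hp_def ▸ hMp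
  have : Fact p.Prime := ⟨hp⟩
  have hMtop : M ≠ ⊤ := by
    intro h
    rw [hp_def, h, Subgroup.index_top] at hp
    exact Nat.not_prime_one hp
  have hMc := (Cfsg.Agent.S4072.isMulCommutative_iff M).mp (comm_of_normal hS M hMtop)
  have hpowM : ∀ g : G, g ^ p ∈ M := by
    intro g
    rw [← QuotientGroup.eq_one_iff, QuotientGroup.mk_pow]
    have h1 : Nat.card (G ⧸ M) = p := by rw [hp_def, Subgroup.index_eq_card]
    rw [← h1]
    exact pow_card_eq_one'
  -- the numbers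
  obtain ⟨N, hN⟩ : ∃ N, N = Nat.card G := ⟨_, rfl⟩
  have hN0 : N ≠ 0 := hN ▸ Nat.card_pos.ne'
  obtain ⟨e, he⟩ : ∃ e, e = N.factorization p := ⟨_, rfl⟩
  obtain ⟨n', hn'⟩ : ∃ n', n' = N / p ^ e := ⟨_, rfl⟩
  have hnn' : p ^ e * n' = N := by rw [hn', he]; exact Nat.ordProj_mul_ordCompl_eq_self N p
  have hpn' : ¬ p ∣ n' := by rw [hn', he]; exact Nat.not_dvd_ordCompl hp hN0
  have hcop : Nat.Coprime p n' := (Nat.Prime.coprime_iff_not_dvd hp).mpr hpn'
  have hpowN : ∀ g : G, g ^ N = 1 := fun g => by rw [hN]; exact pow_card_eq_one'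
  let A : Subgroup G :=
    { carrier := {g | g ∈ M ∧ g ^ n' = 1}
      one_mem' := ⟨M.one_mem, one_pow _⟩
      mul_mem' := by
        rintro a b ⟨ha, ha'⟩ ⟨hb, hb'⟩
        refine ⟨M.mul_mem ha hb, ?_⟩
        have hc : Commute a b := hMc a ha b hb
        rw [hc.mul_pow, ha', hb', one_mul]
      inv_mem' := by
        rintro a ⟨ha, ha'⟩
        exact ⟨M.inv_mem ha, by rw [inv_pow, ha', inv_one]⟩ }
  have hAM : A ≤ M := fun g hg => hg.1
  have hApow : ∀ a ∈ A, a ^ n' = 1 := fun a ha => ha.2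
  have hAn : A.Normal := by
    refine ⟨fun a ha g => ⟨hMn.conj_mem a ha.1 g, ?_⟩⟩
    rw [conj_pow, ha.2, mul_one, mul_inv_cancel]
  have hAc : ∀ a ∈ A, ∀ b ∈ A, a * b = b * a := fun a ha b hb => hMc a ha.1 b hb.1
  have hpA : ¬ p ∣ Nat.card A := by
    intro hd
    obtain ⟨⟨a, ha⟩, hao⟩ := exists_prime_orderOf_dvd_card' p hd
    have hao' : orderOf a = p := by rw [← hao]; exact (Subgroup.orderOf_mk a ha).symm
    have h1 : p ∣ n' := by rw [← hao']; exact orderOf_dvd_of_pow_eq_one (hApow a ha)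
    exact hpn' h1
  have hpowA : ∀ g : G, g ^ (p * p ^ e) ∈ A := by
    intro g
    refine ⟨?_, ?_⟩
    · rw [pow_mul]; exact M.pow_mem (hpowM g) _
    · rw [← pow_mul, mul_assoc, hnn', mul_comm, pow_mul, hpowN, one_pow]
  have hQp : IsPGroup p (G ⧸ A) := by
    intro q
    obtain ⟨g, rfl⟩ := QuotientGroup.mk_surjective q
    refine ⟨e + 1, ?_⟩
    rw [← QuotientGroup.mk_pow, QuotientGroup.eq_one_iff, pow_succ']
    exact hpowA g
  have hQnil : Group.IsNilpotent (G ⧸ A) := hQp.isNilpotent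
  -- A is not central
  have hAnc : ¬ A ≤ Subgroup.center G := by
    intro hle
    apply hnn
    exact Subgroup.isNilpotent_of_ker_le_center (QuotientGroup.mk' A)
      (by rw [QuotientGroup.ker_mk']; exact hle)
  obtain ⟨a₁, ha₁, ha₁c⟩ := SetLike.not_le_iff_exists.mp hAnc
  rw [Subgroup.mem_center_iff] at ha₁c
  push Not at ha₁c
  obtain ⟨g, hg⟩ := ha₁c
  -- the element x
  obtain ⟨x, hx⟩ : ∃ x, x = g ^ n' := ⟨_, rfl⟩
  have hxo : ∃ k : ℕ, orderOf x = p ^ k := by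
    have h1 : x ^ (p ^ e) = 1 := by rw [hx, ← pow_mul, mul_comm, hnn', hpowN]
    obtain ⟨k, -, hk⟩ := (Nat.dvd_prime_pow hp).mp (orderOf_dvd_of_pow_eq_one h1)
    exact ⟨k, hk⟩
  have hxa : x * a₁ ≠ a₁ * x := by
    intro hcomm
    apply hg
    have hcop2 : IsCoprime (n' : ℤ) ((p * p ^ e : ℕ) : ℤ) := by
      rw [Nat.isCoprime_iff_coprime]
      exact (Nat.Coprime.mul_left hcop (Nat.Coprime.pow_left e hcop)).symm
    obtain ⟨s, t, hst⟩ := hcop2
    have h1 : Commute x a₁ := hcomm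
    have h2 : Commute (g ^ (p * p ^ e)) a₁ := hAc _ (hpowA g) _ ha₁
    have h3 : Commute (x ^ s * (g ^ (p * p ^ e)) ^ t) a₁ :=
      (h1.zpow_left s).mul_left (h2.zpow_left t)
    have h4 : x ^ s * (g ^ (p * p ^ e)) ^ t = g := by
      rw [hx, ← zpow_natCast g n', ← zpow_natCast g (p * p ^ e), ← zpow_mul, ← zpow_mul,
        ← zpow_add, mul_comm (n' : ℤ), mul_comm ((p * p ^ e : ℕ) : ℤ), hst, zpow_one]
    rw [h4] at h3
    exact h3
  -- A ⊔ ⟨x⟩ = ⊤
  have hHnc : ¬ IsMulCommutative (A ⊔ Subgroup.zpowers x : Subgroup G) := by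
    rw [Cfsg.Agent.S4072.isMulCommutative_iff]
    intro h
    exact hxa (h x (Subgroup.mem_sup_right (Subgroup.mem_zpowers x)) a₁
      (Subgroup.mem_sup_left ha₁))
  have hHN := hS _ hHnc
  have hHtop : A ⊔ Subgroup.zpowers x = ⊤ := by
    obtain ⟨H, hH⟩ : ∃ H, H = A ⊔ Subgroup.zpowers x := ⟨_, rfl⟩
    rw [← hH] at hHN ⊢
    have hAH : A ≤ H := hH ▸ le_sup_left
    obtain ⟨K, hK⟩ : ∃ K, K = H.map (QuotientGroup.mk' A) := ⟨_, rfl⟩
    have hcomap : K.comap (QuotientGroup.mk' A) = H := by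
      rw [hK, Subgroup.comap_map_eq, QuotientGroup.ker_mk', sup_eq_left.mpr hAH]
    have hNK : Subgroup.normalizer (K : Set (G ⧸ A)) = K :=
      normalizer_quot A K (by rw [hcomap]; exact hHN)
    have hKtop : K = ⊤ := by
      by_contra hne
      have h1 := Group.normalizerCondition_of_isNilpotent K (lt_top_iff_ne_top.mpr hne)
      rw [hNK] at h1
      exact lt_irrefl _ h1
    rw [← hcomap, hKtop, Subgroup.comap_top]
  obtain ⟨k, hk⟩ := hxo
  have hcopXA : (Nat.card (Subgroup.zpowers x)).Coprime (Nat.card A) := by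
    rw [Nat.card_zpowers, hk]
    exact Nat.Coprime.pow_left _ ((Nat.Prime.coprime_iff_not_dvd hp).mpr hpA)
  have hinf : Subgroup.zpowers x ⊓ A = ⊥ := Subgroup.inf_eq_bot_of_coprime hcopXA
  have hc : (Subgroup.zpowers x).IsComplement' A := by
    apply Subgroup.isComplement'_of_disjoint_and_mul_eq_univ (disjoint_iff.mpr hinf)
    rw [← Subgroup.mul_normal, sup_comm, hHtop, Subgroup.coe_top]
  have hxpc : x ^ p ∈ Subgroup.center G := by
    apply central_of_gen A x hHtop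
    · intro a ha
      exact hMc a (hAM ha) _ (hpowM x)
    · rw [← pow_succ', pow_succ]
  haveI hAcI : IsMulCommutative A := (Cfsg.Agent.S4072.isMulCommutative_iff A).mpr hAc
  refine ⟨x, A, p, hp, hAn, hAcI, ⟨k, hk⟩, hpA, hc, hxpc, ?_⟩
  -- fixed-point-freeness
  intro a₀ ha₀ ha₀1 hfix
  obtain ⟨X, hX⟩ : ∃ X, X = Subgroup.zpowers x := ⟨_, rfl⟩
  have hXN : X ≤ Subgroup.normalizer (A : Set G) := by
    rw [Subgroup.normalizer_eq_top]; exact le_top
  have h55 := Cfsg.Agent.S0055.result X A hXN (by rw [hX]; exact hcopXA)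
  obtain ⟨B, hB⟩ : ∃ B, B = ⁅A, X⁆ := ⟨_, rfl⟩
  rw [← hB] at h55
  have hBA : B ≤ A := by rw [hB]; exact Subgroup.commutator_le_left A X
  have hBn : B.Normal := by
    rw [← Subgroup.normalizer_eq_top_iff, eq_top_iff, ← hHtop, sup_le_iff]
    constructor
    · intro a ha
      rw [Subgroup.mem_normalizer_iff]
      intro h
      constructor
      · intro hh
        rw [hAc a ha h (hBA hh), mul_inv_cancel_right]
        exact hh
      · intro hh
        have h1 : a * h * a⁻¹ ∈ A := hBA hh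
        have h2 : h ∈ A := by
          have := A.mul_mem (A.mul_mem (A.inv_mem ha) h1) ha
          simpa [mul_assoc] using this
        rw [hAc a ha h h2, mul_inv_cancel_right] at hh
        exact hh
    · rw [Subgroup.zpowers_le, Subgroup.mem_normalizer_iff_map_conj_eq, hB,
        Subgroup.map_commutator, Subgroup.Normal.map_conj_eq A x, hX, MonoidHom.map_zpowers]
      congr 2
      simp
  have hxX : x ∈ X := hX ▸ Subgroup.mem_zpowers x
  have hH2nc : ¬ IsMulCommutative (B ⊔ X : Subgroup G) := by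
    rw [Cfsg.Agent.S4072.isMulCommutative_iff]
    intro h
    apply hxa
    have hle : (A ⊓ Subgroup.centralizer (X : Set G)) ⊔ B ≤ Subgroup.centralizer {x} := by
      rw [sup_le_iff]
      constructor
      · exact inf_le_right.trans
          (Subgroup.centralizer_le (Set.singleton_subset_iff.mpr hxX))
      · intro b hb
        rw [Subgroup.mem_centralizer_iff]
        intro y hy
        rw [Set.mem_singleton_iff.mp hy]
        exact h x (Subgroup.mem_sup_right hxX) b (Subgroup.mem_sup_left hb)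
    rw [h55.2] at hle
    exact Subgroup.mem_centralizer_iff.mp (hle ha₁) x rfl
  have hH2N := hS _ hH2nc
  have hcomm0 : x * a₀ = a₀ * x := by
    have := congrArg (fun t => t * x) hfix
    simpa [mul_assoc] using this
  have ha₀c : a₀ ∈ Subgroup.center G :=
    central_of_gen A x hHtop a₀ (fun a ha => hAc a ha a₀ ha₀) hcomm0
  have ha₀H : a₀ ∈ (B ⊔ X : Subgroup G) := by
    rw [← hH2N, Subgroup.mem_normalizer_iff]
    intro h
    rw [Subgroup.mem_center_iff] at ha₀c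
    rw [← ha₀c h, mul_inv_cancel_right]
  have ha₀H' : a₀ ∈ ((B ⊔ X : Subgroup G) : Set G) := ha₀H
  rw [Subgroup.normal_mul] at ha₀H'
  obtain ⟨b, hb, u, hu, hbu⟩ := Set.mem_mul.mp ha₀H'
  have hbA : b ∈ A := hBA hb
  have huA : u ∈ A := by
    have : u = b⁻¹ * a₀ := by rw [← hbu, inv_mul_cancel_left]
    rw [this]
    exact A.mul_mem (A.inv_mem hbA) ha₀
  have hu1 : u = 1 := by
    have : u ∈ Subgroup.zpowers x ⊓ A := Subgroup.mem_inf.mpr ⟨hX ▸ hu, huA⟩
    rw [hinf] at this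
    exact Subgroup.mem_bot.mp this
  have ha₀B : a₀ ∈ B := by rw [← hbu, hu1, mul_one]; exact hb
  have ha₀C : a₀ ∈ Subgroup.centralizer (X : Set G) := by
    rw [Subgroup.mem_centralizer_iff]
    intro y hy
    rw [hX] at hy
    obtain ⟨i, rfl⟩ := Subgroup.mem_zpowers_iff.mp hy
    have h1 : Commute x a₀ := hcomm0
    exact h1.zpow_left i
  have : a₀ ∈ (A ⊓ Subgroup.centralizer (X : Set G)) ⊓ B :=
    Subgroup.mem_inf.mpr ⟨Subgroup.mem_inf.mpr ⟨ha₀, ha₀C⟩, ha₀B⟩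
  rw [h55.1] at this
  exact ha₀1 (Subgroup.mem_bot.mp this)

end forward


/-- Let G be a finite solvable non-nilpotent group. Every non-abelian subgroup of G is self-normalizing if and only if G is a semidirect product ⟨x⟩ ⋉ A in which ⟨x⟩ is a p-group for some prime p, A is a normal abelian subgroup of order prime to p, x^p is central in G, and x acts fixed-point-freely on A (no non-identity element of A commutes with x). -/
theorem result {G : Type*} [Group G] [Finite G]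
    [Group.IsSolvable G] (hnn : ¬ Group.IsNilpotent G) :
    (∀ H : Subgroup G, ¬ IsMulCommutative H → Subgroup.normalizer (H : Set G) = H) ↔
    ∃ (x : G) (A : Subgroup G) (p : ℕ), p.Prime ∧ A.Normal ∧ IsMulCommutative A ∧ (∃ k : ℕ, orderOf x = p ^ k) ∧
      ¬ p ∣ Nat.card A ∧ (Subgroup.zpowers x).IsComplement' A ∧ x ^ p ∈ Subgroup.center G ∧
      ∀ a : G, a ∈ A → a ≠ 1 → x * a * x⁻¹ ≠ a := by
  constructor
  · intro hS
    exact forward hnn hS
  · rintro ⟨x, A, p, hp, hAn, hAc, hxo, hpA, hc, hxp, hfpf⟩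
    exact backward x A p hp ((Cfsg.Agent.S4072.isMulCommutative_iff A).mp hAc) hxo hc hxp hfpf

end Cfsg.Agent.S4071
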