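import Cfsg.Statements.S4073
import Cfsg.Agent.S5748
import Cfsg.Agent.Lib.Helper21.SNCA
import Cfsg.Agent.Lib.Helper79.SNFwdEnd
import Cfsg.Agent.Lib.Helper48.SN.Conv

/-!
# S4073: non-abelian simple groups all of whose non-abelian subgroups are self-normalizing

Pack K-SN.  (⇒): Lemma 1 / Lemma B / Lemma A (`Lib/Helper21/SNB`, `SNA`, `SNCA`) give that commuting is transitive on
non-identity elements; `Cfsg.Agent.S5748.result` gives `G ≃* PSL₂(F)`, `|F| = 2^f`; `Lib/Helper79/SNFwdEnd` gives that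
`2^f - 1` is prime and transports to `GaloisField 2 f`.  (⇐): `Lib/Helper48/SN/Conv` (Dickson on `N(H)`).
-/

set_option autoImplicit false
open Cfsg

namespace Cfsg.Agent.S4073

theorem result {G : Type*} [Group G] [Finite G] [IsSimpleGroup G]
    (hna : ¬ IsMulCommutative G) :
    (∀ H : Subgroup G, ¬ IsMulCommutative H → Subgroup.normalizer (H : Set G) = H) ↔
    ∃ n : ℕ, 2 ≤ n ∧ (2 ^ n - 1).Prime ∧ Nonempty (G ≃* Matrix.ProjectiveSpecialLinearGroup (Fin 2) (GaloisField 2 n)) := by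
  constructor
  · intro h
    obtain ⟨F, _, _, f, hf, hF, ⟨e⟩⟩ :=
      (Cfsg.Agent.S5748.result hna).mp (Cfsg.Agent.Lib.Helper21.SNCA.commute_trans_of_sn hna h)
    obtain ⟨h1, h2⟩ := Cfsg.Agent.Lib.Helper79.SN.sn79_forward_end h F f hf hF e
    exact ⟨f, hf, h1, h2⟩
  · rintro ⟨n, hn, hp, ⟨e⟩⟩ H hH
    exact Cfsg.Agent.Lib.Helper48.SNC.sn_of_iso n hn hp e H hH

end Cfsg.Agent.S4073
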