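import Cfsg.Statements.S4074

set_option autoImplicit false
open Cfsg

namespace Cfsg.Agent.S4074

open DihedralGroup

/-- parity of the index, for even `n` -/
noncomputable def parityFun (n : ℕ) (h : 2 ∣ n) : DihedralGroup n → Multiplicative (ZMod 2)
  | r i => Multiplicative.ofAdd (ZMod.castHom h (ZMod 2) i)
  | sr i => Multiplicative.ofAdd (ZMod.castHom h (ZMod 2) i)

theorem zmod2_sub (a b : ZMod 2) : a - b = a + b := by
  revert a b; decide

noncomputable def parityHom (n : ℕ) (h : 2 ∣ n) : DihedralGroup n →* Multiplicative (ZMod 2) :=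
  MonoidHom.mk' (parityFun n h) (by
    intro a b
    cases a <;> cases b <;>
      simp only [parityFun, r_mul_r, r_mul_sr, sr_mul_r, sr_mul_sr, map_add, map_sub, ofAdd_add,
        zmod2_sub] <;> rw [mul_comm])

theorem rot_comm {n : ℕ} (H : Subgroup (DihedralGroup n))
    (h : ∀ i : ZMod n, sr i ∉ H) : IsMulCommutative H := by
  refine ⟨⟨fun a b => ?_⟩⟩
  apply Subtype.ext
  obtain ⟨a, ha⟩ := a
  obtain ⟨b, hb⟩ := b
  cases a with
  | sr i => exact absurd ha (h i)
  | r i =>
    cases b with
    | sr j => exact absurd hb (h j)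
    | r j =>
      simp only [Subgroup.coe_mul, r_mul_r, add_comm]

theorem half_mem {n : ℕ} (hn : Odd n) (H : Subgroup (DihedralGroup n)) (k : ZMod n)
    (h : r (2 * k) ∈ H) : r k ∈ H := by
  obtain ⟨m, hm⟩ := hn
  have h2 := H.pow_mem h (m + 1)
  rw [r_pow] at h2
  have : (2 * k * ((m + 1 : ℕ) : ZMod n)) = k := by
    have hcast : ((2 * m + 1 : ℕ) : ZMod n) = 0 := by
      rw [← hm]; exact ZMod.natCast_self n
    push_cast at hcast ⊢
    linear_combination k * hcast
  rwa [this] at h2

theorem odd_case {n : ℕ} (hn : Odd n) (H : Subgroup (DihedralGroup n)) (hH : ¬ IsMulCommutative H) :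
    Subgroup.normalizer (H : Set (DihedralGroup n)) = H := by
  apply le_antisymm _ Subgroup.le_normalizer
  have hex : ∃ i : ZMod n, sr i ∈ H := by
    by_contra hne
    push Not at hne
    exact hH (rot_comm H hne)
  obtain ⟨i, hi⟩ := hex
  intro g hg
  rw [Subgroup.mem_normalizer_iff] at hg
  have h1 := (hg (sr i)).mp hi
  cases g with
  | r k =>
    rw [inv_r, r_mul_sr, sr_mul_r] at h1
    have h2 := H.mul_mem hi h1
    rw [sr_mul_sr] at h2
    have h3 : r (2 * k) ∈ H := by
      have := H.inv_mem h2
      rw [inv_r] at this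
      convert this using 2
      ring
    exact half_mem hn H k h3
  | sr k =>
    rw [inv_sr, sr_mul_sr, r_mul_sr] at h1
    have h2 := H.mul_mem hi h1
    rw [sr_mul_sr] at h2
    have h3 : r (2 * (k - i)) ∈ H := by
      convert h2 using 2
      ring
    have h4 := half_mem hn H _ h3
    have h5 := H.mul_mem hi h4
    rw [sr_mul_r] at h5
    convert h5 using 2
    ring

theorem four_case (H : Subgroup (DihedralGroup 4)) (hH : ¬ IsMulCommutative H) :
    Subgroup.normalizer (H : Set (DihedralGroup 4)) = H := by
  have htop : H = ⊤ := by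
    by_contra hne
    apply hH
    have hdvd : Nat.card H ∣ 8 := by
      have := Subgroup.card_subgroup_dvd_card H
      rwa [DihedralGroup.nat_card] at this
    have hlt : Nat.card H ≠ 8 := by
      intro h8
      apply hne
      apply (Subgroup.card_eq_iff_eq_top H).mp
      rw [h8, DihedralGroup.nat_card]
    have hmem : Nat.card H ∈ Nat.divisors 8 := Nat.mem_divisors.mpr ⟨hdvd, by norm_num⟩
    have hdiv : Nat.divisors 8 = {1, 2, 4, 8} := by decide
    rw [hdiv] at hmem
    simp only [Finset.mem_insert, Finset.mem_singleton] at hmem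
    rcases hmem with h | h | h | h
    · have : Subsingleton H := (Nat.card_eq_one_iff_unique.mp h).1
      exact ⟨⟨fun a b => Subsingleton.elim _ _⟩⟩
    · have : Fact (Nat.Prime 2) := ⟨Nat.prime_two⟩
      have hc : IsCyclic H := isCyclic_of_prime_card (p := 2) h
      exact hc.isMulCommutative
    · have : Fact (Nat.Prime 2) := ⟨Nat.prime_two⟩
      have h4 : Nat.card H = 2 ^ 2 := by rw [h]; norm_num
      exact IsPGroup.isMulCommutative_of_card_eq_prime_sq h4
    · exact absurd h hlt
  subst htop
  exact Subgroup.normalizer_eq_top _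

/-- For n > 2, every non-abelian subgroup of the dihedral group of order 2n is self-normalizing if and only if n = 4 or n is odd. -/
theorem result (n : ℕ) (hn : 2 < n) :
    (∀ H : Subgroup (DihedralGroup n), ¬ IsMulCommutative H → Subgroup.normalizer (H : Set (DihedralGroup n)) = H) ↔
    (n = 4 ∨ Odd n) := by
  constructor
  · intro hS
    by_contra hcon
    push Not at hcon
    obtain ⟨h4, hodd⟩ := hcon
    have heven : 2 ∣ n := by
      rcases Nat.even_or_odd n with h | h
      · exact h.two_dvd
      · exact absurd h hodd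
    have h6 : 6 ≤ n := by omega
    let φ := parityHom n heven
    have hr2 : (r 2 : DihedralGroup n) ∈ φ.ker := by
      rw [MonoidHom.mem_ker]
      change parityFun n heven (r 2) = 1
      simp only [parityFun, map_ofNat]
      rfl
    have hs0 : (sr 0 : DihedralGroup n) ∈ φ.ker := by
      rw [MonoidHom.mem_ker]
      change parityFun n heven (sr 0) = 1
      simp only [parityFun, map_zero]
      rfl
    have hr1 : (r 1 : DihedralGroup n) ∉ φ.ker := by
      rw [MonoidHom.mem_ker]
      change ¬ parityFun n heven (r 1) = 1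
      simp only [parityFun, map_one]
      decide
    have hnc : ¬ IsMulCommutative φ.ker := by
      intro hc
      have := setLike_mul_comm hr2 hs0
      rw [r_mul_sr, sr_mul_r] at this
      have h2 : (0 : ZMod n) - 2 = 0 + 2 := by
        injection this
      have h4' : ((4 : ℕ) : ZMod n) = 0 := by
        push_cast
        linear_combination -h2
      rw [ZMod.natCast_eq_zero_iff] at h4'
      have := Nat.le_of_dvd (by norm_num) h4'
      omega
    have h1 := hS φ.ker hnc
    rw [Subgroup.normalizer_eq_top] at h1
    apply hr1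
    rw [← h1]
    exact Subgroup.mem_top _
  · rintro (h4 | hodd) H hH
    · subst h4
      exact four_case H hH
    · exact odd_case hodd H hH

end Cfsg.Agent.S4074
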