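import Cfsg.Statements.S4075

set_option autoImplicit false
open Cfsg

namespace Cfsg.Agent.S4075

/-- Let G be a finite nilpotent group. Every non-abelian subgroup of G is self-normalizing if and only if G is abelian or G is a minimal non-abelian p-group for some prime p (non-abelian of prime-power order with every proper subgroup abelian). -/
theorem result {G : Type*} [Group G] [Finite G]
    [Group.IsNilpotent G] :
    (∀ H : Subgroup G, ¬ IsMulCommutative H → Subgroup.normalizer (H : Set G) = H) ↔
    (IsMulCommutative G ∨ (IsPrimePow (Nat.card G) ∧ ¬ IsMulCommutative G ∧ ∀ H : Subgroup G, H ≠ ⊤ → IsMulCommutative H)) := by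
  constructor
  · intro hS
    by_cases hc : IsMulCommutative G
    · exact Or.inl hc
    · right
      have hnc : NormalizerCondition G := Group.normalizerCondition_of_isNilpotent
      rw [normalizerCondition_iff_only_full_group_self_normalizing] at hnc
      have hprop : ∀ H : Subgroup G, H ≠ ⊤ → IsMulCommutative H := by
        intro H hH
        by_contra hHc
        exact hH (hnc H (hS H hHc))
      refine ⟨?_, hc, hprop⟩
      -- some Sylow subgroup is noncommutative
      have hex : ∃ (p : ℕ) (_ : Fact p.Prime) (P : Sylow p G), ¬ IsMulCommutative (P : Subgroup G) := by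
        by_contra hne
        push Not at hne
        apply hc
        obtain ⟨e⟩ := ((Group.isNilpotent_of_finite_tfae (G := G)).out 0 4).mp
          (inferInstance : Group.IsNilpotent G)
        have : ∀ (p : (Nat.card G).primeFactors) (P : Sylow p G), IsMulCommutative (P : Subgroup G) := by
          intro p P
          have : Fact (Nat.Prime (p : ℕ)) := ⟨Nat.prime_of_mem_primeFactors p.2⟩
          exact hne p this P
        have hpi : IsMulCommutative (∀ p : (Nat.card G).primeFactors, ∀ P : Sylow p G, (↑P : Subgroup G)) := by
          refine ⟨⟨fun a b => ?_⟩⟩
          funext p P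
          have := this p P
          exact Subtype.ext (setLike_mul_comm (a p P).2 (b p P).2)
        refine ⟨⟨fun a b => ?_⟩⟩
        have h1 := hpi.is_comm.comm (e.symm a) (e.symm b)
        have := congrArg e h1
        simpa using this
      obtain ⟨p, hp, P, hP⟩ := hex
      have hPtop : (P : Subgroup G) = ⊤ := by
        by_contra hne
        exact hP (hprop _ hne)
      have hpg : IsPGroup p G := by
        have := P.isPGroup'
        rw [hPtop] at this
        exact this.of_equiv Subgroup.topEquiv
      obtain ⟨n, hn⟩ := hpg.exists_card_eq
      rw [hn]
      rcases Nat.eq_zero_or_pos n with h0 | hpos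
      · exfalso
        apply hc
        rw [h0, pow_zero] at hn
        have : Subsingleton G := (Nat.card_eq_one_iff_unique.mp hn).1
        exact ⟨⟨fun a b => Subsingleton.elim _ _⟩⟩
      · exact hp.out.isPrimePow.pow hpos.ne'
  · rintro (hc | ⟨-, hnc, hprop⟩) H hH
    · exact absurd (inferInstance : IsMulCommutative H) hH
    · have : H = ⊤ := by
        by_contra hne
        exact hH (hprop H hne)
      subst this
      exact Subgroup.normalizer_eq_top _
end Cfsg.Agent.S4075
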