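import Cfsg.Statements.S4080
import Mathlib

set_option autoImplicit false
open Cfsg

namespace Cfsg.Agent.S4080

section
variable {p : ℕ} [hpf : Fact p.Prime]

instance neZeroSq : NeZero (p ^ 2) := ⟨pow_ne_zero 2 hpf.out.ne_zero⟩

/-- an element of `ZMod (p^2)` whose natural representative is divisible by `p` is a multiple of `p` -/
lemma eq_mul_of_dvd_val (x : ZMod (p ^ 2)) (h : p ∣ x.val) : ∃ y : ZMod (p ^ 2), x = (p : ZMod (p ^ 2)) * y := by
  obtain ⟨k, hk⟩ := h
  refine ⟨(k : ZMod (p ^ 2)), ?_⟩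
  have : x = ((x.val : ℕ) : ZMod (p ^ 2)) := (ZMod.natCast_zmod_val x).symm
  rw [this, hk]
  push_cast
  rfl

lemma ker_cast (x : ZMod (p ^ 2))
    (h : (ZMod.castHom (dvd_pow_self p two_ne_zero) (ZMod p)) x = 0) :
    ∃ y : ZMod (p ^ 2), x = (p : ZMod (p ^ 2)) * y := by
  apply eq_mul_of_dvd_val
  rw [ZMod.castHom_apply, ← ZMod.natCast_val, ZMod.natCast_eq_zero_iff] at h
  exact h

lemma mul_eq_zero_imp (c : ZMod (p ^ 2)) (h : (p : ZMod (p ^ 2)) * c = 0) :
    ∃ d : ZMod (p ^ 2), c = (p : ZMod (p ^ 2)) * d := by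
  apply eq_mul_of_dvd_val
  have h1 : ((p * c.val : ℕ) : ZMod (p ^ 2)) = 0 := by
    push_cast
    rw [ZMod.natCast_zmod_val]
    exact h
  rw [ZMod.natCast_eq_zero_iff] at h1
  have h2 : p * p ∣ p * c.val := by
    have : p * p = p ^ 2 := (pow_two p).symm
    rw [this]; exact h1
  exact Nat.dvd_of_mul_dvd_mul_left hpf.out.pos h2

lemma p_sq_zero : (p : ZMod (p ^ 2)) * (p : ZMod (p ^ 2)) = 0 := by
  rw [← Nat.cast_mul, ← pow_two]
  exact ZMod.natCast_self (p ^ 2)

end


section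
variable {p : ℕ} [hpf : Fact p.Prime]

lemma mul_natCast_eq_smul {R : Type*} [CommRing R] (A : Matrix (Fin 2) (Fin 2) R) (c : ℕ) :
    A * ((c : ℕ) : Matrix (Fin 2) (Fin 2) R) = (c : R) • A := by
  rw [← nsmul_eq_mul', Nat.cast_smul_eq_nsmul]

lemma cayley_hamilton_two {R : Type*} [CommRing R] (N : Matrix (Fin 2) (Fin 2) R) :
    N ^ 2 = N.trace • N - N.det • (1 : Matrix (Fin 2) (Fin 2) R) := by
  ext i j
  fin_cases i <;> fin_cases j <;>
    simp [pow_two, Matrix.mul_apply, Fin.sum_univ_two, Matrix.trace_fin_two, Matrix.det_fin_two] <;>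
    ring

lemma MAT (hp : 3 < p) (M : Matrix (Fin 2) (Fin 2) (ZMod (p ^ 2))) (hM : M ^ p = 1) :
    (p : ZMod (p ^ 2)) • (M - 1) = 0 := by
  obtain ⟨N, hN⟩ : ∃ N, N = M - 1 := ⟨_, rfl⟩
  rw [← hN]
  have hMN : M = N + 1 := by rw [hN]; abel
  have hdvd : p ∣ p ^ 2 := dvd_pow_self p two_ne_zero
  have hNbar : ((ZMod.castHom hdvd (ZMod p)).mapMatrix N) ^ p = 0 := by
    have h1 : ((ZMod.castHom hdvd (ZMod p)).mapMatrix M) ^ p = 1 := by
      rw [← map_pow, hM, map_one]
    rw [hMN, map_add, map_one] at h1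
    rw [add_pow_char_of_commute p (Commute.one_right _), one_pow] at h1
    exact add_right_cancel (b := 1) (by rw [h1, zero_add])
  have hnil : IsNilpotent ((ZMod.castHom hdvd (ZMod p)).mapMatrix N) := ⟨p, hNbar⟩
  have htr : (ZMod.castHom hdvd (ZMod p)) N.trace = 0 := by
    have := (Matrix.isNilpotent_trace_of_isNilpotent hnil).eq_zero
    rw [← this]
    simp [Matrix.trace_fin_two]
  have hdet : (ZMod.castHom hdvd (ZMod p)) N.det = 0 := by
    have h1 : (((ZMod.castHom hdvd (ZMod p)).mapMatrix N).det) ^ p = 0 := by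
      rw [← Matrix.det_pow, hNbar, Matrix.det_zero]
    rw [RingHom.map_det]
    exact pow_eq_zero_iff (hpf.out.ne_zero) |>.mp h1
  obtain ⟨t', ht'⟩ := ker_cast N.trace htr
  obtain ⟨d', hd'⟩ := ker_cast N.det hdet
  have hCH := cayley_hamilton_two N
  obtain ⟨B, hB⟩ : ∃ B, B = t' • N - d' • (1 : Matrix (Fin 2) (Fin 2) (ZMod (p ^ 2))) := ⟨_, rfl⟩
  have hN2 : N ^ 2 = (p : ZMod (p ^ 2)) • B := by
    rw [hCH, ht', hd', hB, smul_sub, mul_smul, mul_smul]
  have hN4 : N ^ 4 = 0 := by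
    have : N ^ 4 = N ^ 2 * N ^ 2 := by rw [← pow_add]
    rw [this, hN2, smul_mul_smul_comm, p_sq_zero, zero_smul]
  have hterm : ∀ k, 2 ≤ k → k ≤ p → ((p.choose k : ℕ) : ZMod (p ^ 2)) • N ^ k = 0 := by
    intro k hk2 hkp
    rcases Nat.lt_or_ge k p with hlt | hge
    · obtain ⟨c, hc⟩ := hpf.out.dvd_choose_self (by omega) hlt
      have h1 : N ^ k = N ^ 2 * N ^ (k - 2) := by
        rw [← pow_add]; congr 1; omega
      rw [h1, hN2, hc, smul_mul_assoc, smul_smul]
      push_cast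
      have : (p : ZMod (p ^ 2)) * (c : ZMod (p ^ 2)) * (p : ZMod (p ^ 2)) = 0 := by
        rw [mul_right_comm, p_sq_zero, zero_mul]
      rw [this, zero_smul]
    · have hk4 : 4 ≤ k := by omega
      have h1 : N ^ k = N ^ 4 * N ^ (k - 4) := by
        rw [← pow_add]; congr 1; omega
      rw [h1, hN4, zero_mul, smul_zero]
  have hexp : (N + 1) ^ p = 1 + (p : ZMod (p ^ 2)) • N := by
    rw [(Commute.one_right N).add_pow]
    rw [Finset.sum_eq_add (0 : ℕ) 1 (by norm_num)]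
    · simp [mul_natCast_eq_smul]
    · intro k hk hk01
      rw [Finset.mem_range] at hk
      rw [one_pow, mul_one, mul_natCast_eq_smul]
      exact hterm k (by omega) (by omega)
    · intro h
      exact absurd (Finset.mem_range.mpr (by omega)) h
    · intro h
      exact absurd (Finset.mem_range.mpr (by omega)) h
  rw [← hMN, hM] at hexp
  exact left_eq_add.mp hexp

end


theorem result {p : ℕ} [Fact p.Prime] (hp : 3 < p)
    (a : MulAut (Multiplicative (ZMod (p ^ 2) × ZMod (p ^ 2)))) (ha : orderOf a = p)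
    (x : Multiplicative (ZMod (p ^ 2) × ZMod (p ^ 2))) (hx : orderOf x = p) : a x = x := by
  let f : (ZMod (p ^ 2) × ZMod (p ^ 2)) →+ (ZMod (p ^ 2) × ZMod (p ^ 2)) :=
    AddMonoidHom.toMultiplicative.symm a.toMonoidHom
  let F : (ZMod (p ^ 2) × ZMod (p ^ 2)) →ₗ[ZMod (p ^ 2)] (ZMod (p ^ 2) × ZMod (p ^ 2)) :=
    f.toZModLinearMap (p ^ 2)
  have hF : ∀ v, F v = Multiplicative.toAdd (a (Multiplicative.ofAdd v)) := fun v => rfl
  have hFpow : ∀ (k : ℕ) v, (F ^ k) v = Multiplicative.toAdd ((a ^ k) (Multiplicative.ofAdd v)) := by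
    intro k
    induction k with
    | zero => intro v; simp
    | succ k ih =>
      intro v
      rw [pow_succ F k, Module.End.mul_apply, ih, hF, pow_succ a k, MulAut.mul_apply]
      simp
  have hFp : F ^ p = 1 := by
    apply LinearMap.ext
    intro v
    have hap : a ^ p = 1 := by
      have := pow_orderOf_eq_one a
      rwa [ha] at this
    rw [hFpow, hap]
    simp
  have hMx : (LinearMap.toMatrixAlgEquiv (Module.Basis.finTwoProd (ZMod (p ^ 2))) F) ^ p = 1 := by
    rw [← map_pow, hFp, map_one]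
  have hmat := MAT hp _ hMx
  have hFN : (p : ZMod (p ^ 2)) • (F - 1) = 0 := by
    apply (LinearMap.toMatrixAlgEquiv (Module.Basis.finTwoProd (ZMod (p ^ 2)))).injective
    rw [map_smul, map_sub, map_one, map_zero]
    exact hmat
  obtain ⟨v, hv⟩ : ∃ v, v = Multiplicative.toAdd x := ⟨_, rfl⟩
  have hpv : p • v = 0 := by
    have h1 := pow_orderOf_eq_one x
    rw [hx] at h1
    have h2 := congrArg Multiplicative.toAdd h1
    rw [toAdd_pow, toAdd_one] at h2
    rw [hv]; exact h2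
  obtain ⟨w1, hw1⟩ := mul_eq_zero_imp v.1 (by
    have := congrArg Prod.fst hpv
    simpa [nsmul_eq_mul] using this)
  obtain ⟨w2, hw2⟩ := mul_eq_zero_imp v.2 (by
    have := congrArg Prod.snd hpv
    simpa [nsmul_eq_mul] using this)
  have hvw : v = (p : ZMod (p ^ 2)) • ((w1, w2) : ZMod (p ^ 2) × ZMod (p ^ 2)) := by
    ext <;> simp [hw1, hw2]
  have hFv : F v = v := by
    have h3 : ((p : ZMod (p ^ 2)) • (F - 1)) (w1, w2) = 0 := by rw [hFN]; rfl
    rw [LinearMap.smul_apply, LinearMap.sub_apply, Module.End.one_apply, smul_sub] at h3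
    rw [hvw, map_smul]
    exact sub_eq_zero.mp h3
  have h4 := hF v
  rw [hFv, hv] at h4
  have h5 := congrArg Multiplicative.ofAdd h4
  simp only [ofAdd_toAdd] at h5
  exact h5.symm

end Cfsg.Agent.S4080
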