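import Mathlib
import Cfsg.Statements.S4082
import Cfsg.Agent.Lib.Helper78.MaxClass2Recognition
import Cfsg.Agent.Lib.Helper20.UniqueInvolution

set_option autoImplicit false
set_option linter.style.haveILetI false
open Cfsg

namespace Cfsg.Agent.S4082

open Subgroup

theorem cyc_comm {C : Type*} [Group C] [IsCyclic C] (a b : C) : a * b = b * a := by
  obtain ⟨g, hg⟩ := IsCyclic.exists_generator (α := C)
  obtain ⟨i, rfl⟩ := Subgroup.mem_zpowers_iff.1 (hg a)
  obtain ⟨j, rfl⟩ := Subgroup.mem_zpowers_iff.1 (hg b)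
  exact zpow_mul_comm g i j

theorem invol_unique {C : Type*} [Group C] [Finite C] [IsCyclic C] (a b : C)
    (ha : a * a = 1) (hb : b * b = 1) (ha1 : a ≠ 1) (hb1 : b ≠ 1) : a = b := by
  classical
  have : Fintype C := Fintype.ofFinite C
  by_contra hab
  have h1 := IsCyclic.card_pow_eq_one_le (α := C) (n := 2) (by norm_num)
  have hsub : ({1, a, b} : Finset C) ⊆ Finset.univ.filter (fun c : C => c ^ 2 = 1) := by
    intro c hc
    simp only [Finset.mem_insert, Finset.mem_singleton] at hc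
    simp only [Finset.mem_filter, Finset.mem_univ, true_and]
    rcases hc with rfl | rfl | rfl
    · simp
    · rw [pow_two]; exact ha
    · rw [pow_two]; exact hb
  have h3 : ({1, a, b} : Finset C).card = 3 := by
    rw [Finset.card_insert_of_notMem, Finset.card_insert_of_notMem, Finset.card_singleton]
    · simpa using hab
    · simp only [Finset.mem_insert, Finset.mem_singleton, not_or]
      exact ⟨Ne.symm ha1, Ne.symm hb1⟩
  have := Finset.card_le_card hsub
  omega

variable {G : Type*} [Group G]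

theorem exists_of_mem_sup (N : Subgroup G) (y : G) (hy : y ∈ normalizer (N : Set G)) {h : G}
    (hh : h ∈ N ⊔ zpowers y) : ∃ n ∈ N, ∃ k : ℤ, h = n * y ^ k := by
  have hle : zpowers y ≤ normalizer (N : Set G) := by rw [zpowers_le]; exact hy
  have := coe_mul_of_right_le_normalizer_left N (zpowers y) hle
  have hh' : h ∈ ((N ⊔ zpowers y : Subgroup G) : Set G) := hh
  rw [this] at hh'
  obtain ⟨n, hn, w, hw, rfl⟩ := Set.mem_mul.1 hh'
  obtain ⟨k, rfl⟩ := mem_zpowers_iff.1 hw
  exact ⟨n, hn, k, rfl⟩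

theorem eq_one_of_sq {p : ℕ} [Fact p.Prime] (hp : p ≠ 2) {K : Subgroup G} (hK : IsPGroup p K)
    {u : G} (hu : u ∈ K) (huu : u * u = 1) : u = 1 := by
  obtain ⟨k, hk⟩ := hK ⟨u, hu⟩
  have hk' : u ^ (p ^ k) = 1 := by
    have := congrArg Subtype.val hk
    simpa using this
  have h2 : orderOf u ∣ 2 := orderOf_dvd_of_pow_eq_one (by rw [pow_two]; exact huu)
  have h3 : orderOf u ∣ p ^ k := orderOf_dvd_of_pow_eq_one hk'
  have hcop : Nat.Coprime 2 (p ^ k) :=
    Nat.Coprime.pow_right _ ((Nat.coprime_primes Nat.prime_two (Fact.out : p.Prime)).2 (Ne.symm hp))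
  have := Nat.dvd_gcd h2 h3
  rw [hcop.gcd_eq_one, Nat.dvd_one] at this
  exact orderOf_eq_one_iff.1 this

theorem pbc_of {p : ℕ} [Fact p.Prime] [Finite G] (H N : Subgroup G) (hNH : N ≤ H)
    (hnorm : H ≤ normalizer (N : Set G))
    (hN : IsPGroup p N) (y : G) (hy : y ∈ H) (hgen : ∀ h ∈ H, ∃ n ∈ N, ∃ k : ℤ, h = n * y ^ k) :
    (∀ S : Sylow p ↥H, (S : Subgroup ↥H).Normal) ∧
    (∀ (S : Sylow p ↥H) [(S : Subgroup ↥H).Normal], IsCyclic (↥H ⧸ (S : Subgroup ↥H))) := by
  have hN'n : (N.subgroupOf H).Normal := (normal_subgroupOf_iff_le_normalizer hNH).2 hnorm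
  have hN'p : IsPGroup p (N.subgroupOf H) := hN.comap_subtype
  have hle : ∀ S : Sylow p ↥H, N.subgroupOf H ≤ S := by
    intro S
    have := S.is_maximal' (IsPGroup.to_sup_of_normal_left hN'p S.isPGroup') le_sup_right
    exact le_sup_left.trans this.le
  have hdecomp : ∀ a : ↥H, ∃ n : ↥H, n ∈ N.subgroupOf H ∧ ∃ k : ℤ, a = n * (⟨y, hy⟩ : ↥H) ^ k := by
    intro a
    obtain ⟨n, hn, k, hk⟩ := hgen a a.2
    exact ⟨⟨n, hNH hn⟩, mem_subgroupOf.2 hn, k, Subtype.ext (by simp [hk])⟩
  have hcomm : ∀ a b : ↥H, a * b * a⁻¹ * b⁻¹ ∈ N.subgroupOf H := by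
    intro a b
    obtain ⟨n, hn, k, rfl⟩ := hdecomp a
    obtain ⟨m, hm, l, rfl⟩ := hdecomp b
    rw [← QuotientGroup.eq_one_iff]
    have hn1 : (QuotientGroup.mk n : ↥H ⧸ N.subgroupOf H) = 1 := (QuotientGroup.eq_one_iff _).2 hn
    have hm1 : (QuotientGroup.mk m : ↥H ⧸ N.subgroupOf H) = 1 := (QuotientGroup.eq_one_iff _).2 hm
    simp only [QuotientGroup.mk_mul, QuotientGroup.mk_inv, QuotientGroup.mk_zpow, hn1, hm1, one_mul]
    rw [zpow_mul_comm]
    simp
  refine ⟨fun S => ⟨fun s hs h => ?_⟩, fun S _ => ?_⟩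
  · have h1 := hle S (hcomm h s)
    have : h * s * h⁻¹ = (h * s * h⁻¹ * s⁻¹) * s := by group
    rw [this]
    exact mul_mem h1 hs
  · refine ⟨⟨QuotientGroup.mk ⟨y, hy⟩, fun x => ?_⟩⟩
    obtain ⟨a, rfl⟩ := QuotientGroup.mk_surjective x
    obtain ⟨n, hn, k, rfl⟩ := hdecomp a
    refine ⟨k, ?_⟩
    have hn1 : (QuotientGroup.mk n : ↥H ⧸ (S : Subgroup ↥H)) = 1 :=
      (QuotientGroup.eq_one_iff _).2 (hle S hn)
    simp only [QuotientGroup.mk_mul, QuotientGroup.mk_zpow, hn1, one_mul]

theorem norm_of_invert {K : Subgroup G} {x : G} (h : ∀ u ∈ K, x * u * x⁻¹ = u⁻¹) :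
    x ∈ normalizer (K : Set G) := by
  rw [mem_normalizer_iff]
  intro u
  constructor
  · intro hu
    rw [h u hu]
    exact inv_mem hu
  · intro hu
    have h1 := h _ hu
    have h3 : x * (x * u * x⁻¹)⁻¹ * x⁻¹ = x * u * x⁻¹ := by
      calc x * (x * u * x⁻¹)⁻¹ * x⁻¹ = (x * (x * u * x⁻¹) * x⁻¹)⁻¹ := by
            simp only [mul_inv_rev, inv_inv, mul_assoc]
        _ = x * u * x⁻¹ := by rw [h1, inv_inv]
    have h2 := mul_left_cancel (mul_right_cancel h3)
    rw [← h2]
    exact inv_mem hu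

theorem not_cent_of_invert {p : ℕ} [Fact p.Prime] (hp : p ≠ 2) {K : Subgroup G}
    (hK : IsPGroup p K) (hK1 : K ≠ ⊥) {x : G} (h : ∀ u ∈ K, x * u * x⁻¹ = u⁻¹) :
    x ∉ centralizer (K : Set G) := by
  intro hx
  obtain ⟨⟨q, hq⟩, hq1⟩ := (Subgroup.ne_bot_iff_exists_ne_one).1 hK1
  apply hq1
  have h1 := h q hq
  have h2 : q * x = x * q := (mem_centralizer_iff.1 hx) q hq
  have h3 : q * q = 1 := by
    have : x * q * x⁻¹ = q := by rw [← h2, mul_inv_cancel_right]
    rw [this] at h1
    calc q * q = q * q⁻¹ := by rw [← h1]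
      _ = 1 := mul_inv_cancel q
  exact Subtype.ext (eq_one_of_sq hp hK hq h3)

/-- Lemma D -/
theorem invert_of {p : ℕ} [Fact p.Prime] [Finite G] (hp : p ≠ 2)
    (hL : ∀ H : Subgroup G, (∀ S : Sylow p ↥H, (S : Subgroup ↥H).Normal) →
        (∀ (S : Sylow p ↥H) [(S : Subgroup ↥H).Normal], IsCyclic (↥H ⧸ (S : Subgroup ↥H))) →
        IsCyclic H ∨ (∃ n : ℕ, Nonempty (H ≃* DihedralGroup (p ^ n))))
    (N : Subgroup G) (hN : IsPGroup p N) (x : G) (hxN : x ∈ normalizer (N : Set G))
    (hxC : x ∉ centralizer (N : Set G)) :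
    orderOf x = 2 ∧ ∀ u ∈ N, x * u * x⁻¹ = u⁻¹ := by
  have hNH : N ≤ N ⊔ zpowers x := le_sup_left
  have hxH : x ∈ N ⊔ zpowers x := (le_sup_right : zpowers x ≤ _) (mem_zpowers x)
  have hnorm : N ⊔ zpowers x ≤ normalizer (N : Set G) :=
    sup_le le_normalizer (by rw [zpowers_le]; exact hxN)
  obtain ⟨h1, h2⟩ := pbc_of (p := p) (N ⊔ zpowers x) N hNH hnorm hN x hxH
    (fun h hh => exists_of_mem_sup N x hxN hh)
  rcases hL _ h1 h2 with hc | ⟨n, ⟨φ⟩⟩
  · exfalso
    apply hxC
    rw [mem_centralizer_iff]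
    intro u hu
    have := cyc_comm (⟨u, hNH hu⟩ : ↥(N ⊔ zpowers x)) ⟨x, hxH⟩
    exact congrArg Subtype.val this
  · have hrot : ∀ u (hu : u ∈ N), ∃ i, φ ⟨u, hNH hu⟩ = DihedralGroup.r i := by
      intro u hu
      cases hφ : φ ⟨u, hNH hu⟩ with
      | r i => exact ⟨i, rfl⟩
      | sr i =>
        exfalso
        have h3 : φ (⟨u, hNH hu⟩ * ⟨u, hNH hu⟩) = 1 := by
          rw [map_mul, hφ, DihedralGroup.sr_mul_self]
        have h4 : (⟨u, hNH hu⟩ * ⟨u, hNH hu⟩ : ↥(N ⊔ zpowers x)) = 1 :=
          (MulEquiv.map_eq_one_iff φ).1 h3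
        have h5 : u * u = 1 := congrArg Subtype.val h4
        have h6 := eq_one_of_sq hp hN hu h5
        subst h6
        have h7 : φ ⟨1, hNH hu⟩ = 1 := by
          have : (⟨1, hNH hu⟩ : ↥(N ⊔ zpowers x)) = 1 := rfl
          rw [this, map_one]
        rw [hφ, DihedralGroup.one_def] at h7
        cases h7
    have hsr : ∃ j, φ ⟨x, hxH⟩ = DihedralGroup.sr j := by
      cases hφ : φ ⟨x, hxH⟩ with
      | sr j => exact ⟨j, rfl⟩
      | r j =>
        exfalso
        apply hxC
        rw [mem_centralizer_iff]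
        intro u hu
        obtain ⟨i, hi⟩ := hrot u hu
        have h3 : φ (⟨u, hNH hu⟩ * ⟨x, hxH⟩) = φ (⟨x, hxH⟩ * ⟨u, hNH hu⟩) := by
          rw [map_mul, map_mul, hφ, hi, DihedralGroup.r_mul_r, DihedralGroup.r_mul_r, add_comm]
        exact congrArg Subtype.val (φ.injective h3)
    obtain ⟨j, hj⟩ := hsr
    have hxx : x * x = 1 := by
      have h3 : φ (⟨x, hxH⟩ * ⟨x, hxH⟩) = 1 := by
        rw [map_mul, hj, DihedralGroup.sr_mul_self]
      exact congrArg Subtype.val ((MulEquiv.map_eq_one_iff φ).1 h3)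
    have hx1 : x ≠ 1 := by
      rintro rfl
      exact hxC (one_mem _)
    refine ⟨orderOf_eq_prime (by rw [pow_two]; exact hxx) hx1, fun u hu => ?_⟩
    obtain ⟨i, hi⟩ := hrot u hu
    have h3 : φ (⟨x, hxH⟩ * ⟨u, hNH hu⟩ * ⟨x, hxH⟩⁻¹) = φ (⟨u, hNH hu⟩⁻¹) := by
      rw [map_mul, map_mul, map_inv, map_inv, hj, hi, DihedralGroup.inv_sr, DihedralGroup.inv_r,
        DihedralGroup.sr_mul_r, DihedralGroup.sr_mul_sr]
      congr 1
      ring
    exact congrArg Subtype.val (φ.injective h3)

theorem forward {p : ℕ} [Fact p.Prime] [Finite G] (hp : p ≠ 2) (P : Sylow p G)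
    (hL : ∀ H : Subgroup G, (∀ S : Sylow p ↥H, (S : Subgroup ↥H).Normal) →
        (∀ (S : Sylow p ↥H) [(S : Subgroup ↥H).Normal], IsCyclic (↥H ⧸ (S : Subgroup ↥H))) →
        IsCyclic H ∨ (∃ n : ℕ, Nonempty (H ≃* DihedralGroup (p ^ n)))) :
    (IsCyclic P ∧
      (Subgroup.normalizer ((P : Subgroup G) : Set G) = Subgroup.centralizer ((P : Subgroup G) : Set G) ∨
       ((Subgroup.centralizer ((P : Subgroup G) : Set G)).relIndex (Subgroup.normalizer ((P : Subgroup G) : Set G)) = 2 ∧
        ∀ Q : Subgroup G, Q ≤ P → Nat.card Q = p →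
          IsMulCommutative ↥(Subgroup.centralizer (Q : Set G)) ∧
          ∀ x : G, x ∈ Subgroup.normalizer (Q : Set G) → x ∉ Subgroup.centralizer (Q : Set G) →
            orderOf x = 2 ∧ ∀ c : G, c ∈ Subgroup.centralizer (Q : Set G) → x * c * x⁻¹ = c⁻¹))) := by
  have hpp : p.Prime := Fact.out
  constructor
  · obtain ⟨h1, h2⟩ := pbc_of (p := p) (P : Subgroup G) (P : Subgroup G) le_rfl le_normalizer
      P.isPGroup' 1 (one_mem _) (fun h hh => ⟨h, hh, 0, by simp⟩)
    rcases hL _ h1 h2 with hc | ⟨n, ⟨φ⟩⟩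
    · exact hc
    · exfalso
      have hc1 : Nat.card (P : Subgroup G) = 2 * p ^ n := by
        rw [Nat.card_congr φ.toEquiv, DihedralGroup.nat_card]
      obtain ⟨k, hk⟩ := P.isPGroup'.exists_card_eq
      rw [hk] at hc1
      have h2p : 2 ∣ p ^ k := ⟨_, hc1⟩
      have h2p' : 2 ∣ p := Nat.Prime.dvd_of_dvd_pow Nat.prime_two h2p
      exact hp ((Nat.prime_dvd_prime_iff_eq Nat.prime_two hpp).1 h2p').symm
  · by_cases hNC : normalizer ((P : Subgroup G) : Set G) = centralizer ((P : Subgroup G) : Set G)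
    · exact Or.inl hNC
    right
    have hCN : centralizer ((P : Subgroup G) : Set G) ≤ normalizer ((P : Subgroup G) : Set G) :=
      centralizer_le_normalizer _
    have hnle : ¬ normalizer ((P : Subgroup G) : Set G) ≤ centralizer ((P : Subgroup G) : Set G) :=
      fun h => hNC (le_antisymm h hCN)
    obtain ⟨x₀, hx₀N, hx₀C⟩ := SetLike.not_le_iff_exists.1 hnle
    have hinvP : ∀ x ∈ normalizer ((P : Subgroup G) : Set G),
        x ∉ centralizer ((P : Subgroup G) : Set G) → ∀ u ∈ (P : Subgroup G), x * u * x⁻¹ = u⁻¹ :=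
      fun x hx hxc => (invert_of hp hL P P.isPGroup' x hx hxc).2
    constructor
    · rw [Subgroup.relIndex, Subgroup.index_eq_two_iff]
      refine ⟨⟨x₀, hx₀N⟩, fun b => ?_⟩
      by_cases hb : (b : G) ∈ centralizer ((P : Subgroup G) : Set G)
      · right
        refine ⟨mem_subgroupOf.2 hb, fun hcon => hx₀C ?_⟩
        have := mul_mem (inv_mem hb) (mem_subgroupOf.1 hcon)
        simpa using this
      · left
        refine ⟨mem_subgroupOf.2 ?_, fun h => hb (mem_subgroupOf.1 h)⟩
        rw [coe_mul, mem_centralizer_iff]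
        intro u hu
        have h1 := hinvP x₀ hx₀N hx₀C u hu
        have h2 := hinvP b b.2 hb u⁻¹ (inv_mem hu)
        rw [inv_inv] at h2
        have h1' : x₀ * u = u⁻¹ * x₀ := eq_mul_of_mul_inv_eq h1
        have h2' : (b : G) * u⁻¹ = u * b := eq_mul_of_mul_inv_eq h2
        show u * ((b : G) * x₀) = (b : G) * x₀ * u
        calc u * ((b : G) * x₀) = (u * b) * x₀ := (mul_assoc _ _ _).symm
          _ = ((b : G) * u⁻¹) * x₀ := by rw [h2']
          _ = (b : G) * (u⁻¹ * x₀) := mul_assoc _ _ _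
          _ = (b : G) * (x₀ * u) := by rw [h1']
          _ = (b : G) * x₀ * u := (mul_assoc _ _ _).symm
    · intro Q hQP hQcard
      have hQp : IsPGroup p Q := P.isPGroup'.to_le hQP
      have hQ1 : Q ≠ ⊥ := by
        rintro rfl
        rw [Subgroup.card_bot] at hQcard
        exact hpp.one_lt.ne' hQcard.symm
      have hx₀Q : ∀ u ∈ Q, x₀ * u * x₀⁻¹ = u⁻¹ := fun u hu => hinvP x₀ hx₀N hx₀C u (hQP hu)
      have hx₀NQ : x₀ ∈ normalizer (Q : Set G) := norm_of_invert hx₀Q
      have hx₀CQ : x₀ ∉ centralizer (Q : Set G) := not_cent_of_invert hp hQp hQ1 hx₀Q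
      have hCNQ : centralizer (Q : Set G) ≤ normalizer (Q : Set G) := centralizer_le_normalizer _
      have key : ∀ x : G, x ∈ Subgroup.normalizer (Q : Set G) → x ∉ Subgroup.centralizer (Q : Set G) →
            orderOf x = 2 ∧ ∀ c : G, c ∈ Subgroup.centralizer (Q : Set G) → x * c * x⁻¹ = c⁻¹ := by
        intro y hyN hyC
        obtain ⟨ho, -⟩ := invert_of hp hL Q hQp y hyN hyC
        refine ⟨ho, fun c hc => ?_⟩
        have hycN : y * c ∈ normalizer (Q : Set G) := mul_mem hyN (hCNQ hc)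
        have hycC : y * c ∉ centralizer (Q : Set G) := by
          intro h
          apply hyC
          have := mul_mem h (inv_mem hc)
          simpa using this
        obtain ⟨ho', -⟩ := invert_of hp hL Q hQp (y * c) hycN hycC
        have e1 : y * y = 1 := by
          have := pow_orderOf_eq_one y
          rwa [ho, pow_two] at this
        have e2 : (y * c) * (y * c) = 1 := by
          have := pow_orderOf_eq_one (y * c)
          rwa [ho', pow_two] at this
        have e3 : y⁻¹ = y := inv_eq_of_mul_eq_one_left e1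
        rw [e3]
        have e4 : y * c * y * c = 1 := by rw [← e2]; group
        exact eq_inv_of_mul_eq_one_left e4
      refine ⟨⟨⟨fun a b => ?_⟩⟩, key⟩
      obtain ⟨-, hinv⟩ := key x₀ hx₀NQ hx₀CQ
      have ha := hinv a a.2
      have hb := hinv b b.2
      have hab := hinv (a * b) (mul_mem a.2 b.2)
      apply Subtype.ext
      rw [coe_mul, coe_mul]
      have e : (a : G)⁻¹ * (b : G)⁻¹ = (b : G)⁻¹ * (a : G)⁻¹ := by
        calc (a : G)⁻¹ * (b : G)⁻¹ = (x₀ * a * x₀⁻¹) * (x₀ * b * x₀⁻¹) := by rw [ha, hb]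
          _ = x₀ * (a * b) * x₀⁻¹ := by group
          _ = ((a : G) * b)⁻¹ := hab
          _ = (b : G)⁻¹ * (a : G)⁻¹ := mul_inv_rev _ _
      have e' := congrArg (·⁻¹) e
      simp only [mul_inv_rev, inv_inv] at e'
      exact e'.symm

theorem cyclic_of_comm {K : Type*} [Group K] [Finite K] (hc : ∀ a b : K, a * b = b * a)
    (S : Subgroup K) [S.Normal] (hS : IsCyclic S) (hQ : IsCyclic (K ⧸ S))
    (hcop : (Nat.card S).Coprime S.index) : IsCyclic K := by
  letI : CommGroup K := { (inferInstance : Group K) with mul_comm := hc }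
  have hker : (QuotientGroup.mk' S).ker = S := QuotientGroup.ker_mk' S
  haveI : IsCyclic (QuotientGroup.mk' S).ker := by rw [hker]; exact hS
  refine Group.isCyclic_of_coprime_card_ker (QuotientGroup.mk' S) ?_ (QuotientGroup.mk'_surjective S)
  rw [hker]
  rwa [Subgroup.index] at hcop

theorem conj_mul_conj (g a b : G) : (g * a * g⁻¹) * (g * b * g⁻¹) = g * (a * b) * g⁻¹ := by
  group

theorem conj_comm_iff {g a b : G} :
    (g * a * g⁻¹) * (g * b * g⁻¹) = (g * b * g⁻¹) * (g * a * g⁻¹) ↔ a * b = b * a := by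
  rw [conj_mul_conj, conj_mul_conj]
  constructor
  · intro h
    exact mul_left_cancel (mul_right_cancel h)
  · intro h
    rw [h]

theorem orderOf_conj' (x a : G) : orderOf (x * a * x⁻¹) = orderOf a := by
  rw [← MulAut.conj_apply]
  exact MulEquiv.orderOf_eq _ _

theorem mem_cent_zpowers {z c : G} :
    c ∈ centralizer ((zpowers z : Subgroup G) : Set G) ↔ z * c = c * z := by
  rw [mem_centralizer_iff]
  constructor
  · intro h
    exact h z (mem_zpowers z)
  · intro h w hw
    obtain ⟨k, rfl⟩ := mem_zpowers_iff.1 hw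
    have hc : Commute z c := h
    exact (hc.zpow_left k).eq

theorem backward {p : ℕ} [Fact p.Prime] [Finite G] (P : Sylow p G)
    (hR : IsCyclic P ∧
      (Subgroup.normalizer ((P : Subgroup G) : Set G) = Subgroup.centralizer ((P : Subgroup G) : Set G) ∨
       ((Subgroup.centralizer ((P : Subgroup G) : Set G)).relIndex (Subgroup.normalizer ((P : Subgroup G) : Set G)) = 2 ∧
        ∀ Q : Subgroup G, Q ≤ P → Nat.card Q = p →
          IsMulCommutative ↥(Subgroup.centralizer (Q : Set G)) ∧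
          ∀ x : G, x ∈ Subgroup.normalizer (Q : Set G) → x ∉ Subgroup.centralizer (Q : Set G) →
            orderOf x = 2 ∧ ∀ c : G, c ∈ Subgroup.centralizer (Q : Set G) → x * c * x⁻¹ = c⁻¹)))
    (H : Subgroup G)
    (hSn : ∀ S : Sylow p ↥H, (S : Subgroup ↥H).Normal)
    (hSc : ∀ (S : Sylow p ↥H) [(S : Subgroup ↥H).Normal], IsCyclic (↥H ⧸ (S : Subgroup ↥H))) :
    IsCyclic H ∨ (∃ n : ℕ, Nonempty (H ≃* DihedralGroup (p ^ n))) := by
  have hpp : p.Prime := Fact.out
  obtain ⟨hPc, hR2⟩ := hR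
  obtain ⟨S⟩ : Nonempty (Sylow p ↥H) := inferInstance
  have hSnorm : (S : Subgroup ↥H).Normal := hSn S
  have hQc : IsCyclic (↥H ⧸ (S : Subgroup ↥H)) := hSc S
  have hS'p : IsPGroup p ((S : Subgroup ↥H).map H.subtype) := S.isPGroup'.map _
  obtain ⟨P'', hP''⟩ := hS'p.exists_le_sylow
  obtain ⟨g, hg⟩ := MulAction.exists_smul_eq G P'' P
  have hconj : ∀ s : ↥H, s ∈ (S : Subgroup ↥H) → g * (s : G) * g⁻¹ ∈ (P : Subgroup G) := by
    intro s hs
    have h1 : (s : G) ∈ (P'' : Subgroup G) := hP'' (mem_map_of_mem _ hs)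
    rw [← hg, Sylow.smul_def, Sylow.pointwise_smul_def]
    exact Subgroup.smul_mem_pointwise_smul _ _ _ h1
  -- S is cyclic
  have hScyc : IsCyclic ↥(S : Subgroup ↥H) := by
    let f : ↥(S : Subgroup ↥H) →* ↥(P : Subgroup G) :=
      { toFun := fun s => ⟨g * ((s : ↥H) : G) * g⁻¹, hconj s s.2⟩
        map_one' := by ext; simp
        map_mul' := by intro a b; ext; simp [mul_assoc] }
    have hf : Function.Injective f := by
      intro a b hab
      have h1 : g * ((a : ↥H) : G) * g⁻¹ = g * ((b : ↥H) : G) * g⁻¹ := congrArg Subtype.val hab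
      have h2 := mul_left_cancel (mul_right_cancel h1)
      exact Subtype.ext (Subtype.ext h2)
    exact isCyclic_of_injective f hf
  have hcop : (Nat.card (S : Subgroup ↥H)).Coprime (S : Subgroup ↥H).index := S.card_coprime_index
  rcases hR2 with hNC | ⟨-, hQ⟩
  · -- Burnside fusion: `H` centralizes `S`
    left
    haveI : IsMulCommutative ↥(P : Subgroup G) := ⟨⟨cyc_comm⟩⟩
    have hcent : ∀ h : ↥H, ∀ s ∈ (S : Subgroup ↥H), h * s = s * h := by
      intro h s hs
      have hx : g * (s : G) * g⁻¹ ∈ (P : Subgroup G) := hconj s hs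
      have hs' : h⁻¹ * s * h ∈ (S : Subgroup ↥H) := by
        have := hSnorm.conj_mem s hs h⁻¹
        rwa [inv_inv] at this
      have hy : (g * (h : G) * g⁻¹)⁻¹ * (g * (s : G) * g⁻¹) * (g * (h : G) * g⁻¹) ∈ (P : Subgroup G) := by
        have := hconj _ hs'
        have e : (g * (h : G) * g⁻¹)⁻¹ * (g * (s : G) * g⁻¹) * (g * (h : G) * g⁻¹)
            = g * ((h⁻¹ * s * h : ↥H) : G) * g⁻¹ := by
          simp only [coe_mul, coe_inv]
          group
        rw [e]
        exact this
      obtain ⟨n, hn, hne⟩ := P.conj_eq_normalizer_conj_of_mem _ _ hx hy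
      have hn2 : n ∈ normalizer ((P : Subgroup G) : Set G) := hn
      rw [hNC] at hn2
      have hn' : (g * (s : G) * g⁻¹) * n = n * (g * (s : G) * g⁻¹) := (mem_centralizer_iff.1 hn2) _ hx
      have e2 : n⁻¹ * (g * (s : G) * g⁻¹) * n = g * (s : G) * g⁻¹ := by
        rw [mul_assoc, hn', ← mul_assoc, inv_mul_cancel, one_mul]
      rw [e2] at hne
      -- (ghg⁻¹)⁻¹ (gsg⁻¹) (ghg⁻¹) = gsg⁻¹
      have e3 : (g * (s : G) * g⁻¹) * (g * (h : G) * g⁻¹) = (g * (h : G) * g⁻¹) * (g * (s : G) * g⁻¹) := by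
        calc (g * (s : G) * g⁻¹) * (g * (h : G) * g⁻¹)
            = (g * (h : G) * g⁻¹) * ((g * (h : G) * g⁻¹)⁻¹ * (g * (s : G) * g⁻¹) * (g * (h : G) * g⁻¹)) := by
              simp only [mul_assoc, mul_inv_cancel_left]
          _ = (g * (h : G) * g⁻¹) * (g * (s : G) * g⁻¹) := by rw [hne]
      have e4 := conj_comm_iff.1 e3
      exact Subtype.ext e4.symm
    have hcomm : ∀ a b : ↥H, a * b = b * a := by
      have hmc : IsMulCommutative ↥H := by
        apply MonoidHom.isMulCommutative_of_isCyclic_of_ker_le_center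
          (QuotientGroup.mk' (S : Subgroup ↥H))
        rw [QuotientGroup.ker_mk']
        intro s hs
        rw [Subgroup.mem_center_iff]
        intro h
        exact hcent h s hs
      exact hmc.is_comm.comm
    exact cyclic_of_comm hcomm (S : Subgroup ↥H) hScyc hQc hcop
  · by_cases hS1 : (S : Subgroup ↥H) = ⊥
    · left
      apply isCyclic_of_injective (QuotientGroup.mk' (S : Subgroup ↥H))
      rw [← MonoidHom.ker_eq_bot_iff, QuotientGroup.ker_mk', hS1]
    -- an element `z` of order `p` in `S`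
    obtain ⟨k, hk⟩ := S.isPGroup'.exists_card_eq
    have hk0 : k ≠ 0 := by
      rintro rfl
      rw [pow_zero] at hk
      exact hS1 ((S : Subgroup ↥H).eq_bot_of_card_eq hk)
    have hpdvd : p ∣ Nat.card ↥(S : Subgroup ↥H) := by rw [hk]; exact dvd_pow_self p hk0
    obtain ⟨z', hz'⟩ := exists_prime_orderOf_dvd_card' p hpdvd
    obtain ⟨z, hzS⟩ := z'
    have hzo : orderOf z = p := by
      rw [← hz']; exact (Subgroup.orderOf_mk z hzS).symm
    have hzGo : orderOf (z : G) = p := by rw [Subgroup.orderOf_coe]; exact hzo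
    have hz₀P : g * (z : G) * g⁻¹ ∈ (P : Subgroup G) := hconj z hzS
    have hz₀o : orderOf (g * (z : G) * g⁻¹) = p := by rw [orderOf_conj']; exact hzGo
    have hQP : zpowers (g * (z : G) * g⁻¹) ≤ (P : Subgroup G) := by rw [zpowers_le]; exact hz₀P
    have hQcard : Nat.card (zpowers (g * (z : G) * g⁻¹)) = p := by rw [Nat.card_zpowers, hz₀o]
    obtain ⟨hab, hinv⟩ := hQ _ hQP hQcard
    -- membership of conjugates in the centralizer
    have hmemC : ∀ h : ↥H, g * (h : G) * g⁻¹ ∈ centralizer ((zpowers (g * (z : G) * g⁻¹) : Subgroup G) : Set G)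
        ↔ z * h = h * z := by
      intro h
      rw [mem_cent_zpowers, conj_comm_iff]
      constructor
      · intro e; exact Subtype.ext e
      · intro e; exact congrArg Subtype.val e
    -- every element of `H` normalizes `⟨z⟩`
    have hzpow : ∀ h : ↥H, ∃ m : ℤ, h * z * h⁻¹ = z ^ m := by
      intro h
      have h1 : zpowers (h * z * h⁻¹) ≤ (S : Subgroup ↥H) := by
        rw [zpowers_le]; exact hSnorm.conj_mem z hzS h
      have h2 : zpowers z ≤ (S : Subgroup ↥H) := by rw [zpowers_le]; exact hzS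
      have h3 : Nat.card (zpowers (h * z * h⁻¹)) = Nat.card (zpowers z) := by
        rw [Nat.card_zpowers, Nat.card_zpowers, orderOf_conj']
      have h4 := Cfsg.Agent.Lib.Helper20.subgroup_eq_of_le_cyclic (S : Subgroup ↥H) _ _ h1 h2 h3
      have h5 : h * z * h⁻¹ ∈ zpowers z := by rw [← h4]; exact mem_zpowers _
      obtain ⟨m, hm⟩ := mem_zpowers_iff.1 h5
      exact ⟨m, hm.symm⟩
    have hmemN : ∀ h : ↥H, g * (h : G) * g⁻¹ ∈ normalizer ((zpowers (g * (z : G) * g⁻¹) : Subgroup G) : Set G) := by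
      intro h
      apply mem_normalizer_fintype
      intro n hn
      obtain ⟨i, rfl⟩ := mem_zpowers_iff.1 hn
      obtain ⟨m, hm⟩ := hzpow h
      have hm' : (h : G) * z * (h : G)⁻¹ = (z : G) ^ m := by
        have := congrArg Subtype.val hm
        simpa using this
      have e0 : g * (h : G) * g⁻¹ * (g * (z : G) * g⁻¹) * (g * (h : G) * g⁻¹)⁻¹
          = (g * (z : G) * g⁻¹) ^ m := by
        rw [conj_zpow, ← hm']
        simp only [mul_inv_rev, inv_inv, mul_assoc, inv_mul_cancel_left]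
      have e : g * (h : G) * g⁻¹ * (g * (z : G) * g⁻¹) ^ i * (g * (h : G) * g⁻¹)⁻¹
          = ((g * (z : G) * g⁻¹) ^ m) ^ i := by
        rw [← e0]
        exact conj_zpow.symm
      show g * (h : G) * g⁻¹ * (g * (z : G) * g⁻¹) ^ i * (g * (h : G) * g⁻¹)⁻¹ ∈ zpowers (g * (z : G) * g⁻¹)
      rw [e]
      exact zpow_mem (zpow_mem (mem_zpowers _) m) i
    by_cases hall : ∀ h : ↥H, z * h = h * z
    · -- `H` is abelian
      left
      have hcomm : ∀ a b : ↥H, a * b = b * a := by
        intro a b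
        have ha := (hmemC a).2 (hall a)
        have hb := (hmemC b).2 (hall b)
        have h1 := hab.is_comm.comm (⟨_, ha⟩ : ↥(centralizer ((zpowers (g * (z : G) * g⁻¹) : Subgroup G) : Set G))) ⟨_, hb⟩
        have h2 : (g * (a : G) * g⁻¹) * (g * (b : G) * g⁻¹) = (g * (b : G) * g⁻¹) * (g * (a : G) * g⁻¹) :=
          congrArg Subtype.val h1
        exact Subtype.ext (conj_comm_iff.1 h2)
      exact cyclic_of_comm hcomm (S : Subgroup ↥H) hScyc hQc hcop
    · right
      push Not at hall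
      obtain ⟨t, ht⟩ := hall
      have hprop : ∀ h : ↥H, z * h ≠ h * z →
          h * h = 1 ∧ ∀ c : ↥H, z * c = c * z → h * c * h⁻¹ = c⁻¹ := by
        intro h hh
        obtain ⟨ho, hi⟩ := hinv _ (hmemN h) (fun hc => hh ((hmemC h).1 hc))
        constructor
        · have e1 : (g * (h : G) * g⁻¹) ^ 2 = 1 := by rw [← ho]; exact pow_orderOf_eq_one _
          rw [conj_pow] at e1
          have e2 : (h : G) ^ 2 = 1 := by
            have := congrArg (fun w => g⁻¹ * w * g) e1
            simpa [mul_assoc] using this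
          apply Subtype.ext
          rw [coe_mul, ← pow_two, e2]; rfl
        · intro c hc
          have e1 := hi _ ((hmemC c).2 hc)
          have e2 : g * ((h : G) * c * (h : G)⁻¹) * g⁻¹ = g * (c : G)⁻¹ * g⁻¹ := by
            simp only [mul_inv_rev, inv_inv, mul_assoc, inv_mul_cancel_left] at e1 ⊢
            exact e1
          have e3 := mul_left_cancel (mul_right_cancel e2)
          apply Subtype.ext
          simpa using e3
      obtain ⟨htt, htinv⟩ := hprop t ht
      -- elements of `S` commute with `z`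
      have hSC : ∀ s ∈ (S : Subgroup ↥H), z * s = s * z := by
        intro s hs
        have := cyc_comm (⟨z, hzS⟩ : ↥(S : Subgroup ↥H)) ⟨s, hs⟩
        exact congrArg Subtype.val this
      have htS : t ∉ (S : Subgroup ↥H) := fun h => ht (hSC t h)
      -- the centralizer of `z` in `H` is `S`
      have hCS : ∀ c : ↥H, z * c = c * z → c ∈ (S : Subgroup ↥H) := by
        intro c hc
        by_contra hcS
        have hc1 : (QuotientGroup.mk c : ↥H ⧸ (S : Subgroup ↥H)) ≠ 1 := by
          rwa [Ne, QuotientGroup.eq_one_iff]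
        have ht1 : (QuotientGroup.mk t : ↥H ⧸ (S : Subgroup ↥H)) ≠ 1 := by
          rwa [Ne, QuotientGroup.eq_one_iff]
        have htt' : (QuotientGroup.mk t : ↥H ⧸ (S : Subgroup ↥H)) * QuotientGroup.mk t = 1 := by
          rw [← QuotientGroup.mk_mul, htt]; rfl
        have e1 := htinv c hc
        have e2 : (QuotientGroup.mk t : ↥H ⧸ (S : Subgroup ↥H)) * QuotientGroup.mk c
            * (QuotientGroup.mk t)⁻¹ = (QuotientGroup.mk c)⁻¹ := by
          rw [← QuotientGroup.mk_inv, ← QuotientGroup.mk_mul, ← QuotientGroup.mk_mul, e1,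
            QuotientGroup.mk_inv]
        have e3 : (QuotientGroup.mk t : ↥H ⧸ (S : Subgroup ↥H)) * QuotientGroup.mk c
            = QuotientGroup.mk c * QuotientGroup.mk t := cyc_comm _ _
        rw [e3, mul_inv_cancel_right] at e2
        have hcc' : (QuotientGroup.mk c : ↥H ⧸ (S : Subgroup ↥H)) * QuotientGroup.mk c = 1 := by
          nth_rewrite 2 [e2]
          exact mul_inv_cancel _
        have e4 := invol_unique _ _ hcc' htt' hc1 ht1
        have e5 : c⁻¹ * t ∈ (S : Subgroup ↥H) := QuotientGroup.eq.1 e4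
        have e6 := hSC _ e5
        apply ht
        have hc' : z * c⁻¹ = c⁻¹ * z := by
          have : Commute z c := hc
          exact this.inv_right.eq
        have e7 : c⁻¹ * (z * t) = c⁻¹ * (t * z) := by
          calc c⁻¹ * (z * t) = (c⁻¹ * z) * t := (mul_assoc _ _ _).symm
            _ = (z * c⁻¹) * t := by rw [hc']
            _ = z * (c⁻¹ * t) := mul_assoc _ _ _
            _ = (c⁻¹ * t) * z := e6
            _ = c⁻¹ * (t * z) := mul_assoc _ _ _
        exact mul_left_cancel e7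
      -- index two
      have hidx : (S : Subgroup ↥H).index = 2 := by
        rw [Subgroup.index_eq_two_iff]
        refine ⟨t, fun b => ?_⟩
        by_cases hb : b ∈ (S : Subgroup ↥H)
        · right
          refine ⟨hb, fun h => htS ?_⟩
          have := mul_mem (inv_mem hb) h
          simpa using this
        · left
          refine ⟨?_, hb⟩
          have hbz : z * b ≠ b * z := fun h => hb (hCS b h)
          obtain ⟨-, hbinv⟩ := hprop b hbz
          have e1 := htinv z rfl
          have e2 := hbinv z⁻¹ (by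
            have : Commute z z := Commute.refl z
            exact this.inv_right.eq)
          rw [inv_inv] at e2
          apply hCS
          -- z * (b * t) = (b * t) * z
          have e3 : t * z = z⁻¹ * t := eq_mul_of_mul_inv_eq e1
          have e4 : b * z⁻¹ = z * b := eq_mul_of_mul_inv_eq e2
          calc z * (b * t) = (z * b) * t := (mul_assoc _ _ _).symm
            _ = (b * z⁻¹) * t := by rw [e4]
            _ = b * (z⁻¹ * t) := mul_assoc _ _ _
            _ = b * (t * z) := by rw [e3]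
            _ = b * t * z := (mul_assoc _ _ _).symm
      -- a generator of `S`
      obtain ⟨⟨a, haS⟩, hgen⟩ := IsCyclic.exists_generator (α := ↥(S : Subgroup ↥H))
      have hzp : zpowers a = (S : Subgroup ↥H) := by
        apply le_antisymm
        · rw [zpowers_le]; exact haS
        · intro s hs
          obtain ⟨i, hi⟩ := mem_zpowers_iff.1 (hgen ⟨s, hs⟩)
          rw [mem_zpowers_iff]
          refine ⟨i, ?_⟩
          have := congrArg Subtype.val hi
          simpa using this
      have haz : z * a = a * z := hSC a haS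
      have hord : orderOf a = p ^ k := by
        rw [← Nat.card_zpowers, hzp, hk]
      have hres := Cfsg.Agent.Lib.Helper78.nonempty_equiv_dihedral a t
        (by rw [hzp]; exact hidx) (by rw [hzp]; exact htS) htt (htinv a haz)
      rw [hord] at hres
      exact ⟨k, hres⟩

/-- Let p be an odd prime and G a finite group with Sylow p-subgroup P. Say that G has restricted p-by-cyclic subgroups when every subgroup H of G whose Sylow p-subgroup is normal in H with cyclic quotient is itself cyclic or dihedral of order 2pⁿ for some n. Then G has restricted p-by-cyclic subgroups if and only if P is cyclic and one of the following holds: (1) N_G(P) = C_G(P); or (2) N_G(P)/C_G(P) has order 2 and, for the subgroup Q of order p of P, the centralizer C_G(Q) is abelian and every element of N_G(Q) outside C_G(Q) is an involution inverting every element of C_G(Q). -/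
theorem result {G : Type*} [Group G] [Finite G] {p : ℕ}
    [Fact p.Prime] (hp : p ≠ 2) (P : Sylow p G) :
    (∀ H : Subgroup G, (∀ S : Sylow p ↥H, (S : Subgroup ↥H).Normal) →
        (∀ (S : Sylow p ↥H) [(S : Subgroup ↥H).Normal], IsCyclic (↥H ⧸ (S : Subgroup ↥H))) →
        IsCyclic H ∨ (∃ n : ℕ, Nonempty (H ≃* DihedralGroup (p ^ n)))) ↔
    (IsCyclic P ∧
      (Subgroup.normalizer ((P : Subgroup G) : Set G) = Subgroup.centralizer ((P : Subgroup G) : Set G) ∨
       ((Subgroup.centralizer ((P : Subgroup G) : Set G)).relIndex (Subgroup.normalizer ((P : Subgroup G) : Set G)) = 2 ∧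
        ∀ Q : Subgroup G, Q ≤ P → Nat.card Q = p →
          IsMulCommutative ↥(Subgroup.centralizer (Q : Set G)) ∧
          ∀ x : G, x ∈ Subgroup.normalizer (Q : Set G) → x ∉ Subgroup.centralizer (Q : Set G) →
            orderOf x = 2 ∧ ∀ c : G, c ∈ Subgroup.centralizer (Q : Set G) → x * c * x⁻¹ = c⁻¹))) := by
  exact ⟨forward hp P, fun hR H hSn hSc => backward P hR H hSn hSc⟩

end Cfsg.Agent.S4082
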