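import Cfsg.Statements.S4083
import Cfsg.Agent.S0228
import Cfsg.Agent.Lib.Helper19.Recog
import Cfsg.Agent.Lib.Helper59.KleinSelfCent
import Cfsg.Agent.Lib.Helper59.AutTwoGroup
import Cfsg.Agent.Lib.Helper12.DihedralLike
import Cfsg.Agent.Lib.Helper23.SylowEmbed

set_option autoImplicit false
open Cfsg

namespace Cfsg.Agent.S4083

open Subgroup
open scoped Pointwise

theorem fact2 : Fact (Nat.Prime 2) := ⟨Nat.prime_two⟩
attribute [local instance] fact2

section abstract

variable {H : Type*} [Group H] [Finite H]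

/-- A normal Sylow 2-subgroup with cyclic quotient has a cyclic complement of odd order. -/
theorem exists_odd_complement (S : Sylow 2 H) [(S : Subgroup H).Normal]
    (hq : IsCyclic (H ⧸ (S : Subgroup H))) :
    ∃ K : Subgroup H, Subgroup.IsComplement' (S : Subgroup H) K ∧ IsCyclic K ∧
      ¬ 2 ∣ Nat.card K := by
  have hidx : ¬ 2 ∣ (S : Subgroup H).index := S.not_dvd_index
  have hcop : (Nat.card (S : Subgroup H)).Coprime (S : Subgroup H).index := by
    obtain ⟨k, hk⟩ := IsPGroup.iff_card.mp S.isPGroup'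
    rw [hk]
    exact Nat.Coprime.pow_left k ((Nat.Prime.coprime_iff_not_dvd Nat.prime_two).mpr hidx)
  obtain ⟨K, hK⟩ := Subgroup.exists_right_complement'_of_coprime hcop
  refine ⟨K, hK, ?_, ?_⟩
  · have e : H ⧸ (S : Subgroup H) ≃* K := hK.symm.QuotientMulEquiv
    exact isCyclic_of_surjective e e.surjective
  · have h1 := hK.symm.index_eq_card
    rw [← h1]
    exact hidx

theorem odd_orderOf_of_mem {K : Subgroup H} (hK : ¬ 2 ∣ Nat.card K) {k : H} (hk : k ∈ K) :
    Odd (orderOf k) := by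
  rw [← Nat.not_even_iff_odd, even_iff_two_dvd]
  intro h
  exact hK (h.trans (Subgroup.orderOf_dvd_natCard K hk))

/-- If the normal Sylow 2-subgroup is cyclic and the quotient is cyclic, the group is cyclic. -/
theorem isCyclic_of_cyclic_sylow (S : Sylow 2 H) [(S : Subgroup H).Normal]
    (hS : IsCyclic ↥(S : Subgroup H)) (hq : IsCyclic (H ⧸ (S : Subgroup H))) : IsCyclic H := by
  obtain ⟨K, hK, hKc, hKodd⟩ := exists_odd_complement S hq
  obtain ⟨s, hs⟩ := IsCyclic.exists_ofOrder_eq_natCard (α := ↥(S : Subgroup H))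
  obtain ⟨k, hk⟩ := IsCyclic.exists_ofOrder_eq_natCard (α := ↥K)
  have hkodd : Odd (orderOf (k : H)) := odd_orderOf_of_mem hKodd k.2
  have hkn : (k : H) ∈ normalizer ((S : Subgroup H) : Set H) := by
    rw [Subgroup.normalizer_eq_top]; trivial
  have hkc := Lib.Helper12.centralizes_cyclic_two_group hS S.isPGroup' hkn hkodd
  have hcomm : Commute (s : H) (k : H) := by
    rw [Subgroup.mem_centralizer_iff] at hkc
    exact hkc s s.2
  have hos : orderOf (s : H) = Nat.card (S : Subgroup H) := by rw [Subgroup.orderOf_coe, hs]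
  have hok : orderOf (k : H) = Nat.card K := by rw [Subgroup.orderOf_coe, hk]
  have hcop : (orderOf (s : H)).Coprime (orderOf (k : H)) := by
    rw [hos, hok]
    obtain ⟨j, hj⟩ := IsPGroup.iff_card.mp S.isPGroup'
    rw [hj]
    exact Nat.Coprime.pow_left j ((Nat.Prime.coprime_iff_not_dvd Nat.prime_two).mpr hKodd)
  have hord := hcomm.orderOf_mul_eq_mul_orderOf_of_coprime hcop
  rw [hos, hok, hK.card_mul_card] at hord
  exact isCyclic_of_orderOf_eq_card _ hord

theorem dih_r_mem (m : ℕ) (i : ZMod m) :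
    DihedralGroup.r i ∈ Subgroup.zpowers (DihedralGroup.r (1 : ZMod m)) := by
  rw [Subgroup.mem_zpowers_iff]
  cases m with
  | zero =>
    refine ⟨(show ℤ from i), ?_⟩
    rw [DihedralGroup.r_one_zpow]
    congr 1
  | succ n =>
    refine ⟨((ZMod.val i : ℕ) : ℤ), ?_⟩
    rw [DihedralGroup.r_one_zpow]
    congr 1
    simp

/-- The rotation subgroup of a dihedral group. -/
theorem dih_sq_of_notMem (m : ℕ) (d : DihedralGroup m)
    (hd : d ∉ Subgroup.zpowers (DihedralGroup.r (1 : ZMod m))) : d * d = 1 := by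
  cases d with
  | r i => exact absurd (dih_r_mem m i) hd
  | sr i => exact DihedralGroup.sr_mul_self i

theorem dih_mul_mem (m : ℕ) (d d' : DihedralGroup m)
    (hd : d ∉ Subgroup.zpowers (DihedralGroup.r (1 : ZMod m)))
    (hd' : d' ∉ Subgroup.zpowers (DihedralGroup.r (1 : ZMod m))) :
    d * d' ∈ Subgroup.zpowers (DihedralGroup.r (1 : ZMod m)) := by
  have hr := dih_r_mem m
  cases d with
  | r i => exact absurd (hr i) hd
  | sr i =>
    cases d' with
    | r j => exact absurd (hr j) hd'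
    | sr j =>
      rw [DihedralGroup.sr_mul_sr]
      exact hr _

omit [Finite H] in
/-- A subgroup embedded in a dihedral group is "dihedral-like". -/
theorem exists_dihedralLike (S : Subgroup H) (m : ℕ) (f : ↥S →* DihedralGroup m)
    (hf : Function.Injective f) :
    ∃ R₀ : Subgroup H, R₀ ≤ S ∧ IsCyclic ↥R₀ ∧ (∀ x ∈ S, x ∉ R₀ → x * x = 1) ∧
      (∀ x ∈ S, x ∉ R₀ → ∀ y ∈ S, y ∉ R₀ → x * y ∈ R₀) := by
  set Rot := Subgroup.zpowers (DihedralGroup.r (1 : ZMod m)) with hRot
  set R₀ : Subgroup H := (Rot.comap f).map S.subtype with hR₀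
  have hmem : ∀ x : H, ∀ hx : x ∈ S, (x ∈ R₀ ↔ f ⟨x, hx⟩ ∈ Rot) := by
    intro x hx
    rw [hR₀, Subgroup.mem_map]
    constructor
    · rintro ⟨y, hy, hyx⟩
      have : y = ⟨x, hx⟩ := Subtype.ext hyx
      rw [← this]
      exact hy
    · intro h
      exact ⟨⟨x, hx⟩, h, rfl⟩
  have hle : R₀ ≤ S := by
    rw [hR₀]
    rintro _ ⟨y, -, rfl⟩
    exact y.2
  refine ⟨R₀, hle, ?_, ?_, ?_⟩
  · -- cyclic: embeds in `Rot`
    let g : ↥R₀ →* ↥Rot := MonoidHom.codRestrict (f.comp (Subgroup.inclusion hle)) Rot (by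
      intro x
      have := (hmem x.1 (hle x.2)).mp x.2
      exact this)
    have hg : Function.Injective g := by
      intro x y hxy
      have h1 : f (Subgroup.inclusion hle x) = f (Subgroup.inclusion hle y) :=
        congrArg Subtype.val hxy
      exact Subgroup.inclusion_injective hle (hf h1)
    exact isCyclic_of_injective g hg
  · intro x hx hxR
    have h1 : f ⟨x, hx⟩ ∉ Rot := fun h => hxR ((hmem x hx).mpr h)
    have h2 := dih_sq_of_notMem m _ h1
    rw [← map_mul, ← map_one f] at h2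
    have h3 := hf h2
    exact congrArg Subtype.val h3
  · intro x hx hxR y hy hyR
    have h1 : f ⟨x, hx⟩ ∉ Rot := fun h => hxR ((hmem x hx).mpr h)
    have h2 : f ⟨y, hy⟩ ∉ Rot := fun h => hyR ((hmem y hy).mpr h)
    have h3 := dih_mul_mem m _ _ h1 h2
    rw [← map_mul] at h3
    exact (hmem (x * y) (S.mul_mem hx hy)).mpr h3

end abstract

section four

variable {H : Type*} [Group H]

/-- The four-group generated by two commuting involutions. -/
def four (z b : H) (hz : z * z = 1) (hb : b * b = 1) (hzb : z * b = b * z) : Subgroup H where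
  carrier := {x | x = 1 ∨ x = z ∨ x = b ∨ x = z * b}
  one_mem' := Or.inl rfl
  mul_mem' := by
    intro x y hx hy
    have e1 : z * (z * b) = b := by rw [← mul_assoc, hz, one_mul]
    have e2 : b * (z * b) = z := by rw [← mul_assoc, ← hzb, mul_assoc, hb, mul_one]
    have e3 : z * b * z = b := by rw [mul_assoc, ← hzb, ← mul_assoc, hz, one_mul]
    have e4 : z * b * b = z := by rw [mul_assoc, hb, mul_one]
    have e5 : z * b * (z * b) = 1 := by rw [mul_assoc, e2, hz]
    rcases hx with rfl | hx'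
    · rw [one_mul]; exact hy
    rcases hy with rfl | hy'
    · rw [mul_one]; exact Or.inr hx'
    rcases hx' with h | h | h <;> rcases hy' with h' | h' | h' <;> rw [h, h']
    · exact Or.inl hz
    · exact Or.inr (Or.inr (Or.inr rfl))
    · exact Or.inr (Or.inr (Or.inl e1))
    · exact Or.inr (Or.inr (Or.inr hzb.symm))
    · exact Or.inl hb
    · exact Or.inr (Or.inl e2)
    · exact Or.inr (Or.inr (Or.inl e3))
    · exact Or.inr (Or.inl e4)
    · exact Or.inl e5
  inv_mem' := by
    intro x hx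
    have e2 : b * (z * b) = z := by rw [← mul_assoc, ← hzb, mul_assoc, hb, mul_one]
    have hxx : x * x = 1 := by
      rcases hx with h | h | h | h <;> rw [h]
      · exact one_mul 1
      · exact hz
      · exact hb
      · rw [mul_assoc, e2, hz]
    rw [inv_eq_of_mul_eq_one_right hxx]
    exact hx

theorem mem_four (z b : H) (hz : z * z = 1) (hb : b * b = 1) (hzb : z * b = b * z) (x : H) :
    x ∈ four z b hz hb hzb ↔ x = 1 ∨ x = z ∨ x = b ∨ x = z * b := Iff.rfl

theorem four_sq (z b : H) (hz : z * z = 1) (hb : b * b = 1) (hzb : z * b = b * z) (x : H)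
    (hx : x ∈ four z b hz hb hzb) : x * x = 1 := by
  have e2 : b * (z * b) = z := by rw [← mul_assoc, ← hzb, mul_assoc, hb, mul_one]
  rcases hx with h | h | h | h <;> rw [h]
  · exact one_mul 1
  · exact hz
  · exact hb
  · rw [mul_assoc, e2, hz]

theorem four_card (z b : H) (hz : z * z = 1) (hb : b * b = 1) (hzb : z * b = b * z)
    (hz1 : z ≠ 1) (hb1 : b ≠ 1) (hne : z ≠ b) : Nat.card (four z b hz hb hzb) = 4 := by
  classical
  have hzb1 : z * b ≠ 1 := fun h => hne (by
    have h1 : z = b⁻¹ := eq_inv_of_mul_eq_one_left h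
    rw [h1, inv_eq_of_mul_eq_one_right hb])
  have hzbz : z * b ≠ z := fun h => hb1 (by simpa using h)
  have hzbb : z * b ≠ b := fun h => hz1 (by simpa using h)
  have hset : ((four z b hz hb hzb : Subgroup H) : Set H) =
      ((({1, z, b, z * b} : Finset H)) : Set H) := by
    ext x
    simp [mem_four]
  have h0 : Nat.card (four z b hz hb hzb) =
      Nat.card (((four z b hz hb hzb : Subgroup H) : Set H)) := rfl
  rw [h0, hset, Nat.card_coe_set_eq, Set.ncard_coe_finset]
  rw [Finset.card_insert_of_notMem, Finset.card_insert_of_notMem, Finset.card_insert_of_notMem,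
    Finset.card_singleton]
  · simp [hzbb.symm]
  · simp [hne, hzbz.symm]
  · simp [hz1.symm, hb1.symm, hzb1.symm]

end four

section lemmaM

variable {H : Type*} [Group H] [Finite H]

theorem mem_of_sq_eq_one (S : Sylow 2 H) [hSn : (S : Subgroup H).Normal] (x : H)
    (hx : x * x = 1) : x ∈ (S : Subgroup H) := by
  have hd : orderOf x ∣ 2 := orderOf_dvd_of_pow_eq_one (by rw [pow_two]; exact hx)
  have hps : IsPGroup 2 (Subgroup.zpowers x) := by
    rcases (Nat.dvd_prime Nat.prime_two).mp hd with h | h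
    · exact IsPGroup.of_card (n := 0) (by rw [Nat.card_zpowers, h, pow_zero])
    · exact IsPGroup.of_card (n := 1) (by rw [Nat.card_zpowers, h, pow_one])
  obtain ⟨Q, hQ⟩ := hps.exists_le_sylow
  haveI := Sylow.unique_of_normal S hSn
  have : Q = S := Subsingleton.elim _ _
  rw [← this]
  exact hQ (Subgroup.mem_zpowers x)

theorem lemmaM (S : Sylow 2 H) [hSn : (S : Subgroup H).Normal]
    (hq : IsCyclic (H ⧸ (S : Subgroup H)))
    (R₀ : Subgroup H) (hR₀S : R₀ ≤ S) (hcyc : IsCyclic ↥R₀)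
    (h2 : ∀ x ∈ (S : Subgroup H), x ∉ R₀ → x * x = 1)
    (h3 : ∀ x ∈ (S : Subgroup H), x ∉ R₀ → ∀ y ∈ (S : Subgroup H), y ∉ R₀ → x * y ∈ R₀)
    (ksc : ∀ V : Subgroup H, V ≤ S → Nat.card V = 4 → (∀ v ∈ V, v * v = 1) →
       ∀ x : H, (∀ v ∈ V, x * v = v * x) → x ∈ V) :
    IsCyclic H ∨ (∃ n : ℕ, Nonempty (H ≃* DihedralGroup (2 ^ n))) ∨
      Nonempty (H ≃* alternatingGroup (Fin 4)) := by
  classical
  by_cases hSR : (S : Subgroup H) ≤ R₀
  · left
    have hSeq : (S : Subgroup H) = R₀ := le_antisymm hSR hR₀S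
    have hSc : IsCyclic ↥(S : Subgroup H) := by rw [hSeq]; exact hcyc
    exact isCyclic_of_cyclic_sylow S hSc hq
  obtain ⟨b, hbS, hbR⟩ := SetLike.not_le_iff_exists.mp hSR
  have hbb : b * b = 1 := h2 b hbS hbR
  have hb1 : b ≠ 1 := fun h => hbR (h ▸ R₀.one_mem)
  -- the index-two subgroup
  set Y : Subgroup ↥(S : Subgroup H) := R₀.subgroupOf S with hY
  have eY : ↥Y ≃* ↥R₀ := Subgroup.subgroupOfEquivOfLe hR₀S
  haveI : IsCyclic ↥Y := isCyclic_of_surjective eY.symm eY.symm.surjective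
  have hcardY : Nat.card Y = Nat.card R₀ := Nat.card_congr eY.toEquiv
  have hmemY : ∀ x : ↥(S : Subgroup H), x ∈ Y ↔ (x : H) ∈ R₀ := fun x => Subgroup.mem_subgroupOf
  have hi : Y.index = 2 := by
    rw [Subgroup.index_eq_two_iff]
    refine ⟨⟨b, hbS⟩, fun x => ?_⟩
    rw [hmemY, hmemY]
    by_cases hx : (x : H) ∈ R₀
    · refine Or.inr ⟨hx, fun hxb => hbR ?_⟩
      have : b = (x : H)⁻¹ * ((x : H) * b) := by group
      rw [this]; exact R₀.mul_mem (R₀.inv_mem hx) hxb
    · exact Or.inl ⟨h3 _ x.2 hx b hbS hbR, hx⟩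
  have hinv : ∀ g : ↥(S : Subgroup H), g ∉ Y → g ^ 2 = 1 := by
    intro g hg
    rw [hmemY] at hg
    apply Subtype.ext
    rw [pow_two]
    exact h2 _ g.2 hg
  obtain ⟨eS⟩ := Lib.Helper19.Recog.dihedral_of_index_two Y hi hinv
  rw [hcardY] at eS
  obtain ⟨j, hj⟩ := IsPGroup.iff_card.mp (S.isPGroup'.to_le hR₀S)
  have hcardS : Nat.card (S : Subgroup H) = 2 * Nat.card R₀ := by
    rw [← Subgroup.card_mul_index Y, hi, hcardY, mul_comm]
  obtain ⟨K, hK, hKc, hKodd⟩ := exists_odd_complement S hq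
  -- when K is trivial
  have hKbot : K = ⊥ → ∃ n : ℕ, Nonempty (H ≃* DihedralGroup (2 ^ n)) := by
    intro hKb
    rw [hKb, Subgroup.isComplement'_bot_right] at hK
    refine ⟨j, ⟨?_⟩⟩
    rw [← hj]
    exact (Subgroup.topEquiv.symm.trans (MulEquiv.subgroupCongr hK.symm)).trans eS
  rcases Nat.eq_zero_or_pos j with hj0 | hjpos
  · left
    rw [hj0, pow_zero] at hj
    rw [hj, mul_one] at hcardS
    have hSc : IsCyclic ↥(S : Subgroup H) := isCyclic_of_prime_card (p := 2) hcardS
    exact isCyclic_of_cyclic_sylow S hSc hq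
  have h2R : 2 ∣ Nat.card R₀ := by rw [hj]; exact dvd_pow_self 2 hjpos.ne'
  obtain ⟨⟨z, hzR⟩, hz⟩ := exists_prime_orderOf_dvd_card' 2 h2R
  have hzo : orderOf z = 2 := by rw [← hz, Subgroup.orderOf_mk]
  have hzz : z * z = 1 := by rw [← pow_two, ← hzo]; exact pow_orderOf_eq_one z
  have hz1 : z ≠ 1 := by intro h; rw [h, orderOf_one] at hzo; omega
  have hzS : z ∈ (S : Subgroup H) := hR₀S hzR
  have hzb : z ≠ b := fun h => hbR (h ▸ hzR)
  have hbz : b * z ∉ R₀ := by
    intro h
    apply hbR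
    have : b = (b * z) * z⁻¹ := by group
    rw [this]; exact R₀.mul_mem h (R₀.inv_mem hzR)
  have hbzbz := h2 (b * z) (Subgroup.mul_mem _ hbS hzS) hbz
  have hcomm : z * b = b * z := by
    have h1 : z * b = z * b * ((b * z) * (b * z)) := by rw [hbzbz, mul_one]
    rw [h1]
    calc z * b * (b * z * (b * z)) = z * (b * b) * z * (b * z) := by group
      _ = b * z := by rw [hbb, mul_one, hzz, one_mul]
  set V := four z b hzz hbb hcomm with hV
  have hVS : V ≤ S := by
    intro x hx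
    rcases hx with h | h | h | h <;> rw [h]
    · exact Subgroup.one_mem _
    · exact hzS
    · exact hbS
    · exact Subgroup.mul_mem _ hzS hbS
  have hV4 : Nat.card V = 4 := four_card z b hzz hbb hcomm hz1 hb1 hzb
  have hVsq : ∀ v ∈ V, v * v = 1 := four_sq z b hzz hbb hcomm
  have hkscV := ksc V hVS hV4 hVsq
  have hKn : ∀ k : H, k ∈ Subgroup.normalizer ((S : Subgroup H) : Set H) := by
    intro k; rw [Subgroup.normalizer_eq_top]; trivial
  have hclaim : ∀ k ∈ K, ∀ t ∈ (S : Subgroup H), t ≠ 1 → k * t = t * k → k = 1 := by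
    intro k hk t ht ht1 hkt
    have hko : Odd (orderOf k) := odd_orderOf_of_mem hKodd hk
    have hc := Lib.Helper12.centralizes_of_dihedral_like (S : Subgroup H) R₀ k t hR₀S hcyc
      S.isPGroup' h2 h3 (hKn k) hko ht ht1 hkt
    rw [Subgroup.mem_centralizer_iff] at hc
    have hkV : k ∈ V := hkscV k (fun v hv => (hc v (hVS hv)).symm)
    have : k ∈ (S : Subgroup H) ⊓ K := ⟨hVS hkV, hk⟩
    rw [hK.disjoint.eq_bot] at this
    exact Subgroup.mem_bot.mp this
  obtain ⟨⟨c, hcR⟩, hc⟩ := hcyc.exists_generator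
  have hR₀c : ∀ x ∈ R₀, ∃ i : ℤ, c ^ i = x := by
    intro x hx
    obtain ⟨i, hi⟩ := Subgroup.mem_zpowers_iff.mp (hc ⟨x, hx⟩)
    exact ⟨i, by simpa using congrArg Subtype.val hi⟩
  by_cases hcc : c * c = 1
  · -- the four-group case
    have hR2 : Nat.card R₀ = 2 := by
      have h1 : orderOf (⟨c, hcR⟩ : ↥R₀) = Nat.card R₀ := orderOf_eq_card_of_forall_mem_zpowers hc
      have h2' : orderOf c ∣ 2 := orderOf_dvd_of_pow_eq_one (by rw [pow_two]; exact hcc)
      rw [Subgroup.orderOf_mk] at h1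
      have h3' : Nat.card R₀ ∣ 2 := h1 ▸ h2'
      have h4' := Nat.le_of_dvd (by norm_num) h3'
      have h5' : 2 ≤ Nat.card R₀ := Nat.le_of_dvd Nat.card_pos h2R
      omega
    have hS4 : Nat.card (S : Subgroup H) = 4 := by rw [hcardS, hR2]
    have hKle : Nat.card K + 1 ≤ 4 := by
      let f : Option ↥K → ↥(S : Subgroup H) := fun o => match o with
        | none => 1
        | some k => ⟨(k : H) * b * (k : H)⁻¹, hSn.conj_mem b hbS k⟩
      have hne1 : ∀ k : ↥K, (k : H) * b * (k : H)⁻¹ ≠ 1 := by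
        intro k h
        apply hb1
        have : b = (k : H)⁻¹ * ((k : H) * b * (k : H)⁻¹) * k := by group
        rw [this, h]; group
      have hf : Function.Injective f := by
        intro o₁ o₂ h
        match o₁, o₂, h with
        | none, none, _ => rfl
        | none, some k, h => exact absurd (congrArg Subtype.val h).symm (hne1 k)
        | some k, none, h => exact absurd (congrArg Subtype.val h) (hne1 k)
        | some k₁, some k₂, h =>
          have h1 : (k₁ : H) * b * (k₁ : H)⁻¹ = (k₂ : H) * b * (k₂ : H)⁻¹ :=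
            congrArg Subtype.val h
          have h2' : ((k₂ : H)⁻¹ * k₁) * b = b * ((k₂ : H)⁻¹ * k₁) := by
            have : ((k₂ : H)⁻¹ * k₁) * b = (k₂ : H)⁻¹ * ((k₁ : H) * b * (k₁ : H)⁻¹) * k₁ := by group
            rw [this, h1]; group
          have h3' := hclaim _ (K.mul_mem (K.inv_mem k₂.2) k₁.2) b hbS hb1 h2'
          have h4' : (k₂ : H) = k₁ := inv_mul_eq_one.mp h3'
          congr 1
          exact Subtype.ext h4'.symm
      have := Nat.card_le_card_of_injective f hf
      rw [Finite.card_option, hS4] at this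
      exact this
    have hKpos : 0 < Nat.card K := Nat.card_pos
    have hK13 : Nat.card K = 1 ∨ Nat.card K = 3 := by
      have : Nat.card K ≠ 2 := fun h => hKodd (by rw [h])
      omega
    rcases hK13 with hK1 | hK3
    · right; left
      exact hKbot (Subgroup.eq_bot_of_card_eq K hK1)
    · right; right
      have h12 : Nat.card H = 12 := by rw [← hK.card_mul_card, hS4, hK3]
      apply Cfsg.Agent.S0228.result h12
      intro z' hz' hzc
      have hz'z' : z' * z' = 1 := by rw [← pow_two, ← hz']; exact pow_orderOf_eq_one z'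
      have hz'S := mem_of_sq_eq_one S z' hz'z'
      have hz'1 : z' ≠ 1 := by intro h; rw [h, orderOf_one] at hz'; omega
      have hKb : K = ⊥ := by
        rw [Subgroup.eq_bot_iff_forall]
        intro k hk
        rw [Subgroup.mem_center_iff] at hzc
        exact hclaim k hk z' hz'S hz'1 (hzc k)
      rw [hKb, Subgroup.card_bot] at hK3
      omega
  · -- `K` is trivial
    right; left
    apply hKbot
    rw [Subgroup.eq_bot_iff_forall]
    intro k hk
    have hconj : ∀ k' ∈ K, ∀ x ∈ R₀, k' * x * k'⁻¹ ∈ R₀ := by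
      intro k' hk' x hx
      have hcS : k' * c * k'⁻¹ ∈ (S : Subgroup H) := hSn.conj_mem c (hR₀S hcR) k'
      have hcR' : k' * c * k'⁻¹ ∈ R₀ := by
        by_contra hcon
        have h4' := h2 _ hcS hcon
        apply hcc
        have h5 : k' * (c * c) * k'⁻¹ = 1 := by rw [← h4']; group
        have h6 : c * c = k'⁻¹ * (k' * (c * c) * k'⁻¹) * k' := by group
        rw [h6, h5]; group
      obtain ⟨i, rfl⟩ := hR₀c x hx
      have h7 : k' * c ^ i * k'⁻¹ = (k' * c * k'⁻¹) ^ i := by rw [conj_zpow]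
      rw [h7]
      exact R₀.zpow_mem hcR' i
    have hkn : k ∈ Subgroup.normalizer (R₀ : Set H) := by
      rw [Subgroup.mem_normalizer_iff]
      intro x
      constructor
      · exact hconj k hk x
      · intro hx
        have h8 := hconj k⁻¹ (K.inv_mem hk) _ hx
        have h7 : k⁻¹ * (k * x * k⁻¹) * k⁻¹⁻¹ = x := by group
        rwa [h7] at h8
    have hkc := Lib.Helper12.centralizes_cyclic_two_group hcyc (S.isPGroup'.to_le hR₀S) hkn
      (odd_orderOf_of_mem hKodd hk)
    rw [Subgroup.mem_centralizer_iff] at hkc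
    have hc1 : c ≠ 1 := by intro h; apply hcc; rw [h, one_mul]
    exact hclaim k hk c (hR₀S hcR) hc1 (hkc c hcR).symm

end lemmaM

section transport

variable {G : Type*} [Group G] [Finite G]

/-- Any Sylow 2-subgroup of a subgroup embeds in `P`. -/
theorem exists_embedding (P : Sylow 2 G) (H : Subgroup G) (S : Sylow 2 ↥H) :
    ∃ φ : ↥(S : Subgroup ↥H) →* ↥(P : Subgroup G), Function.Injective φ := by
  set T : Subgroup G := (S : Subgroup ↥H).map H.subtype with hT
  have hTp : IsPGroup 2 T := S.isPGroup'.map H.subtype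
  obtain ⟨Q, hQ⟩ := hTp.exists_le_sylow
  obtain ⟨g, rfl⟩ := MulAction.exists_smul_eq G P Q
  let ψ : ↥(S : Subgroup ↥H) →* ↥((g • P : Sylow 2 G) : Subgroup G) :=
    MonoidHom.codRestrict (H.subtype.comp (S : Subgroup ↥H).subtype) _
      (fun x => hQ ⟨x.1, x.2, rfl⟩)
  have hψ : Function.Injective ψ := by
    intro x y hxy
    have : ((x : ↥H) : G) = ((y : ↥H) : G) :=
      congrArg (fun w : ↥((g • P : Sylow 2 G) : Subgroup G) => (w : G)) hxy
    exact Subtype.ext (Subtype.ext this)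
  exact ⟨(Sylow.equivSMul P g).symm.toMonoidHom.comp ψ,
    (Sylow.equivSMul P g).symm.injective.comp hψ⟩

theorem ksc_of_sylow (P : Sylow 2 G)
    (hK : ∀ K : Subgroup G, K ≤ P → Nat.card K = 4 → (∀ k ∈ K, k ^ 2 = 1) →
      Subgroup.centralizer (K : Set G) = K)
    (V : Subgroup G) (hV4 : Nat.card V = 4) (hVsq : ∀ v ∈ V, v * v = 1) (x : G)
    (hx : ∀ v ∈ V, x * v = v * x) : x ∈ V := by
  have hVp : IsPGroup 2 V := IsPGroup.of_card (n := 2) (by rw [hV4]; norm_num)
  obtain ⟨Q, hQ⟩ := hVp.exists_le_sylow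
  obtain ⟨g, rfl⟩ := MulAction.exists_smul_eq G P Q
  set K : Subgroup G := V.map (MulAut.conj g⁻¹).toMonoidHom with hKdef
  have hmemK : ∀ y, y ∈ K ↔ ∃ v ∈ V, g⁻¹ * v * g = y := by
    intro y
    rw [hKdef, Subgroup.mem_map]
    constructor
    · rintro ⟨v, hv, rfl⟩; exact ⟨v, hv, by simp [MulAut.conj_apply]⟩
    · rintro ⟨v, hv, rfl⟩; exact ⟨v, hv, by simp [MulAut.conj_apply]⟩
  have hKP : K ≤ P := by
    intro y hy
    obtain ⟨v, hv, rfl⟩ := (hmemK y).mp hy
    have h1 := hQ hv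
    rw [Sylow.coe_subgroup_smul, Subgroup.mem_smul_pointwise_iff_exists] at h1
    obtain ⟨p, hp, hpv⟩ := h1
    rw [MulAut.smul_def, MulAut.conj_apply] at hpv
    rw [← hpv]
    have h2 : g⁻¹ * (g * p * g⁻¹) * g = p := by group
    rw [h2]; exact hp
  have hK4 : Nat.card K = 4 := by
    rw [hKdef, Subgroup.card_map_of_injective (MulAut.conj g⁻¹).injective, hV4]
  have hKsq : ∀ k ∈ K, k ^ 2 = 1 := by
    intro k hk
    obtain ⟨v, hv, rfl⟩ := (hmemK k).mp hk
    rw [pow_two]
    have h1 : g⁻¹ * v * g * (g⁻¹ * v * g) = g⁻¹ * (v * v) * g := by group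
    rw [h1, hVsq v hv]; group
  have hcent := hK K hKP hK4 hKsq
  have hxc : g⁻¹ * x * g ∈ Subgroup.centralizer (K : Set G) := by
    rw [Subgroup.mem_centralizer_iff]
    intro k hk
    obtain ⟨v, hv, rfl⟩ := (hmemK k).mp hk
    have h1 := hx v hv
    calc g⁻¹ * v * g * (g⁻¹ * x * g) = g⁻¹ * (v * x) * g := by group
      _ = g⁻¹ * (x * v) * g := by rw [h1]
      _ = g⁻¹ * x * g * (g⁻¹ * v * g) := by group
  rw [hcent] at hxc
  obtain ⟨v, hv, hvx⟩ := (hmemK _).mp hxc
  have h2 : v = x := by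
    have h1 : v = g * (g⁻¹ * v * g) * g⁻¹ := by group
    rw [h1, hvx]; group
  rw [← h2]; exact hv

theorem ksc_sub (P : Sylow 2 G)
    (hK : ∀ K : Subgroup G, K ≤ P → Nat.card K = 4 → (∀ k ∈ K, k ^ 2 = 1) →
      Subgroup.centralizer (K : Set G) = K)
    (H : Subgroup G) (V : Subgroup ↥H) (hV4 : Nat.card V = 4) (hVsq : ∀ v ∈ V, v * v = 1)
    (x : ↥H) (hx : ∀ v ∈ V, x * v = v * x) : x ∈ V := by
  have h1 : Nat.card (V.map H.subtype) = 4 := by
    rw [Subgroup.card_map_of_injective H.subtype_injective, hV4]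
  have h2 := ksc_of_sylow P hK (V.map H.subtype) h1
    (by
      rintro _ ⟨v, hv, rfl⟩
      have := congrArg Subtype.val (hVsq v hv)
      simpa using this)
    (x : G)
    (by
      rintro _ ⟨v, hv, rfl⟩
      have := congrArg Subtype.val (hx v hv)
      simpa using this)
  obtain ⟨v, hv, hvx⟩ := h2
  have h3 : v = x := Subtype.ext hvx
  exact h3 ▸ hv

theorem dirRL (P : Sylow 2 G)
    (hR : IsCyclic P ∨
      ((∃ n : ℕ, 1 ≤ n ∧ Nonempty ((P : Subgroup G) ≃* DihedralGroup (2 ^ n))) ∧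
        ∀ K : Subgroup G, K ≤ P → Nat.card K = 4 → (∀ k ∈ K, k ^ 2 = 1) →
          Subgroup.centralizer (K : Set G) = K))
    (H : Subgroup G) (h1 : ∀ S : Sylow 2 ↥H, (S : Subgroup ↥H).Normal)
    (h2 : ∀ (S : Sylow 2 ↥H) [(S : Subgroup ↥H).Normal], IsCyclic (↥H ⧸ (S : Subgroup ↥H))) :
    IsCyclic H ∨ (∃ n : ℕ, Nonempty (H ≃* DihedralGroup (2 ^ n))) ∨
      Nonempty (H ≃* alternatingGroup (Fin 4)) := by
  obtain ⟨S⟩ : Nonempty (Sylow 2 ↥H) := inferInstance
  haveI := h1 S
  have hq := h2 S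
  obtain ⟨φ, hφ⟩ := exists_embedding P H S
  rcases hR with hPc | ⟨⟨n, hn, ⟨e⟩⟩, hK⟩
  · left
    have hSc : IsCyclic ↥(S : Subgroup ↥H) := isCyclic_of_injective φ hφ
    exact isCyclic_of_cyclic_sylow S hSc hq
  · obtain ⟨R₀, hR₀S, hcyc, h2', h3'⟩ := exists_dihedralLike (S : Subgroup ↥H) (2 ^ n)
      (e.toMonoidHom.comp φ) (e.injective.comp hφ)
    exact lemmaM S hq R₀ hR₀S hcyc h2' h3'
      (fun V _ hV4 hVsq x hx => ksc_sub P hK H V hV4 hVsq x hx)

end transport

section dirLR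

variable {G : Type*} [Group G] [Finite G]

theorem comm_of_sq {X : Type*} [Group X] (a b : X) (ha : a * a = 1) (hb : b * b = 1)
    (hab : (a * b) * (a * b) = 1) : a * b = b * a := by
  have h1 : a * b = (a * b)⁻¹ := (inv_eq_of_mul_eq_one_right hab).symm
  rw [h1, mul_inv_rev, inv_eq_of_mul_eq_one_right ha, inv_eq_of_mul_eq_one_right hb]

theorem sylow_eq_top_of_isPGroup {X : Type*} [Group X] (hX : IsPGroup 2 X) (S : Sylow 2 X) :
    (S : Subgroup X) = ⊤ :=
  (S.is_maximal' (hX.to_subgroup ⊤) le_top).symm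

theorem no_odd_centralizing
    (hL : ∀ H : Subgroup G, (∀ S : Sylow 2 ↥H, (S : Subgroup ↥H).Normal) →
        (∀ (S : Sylow 2 ↥H) [(S : Subgroup ↥H).Normal], IsCyclic (↥H ⧸ (S : Subgroup ↥H))) →
        IsCyclic H ∨ (∃ n : ℕ, Nonempty (H ≃* DihedralGroup (2 ^ n))) ∨
          Nonempty (H ≃* alternatingGroup (Fin 4)))
    (K : Subgroup G) (hK4 : Nat.card K = 4) (hKsq : ∀ k ∈ K, k * k = 1)
    (y : G) (q : ℕ) (hq : q.Prime) (hq2 : q ≠ 2) (hy : orderOf y = q)
    (hyK : ∀ k ∈ K, k * y = y * k) : False := by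
  classical
  have hKcomm : ∀ a ∈ K, ∀ b ∈ K, a * b = b * a := fun a ha b hb =>
    comm_of_sq a b (hKsq a ha) (hKsq b hb) (hKsq _ (K.mul_mem ha hb))
  set Z := Subgroup.zpowers y with hZ
  have hZcard : Nat.card Z = q := by rw [hZ, Nat.card_zpowers, hy]
  have hZy : ∀ w ∈ Z, ∀ k ∈ K, Commute k w := by
    intro w hw k hk
    obtain ⟨i, rfl⟩ := Subgroup.mem_zpowers_iff.mp hw
    exact Commute.zpow_right (hyK k hk) i
  have hZZ : ∀ w ∈ Z, ∀ w' ∈ Z, Commute w w' := by
    intro w hw w' hw'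
    obtain ⟨i, rfl⟩ := Subgroup.mem_zpowers_iff.mp hw
    obtain ⟨j, rfl⟩ := Subgroup.mem_zpowers_iff.mp hw'
    exact ((Commute.refl y).zpow_right j).zpow_left i
  let μ : ↥K × ↥Z →* G := K.subtype.noncommCoprod Z.subtype (fun k w => hZy w w.2 k k.2)
  have hcop : (Nat.card K).Coprime (Nat.card Z) := by
    rw [hK4, hZcard]
    have h2q : (2 : ℕ).Coprime q := (Nat.coprime_primes Nat.prime_two hq).mpr (Ne.symm hq2)
    exact Nat.Coprime.pow_left 2 h2q
  have hdisj : Disjoint K Z := Subgroup.disjoint_of_coprime_natCard hcop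
  have hinj : Function.Injective μ := by
    refine (MonoidHom.noncommCoprod_injective _ _ _).mpr
      ⟨K.subtype_injective, Z.subtype_injective, ?_⟩
    rw [Subgroup.range_subtype, Subgroup.range_subtype]
    exact hdisj
  set H : Subgroup G := μ.range with hH
  have hμ : ∀ p : ↥K × ↥Z, μ p = (p.1 : G) * (p.2 : G) := fun p => rfl
  have hHmem : ∀ a ∈ H, ∃ k ∈ K, ∃ w ∈ Z, a = k * w := by
    rintro _ ⟨p, rfl⟩
    exact ⟨p.1, p.1.2, p.2, p.2.2, hμ p⟩
  have hHcomm : ∀ a ∈ H, ∀ b ∈ H, a * b = b * a := by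
    intro a ha b hb
    obtain ⟨k₁, hk₁, w₁, hw₁, rfl⟩ := hHmem a ha
    obtain ⟨k₂, hk₂, w₂, hw₂, rfl⟩ := hHmem b hb
    have c1 : Commute k₁ k₂ := hKcomm k₁ hk₁ k₂ hk₂
    have c2 : Commute k₁ w₂ := hZy w₂ hw₂ k₁ hk₁
    have c3 : Commute w₁ k₂ := (hZy w₁ hw₁ k₂ hk₂).symm
    have c4 : Commute w₁ w₂ := hZZ w₁ hw₁ w₂ hw₂
    exact Commute.mul_left (Commute.mul_right c1 c2) (Commute.mul_right c3 c4)
  have hHcard : Nat.card H = 2 ^ 2 * q := by
    rw [hH, ← Nat.card_congr (MonoidHom.ofInjective hinj).toEquiv, Nat.card_prod, hK4, hZcard]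
    norm_num
  have hKH : K ≤ H := by
    intro k hk
    exact ⟨(⟨k, hk⟩, 1), by rw [hμ]; simp⟩
  have hyH : y ∈ H := ⟨(1, ⟨y, Subgroup.mem_zpowers y⟩), by rw [hμ]; simp⟩
  have hq2' : ¬ 2 ∣ q := fun h => hq2 ((Nat.prime_dvd_prime_iff_eq Nat.prime_two hq).mp h).symm
  have hcommH : ∀ a b : ↥H, a * b = b * a := fun a b => Subtype.ext (hHcomm a a.2 b b.2)
  have h1 : ∀ S : Sylow 2 ↥H, (S : Subgroup ↥H).Normal := by
    intro S
    refine ⟨fun n hn g => ?_⟩
    have : g * n * g⁻¹ = n := by rw [hcommH g n, mul_assoc, mul_inv_cancel, mul_one]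
    rw [this]; exact hn
  have h2 : ∀ (S : Sylow 2 ↥H) [(S : Subgroup ↥H).Normal],
      IsCyclic (↥H ⧸ (S : Subgroup ↥H)) := by
    intro S _
    have hS4 := Lib.Helper23.sylow_card_of_card_eq 2 2 q hHcard hq2' S
    have hidx : (S : Subgroup ↥H).index = q := by
      have := (S : Subgroup ↥H).card_mul_index
      rw [hS4, hHcard] at this
      exact Nat.eq_of_mul_eq_mul_left (by norm_num) this
    haveI : Fact q.Prime := ⟨hq⟩
    exact isCyclic_of_prime_card (p := q) (by rw [← Subgroup.index_eq_card, hidx])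
  rcases hL H h1 h2 with hc | ⟨n, ⟨e⟩⟩ | ⟨⟨e⟩⟩
  · -- cyclic
    haveI := hc
    have hKc : IsCyclic ↥K :=
      isCyclic_of_injective (Subgroup.inclusion hKH) (Subgroup.inclusion_injective hKH)
    obtain ⟨g, hg⟩ := IsCyclic.exists_ofOrder_eq_natCard (α := ↥K)
    have h3 : orderOf g ∣ 2 :=
      orderOf_dvd_of_pow_eq_one (by rw [pow_two]; exact Subtype.ext (hKsq g g.2))
    rw [hg, hK4] at h3
    omega
  · have h3 := Nat.card_congr e.toEquiv
    rw [hHcard, DihedralGroup.nat_card] at h3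
    have h4 : q ∣ 2 ^ (n + 1) := by
      rw [pow_succ', ← h3]
      exact Dvd.intro_left _ rfl
    exact hq2 ((Nat.prime_dvd_prime_iff_eq hq Nat.prime_two).mp (hq.dvd_of_dvd_pow h4))
  · have hcen : ∀ x : alternatingGroup (Fin 4), x = 1 := by
      intro x
      have h3 : x ∈ Subgroup.center (alternatingGroup (Fin 4)) := by
        rw [Subgroup.mem_center_iff]
        intro x'
        have h4 := hcommH (e.symm x') (e.symm x)
        rw [← map_mul, ← map_mul] at h4
        exact e.symm.injective h4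
      rw [alternatingGroup.center_eq_bot (by simp)] at h3
      exact Subgroup.mem_bot.mp h3
    have h5 : (⟨y, hyH⟩ : ↥H) = 1 := by
      apply e.injective
      rw [hcen (e ⟨y, hyH⟩), map_one]
    have h6 : y = 1 := congrArg Subtype.val h5
    rw [h6, orderOf_one] at hy
    exact hq.one_lt.ne hy

theorem dirLR (P : Sylow 2 G)
    (hL : ∀ H : Subgroup G, (∀ S : Sylow 2 ↥H, (S : Subgroup ↥H).Normal) →
        (∀ (S : Sylow 2 ↥H) [(S : Subgroup ↥H).Normal], IsCyclic (↥H ⧸ (S : Subgroup ↥H))) →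
        IsCyclic H ∨ (∃ n : ℕ, Nonempty (H ≃* DihedralGroup (2 ^ n))) ∨
          Nonempty (H ≃* alternatingGroup (Fin 4))) :
    IsCyclic P ∨
      ((∃ n : ℕ, 1 ≤ n ∧ Nonempty ((P : Subgroup G) ≃* DihedralGroup (2 ^ n))) ∧
        ∀ K : Subgroup G, K ≤ P → Nat.card K = 4 → (∀ k ∈ K, k ^ 2 = 1) →
          Subgroup.centralizer (K : Set G) = K) := by
  have hP := hL (P : Subgroup G)
    (by
      intro S
      rw [sylow_eq_top_of_isPGroup P.isPGroup' S]
      infer_instance)
    (by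
      intro S _
      have h := sylow_eq_top_of_isPGroup P.isPGroup' S
      have hc : Nat.card (↥(P : Subgroup G) ⧸ (S : Subgroup ↥(P : Subgroup G))) = 1 := by
        rw [← Subgroup.index_eq_card, Subgroup.index_eq_one]; exact h
      haveI : Subsingleton (↥(P : Subgroup G) ⧸ (S : Subgroup ↥(P : Subgroup G))) :=
        (Nat.card_eq_one_iff_unique.mp hc).1
      exact isCyclic_of_subsingleton)
  rcases hP with hc | ⟨n, ⟨e⟩⟩ | ⟨⟨e⟩⟩
  · exact Or.inl hc
  · rcases Nat.eq_zero_or_pos n with hn | hn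
    · left
      subst hn
      have hc2 : Nat.card (P : Subgroup G) = 2 := by
        rw [Nat.card_congr e.toEquiv, DihedralGroup.nat_card]; norm_num
      exact isCyclic_of_prime_card (p := 2) hc2
    · right
      refine ⟨⟨n, hn, ⟨e⟩⟩, ?_⟩
      intro K hKP hK4 hKsq
      have hKsq' : ∀ k ∈ K, k * k = 1 := fun k hk => by rw [← pow_two]; exact hKsq k hk
      have hKcomm : ∀ a ∈ K, ∀ b ∈ K, a * b = b * a := fun a ha b hb =>
        comm_of_sq a b (hKsq' a ha) (hKsq' b hb) (hKsq' _ (K.mul_mem ha hb))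
      have hKC : K ≤ Subgroup.centralizer (K : Set G) := by
        intro k hk
        rw [Subgroup.mem_centralizer_iff]
        intro k' hk'
        exact hKcomm k' hk' k hk
      apply le_antisymm _ hKC
      set C := Subgroup.centralizer (K : Set G) with hC
      have hCp : IsPGroup 2 C := by
        by_contra hnp
        have hex : ∃ q, q.Prime ∧ q ∣ Nat.card C ∧ q ≠ 2 := by
          by_contra hcon
          push Not at hcon
          apply hnp
          have h3 := Nat.eq_prime_pow_of_unique_prime_dvd (n := Nat.card C) (p := 2)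
            Nat.card_pos.ne' (fun {d} hd hdn => hcon d hd hdn)
          exact IsPGroup.of_card h3
        obtain ⟨q, hq, hqC, hq2⟩ := hex
        haveI : Fact q.Prime := ⟨hq⟩
        obtain ⟨⟨y, hyC⟩, hy⟩ := exists_prime_orderOf_dvd_card' q hqC
        rw [Subgroup.orderOf_mk] at hy
        rw [hC, Subgroup.mem_centralizer_iff] at hyC
        exact no_odd_centralizing hL K hK4 hKsq' y q hq hq2 hy hyC
      obtain ⟨Q, hQ⟩ := hCp.exists_le_sylow
      obtain ⟨g, rfl⟩ := MulAction.exists_smul_eq G P Q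
      have hksc : Lib.Helper59.KSC ↥((g • P : Sylow 2 G) : Subgroup G) :=
        Lib.Helper59.ksc_of_mulEquiv ((Sylow.equivSMul P g).symm.trans e)
          (Lib.Helper59.ksc_dihedral (2 ^ n))
      intro x hx
      have hKQ : K ≤ ((g • P : Sylow 2 G) : Subgroup G) := hKC.trans hQ
      set K' : Subgroup ↥((g • P : Sylow 2 G) : Subgroup G) := K.subgroupOf _ with hK'
      have hK'4 : Nat.card K' = 4 := by
        rw [hK', Nat.card_congr (Subgroup.subgroupOfEquivOfLe hKQ).toEquiv, hK4]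
      have hK'sq : ∀ t ∈ K', t * t = 1 := by
        intro t ht
        rw [hK', Subgroup.mem_subgroupOf] at ht
        exact Subtype.ext (hKsq' _ ht)
      have hxQ := hQ hx
      have h4 := hksc K' hK'4 hK'sq ⟨x, hxQ⟩ (by
        intro t ht
        rw [hK', Subgroup.mem_subgroupOf] at ht
        rw [hC, Subgroup.mem_centralizer_iff] at hx
        exact Subtype.ext (hx _ ht).symm)
      rw [hK', Subgroup.mem_subgroupOf] at h4
      exact h4
  · exfalso
    have h12 : Nat.card (P : Subgroup G) = 12 := by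
      rw [Nat.card_congr e.toEquiv, nat_card_alternatingGroup]
      simp
      decide
    obtain ⟨k, hk⟩ := IsPGroup.iff_card.mp P.isPGroup'
    rw [h12] at hk
    have h3 : 3 ∣ 2 ^ k := hk ▸ (by norm_num : 3 ∣ 12)
    have h4 := Nat.Prime.dvd_of_dvd_pow Nat.prime_three h3
    omega

end dirLR

/-- Let G be a finite group with Sylow 2-subgroup P. Every subgroup H of G whose Sylow 2-subgroup is normal in H with cyclic quotient is cyclic, dihedral of 2-power order, or isomorphic to the alternating group of degree 4, if and only if either P is cyclic, or P is dihedral (of order at least 4) and every elementary abelian subgroup K of order 4 of P satisfies C_G(K) = K. -/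
theorem result {G : Type*} [Group G] [Finite G] (P : Sylow 2 G) :
    (∀ H : Subgroup G, (∀ S : Sylow 2 ↥H, (S : Subgroup ↥H).Normal) →
        (∀ (S : Sylow 2 ↥H) [(S : Subgroup ↥H).Normal], IsCyclic (↥H ⧸ (S : Subgroup ↥H))) →
        IsCyclic H ∨ (∃ n : ℕ, Nonempty (H ≃* DihedralGroup (2 ^ n))) ∨ Nonempty (H ≃* alternatingGroup (Fin 4))) ↔
    (IsCyclic P ∨
      ((∃ n : ℕ, 1 ≤ n ∧ Nonempty ((P : Subgroup G) ≃* DihedralGroup (2 ^ n))) ∧
        ∀ K : Subgroup G, K ≤ P → Nat.card K = 4 → (∀ k ∈ K, k ^ 2 = 1) → Subgroup.centralizer (K : Set G) = K)) := by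
  constructor
  · intro hL
    exact dirLR P hL
  · intro hR H h1 h2
    exact dirRL P hR H h1 h2

end Cfsg.Agent.S4083
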