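import Cfsg.Statements.S4084
import Mathlib

set_option autoImplicit false
open Cfsg

namespace Cfsg.Agent.S4084

/-- double centralizer of an element -/
def dc {G : Type*} [Group G] (g : G) : Subgroup G :=
  Subgroup.centralizer (Subgroup.centralizer ({g} : Set G) : Set G)

lemma mem_dc {G : Type*} [Group G] (g x : G) :
    x ∈ dc g ↔ ∀ y : G, Commute y g → Commute y x := by
  unfold dc
  rw [Subgroup.mem_centralizer_iff]
  constructor
  · intro h y hy
    have : y ∈ Subgroup.centralizer ({g} : Set G) := by
      rw [Subgroup.mem_centralizer_iff]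
      intro z hz
      rw [Set.mem_singleton_iff] at hz
      subst hz
      exact hy.eq.symm
    exact h y this
  · intro h y hy
    have hy' : Commute y g := by
      rw [SetLike.mem_coe, Subgroup.mem_centralizer_iff] at hy
      exact (hy g rfl).symm
    exact (h y hy').eq

lemma self_mem_dc {G : Type*} [Group G] (g : G) : g ∈ dc g := by
  rw [mem_dc]
  intro y hy
  exact hy

lemma dc_comm {G : Type*} [Group G] (g x y : G) (hx : x ∈ dc g) (hy : y ∈ dc g) :
    Commute x y := by
  rw [mem_dc] at hx hy
  have h1 : Commute g x := hx g (Commute.refl g)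
  exact hy x h1.symm

lemma oneDir {G H : Type*} [Group G] [Finite G] [Group H] [Finite H] (e : G ≃ H)
    (he : ∀ x y : G, Commute x y ↔ Commute (e x) (e y))
    {p q : ℕ} (hp : p.Prime) (hq : q.Prime) (hpq : p ≠ q)
    (h : ∃ g : G, orderOf g = p * q) : ∃ h : H, orderOf h = p * q := by
  obtain ⟨g, hg⟩ := h
  have hcard : Nat.card (dc g) = Nat.card (dc (e g)) := by
    apply Nat.card_congr
    refine Equiv.subtypeEquiv e ?_
    intro x
    show x ∈ dc g ↔ e x ∈ dc (e g)
    rw [mem_dc, mem_dc]
    constructor
    · intro hx y' hy'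
      obtain ⟨y, rfl⟩ := e.surjective y'
      rw [← he] at hy' ⊢
      exact hx y hy'
    · intro hx y hy
      rw [he] at hy ⊢
      exact hx (e y) hy
  have hdvd : p * q ∣ Nat.card (dc (e g)) := by
    rw [← hcard, ← hg]
    have := Subgroup.orderOf_dvd_natCard (dc g) (self_mem_dc g)
    exact this
  have : Fact p.Prime := ⟨hp⟩
  have : Fact q.Prime := ⟨hq⟩
  obtain ⟨x, hx⟩ := exists_prime_orderOf_dvd_card' (G := dc (e g)) p (Dvd.dvd.trans (Dvd.intro _ rfl) hdvd)
  obtain ⟨y, hy⟩ := exists_prime_orderOf_dvd_card' (G := dc (e g)) q (Dvd.dvd.trans (Dvd.intro_left _ rfl) hdvd)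
  have hc : Commute (x : H) (y : H) := dc_comm (e g) x y x.2 y.2
  refine ⟨(x : H) * (y : H), ?_⟩
  have hx' : orderOf (x : H) = p := by rw [Subgroup.orderOf_coe]; exact hx
  have hy' : orderOf (y : H) = q := by rw [Subgroup.orderOf_coe]; exact hy
  rw [hc.orderOf_mul_eq_mul_orderOf_of_coprime, hx', hy']
  rw [hx', hy']
  exact (Nat.coprime_primes hp hq).2 hpq

/-- Let G and H be finite groups whose commuting graphs are isomorphic: there is a bijection e : G → H with x, y commuting exactly when e(x), e(y) commute. Then G and H have the same prime graph: for distinct primes p, q, G has an element of order pq if and only if H does (and #G = #H, so the prime divisors agree). -/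
theorem result {G H : Type*} [Group G] [Finite G] [Group H] [Finite H] (e : G ≃ H)
    (he : ∀ x y : G, Commute x y ↔ Commute (e x) (e y))
    {p q : ℕ} (hp : p.Prime) (hq : q.Prime) (hpq : p ≠ q) :
    (∃ g : G, orderOf g = p * q) ↔ (∃ h : H, orderOf h = p * q) := by
  constructor
  · exact oneDir e he hp hq hpq
  · refine oneDir e.symm ?_ hp hq hpq
    intro x y
    rw [he]
    simp

end Cfsg.Agent.S4084
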