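import Cfsg.Statements.S4086
import Mathlib

set_option autoImplicit false
open Cfsg

namespace Cfsg.Agent.S4086

lemma mem_zpowers_of_orderOf_dvd' {C : Type*} [Group C] [Finite C] [IsCyclic C] (x y : C)
    (h : orderOf y ∣ orderOf x) : y ∈ Subgroup.zpowers x := by
  classical
  haveI := Fintype.ofFinite C
  have hn : 0 < orderOf x := orderOf_pos x
  have h1 : (Finset.univ.filter (fun c : C => c ^ (orderOf x) = 1)).card ≤ orderOf x :=
    IsCyclic.card_pow_eq_one_le hn
  have h2 : (Finset.univ.filter (fun c : C => c ∈ Subgroup.zpowers x)).card = orderOf x := by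
    rw [← Fintype.card_subtype]
    exact Fintype.card_zpowers
  have hsub : Finset.univ.filter (fun c : C => c ∈ Subgroup.zpowers x) ⊆
      Finset.univ.filter (fun c : C => c ^ (orderOf x) = 1) := by
    intro c hc
    simp only [Finset.mem_filter, Finset.mem_univ, true_and] at hc ⊢
    obtain ⟨k, rfl⟩ := Subgroup.mem_zpowers_iff.mp hc
    rw [← zpow_natCast, ← zpow_mul, mul_comm, zpow_mul, zpow_natCast, pow_orderOf_eq_one, one_zpow]
  have heq := Finset.eq_of_subset_of_card_le hsub (by omega)
  have hy : y ∈ Finset.univ.filter (fun c : C => c ^ (orderOf x) = 1) := by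
    simp only [Finset.mem_filter, Finset.mem_univ, true_and]
    exact orderOf_dvd_iff_pow_eq_one.mp h
  rw [← heq] at hy
  simpa using hy

theorem result {G : Type*} [Group G] [Finite G] :
    (∀ g : G, g ≠ 1 → IsPrimePow (orderOf g)) ↔
    (∀ x y : G, IsCyclic ↥(Subgroup.closure ({x, y} : Set G)) → (x ∈ Subgroup.zpowers y ∨ y ∈ Subgroup.zpowers x)) := by
  constructor
  · intro hpp x y hcyc
    have hxK : x ∈ Subgroup.closure ({x, y} : Set G) := Subgroup.subset_closure (by simp)
    have hyK : y ∈ Subgroup.closure ({x, y} : Set G) := Subgroup.subset_closure (by simp)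
    set K := Subgroup.closure ({x, y} : Set G) with hK
    obtain ⟨z, hz⟩ := IsCyclic.exists_generator (α := K)
    have hzc : orderOf z = Nat.card K := orderOf_eq_card_of_forall_mem_zpowers hz
    have key : orderOf (⟨x, hxK⟩ : K) ∣ orderOf (⟨y, hyK⟩ : K) ∨
        orderOf (⟨y, hyK⟩ : K) ∣ orderOf (⟨x, hxK⟩ : K) := by
      by_cases hz1 : (z : G) = 1
      · have : orderOf z = 1 := by
          rw [← Subgroup.orderOf_coe, hz1, orderOf_one]
        left
        have hx1 : orderOf (⟨x, hxK⟩ : K) ∣ 1 := by
          rw [← this, hzc]; exact orderOf_dvd_natCard _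
        exact hx1.trans (one_dvd _)
      · obtain ⟨p, k, hp, hk, hpk⟩ := hpp (z : G) hz1
        have hp' : p.Prime := hp.nat_prime
        rw [Subgroup.orderOf_coe, hzc] at hpk
        have hx1 : orderOf (⟨x, hxK⟩ : K) ∣ p ^ k := by
          rw [hpk]; exact orderOf_dvd_natCard _
        have hy1 : orderOf (⟨y, hyK⟩ : K) ∣ p ^ k := by
          rw [hpk]; exact orderOf_dvd_natCard _
        obtain ⟨i, _, hi⟩ := (Nat.dvd_prime_pow hp').mp hx1
        obtain ⟨j, _, hj⟩ := (Nat.dvd_prime_pow hp').mp hy1
        rw [hi, hj]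
        rcases le_total i j with h | h
        · left; exact pow_dvd_pow p h
        · right; exact pow_dvd_pow p h
    rcases key with h | h
    · left
      have := mem_zpowers_of_orderOf_dvd' (⟨y, hyK⟩ : K) (⟨x, hxK⟩ : K) h
      obtain ⟨k, hk⟩ := Subgroup.mem_zpowers_iff.mp this
      refine Subgroup.mem_zpowers_iff.mpr ⟨k, ?_⟩
      have := congrArg (fun w : K => (w : G)) hk
      simpa using this
    · right
      have := mem_zpowers_of_orderOf_dvd' (⟨x, hxK⟩ : K) (⟨y, hyK⟩ : K) h
      obtain ⟨k, hk⟩ := Subgroup.mem_zpowers_iff.mp this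
      refine Subgroup.mem_zpowers_iff.mpr ⟨k, ?_⟩
      have := congrArg (fun w : K => (w : G)) hk
      simpa using this
  · intro h g hg
    by_contra hnpp
    have hn1 : orderOf g ≠ 1 := by
      intro h1; exact hg (orderOf_eq_one_iff.mp h1)
    have hn0 : orderOf g ≠ 0 := (orderOf_pos g).ne'
    obtain ⟨p, hp, hpd⟩ := Nat.exists_prime_and_dvd hn1
    have hnu : ¬ ∃! p : ℕ, p.Prime ∧ p ∣ orderOf g := by
      rw [← isPrimePow_iff_unique_prime_dvd]; exact hnpp
    have : ∃ q : ℕ, q.Prime ∧ q ∣ orderOf g ∧ q ≠ p := by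
      by_contra hcon
      push Not at hcon
      exact hnu ⟨p, ⟨hp, hpd⟩, fun q hq => hcon q hq.1 hq.2⟩
    obtain ⟨q, hq, hqd, hqp⟩ := this
    have hxo : orderOf (g ^ (orderOf g / p)) = p := by
      rw [orderOf_pow_of_dvd]
      · exact Nat.div_div_self hpd hn0
      · intro h0
        have := Nat.div_mul_cancel hpd
        rw [h0, zero_mul] at this
        exact hn0 this.symm
      · exact Nat.div_dvd_of_dvd hpd
    have hyo : orderOf (g ^ (orderOf g / q)) = q := by
      rw [orderOf_pow_of_dvd]
      · exact Nat.div_div_self hqd hn0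
      · intro h0
        have := Nat.div_mul_cancel hqd
        rw [h0, zero_mul] at this
        exact hn0 this.symm
      · exact Nat.div_dvd_of_dvd hqd
    have hle : Subgroup.closure ({g ^ (orderOf g / p), g ^ (orderOf g / q)} : Set G) ≤ Subgroup.zpowers g := by
      rw [Subgroup.closure_le]
      intro w hw
      rcases hw with rfl | hw
      · exact Subgroup.npow_mem_zpowers g _
      · rw [Set.mem_singleton_iff] at hw
        subst hw
        exact Subgroup.npow_mem_zpowers g _
    have hcyc : IsCyclic ↥(Subgroup.closure ({g ^ (orderOf g / p), g ^ (orderOf g / q)} : Set G)) :=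
      Subgroup.isCyclic_of_le hle
    rcases h _ _ hcyc with h1 | h1
    · have := orderOf_dvd_of_mem_zpowers h1
      rw [hxo, hyo] at this
      exact hqp ((Nat.prime_dvd_prime_iff_eq hp hq).mp this).symm
    · have := orderOf_dvd_of_mem_zpowers h1
      rw [hxo, hyo] at this
      exact hqp ((Nat.prime_dvd_prime_iff_eq hq hp).mp this)

end Cfsg.Agent.S4086
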