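import Mathlib
import Cfsg.Statements.S4089
import Cfsg.Agent.Lib.Helper54.Subnormal
import Cfsg.Agent.Lib.Helper01.PCore

set_option autoImplicit false
open Cfsg

namespace Cfsg.Agent.S4089

open Cfsg.Agent.Lib.Helper54 in
/-- subnormality of a `p`-subgroup `A` in `⟨A, g⟩` is equivalent to the existence of a `p`-subgroup
containing `A` and normalized by `g`. -/
theorem sub_iff {G : Type*} [Group G] [Finite G] (p : ℕ) [Fact p.Prime]
    (A : Subgroup G) (hA : IsPGroup p A) (g : G) :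
    ((A).subgroupOf (A ⊔ Subgroup.zpowers g)).IsSubnormal ↔
      ∃ K : Subgroup G, IsPGroup p K ∧ A ≤ K ∧ g ∈ Subgroup.normalizer (K : Set G) := by
  obtain ⟨T, hT⟩ : ∃ T : Subgroup G, T = A ⊔ Subgroup.zpowers g := ⟨_, rfl⟩
  rw [← hT]
  have hAT : A ≤ T := hT ▸ le_sup_left
  have hgT : g ∈ T := by
    rw [hT]
    exact (le_sup_right : Subgroup.zpowers g ≤ _) (Subgroup.mem_zpowers g)
  constructor
  · intro hsub
    have hp' : IsPGroup p (A.subgroupOf T) :=
      hA.comap_of_injective T.subtype T.subtype_injective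
    have h1 : A.subgroupOf T ≤ pCore p T := le_pCore_of_isSubnormal_of_isPGroup hsub hp'
    refine ⟨pCoreOf p T, isPGroup_pCoreOf p T, ?_, le_normalizer_pCoreOf p T hgT⟩
    intro a ha
    exact ⟨⟨a, hAT ha⟩, h1 (Subgroup.mem_subgroupOf.2 ha), rfl⟩
  · rintro ⟨K, hK, hAK, hgK⟩
    have hTK : T ≤ Subgroup.normalizer (K : Set G) := by
      rw [hT]
      apply sup_le
      · exact hAK.trans Subgroup.le_normalizer
      · rw [Subgroup.zpowers_le]; exact hgK
    have hn : (K.subgroupOf T).Normal := Subgroup.normal_subgroupOf_of_le_normalizer hTK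
    have hKp : IsPGroup p (K.subgroupOf T) :=
      hK.comap_of_injective T.subtype T.subtype_injective
    have hle : A.subgroupOf T ≤ K.subgroupOf T := by
      intro x hx
      exact Subgroup.mem_subgroupOf.2 (hAK (Subgroup.mem_subgroupOf.1 hx))
    have h2 : ((A.subgroupOf T).subgroupOf (K.subgroupOf T)).IsSubnormal :=
      isSubnormal_of_isPGroup hKp _
    exact Subgroup.IsSubnormal.trans hle h2 hn.isSubnormal

open Cfsg.Agent.Lib.Helper54 in
/-- every `p`-subgroup normalized by `g` lies in a radical `p`-subgroup normalized by `g`. -/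
theorem exists_radical {G : Type*} [Group G] [Finite G] (p : ℕ) [Fact p.Prime]
    (K : Subgroup G) (hK : IsPGroup p K) (g : G) (hg : g ∈ Subgroup.normalizer (K : Set G)) :
    ∃ R : Subgroup G, K ≤ R ∧ pCoreOf p (Subgroup.normalizer (R : Set G)) = R ∧
      g ∈ Subgroup.normalizer (R : Set G) := by
  let S : Set (Subgroup G) := {L | IsPGroup p L ∧ K ≤ L ∧ g ∈ Subgroup.normalizer (L : Set G)}
  have hSfin : S.Finite := Set.toFinite S
  have hKS : K ∈ S := ⟨hK, le_rfl, hg⟩
  obtain ⟨R, hKR, hRmax⟩ := hSfin.exists_le_maximal hKS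
  have hRS : R ∈ S := hRmax.prop
  obtain ⟨hRp, hKR', hgR⟩ := hRS
  let R' := pCoreOf p (Subgroup.normalizer (R : Set G))
  have hRR' : R ≤ R' := le_pCoreOf Subgroup.le_normalizer le_rfl hRp
  have hR'S : R' ∈ S := by
    refine ⟨isPGroup_pCoreOf p _, hKR'.trans hRR', ?_⟩
    have h1 := normalizer_le_normalizer_pCoreOf p (Subgroup.normalizer (R : Set G))
    exact h1 (Subgroup.le_normalizer hgR)
  have : R' ≤ R := hRmax.le_of_ge hR'S hRR'
  exact ⟨R, hKR, le_antisymm this hRR', hgR⟩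

open Cfsg.Agent.Lib.Helper54 in
/-- a radical `p`-subgroup is the intersection of the Sylow `p`-subgroups containing it. -/
theorem radical_eq {G : Type*} [Group G] [Finite G] (p : ℕ) [Fact p.Prime]
    (R : Subgroup G) (hR : pCoreOf p (Subgroup.normalizer (R : Set G)) = R) :
    sInf {K : Subgroup G | ∃ Q : Sylow p G, R ≤ (Q : Subgroup G) ∧ K = (Q : Subgroup G)} ≤ R := by
  obtain ⟨J, hJ⟩ : ∃ J : Subgroup G,
    J = sInf {K : Subgroup G | ∃ Q : Sylow p G, R ≤ (Q : Subgroup G) ∧ K = (Q : Subgroup G)} :=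
    ⟨_, rfl⟩
  rw [← hJ]
  have hRp : IsPGroup p R := by
    have := isPGroup_pCoreOf p (Subgroup.normalizer (R : Set G))
    rwa [hR] at this
  have hRJ : R ≤ J := by
    rw [hJ]
    apply le_sInf
    rintro K ⟨Q, hQ, rfl⟩
    exact hQ
  obtain ⟨P0, hP0⟩ := hRp.exists_le_sylow
  have hJP0 : J ≤ P0 := by
    rw [hJ]
    exact sInf_le ⟨P0, hP0, rfl⟩
  have hJp : IsPGroup p J := P0.isPGroup'.to_le hJP0
  -- the normalizer of `R` in `J` lies in `R`
  have hM : J ⊓ Subgroup.normalizer (R : Set G) ≤ R := by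
    obtain ⟨N, hN⟩ : ∃ N : Subgroup G, N = Subgroup.normalizer (R : Set G) := ⟨_, rfl⟩
    rw [← hN] at hR ⊢
    have hRN : R ≤ N := hN ▸ Subgroup.le_normalizer
    have hRnorm : (R.subgroupOf N).Normal :=
      Subgroup.normal_subgroupOf_of_le_normalizer (hN ▸ le_rfl)
    have hRNp : IsPGroup p (R.subgroupOf N) :=
      hRp.comap_of_injective N.subtype N.subtype_injective
    intro x hx
    obtain ⟨hxJ, hxN⟩ := Subgroup.mem_inf.1 hx
    rw [← hR]
    refine ⟨⟨x, hxN⟩, ?_, rfl⟩
    show (⟨x, hxN⟩ : N) ∈ pCore p N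
    rw [Cfsg.Agent.Lib.Helper01.pCore_eq_iInf_sylow p, Subgroup.mem_iInf]
    intro Q
    -- extend `Q` to a Sylow subgroup of `G`
    have hQp : IsPGroup p ((Q : Subgroup N).map N.subtype) := Q.isPGroup'.map _
    obtain ⟨P, hP⟩ := hQp.exists_le_sylow
    have hRQ : R.subgroupOf N ≤ Q := by
      have h1 : R.subgroupOf N ≤ pCore p N := le_pCore hRnorm hRNp
      exact h1.trans (pCore_le_sylow Q)
    have hRP : R ≤ P := by
      intro r hr
      exact hP ⟨⟨r, hRN hr⟩, hRQ (Subgroup.mem_subgroupOf.2 hr), rfl⟩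
    have hJP : J ≤ P := by
      rw [hJ]
      exact sInf_le ⟨P, hRP, rfl⟩
    -- `P ∩ N` is a `p`-subgroup of `N` containing `Q`
    have hPNp : IsPGroup p ((P : Subgroup G).subgroupOf N) :=
      P.isPGroup'.comap_of_injective N.subtype N.subtype_injective
    have hQPN : (Q : Subgroup N) ≤ (P : Subgroup G).subgroupOf N := by
      intro y hy
      exact Subgroup.mem_subgroupOf.2 (hP ⟨y, hy, rfl⟩)
    have heq : (P : Subgroup G).subgroupOf N = Q := Q.is_maximal' hPNp hQPN
    have : (⟨x, hxN⟩ : N) ∈ (P : Subgroup G).subgroupOf N :=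
      Subgroup.mem_subgroupOf.2 (hJP hxJ)
    rw [heq] at this
    exact this
  -- normalizers grow in the `p`-group `J`
  by_contra hne
  have hlt : R.subgroupOf J < ⊤ := by
    rw [lt_top_iff_ne_top]
    intro h
    apply hne
    intro x hx
    have : (⟨x, hx⟩ : J) ∈ R.subgroupOf J := by rw [h]; trivial
    exact Subgroup.mem_subgroupOf.1 this
  have : Group.IsNilpotent J := hJp.isNilpotent
  have hnc := Group.normalizerCondition_of_isNilpotent (G := J) (R.subgroupOf J) hlt
  obtain ⟨y, hyN, hyR⟩ := SetLike.exists_of_lt hnc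
  apply hyR
  rw [Subgroup.mem_subgroupOf]
  apply hM
  refine Subgroup.mem_inf.2 ⟨y.2, ?_⟩
  rw [Subgroup.mem_normalizer_iff]
  intro r
  constructor
  · intro hr
    have hrJ : r ∈ J := hRJ hr
    have h1 := (Subgroup.mem_normalizer_iff.1 hyN ⟨r, hrJ⟩).1 (Subgroup.mem_subgroupOf.2 hr)
    exact Subgroup.mem_subgroupOf.1 h1
  · intro hr
    have hrJ : r ∈ J := by
      have h2 : (y : G) * r * (y : G)⁻¹ ∈ J := hRJ hr
      have : r = (y : G)⁻¹ * ((y : G) * r * (y : G)⁻¹) * (y : G) := by group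
      rw [this]
      exact J.mul_mem (J.mul_mem (J.inv_mem y.2) h2) y.2
    have h1 := (Subgroup.mem_normalizer_iff.1 hyN ⟨r, hrJ⟩).2 (Subgroup.mem_subgroupOf.2 hr)
    exact Subgroup.mem_subgroupOf.1 h1

/-- Let G be a finite group, p a prime and H a p-subgroup of G. Then the set of elements g of G such that H is subnormal in the subgroup generated by H and g is the union of the normalizers N_G(R) over the subgroups R of G containing H with R = O_p(N_G(R)); and this set does not change when H is replaced by the intersection of all Sylow p-subgroups of G containing H. -/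
theorem result {G : Type*} [Group G] [Finite G] (p : ℕ) [Fact p.Prime]
    (H : Subgroup G) (hH : IsPGroup p H) :
    {g : G | ((H).subgroupOf (H ⊔ Subgroup.zpowers g)).IsSubnormal} =
      {g : G | ∃ R : Subgroup G, H ≤ R ∧ (Cfsg.pCore p (Subgroup.normalizer (R : Set G))).map (Subgroup.normalizer (R : Set G)).subtype = R ∧ g ∈ Subgroup.normalizer (R : Set G)} ∧
    ∀ g : G, (((H).subgroupOf (H ⊔ Subgroup.zpowers g)).IsSubnormal ↔
      (((sInf {K : Subgroup G | ∃ Q : Sylow p G, H ≤ (Q : Subgroup G) ∧ K = (Q : Subgroup G)})).subgroupOf ((sInf {K : Subgroup G | ∃ Q : Sylow p G, H ≤ (Q : Subgroup G) ∧ K = (Q : Subgroup G)}) ⊔ Subgroup.zpowers g)).IsSubnormal) := by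
  have part1 : ∀ g : G, ((H).subgroupOf (H ⊔ Subgroup.zpowers g)).IsSubnormal ↔
      ∃ R : Subgroup G, H ≤ R ∧ pCoreOf p (Subgroup.normalizer (R : Set G)) = R ∧
        g ∈ Subgroup.normalizer (R : Set G) := by
    intro g
    rw [sub_iff p H hH g]
    constructor
    · rintro ⟨K, hK, hHK, hgK⟩
      obtain ⟨R, hKR, hR, hgR⟩ := exists_radical p K hK g hgK
      exact ⟨R, hHK.trans hKR, hR, hgR⟩
    · rintro ⟨R, hHR, hR, hgR⟩
      refine ⟨R, ?_, hHR, hgR⟩
      have := Cfsg.Agent.Lib.Helper54.isPGroup_pCoreOf p (Subgroup.normalizer (R : Set G))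
      rwa [hR] at this
  refine ⟨?_, ?_⟩
  · ext g
    exact part1 g
  · intro g
    obtain ⟨I, hI⟩ : ∃ I : Subgroup G,
      I = sInf {K : Subgroup G | ∃ Q : Sylow p G, H ≤ (Q : Subgroup G) ∧ K = (Q : Subgroup G)} :=
      ⟨_, rfl⟩
    rw [← hI]
    have hHI : H ≤ I := by
      rw [hI]
      apply le_sInf
      rintro K ⟨Q, hQ, rfl⟩
      exact hQ
    obtain ⟨P0, hP0⟩ := hH.exists_le_sylow
    have hIP0 : I ≤ P0 := by
      rw [hI]
      exact sInf_le ⟨P0, hP0, rfl⟩
    have hIp : IsPGroup p I := P0.isPGroup'.to_le hIP0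
    constructor
    · intro hsub
      obtain ⟨R, hHR, hR, hgR⟩ := (part1 g).1 hsub
      rw [sub_iff p I hIp g]
      have hRp : IsPGroup p R := by
        have := Cfsg.Agent.Lib.Helper54.isPGroup_pCoreOf p (Subgroup.normalizer (R : Set G))
        rwa [hR] at this
      refine ⟨R, hRp, ?_, hgR⟩
      refine le_trans ?_ (radical_eq p R hR)
      rw [hI]
      apply le_sInf
      rintro K ⟨Q, hQ, rfl⟩
      exact sInf_le ⟨Q, hHR.trans hQ, rfl⟩
    · intro hsub
      rw [sub_iff p I hIp g] at hsub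
      obtain ⟨K, hK, hIK, hgK⟩ := hsub
      rw [sub_iff p H hH g]
      exact ⟨K, hK, hHI.trans hIK, hgK⟩

end Cfsg.Agent.S4089
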