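import Cfsg.Statements.S4090
import Cfsg.Agent.Lib.Helper01.SubnormCount

set_option autoImplicit false
open Cfsg

namespace Cfsg.Agent.S4090

open Cfsg.Agent.Lib.Helper01

universe u

/-- the factor attached to a step `A ≤ B` of a normal chain -/
noncomputable def fac {G : Type u} [Group G] (p : ℕ) (H A B : Subgroup G) : ℕ :=
  if (A.relIndex B).Coprime p then
    Nat.card {u : G // u ∈ B ∧ ∀ h ∈ H, h * u * h⁻¹ * u⁻¹ ∈ A} / Nat.card A
  else 1

theorem fac_map {G : Type u} [Group G] [Finite G] (p : ℕ) (H N : Subgroup G) [N.Normal]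
    (A B : Subgroup G) (hNA : N ≤ A) (hAB : A ≤ B) :
    fac p (H.map (QuotientGroup.mk' N)) (A.map (QuotientGroup.mk' N))
      (B.map (QuotientGroup.mk' N)) = fac p H A B := by
  set π := QuotientGroup.mk' N with hπ
  have hker : π.ker = N := QuotientGroup.ker_mk' N
  have hmem : ∀ (C : Subgroup G), N ≤ C → ∀ u : G, π u ∈ C.map π ↔ u ∈ C := by
    intro C hC u
    rw [← Subgroup.mem_comap, Subgroup.comap_map_eq, hker, sup_eq_left.2 hC]
  have hrel : (A.map π).relIndex (B.map π) = A.relIndex B := by
    rw [← Subgroup.relIndex_comap, Subgroup.comap_map_eq, hker, sup_eq_left.2 hNA]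
  unfold fac
  rw [hrel]
  split_ifs with hc
  · have hset : {u : G | u ∈ B ∧ ∀ h ∈ H, h * u * h⁻¹ * u⁻¹ ∈ A} =
        (QuotientGroup.mk : G → G ⧸ N) ⁻¹'
          {v : G ⧸ N | v ∈ B.map π ∧ ∀ k ∈ H.map π, k * v * k⁻¹ * v⁻¹ ∈ A.map π} := by
      ext u
      simp only [Set.mem_ofPred_eq, Set.mem_preimage]
      constructor
      · rintro ⟨hu, hh⟩
        refine ⟨(hmem B (hNA.trans hAB) u).2 hu, ?_⟩
        rintro _ ⟨h, hh', rfl⟩
        have := (hmem A hNA (h * u * h⁻¹ * u⁻¹)).2 (hh h hh')
        rw [map_mul, map_mul, map_mul, map_inv, map_inv] at this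
        exact this
      · rintro ⟨hu, hh⟩
        refine ⟨(hmem B (hNA.trans hAB) u).1 hu, ?_⟩
        intro h hh'
        have := hh (π h) (Subgroup.mem_map_of_mem π hh')
        apply (hmem A hNA _).1
        rw [map_mul, map_mul, map_mul, map_inv, map_inv]
        exact this
    have hcard : Nat.card {u : G // u ∈ B ∧ ∀ h ∈ H, h * u * h⁻¹ * u⁻¹ ∈ A} =
        Nat.card N * Nat.card {v : G ⧸ N // v ∈ B.map π ∧
          ∀ k ∈ H.map π, k * v * k⁻¹ * v⁻¹ ∈ A.map π} := by
      rw [← Nat.card_prod]
      have e := QuotientGroup.preimageMkEquivSubgroupProdSet N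
        {v : G ⧸ N | v ∈ B.map π ∧ ∀ k ∈ H.map π, k * v * k⁻¹ * v⁻¹ ∈ A.map π}
      rw [← hset] at e
      exact Nat.card_congr e
    have hA : Nat.card A = Nat.card N * Nat.card (A.map π) := by
      have h1 := card_map_mul_card_ker_of_le π A (by rw [hker]; exact hNA)
      rw [hker] at h1
      rw [← h1, mul_comm]
    rw [hcard, hA, Nat.mul_div_mul_left _ _ Nat.card_pos]
  · rfl

theorem main (p : ℕ) [Fact p.Prime] : ∀ (n : ℕ) {G : Type u} [Group G] [Finite G]
    (H : Subgroup G) (_hH : IsPGroup p H) (M : Fin (n + 1) → Subgroup G), M 0 = ⊥ →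
    M (Fin.last n) = ⊤ → Monotone M → (∀ i, (M i).Normal) →
    (∀ i : Fin n, (∃ m : ℕ, (M i.castSucc).relIndex (M i.succ) = p ^ m) ∨
      ((M i.castSucc).relIndex (M i.succ)).Coprime p) →
    Nat.card (SN p H) = p ^ (Nat.card G).factorization p *
      ∏ i : Fin n, fac p H (M i.castSucc) (M i.succ) := by
  intro n
  induction n with
  | zero =>
    intro G _ _ H hH M h0 hn _ _ _
    have hbt : (⊥ : Subgroup G) = ⊤ := h0.symm.trans hn
    have hsub : Subsingleton G := by
      refine ⟨fun a b => ?_⟩
      have ha : a ∈ (⊥ : Subgroup G) := hbt ▸ Subgroup.mem_top a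
      have hb : b ∈ (⊥ : Subgroup G) := hbt ▸ Subgroup.mem_top b
      rw [Subgroup.mem_bot] at ha hb
      rw [ha, hb]
    have h1 : Nat.card G = 1 := Nat.card_of_subsingleton 1
    have h2 : Nat.card (SN p H) = 1 := by
      rw [Nat.card_eq_one_iff_unique]
      exact ⟨inferInstance, ⟨⟨1, H, hH, le_rfl, Subgroup.one_mem _⟩⟩⟩
    rw [h1, h2]
    simp
  | succ n ih =>
    intro G _ _ H hH M h0 hn hmono hnormal hfac
    classical
    set N := M (Fin.succ 0) with hN
    have : N.Normal := hnormal _
    set π := QuotientGroup.mk' N with hπ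
    have hker : π.ker = N := QuotientGroup.ker_mk' N
    have hπsurj : Function.Surjective π := QuotientGroup.mk'_surjective N
    let M' : Fin (n + 1) → Subgroup (G ⧸ N) := fun j => (M j.succ).map π
    have hNle : ∀ j : Fin (n + 1), N ≤ M j.succ := fun j => hmono (Fin.succ_le_succ_iff.2 (Fin.zero_le j))
    have h0' : M' 0 = ⊥ := by
      change (M (Fin.succ 0)).map π = ⊥
      rw [← hN, hπ, QuotientGroup.map_mk'_self]
    have hn' : M' (Fin.last n) = ⊤ := by
      change (M (Fin.last n).succ).map π = ⊤
      rw [Fin.succ_last, hn, Subgroup.map_top_of_surjective π hπsurj]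
    have hmono' : Monotone M' := fun a b hab =>
      Subgroup.map_mono (hmono (Fin.succ_le_succ_iff.2 hab))
    have hnormal' : ∀ j, (M' j).Normal := fun j => (hnormal j.succ).map π hπsurj
    have hrel' : ∀ j : Fin n, (M' j.castSucc).relIndex (M' j.succ) =
        (M j.succ.castSucc).relIndex (M j.succ.succ) := by
      intro j
      change ((M j.castSucc.succ).map π).relIndex ((M j.succ.succ).map π) = _
      rw [← Subgroup.relIndex_comap, Subgroup.comap_map_eq, hker, sup_eq_left.2 (hNle _),
        Fin.succ_castSucc]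
    have hfac' : ∀ j : Fin n, (∃ m : ℕ, (M' j.castSucc).relIndex (M' j.succ) = p ^ m) ∨
        ((M' j.castSucc).relIndex (M' j.succ)).Coprime p := by
      intro j
      rw [hrel' j]
      exact hfac j.succ
    have hih := ih (H.map π) (hH.map π) M' h0' hn' hmono' hnormal' hfac'
    have hprod : ∏ j : Fin n, fac p (H.map π) (M' j.castSucc) (M' j.succ) =
        ∏ j : Fin n, fac p H (M j.succ.castSucc) (M j.succ.succ) := by
      refine Finset.prod_congr rfl (fun j _ => ?_)
      change fac p (H.map π) ((M j.castSucc.succ).map π) ((M j.succ.succ).map π) = _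
      rw [fac_map p H N _ _ (hNle _) (hmono (Fin.succ_le_succ_iff.2 Fin.castSucc_lt_succ.le)),
        Fin.succ_castSucc]
    have hcardG : Nat.card G = Nat.card (G ⧸ N) * Nat.card N :=
      Subgroup.card_eq_card_quotient_mul_card_subgroup N
    have hM0 : M (Fin.castSucc 0) = ⊥ := by
      rw [Fin.castSucc_zero]; exact h0
    rw [Fin.prod_univ_succ, ← hprod, hM0]
    have hrel0 : (⊥ : Subgroup G).relIndex N = Nat.card N := Subgroup.relIndex_bot_left N
    by_cases hc : ((⊥ : Subgroup G).relIndex N).Coprime p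
    · -- `p'`-step
      have hcN : (Nat.card N).Coprime p := hrel0 ▸ hc
      have hf0 : fac p H ⊥ N = Nat.card ↥(N ⊓ Subgroup.centralizer (H : Set G)) := by
        unfold fac
        rw [if_pos hc, Subgroup.card_bot, Nat.div_one]
        apply Nat.card_congr
        refine Equiv.subtypeEquivRight (fun u => ?_)
        rw [Subgroup.mem_inf, Subgroup.mem_centralizer_iff]
        refine and_congr Iff.rfl (forall₂_congr (fun h _ => ?_))
        rw [Subgroup.mem_bot]
        constructor
        · intro h1
          calc h * u = (h * u * h⁻¹ * u⁻¹) * (u * h) := by group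
            _ = u * h := by rw [h1, one_mul]
        · intro h1
          calc h * u * h⁻¹ * u⁻¹ = (u * h) * h⁻¹ * u⁻¹ := by rw [h1]
            _ = 1 := by group
      have hfactG : (Nat.card G).factorization p = (Nat.card (G ⧸ N)).factorization p := by
        rw [hcardG, Nat.factorization_mul Nat.card_pos.ne' Nat.card_pos.ne']
        simp only [Finsupp.coe_add, Pi.add_apply]
        rw [Nat.factorization_eq_zero_of_not_dvd (n := Nat.card N), add_zero]
        intro hdvd
        exact (Fact.out : p.Prime).one_lt.ne' (Nat.eq_one_of_dvd_coprimes hcN hdvd (dvd_refl p))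
      rw [card_SN_of_coprime N H hcN hH, hih, hf0, hfactG]
      ring
    · -- `p`-step
      obtain ⟨m, hm⟩ : ∃ m : ℕ, Nat.card N = p ^ m := by
        rcases hfac 0 with ⟨m, hm⟩ | hcop
        · refine ⟨m, ?_⟩
          rw [hM0, ← hN, hrel0] at hm
          exact hm
        · rw [hM0, ← hN] at hcop
          exact absurd hcop hc
      have hNp : IsPGroup p N := IsPGroup.of_card hm
      have hf0 : fac p H ⊥ N = 1 := by
        unfold fac
        rw [if_neg hc]
      have hfactG : (Nat.card G).factorization p = (Nat.card (G ⧸ N)).factorization p + m := by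
        rw [hcardG, Nat.factorization_mul Nat.card_pos.ne' Nat.card_pos.ne', hm,
          Nat.Prime.factorization_pow Fact.out]
        simp
      rw [card_SN_of_isPGroup N hNp H, hih, hf0, hfactG, hm, pow_add]
      ring

/-- Let G be a finite p-solvable group, H a p-subgroup of G and P a Sylow p-subgroup, and fix a chain of normal subgroups 1 = M₀ ≤ M₁ ≤ ⋯ ≤ Mₙ = G of G each of whose factors is a p-group or a p'-group. Then the number of elements g of G such that H is subnormal in the subgroup generated by H and g equals the order of P times the product, over the factors Mᵢ₊₁/Mᵢ of order prime to p, of the order of the centralizer of H in Mᵢ₊₁/Mᵢ (counted as the number of u ∈ Mᵢ₊₁ with [h, u] ∈ Mᵢ for all h ∈ H, divided by the order of Mᵢ). -/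
theorem result {G : Type*} [Group G] [Finite G] (p : ℕ) [Fact p.Prime]
    (hG : Cfsg.IsPSolvable p G) (H : Subgroup G) (hH : IsPGroup p H) (P : Sylow p G)
    (n : ℕ) (M : Fin (n + 1) → Subgroup G) (h0 : M 0 = ⊥) (hn : M (Fin.last n) = ⊤) (hmono : Monotone M)
    (hnormal : ∀ i, (M i).Normal)
    (hfac : ∀ i : Fin n, (∃ m : ℕ, (M i.castSucc).relIndex (M i.succ) = p ^ m) ∨ ((M i.castSucc).relIndex (M i.succ)).Coprime p) :
    Nat.card {g : G // ((H).subgroupOf (H ⊔ Subgroup.zpowers g)).IsSubnormal} =
      Nat.card (P : Subgroup G) *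
        ∏ i : Fin n, (if ((M i.castSucc).relIndex (M i.succ)).Coprime p then
          Nat.card {u : G // u ∈ M i.succ ∧ ∀ h ∈ H, h * u * h⁻¹ * u⁻¹ ∈ M i.castSucc} / Nat.card (M i.castSucc)
          else 1) := by
  have h1 : Nat.card {g : G // ((H).subgroupOf (H ⊔ Subgroup.zpowers g)).IsSubnormal} =
      Nat.card (SN p H) := by
    apply Nat.card_congr
    exact Equiv.subtypeEquivRight (fun g => isSubnormal_iff_mem_SN p H hH g)
  rw [h1, main p n H hH M h0 hn hmono hnormal hfac, P.card_eq_multiplicity]
  rfl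

end Cfsg.Agent.S4090
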