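import Cfsg.Statements.S4091
import Cfsg.Agent.S4090
import Cfsg.Agent.Lib.Helper63.SubnormalizerIff
import Cfsg.Agent.Lib.Helper63.CopIneqD
import Cfsg.Agent.Lib.Helper63.CopIneqE

set_option autoImplicit false
open Cfsg

namespace Cfsg.Agent.S4091

open Cfsg.Agent.Lib.Helper63 Cfsg.Agent.Lib.Helper63.PElts Cfsg.Agent.Lib.Helper63.CopIneq

universe u

/-- the factor of S4090 as the order of a centralizer in the quotient -/
theorem fac_eq {G : Type u} [Group G] [Finite G] (p : ℕ) (H N B : Subgroup G) [N.Normal]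
    (hNB : N ≤ B) (hc : (N.relIndex B).Coprime p) :
    Cfsg.Agent.S4090.fac p H N B =
      Nat.card ((B.map (QuotientGroup.mk' N)) ⊓ Subgroup.centralizer
        ((H.map (QuotientGroup.mk' N) : Subgroup (G ⧸ N)) : Set (G ⧸ N)) : Subgroup (G ⧸ N)) := by
  rw [← Cfsg.Agent.S4090.fac_map p H N N B le_rfl hNB]
  have h0 : N.map (QuotientGroup.mk' N) = ⊥ := QuotientGroup.map_mk'_self N
  have hrel : (⊥ : Subgroup (G ⧸ N)).relIndex (B.map (QuotientGroup.mk' N)) = N.relIndex B := by
    rw [← Subgroup.relIndex_comap, MonoidHom.comap_bot, QuotientGroup.ker_mk']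
  rw [h0]
  unfold Cfsg.Agent.S4090.fac
  rw [hrel, if_pos hc, Subgroup.card_bot, Nat.div_one]
  apply Nat.card_congr
  refine Equiv.subtypeEquivRight (fun u => ?_)
  rw [Subgroup.mem_inf, Subgroup.mem_centralizer_iff]
  refine and_congr Iff.rfl (forall₂_congr (fun h _ => ?_))
  rw [Subgroup.mem_bot]
  constructor
  · intro h1
    calc h * u = (h * u * h⁻¹ * u⁻¹) * (u * h) := by group
      _ = u * h := by rw [h1, one_mul]
  · intro h1
    calc h * u * h⁻¹ * u⁻¹ = (u * h) * h⁻¹ * u⁻¹ := by rw [h1]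
      _ = 1 := by group

theorem card_map_eq_relIndex {G : Type u} [Group G] [Finite G] (N B : Subgroup G) [N.Normal] :
    Nat.card (B.map (QuotientGroup.mk' N)) = N.relIndex B := by
  rw [← Subgroup.relIndex_bot_left, ← Subgroup.relIndex_comap, MonoidHom.comap_bot,
    QuotientGroup.ker_mk']

/-- the inequality for one factor of the chain -/
theorem factor_dvd {G : Type u} [Group G] [Finite G] (p : ℕ) [Fact p.Prime] (P : Sylow p G)
    [Fintype (P : Subgroup G)] (A B : Subgroup G) [A.Normal] [hB : B.Normal] (hAB : A ≤ B) :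
    ∏ x : (P : Subgroup G), Cfsg.Agent.S4090.fac p (Subgroup.zpowers (x : G)) A B ^ p ∣
      Cfsg.Agent.S4090.fac p ⊥ A B ^ Nat.card (P : Subgroup G) *
        Cfsg.Agent.S4090.fac p (P : Subgroup G) A B ^ ((p - 1) * Nat.card (P : Subgroup G)) := by
  by_cases hc : (A.relIndex B).Coprime p
  swap
  · have h1 : ∀ H : Subgroup G, Cfsg.Agent.S4090.fac p H A B = 1 := by
      intro H
      unfold Cfsg.Agent.S4090.fac
      rw [if_neg hc]
    simp [h1]
  set π := QuotientGroup.mk' A with hπ
  have hK : (Nat.card (B.map π)).Coprime p := by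
    rw [card_map_eq_relIndex]
    exact hc
  have hKn : (B.map π).Normal := hB.map π (QuotientGroup.mk'_surjective A)
  have hφK : ∀ g : (P : Subgroup G), (π.comp (P : Subgroup G).subtype) g ∈
      Subgroup.normalizer ((B.map π : Subgroup (G ⧸ A)) : Set (G ⧸ A)) := by
    intro g
    rw [Subgroup.normalizer_eq_top]
    exact Subgroup.mem_top _
  have h := int_ineq P.isPGroup' (π.comp (P : Subgroup G).subtype) (B.map π) hK hφK
  have hrange : (π.comp (P : Subgroup G).subtype).range = (P : Subgroup G).map π := by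
    rw [MonoidHom.range_comp, Subgroup.range_subtype]
  have hbot : Cfsg.Agent.S4090.fac p ⊥ A B = Nat.card (B.map π) := by
    rw [fac_eq p ⊥ A B hAB hc, Subgroup.map_bot]
    have : Subgroup.centralizer (((⊥ : Subgroup (G ⧸ A)) : Subgroup (G ⧸ A)) : Set (G ⧸ A)) = ⊤ := by
      rw [Subgroup.centralizer_eq_top_iff_subset]
      intro x hx
      have hx1 : x = 1 := hx
      rw [hx1]
      exact Subgroup.one_mem _
    rw [this, inf_top_eq]
  have hx : ∀ x : (P : Subgroup G), Cfsg.Agent.S4090.fac p (Subgroup.zpowers (x : G)) A B =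
      Nat.card ((B.map π) ⊓ Subgroup.centralizer
        ((Subgroup.zpowers ((π.comp (P : Subgroup G).subtype) x) : Subgroup (G ⧸ A)) :
          Set (G ⧸ A)) : Subgroup (G ⧸ A)) := by
    intro x
    rw [fac_eq p _ A B hAB hc, MonoidHom.map_zpowers]
    rfl
  have hP : Cfsg.Agent.S4090.fac p (P : Subgroup G) A B =
      Nat.card ((B.map π) ⊓ Subgroup.centralizer
        (((π.comp (P : Subgroup G).subtype).range : Subgroup (G ⧸ A)) : Set (G ⧸ A)) :
          Subgroup (G ⧸ A)) := by
    rw [fac_eq p _ A B hAB hc, hrange]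
  rw [hbot, hP, Finset.prod_congr rfl (fun x _ => by rw [hx x])]
  exact h

/-- Let G be a finite p-solvable group, P a Sylow p-subgroup of G, u the number of p-elements of G (elements of p-power order, the identity included) and n the number of Sylow p-subgroups of G. Then u/#P ≥ n^((p−1)/p), stated as u^p ≥ #P^p · n^(p−1). -/
theorem result {G : Type*} [Group G] [Finite G] (p : ℕ) [Fact p.Prime]
    (hG : Cfsg.IsPSolvable p G) (P : Sylow p G) :
    Nat.card (P : Subgroup G) ^ p * Nat.card (Sylow p G) ^ (p - 1) ≤ Nat.card {g : G // ∃ k : ℕ, orderOf g = p ^ k} ^ p := by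
  classical
  have hG' := hG
  obtain ⟨n, M, h0, hn, hmono, hnormal, hfac⟩ := hG
  haveI : Fintype G := Fintype.ofFinite G
  have hp1 : 1 ≤ p := (Fact.out : p.Prime).one_le
  set m := Nat.card (P : Subgroup G) with hm
  set N := Nat.card (Sylow p G) with hN
  set u := Nat.card {g : G // ∃ k : ℕ, orderOf g = p ^ k} with hu
  have hm0 : 0 < m := Nat.card_pos
  have hN0 : 0 < N := Nat.card_pos
  set F : Subgroup G → Fin n → ℕ :=
    fun H i => Cfsg.Agent.S4090.fac p H (M i.castSucc) (M i.succ) with hF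
  have hA : ∀ H : Subgroup G, IsPGroup p H →
      Nat.card {g : G // (H.subgroupOf (H ⊔ Subgroup.zpowers g)).IsSubnormal} =
        m * ∏ i, F H i :=
    fun H hH => Cfsg.Agent.S4090.result p hG' H hH P n M h0 hn hmono hnormal hfac
  have hB : ∀ H : Subgroup G, IsPGroup p H →
      Nat.card {g : G // (H.subgroupOf (H ⊔ Subgroup.zpowers g)).IsSubnormal} =
        Nat.card {Q : Sylow p G // H ≤ (Q : Subgroup G)} *
          Nat.card (Subgroup.normalizer ((P : Subgroup G) : Set G)) :=
    fun H hH => Subnormalizer.card_subnormalizer_eq p hH P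
  have hAB : ∀ H : Subgroup G, IsPGroup p H →
      Nat.card {Q : Sylow p G // H ≤ (Q : Subgroup G)} *
        Nat.card (Subgroup.normalizer ((P : Subgroup G) : Set G)) = m * ∏ i, F H i :=
    fun H hH => (hB H hH).symm.trans (hA H hH)
  have hLP : Nat.card {Q : Sylow p G // (P : Subgroup G) ≤ (Q : Subgroup G)} = 1 := by
    rw [Nat.card_eq_one_iff_unique]
    have key : ∀ a : {Q : Sylow p G // (P : Subgroup G) ≤ (Q : Subgroup G)}, a.1 = P := by
      intro a
      exact (Sylow.ext (P.is_maximal' a.1.isPGroup' a.2)).symm ▸ rfl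
    refine ⟨⟨fun a b => Subtype.ext ((key a).trans (key b).symm)⟩, ⟨⟨P, le_rfl⟩⟩⟩
  have hLbot : Nat.card {Q : Sylow p G // (⊥ : Subgroup G) ≤ (Q : Subgroup G)} = N :=
    Nat.card_congr (Equiv.subtypeUnivEquiv (fun Q => bot_le))
  have hLx : ∀ x : (P : Subgroup G),
      Nat.card {Q : Sylow p G // Subgroup.zpowers (x : G) ≤ (Q : Subgroup G)} =
        lam p (x : G) := by
    intro x
    unfold lam
    apply Nat.card_congr
    exact Equiv.subtypeEquivRight (fun Q => Subgroup.zpowers_le)
  set nP := Nat.card (Subgroup.normalizer ((P : Subgroup G) : Set G)) with hnP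
  set a := ∏ i, F (P : Subgroup G) i with ha
  set b := ∏ i, F ⊥ i with hb
  have h1 : nP = m * a := by
    have := hAB P P.isPGroup'
    rw [hLP, one_mul] at this
    exact this
  have h2 : N * nP = m * b := by
    have := hAB ⊥ IsPGroup.of_bot
    rw [hLbot] at this
    exact this
  have h3 : ∀ x : (P : Subgroup G),
      lam p (x : G) * nP = m * ∏ i, F (Subgroup.zpowers (x : G)) i := by
    intro x
    have := hAB (Subgroup.zpowers (x : G)) (P.isPGroup'.to_le (Subgroup.zpowers_le.mpr x.2))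
    rw [hLx] at this
    exact this
  have h2' : N * a = b := by
    rw [h1] at h2
    exact Nat.eq_of_mul_eq_mul_left hm0 (by rw [← h2]; ring)
  have h3' : ∀ x : (P : Subgroup G),
      lam p (x : G) * a = ∏ i, F (Subgroup.zpowers (x : G)) i := by
    intro x
    have := h3 x
    rw [h1] at this
    exact Nat.eq_of_mul_eq_mul_left hm0 (by rw [← this]; ring)
  have ha0 : 0 < a := by
    have hpos : 0 < nP := Nat.card_pos
    rw [h1] at hpos
    exact Nat.pos_of_ne_zero (fun h => by rw [h, mul_zero] at hpos; exact lt_irrefl _ hpos)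
  have hb0 : 0 < b := by
    rw [← h2']
    exact Nat.mul_pos hN0 ha0
  have hfd : ∀ i : Fin n, ∏ x : (P : Subgroup G), F (Subgroup.zpowers (x : G)) i ^ p ≤
      F ⊥ i ^ m * F (P : Subgroup G) i ^ ((p - 1) * m) := by
    intro i
    haveI := hnormal i.castSucc
    haveI := hnormal i.succ
    apply Nat.le_of_dvd
    · have h4 : F ⊥ i ≠ 0 := (Finset.prod_ne_zero_iff.mp hb0.ne') i (Finset.mem_univ i)
      have h5 : F (P : Subgroup G) i ≠ 0 := (Finset.prod_ne_zero_iff.mp ha0.ne') i (Finset.mem_univ i)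
      exact Nat.mul_pos (pow_pos (Nat.pos_of_ne_zero h4) _) (pow_pos (Nat.pos_of_ne_zero h5) _)
    · exact factor_dvd p P (M i.castSucc) (M i.succ) (hmono (Fin.castSucc_lt_succ.le))
  have hcardP : Fintype.card (P : Subgroup G) = m := by
    rw [hm, Nat.card_eq_fintype_card]
  have hstar : ∏ x : (P : Subgroup G), lam p (x : G) ^ p ≤ N ^ m := by
    have hmul : (∏ x : (P : Subgroup G), lam p (x : G) ^ p) * a ^ (p * m) ≤
        N ^ m * a ^ (p * m) := by
      calc (∏ x : (P : Subgroup G), lam p (x : G) ^ p) * a ^ (p * m)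
          = ∏ x : (P : Subgroup G), (lam p (x : G) * a) ^ p := by
            rw [Finset.prod_congr rfl (fun x _ => mul_pow _ _ _), Finset.prod_mul_distrib,
              Finset.prod_const, Finset.card_univ, ← pow_mul, hcardP]
        _ = ∏ x : (P : Subgroup G), ∏ i, F (Subgroup.zpowers (x : G)) i ^ p := by
            refine Finset.prod_congr rfl (fun x _ => ?_)
            rw [h3' x, Finset.prod_pow]
        _ = ∏ i, ∏ x : (P : Subgroup G), F (Subgroup.zpowers (x : G)) i ^ p := Finset.prod_comm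
        _ ≤ ∏ i, (F ⊥ i ^ m * F (P : Subgroup G) i ^ ((p - 1) * m)) :=
            Finset.prod_le_prod (fun _ _ => Nat.zero_le _) (fun i _ => hfd i)
        _ = b ^ m * a ^ ((p - 1) * m) := by
            rw [Finset.prod_mul_distrib, Finset.prod_pow, Finset.prod_pow]
        _ = N ^ m * a ^ (p * m) := by
            rw [← h2', mul_pow, mul_assoc, ← pow_add]
            congr 2
            obtain ⟨q, rfl⟩ : ∃ q, p = q + 1 := ⟨p - 1, by omega⟩
            simp only [Nat.add_sub_cancel]
            ring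
    exact Nat.le_of_mul_le_mul_right hmul (pow_pos ha0 _)
  haveI : Nonempty (P : Subgroup G) := ⟨1⟩
  have hL : ∀ x : (P : Subgroup G), 0 < lam p (x : G) := by
    intro x
    rw [lam_pos_iff]
    obtain ⟨k, hk⟩ := (IsPGroup.iff_orderOf.mp P.isPGroup') x
    exact ⟨k, by rw [← hk]; exact (Subgroup.orderOf_coe x)⟩
  have hamgm := amgm_nat (fun x : (P : Subgroup G) => lam p (x : G)) hL N u (card_pelts_eq p P)
  rw [hcardP] at hamgm
  have hfin : N ^ m * (m ^ p * N ^ (p - 1)) ^ m ≤ N ^ m * (u ^ p) ^ m := by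
    calc N ^ m * (m ^ p * N ^ (p - 1)) ^ m = ((m * N) ^ m) ^ p := by
          obtain ⟨q, rfl⟩ : ∃ q, p = q + 1 := ⟨p - 1, by omega⟩
          simp only [Nat.add_sub_cancel]
          ring
      _ ≤ (u ^ m * ∏ x : (P : Subgroup G), lam p (x : G)) ^ p := Nat.pow_le_pow_left hamgm p
      _ = (u ^ m) ^ p * ∏ x : (P : Subgroup G), lam p (x : G) ^ p := by
          rw [mul_pow, Finset.prod_pow]
      _ ≤ (u ^ m) ^ p * N ^ m := Nat.mul_le_mul_left _ hstar
      _ = N ^ m * (u ^ p) ^ m := by ring
  have h5 : (m ^ p * N ^ (p - 1)) ^ m ≤ (u ^ p) ^ m :=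
    Nat.le_of_mul_le_mul_left hfin (pow_pos hN0 m)
  exact (Nat.pow_le_pow_iff_left hm0.ne').mp h5

end Cfsg.Agent.S4091
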