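import Cfsg.Statements.S4092
import Mathlib

set_option autoImplicit false
open Cfsg
open scoped Pointwise

namespace Cfsg.Agent.S4092

lemma orderOf_conj' {G : Type*} [Group G] (a b : G) : orderOf (a * b * a⁻¹) = orderOf b := by
  rw [← MulAut.conj_apply]
  exact MulEquiv.orderOf_eq (MulAut.conj a) b

section
variable {G : Type*} [Group G] [Finite G] (p : ℕ) [hp : Fact p.Prime]

lemma mem_smul_sylow (t v : G) (Q : Sylow p G) :
    v ∈ ((t • Q : Sylow p G) : Subgroup G) ↔ t⁻¹ * v * t ∈ (Q : Subgroup G) := by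
  rw [Sylow.coe_subgroup_smul, Subgroup.mem_pointwise_smul_iff_inv_smul_mem]
  simp only [MulAut.smul_def, ← map_inv, MulAut.conj_apply, inv_inv]

lemma card_ge_of_lt_pgroup (D T : Subgroup G) (hDT : D < T) (hT : IsPGroup p T) :
    p * Nat.card D ≤ Nat.card T := by
  obtain ⟨a, ha⟩ := IsPGroup.iff_card.mp hT
  have hdvd : Nat.card D ∣ Nat.card T := Subgroup.card_dvd_of_le hDT.le
  rw [ha] at hdvd
  obtain ⟨b, hba, hb⟩ := (Nat.dvd_prime_pow hp.out).mp hdvd
  have hne : b ≠ a := by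
    intro h
    have : Nat.card T ≤ Nat.card D := by rw [ha, hb, h]
    exact hDT.ne (Subgroup.eq_of_le_of_card_ge hDT.le this)
  have hlt : b + 1 ≤ a := by omega
  rw [ha, hb, ← pow_succ']
  exact Nat.pow_le_pow_right hp.out.pos hlt

end


section counting
variable {G : Type*} [Group G] [Finite G] (T D Q : Subgroup G)

/-- conjugates under `T` of the elements of `Q` outside `D` -/
def V : Set G := {v : G | ∃ t ∈ T, ∃ y ∈ Q, y ∉ D ∧ t * y * t⁻¹ = v}

/-- elements of `Q` outside `D` -/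
def W : Set G := {y : G | y ∈ Q ∧ y ∉ D}

lemma conj_mem_D_iff (hTN : T ≤ Subgroup.normalizer (D : Set G)) (t y : G) (ht : t ∈ T) :
    t * y * t⁻¹ ∈ D ↔ y ∈ D :=
  ((Subgroup.mem_normalizer_iff.mp (hTN ht)) y).symm

lemma counting (hDT : D ≤ T) (hDQ : D ≤ Q) (hTN : T ≤ Subgroup.normalizer (D : Set G))
    (HK : ∀ t ∈ T, ∀ s ∈ T, ∀ v : G, v ∉ D → s⁻¹ * v * s ∈ Q → t⁻¹ * v * t ∈ Q → s⁻¹ * t ∈ D) :
    Nat.card (V T D Q) * Nat.card D = Nat.card T * Nat.card (W D Q) := by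
  classical
  rw [← Nat.card_prod, ← Nat.card_prod]
  apply Nat.card_congr
  have hch : ∀ v : V T D Q, ∃ t : G, ∃ y : G, t ∈ T ∧ y ∈ Q ∧ y ∉ D ∧ t * y * t⁻¹ = (v : G) := by
    intro v
    obtain ⟨t, ht, y, hy, hyD, hv⟩ := v.2
    exact ⟨t, y, ht, hy, hyD, hv⟩
  choose τ η hτT hηQ hηD hτη using hch
  have key1 : ∀ (v : V T D Q) (t y : G), t * y * t⁻¹ = (v : G) →
      ((τ v)⁻¹ * t) * y * ((τ v)⁻¹ * t)⁻¹ = η v := by
    intro v t y hv
    have h2 : η v = (τ v)⁻¹ * (v : G) * τ v := by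
      rw [← hτη v]; group
    rw [h2, ← hv]; group
  have key : ∀ (v : V T D Q) (t y : G), t ∈ T → y ∈ Q → y ∉ D → t * y * t⁻¹ = (v : G) →
      (τ v)⁻¹ * t ∈ D := by
    intro v t y ht hy hyD hv
    have hvD : (v : G) ∉ D := by
      rw [← hv, conj_mem_D_iff T D hTN t y ht]; exact hyD
    apply HK t ht (τ v) (hτT v) (v : G) hvD
    · have : (τ v)⁻¹ * (v : G) * τ v = η v := by rw [← hτη v]; group
      rw [this]; exact hηQ v
    · have : t⁻¹ * (v : G) * t = y := by rw [← hv]; group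
      rw [this]; exact hy
  refine
    { toFun := fun vd => (⟨τ vd.1 * (vd.2 : G), T.mul_mem (hτT vd.1) (hDT vd.2.2)⟩,
        ⟨(vd.2 : G)⁻¹ * η vd.1 * (vd.2 : G), ?_, ?_⟩)
      invFun := fun ty => (⟨(ty.1 : G) * (ty.2 : G) * (ty.1 : G)⁻¹,
          ⟨ty.1, ty.1.2, ty.2, ty.2.2.1, ty.2.2.2, rfl⟩⟩,
        ⟨(τ ⟨(ty.1 : G) * (ty.2 : G) * (ty.1 : G)⁻¹,
          ⟨ty.1, ty.1.2, ty.2, ty.2.2.1, ty.2.2.2, rfl⟩⟩)⁻¹ * (ty.1 : G),
          key _ ty.1 ty.2 ty.1.2 ty.2.2.1 ty.2.2.2 rfl⟩)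
      left_inv := ?_
      right_inv := ?_ }
  · exact Q.mul_mem (Q.mul_mem (Q.inv_mem (hDQ vd.2.2)) (hηQ vd.1)) (hDQ vd.2.2)
  · intro h
    apply hηD vd.1
    have : η vd.1 = (vd.2 : G) * ((vd.2 : G)⁻¹ * η vd.1 * (vd.2 : G)) * (vd.2 : G)⁻¹ := by group
    rw [this]
    exact D.mul_mem (D.mul_mem vd.2.2 h) (D.inv_mem vd.2.2)
  · rintro ⟨v, d⟩
    have e1 : (τ v * (d : G)) * ((d : G)⁻¹ * η v * (d : G)) * (τ v * (d : G))⁻¹ = (v : G) := by
      rw [← hτη v]; group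
    have e2 : (⟨(τ v * (d : G)) * ((d : G)⁻¹ * η v * (d : G)) * (τ v * (d : G))⁻¹,
        ⟨τ v * (d : G), T.mul_mem (hτT v) (hDT d.2), (d : G)⁻¹ * η v * (d : G),
          Q.mul_mem (Q.mul_mem (Q.inv_mem (hDQ d.2)) (hηQ v)) (hDQ d.2),
          (by
            intro h
            apply hηD v
            have : η v = (d : G) * ((d : G)⁻¹ * η v * (d : G)) * (d : G)⁻¹ := by group
            rw [this]
            exact D.mul_mem (D.mul_mem d.2 h) (D.inv_mem d.2)), rfl⟩⟩ : V T D Q) = v := Subtype.ext e1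
    apply Prod.ext
    · exact e2
    · apply Subtype.ext
      simp only
      rw [e2]
      group
  · rintro ⟨t, y⟩
    apply Prod.ext
    · apply Subtype.ext
      simp only
      group
    · apply Subtype.ext
      simp only
      have h1 := key1 ⟨(t : G) * (y : G) * (t : G)⁻¹,
          ⟨t, t.2, y, y.2.1, y.2.2, rfl⟩⟩ t y rfl
      rw [← h1]
      group

end counting


theorem result {G : Type*} [Group G] [Finite G] (p : ℕ) [Fact p.Prime]
    (P : Sylow p G) (hP : ¬ (P : Subgroup G).Normal) :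
    p * Nat.card (P : Subgroup G) ≤ Nat.card {g : G // ∃ k : ℕ, orderOf g = p ^ k} := by
  classical
  have hpp : p.Prime := Fact.out
  have h2 : ∃ P₁ Q : Sylow p G, P₁ ≠ Q := by
    by_contra hcon
    push Not at hcon
    have : Subsingleton (Sylow p G) := ⟨hcon⟩
    exact hP (Sylow.normal_of_subsingleton P)
  obtain ⟨A₁, A₂, hA⟩ := h2
  have hne : Nonempty {pr : Sylow p G × Sylow p G // pr.1 ≠ pr.2} := ⟨⟨(A₁, A₂), hA⟩⟩
  obtain ⟨⟨⟨P₁, Q⟩, hPQ⟩, hmax⟩ := Finite.exists_max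
    (fun pr : {pr : Sylow p G × Sylow p G // pr.1 ≠ pr.2} =>
      Nat.card ↥((pr.1.1 : Subgroup G) ⊓ (pr.1.2 : Subgroup G)))
  simp only at hPQ
  have hmax' : ∀ R₁ R₂ : Sylow p G, R₁ ≠ R₂ →
      Nat.card ↥((R₁ : Subgroup G) ⊓ (R₂ : Subgroup G)) ≤
        Nat.card ↥((P₁ : Subgroup G) ⊓ (Q : Subgroup G)) := fun R₁ R₂ h => hmax ⟨(R₁, R₂), h⟩
  obtain ⟨D, hD⟩ : ∃ D : Subgroup G, D = (P₁ : Subgroup G) ⊓ (Q : Subgroup G) := ⟨_, rfl⟩
  rw [← hD] at hmax'
  obtain ⟨T, hT⟩ : ∃ T : Subgroup G, T = (P₁ : Subgroup G) ⊓ Subgroup.normalizer (D : Set G) :=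
    ⟨_, rfl⟩
  have hDP : D ≤ P₁ := by rw [hD]; exact inf_le_left
  have hDQ : D ≤ Q := by rw [hD]; exact inf_le_right
  have hDT : D ≤ T := by rw [hT]; exact le_inf hDP Subgroup.le_normalizer
  have hTP : T ≤ P₁ := by rw [hT]; exact inf_le_left
  have hTN : T ≤ Subgroup.normalizer (D : Set G) := by rw [hT]; exact inf_le_right
  have hDne : D ≠ (P₁ : Subgroup G) := by
    intro h
    have h1 : (P₁ : Subgroup G) ≤ Q := by rw [← h]; exact hDQ
    exact hPQ (Sylow.ext (P₁.3 Q.2 h1).symm)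
  have hDltT : D < T := by
    have hnil : Group.IsNilpotent (P₁ : Subgroup G) := P₁.isPGroup'.isNilpotent
    have hNC := @Group.normalizerCondition_of_isNilpotent _ _ hnil
    have hlt : D.subgroupOf P₁ < ⊤ := by
      rw [lt_top_iff_ne_top]
      intro h
      rw [Subgroup.subgroupOf_eq_top] at h
      exact hDne (le_antisymm hDP h)
    have h3 := hNC _ hlt
    obtain ⟨t, htN, htD⟩ := SetLike.exists_of_lt h3
    rw [SetLike.lt_iff_le_and_exists]
    refine ⟨hDT, (t : G), ?_, ?_⟩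
    · rw [hT]
      refine Subgroup.mem_inf.mpr ⟨t.2, ?_⟩
      rw [Subgroup.mem_normalizer_iff]
      intro h
      rw [Subgroup.mem_normalizer_iff] at htN
      constructor
      · intro hh
        have := (htN ⟨h, hDP hh⟩).mp (Subgroup.mem_subgroupOf.mpr hh)
        exact Subgroup.mem_subgroupOf.mp this
      · intro hh
        have hhP : h ∈ (P₁ : Subgroup G) := by
          have h1 : (t : G) * h * (t : G)⁻¹ ∈ (P₁ : Subgroup G) := hDP hh
          have h2 : h = (t : G)⁻¹ * ((t : G) * h * (t : G)⁻¹) * (t : G) := by group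
          rw [h2]
          exact (P₁ : Subgroup G).mul_mem ((P₁ : Subgroup G).mul_mem
            ((P₁ : Subgroup G).inv_mem t.2) h1) t.2
        have := (htN ⟨h, hhP⟩).mpr (Subgroup.mem_subgroupOf.mpr hh)
        exact Subgroup.mem_subgroupOf.mp this
    · intro h
      exact htD (Subgroup.mem_subgroupOf.mpr h)
  have hTp : IsPGroup p T := P₁.isPGroup'.to_le hTP
  have hT1 : p * Nat.card D ≤ Nat.card T := card_ge_of_lt_pgroup p D T hDltT hTp
  have hT2 : Nat.card T ≤ Nat.card (P₁ : Subgroup G) := Subgroup.card_le_of_le hTP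
  have hcP₁ : Nat.card (P₁ : Subgroup G) = Nat.card (P : Subgroup G) := by
    rw [P₁.card_eq_multiplicity, P.card_eq_multiplicity]
  have hcQ : Nat.card (Q : Subgroup G) = Nat.card (P : Subgroup G) := by
    rw [Q.card_eq_multiplicity, P.card_eq_multiplicity]
  -- D ≤ s • Q for s ∈ T
  have hQ1 : ∀ s ∈ T, D ≤ ((s • Q : Sylow p G) : Subgroup G) := by
    intro s hs d hd
    rw [mem_smul_sylow]
    exact hDQ ((Subgroup.mem_normalizer_iff''.mp (hTN hs) d).mp hd)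
  have HK : ∀ t ∈ T, ∀ s ∈ T, ∀ v : G, v ∉ D → s⁻¹ * v * s ∈ (Q : Subgroup G) →
      t⁻¹ * v * t ∈ (Q : Subgroup G) → s⁻¹ * t ∈ D := by
    intro t ht s hs v hvD hvs hvt
    have heq : (s • Q : Sylow p G) = t • Q := by
      by_contra hne'
      have h1 := hmax' _ _ hne'
      have h2 : D ≤ ((s • Q : Sylow p G) : Subgroup G) ⊓ ((t • Q : Sylow p G) : Subgroup G) :=
        le_inf (hQ1 s hs) (hQ1 t ht)
      have h3 := Subgroup.eq_of_le_of_card_ge h2 h1
      apply hvD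
      rw [h3]
      exact Subgroup.mem_inf.mpr ⟨(mem_smul_sylow p s v Q).mpr hvs, (mem_smul_sylow p t v Q).mpr hvt⟩
    have h4 : (s⁻¹ * t) • Q = Q := by
      rw [mul_smul, ← heq, inv_smul_smul]
    have h5 := Sylow.smul_eq_iff_mem_normalizer.mp h4
    have h6 : s⁻¹ * t ∈ (P₁ : Subgroup G) :=
      (P₁ : Subgroup G).mul_mem ((P₁ : Subgroup G).inv_mem (hTP hs)) (hTP ht)
    have h7 : s⁻¹ * t ∈ (P₁ : Subgroup G) ⊓ _ :=
      Subgroup.mem_inf.mpr ⟨h6, h5⟩
    rw [P₁.isPGroup'.inf_normalizer_sylow Q] at h7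
    rw [hD]
    exact h7
  have cnt := counting T D (Q : Subgroup G) hDT hDQ hTN HK
  -- W
  have hW : Nat.card (W D (Q : Subgroup G)) + Nat.card D = Nat.card (Q : Subgroup G) := by
    have h1 : W D (Q : Subgroup G) = ((Q : Subgroup G) : Set G) \ (D : Set G) := by
      ext y; rfl
    rw [h1, Nat.card_coe_set_eq]
    have h2 := Set.ncard_sdiff_add_ncard_of_subset (s := (D : Set G)) (t := ((Q : Subgroup G) : Set G))
      (fun x hx => hDQ hx) (Set.toFinite _)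
    rw [← Nat.card_coe_set_eq (D : Set G), ← Nat.card_coe_set_eq ((Q : Subgroup G) : Set G)] at h2
    exact h2
  -- the union
  have hVU : V T D (Q : Subgroup G) ⊆ {g : G | ∃ k : ℕ, orderOf g = p ^ k} := by
    rintro v ⟨t, ht, y, hy, hyD, rfl⟩
    show ∃ k : ℕ, orderOf (t * y * t⁻¹) = p ^ k
    rw [orderOf_conj']
    obtain ⟨k, hk⟩ := (IsPGroup.iff_orderOf.mp Q.isPGroup') ⟨y, hy⟩
    exact ⟨k, by rw [← hk, Subgroup.orderOf_mk]⟩
  have hPU : ((P₁ : Subgroup G) : Set G) ⊆ {g : G | ∃ k : ℕ, orderOf g = p ^ k} := by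
    intro y hy
    obtain ⟨k, hk⟩ := (IsPGroup.iff_orderOf.mp P₁.isPGroup') ⟨y, hy⟩
    exact ⟨k, by rw [← hk, Subgroup.orderOf_mk]⟩
  have hdisj : Disjoint ((P₁ : Subgroup G) : Set G) (V T D (Q : Subgroup G)) := by
    rw [Set.disjoint_left]
    rintro v hvP ⟨t, ht, y, hy, hyD, rfl⟩
    apply hyD
    rw [hD]
    refine Subgroup.mem_inf.mpr ⟨?_, hy⟩
    have h2 : y = t⁻¹ * (t * y * t⁻¹) * t := by group
    rw [h2]
    exact (P₁ : Subgroup G).mul_mem ((P₁ : Subgroup G).mul_mem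
      ((P₁ : Subgroup G).inv_mem (hTP ht)) hvP) (hTP ht)
  have hsum : Nat.card (P₁ : Subgroup G) + Nat.card (V T D (Q : Subgroup G)) ≤
      Nat.card {g : G // ∃ k : ℕ, orderOf g = p ^ k} := by
    have e1 : Nat.card {g : G // ∃ k : ℕ, orderOf g = p ^ k} =
        ({g : G | ∃ k : ℕ, orderOf g = p ^ k} : Set G).ncard := Nat.card_coe_set_eq _
    have e2 : Nat.card (P₁ : Subgroup G) = (((P₁ : Subgroup G) : Set G)).ncard :=
      Nat.card_coe_set_eq _
    rw [e1, e2, Nat.card_coe_set_eq (V T D (Q : Subgroup G)),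
      ← Set.ncard_union_eq hdisj (Set.toFinite _) (Set.toFinite _)]
    exact Set.ncard_le_ncard (Set.union_subset hPU hVU) (Set.toFinite _)
  have hDpos : 0 < Nat.card D := Nat.card_pos
  have hVW : p * Nat.card (W D (Q : Subgroup G)) ≤ Nat.card (V T D (Q : Subgroup G)) := by
    apply Nat.le_of_mul_le_mul_right (c := Nat.card D) _ hDpos
    rw [cnt]
    calc p * Nat.card (W D (Q : Subgroup G)) * Nat.card D
        = (p * Nat.card D) * Nat.card (W D (Q : Subgroup G)) := by ring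
      _ ≤ Nat.card T * Nat.card (W D (Q : Subgroup G)) := Nat.mul_le_mul_right _ hT1
  nlinarith

end Cfsg.Agent.S4092
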