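import Cfsg.Statements.S4093
import Mathlib

set_option autoImplicit false
open scoped BigOperators Pointwise
open Cfsg

namespace Cfsg.Agent.S4093

lemma orderOf_conj' {G : Type*} [Group G] (a b : G) : orderOf (a * b * a⁻¹) = orderOf b := by
  rw [← MulAut.conj_apply]
  exact MulEquiv.orderOf_eq (MulAut.conj a) b

/-- orbit of `g` under conjugation by `L` -/
def orb {G : Type*} [Group G] (L : Subgroup G) (g : G) : Set G :=
  {y : G | ∃ x ∈ L, x * g * x⁻¹ = y}

lemma orbit_stab {G : Type*} [Group G] [Finite G] (L : Subgroup G) (g : G) :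
    Nat.card (orb L g) * Nat.card ↥(L ⊓ Subgroup.centralizer ({g} : Set G)) = Nat.card L := by
  classical
  rw [← Nat.card_prod]
  apply Nat.card_congr
  have hch : ∀ y : orb L g, ∃ x : G, x ∈ L ∧ x * g * x⁻¹ = (y : G) := fun y => y.2
  choose r hrL hr using hch
  refine
    { toFun := fun yc => ⟨r yc.1 * (yc.2 : G), L.mul_mem (hrL yc.1) (Subgroup.mem_inf.mp yc.2.2).1⟩
      invFun := fun x => (⟨(x : G) * g * (x : G)⁻¹, ⟨x, x.2, rfl⟩⟩,
        ⟨(r ⟨(x : G) * g * (x : G)⁻¹, ⟨x, x.2, rfl⟩⟩)⁻¹ * (x : G), ?_⟩)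
      left_inv := ?_
      right_inv := ?_ }
  · refine Subgroup.mem_inf.mpr ⟨L.mul_mem (L.inv_mem (hrL _)) x.2, ?_⟩
    rw [Subgroup.mem_centralizer_iff]
    intro z hz
    rw [Set.mem_singleton_iff] at hz
    subst hz
    have h1 := hr ⟨(x : G) * z * (x : G)⁻¹, ⟨x, x.2, rfl⟩⟩
    simp only at h1
    set r0 := r ⟨(x : G) * z * (x : G)⁻¹, ⟨x, x.2, rfl⟩⟩ with hr0
    have h2 : z = r0⁻¹ * ((x : G) * z * (x : G)⁻¹) * r0 := by
      rw [← h1]; group
    calc z * (r0⁻¹ * (x : G)) = (r0⁻¹ * ((x : G) * z * (x : G)⁻¹) * r0) * (r0⁻¹ * (x : G)) := by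
            rw [← h2]
      _ = r0⁻¹ * (x : G) * z := by group
  · rintro ⟨y, c⟩
    have hc : g * (c : G) = (c : G) * g := by
      have := (Subgroup.mem_inf.mp c.2).2
      rw [Subgroup.mem_centralizer_iff] at this
      exact this g rfl
    have e1 : (r y * (c : G)) * g * (r y * (c : G))⁻¹ = (y : G) := by
      rw [← hr y]
      calc (r y * (c : G)) * g * (r y * (c : G))⁻¹ = r y * ((c : G) * g) * (c : G)⁻¹ * (r y)⁻¹ := by group
        _ = r y * (g * (c : G)) * (c : G)⁻¹ * (r y)⁻¹ := by rw [hc]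
        _ = r y * g * (r y)⁻¹ := by group
    have e2 : (⟨(r y * (c : G)) * g * (r y * (c : G))⁻¹, ⟨_, L.mul_mem (hrL y) (Subgroup.mem_inf.mp c.2).1, rfl⟩⟩ : orb L g) = y :=
      Subtype.ext e1
    apply Prod.ext
    · exact e2
    · apply Subtype.ext
      simp only
      rw [e2]
      group
  · intro x
    apply Subtype.ext
    simp only
    group

lemma card_orb {G : Type*} [Group G] [Finite G] (L : Subgroup G) (g : G) :
    Nat.card (orb L g) = Nat.card L / Nat.card ↥(L ⊓ Subgroup.centralizer ({g} : Set G)) := by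
  have h := orbit_stab L g
  have hpos : 0 < Nat.card ↥(L ⊓ Subgroup.centralizer ({g} : Set G)) := Nat.card_pos
  exact (Nat.div_eq_of_eq_mul_left hpos h.symm).symm

theorem result {G : Type*} [Group G] [Finite G] (p : ℕ) [Fact p.Prime]
    (P : Sylow p G) (N : Subgroup G) [N.Normal] (hNP : N.IsComplement' (P : Subgroup G)) :
    Nat.card {g : G // ∃ k : ℕ, orderOf g = p ^ k} =
      ∑ᶠ x : (P : Subgroup G), Nat.card N / Nat.card ↥(N ⊓ Subgroup.centralizer ({(x : G)} : Set G)) := by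
  classical
  have : Fintype (P : Subgroup G) := Fintype.ofFinite _
  rw [finsum_eq_sum_of_fintype]
  have hdisj : ∀ u : G, u ∈ N → u ∈ (P : Subgroup G) → u = 1 := by
    intro u h1 h2
    have := hNP.disjoint
    rw [Subgroup.disjoint_def] at this
    exact this h1 h2
  have hdec : ∀ g : G, ∃ n ∈ N, ∃ x ∈ (P : Subgroup G), g = n * x := by
    intro g
    have hg : g ∈ ((N ⊔ (P : Subgroup G) : Subgroup G) : Set G) := by
      rw [hNP.sup_eq_top]; trivial
    rw [Subgroup.normal_mul] at hg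
    obtain ⟨m, hm, h, hh, rfl⟩ := Set.mem_mul.mp hg
    exact ⟨m, hm, h, hh, rfl⟩
  -- membership in an orbit implies same coset
  have hcoset : ∀ (x y : G), y ∈ orb N x → y * x⁻¹ ∈ N := by
    rintro x y ⟨n, hn, rfl⟩
    have : n * x * n⁻¹ * x⁻¹ = n * (x * n⁻¹ * x⁻¹) := by group
    rw [this]
    exact N.mul_mem hn (‹N.Normal›.conj_mem _ (N.inv_mem hn) _)
  -- the bijection
  let f : (Σ x : (P : Subgroup G), orb N (x : G)) → {g : G // ∃ k : ℕ, orderOf g = p ^ k} :=
    fun xy => ⟨(xy.2 : G), by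
      obtain ⟨n, hn, hy⟩ := xy.2.2
      rw [← hy, orderOf_conj']
      obtain ⟨k, hk⟩ := (IsPGroup.iff_orderOf.mp P.isPGroup') xy.1
      exact ⟨k, by rw [← hk, Subgroup.orderOf_coe]⟩⟩
  have hf : Function.Bijective f := by
    constructor
    · rintro ⟨x, y⟩ ⟨x', y'⟩ h
      have hyy : (y : G) = (y' : G) := by
        have := congrArg (fun w : {g : G // ∃ k : ℕ, orderOf g = p ^ k} => (w : G)) h
        simpa [f] using this
      have h1 := hcoset _ _ y.2
      have h2 := hcoset _ _ y'.2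
      rw [← hyy] at h2
      have h3 : (x : G) * (x' : G)⁻¹ ∈ N := by
        have : (x : G) * (x' : G)⁻¹ = ((y : G) * (x : G)⁻¹)⁻¹ * ((y : G) * (x' : G)⁻¹) := by group
        rw [this]
        exact N.mul_mem (N.inv_mem h1) h2
      have h4 : (x : G) * (x' : G)⁻¹ ∈ (P : Subgroup G) :=
        (P : Subgroup G).mul_mem x.2 ((P : Subgroup G).inv_mem x'.2)
      have h5 : (x : G) = (x' : G) := by
        have := hdisj _ h3 h4
        exact mul_inv_eq_one.mp this
      have h6 : x = x' := Subtype.ext h5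
      subst h6
      have h7 : y = y' := Subtype.ext hyy
      subst h7
      rfl
    · rintro ⟨g, k, hk⟩
      have hgP : IsPGroup p (Subgroup.zpowers g) := by
        apply IsPGroup.of_card (n := k)
        rw [Nat.card_zpowers, hk]
      obtain ⟨Q, hQ⟩ := hgP.exists_le_sylow
      obtain ⟨h, hh⟩ := MulAction.exists_smul_eq G P Q
      have hgQ : g ∈ (Q : Subgroup G) := hQ (Subgroup.mem_zpowers g)
      rw [← hh, Sylow.coe_subgroup_smul, Subgroup.mem_pointwise_smul_iff_inv_smul_mem] at hgQ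
      simp only [MulAut.smul_def, ← map_inv, MulAut.conj_apply, inv_inv] at hgQ
      obtain ⟨n, hn, x', hx', hnx⟩ := hdec h
      set x : G := x' * (h⁻¹ * g * h) * x'⁻¹ with hx
      have hxP : x ∈ (P : Subgroup G) :=
        (P : Subgroup G).mul_mem ((P : Subgroup G).mul_mem hx' hgQ) ((P : Subgroup G).inv_mem hx')
      have hgx : n * x * n⁻¹ = g := by
        rw [hx, hnx]; group
      refine ⟨⟨⟨x, hxP⟩, ⟨g, ⟨n, hn, hgx⟩⟩⟩, ?_⟩
      rfl
  rw [← Nat.card_congr (Equiv.ofBijective f hf), Nat.card_sigma]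
  apply Finset.sum_congr rfl
  intro x _
  exact card_orb N (x : G)

end Cfsg.Agent.S4093
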