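import Cfsg.Statements.S4097
import Cfsg.Agent.S0035
import Cfsg.Agent.S0033
import Cfsg.Agent.Lib.Helper65.SolvableSup

set_option autoImplicit false
open Cfsg
open scoped Pointwise

namespace Cfsg.Agent.S4097

universe u

/-- the hypothesis, in elementwise form -/
def Hyp {G : Type u} [Group G] (A : Subgroup G) : Prop :=
  ∀ S : Subgroup G, A ≤ S → Group.IsSolvable S → ∀ a ∈ A, ∀ s ∈ S, a * s = s * a

/-- the black box: Frobenius kernels are normal solvable complements -/
def FrobBox : Prop :=
  ∀ (G : Type u) [Group G] [Finite G] (H : Subgroup G), Cfsg.IsFrobeniusComplement H →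
    ∃ N : Subgroup G, N.Normal ∧ Group.IsSolvable N ∧ Subgroup.IsComplement' N H

theorem hyp_subgroup {G : Type u} [Group G] (A H : Subgroup G) (hAH : A ≤ H) (hc : Hyp A) :
    Hyp (A.subgroupOf H) := by
  intro S' hAS' hS' a ha s hs
  have hsolv : Group.IsSolvable ↥(S'.map H.subtype) :=
    Group.isSolvable_of_surjective
      (f := (S'.equivMapOfInjective H.subtype H.subtype_injective).toMonoidHom)
      (S'.equivMapOfInjective H.subtype H.subtype_injective).surjective
  have hAS : A ≤ S'.map H.subtype := by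
    intro x hx
    exact ⟨⟨x, hAH hx⟩, hAS' (Subgroup.mem_subgroupOf.mpr hx), rfl⟩
  have := hc _ hAS hsolv (a : G) (Subgroup.mem_subgroupOf.mp ha) (s : G) ⟨s, hs, rfl⟩
  exact Subtype.ext this

theorem conj_mem_normalizer_of_forall {G : Type u} [Group G] (B : Subgroup G)
    (h : ∀ g : G, ∀ b ∈ B, g * b * g⁻¹ ∈ B) (g : G) : g ∈ Subgroup.normalizer (B : Set G) := by
  rw [Subgroup.mem_normalizer_iff]
  intro b
  refine ⟨h g b, fun hb => ?_⟩
  have := h g⁻¹ _ hb
  simpa [mul_assoc] using this

/-- a solvable subgroup containing `A` and `g`, from a solvable "normal" overgroup of `A` -/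
theorem commute_of_normal_solvable {G : Type u} [Group G] (A : Subgroup G) (hc : Hyp A)
    (B : Subgroup G) (hAB : A ≤ B) (hB : Group.IsSolvable B)
    (hBn : ∀ g : G, ∀ b ∈ B, g * b * g⁻¹ ∈ B) : ∀ a ∈ A, ∀ g : G, a * g = g * a := by
  intro a ha g
  have hle : Subgroup.zpowers g ≤ Subgroup.normalizer (B : Set G) := by
    rw [Subgroup.zpowers_le]
    exact conj_mem_normalizer_of_forall B hBn g
  have : Group.IsSolvable ↥(Subgroup.zpowers g) := Cfsg.Agent.Lib.Helper65.isSolvable_zpowers g
  have hs := Cfsg.Agent.Lib.Helper65.isSolvable_sup_of_le_normalizer (Subgroup.zpowers g) B hle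
  exact hc _ (hAB.trans le_sup_right) hs a ha g
    ((le_sup_left : Subgroup.zpowers g ≤ _) (Subgroup.mem_zpowers g))

theorem mem_normalizer_of_conj_mem {G : Type u} [Group G] [Finite G] (M : Subgroup G) (g : G)
    (hg : ∀ m ∈ M, g * m * g⁻¹ ∈ M) : g ∈ Subgroup.normalizer (M : Set G) := by
  rw [Subgroup.mem_normalizer_iff]
  intro h
  refine ⟨hg h, fun hh => ?_⟩
  let f : M → M := fun m => ⟨g * m * g⁻¹, hg m m.2⟩
  have hinj : Function.Injective f := by
    intro m n hmn
    have h1 : g * m * g⁻¹ = g * n * g⁻¹ := congrArg Subtype.val hmn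
    apply Subtype.ext
    exact mul_left_cancel (mul_right_cancel h1)
  obtain ⟨m, hm⟩ := (Finite.injective_iff_surjective.mp hinj) ⟨_, hh⟩
  have h1 : g * m * g⁻¹ = g * h * g⁻¹ := congrArg Subtype.val hm
  have h2 : (m : G) = h := mul_left_cancel (mul_right_cancel h1)
  rw [← h2]
  exact m.2

theorem main (hFK : FrobBox.{u}) : ∀ n : ℕ, ∀ (G : Type u) [Group G] [Finite G], Nat.card G = n →
    ∀ A : Subgroup G, Group.IsSolvable A → Hyp A → ∀ a ∈ A, ∀ g : G, a * g = g * a := by
  intro n
  induction n using Nat.strong_induction_on with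
  | _ n ih =>
  intro G _ _ hn A hA hc
  by_contra hcon
  -- `A` is abelian
  have hAab : ∀ a ∈ A, ∀ b ∈ A, a * b = b * a := fun a ha b hb => hc A le_rfl hA a ha b hb
  -- Step 1: proper overgroups centralise `A`
  have step1 : ∀ H : Subgroup G, A ≤ H → H ≠ ⊤ → ∀ a ∈ A, ∀ h ∈ H, a * h = h * a := by
    intro H hAH hH a ha h hh
    have hcard : Nat.card H < n := by
      rw [← hn]
      refine lt_of_le_of_ne (Subgroup.card_le_card_group H) ?_
      intro heq
      exact hH (Subgroup.eq_top_of_card_eq H heq)
    have hsolv : Group.IsSolvable ↥(A.subgroupOf H) :=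
      Group.isSolvable_of_surjective (f := (Subgroup.subgroupOfEquivOfLe hAH).symm.toMonoidHom)
        (Subgroup.subgroupOfEquivOfLe hAH).symm.surjective
    have := ih _ hcard ↥H rfl (A.subgroupOf H) hsolv (hyp_subgroup A H hAH hc) ⟨a, hAH ha⟩
      (Subgroup.mem_subgroupOf.mpr ha) ⟨h, hh⟩
    exact congrArg Subtype.val this
  -- Step 2: the centre is trivial
  have step2 : Subgroup.center G = ⊥ := by
    by_contra hZ
    have hcardQ : Nat.card (G ⧸ Subgroup.center G) < n := by
      have h1 := (Subgroup.center G).card_mul_index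
      rw [Subgroup.index_eq_card, hn] at h1
      have hZ1 : 1 < Nat.card (Subgroup.center G) := (Subgroup.one_lt_card_iff_ne_bot _).mpr hZ
      have hpos : 0 < Nat.card (G ⧸ Subgroup.center G) := Nat.card_pos
      nlinarith
    have hypQ : Hyp (A.map (QuotientGroup.mk' (Subgroup.center G))) := by
      intro S' hAS' hS' a' ha' s' hs'
      have hZS : Subgroup.center G ≤ S'.comap (QuotientGroup.mk' (Subgroup.center G)) := by
        intro z hz
        rw [Subgroup.mem_comap, QuotientGroup.mk'_apply, (QuotientGroup.eq_one_iff z).mpr hz]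
        exact one_mem _
      have hZsolv : Group.IsSolvable ↥(Subgroup.center G) := by
        apply Group.isSolvable_of_comm
        intro a b
        exact Subtype.ext ((Subgroup.mem_center_iff.mp a.2 b).symm)
      have hSsolv : Group.IsSolvable ↥(S'.comap (QuotientGroup.mk' (Subgroup.center G))) := by
        refine Group.isSolvable_of_ker_le_range (Subgroup.inclusion hZS)
          ((QuotientGroup.mk' (Subgroup.center G)).subgroupComap S') ?_
        intro x hx
        rw [MonoidHom.mem_ker] at hx
        have hx' : (QuotientGroup.mk' (Subgroup.center G)) (x : G) = 1 :=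
          congrArg Subtype.val hx
        rw [QuotientGroup.mk'_apply, QuotientGroup.eq_one_iff] at hx'
        exact ⟨⟨(x : G), hx'⟩, Subtype.ext rfl⟩
      have hAS : A ≤ S'.comap (QuotientGroup.mk' (Subgroup.center G)) :=
        fun a ha => hAS' (Subgroup.mem_map_of_mem _ ha)
      obtain ⟨a, ha, rfl⟩ := ha'
      obtain ⟨s, rfl⟩ := QuotientGroup.mk'_surjective (Subgroup.center G) s'
      have := hc _ hAS hSsolv a ha s hs'
      rw [← map_mul, ← map_mul, this]
    have hAQsolv : Group.IsSolvable ↥(A.map (QuotientGroup.mk' (Subgroup.center G))) :=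
      Group.isSolvable_of_surjective
        (f := (QuotientGroup.mk' (Subgroup.center G)).subgroupMap A)
        ((QuotientGroup.mk' (Subgroup.center G)).subgroupMap_surjective A)
    have hQ := ih _ hcardQ (G ⧸ Subgroup.center G) rfl _ hAQsolv hypQ
    have hcomm : ∀ a ∈ A, ∀ g : G, g * a * g⁻¹ * a⁻¹ ∈ Subgroup.center G := by
      intro a ha g
      have := hQ (QuotientGroup.mk' _ a) (Subgroup.mem_map_of_mem _ ha) (QuotientGroup.mk' _ g)
      rw [← QuotientGroup.eq_one_iff]
      have e : ((g * a * g⁻¹ * a⁻¹ : G) : G ⧸ Subgroup.center G) =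
          (QuotientGroup.mk' _ g) * (QuotientGroup.mk' _ a) * (QuotientGroup.mk' _ g)⁻¹ *
            (QuotientGroup.mk' _ a)⁻¹ := by
        simp only [QuotientGroup.mk'_apply, QuotientGroup.mk_mul, QuotientGroup.mk_inv]
      rw [e, ← this]
      group
    -- `B = A ⊔ Z` is solvable and invariant
    have hZle : A ≤ Subgroup.normalizer ((Subgroup.center G : Subgroup G) : Set G) := by
      rw [Subgroup.normalizer_eq_top]
      exact le_top
    have hZsolv : Group.IsSolvable ↥(Subgroup.center G) := by
      apply Group.isSolvable_of_comm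
      intro a b
      exact Subtype.ext ((Subgroup.mem_center_iff.mp a.2 b).symm)
    have hBsolv := Cfsg.Agent.Lib.Helper65.isSolvable_sup_of_le_normalizer A (Subgroup.center G) hZle
    have hBn : ∀ g : G, ∀ b ∈ A ⊔ Subgroup.center G, g * b * g⁻¹ ∈ A ⊔ Subgroup.center G := by
      intro g b hb
      rw [← SetLike.mem_coe, Subgroup.mul_normal] at hb
      obtain ⟨a, ha, z, hz, rfl⟩ := hb
      have e : g * (a * z) * g⁻¹ = (g * a * g⁻¹ * a⁻¹) * a * (g * z * g⁻¹) := by group
      rw [e]
      refine mul_mem (mul_mem ?_ ?_) ?_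
      · exact (le_sup_right : Subgroup.center G ≤ _) (hcomm a ha g)
      · exact (le_sup_left : A ≤ _) ha
      · refine (le_sup_right : Subgroup.center G ≤ _) ?_
        exact (inferInstance : (Subgroup.center G).Normal).conj_mem z hz g
    exact hcon (commute_of_normal_solvable A hc _ le_sup_left hBsolv hBn)
  -- Step 3: the centraliser of `A`
  set M := Subgroup.centralizer (A : Set G) with hMdef
  have hmemM : ∀ x, x ∈ M ↔ ∀ a ∈ A, a * x = x * a := by
    intro x
    rw [hMdef, Subgroup.mem_centralizer_iff]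
    rfl
  have hAM : A ≤ M := fun a ha => (hmemM a).mpr (fun b hb => hAab b hb a ha)
  have hMtop : M ≠ ⊤ := by
    intro htop
    apply hcon
    intro a ha g
    exact (hmemM g).mp (htop ▸ Subgroup.mem_top g) a ha
  have hleM : ∀ H : Subgroup G, A ≤ H → H ≠ ⊤ → H ≤ M := by
    intro H hAH hH h hh
    exact (hmemM h).mpr (fun a ha => step1 H hAH hH a ha h hh)
  -- Step 4: `M` is not normal
  have hMnn : ¬ ∀ g : G, ∀ m ∈ M, g * m * g⁻¹ ∈ M := by
    intro hMn
    have hAB : A ≤ M ⊓ Subgroup.centralizer (M : Set G) := by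
      intro a ha
      refine Subgroup.mem_inf.mpr ⟨hAM ha, ?_⟩
      rw [Subgroup.mem_centralizer_iff]
      intro m hm
      exact ((hmemM m).mp hm a ha).symm
    have hBsolv : Group.IsSolvable ↥(M ⊓ Subgroup.centralizer (M : Set G)) := by
      apply Group.isSolvable_of_comm
      intro x y
      have := Subgroup.mem_centralizer_iff.mp (Subgroup.mem_inf.mp x.2).2 y (Subgroup.mem_inf.mp y.2).1
      exact Subtype.ext this.symm
    have hBn : ∀ g : G, ∀ b ∈ M ⊓ Subgroup.centralizer (M : Set G),
        g * b * g⁻¹ ∈ M ⊓ Subgroup.centralizer (M : Set G) := by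
      intro g b hb
      rw [Subgroup.mem_inf] at hb
      refine Subgroup.mem_inf.mpr ⟨hMn g b hb.1, ?_⟩
      rw [Subgroup.mem_centralizer_iff]
      intro m hm
      have h1 : g⁻¹ * m * g ∈ M := by simpa using hMn g⁻¹ m hm
      have h2 := Subgroup.mem_centralizer_iff.mp hb.2 _ h1
      calc m * (g * b * g⁻¹) = g * ((g⁻¹ * m * g) * b) * g⁻¹ := by group
        _ = g * (b * (g⁻¹ * m * g)) * g⁻¹ := by rw [h2]
        _ = g * b * g⁻¹ * m := by group
    exact hcon (commute_of_normal_solvable A hc _ hAB hBsolv hBn)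
  -- Step 5: `M` is self-normalising
  have hNM : ∀ g : G, (∀ m ∈ M, g * m * g⁻¹ ∈ M) → g ∈ M := by
    intro g hg
    have hgN : g ∈ Subgroup.normalizer (M : Set G) := mem_normalizer_of_conj_mem M g hg
    have hNtop : Subgroup.normalizer (M : Set G) ≠ ⊤ := by
      intro htop
      apply hMnn
      intro g' m hm
      have hg' : g' ∈ Subgroup.normalizer (M : Set G) := htop ▸ Subgroup.mem_top g'
      exact (Subgroup.mem_normalizer_iff.mp hg' m).mp hm
    exact hleM _ (hAM.trans Subgroup.le_normalizer) hNtop hgN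
  -- Step 6: `M` meets its other conjugates trivially
  have step6 : ∀ g : G, g ∉ M → ∀ x ∈ M, (∃ m ∈ M, g * m * g⁻¹ = x) → x = 1 := by
    rintro g hg x hx ⟨m, hm, hmx⟩
    by_cases hT : A ⊔ A.map (MulAut.conj g).toMonoidHom = ⊤
    · have hxc : x ∈ Subgroup.center G := by
        rw [Subgroup.mem_center_iff]
        intro y
        have hy : y ∈ A ⊔ A.map (MulAut.conj g).toMonoidHom := hT ▸ Subgroup.mem_top y
        have hle : A ⊔ A.map (MulAut.conj g).toMonoidHom ≤
            Subgroup.centralizer ({x} : Set G) := by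
          rw [sup_le_iff]
          constructor
          · intro a ha
            rw [Subgroup.mem_centralizer_singleton_iff]
            exact ((hmemM x).mp hx a ha)
          · rintro _ ⟨a, ha, rfl⟩
            rw [Subgroup.mem_centralizer_singleton_iff]
            have h1 := (hmemM m).mp hm a ha
            simp only [MulEquiv.coe_toMonoidHom, MulAut.conj_apply]
            rw [← hmx]
            calc g * a * g⁻¹ * (g * m * g⁻¹) = g * (a * m) * g⁻¹ := by group
              _ = g * (m * a) * g⁻¹ := by rw [h1]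
              _ = g * m * g⁻¹ * (g * a * g⁻¹) := by group
        have h2 := hle hy
        rw [Subgroup.mem_centralizer_singleton_iff] at h2
        exact h2
      rw [step2] at hxc
      exact Subgroup.mem_bot.mp hxc
    · exfalso
      have hTM := hleM _ le_sup_left hT
      have hA'M : A.map (MulAut.conj g).toMonoidHom ≤ M := le_sup_right.trans hTM
      have hAH : A ≤ M.map (MulAut.conj g⁻¹).toMonoidHom := by
        intro a ha
        refine ⟨g * a * g⁻¹, hA'M ⟨a, ha, rfl⟩, ?_⟩
        simp only [MulEquiv.coe_toMonoidHom, MulAut.conj_apply]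
        group
      have hHtop : M.map (MulAut.conj g⁻¹).toMonoidHom ≠ ⊤ := by
        intro htop
        apply hMtop
        rw [eq_top_iff]
        intro y _
        have h1 : g⁻¹ * y * g ∈ M.map (MulAut.conj g⁻¹).toMonoidHom := htop ▸ Subgroup.mem_top _
        obtain ⟨m', hm', hmy⟩ := h1
        simp only [MulEquiv.coe_toMonoidHom, MulAut.conj_apply, inv_inv] at hmy
        have h2 : m' = y := mul_left_cancel (mul_right_cancel hmy)
        rw [← h2]
        exact hm'
      have hHM := hleM _ hAH hHtop
      have h3 : g⁻¹ ∈ M := hNM g⁻¹ (fun m' hm' => hHM ⟨m', hm', rfl⟩)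
      exact hg (by simpa using M.inv_mem h3)
  -- Step 7: Frobenius
  have hMbot : M ≠ ⊥ := by
    intro hbot
    apply hcon
    intro a ha g
    have h1 : a ∈ M := hAM ha
    rw [hbot, Subgroup.mem_bot] at h1
    rw [h1, one_mul, mul_one]
  have hfrob : Cfsg.IsFrobeniusComplement M := by
    refine ⟨hMbot, hMtop, ?_⟩
    intro g hg
    rw [eq_bot_iff]
    intro x hx
    rw [Subgroup.mem_inf] at hx
    obtain ⟨hx1, hx2⟩ := hx
    rw [Subgroup.mem_smul_pointwise_iff_exists] at hx2
    obtain ⟨m, hm, hmx⟩ := hx2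
    rw [Subgroup.mem_bot]
    exact step6 g hg x hx1 ⟨m, hm, by simpa [MulAut.smul_def] using hmx⟩
  obtain ⟨K, hKn, hKsolv, hKc⟩ := hFK G M hfrob
  have hAK : A ≤ Subgroup.normalizer (K : Set G) := by
    rw [Subgroup.normalizer_eq_top]
    exact le_top
  have hs := Cfsg.Agent.Lib.Helper65.isSolvable_sup_of_le_normalizer A K hAK
  have hKM : K ≤ M := by
    intro k hk
    rw [hmemM]
    intro a ha
    exact hc _ le_sup_left hs a ha k ((le_sup_right : K ≤ A ⊔ K) hk)
  have hKbot : K = ⊥ := by
    have h1 := hKc.disjoint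
    rw [disjoint_iff] at h1
    rw [← h1]
    exact (inf_eq_left.mpr hKM).symm
  rw [hKbot, Subgroup.isComplement'_bot_left] at hKc
  exact hMtop hKc

/-- Frobenius kernels are solvable (Frobenius + Thompson) -/
theorem frobBox : FrobBox.{u} := by
  intro G _ _ H hH
  obtain ⟨N, hNset, hNn, hNc⟩ := Cfsg.Agent.S0035.result H hH
  refine ⟨N, hNn, ?_, hNc⟩
  by_cases hNbot : N = ⊥
  · subst hNbot
    exact Group.isSolvable_of_comm (fun a b => Subsingleton.elim _ _)
  · obtain ⟨hHbot, hHtop, hTI⟩ := hH
    have hcard : Nat.card H ≠ 1 := by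
      intro h1
      exact hHbot (Subgroup.card_eq_one.mp h1)
    obtain ⟨p, hp, hpdvd⟩ := Nat.exists_prime_and_dvd hcard
    have : Fact p.Prime := ⟨hp⟩
    obtain ⟨a, ha⟩ := exists_prime_orderOf_dvd_card' p hpdvd
    have ha1 : (a : G) ≠ 1 := by
      intro h1
      have : a = 1 := Subtype.ext h1
      rw [this, orderOf_one] at ha
      exact hp.one_lt.ne ha
    have hdisj : N ⊓ H = ⊥ := disjoint_iff.mp hNc.disjoint
    have hfpf : ∀ k : N, (a : G) * k * (a : G)⁻¹ = k → k = 1 := by
      intro k hk
      by_contra hk1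
      have hkH : (k : G) ∉ H := by
        intro hkH
        have : (k : G) ∈ N ⊓ H := ⟨k.2, hkH⟩
        rw [hdisj, Subgroup.mem_bot] at this
        exact hk1 (Subtype.ext this)
      have hTIk := hTI k hkH
      have hamem : (a : G) ∈ H ⊓ (MulAut.conj (k : G) • H) := by
        refine Subgroup.mem_inf.mpr ⟨a.2, ?_⟩
        rw [Subgroup.mem_smul_pointwise_iff_exists]
        refine ⟨a, a.2, ?_⟩
        rw [MulAut.smul_def, MulAut.conj_apply]
        calc (k : G) * a * (k : G)⁻¹ = ((a : G) * k * (a : G)⁻¹) * a * (k : G)⁻¹ := by rw [hk]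
          _ = a := by group
      rw [hTIk, Subgroup.mem_bot] at hamem
      exact ha1 hamem
    let φ : N ≃* N := MulAut.conjNormal (a : G)
    have hφapp : ∀ k : N, ((φ k : N) : G) = (a : G) * k * (a : G)⁻¹ :=
      fun k => MulAut.conjNormal_apply (a : G) k
    have hφfpf : MonoidHom.FixedPointFree ((φ : N →* N)) := by
      intro k hk
      apply hfpf k
      rw [← hφapp k]
      exact congrArg Subtype.val hk
    have hφp : (φ : MulAut N) ^ p = 1 := by
      have h1 : (φ : MulAut N) ^ p = MulAut.conjNormal ((a : G) ^ p) := by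
        rw [map_pow]
      rw [h1]
      have h2 : (a : G) ^ p = 1 := by
        have := pow_orderOf_eq_one a
        rw [ha] at this
        have h3 := congrArg Subtype.val this
        simpa using h3
      rw [h2, map_one]
    have hφ1 : (φ : MulAut N) ≠ 1 := by
      intro h1
      apply hNbot
      rw [eq_bot_iff]
      intro x hx
      have h2 : φ ⟨x, hx⟩ = ⟨x, hx⟩ := by rw [h1]; rfl
      have h3 := hφfpf ⟨x, hx⟩ h2
      rw [Subgroup.mem_bot]
      exact congrArg Subtype.val h3
    have hord : orderOf (φ : MulAut N) = p := orderOf_eq_prime hφp hφ1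
    have hnil : Group.IsNilpotent N := Cfsg.Agent.S0033.result φ hφfpf p hp hord
    infer_instance

/-- Let A be a solvable subgroup of a finite group G such that A lies in the centre of every solvable subgroup of G containing A. Then A lies in the centre of G. -/
theorem result {G : Type*} [Group G] [Finite G]
    (A : Subgroup G) (hA : Group.IsSolvable A)
    (hc : ∀ S : Subgroup G, A ≤ S → Group.IsSolvable S → ∀ a ∈ A, ∀ s ∈ S, a * s = s * a) : A ≤ Subgroup.center G := by
  intro a ha
  rw [Subgroup.mem_center_iff]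
  intro g
  exact (main frobBox _ G rfl A hA hc a ha g).symm

end Cfsg.Agent.S4097
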