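import Cfsg.Statements.S4107
import Mathlib

set_option autoImplicit false
open Cfsg

namespace Cfsg.Agent.S4107

/-- A subgroup containing every Sylow subgroup is everything. -/
lemma eq_top_of_sylow_le' {K : Type*} [Group K] [Finite K] (L : Subgroup K)
    (h : ∀ (p : ℕ) [Fact p.Prime] (P : Sylow p K), (P : Subgroup K) ≤ L) : L = ⊤ := by
  apply Subgroup.eq_top_of_le_card
  apply Nat.le_of_dvd Nat.card_pos
  rw [Nat.dvd_iff_prime_pow_dvd_dvd]
  intro p k hp hpk
  have : Fact p.Prime := ⟨hp⟩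
  obtain ⟨P⟩ : Nonempty (Sylow p K) := inferInstance
  have h1 : Nat.card (P : Subgroup K) ∣ Nat.card L := Subgroup.card_dvd_of_le (h p P)
  have h2 : p ^ k ∣ Nat.card (P : Subgroup K) := P.pow_dvd_card_of_pow_dvd_card hpk
  exact h2.trans h1

section
variable {G : Type*} [Group G] [Finite G] (N : Subgroup G) [hNn : N.Normal]
  (heq : ∀ x : G, x ∉ N → ∀ n ∈ N, orderOf (x * n) = orderOf x)

include heq in
/-- Lemma A -/
lemma isPGroup_of_normal_pgroup_not_le (p : ℕ) [Fact p.Prime] (Q : Subgroup G) [hQn : Q.Normal]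
    (hQ : IsPGroup p Q) (x : G) (hxQ : x ∈ Q) (hxN : x ∉ N) : IsPGroup p N := by
  obtain ⟨k, hk⟩ := hQ ⟨x, hxQ⟩
  have hxk : x ^ (p ^ k) = 1 := by
    have := congrArg (fun w : Q => (w : G)) hk
    simpa using this
  intro n
  have h1 : orderOf (x * (n : G)) = orderOf x := heq x hxN n n.2
  have h2 : (x * (n : G)) ^ (p ^ k) = 1 := by
    apply orderOf_dvd_iff_pow_eq_one.mp
    rw [h1]
    exact orderOf_dvd_of_pow_eq_one hxk
  have h3 : (n : G) ^ (p ^ k) ∈ Q := by
    have e1 : ((QuotientGroup.mk' Q) (x * (n : G))) = (QuotientGroup.mk' Q) (n : G) := by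
      rw [map_mul]
      have : (QuotientGroup.mk' Q) x = 1 := by
        rw [QuotientGroup.mk'_apply, QuotientGroup.eq_one_iff]; exact hxQ
      rw [this, one_mul]
    have e2 : ((QuotientGroup.mk' Q) ((n : G) ^ (p ^ k))) = 1 := by
      rw [map_pow, ← e1, ← map_pow, h2, map_one]
    rw [QuotientGroup.mk'_apply, QuotientGroup.eq_one_iff] at e2
    exact e2
  obtain ⟨j, hj⟩ := hQ ⟨(n : G) ^ (p ^ k), h3⟩
  have hj' : ((n : G) ^ (p ^ k)) ^ (p ^ j) = 1 := by
    have := congrArg (fun w : Q => (w : G)) hj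
    simpa using this
  refine ⟨k + j, ?_⟩
  apply Subtype.ext
  rw [Subgroup.coe_pow, Subgroup.coe_one, pow_add, pow_mul]
  exact hj'

/-- Lemma C -/
lemma sylow_map_normal (K : Subgroup G) [hK : K.Normal] (hKn : Group.IsNilpotent K)
    (p : ℕ) [Fact p.Prime] (P : Sylow p K) :
    ((P : Subgroup K).map K.subtype).Normal ∧ IsPGroup p ((P : Subgroup K).map K.subtype) := by
  constructor
  · haveI : (P : Subgroup K).Normal := inferInstance
    have : (P : Subgroup K).Characteristic := Sylow.characteristic_of_normal P inferInstance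
    exact ConjAct.normal_of_characteristic_of_normal
  · exact P.isPGroup'.map K.subtype

include heq in
/-- If a normal nilpotent subgroup is not inside `N`, then `N` is a `p`-group for some prime `p`. -/
lemma exists_prime_isPGroup (K : Subgroup G) [hK : K.Normal] (hKn : Group.IsNilpotent K)
    (hKN : ¬ K ≤ N) : ∃ p : ℕ, p.Prime ∧ IsPGroup p N := by
  by_contra hcon
  push Not at hcon
  apply hKN
  have : N.subgroupOf K = ⊤ := by
    apply eq_top_of_sylow_le'
    intro p _ P y hy
    rw [Subgroup.mem_subgroupOf]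
    by_contra hyN
    obtain ⟨hn, hp⟩ := sylow_map_normal K hKn p P
    have hyQ : (y : G) ∈ (P : Subgroup K).map K.subtype := Subgroup.mem_map.mpr ⟨y, hy, rfl⟩
    exact hcon p (Fact.out) (isPGroup_of_normal_pgroup_not_le N heq p _ hp (y : G) hyQ hyN)
  exact Subgroup.subgroupOf_eq_top.mp this

end

theorem result {G : Type*} [Group G] [Finite G] (N : Subgroup G) [N.Normal] (hN1 : N ≠ ⊥) (hN2 : N ≠ ⊤)
    (heq : ∀ x : G, x ∉ N → ∀ n ∈ N, orderOf (x * n) = orderOf x) :
    (N ≤ Cfsg.fittingSubgroup G ∨ Cfsg.fittingSubgroup G ≤ N) ∧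
    (N < Cfsg.fittingSubgroup G → IsPrimePow (Nat.card (Cfsg.fittingSubgroup G))) := by
  have key : ¬ Cfsg.fittingSubgroup G ≤ N → ∃ p : ℕ, p.Prime ∧ IsPGroup p N := by
    intro hF
    unfold Cfsg.fittingSubgroup at hF
    rw [sSup_le_iff] at hF
    push Not at hF
    obtain ⟨K, ⟨hKn, hKnil⟩, hKN⟩ := hF
    exact exists_prime_isPGroup N heq K hKnil hKN
  constructor
  · by_cases hF : Cfsg.fittingSubgroup G ≤ N
    · right; exact hF
    · left
      obtain ⟨p, hp, hNp⟩ := key hF
      have : Fact p.Prime := ⟨hp⟩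
      apply le_sSup
      exact ⟨inferInstance, hNp.isNilpotent⟩
  · intro hlt
    have hF : ¬ Cfsg.fittingSubgroup G ≤ N := not_le_of_gt hlt
    obtain ⟨p, hp, hNp⟩ := key hF
    have : Fact p.Prime := ⟨hp⟩
    -- a nontrivial element of N
    obtain ⟨n, hn, hn1⟩ : ∃ n ∈ N, n ≠ 1 := by
      by_contra hcon
      push Not at hcon
      exact hN1 ((Subgroup.eq_bot_iff_forall N).mpr hcon)
    -- N is not a q-group for q ≠ p
    have hNq : ∀ q : ℕ, q.Prime → IsPGroup q N → q = p := by
      intro q hq hNq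
      obtain ⟨a, ha⟩ := hNp ⟨n, hn⟩
      obtain ⟨b, hb⟩ := hNq ⟨n, hn⟩
      have ha' : orderOf (⟨n, hn⟩ : N) ∣ p ^ a := orderOf_dvd_of_pow_eq_one ha
      have hb' : orderOf (⟨n, hn⟩ : N) ∣ q ^ b := orderOf_dvd_of_pow_eq_one hb
      have hne : orderOf (⟨n, hn⟩ : N) ≠ 1 := by
        intro h1
        apply hn1
        have := orderOf_eq_one_iff.mp h1
        exact congrArg (fun w : N => (w : G)) this
      obtain ⟨r, hr, hrd⟩ := Nat.exists_prime_and_dvd hne
      have h1 : r = p := (Nat.prime_dvd_prime_iff_eq hr hp).mp (hr.dvd_of_dvd_pow (hrd.trans ha'))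
      have h2 : r = q := (Nat.prime_dvd_prime_iff_eq hr hq).mp (hr.dvd_of_dvd_pow (hrd.trans hb'))
      rw [← h1, ← h2]
    -- every normal nilpotent subgroup is a p-group
    have hall : ∀ K ∈ {K : Subgroup G | K.Normal ∧ Group.IsNilpotent K}, IsPGroup p K := by
      rintro K ⟨hKn, hKnil⟩
      have hcard : Nat.card K = p ^ (Nat.card K).primeFactorsList.length := by
        apply Nat.eq_prime_pow_of_unique_prime_dvd Nat.card_pos.ne'
        intro d hd hdK
        have : Fact d.Prime := ⟨hd⟩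
        obtain ⟨y, hy⟩ := exists_prime_orderOf_dvd_card' (G := K) d hdK
        have hyP : IsPGroup d (Subgroup.zpowers y) := by
          apply IsPGroup.of_card (n := 1)
          rw [Nat.card_zpowers, hy, pow_one]
        obtain ⟨P, hP⟩ := hyP.exists_le_sylow
        obtain ⟨hn', hp'⟩ := sylow_map_normal K hKnil d P
        have hyQ : (y : G) ∈ (P : Subgroup K).map K.subtype :=
          Subgroup.mem_map.mpr ⟨y, hP (Subgroup.mem_zpowers y), rfl⟩
        by_cases hyN : (y : G) ∈ N
        · obtain ⟨a, ha⟩ := hNp ⟨(y : G), hyN⟩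
          have ha' : (y : G) ^ (p ^ a) = 1 := by
            have := congrArg (fun w : N => (w : G)) ha
            simpa using this
          have h1 : orderOf (y : G) ∣ p ^ a := orderOf_dvd_of_pow_eq_one ha'
          rw [Subgroup.orderOf_coe, hy] at h1
          exact (Nat.prime_dvd_prime_iff_eq hd hp).mp (hd.dvd_of_dvd_pow h1)
        · exact hNq d hd (isPGroup_of_normal_pgroup_not_le N heq d _ hp' (y : G) hyQ hyN)
      exact IsPGroup.of_card hcard
    have hFp : IsPGroup p (Cfsg.fittingSubgroup G) := by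
      unfold Cfsg.fittingSubgroup
      exact Sylow.sSup_of_normal _ hall (fun K hK => hK.1)
    obtain ⟨k, hk⟩ := IsPGroup.iff_card.mp hFp
    rw [hk]
    have hk0 : k ≠ 0 := by
      intro h0
      rw [h0, pow_zero] at hk
      have : Cfsg.fittingSubgroup G = ⊥ := Subgroup.card_eq_one.mp hk
      rw [this] at hlt
      exact not_lt_bot hlt
    exact hp.isPrimePow.pow hk0

end Cfsg.Agent.S4107
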