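import Cfsg.Statements.S4108
import Mathlib

set_option autoImplicit false
open Cfsg
open scoped Pointwise

namespace Cfsg.Agent.S4108

section
variable {G : Type*} [Group G] [Finite G] (N : Subgroup G) [hNn : N.Normal]
  (heq : ∀ x : G, x ∉ N → ∀ n ∈ N, orderOf (x * n) = orderOf x)
  (p : ℕ) [hpf : Fact p.Prime] (hNp : IsPGroup p N)
  (H : Subgroup G) (hcop : (Nat.card H).Coprime p)

include hNp hcop in
lemma coprime_orders (h n : G) (hh : h ∈ H) (hn : n ∈ N) : (orderOf h).Coprime (orderOf n) := by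
  obtain ⟨k, hk⟩ := hNp ⟨n, hn⟩
  have h1 : orderOf n ∣ p ^ k := by
    apply orderOf_dvd_of_pow_eq_one
    have := congrArg (fun w : N => (w : G)) hk
    simpa using this
  have h2 : orderOf h ∣ Nat.card H := Subgroup.orderOf_dvd_natCard H hh
  exact Nat.Coprime.coprime_dvd_left h2 (Nat.Coprime.coprime_dvd_right h1 (Nat.Coprime.pow_right k hcop))

include hNp hcop in
lemma F1 (u : G) (h1 : u ∈ H) (h2 : u ∈ N) : u = 1 := by
  have := coprime_orders N p hNp H hcop u u h1 h2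
  rw [Nat.coprime_self] at this
  exact orderOf_eq_one_iff.mp this

include heq hNp hcop in
lemma F2 (h n : G) (hh : h ∈ H) (h1 : h ≠ 1) (hn : n ∈ N) (hc : n * h = h * n) : n = 1 := by
  have hhN : h ∉ N := fun hN => h1 (F1 N p hNp H hcop h hh hN)
  have e1 : orderOf (h * n) = orderOf h := heq h hhN n hn
  have hcomm : Commute h n := hc.symm
  have e2 := hcomm.orderOf_mul_eq_mul_orderOf_of_coprime (coprime_orders N p hNp H hcop h n hh hn)
  rw [e1] at e2
  have hpos : 0 < orderOf h := orderOf_pos h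
  have : orderOf n = 1 := by
    have : orderOf h * 1 = orderOf h * orderOf n := by rw [mul_one]; exact e2
    exact (Nat.eq_of_mul_eq_mul_left hpos this).symm
  exact orderOf_eq_one_iff.mp this

lemma F3 (g : G) (hg : g ∈ N ⊔ H) : ∃ n ∈ N, ∃ h ∈ H, g = n * h := by
  have hg' : g ∈ ((N ⊔ H : Subgroup G) : Set G) := hg
  rw [Subgroup.normal_mul] at hg'
  obtain ⟨m, hm, h, hh, rfl⟩ := Set.mem_mul.mp hg'
  exact ⟨m, hm, h, hh, rfl⟩

include heq hNp hcop in
lemma F4 (h n : G) (hh : h ∈ H) (h1 : h ≠ 1) (hn : n ∈ N) :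
    ∃ m ∈ N, n * h = m * h * m⁻¹ := by
  let φ : N → N := fun u => ⟨(u : G) * h * (u : G)⁻¹ * h⁻¹, by
    have : (u : G) * h * (u : G)⁻¹ * h⁻¹ = (u : G) * (h * (u : G)⁻¹ * h⁻¹) := by group
    rw [this]
    exact N.mul_mem u.2 (hNn.conj_mem _ (N.inv_mem u.2) _)⟩
  have hinj : Function.Injective φ := by
    intro u v huv
    have e1 : (u : G) * h * (u : G)⁻¹ * h⁻¹ = (v : G) * h * (v : G)⁻¹ * h⁻¹ := by
      have := congrArg (fun w : N => (w : G)) huv
      simpa [φ] using this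
    have e2 : ((v : G)⁻¹ * (u : G)) * h = h * ((v : G)⁻¹ * (u : G)) := by
      have e3 : (u : G) * h * (u : G)⁻¹ = (v : G) * h * (v : G)⁻¹ := mul_right_cancel e1
      calc ((v : G)⁻¹ * (u : G)) * h = (v : G)⁻¹ * ((u : G) * h * (u : G)⁻¹) * (u : G) := by group
        _ = (v : G)⁻¹ * ((v : G) * h * (v : G)⁻¹) * (u : G) := by rw [e3]
        _ = h * ((v : G)⁻¹ * (u : G)) := by group
    have e4 := F2 N heq p hNp H hcop h _ hh h1 (N.mul_mem (N.inv_mem v.2) u.2) e2
    have e5 : (u : G) = (v : G) := by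
      have : (v : G) * ((v : G)⁻¹ * (u : G)) = (v : G) * 1 := by rw [e4]
      simpa using this
    exact Subtype.ext e5
  have hsurj : Function.Surjective φ := Finite.injective_iff_surjective.mp hinj
  obtain ⟨u, hu⟩ := hsurj ⟨n, hn⟩
  have hu' : (u : G) * h * (u : G)⁻¹ * h⁻¹ = n := by
    have := congrArg (fun w : N => (w : G)) hu
    simpa [φ] using this
  refine ⟨u, u.2, ?_⟩
  rw [← hu']; group

end

theorem result {G : Type*} [Group G] [Finite G] (N : Subgroup G) [N.Normal] (hN1 : N ≠ ⊥) (hN2 : N ≠ ⊤)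
    (heq : ∀ x : G, x ∉ N → ∀ n ∈ N, orderOf (x * n) = orderOf x)
    (p : ℕ) [Fact p.Prime] (hNp : IsPGroup p N) :
    ∀ H : Subgroup G, H ≠ ⊥ → (Nat.card H).Coprime p →
      Cfsg.IsFrobeniusComplement (H.subgroupOf (N ⊔ H)) ∧ Cfsg.frobeniusKernel (H.subgroupOf (N ⊔ H)) = (N.subgroupOf (N ⊔ H) : Set ↥(N ⊔ H)) := by
  intro H hH1 hcop
  have hmemK : ∀ e : ↥(N ⊔ H), e ∈ H.subgroupOf (N ⊔ H) ↔ (e : G) ∈ H := fun e => Subgroup.mem_subgroupOf
  have hmemL : ∀ e : ↥(N ⊔ H), e ∈ N.subgroupOf (N ⊔ H) ↔ (e : G) ∈ N := fun e => Subgroup.mem_subgroupOf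
  have hsmul : ∀ (g x : ↥(N ⊔ H)), x ∈ MulAut.conj g • H.subgroupOf (N ⊔ H) ↔
      ∃ k : G, k ∈ H ∧ (x : G) = (g : G) * k * (g : G)⁻¹ := by
    intro g x
    rw [Subgroup.mem_pointwise_smul_iff_inv_smul_mem, hmemK]
    simp only [MulAut.smul_def, ← map_inv, MulAut.conj_apply, inv_inv]
    constructor
    · intro hk
      refine ⟨_, hk, ?_⟩
      simp only [Subgroup.coe_mul, Subgroup.coe_inv]
      group
    · rintro ⟨k, hk, hx⟩
      simp only [Subgroup.coe_mul, Subgroup.coe_inv]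
      rw [hx]
      have : (g : G)⁻¹ * ((g : G) * k * (g : G)⁻¹) * (g : G) = k := by group
      rw [this]; exact hk
  refine ⟨⟨?_, ?_, ?_⟩, ?_⟩
  · -- K ≠ ⊥
    intro hK
    apply hH1
    rw [Subgroup.eq_bot_iff_forall]
    intro h hh
    have hmem : h ∈ N ⊔ H := (le_sup_right : H ≤ N ⊔ H) hh
    have : (⟨h, hmem⟩ : ↥(N ⊔ H)) ∈ H.subgroupOf (N ⊔ H) := (hmemK _).mpr hh
    rw [hK, Subgroup.mem_bot] at this
    exact congrArg (fun w : ↥(N ⊔ H) => (w : G)) this
  · -- K ≠ ⊤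
    intro hK
    apply hN1
    rw [Subgroup.eq_bot_iff_forall]
    intro n hn
    have hmem : n ∈ N ⊔ H := (le_sup_left : N ≤ N ⊔ H) hn
    have : (⟨n, hmem⟩ : ↥(N ⊔ H)) ∈ H.subgroupOf (N ⊔ H) := by rw [hK]; trivial
    have hnH : n ∈ H := (hmemK _).mp this
    exact F1 N p hNp H hcop n hnH hn
  · -- TI
    intro g hg
    rw [Subgroup.eq_bot_iff_forall]
    rintro y ⟨hy1, hy2⟩
    have hy1' : (y : G) ∈ H := (hmemK _).mp hy1
    obtain ⟨y', hy', hyy⟩ := (hsmul g y).mp hy2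
    obtain ⟨n, hn, h, hh, hgnh⟩ := F3 N H (g : G) g.2
    by_contra hy_ne
    have hyG : (y : G) ≠ 1 := by
      intro h1
      apply hy_ne
      exact Subtype.ext h1
    set y'' := h * y' * h⁻¹ with hy''
    have hyy' : (y : G) = n * y'' * n⁻¹ := by
      rw [hyy, hgnh, hy'']; group
    have hy''H : y'' ∈ H := H.mul_mem (H.mul_mem hh hy') (H.inv_mem hh)
    have h1 : (y : G) * y''⁻¹ ∈ H := H.mul_mem hy1' (H.inv_mem hy''H)
    have h2 : (y : G) * y''⁻¹ ∈ N := by
      have : (y : G) * y''⁻¹ = n * (y'' * n⁻¹ * y''⁻¹) := by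
        rw [hyy']; group
      rw [this]
      exact N.mul_mem hn (‹N.Normal›.conj_mem _ (N.inv_mem hn) _)
    have h3 : (y : G) * y''⁻¹ = 1 := F1 N p hNp H hcop _ h1 h2
    have h4 : (y : G) = y'' := by
      rw [mul_inv_eq_one] at h3; exact h3
    have h5 : n * (y : G) = (y : G) * n := by
      have : (y : G) = n * (y : G) * n⁻¹ := by
        conv_lhs => rw [hyy', ← h4]
      calc n * (y : G) = n * (y : G) * n⁻¹ * n := by group
        _ = (y : G) * n := by rw [← this]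
    have hn1 : n = 1 := F2 N heq p hNp H hcop (y : G) n hy1' hyG hn h5
    apply hg
    rw [hmemK, hgnh, hn1, one_mul]
    exact hh
  · -- kernel
    ext x
    simp only [Cfsg.frobeniusKernel, Set.mem_setOf_eq, SetLike.mem_coe]
    rw [hmemL]
    constructor
    · rintro (rfl | hx)
      · simp
      · by_contra hxN
        obtain ⟨n, hn, h, hh, hxnh⟩ := F3 N H (x : G) x.2
        have hh1 : h ≠ 1 := by
          intro h1
          apply hxN
          rw [hxnh, h1, mul_one]; exact hn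
        obtain ⟨m, hm, hmm⟩ := F4 N heq p hNp H hcop h n hh hh1 hn
        have hmem : m ∈ N ⊔ H := (le_sup_left : N ≤ N ⊔ H) hm
        apply hx ⟨m, hmem⟩
        rw [hsmul]
        exact ⟨h, hh, by rw [hxnh, hmm]⟩
    · intro hxN
      by_cases hx1 : x = 1
      · left; exact hx1
      · right
        intro g hxg
        obtain ⟨k, hk, hxk⟩ := (hsmul g x).mp hxg
        have hkN : k ∈ N := by
          have : k = (g : G)⁻¹ * (x : G) * ((g : G)⁻¹)⁻¹ := by rw [hxk]; group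
          rw [this]
          exact ‹N.Normal›.conj_mem _ hxN _
        have hk1 : k = 1 := F1 N p hNp H hcop k hk hkN
        apply hx1
        apply Subtype.ext
        rw [hxk, hk1]; simp

end Cfsg.Agent.S4108
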