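import Cfsg.Statements.S4112
import Mathlib

set_option autoImplicit false
open Cfsg

namespace Cfsg.Agent.S4112

universe u

theorem SUPP : ∀ (n : ℕ) (G : Type u) [Group G] [Finite G] (N M : Subgroup G) [N.Normal] [M.Normal],
    Nat.card G = n → M ≤ N → (N.index).Coprime (Nat.card M) →
    ∃ H : Subgroup G, H ⊔ N = ⊤ ∧ H ⊓ M = ⊥ := by
  intro n
  induction n using Nat.strong_induction_on with
  | _ n ih =>
  intro G _ _ N M _ _ hn hMN hcop
  by_cases hX : ∃ X : Subgroup G, X ≠ ⊤ ∧ X ⊔ N = ⊤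
  · obtain ⟨X, hXne, hXN⟩ := hX
    have hlt : Nat.card X < n := by
      rw [← hn]
      refine lt_of_le_of_ne (Subgroup.card_le_card_group X) ?_
      intro h
      exact hXne (Subgroup.eq_top_of_card_eq X h)
    have hidx : (N.subgroupOf X).index = N.index := by
      show N.relIndex X = N.index
      rw [← Subgroup.relIndex_sup_right X N, hXN, Subgroup.relIndex_top_right]
    have hcard : Nat.card (M.subgroupOf X) ∣ Nat.card M := by
      rw [← Subgroup.card_map_of_injective X.subtype_injective, Subgroup.subgroupOf_map_subtype]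
      exact Subgroup.card_dvd_of_le inf_le_left
    have hcop' : ((N.subgroupOf X).index).Coprime (Nat.card (M.subgroupOf X)) := by
      rw [hidx]
      exact Nat.Coprime.coprime_dvd_right hcard hcop
    have hle : M.subgroupOf X ≤ N.subgroupOf X := by
      intro x hx
      exact Subgroup.mem_subgroupOf.mpr (hMN (Subgroup.mem_subgroupOf.mp hx))
    obtain ⟨H', hH'1, hH'2⟩ := ih (Nat.card X) hlt ↥X (N.subgroupOf X) (M.subgroupOf X) rfl hle hcop'
    refine ⟨H'.map X.subtype, ?_, ?_⟩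
    · have h1 : (H' ⊔ N.subgroupOf X).map X.subtype = X := by
        rw [hH'1, ← MonoidHom.range_eq_map, Subgroup.range_subtype]
      rw [Subgroup.map_sup, Subgroup.subgroupOf_map_subtype] at h1
      have h2 : X ≤ H'.map X.subtype ⊔ N :=
        calc X = H'.map X.subtype ⊔ (N ⊓ X) := h1.symm
          _ ≤ H'.map X.subtype ⊔ N := sup_le_sup_left inf_le_left _
      apply top_le_iff.mp
      rw [← hXN]
      exact sup_le h2 le_sup_right
    · rw [Subgroup.eq_bot_iff_forall]
      rintro x ⟨hx1, hx2⟩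
      obtain ⟨h', hh', rfl⟩ := Subgroup.mem_map.mp hx1
      have : h' ∈ H' ⊓ M.subgroupOf X := ⟨hh', Subgroup.mem_subgroupOf.mpr hx2⟩
      rw [hH'2, Subgroup.mem_bot] at this
      rw [this]
      rfl
  · push Not at hX
    have hB : ∀ X : Subgroup G, X ⊔ N = ⊤ → X = ⊤ := fun X h => by
      by_contra hne
      exact hX X hne h
    refine ⟨⊤, top_sup_eq _, ?_⟩
    rw [top_inf_eq]
    by_contra hM
    have hM1 : Nat.card M ≠ 1 := by
      intro h
      exact hM (Subgroup.card_eq_one.mp h)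
    obtain ⟨q, hq, hqM⟩ := Nat.exists_prime_and_dvd hM1
    have : Fact q.Prime := ⟨hq⟩
    obtain ⟨Q₀⟩ : Nonempty (Sylow q N) := inferInstance
    obtain ⟨Q, hQ⟩ : ∃ Q : Subgroup G, Q = (Q₀ : Subgroup N).map N.subtype := ⟨_, rfl⟩
    have hfr := Sylow.normalizer_sup_eq_top Q₀
    rw [← hQ] at hfr
    have hQn : Q.Normal := by
      rw [← Subgroup.normalizer_eq_top_iff]
      exact hB _ hfr
    have hqN : ¬ q ∣ N.index := by
      intro h
      have h5 : q ∣ Nat.gcd N.index (Nat.card M) := Nat.dvd_gcd h hqM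
      rw [hcop] at h5
      exact hq.one_lt.ne' (Nat.dvd_one.mp h5)
    have hQi : ¬ q ∣ Q.index := by
      rw [hQ, Subgroup.index_map_subtype]
      intro h
      rcases (Nat.Prime.dvd_mul hq).mp h with h | h
      · exact Q₀.not_dvd_index h
      · exact hqN h
    have hQp : IsPGroup q Q := by
      rw [hQ]; exact Q₀.isPGroup'.map N.subtype
    have hQcop : (Nat.card Q).Coprime Q.index := by
      obtain ⟨a, ha⟩ := IsPGroup.iff_card.mp hQp
      rw [ha]
      exact ((Nat.Prime.coprime_iff_not_dvd hq).mpr hQi).pow_left a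
    obtain ⟨K, hK⟩ := Subgroup.exists_right_complement'_of_coprime hQcop
    have hQN : Q ≤ N := by
      rw [hQ]; exact Subgroup.map_subtype_le _
    have hKtop : K = ⊤ := by
      apply hB
      apply top_le_iff.mp
      rw [← hK.sup_eq_top]
      exact sup_le (le_sup_of_le_right hQN) le_sup_left
    have hQbot : Q = ⊥ := by
      have := hK.disjoint
      rw [hKtop] at this
      exact disjoint_top.mp this
    have hqN' : q ∣ Nat.card N := hqM.trans (Subgroup.card_dvd_of_le hMN)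
    have h1 : Nat.card (Q₀ : Subgroup N) = 1 := by
      rw [← Subgroup.card_map_of_injective N.subtype_injective, ← hQ, hQbot]
      exact Subgroup.card_bot
    have h2 := Q₀.dvd_card_of_dvd_card hqN'
    rw [h1] at h2
    exact hq.one_lt.ne' (Nat.dvd_one.mp h2)


lemma orderOf_conj' {G : Type*} [Group G] (a b : G) : orderOf (a * b * a⁻¹) = orderOf b := by
  rw [← MulAut.conj_apply]
  exact MulEquiv.orderOf_eq (MulAut.conj a) b

lemma dec {G : Type*} [Group G] [Finite G] (x : G) (p : ℕ) (hp : p.Prime) :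
    ∃ u v : G, u * v = x ∧ u ∈ Subgroup.zpowers x ∧ v ∈ Subgroup.zpowers x ∧
      (∃ a : ℕ, orderOf u = p ^ a) ∧ ¬ p ∣ orderOf v := by
  have hn0 : orderOf x ≠ 0 := (orderOf_pos x).ne'
  set a := (orderOf x).factorization p with ha
  set m := orderOf x / p ^ a with hm
  have hnm : p ^ a * m = orderOf x := Nat.ordProj_mul_ordCompl_eq_self (orderOf x) p
  have hcop : Nat.Coprime (p ^ a) m := (Nat.coprime_ordCompl hp hn0).pow_left a
  have hbez := Nat.gcd_eq_gcd_ab (p ^ a) m
  rw [hcop.gcd_eq_one] at hbez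
  have hpm : ¬ p ∣ m := Nat.not_dvd_ordCompl hp hn0
  refine ⟨x ^ ((m : ℤ) * Nat.gcdB (p ^ a) m), x ^ (((p ^ a : ℕ) : ℤ) * Nat.gcdA (p ^ a) m),
    ?_, Subgroup.zpow_mem_zpowers x _, Subgroup.zpow_mem_zpowers x _, ?_, ?_⟩
  · rw [← zpow_add]
    conv_rhs => rw [← zpow_one x]
    congr 1
    rw [Nat.cast_one] at hbez
    linarith
  · have h1 : (x ^ ((m : ℤ) * Nat.gcdB (p ^ a) m)) ^ (p ^ a) = 1 := by
      rw [← zpow_natCast, ← zpow_mul]
      have : (m : ℤ) * Nat.gcdB (p ^ a) m * ((p ^ a : ℕ) : ℤ) =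
          ((orderOf x : ℕ) : ℤ) * Nat.gcdB (p ^ a) m := by
        rw [← hnm]; push_cast; ring
      rw [this, zpow_mul, zpow_natCast, pow_orderOf_eq_one, one_zpow]
    obtain ⟨b, _, hb⟩ := (Nat.dvd_prime_pow hp).mp (orderOf_dvd_of_pow_eq_one h1)
    exact ⟨b, hb⟩
  · have h1 : (x ^ (((p ^ a : ℕ) : ℤ) * Nat.gcdA (p ^ a) m)) ^ m = 1 := by
      rw [← zpow_natCast, ← zpow_mul]
      have : ((p ^ a : ℕ) : ℤ) * Nat.gcdA (p ^ a) m * (m : ℤ) =
          ((orderOf x : ℕ) : ℤ) * Nat.gcdA (p ^ a) m := by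
        rw [← hnm]; push_cast; ring
      rw [this, zpow_mul, zpow_natCast, pow_orderOf_eq_one, one_zpow]
    intro hpd
    exact hpm (hpd.trans (orderOf_dvd_of_pow_eq_one h1))

lemma one_to_two {G : Type*} [Group G] [Finite G] (N M : Subgroup G) [N.Normal] [M.Normal]
    (h1 : ∀ x ∈ M, x ≠ 1 → Subgroup.centralizer ({x} : Set G) ≤ N) :
    N.index.Coprime (Nat.card M) := by
  apply Nat.coprime_of_dvd
  intro p hp hpN hpM
  have : Fact p.Prime := ⟨hp⟩
  obtain ⟨P⟩ : Nonempty (Sylow p G) := inferInstance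
  letI : MulAction (P : Subgroup G) M :=
    MulAction.compHom M ((MulAut.conjNormal (H := M)).comp (P : Subgroup G).subtype)
  have hsmul : ∀ (g : (P : Subgroup G)) (m : M), ((g • m : M) : G) = (g : G) * (m : G) * (g : G)⁻¹ := by
    intro g m
    exact MulAut.conjNormal_apply (g : G) m
  have hfix1 : (1 : M) ∈ MulAction.fixedPoints (P : Subgroup G) M := by
    intro g
    apply Subtype.ext
    rw [hsmul]
    simp
  obtain ⟨b, hb, hb1⟩ :=
    P.isPGroup'.exists_fixed_point_of_prime_dvd_card_of_fixed_point M hpM hfix1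
  have hPC : (P : Subgroup G) ≤ Subgroup.centralizer ({(b : G)} : Set G) := by
    intro g hg
    rw [Subgroup.mem_centralizer_iff]
    intro z hz
    rw [Set.mem_singleton_iff] at hz
    subst hz
    have h2 : g * (b : G) * g⁻¹ = (b : G) := by
      have := hb ⟨g, hg⟩
      have h3 := congrArg (fun w : M => (w : G)) this
      rw [← hsmul ⟨g, hg⟩ b]
      exact h3
    calc (b : G) * g = (g * (b : G) * g⁻¹) * g := by rw [h2]
      _ = g * (b : G) := by group
  have hbne : (b : G) ≠ 1 := by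
    intro h
    apply hb1
    exact Subtype.ext h.symm
  have hPN : (P : Subgroup G) ≤ N := hPC.trans (h1 b b.2 hbne)
  exact P.not_dvd_index (hpN.trans (Subgroup.index_dvd_of_le hPN))

lemma two_to_one {G : Type*} [Group G] [Finite G] (N M : Subgroup G) [N.Normal] [M.Normal]
    (hcam : ∀ g : G, g ∉ N → ∀ m ∈ M, ∃ x : G, x * g * x⁻¹ = g * m)
    (h2 : N.index.Coprime (Nat.card M)) :
    ∀ x ∈ M, x ≠ 1 → Subgroup.centralizer ({x} : Set G) ≤ N := by
  intro x hx hx1 g hg
  by_contra hgN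
  -- reduce to x of prime order
  have hn1 : orderOf x ≠ 1 := fun h => hx1 (orderOf_eq_one_iff.mp h)
  have hn0 : orderOf x ≠ 0 := (orderOf_pos x).ne'
  obtain ⟨q, hq, hqd⟩ := Nat.exists_prime_and_dvd hn1
  set y := x ^ (orderOf x / q) with hy
  have hyo : orderOf y = q := by
    rw [hy, orderOf_pow_of_dvd]
    · exact Nat.div_div_self hqd hn0
    · intro h0
      have := Nat.div_mul_cancel hqd
      rw [h0, zero_mul] at this
      exact hn0 this.symm
    · exact Nat.div_dvd_of_dvd hqd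
  have hyM : y ∈ M := M.pow_mem hx _
  have hqM : q ∣ Nat.card M := by
    rw [← hyo]; exact Subgroup.orderOf_dvd_natCard M hyM
  have hqN : ¬ q ∣ N.index := by
    intro h
    have h5 : q ∣ Nat.gcd N.index (Nat.card M) := Nat.dvd_gcd h hqM
    rw [h2] at h5
    exact hq.one_lt.ne' (Nat.dvd_one.mp h5)
  have hgx : x * g = g * x := by
    rw [Subgroup.mem_centralizer_iff] at hg
    exact hg x rfl
  -- decompose g
  obtain ⟨u, v, huv, hu, hv, ⟨a, hua⟩, hqv⟩ := dec g q hq
  -- u ∈ N
  have huN : u ∈ N := by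
    have h3 : orderOf (QuotientGroup.mk' N u) ∣ orderOf u := orderOf_map_dvd _ u
    have h4 : orderOf (QuotientGroup.mk' N u) ∣ N.index := by
      have : N.index = Nat.card (G ⧸ N) := rfl
      rw [this]
      exact orderOf_dvd_natCard _
    rw [hua] at h3
    have hcop : (q ^ a).Coprime N.index := ((Nat.Prime.coprime_iff_not_dvd hq).mpr hqN).pow_left a
    have h5 := Nat.eq_one_of_dvd_coprimes hcop h3 h4
    have h6 := orderOf_eq_one_iff.mp h5
    exact (QuotientGroup.eq_one_iff u).mp h6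
  have hvN : v ∉ N := by
    intro h
    apply hgN
    rw [← huv]
    exact N.mul_mem huN h
  -- v commutes with y
  have hcomm_gx : Commute g x := hgx.symm
  have hvy : Commute v y := by
    obtain ⟨k, hk⟩ := Subgroup.mem_zpowers_iff.mp hv
    rw [← hk, hy]
    exact (hcomm_gx.zpow_left k).pow_right _
  obtain ⟨c, hc⟩ := hcam v hvN y hyM
  have ho : orderOf (v * y) = orderOf v := by
    rw [← hc, orderOf_conj']
  have hcop : (orderOf v).Coprime (orderOf y) := by
    rw [hyo]
    exact ((Nat.Prime.coprime_iff_not_dvd hq).mpr hqv).symm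
  rw [hvy.orderOf_mul_eq_mul_orderOf_of_coprime hcop, hyo] at ho
  have hvpos : 0 < orderOf v := orderOf_pos v
  have : orderOf v * q = orderOf v * 1 := by rw [mul_one]; exact ho
  have := Nat.eq_of_mul_eq_mul_left hvpos this
  exact hq.one_lt.ne' this

theorem result {G : Type*} [Group G] [Finite G] (N M : Subgroup G) [N.Normal] [M.Normal] (hMN : M ≤ N) (hM1 : M ≠ ⊥) (hN2 : N ≠ ⊤)
    (hcam : ∀ g : G, g ∉ N → ∀ m ∈ M, ∃ x : G, x * g * x⁻¹ = g * m) :
    ((∀ x ∈ M, x ≠ 1 → Subgroup.centralizer ({x} : Set G) ≤ N) ↔ N.index.Coprime (Nat.card M)) ∧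
    ((∀ x ∈ M, x ≠ 1 → Subgroup.centralizer ({x} : Set G) ≤ N) → ∃ H : Subgroup G, H ⊔ N = ⊤ ∧ H ⊓ M = ⊥) := by
  refine ⟨⟨one_to_two N M, two_to_one N M hcam⟩, ?_⟩
  intro h1
  exact SUPP (Nat.card G) G N M rfl hMN (one_to_two N M h1)

end Cfsg.Agent.S4112
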