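import Cfsg.Statements.S4113
import Mathlib

set_option autoImplicit false
open Cfsg

namespace Cfsg.Agent.S4113

lemma exists_mul_of_sup_eq_top {G : Type*} [Group G] (M H : Subgroup G) [M.Normal]
    (hHM : H ⊔ M = ⊤) (g : G) : ∃ m ∈ M, ∃ h ∈ H, g = m * h := by
  have hg : g ∈ ((M ⊔ H : Subgroup G) : Set G) := by
    rw [sup_comm, hHM]; trivial
  rw [Subgroup.normal_mul] at hg
  obtain ⟨m, hm, h, hh, rfl⟩ := Set.mem_mul.mp hg
  exact ⟨m, hm, h, hh, rfl⟩

lemma eq_one_of_mem_inf {G : Type*} [Group G] (M H : Subgroup G) (hHM' : H ⊓ M = ⊥)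
    (u : G) (h1 : u ∈ H) (h2 : u ∈ M) : u = 1 := by
  have : u ∈ H ⊓ M := ⟨h1, h2⟩
  rw [hHM'] at this
  exact Subgroup.mem_bot.mp this

theorem result {G : Type*} [Group G] [Finite G] (N M : Subgroup G) [N.Normal] [M.Normal] (hMN : M ≤ N) (hM1 : M ≠ ⊥) (hN2 : N ≠ ⊤)
    (H : Subgroup G) (hHM : H ⊔ M = ⊤) (hHM' : H ⊓ M = ⊥) :
    (∀ x ∈ M, x ≠ 1 → Subgroup.centralizer ({x} : Set G) ≤ N) ↔
      (H ≠ ⊥ ∧ H ≠ ⊤ ∧ H ⊓ N < H ∧ ∀ g : G, g ∉ H → H ⊓ H.map (MulAut.conj g).toMonoidHom ≤ N) := by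
  have hA : H ≠ ⊥ := by
    intro h
    rw [h, bot_sup_eq] at hHM
    rw [hHM] at hMN
    exact hN2 (top_le_iff.mp hMN)
  have hB : H ≠ ⊤ := by
    intro h
    rw [h, top_inf_eq] at hHM'
    exact hM1 hHM'
  have hC : H ⊓ N < H := by
    refine lt_of_le_of_ne inf_le_left ?_
    intro h
    have hHN : H ≤ N := inf_eq_left.mp h
    have : H ⊔ M ≤ N := sup_le hHN hMN
    rw [hHM] at this
    exact hN2 (top_le_iff.mp this)
  constructor
  · intro hf
    refine ⟨hA, hB, hC, ?_⟩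
    intro g hg y hy
    obtain ⟨hy1, hy2⟩ := hy
    obtain ⟨y', hy', hyy⟩ := Subgroup.mem_map.mp hy2
    obtain ⟨m, hm, h, hh, rfl⟩ := exists_mul_of_sup_eq_top M H hHM g
    have hm1 : m ≠ 1 := by
      intro h1
      apply hg
      rw [h1, one_mul]; exact hh
    have hyy' : y = m * (h * y' * h⁻¹) * m⁻¹ := by
      rw [← hyy]
      simp [MulAut.conj_apply, mul_assoc]
    set y'' := h * y' * h⁻¹ with hy''
    have hy''H : y'' ∈ H := H.mul_mem (H.mul_mem hh hy') (H.inv_mem hh)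
    have h1 : y * y''⁻¹ ∈ H := H.mul_mem hy1 (H.inv_mem hy''H)
    have h2 : y * y''⁻¹ ∈ M := by
      have : y * y''⁻¹ = m * (y'' * m⁻¹ * y''⁻¹) := by
        rw [hyy']; group
      rw [this]
      exact M.mul_mem hm (‹M.Normal›.conj_mem _ (M.inv_mem hm) _)
    have h3 : y * y''⁻¹ = 1 := eq_one_of_mem_inf M H hHM' _ h1 h2
    have h4 : y = y'' := by
      rw [mul_inv_eq_one] at h3; exact h3
    have h5 : y ∈ Subgroup.centralizer ({m} : Set G) := by
      rw [Subgroup.mem_centralizer_iff]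
      intro z hz
      rw [Set.mem_singleton_iff] at hz
      subst hz
      have : y = z * y * z⁻¹ := by
        conv_lhs => rw [hyy', ← h4]
      calc z * y = z * y * z⁻¹ * z := by group
        _ = y * z := by rw [← this]
    exact hf m hm hm1 h5
  · rintro ⟨_, _, _, hTI⟩ x hx hx1 y hy
    rw [Subgroup.mem_centralizer_iff] at hy
    have hxy : x * y = y * x := hy x rfl
    obtain ⟨m, hm, h, hh, rfl⟩ := exists_mul_of_sup_eq_top M H hHM y
    by_contra hcon
    have hhN : h ∉ N := by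
      intro hhN
      exact hcon (N.mul_mem (hMN hm) hhN)
    -- Step 1
    have step1 : ∀ u ∈ M, u * h = h * u → u = 1 := by
      intro u hu hcomm
      by_contra hu1
      have huH : u ∉ H := fun huH => hu1 (eq_one_of_mem_inf M H hHM' u huH hu)
      have : h ∈ H ⊓ H.map (MulAut.conj u).toMonoidHom := by
        refine ⟨hh, Subgroup.mem_map.mpr ⟨h, hh, ?_⟩⟩
        simp only [MulEquiv.coe_toMonoidHom, MulAut.conj_apply]
        rw [hcomm]; group
      exact hhN (hTI u huH this)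
    -- Step 2
    let φ : M → M := fun u => ⟨(u : G) * h * (u : G)⁻¹ * h⁻¹, by
      have : (u : G) * h * (u : G)⁻¹ * h⁻¹ = (u : G) * (h * (u : G)⁻¹ * h⁻¹) := by group
      rw [this]
      exact M.mul_mem u.2 (‹M.Normal›.conj_mem _ (M.inv_mem u.2) _)⟩
    have hinj : Function.Injective φ := by
      intro u v huv
      have h1 : (u : G) * h * (u : G)⁻¹ * h⁻¹ = (v : G) * h * (v : G)⁻¹ * h⁻¹ := by
        have := congrArg (fun w : M => (w : G)) huv
        simpa [φ] using this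
      have h2 : ((v : G)⁻¹ * (u : G)) * h = h * ((v : G)⁻¹ * (u : G)) := by
        have h3 : (u : G) * h * (u : G)⁻¹ = (v : G) * h * (v : G)⁻¹ := mul_right_cancel h1
        calc ((v : G)⁻¹ * (u : G)) * h = (v : G)⁻¹ * ((u : G) * h * (u : G)⁻¹) * (u : G) := by group
          _ = (v : G)⁻¹ * ((v : G) * h * (v : G)⁻¹) * (u : G) := by rw [h3]
          _ = h * ((v : G)⁻¹ * (u : G)) := by group
      have h4 := step1 _ (M.mul_mem (M.inv_mem v.2) u.2) h2
      have h5 : (u : G) = (v : G) := by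
        have : (v : G) * ((v : G)⁻¹ * (u : G)) = (v : G) * 1 := by rw [h4]
        simpa using this
      exact Subtype.ext h5
    have hsurj : Function.Surjective φ := Finite.injective_iff_surjective.mp hinj
    obtain ⟨u, hu⟩ := hsurj ⟨m, hm⟩
    have hu' : (u : G) * h * (u : G)⁻¹ * h⁻¹ = m := by
      have := congrArg (fun w : M => (w : G)) hu
      simpa [φ] using this
    -- Step 3
    have hmh : m * h = (u : G) * h * (u : G)⁻¹ := by
      rw [← hu']; group
    rw [hmh] at hxy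
    have hx' : (u : G)⁻¹ * x * (u : G) ∈ M := by
      have := ‹M.Normal›.conj_mem x hx (u : G)⁻¹
      simpa using this
    have hcomm : ((u : G)⁻¹ * x * (u : G)) * h = h * ((u : G)⁻¹ * x * (u : G)) := by
      calc ((u : G)⁻¹ * x * (u : G)) * h = (u : G)⁻¹ * (x * ((u : G) * h * (u : G)⁻¹)) * (u : G) := by group
        _ = (u : G)⁻¹ * (((u : G) * h * (u : G)⁻¹) * x) * (u : G) := by rw [hxy]
        _ = h * ((u : G)⁻¹ * x * (u : G)) := by group
    have := step1 _ hx' hcomm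
    apply hx1
    have h6 : (u : G) * ((u : G)⁻¹ * x * (u : G)) * (u : G)⁻¹ = (u : G) * 1 * (u : G)⁻¹ := by rw [this]
    simpa [mul_assoc] using h6

end Cfsg.Agent.S4113
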