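import Mathlib
import Cfsg.Statements.S4115
import Cfsg.Agent.Lib.Helper12.TIHall
import Cfsg.Agent.Lib.Helper12.FrobAction

set_option autoImplicit false
set_option linter.style.haveILetI false
set_option linter.unusedSectionVars false
universe u
open Cfsg

namespace Cfsg.Agent.S4115

open Cfsg.Agent.Lib.Helper12

section Aux

variable {G : Type u} [Group G] [Finite G] (H : Subgroup G)

local notation "NH" => Subgroup.normalizer (H : Set G)

theorem setup_of (hTI : Cfsg.IsTISubset (H : Set G))
    (hHall : (Nat.card H).Coprime (H.subgroupOf NH).index)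
    (K : Subgroup NH) (hKn : K.Normal) (hKc : K.IsComplement' (H.subgroupOf NH)) :
    TIHall.Setup H K := by
  refine ⟨hTI, hKn, hKc, ?_⟩
  rw [← hKc.index_eq_card]
  exact hHall.symm

/-- a prime dividing `|H|` does not divide `[G : N_G(H)]` -/
theorem not_dvd_index_normalizer (hTI : Cfsg.IsTISubset (H : Set G))
    (K : Subgroup NH) (S : TIHall.Setup H K) (p : ℕ) (hp : p.Prime) (hpH : p ∣ Nat.card H) :
    ¬ p ∣ (NH).index := by
  haveI : Fact p.Prime := ⟨hp⟩
  obtain ⟨x, hx⟩ := exists_prime_orderOf_dvd_card' (G := H) p hpH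
  have hxH : (x : G) ∈ H := x.2
  have hxo : orderOf (x : G) = p := by rw [Subgroup.orderOf_coe]; exact hx
  have hx1 : (x : G) ≠ 1 := by
    intro h
    rw [h, orderOf_one] at hxo
    exact hp.one_lt.ne hxo
  set P : Subgroup G := Subgroup.zpowers (x : G) with hP
  have hPp : IsPGroup p P := by
    apply IsPGroup.of_card (n := 1)
    rw [Nat.card_zpowers, hxo, pow_one]
  have hmod := hPp.card_modEq_card_fixedPoints (G ⧸ NH)
  have hcop : (Nat.card K).Coprime p := by
    have := S.cop
    exact Nat.Coprime.coprime_dvd_right hpH this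
  -- the only fixed point is the trivial coset
  have hfix : ∀ q : G ⧸ NH, q ∈ MulAction.fixedPoints P (G ⧸ NH) → q = QuotientGroup.mk 1 := by
    intro q hq
    obtain ⟨g, rfl⟩ := QuotientGroup.mk_surjective q
    have h1 : (⟨(x : G), Subgroup.mem_zpowers _⟩ : P) • (QuotientGroup.mk g : G ⧸ NH) =
        QuotientGroup.mk g := hq _
    have h2 : g⁻¹ * ((x : G) * g) ∈ NH := by
      rw [← QuotientGroup.eq]
      exact h1.symm
    have h3 : g⁻¹ * (x : G) * g ∈ NH := by
      have : g⁻¹ * (x : G) * g = g⁻¹ * ((x : G) * g) := by group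
      rw [this]; exact h2
    -- the conjugate lies in `H`
    have h4 := TIHall.pow_card_mem S ⟨g⁻¹ * (x : G) * g, h3⟩
    simp only at h4
    have ho : (g⁻¹ * (x : G) * g) ^ p = 1 := by
      have : g⁻¹ * (x : G) * g = g⁻¹ * (x : G) * g⁻¹⁻¹ := by group
      rw [this, conj_pow, ← hxo, pow_orderOf_eq_one]
      group
    have h5 : g⁻¹ * (x : G) * g ∈ H := by
      have hc : (Nat.card K).Coprime (orderOf (g⁻¹ * (x : G) * g)) :=
        Nat.Coprime.coprime_dvd_right (orderOf_dvd_of_pow_eq_one ho) hcop
      obtain ⟨m, hm⟩ := exists_pow_eq_self_of_coprime hc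
      rw [← hm]
      exact H.pow_mem h4 m
    have h6 : g⁻¹ * (x : G) * g ≠ 1 := by
      intro h
      apply hx1
      have : (x : G) = g * (g⁻¹ * (x : G) * g) * g⁻¹ := by group
      rw [this, h]; group
    have h7 : g ∈ NH := by
      by_contra hg
      apply h6
      apply hTI g hg _ h5
      have : g * (g⁻¹ * (x : G) * g) * g⁻¹ = (x : G) := by group
      rw [this]; exact hxH
    rw [QuotientGroup.eq]
    simpa using h7
  have hcard : Nat.card (MulAction.fixedPoints P (G ⧸ NH)) = 1 := by
    rw [Nat.card_eq_one_iff_unique]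
    refine ⟨⟨fun a b => Subtype.ext ((hfix a a.2).trans (hfix b b.2).symm)⟩,
      ⟨⟨QuotientGroup.mk 1, ?_⟩⟩⟩
    intro y
    obtain ⟨y, hy⟩ := y
    change (QuotientGroup.mk (y * 1) : G ⧸ NH) = QuotientGroup.mk 1
    rw [QuotientGroup.eq]
    have : y ∈ NH := by
      obtain ⟨n, rfl⟩ := Subgroup.mem_zpowers_iff.mp hy
      exact Subgroup.zpow_mem _ (Subgroup.le_normalizer hxH) n
    simpa using Subgroup.inv_mem _ this
  rw [hcard, ← Subgroup.index_eq_card] at hmod
  intro hdvd
  have h0 : (NH).index ≡ 0 [MOD p] := (Nat.modEq_zero_iff_dvd).mpr hdvd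
  have := h0.symm.trans hmod
  rw [Nat.ModEq, Nat.zero_mod, Nat.mod_eq_of_lt hp.one_lt] at this
  exact absurd this (by norm_num)

end Aux

/-- Let G be a finite group and H a subgroup that meets each of its conjugates by elements outside N_G(H) trivially and whose order is coprime to its index in N_G(H). Then H has a normal complement in N_G(H) if and only if H has a normal complement in G. Moreover, if H is not normal in G and has a normal complement in N_G(H), then H is isomorphic to a Frobenius complement of some finite Frobenius group. -/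
theorem result {G : Type u} [Group G] [Finite G] (H : Subgroup G)
    (hTI : Cfsg.IsTISubset (H : Set G)) (hHall : (Nat.card H).Coprime (H.subgroupOf (Subgroup.normalizer (H : Set G))).index) :
    ((∃ K : Subgroup (Subgroup.normalizer (H : Set G)), K.Normal ∧ K.IsComplement' (H.subgroupOf (Subgroup.normalizer (H : Set G)))) ↔
      (∃ N : Subgroup G, N.Normal ∧ N.IsComplement' H)) ∧
    (¬ H.Normal → (∃ K : Subgroup (Subgroup.normalizer (H : Set G)), K.Normal ∧ K.IsComplement' (H.subgroupOf (Subgroup.normalizer (H : Set G)))) →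
      ∃ (F : Type u) (_ : Group F) (_ : Finite F) (C : Subgroup F), Cfsg.IsFrobeniusComplement C ∧ Nonempty (H ≃* C)) := by
  have part1 : (∃ K : Subgroup (Subgroup.normalizer (H : Set G)), K.Normal ∧
      K.IsComplement' (H.subgroupOf (Subgroup.normalizer (H : Set G)))) →
      (∃ N : Subgroup G, N.Normal ∧ N.IsComplement' H) := by
    rintro ⟨K, hKn, hKc⟩
    exact TIHall.exists_normal_complement (setup_of H hTI hHall K hKn hKc)
  refine ⟨⟨part1, ?_⟩, ?_⟩
  · rintro ⟨N, hNn, hNc⟩
    refine ⟨N.subgroupOf (Subgroup.normalizer (H : Set G)), inferInstance, ?_⟩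
    apply Subgroup.isComplement'_of_disjoint_and_mul_eq_univ
    · rw [Subgroup.disjoint_def]
      intro x hxN hxH
      have : (x : G) ∈ N ⊓ H := ⟨Subgroup.mem_subgroupOf.mp hxN, Subgroup.mem_subgroupOf.mp hxH⟩
      rw [hNc.disjoint.eq_bot, Subgroup.mem_bot] at this
      exact Subtype.ext this
    · rw [Set.eq_univ_iff_forall]
      intro n
      have hn : (n : G) ∈ N ⊔ H := by rw [hNc.sup_eq_top]; exact Subgroup.mem_top _
      obtain ⟨a, ha, b, hb, hab⟩ := Subgroup.mem_sup_of_normal_left.mp hn
      have hbN : b ∈ Subgroup.normalizer (H : Set G) := Subgroup.le_normalizer hb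
      have haN : a ∈ Subgroup.normalizer (H : Set G) := by
        have : a = (n : G) * b⁻¹ := by rw [← hab]; group
        rw [this]
        exact Subgroup.mul_mem _ n.2 (Subgroup.inv_mem _ hbN)
      refine ⟨⟨a, haN⟩, Subgroup.mem_subgroupOf.mpr ha, ⟨b, hbN⟩, Subgroup.mem_subgroupOf.mpr hb, ?_⟩
      exact Subtype.ext hab
  · intro hHn hK
    obtain ⟨N, hNn, hNc⟩ := part1 hK
    obtain ⟨K, hKn, hKc⟩ := hK
    have S := setup_of H hTI hHall K hKn hKc
    haveI := hNn
    have hinf : N ⊓ H = ⊥ := hNc.disjoint.eq_bot
    have hPA : FrobAction.PA N H := by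
      refine ⟨hNn, hNc.sup_eq_top, ?_, ?_, ?_, ?_⟩
      · -- coprimality
        apply Nat.Coprime.symm
        apply Nat.coprime_of_dvd
        intro p hp hpH hpN
        have h1 : Nat.card N = H.index := hNc.index_eq_card.symm
        have h2 : H.relIndex (Subgroup.normalizer (H : Set G)) *
            (Subgroup.normalizer (H : Set G)).index = H.index :=
          Subgroup.relIndex_mul_index Subgroup.le_normalizer
        rw [h1, ← h2] at hpN
        rcases (Nat.Prime.dvd_mul hp).mp hpN with h3 | h3
        · have : p ∣ Nat.gcd (Nat.card H) (H.subgroupOf (Subgroup.normalizer (H : Set G))).index :=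
            Nat.dvd_gcd hpH h3
          rw [hHall] at this
          exact hp.one_lt.ne' (Nat.dvd_one.mp this)
        · exact not_dvd_index_normalizer H hTI K S p hp hpH h3
      · intro hbot
        apply hHn
        rw [hbot]
        infer_instance
      · intro h hh h1 k hk hc h' hh'
        have hkN : k ∈ Subgroup.normalizer (H : Set G) := by
          by_contra hkN
          apply h1
          apply hTI k hkN h hh
          have : k * h * k⁻¹ = h := by rw [← hc]; group
          rw [this]; exact hh
        have h2 : k * h' * k⁻¹ ∈ H := (Subgroup.mem_normalizer_iff.mp hkN h').mp hh'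
        have h3 : k * h' * k⁻¹ * h'⁻¹ ∈ N ⊓ H := by
          refine ⟨?_, H.mul_mem h2 (H.inv_mem hh')⟩
          have : k * h' * k⁻¹ * h'⁻¹ = k * (h' * k⁻¹ * h'⁻¹) := by group
          rw [this]
          exact N.mul_mem hk (hNn.conj_mem _ (N.inv_mem hk) _)
        rw [hinf, Subgroup.mem_bot] at h3
        have : k * h' = (k * h' * k⁻¹ * h'⁻¹) * (h' * k) := by group
        rw [this, h3, one_mul]
      · by_contra hall
        push Not at hall
        apply hHn
        rw [← Subgroup.normalizer_eq_top_iff, eq_top_iff, ← hNc.sup_eq_top]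
        apply sup_le _ Subgroup.le_normalizer
        intro k hk
        apply Subgroup.mem_normalizer_fintype
        intro h hh
        have := hall k hk h hh
        have e : k * h * k⁻¹ = h := by rw [← this]; group
        rw [e]; exact hh
    exact FrobAction.main_aux (Nat.card G) G rfl N H hPA

end Cfsg.Agent.S4115
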