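import Cfsg.Statements.S4116
import Mathlib

set_option autoImplicit false
open Cfsg
open scoped Pointwise

namespace Cfsg.Agent.S4116

lemma orderOf_conj' {G : Type*} [Group G] (a b : G) : orderOf (a * b * a⁻¹) = orderOf b := by
  rw [← MulAut.conj_apply]
  exact MulEquiv.orderOf_eq (MulAut.conj a) b

section counting

variable {G : Type*} [Group G] [Finite G] (K A : Subgroup G)

/-- union of the conjugates of the nonidentity elements of `A` under `K` -/
def S : Set G := {s : G | ∃ k ∈ K, ∃ a ∈ A, a ≠ 1 ∧ k * a * k⁻¹ = s}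

/-- nonidentity elements of `A` -/
def Ao : Set G := {a : G | a ∈ A ∧ a ≠ 1}

lemma card_Ao : Nat.card (Ao A) + 1 = Nat.card A := by
  classical
  have e : A ≃ Option (Ao A) :=
    { toFun := fun a => if h : (a : G) = 1 then none else some ⟨a, a.2, h⟩
      invFun := fun o => match o with
        | none => 1
        | some a => ⟨a, a.2.1⟩
      left_inv := by
        intro a
        by_cases h : (a : G) = 1
        · simp only [h, dite_true]
          exact Subtype.ext h.symm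
        · simp only [h, dite_false]
      right_inv := by
        intro o
        cases o with
        | none => simp
        | some a =>
          have : (a : G) ≠ 1 := a.2.2
          simp [this] }
  rw [Nat.card_congr e, Finite.card_option]

lemma counting (hAK : A ≤ K) (hTI : ∀ k ∈ K, k ∉ A → ∀ a ∈ A, k * a * k⁻¹ ∈ A → a = 1) :
    Nat.card (S K A) * Nat.card A = Nat.card K * Nat.card (Ao A) := by
  classical
  rw [← Nat.card_prod, ← Nat.card_prod]
  apply Nat.card_congr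
  have hch : ∀ s : S K A, ∃ k : G, ∃ a : G, k ∈ K ∧ a ∈ A ∧ a ≠ 1 ∧ k * a * k⁻¹ = (s : G) := by
    intro s
    obtain ⟨k, hk, a, ha, ha1, hs⟩ := s.2
    exact ⟨k, a, hk, ha, ha1, hs⟩
  choose r q hrK hqA hq1 hrq using hch
  -- key: if k a k⁻¹ = s then (r s)⁻¹ k ∈ A and conjugates a to q s
  have key1 : ∀ (s : S K A) (k a : G), k * a * k⁻¹ = (s : G) →
      ((r s)⁻¹ * k) * a * ((r s)⁻¹ * k)⁻¹ = q s := by
    intro s k a hs
    have h2 : q s = (r s)⁻¹ * (s : G) * r s := by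
      rw [← hrq s]; group
    rw [h2, ← hs]; group
  have key : ∀ (s : S K A) (k a : G), k ∈ K → a ∈ A → a ≠ 1 → k * a * k⁻¹ = (s : G) →
      (r s)⁻¹ * k ∈ A := by
    intro s k a hk ha ha1 hs
    by_contra hm
    have hmK : (r s)⁻¹ * k ∈ K := K.mul_mem (K.inv_mem (hrK s)) hk
    have h1 := key1 s k a hs
    have := hTI _ hmK hm a ha (by rw [h1]; exact hqA s)
    exact ha1 this
  refine
    { toFun := fun sc => (⟨r sc.1 * (sc.2 : G), K.mul_mem (hrK sc.1) (hAK sc.2.2)⟩,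
        ⟨(sc.2 : G)⁻¹ * q sc.1 * (sc.2 : G), ?_, ?_⟩)
      invFun := fun ka => (⟨(ka.1 : G) * (ka.2 : G) * (ka.1 : G)⁻¹,
          ⟨ka.1, ka.1.2, ka.2, ka.2.2.1, ka.2.2.2, rfl⟩⟩,
        ⟨(r ⟨(ka.1 : G) * (ka.2 : G) * (ka.1 : G)⁻¹,
          ⟨ka.1, ka.1.2, ka.2, ka.2.2.1, ka.2.2.2, rfl⟩⟩)⁻¹ * (ka.1 : G),
          key _ ka.1 ka.2 ka.1.2 ka.2.2.1 ka.2.2.2 rfl⟩)
      left_inv := ?_
      right_inv := ?_ }
  · exact A.mul_mem (A.mul_mem (A.inv_mem sc.2.2) (hqA sc.1)) sc.2.2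
  · intro h
    apply hq1 sc.1
    have : q sc.1 = (sc.2 : G) * ((sc.2 : G)⁻¹ * q sc.1 * (sc.2 : G)) * (sc.2 : G)⁻¹ := by group
    rw [this, h]; group
  · rintro ⟨s, c⟩
    have e1 : (r s * (c : G)) * ((c : G)⁻¹ * q s * (c : G)) * (r s * (c : G))⁻¹ = (s : G) := by
      rw [← hrq s]; group
    have e2 : (⟨(r s * (c : G)) * ((c : G)⁻¹ * q s * (c : G)) * (r s * (c : G))⁻¹,
        ⟨r s * (c : G), K.mul_mem (hrK s) (hAK c.2), (c : G)⁻¹ * q s * (c : G),
          A.mul_mem (A.mul_mem (A.inv_mem c.2) (hqA s)) c.2,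
          (by
            intro h
            apply hq1 s
            have : q s = (c : G) * ((c : G)⁻¹ * q s * (c : G)) * (c : G)⁻¹ := by group
            rw [this, h]; group), rfl⟩⟩ : S K A) = s := Subtype.ext e1
    apply Prod.ext
    · exact e2
    · apply Subtype.ext
      simp only
      rw [e2]
      group
  · rintro ⟨k, a⟩
    apply Prod.ext
    · apply Subtype.ext
      simp only
      group
    · apply Subtype.ext
      simp only
      have h1 := key1 ⟨(k : G) * (a : G) * (k : G)⁻¹,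
          ⟨k, k.2, a, a.2.1, a.2.2, rfl⟩⟩ k a rfl
      rw [← h1]
      group

end counting


section main

variable {G : Type*} [Group G] [Finite G] (H : Subgroup G)

lemma mem_cj (g x : G) : x ∈ H.map (MulAut.conj g).toMonoidHom ↔ g⁻¹ * x * g ∈ H := by
  rw [Subgroup.mem_map_equiv]
  simp [MulAut.conj_symm_apply]

variable (hHall : (Nat.card H).Coprime H.index) (hTI : Cfsg.IsTISubset (H : Set G))

include hTI in
lemma P1 (x g : G) (hx : x ∈ H) (hx1 : x ≠ 1) (hg : g * x * g⁻¹ ∈ H) :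
    g ∈ Subgroup.normalizer (H : Set G) := by
  by_contra hcon
  exact hx1 (hTI g hcon x hx hg)

include hHall in
lemma P2 (y : G) (hy : y ∈ Subgroup.normalizer (H : Set G))
    (hpi : ∀ q : ℕ, q.Prime → q ∣ orderOf y → q ∣ Nat.card H) : y ∈ H := by
  set Nn := Subgroup.normalizer (H : Set G) with hNn
  have hHN : H ≤ Nn := Subgroup.le_normalizer
  have : (H.subgroupOf Nn).Normal := Subgroup.normal_in_normalizer
  let yb : Nn ⧸ H.subgroupOf Nn := QuotientGroup.mk (⟨y, hy⟩ : Nn)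
  have h1 : orderOf yb ∣ orderOf y := by
    have : orderOf yb ∣ orderOf (⟨y, hy⟩ : Nn) :=
      orderOf_map_dvd (QuotientGroup.mk' (H.subgroupOf Nn)) _
    rwa [← Subgroup.orderOf_coe] at this
  have h2 : orderOf yb ∣ H.index := by
    have h3 : orderOf yb ∣ Nat.card (Nn ⧸ H.subgroupOf Nn) := orderOf_dvd_natCard yb
    have h4 : Nat.card (Nn ⧸ H.subgroupOf Nn) = H.relIndex Nn := rfl
    rw [h4] at h3
    exact h3.trans (Subgroup.relIndex_dvd_index_of_le hHN)
  have hcop : (orderOf y).Coprime H.index := by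
    apply Nat.coprime_of_dvd
    intro q hq hqy hqi
    have := hpi q hq hqy
    have h5 : q ∣ Nat.gcd (Nat.card H) H.index := Nat.dvd_gcd this hqi
    rw [hHall] at h5
    exact hq.one_lt.ne' (Nat.dvd_one.mp h5)
  have h6 : orderOf yb = 1 := Nat.eq_one_of_dvd_coprimes hcop h1 h2
  have h7 : yb = 1 := orderOf_eq_one_iff.mp h6
  have h8 : (⟨y, hy⟩ : Nn) ∈ H.subgroupOf Nn := (QuotientGroup.eq_one_iff _).mp h7
  exact Subgroup.mem_subgroupOf.mp h8

include hHall hTI in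
lemma P3 (k : G) (hk1 : k ≠ 1) (hpi : ∀ q : ℕ, q.Prime → q ∣ orderOf k → q ∣ Nat.card H) :
    ∃ g : G, g⁻¹ * k * g ∈ H := by
  have hn1 : orderOf k ≠ 1 := fun h => hk1 (orderOf_eq_one_iff.mp h)
  have hn0 : orderOf k ≠ 0 := (orderOf_pos k).ne'
  obtain ⟨p, hp, hpd⟩ := Nat.exists_prime_and_dvd hn1
  have : Fact p.Prime := ⟨hp⟩
  have hpH : p ∣ Nat.card H := hpi p hp hpd
  set kp := k ^ (orderOf k / p) with hkp
  have hkpo : orderOf kp = p := by
    rw [hkp, orderOf_pow_of_dvd]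
    · exact Nat.div_div_self hpd hn0
    · intro h0
      have := Nat.div_mul_cancel hpd
      rw [h0, zero_mul] at this
      exact hn0 this.symm
    · exact Nat.div_dvd_of_dvd hpd
  -- Sylow of G inside H
  obtain ⟨PH⟩ : Nonempty (Sylow p H) := inferInstance
  set Q : Subgroup G := (PH : Subgroup H).map H.subtype with hQ
  have hQp : IsPGroup p Q := PH.isPGroup'.map H.subtype
  have hpi' : ¬ p ∣ H.index := by
    intro h
    have h5 : p ∣ Nat.gcd (Nat.card H) H.index := Nat.dvd_gcd hpH h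
    rw [hHall] at h5
    exact hp.one_lt.ne' (Nat.dvd_one.mp h5)
  have hQi : ¬ p ∣ Q.index := by
    rw [hQ, Subgroup.index_map_subtype]
    intro h
    rcases (Nat.Prime.dvd_mul hp).mp h with h | h
    · exact PH.not_dvd_index h
    · exact hpi' h
  set QS : Sylow p G := hQp.toSylow hQi with hQS
  have hzp : IsPGroup p (Subgroup.zpowers kp) := by
    apply IsPGroup.of_card (n := 1)
    rw [Nat.card_zpowers, hkpo, pow_one]
  obtain ⟨R, hR⟩ := hzp.exists_le_sylow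
  obtain ⟨g, hg⟩ := MulAction.exists_smul_eq G QS R
  have hkR : kp ∈ (R : Subgroup G) := hR (Subgroup.mem_zpowers kp)
  rw [← hg, Sylow.coe_subgroup_smul, Subgroup.mem_pointwise_smul_iff_inv_smul_mem] at hkR
  simp only [MulAut.smul_def, ← map_inv, MulAut.conj_apply, inv_inv] at hkR
  have hxQ : g⁻¹ * kp * g ∈ Q := hkR
  have hxH : g⁻¹ * kp * g ∈ H := by
    obtain ⟨z, _, hz⟩ := Subgroup.mem_map.mp hxQ
    rw [← hz]; exact z.2
  have hx1 : g⁻¹ * kp * g ≠ 1 := by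
    intro h
    have : orderOf (g⁻¹ * kp * g) = p := by
      have := orderOf_conj' g⁻¹ kp
      rw [inv_inv] at this
      rw [this, hkpo]
    rw [h, orderOf_one] at this
    exact hp.one_lt.ne' this.symm
  refine ⟨g, ?_⟩
  have hcomm : (g⁻¹ * k * g) * (g⁻¹ * kp * g) * (g⁻¹ * k * g)⁻¹ = g⁻¹ * kp * g := by
    have hc : k * kp = kp * k := by
      rw [hkp]
      exact ((Commute.refl k).pow_right _).eq
    calc (g⁻¹ * k * g) * (g⁻¹ * kp * g) * (g⁻¹ * k * g)⁻¹ = g⁻¹ * (k * kp) * k⁻¹ * g := by group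
      _ = g⁻¹ * (kp * k) * k⁻¹ * g := by rw [hc]
      _ = g⁻¹ * kp * g := by group
  have hyN : g⁻¹ * k * g ∈ Subgroup.normalizer (H : Set G) :=
    P1 H hTI _ _ hxH hx1 (by rw [hcomm]; exact hxH)
  apply P2 H hHall _ hyN
  intro q hq hqd
  have := orderOf_conj' g⁻¹ k
  rw [inv_inv] at this
  rw [this] at hqd
  exact hpi q hq hqd

include hTI in
lemma P4 (x g₁ g₂ : G) (hx1 : x ≠ 1) (h1 : g₁⁻¹ * x * g₁ ∈ H) (h2 : g₂⁻¹ * x * g₂ ∈ H) :
    g₂⁻¹ * g₁ ∈ Subgroup.normalizer (H : Set G) := by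
  apply P1 H hTI (g₁⁻¹ * x * g₁) _ h1
  · intro h
    apply hx1
    have : x = g₁ * (g₁⁻¹ * x * g₁) * g₁⁻¹ := by group
    rw [this, h]; group
  · have : g₂⁻¹ * g₁ * (g₁⁻¹ * x * g₁) * (g₂⁻¹ * g₁)⁻¹ = g₂⁻¹ * x * g₂ := by group
    rw [this]; exact h2

end main


lemma two_le_card_of_mem {G : Type*} [Group G] [Finite G] (A : Subgroup G) (k : G) (hk : k ∈ A)
    (hk1 : k ≠ 1) : 2 ≤ Nat.card A := by
  have : A ≠ ⊥ := by
    intro h
    rw [h, Subgroup.mem_bot] at hk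
    exact hk1 hk
  exact (Subgroup.one_lt_card_iff_ne_bot A).mpr this

lemma S_subset {G : Type*} [Group G] (K A : Subgroup G) (hAK : A ≤ K) : S K A ⊆ Ao K := by
  rintro s ⟨k, hk, a, ha, ha1, rfl⟩
  refine ⟨K.mul_mem (K.mul_mem hk (hAK ha)) (K.inv_mem hk), ?_⟩
  intro h
  apply ha1
  have : a = k⁻¹ * (k * a * k⁻¹) * k := by group
  rw [this, h]; group

theorem result {G : Type*} [Group G] [Finite G] (H : Subgroup G)
    (hHall : (Nat.card H).Coprime H.index) (hTI : Cfsg.IsTISubset (H : Set G))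
    (K : Subgroup G) (hK : ∀ q : ℕ, q.Prime → q ∣ Nat.card K → q ∣ Nat.card H) :
    ∃ g : G, K ≤ H.map (MulAut.conj g).toMonoidHom := by
  have hpiK : ∀ k ∈ K, ∀ q : ℕ, q.Prime → q ∣ orderOf k → q ∣ Nat.card H := by
    intro k hk q hq hqd
    exact hK q hq (hqd.trans (Subgroup.orderOf_dvd_natCard K hk))
  have hex : ∀ k ∈ K, k ≠ 1 → ∃ g, g⁻¹ * k * g ∈ H :=
    fun k hk hk1 => P3 H hHall hTI k hk1 (hpiK k hk)
  by_cases hK1 : K = ⊥
  · exact ⟨1, by rw [hK1]; exact bot_le⟩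
  obtain ⟨k₀, hk₀, hk₀1⟩ : ∃ k ∈ K, k ≠ 1 := by
    by_contra hcon
    push Not at hcon
    exact hK1 ((Subgroup.eq_bot_iff_forall K).mpr hcon)
  obtain ⟨g₁, hg₁⟩ := hex k₀ hk₀ hk₀1
  refine ⟨g₁, ?_⟩
  by_contra hnot
  have hTIK : ∀ g : G, ∀ k ∈ K, k ∉ K ⊓ H.map (MulAut.conj g).toMonoidHom →
      ∀ a ∈ K ⊓ H.map (MulAut.conj g).toMonoidHom,
        k * a * k⁻¹ ∈ K ⊓ H.map (MulAut.conj g).toMonoidHom → a = 1 := by
    intro g k hk hkA a ha hka
    by_contra ha1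
    have h1 : g⁻¹ * a * g ∈ H := (mem_cj H g a).mp ha.2
    have h2 : g⁻¹ * (k * a * k⁻¹) * g ∈ H := (mem_cj H g _).mp hka.2
    have hn : g⁻¹ * k * g ∈ Subgroup.normalizer (H : Set G) := by
      apply P1 H hTI (g⁻¹ * a * g) _ h1
      · intro h
        apply ha1
        have : a = g * (g⁻¹ * a * g) * g⁻¹ := by group
        rw [this, h]; group
      · have : g⁻¹ * k * g * (g⁻¹ * a * g) * (g⁻¹ * k * g)⁻¹ = g⁻¹ * (k * a * k⁻¹) * g := by group
        rw [this]; exact h2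
    have hnH : g⁻¹ * k * g ∈ H := by
      apply P2 H hHall _ hn
      intro q hq hqd
      have := orderOf_conj' g⁻¹ k
      rw [inv_inv] at this
      rw [this] at hqd
      exact hpiK k hk q hq hqd
    exact hkA ⟨hk, (mem_cj H g k).mpr hnH⟩
  set A := K ⊓ H.map (MulAut.conj g₁).toMonoidHom with hA
  have hAK : A ≤ K := inf_le_left
  have hk₀A : k₀ ∈ A := ⟨hk₀, (mem_cj H g₁ k₀).mpr hg₁⟩
  have hAneK : A ≠ K := by
    intro h
    apply hnot
    rw [← h]
    exact inf_le_right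
  have cA := counting K A hAK (hTIK g₁)
  have hAo := card_Ao A
  have hKo := card_Ao K
  have hA2 : 2 ≤ Nat.card A := two_le_card_of_mem A k₀ hk₀A hk₀1
  have hAltK : Nat.card A < Nat.card K := by
    by_contra hcon
    push Not at hcon
    exact hAneK (Subgroup.eq_of_le_of_card_ge hAK hcon)
  have hb : ∃ b ∈ K, b ≠ 1 ∧ b ∉ S K A := by
    by_contra hcon
    push Not at hcon
    have hsub : Ao K ⊆ S K A := fun b hb => hcon b hb.1 hb.2
    have hle : Nat.card (Ao K) ≤ Nat.card (S K A) := Nat.card_mono (Set.toFinite _) hsub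
    have h1 : Nat.card (Ao K) * Nat.card A ≤ Nat.card (S K A) * Nat.card A :=
      Nat.mul_le_mul_right _ hle
    rw [cA] at h1
    nlinarith
  obtain ⟨b, hbK, hb1, hbS⟩ := hb
  obtain ⟨g₂, hg₂⟩ := hex b hbK hb1
  set B := K ⊓ H.map (MulAut.conj g₂).toMonoidHom with hB
  have hBK : B ≤ K := inf_le_left
  have hbB : b ∈ B := ⟨hbK, (mem_cj H g₂ b).mpr hg₂⟩
  have cB := counting K B hBK (hTIK g₂)
  have hBo := card_Ao B
  have hB2 : 2 ≤ Nat.card B := two_le_card_of_mem B b hbB hb1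
  have hdisj : Disjoint (S K A) (S K B) := by
    rw [Set.disjoint_left]
    rintro s ⟨k, hk, a, ha, ha1, hs⟩ ⟨k', hk', b', hb', hb'1, hs'⟩
    apply hbS
    have hs1 : s ≠ 1 := by
      intro h
      apply ha1
      have : a = k⁻¹ * (k * a * k⁻¹) * k := by group
      rw [this, hs, h]; group
    have e1 : (k * g₁)⁻¹ * s * (k * g₁) ∈ H := by
      have : (k * g₁)⁻¹ * s * (k * g₁) = g₁⁻¹ * a * g₁ := by rw [← hs]; group
      rw [this]
      exact (mem_cj H g₁ a).mp ha.2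
    have e2 : (k' * g₂)⁻¹ * s * (k' * g₂) ∈ H := by
      have : (k' * g₂)⁻¹ * s * (k' * g₂) = g₂⁻¹ * b' * g₂ := by rw [← hs']; group
      rw [this]
      exact (mem_cj H g₂ b').mp hb'.2
    have hn := P4 H hTI s (k * g₁) (k' * g₂) hs1 e1 e2
    have hbH : g₂⁻¹ * b * g₂ ∈ H := hg₂
    have hconj := (Subgroup.mem_normalizer_iff''.mp hn (g₂⁻¹ * b * g₂)).mp hbH
    refine ⟨k'⁻¹ * k, K.mul_mem (K.inv_mem hk') hk, (k'⁻¹ * k)⁻¹ * b * (k'⁻¹ * k), ?_, ?_, ?_⟩
    · refine Subgroup.mem_inf.mpr ⟨K.mul_mem (K.mul_mem (K.inv_mem (K.mul_mem (K.inv_mem hk') hk)) hbK)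
        (K.mul_mem (K.inv_mem hk') hk), ?_⟩
      rw [mem_cj]
      have : g₁⁻¹ * ((k'⁻¹ * k)⁻¹ * b * (k'⁻¹ * k)) * g₁ =
          ((k' * g₂)⁻¹ * (k * g₁))⁻¹ * (g₂⁻¹ * b * g₂) * ((k' * g₂)⁻¹ * (k * g₁)) := by group
      rw [this]
      exact hconj
    · intro h
      apply hb1
      have : b = (k'⁻¹ * k) * ((k'⁻¹ * k)⁻¹ * b * (k'⁻¹ * k)) * (k'⁻¹ * k)⁻¹ := by group
      rw [this, h]; group
    · group
  have hsubA : S K A ⊆ Ao K := S_subset K A hAK
  have hsubB : S K B ⊆ Ao K := S_subset K B hBK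
  have hsum : Nat.card (S K A) + Nat.card (S K B) ≤ Nat.card (Ao K) := by
    rw [Nat.card_coe_set_eq, Nat.card_coe_set_eq, Nat.card_coe_set_eq,
      ← Set.ncard_union_eq hdisj (Set.toFinite _) (Set.toFinite _)]
    exact Set.ncard_le_ncard (Set.union_subset hsubA hsubB) (Set.toFinite _)
  have h2sA : Nat.card K ≤ 2 * Nat.card (S K A) := by
    apply Nat.le_of_mul_le_mul_right (c := Nat.card A) _ (by omega)
    nlinarith
  have h2sB : Nat.card K ≤ 2 * Nat.card (S K B) := by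
    apply Nat.le_of_mul_le_mul_right (c := Nat.card B) _ (by omega)
    nlinarith
  omega

end Cfsg.Agent.S4116
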