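import Cfsg.Statements.S4126
import Cfsg.Agent.S1946

set_option autoImplicit false
open Cfsg

namespace Cfsg.Agent.S4126


/-- A subgroup `C` of `p`-power index and a Sylow `p`-subgroup `P` satisfy `G = P C`. -/
theorem exists_mul_of_index_pow {G : Type*} [Group G] [Finite G] {p : ℕ} [Fact p.Prime]
    (P : Sylow p G) (C : Subgroup G) {k : ℕ} (hC : C.index = p ^ k) (g : G) :
    ∃ x ∈ (P : Subgroup G), ∃ c ∈ C, g = x * c := by
  have hp : p.Prime := Fact.out
  -- C.relIndex P = C.index
  have h1 : (C ⊓ (P : Subgroup G)).relIndex (P : Subgroup G) * (P : Subgroup G).index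
      = (C ⊓ (P : Subgroup G)).index := Subgroup.relIndex_mul_index inf_le_right
  have h2 : (C ⊓ (P : Subgroup G)).relIndex C * C.index = (C ⊓ (P : Subgroup G)).index :=
    Subgroup.relIndex_mul_index inf_le_left
  rw [Subgroup.inf_relIndex_right] at h1
  have hcop : Nat.Coprime C.index (P : Subgroup G).index := by
    rw [hC]
    exact Nat.Coprime.pow_left k ((Nat.Prime.coprime_iff_not_dvd hp).mpr P.not_dvd_index)
  have hdvd : C.index ∣ C.relIndex (P : Subgroup G) := by
    have h3 : C.index ∣ C.relIndex (P : Subgroup G) * (P : Subgroup G).index := by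
      rw [h1, ← h2]; exact dvd_mul_left _ _
    exact hcop.dvd_of_dvd_mul_right h3
  have hle : C.relIndex (P : Subgroup G) ≤ C.index := by
    have h4 := Subgroup.relIndex_le_of_le_right (H := C) (le_top : (P : Subgroup G) ≤ ⊤)
      (by rw [Subgroup.relIndex_top_right]; exact Subgroup.index_ne_zero_of_finite)
    rwa [Subgroup.relIndex_top_right] at h4
  have hpos : 0 < C.relIndex (P : Subgroup G) :=
    Nat.pos_of_ne_zero (by
      intro h0
      rw [Subgroup.relIndex, Subgroup.index] at h0
      exact (Nat.card_pos (α := ↥(P : Subgroup G) ⧸ C.subgroupOf (P : Subgroup G))).ne' h0)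
  have heq : C.relIndex (P : Subgroup G) = C.index :=
    le_antisymm hle (Nat.le_of_dvd hpos hdvd)
  -- the embedding of coset spaces is bijective
  let f := Subgroup.quotientSubgroupOfEmbeddingOfLE C (le_top : (P : Subgroup G) ≤ ⊤)
  have hcard : Nat.card (↥(⊤ : Subgroup G) ⧸ C.subgroupOf ⊤)
      ≤ Nat.card (↥(P : Subgroup G) ⧸ C.subgroupOf (P : Subgroup G)) := by
    have e1 : Nat.card (↥(⊤ : Subgroup G) ⧸ C.subgroupOf ⊤) = C.relIndex ⊤ := rfl
    have e2 : Nat.card (↥(P : Subgroup G) ⧸ C.subgroupOf (P : Subgroup G))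
        = C.relIndex (P : Subgroup G) := rfl
    rw [e1, e2, heq, Subgroup.relIndex_top_right]
  have hbij : Function.Bijective f := f.injective.bijective_of_nat_card_le hcard
  obtain ⟨y, hy⟩ := hbij.2 (QuotientGroup.mk (⟨g, Subgroup.mem_top g⟩ : ↥(⊤ : Subgroup G)))
  obtain ⟨x, rfl⟩ := QuotientGroup.mk_surjective y
  rw [Subgroup.quotientSubgroupOfEmbeddingOfLE_apply_mk, QuotientGroup.eq,
    Subgroup.mem_subgroupOf] at hy
  refine ⟨x.1, x.2, _, hy, ?_⟩
  simp

/-- Let G be a finite group and p a prime. Suppose every element of order p, and when p = 2 also every element of order 4, has a conjugacy class of p-power size. Then G has a normal p-complement. -/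
theorem result {G : Type*} [Group G] [Finite G] (p : ℕ) [Fact p.Prime]
    (h : ∀ x : G, (orderOf x = p ∨ (p = 2 ∧ orderOf x = 4)) → ∃ a : ℕ, (Subgroup.centralizer ({x} : Set G)).index = p ^ a) :
    Cfsg.HasNormalPComplement p G := by
  have hp : p.Prime := Fact.out
  obtain ⟨P⟩ : Nonempty (Sylow p G) := inferInstance
  rw [Cfsg.Agent.S1946.result P]
  intro a ha hΩ g _
  by_cases ha1 : a = 1
  · exact ⟨1, one_mem _, by rw [ha1]; group⟩
  have hord : orderOf a = p ∨ (p = 2 ∧ orderOf a = 4) := by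
    rcases hΩ with h1 | ⟨h2, h4⟩
    · exact Or.inl (orderOf_eq_prime h1 ha1)
    · have hd : orderOf a ∣ 2 ^ 2 := orderOf_dvd_of_pow_eq_one (by norm_num; exact h4)
      obtain ⟨j, hj, hjo⟩ := (Nat.dvd_prime_pow Nat.prime_two).mp hd
      have hj0 : j ≠ 0 := by
        rintro rfl
        rw [pow_zero, orderOf_eq_one_iff] at hjo
        exact ha1 hjo
      have hj12 : j = 1 ∨ j = 2 := by omega
      rcases hj12 with rfl | rfl
      · left; rw [hjo, h2]; norm_num
      · right; exact ⟨h2, by rw [hjo]; norm_num⟩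
  obtain ⟨k, hk⟩ := h a hord
  obtain ⟨x, hx, c, hc, rfl⟩ := exists_mul_of_index_pow P _ hk g
  refine ⟨x, hx, ?_⟩
  have hca : c * a = a * c := by
    have := Subgroup.mem_centralizer_iff.mp hc a (Set.mem_singleton a)
    exact this.symm
  calc x * c * a * (x * c)⁻¹ = x * (c * a) * c⁻¹ * x⁻¹ := by group
    _ = x * (a * c) * c⁻¹ * x⁻¹ := by rw [hca]
    _ = x * a * x⁻¹ := by group

end Cfsg.Agent.S4126
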