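import Mathlib
import Cfsg.Statements.S4130
import Cfsg.Agent.Lib.Helper73.SqFNpc
import Cfsg.Agent.Lib.Helper30.SqFM4
import Cfsg.Agent.Lib.Helper30.SqFM5Main
import Cfsg.Agent.Lib.Helper26.SqFM6
import Cfsg.Agent.Lib.Helper02.Fitting

set_option autoImplicit false
open Cfsg

namespace Cfsg.Agent.S4130

/-- Let G be a finite group all of whose conjugacy class sizes are square-free. Then G is supersolvable, G/F(G) and the derived subgroup G′ are cyclic of square-free order (F(G) the Fitting subgroup, which is normal), F(G) has nilpotency class at most 2, and G is metabelian. -/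
theorem result {G : Type*} [Group G] [Finite G]
    (h : ∀ x : G, Squarefree (Subgroup.centralizer ({x} : Set G)).index) :
    Cfsg.IsSupersolvable G ∧ (Cfsg.fittingSubgroup G).Normal ∧
    (∀ _h : (Cfsg.fittingSubgroup G).Normal, IsCyclic (G ⧸ Cfsg.fittingSubgroup G) ∧ Squarefree (Cfsg.fittingSubgroup G).index) ∧
    IsCyclic (commutator G) ∧ Squarefree (Nat.card (commutator G)) ∧
    Subgroup.upperCentralSeries ↥(Cfsg.fittingSubgroup G) 2 = ⊤ ∧ commutator ↥(commutator G) = ⊥ := by
  have hsolv : Group.IsSolvable G := Cfsg.Agent.Lib.Helper73.SqF.isSolvable_of_sqfree h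
  have hss : Cfsg.IsSupersolvable G := Cfsg.Agent.Lib.Helper30.SqF.isSupersolvable_of_sqfree hsolv h
  obtain ⟨hcyc, hsq⟩ := Cfsg.Agent.Lib.Helper30.SqF.commutator_cyclic_sqfree hss h
  obtain ⟨h3, h4, h5⟩ := Cfsg.Agent.Lib.Helper26.SqF.structure_of_cyclic_commutator h hcyc hsq
  exact ⟨hss, Cfsg.Agent.Lib.Helper02.fittingSubgroup_normal, h3, hcyc, hsq, h4, h5⟩

end Cfsg.Agent.S4130
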