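import Mathlib
import Cfsg.Statements.S4134
import Cfsg.Agent.Lib.Helper73.Ito
import Cfsg.Agent.Lib.Helper01.Basic
import Cfsg.Agent.S4365

set_option autoImplicit false
open Cfsg

namespace Cfsg.Agent.S4134

open Cfsg.Agent.Lib.Helper73

/-- a subgroup containing the center has the same index in `G` as its trace in a normal
subgroup `P` with `P ⊔ Z(G) = ⊤` -/
lemma relIndex_eq_index {G : Type*} [Group G] [Finite G] (P C : Subgroup G) [P.Normal]
    (hC : Subgroup.center G ≤ C) (hPZ : P ⊔ Subgroup.center G = ⊤) :
    C.relIndex P = C.index := by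
  have htop : C ⊔ P = ⊤ := by
    rw [eq_top_iff, ← hPZ]
    exact sup_le le_sup_right (hC.trans le_sup_left)
  have h1 := Cfsg.Agent.Lib.Helper01.card_sup_mul_card_inf P C
  rw [htop, Subgroup.card_top] at h1
  have h2 := relIndex_mul_card_inf C P
  have h3 := Subgroup.index_mul_card C
  rw [inf_comm] at h1
  have hpos1 : 0 < Nat.card (C ⊓ P : Subgroup G) := Nat.card_pos
  have hpos2 : 0 < Nat.card C := Nat.card_pos
  have : C.relIndex P * (Nat.card (C ⊓ P : Subgroup G) * Nat.card C) =
      C.index * (Nat.card (C ⊓ P : Subgroup G) * Nat.card C) := by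
    calc C.relIndex P * (Nat.card (C ⊓ P : Subgroup G) * Nat.card C)
        = (C.relIndex P * Nat.card (C ⊓ P : Subgroup G)) * Nat.card C := by ring
      _ = Nat.card P * Nat.card C := by rw [h2]
      _ = Nat.card G * Nat.card (C ⊓ P : Subgroup G) := h1.symm
      _ = (C.index * Nat.card C) * Nat.card (C ⊓ P : Subgroup G) := by rw [h3]
      _ = C.index * (Nat.card (C ⊓ P : Subgroup G) * Nat.card C) := by ring
  exact Nat.eq_of_mul_eq_mul_right (Nat.mul_pos hpos1 hpos2) this

/-- centralizers in a subgroup -/
lemma centralizer_subtype {G : Type*} [Group G] (P : Subgroup G) (y : P) :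
    Subgroup.centralizer ({y} : Set P) =
      (Subgroup.centralizer ({(y : G)} : Set G)).subgroupOf P := by
  ext g
  rw [Subgroup.mem_centralizer_singleton_iff, Subgroup.mem_subgroupOf,
    Subgroup.mem_centralizer_singleton_iff, Subtype.ext_iff]
  rfl

/-- Let G be a finite group whose conjugacy classes have exactly two sizes, 1 and n > 1. Then n is a power of a prime p and G is the direct product of a p-group and an abelian group of order prime to p: its Sylow p-subgroup P is normal with an abelian normal complement centralizing it; moreover P has an abelian normal subgroup A with P/A of exponent dividing p. -/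
theorem result {G : Type*} [Group G] [Finite G] (n : ℕ) (hn : 1 < n)
    (h : ∀ x : G, (Subgroup.centralizer ({x} : Set G)).index = 1 ∨ (Subgroup.centralizer ({x} : Set G)).index = n) (hex : ∃ x : G, (Subgroup.centralizer ({x} : Set G)).index = n) :
    ∃ (p : ℕ) (_ : Fact p.Prime) (a : ℕ), n = p ^ a ∧ ∀ P : Sylow p G, (P : Subgroup G).Normal ∧
      (∃ N : Subgroup G, N.Normal ∧ N.IsComplement' (P : Subgroup G) ∧ IsMulCommutative N ∧
        ∀ x ∈ N, ∀ y ∈ (P : Subgroup G), x * y = y * x) ∧
      ∃ A : Subgroup (P : Subgroup G), A.Normal ∧ IsMulCommutative A ∧ ∀ y : (P : Subgroup G), y ^ p ∈ A := by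
  have hT : TwoSizes G n := h
  obtain ⟨x0, hx0⟩ := hex
  have hx0z : x0 ∉ Subgroup.center G := by
    intro hc
    rw [← index_Cz_eq_one_iff] at hc
    omega
  obtain ⟨p, hp, ⟨a, ha⟩, hcent, k, hk⟩ := ito_structure hT hx0z
  have hpf : Fact p.Prime := ⟨hp⟩
  refine ⟨p, hpf, a, ha, ?_⟩
  intro P
  -- P ⊔ Z = ⊤
  have hPZ : (P : Subgroup G) ⊔ Subgroup.center G = ⊤ := by
    rw [← Subgroup.index_eq_one]
    have h1 : ((P : Subgroup G) ⊔ Subgroup.center G).index ∣ (P : Subgroup G).index :=
      Subgroup.index_dvd_of_le le_sup_left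
    have h2 : ((P : Subgroup G) ⊔ Subgroup.center G).index ∣ p ^ k := by
      rw [← hk]
      exact Subgroup.index_dvd_of_le le_sup_right
    obtain ⟨j, _, hj⟩ := (Nat.dvd_prime_pow hp).1 h2
    rw [hj] at h1 ⊢
    have hj0 : j = 0 := by
      by_contra hne
      exact P.not_dvd_index ((dvd_pow_self p hne).trans h1)
    rw [hj0, pow_zero]
  -- decomposition of elements
  have hdec : ∀ g : G, ∃ u ∈ (P : Subgroup G), ∃ z ∈ Subgroup.center G, g = u * z := by
    intro g
    have hg : g ∈ ((P : Subgroup G) ⊔ Subgroup.center G) := by rw [hPZ]; trivial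
    rw [← SetLike.mem_coe, Subgroup.mul_normal] at hg
    obtain ⟨u, hu, z, hz, e⟩ := Set.mem_mul.1 hg
    exact ⟨u, hu, z, hz, e.symm⟩
  have hPn : (P : Subgroup G).Normal := by
    refine ⟨fun x hx g => ?_⟩
    obtain ⟨u, hu, z, hz, rfl⟩ := hdec g
    have hzc := Subgroup.mem_center_iff.1 hz
    have : u * z * x * (u * z)⁻¹ = u * x * u⁻¹ := by
      rw [mul_inv_rev, mul_assoc u z x, ← hzc x]
      group
    rw [this]
    exact Subgroup.mul_mem _ (Subgroup.mul_mem _ hu hx) (Subgroup.inv_mem _ hu)
  refine ⟨hPn, ?_, ?_⟩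
  · -- the complement
    obtain ⟨K, hK⟩ := Subgroup.exists_left_complement'_of_coprime (N := (P : Subgroup G))
      P.card_coprime_index
    have hKcard : Nat.card K = (P : Subgroup G).index := hK.index_eq_card.symm
    have hKZ : K ≤ Subgroup.center G := by
      intro x hx
      apply hcent
      have h1 : orderOf x ∣ Nat.card K := Subgroup.orderOf_dvd_natCard K hx
      rw [hKcard] at h1
      have h2 : ((P : Subgroup G).index).Coprime p :=
        ((Nat.Prime.coprime_iff_not_dvd hp).2 P.not_dvd_index).symm
      exact Nat.Coprime.coprime_dvd_left h1 h2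
    refine ⟨K, ?_, hK, ?_, ?_⟩
    · refine ⟨fun x hx g => ?_⟩
      have := Subgroup.mem_center_iff.1 (hKZ hx) g
      rw [this, mul_inv_cancel_right]
      exact hx
    · refine ⟨⟨fun x y => ?_⟩⟩
      apply Subtype.ext
      exact (Subgroup.mem_center_iff.1 (hKZ x.2) (y : G)).symm
    · intro x hx y _
      exact (Subgroup.mem_center_iff.1 (hKZ hx) y).symm
  · -- Isaacs
    refine ⟨Subgroup.center (P : Subgroup G), inferInstance, inferInstance, ?_⟩
    have hidx : ∀ y : (P : Subgroup G),
        (Subgroup.centralizer ({y} : Set (P : Subgroup G))).index =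
          (Subgroup.centralizer ({(y : G)} : Set G)).index := by
      intro y
      rw [centralizer_subtype]
      exact relIndex_eq_index (P : Subgroup G) _ (Subgroup.center_le_centralizer _) hPZ
    have ha1 : 1 ≤ a := by
      by_contra hlt
      have : a = 0 := by omega
      rw [this, pow_zero] at ha
      omega
    -- a noncentral element of `P`
    obtain ⟨u, hu, z, hz, e⟩ := hdec x0
    have hu_idx : (Subgroup.centralizer ({u} : Set G)).index = n := by
      rcases h u with h1 | h1
      · exfalso
        rw [index_Cz_eq_one_iff] at h1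
        apply hx0z
        rw [e]
        exact Subgroup.mul_mem _ h1 hz
      · exact h1
    intro y
    apply Cfsg.Agent.S4365.result p P.2 a ha1
    ext m
    simp only [Set.mem_ofPred_eq, Set.mem_insert_iff, Set.mem_singleton_iff]
    constructor
    · rintro ⟨w, rfl⟩
      rw [hidx w, ← ha]
      exact h (w : G)
    · rintro (rfl | rfl)
      · refine ⟨1, ?_⟩
        rw [hidx]
        rw [index_Cz_eq_one_iff]
        exact Subgroup.one_mem _
      · refine ⟨⟨u, hu⟩, ?_⟩
        rw [hidx, ← ha]
        exact hu_idx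

end Cfsg.Agent.S4134
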