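import Cfsg.Statements.S4139
import Cfsg.Agent.Lib.Helper74.ClassMultiset

set_option autoImplicit false
open Cfsg

namespace Cfsg.Agent.S4139

open Cfsg.Agent.Lib.Helper74

/-- Let G and H be finite groups such that for every natural number k, G and H have the same number of conjugacy classes of size k. If H is nilpotent then G is nilpotent. -/
theorem result {G H : Type*} [Group G] [Finite G] [Group H] [Finite H]
    (hH : Group.IsNilpotent H)
    (h : ∀ k : ℕ, Nat.card {C : ConjClasses G // Nat.card C.carrier = k} = Nat.card {C : ConjClasses H // Nat.card C.carrier = k}) :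
    Group.IsNilpotent G := by
  obtain ⟨e, he⟩ := cm_exists_equiv h
  have hcard : Nat.card G = Nat.card H := Nat.card_congr e
  have hcenter : Nat.card (Subgroup.center G) = Nat.card (Subgroup.center H) := by
    refine Nat.card_congr (e.subtypeEquiv fun x => ?_)
    rw [← cm_idx_eq_one_iff, ← cm_idx_eq_one_iff, he]
  have hT : ∀ p : ℕ,
      Nat.card {x : G // ¬ p ∣ (Subgroup.centralizer ({x} : Set G)).index} =
        Nat.card {y : H // ¬ p ∣ (Subgroup.centralizer ({y} : Set H)).index} := by
    intro p
    refine Nat.card_congr (e.subtypeEquiv fun x => ?_)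
    rw [he]
  have htfae := (Group.isNilpotent_of_finite_tfae (G := G)).out 0 3
  rw [htfae]
  intro p _ P
  obtain ⟨hA, hB⟩ := cm_nilpotent_count (p := p) hH
  apply cm_sylow_normal_of_count P
  · rw [hT p, hcenter]; exact hA
  · rw [hT p, hcenter, hcard]; exact hB

end Cfsg.Agent.S4139
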