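import Cfsg.Statements.S4140
import Cfsg.Agent.Lib.Helper20.CaminaGrp
import Cfsg.Agent.Lib.Helper42.CaminaC
import Cfsg.Agent.Lib.Helper41.CaminaE
import Cfsg.Agent.Lib.Helper96.CaminaD
import Cfsg.Agent.Lib.Helper28.CaminaF
import Cfsg.Agent.Lib.Helper28.CaminaG
import Cfsg.Agent.Lib.Helper83.FullyRamified

set_option autoImplicit false
open Cfsg

namespace Cfsg.Agent.S4140

open Cfsg.Agent.Lib.Helper20.CaminaGrp

universe u

/-- data of the subgroup `S N` for a Sylow subgroup `S` of `G` for a prime dividing `|G : N|` -/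
theorem sylow_sup_data {G : Type u} [Group G] [Finite G] (N : Subgroup G) [N.Normal] (s : ℕ)
    [Fact s.Prime] (h2 : s ∣ N.index) (S : Sylow s G) :
    ∃ k : ℕ, k ≠ 0 ∧ N.relIndex ((S : Subgroup G) ⊔ N) = s ^ k ∧
      Nat.Coprime (N.relIndex ((S : Subgroup G) ⊔ N)) ((S : Subgroup G) ⊔ N).index := by
  have hs : s.Prime := Fact.out
  have h1 : N.relIndex ((S : Subgroup G) ⊔ N) = N.relIndex (S : Subgroup G) :=
    Subgroup.relIndex_sup_right _ _
  have h3 : N.relIndex (S : Subgroup G) ∣ Nat.card (S : Subgroup G) := Subgroup.relIndex_dvd_card _ _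
  obtain ⟨n, hn⟩ := IsPGroup.iff_card.1 S.isPGroup'
  rw [hn] at h3
  obtain ⟨k, -, hk⟩ := (Nat.dvd_prime_pow hs).1 h3
  have hnd : ¬ s ∣ ((S : Subgroup G) ⊔ N).index := fun hd =>
    S.not_dvd_index (hd.trans (Subgroup.index_dvd_of_le le_sup_left))
  refine ⟨k, ?_, h1.trans hk, ?_⟩
  · rintro rfl
    rw [pow_zero] at hk
    have hle : (S : Subgroup G) ≤ N := Subgroup.relIndex_eq_one.1 hk
    exact S.not_dvd_index (h2.trans (Subgroup.index_dvd_of_le hle))
  · rw [h1, hk]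
    exact Nat.Coprime.pow_left _ ((Nat.Prime.coprime_iff_not_dvd hs).2 hnd)

/-- a prime dividing `|N|` and `|G : N|` divides `|N : N'|` -/
theorem common_prime_dvd_ab {G : Type u} [Group G] [Finite G] (N : Subgroup G) [N.Normal]
    (hcam : ∀ g : G, g ∉ N → ∀ n ∈ N, ∃ x : G, x * g * x⁻¹ = g * n)
    (s : ℕ) [Fact s.Prime] (h1 : s ∣ Nat.card N) (h2 : s ∣ N.index) :
    s ∣ Nat.card (Abelianization N) := by
  obtain ⟨S⟩ : Nonempty (Sylow s G) := inferInstance
  obtain ⟨k, hk0, hk, hcop⟩ := sylow_sup_data N s h2 S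
  have hNA : N ≤ (S : Subgroup G) ⊔ N := le_sup_right
  generalize (S : Subgroup G) ⊔ N = A at hk hcop hNA
  let e := Subgroup.subgroupOfEquivOfLe hNA
  have hcard : Nat.card (N.subgroupOf A) = Nat.card N := Nat.card_congr e.toEquiv
  have h3 := Cfsg.Agent.Lib.Helper41.Camina.dvd_card_abelianization_of_ramified
    (A := ↥A) (N.subgroupOf A) s k hk0 hk (hcard ▸ h1)
    (fun θ hθ hθ1 hinv =>
      Cfsg.Agent.Lib.Helper42.Camina.camina_hall_fully_ramified N hcam A hNA hcop θ hθ hθ1 hinv)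
  have e2 := e.abelianizationCongr
  rwa [Nat.card_congr e2.toEquiv] at h3

/-- the abelian case -/
theorem abelian_case {G : Type u} [Group G] [Finite G] (N : Subgroup G) [N.Normal]
    (hcam : ∀ g : G, g ∉ N → ∀ n ∈ N, ∃ x : G, x * g * x⁻¹ = g * n)
    (hab : ∀ x ∈ N, ∀ y ∈ N, x * y = y * x)
    (hF : ¬ ∀ x ∈ N, x ≠ 1 → Subgroup.centralizer ({x} : Set G) ≤ N) :
    ∃ p : ℕ, p.Prime ∧ IsPGroup p N := by
  obtain ⟨p, hp, x, hxN, hxo, g, hgN, hgo, hgx⟩ := step1 N hcam hF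
  haveI : Fact p.Prime := ⟨hp⟩
  refine ⟨p, hp, ?_⟩
  have h1 : p ∣ Nat.card N := by
    rw [← hxo, ← Subgroup.orderOf_mk x hxN]
    exact orderOf_dvd_natCard _
  have h2 : p ∣ N.index := by
    rw [Subgroup.index_eq_card, ← hgo]
    exact orderOf_dvd_natCard _
  obtain ⟨S⟩ : Nonempty (Sylow p G) := inferInstance
  obtain ⟨k, hk0, hk, hcop⟩ := sylow_sup_data N p h2 S
  have hNA : N ≤ (S : Subgroup G) ⊔ N := le_sup_right
  generalize (S : Subgroup G) ⊔ N = A at hk hcop hNA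
  let e := Subgroup.subgroupOfEquivOfLe hNA
  have hcard : Nat.card (N.subgroupOf A) = Nat.card N := Nat.card_congr e.toEquiv
  obtain ⟨θ, hθ, hθ1, hinv, -⟩ := Cfsg.Agent.Lib.Helper96.Camina.exists_invariant_irr_not_dvd
    (N.subgroupOf A) p k hk (hcard ▸ h1)
  obtain ⟨η, f, hη, hf, hηM⟩ :=
    Cfsg.Agent.Lib.Helper42.Camina.camina_hall_fully_ramified N hcam A hNA hcop θ hθ hθ1 hinv
  haveI : Fintype ↥A := Fintype.ofFinite _
  have hnsc := fun c hc => Cfsg.Agent.Lib.Helper83.fr_no_self_centralizing (N.subgroupOf A)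
    ⟨η, hη⟩ ⟨θ, hθ⟩ f hf hηM c hc
  have hQcard : Nat.card (↥A ⧸ N.subgroupOf A) = p ^ k := by
    rw [← Subgroup.index_eq_card]
    exact hk
  have hQ : IsPGroup p (↥A ⧸ N.subgroupOf A) := IsPGroup.of_card hQcard
  have hnt : Nontrivial (↥A ⧸ N.subgroupOf A) := by
    rw [← Finite.one_lt_card_iff_nontrivial, hQcard]
    exact Nat.one_lt_pow hk0 hp.one_lt
  obtain ⟨a, b, ha, hb, hcomm, hba⟩ :=
    Cfsg.Agent.Lib.Helper28.Camina.exists_rank_two_of_no_self_centralizing p hQ hnt (by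
      intro c hc1
      obtain ⟨c0, rfl⟩ := QuotientGroup.mk_surjective c
      exact hnsc c0 (fun h => hc1 ((QuotientGroup.eq_one_iff _).2 h)))
  have hMab : ∀ x ∈ N.subgroupOf A, ∀ y ∈ N.subgroupOf A, x * y = y * x := by
    intro x hx y hy
    apply Subtype.ext
    exact hab x (Subgroup.mem_subgroupOf.1 hx) y (Subgroup.mem_subgroupOf.1 hy)
  have hfpf : ∀ x : ↥A, x ∉ N.subgroupOf A → ∀ y ∈ N.subgroupOf A, x * y = y * x →
      ∃ j : ℕ, y ^ (p ^ j) = 1 := by
    intro x hx y hy hxy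
    have hxN : (x : G) ∉ N := fun h => hx (Subgroup.mem_subgroupOf.2 h)
    have hpow : ((x : G) : G ⧸ N) ^ (p ^ k) = 1 := by
      have h3 : ((x : ↥A) : ↥A ⧸ N.subgroupOf A) ^ (p ^ k) = 1 := by
        rw [← hQcard]
        exact pow_card_eq_one'
      rw [← QuotientGroup.mk_pow, QuotientGroup.eq_one_iff] at h3
      rw [← QuotientGroup.mk_pow, QuotientGroup.eq_one_iff]
      have h4 := Subgroup.mem_subgroupOf.1 h3
      simpa using h4
    obtain ⟨j, hj⟩ := pow_eq_one_of_commute N hcam p hp (x : G) hxN k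
      (orderOf_dvd_of_pow_eq_one hpow) (y : G) (Subgroup.mem_subgroupOf.1 hy)
      (by have := congrArg Subtype.val hxy; simpa using this)
    exact ⟨j, Subtype.ext (by simpa using hj)⟩
  have hMp := Cfsg.Agent.Lib.Helper28.Camina.isPGroup_of_rank_two_fpf (N.subgroupOf A) hMab p a b
    ha hb hcomm hba hfpf
  exact hMp.of_equiv e

/-- Let G be a finite group and N a proper non-trivial normal subgroup such that for every g outside N the conjugacy class of g is a union of cosets of N (equivalently gn is conjugate to g for every n ∈ N). Then either every element of G outside N acts fixed-point-freely on N (C_G(x) ≤ N for all x ∈ N, x ≠ 1, so G is a Frobenius group with kernel N), or N has prime-power order, or G/N has prime-power order. -/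
theorem result {G : Type*} [Group G] [Finite G] (N : Subgroup G) [N.Normal] (hN1 : N ≠ ⊥) (hN2 : N ≠ ⊤)
    (hcam : ∀ g : G, g ∉ N → ∀ n ∈ N, ∃ x : G, x * g * x⁻¹ = g * n) :
    (∀ x ∈ N, x ≠ 1 → Subgroup.centralizer ({x} : Set G) ≤ N) ∨ IsPrimePow (Nat.card N) ∨ IsPrimePow N.index := by
  by_cases hF : ∀ x ∈ N, x ≠ 1 → Subgroup.centralizer ({x} : Set G) ≤ N
  · exact Or.inl hF
  right
  by_cases hidx : IsPrimePow N.index
  · exact Or.inr hidx
  left
  obtain ⟨p, hp, x, hxN, hxo, g, hgN, hgo, hgx⟩ := step1 N hcam hF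
  haveI : Fact p.Prime := ⟨hp⟩
  have h1 : p ∣ Nat.card N := by
    rw [← hxo, ← Subgroup.orderOf_mk x hxN]
    exact orderOf_dvd_natCard _
  have h2 : p ∣ N.index := by
    rw [Subgroup.index_eq_card, ← hgo]
    exact orderOf_dvd_natCard _
  have hpab : p ∣ Nat.card (Abelianization N) := common_prime_dvd_ab N hcam p h1 h2
  -- the quotient by the derived subgroup of `N`
  haveI hDn : (⁅N, N⁆ : Subgroup G).Normal := Subgroup.commutator_normal N N
  have hDN : ⁅N, N⁆ ≤ N := Subgroup.commutator_le_left N N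
  haveI hNbn : (N.map (QuotientGroup.mk' ⁅N, N⁆)).Normal :=
    Subgroup.Normal.map inferInstance _ (QuotientGroup.mk'_surjective _)
  have hcamb := camina_quot N ⁅N, N⁆ hcam
  have hidxb : (N.map (QuotientGroup.mk' ⁅N, N⁆)).index = N.index := map_index N ⁅N, N⁆ hDN
  have hcardb : Nat.card (N.map (QuotientGroup.mk' ⁅N, N⁆)) = Nat.card (Abelianization N) :=
    card_map_commutator N
  have habb := map_comm_of_commutator_le N ⁅N, N⁆ le_rfl
  have hFb : ¬ ∀ x ∈ N.map (QuotientGroup.mk' ⁅N, N⁆), x ≠ 1 →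
      Subgroup.centralizer ({x} : Set (G ⧸ ⁅N, N⁆)) ≤ N.map (QuotientGroup.mk' ⁅N, N⁆) := by
    intro hFb
    exact not_dvd_of_frobenius (N.map (QuotientGroup.mk' ⁅N, N⁆)) hFb p (hcardb ▸ hpab)
      (hidxb ▸ h2)
  obtain ⟨p0, hp0, hNbp⟩ := abelian_case (N.map (QuotientGroup.mk' ⁅N, N⁆)) hcamb habb hFb
  haveI : Fact p0.Prime := ⟨hp0⟩
  obtain ⟨j, hj⟩ := IsPGroup.iff_card.1 hNbp
  have hj' : Nat.card (Abelianization N) = p0 ^ j := hcardb ▸ hj
  have hcommon : ∀ s : ℕ, s.Prime → s ∣ Nat.card N → s ∣ N.index → s = p0 := by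
    intro s hs hs1 hs2
    haveI : Fact s.Prime := ⟨hs⟩
    have h3 := common_prime_dvd_ab N hcam s hs1 hs2
    rw [hj'] at h3
    exact (Nat.prime_dvd_prime_iff_eq hs hp0).1 (hs.dvd_of_dvd_pow h3)
  have hidx0 : N.index ≠ 0 := Subgroup.index_ne_zero_of_finite
  have hex : ∃ r : ℕ, r.Prime ∧ r ∣ N.index ∧ r ≠ p0 := by
    by_contra hne
    apply hidx
    have hne' : ∀ d : ℕ, d.Prime → d ∣ N.index → d = p0 := by
      intro d hd hdd
      by_contra h
      exact hne ⟨d, hd, hdd, h⟩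
    have h3 := Nat.eq_prime_pow_of_unique_prime_dvd hidx0 (fun {d} hd hdd => hne' d hd hdd)
    rw [h3]
    refine hp0.isPrimePow.pow ?_
    intro h0
    rw [h0, pow_zero] at h3
    exact hN2 (Subgroup.index_eq_one.1 h3)
  obtain ⟨r, hr, hrd, hrne⟩ := hex
  have hrN : ¬ r ∣ Nat.card N := fun h => hrne (hcommon r hr h hrd)
  have hnil := nilpotent_of_prime_not_dvd N hcam r hr hrN hrd
  have hNp : IsPGroup p0 N := isPGroup_of_nilpotent_of_abelianization hnil p0 j hj'
  obtain ⟨n, hn⟩ := IsPGroup.iff_card.1 hNp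
  rw [hn]
  refine hp0.isPrimePow.pow ?_
  intro h0
  rw [h0, pow_zero] at hn
  exact hN1 (Subgroup.card_eq_one.1 hn)

end Cfsg.Agent.S4140
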