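import Cfsg.Statements.S4142
import Mathlib

set_option autoImplicit false
open Cfsg

namespace Cfsg.Agent.S4142

section
variable {G : Type*} [Group G] [Finite G] (N : Subgroup G) [hNn : N.Normal] (g : G)

/-- preimage of the centralizer of the image of `g` in the quotient -/
def L : Subgroup G :=
  (Subgroup.centralizer ({(QuotientGroup.mk g : G ⧸ N)} : Set (G ⧸ N))).comap (QuotientGroup.mk' N)

lemma mem_L (x : G) : x ∈ L N g ↔ g⁻¹ * (x * g * x⁻¹) ∈ N := by
  unfold L
  rw [Subgroup.mem_comap, Subgroup.mem_centralizer_iff]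
  constructor
  · intro h
    have h1 := h _ rfl
    rw [QuotientGroup.mk'_apply, ← QuotientGroup.mk_mul, ← QuotientGroup.mk_mul, QuotientGroup.eq] at h1
    have h2 := hNn.conj_mem _ h1 x
    have h3 : x * ((g * x)⁻¹ * (x * g)) * x⁻¹ = g⁻¹ * (x * g * x⁻¹) := by group
    rw [h3] at h2
    exact h2
  · intro h y hy
    rw [Set.mem_singleton_iff] at hy
    subst hy
    rw [QuotientGroup.mk'_apply, ← QuotientGroup.mk_mul, ← QuotientGroup.mk_mul, QuotientGroup.eq]
    have h2 := hNn.conj_mem _ h x⁻¹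
    have h3 : x⁻¹ * (g⁻¹ * (x * g * x⁻¹)) * x⁻¹⁻¹ = (g * x)⁻¹ * (x * g) := by group
    rw [h3] at h2
    exact h2

lemma N_le_L : N ≤ L N g := by
  unfold L
  intro x hx
  rw [Subgroup.mem_comap]
  have : (QuotientGroup.mk' N) x = 1 := by
    rw [QuotientGroup.mk'_apply, QuotientGroup.eq_one_iff]; exact hx
  rw [this]
  exact Subgroup.one_mem _

lemma card_L : Nat.card (L N g) = Nat.card N *
    Nat.card (Subgroup.centralizer ({(QuotientGroup.mk g : G ⧸ N)} : Set (G ⧸ N))) := by
  rw [← Subgroup.relIndex_bot_left (H := L N g),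
    ← Subgroup.relIndex_mul_relIndex ⊥ N (L N g) bot_le (N_le_L N g), Subgroup.relIndex_bot_left]
  congr 1
  have h1 : (Subgroup.comap (QuotientGroup.mk' N) ⊥).relIndex (L N g) =
      Nat.card (Subgroup.centralizer ({(QuotientGroup.mk g : G ⧸ N)} : Set (G ⧸ N))) := by
    rw [Subgroup.relIndex_comap, Subgroup.relIndex_bot_left]
    unfold L
    rw [Subgroup.map_comap_eq_self_of_surjective (QuotientGroup.mk'_surjective N)]
  have h2 : Subgroup.comap (QuotientGroup.mk' N) ⊥ = N := by
    rw [MonoidHom.comap_bot, QuotientGroup.ker_mk']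
  rw [h2] at h1
  exact h1

lemma C_le_L : Subgroup.centralizer ({g} : Set G) ≤ L N g := by
  intro x hx
  rw [mem_L]
  rw [Subgroup.mem_centralizer_iff] at hx
  have h1 : g * x = x * g := hx g rfl
  have : g⁻¹ * (x * g * x⁻¹) = 1 := by
    rw [← h1]; group
  rw [this]
  exact N.one_mem

/-- the orbit -/
def O : Set G := {y : G | ∃ x ∈ L N g, x * g * x⁻¹ = y}

lemma orbit_stab : Nat.card (O N g) * Nat.card (Subgroup.centralizer ({g} : Set G)) =
    Nat.card (L N g) := by
  classical
  rw [← Nat.card_prod]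
  apply Nat.card_congr
  have hch : ∀ y : O N g, ∃ x : G, x ∈ L N g ∧ x * g * x⁻¹ = (y : G) := fun y => y.2
  choose r hrL hr using hch
  refine
    { toFun := fun yc => ⟨r yc.1 * (yc.2 : G), (L N g).mul_mem (hrL yc.1) (C_le_L N g yc.2.2)⟩
      invFun := fun x => (⟨(x : G) * g * (x : G)⁻¹, ⟨x, x.2, rfl⟩⟩,
        ⟨(r ⟨(x : G) * g * (x : G)⁻¹, ⟨x, x.2, rfl⟩⟩)⁻¹ * (x : G), ?_⟩)
      left_inv := ?_
      right_inv := ?_ }
  · rw [Subgroup.mem_centralizer_iff]
    intro z hz
    rw [Set.mem_singleton_iff] at hz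
    subst hz
    have h1 := hr ⟨(x : G) * z * (x : G)⁻¹, ⟨x, x.2, rfl⟩⟩
    simp only at h1
    set r0 := r ⟨(x : G) * z * (x : G)⁻¹, ⟨x, x.2, rfl⟩⟩ with hr0
    have h2 : z = r0⁻¹ * ((x : G) * z * (x : G)⁻¹) * r0 := by
      rw [← h1]; group
    calc z * (r0⁻¹ * (x : G)) = (r0⁻¹ * ((x : G) * z * (x : G)⁻¹) * r0) * (r0⁻¹ * (x : G)) := by
            rw [← h2]
      _ = r0⁻¹ * (x : G) * z := by group
  · rintro ⟨y, c⟩
    have hc : g * (c : G) = (c : G) * g := by
      have := c.2
      rw [Subgroup.mem_centralizer_iff] at this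
      exact this g rfl
    have e1 : (r y * (c : G)) * g * (r y * (c : G))⁻¹ = (y : G) := by
      rw [← hr y]
      calc (r y * (c : G)) * g * (r y * (c : G))⁻¹ = r y * ((c : G) * g) * (c : G)⁻¹ * (r y)⁻¹ := by group
        _ = r y * (g * (c : G)) * (c : G)⁻¹ * (r y)⁻¹ := by rw [hc]
        _ = r y * g * (r y)⁻¹ := by group
    have e2 : (⟨(r y * (c : G)) * g * (r y * (c : G))⁻¹, ⟨_, (L N g).mul_mem (hrL y) (C_le_L N g c.2), rfl⟩⟩ : O N g) = y :=
      Subtype.ext e1
    apply Prod.ext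
    · exact e2
    · apply Subtype.ext
      simp only
      rw [e2]
      group
  · intro x
    apply Subtype.ext
    simp only
    group

lemma O_to_N (y : O N g) : g⁻¹ * (y : G) ∈ N := by
  obtain ⟨x, hx, hxy⟩ := y.2
  rw [← hxy]
  exact (mem_L N g x).mp hx

lemma equivalence :
    (∀ n ∈ N, ∃ x : G, x * g * x⁻¹ = g * n) ↔
      Nat.card (Subgroup.centralizer ({g} : Set G)) =
        Nat.card (Subgroup.centralizer ({(QuotientGroup.mk g : G ⧸ N)} : Set (G ⧸ N))) := by
  let f : O N g → N := fun y => ⟨g⁻¹ * (y : G), O_to_N N g y⟩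
  have hf : Function.Injective f := by
    intro y z hyz
    have := congrArg (fun w : N => (w : G)) hyz
    simp only [f] at this
    exact Subtype.ext (mul_left_cancel this)
  have hsurj : Function.Surjective f ↔ (∀ n ∈ N, ∃ x : G, x * g * x⁻¹ = g * n) := by
    constructor
    · intro hs n hn
      obtain ⟨y, hy⟩ := hs ⟨n, hn⟩
      obtain ⟨x, hx, hxy⟩ := y.2
      refine ⟨x, ?_⟩
      have := congrArg (fun w : N => (w : G)) hy
      simp only [f] at this
      rw [hxy, ← this]; group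
    · intro h n
      obtain ⟨x, hx⟩ := h n n.2
      have hxL : x ∈ L N g := by
        rw [mem_L, hx]
        have : g⁻¹ * (g * (n : G)) = n := by group
        rw [this]; exact n.2
      refine ⟨⟨x * g * x⁻¹, ⟨x, hxL, rfl⟩⟩, ?_⟩
      apply Subtype.ext
      simp only [f]
      rw [hx]; group
  have hCpos : 0 < Nat.card (Subgroup.centralizer ({g} : Set G)) := Nat.card_pos
  have hNpos : 0 < Nat.card N := Nat.card_pos
  have hos := orbit_stab N g
  have hcL := card_L N g
  rw [← hsurj]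
  constructor
  · intro hs
    have hbij : Function.Bijective f := ⟨hf, hs⟩
    have hcard : Nat.card (O N g) = Nat.card N := Nat.card_congr (Equiv.ofBijective f hbij)
    rw [hcard, hcL] at hos
    exact Nat.eq_of_mul_eq_mul_left hNpos hos
  · intro hc
    rw [hcL, ← hc] at hos
    have hcard : Nat.card (O N g) = Nat.card N := Nat.eq_of_mul_eq_mul_right hCpos hos
    have : Function.Bijective f :=
      (Nat.bijective_iff_injective_and_card f).mpr ⟨hf, hcard⟩
    exact this.2

end

theorem result {G : Type*} [Group G] [Finite G] (N : Subgroup G) [N.Normal] :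
    (∀ g : G, g ∉ N → ∀ n ∈ N, ∃ x : G, x * g * x⁻¹ = g * n) ↔
      ∀ g : G, g ∉ N → Nat.card (Subgroup.centralizer ({g} : Set G)) =
        Nat.card (Subgroup.centralizer ({(QuotientGroup.mk g : G ⧸ N)} : Set (G ⧸ N))) := by
  constructor
  · intro h g hg
    exact (equivalence N g).mp (h g hg)
  · intro h g hg
    exact (equivalence N g).mpr (h g hg)

end Cfsg.Agent.S4142
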