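import Mathlib
import Cfsg.Statements.S4143

set_option autoImplicit false
open Cfsg

universe u

namespace Cfsg.Agent.S4143

variable {X : Type u} [Group X]

/-- the commutator homomorphism `y ↦ y a y⁻¹ a⁻¹` into the centre. -/
def commHom (Y : Subgroup X) (a : X)
    (h : ∀ y ∈ Y, y * a * y⁻¹ * a⁻¹ ∈ Subgroup.center X) : ↥Y →* ↥(Subgroup.center X) where
  toFun y := ⟨(y : X) * a * (y : X)⁻¹ * a⁻¹, h y y.2⟩
  map_one' := by
    apply Subtype.ext
    simp
  map_mul' y y' := by
    apply Subtype.ext
    have hc := Subgroup.mem_center_iff.1 (h y' y'.2)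
    show ((y * y' : Y) : X) * a * ((y * y' : Y) : X)⁻¹ * a⁻¹ =
      ((y:X) * a * (y:X)⁻¹ * a⁻¹) * ((y':X) * a * (y':X)⁻¹ * a⁻¹)
    rw [Subgroup.coe_mul]
    calc (y:X) * y' * a * ((y:X) * y')⁻¹ * a⁻¹
        = (y:X) * ((y':X) * a * (y':X)⁻¹ * a⁻¹) * (a * (y:X)⁻¹ * a⁻¹) := by group
      _ = ((y':X) * a * (y':X)⁻¹ * a⁻¹) * y * (a * (y:X)⁻¹ * a⁻¹) := by rw [hc y]
      _ = ((y':X) * a * (y':X)⁻¹ * a⁻¹) * ((y:X) * a * (y:X)⁻¹ * a⁻¹) := by group
      _ = ((y:X) * a * (y:X)⁻¹ * a⁻¹) * ((y':X) * a * (y':X)⁻¹ * a⁻¹) := (hc _).symm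

theorem mem_ker_commHom (Y : Subgroup X) (a : X)
    (h : ∀ y ∈ Y, y * a * y⁻¹ * a⁻¹ ∈ Subgroup.center X) (y : Y) :
    y ∈ (commHom Y a h).ker ↔ (y : X) * a = a * y := by
  rw [MonoidHom.mem_ker]
  constructor
  · intro h1
    have h2 : (y : X) * a * (y : X)⁻¹ * a⁻¹ = 1 := congrArg Subtype.val h1
    calc (y:X) * a = ((y:X) * a * (y:X)⁻¹ * a⁻¹) * a * y := by group
      _ = a * y := by rw [h2, one_mul]
  · intro h1
    apply Subtype.ext
    show (y : X) * a * (y : X)⁻¹ * a⁻¹ = 1
    rw [h1]; group

theorem card_comap_mk [Finite X] (N : Subgroup X) [N.Normal] (K : Subgroup (X ⧸ N)) :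
    Nat.card (K.comap (QuotientGroup.mk' N)) = Nat.card N * Nat.card K := by
  have h1 := Subgroup.index_comap_of_surjective K (QuotientGroup.mk'_surjective N)
  have h2 := Subgroup.card_mul_index (K.comap (QuotientGroup.mk' N))
  have h3 := Subgroup.card_mul_index K
  have h4 := Subgroup.card_eq_card_quotient_mul_card_subgroup N
  have hpos : 0 < K.index := Nat.pos_of_ne_zero Subgroup.index_ne_zero_of_finite
  rw [h1] at h2
  have : Nat.card (K.comap (QuotientGroup.mk' N)) * K.index =
      (Nat.card N * Nat.card K) * K.index := by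
    rw [h2, h4, ← h3]; ring
  exact Nat.eq_of_mul_eq_mul_right hpos this

theorem card_map_mk [Finite X] (N : Subgroup X) [N.Normal] (A : Subgroup X) (h : N ≤ A) :
    Nat.card A = Nat.card N * Nat.card (A.map (QuotientGroup.mk' N)) := by
  rw [← card_comap_mk N (A.map (QuotientGroup.mk' N))]
  rw [Subgroup.comap_map_eq_self]
  rw [QuotientGroup.ker_mk']
  exact h

theorem card_hom {Y M : Type*} [Group Y] [Finite Y] [Group M] (f : Y →* M) :
    Nat.card Y = Nat.card f.ker * Nat.card f.range := by
  rw [← Subgroup.index_ker, Subgroup.card_mul_index]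

theorem card_lt_of_lt [Finite X] {S T : Subgroup X} (h : S ≤ T) (hne : S ≠ T) :
    Nat.card S < Nat.card T := by
  by_contra hc
  exact hne (Subgroup.eq_of_le_of_card_ge h (not_lt.1 hc))

theorem card_pow_of_le [Finite X] {p : ℕ} [hp : Fact p.Prime] {S T : Subgroup X} (h : S ≤ T) {m : ℕ}
    (hT : Nat.card T = p ^ m) : ∃ j ≤ m, Nat.card S = p ^ j := by
  have := Subgroup.card_dvd_of_le h
  rw [hT] at this
  exact (Nat.dvd_prime_pow hp.out).1 this

/-- elements of the preimage of the centralizer of the image commute modulo the centre. -/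
theorem comm_mem_center [Finite X] (A : Subgroup X) (y a : X)
    (hy : y ∈ (Subgroup.centralizer ((A.map (QuotientGroup.mk' (Subgroup.center X)) :
      Subgroup (X ⧸ Subgroup.center X)) : Set (X ⧸ Subgroup.center X))).comap
        (QuotientGroup.mk' (Subgroup.center X))) (ha : a ∈ A) :
    y * a * y⁻¹ * a⁻¹ ∈ Subgroup.center X := by
  rw [Subgroup.mem_comap, Subgroup.mem_centralizer_iff] at hy
  have h1 := hy (QuotientGroup.mk' (Subgroup.center X) a) ⟨a, ha, rfl⟩
  rw [← QuotientGroup.eq_one_iff]
  have h2 : ((y * a * y⁻¹ * a⁻¹ : X) : X ⧸ Subgroup.center X) =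
      (QuotientGroup.mk' (Subgroup.center X) y) * (QuotientGroup.mk' (Subgroup.center X) a) *
      (QuotientGroup.mk' (Subgroup.center X) y)⁻¹ * (QuotientGroup.mk' (Subgroup.center X) a)⁻¹ := by
    simp
  rw [h2, ← h1]
  group

theorem suzuki (p : ℕ) [hp : Fact p.Prime] : ∀ (n : ℕ), 2 ≤ n → ∀ (X : Type u) [Group X] [Finite X],
    Nat.card X = p ^ n → ∀ A : Subgroup X, Nat.card A = p ^ 2 →
    Subgroup.centralizer (A : Set X) ≤ A → Group.nilpotencyClass X = n - 1 := by
  intro n hn
  induction n, hn using Nat.le_induction with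
  | base =>
    intro X _ _ hX A hA hC
    have hcomm : IsMulCommutative X := IsPGroup.isMulCommutative_of_card_eq_prime_sq hX
    have hXp : IsPGroup p X := IsPGroup.of_card hX
    have : Group.IsNilpotent X := hXp.isNilpotent
    have h1 : Group.nilpotencyClass X ≤ 1 := by
      rw [← Subgroup.upperCentralSeries_eq_top_iff_nilpotencyClass_le, Subgroup.upperCentralSeries_one]
      rw [Subgroup.eq_top_iff']
      intro x
      rw [Subgroup.mem_center_iff]
      intro g
      exact hcomm.is_comm.comm g x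
    have h2 : Group.nilpotencyClass X ≠ 0 := by
      rw [Ne, Group.nilpotencyClass_zero_iff_subsingleton]
      intro hs
      have := Nat.card_eq_one_iff_unique.2 ⟨hs, ⟨1⟩⟩
      rw [hX] at this
      have := hp.out.one_lt
      have h3 : p ^ 2 > 1 := Nat.one_lt_pow (by norm_num) this
      omega
    omega
  | succ n hn ih =>
    intro X _ _ hX A hA hC
    have hp1 := hp.out.one_lt
    have hXp : IsPGroup p X := IsPGroup.of_card hX
    have : Group.IsNilpotent X := hXp.isNilpotent
    have hXnt : Nontrivial X := by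
      rw [← Finite.one_lt_card_iff_nontrivial, hX]
      exact Nat.one_lt_pow (by omega) hp1
    have hZA : Subgroup.center X ≤ A := (Subgroup.center_le_centralizer _).trans hC
    obtain ⟨k, hk0, hk⟩ := IsPGroup.card_center_eq_prime_pow hX (by omega)
    have hAne : A ≠ ⊤ := by
      intro h
      rw [h, Subgroup.card_top, hX] at hA
      have := Nat.pow_right_injective hp.out.two_le hA
      omega
    have hZneA : Subgroup.center X ≠ A := by
      intro h
      apply hAne
      have : Subgroup.centralizer (A : Set X) = ⊤ := by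
        rw [Subgroup.centralizer_eq_top_iff_subset, ← h]
      rw [this] at hC
      exact top_le_iff.1 hC
    have hZlt : Nat.card (Subgroup.center X) < Nat.card A := card_lt_of_lt hZA hZneA
    have hk1 : k = 1 := by
      rw [hk, hA] at hZlt
      have := (Nat.pow_lt_pow_iff_right hp1).1 hZlt
      omega
    subst hk1
    rw [pow_one] at hk
    -- the quotient
    have hQ : Nat.card (X ⧸ Subgroup.center X) = p ^ n := by
      have h4 := Subgroup.card_eq_card_quotient_mul_card_subgroup (Subgroup.center X)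
      rw [hX, hk, pow_succ] at h4
      exact (Nat.eq_of_mul_eq_mul_right hp.out.pos h4).symm
    obtain ⟨π, hπ⟩ : ∃ π : X →* X ⧸ Subgroup.center X, π = QuotientGroup.mk' (Subgroup.center X) :=
      ⟨_, rfl⟩
    obtain ⟨Cb, hCb⟩ : ∃ Cb : Subgroup (X ⧸ Subgroup.center X),
      Cb = Subgroup.centralizer ((A.map (QuotientGroup.mk' (Subgroup.center X)) :
        Subgroup (X ⧸ Subgroup.center X)) : Set (X ⧸ Subgroup.center X)) := ⟨_, rfl⟩
    obtain ⟨Y, hY⟩ : ∃ Y : Subgroup X, Y = Cb.comap (QuotientGroup.mk' (Subgroup.center X)) :=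
      ⟨_, rfl⟩
    have hYcard : Nat.card Y = p * Nat.card Cb := by
      rw [hY, card_comap_mk, hk]
    have hAcomm : ∀ a ∈ A, ∀ b ∈ A, a * b = b * a := by
      intro a ha b hb
      have hc : IsMulCommutative A := IsPGroup.isMulCommutative_of_card_eq_prime_sq hA
      have := hc.is_comm.comm ⟨a, ha⟩ ⟨b, hb⟩
      exact congrArg Subtype.val this
    have hAY : A ≤ Y := by
      intro a ha
      rw [hY, Subgroup.mem_comap, hCb, Subgroup.mem_centralizer_iff]
      rintro _ ⟨a', ha', rfl⟩
      rw [← map_mul, ← map_mul, hAcomm a' ha' a ha]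
    have hYcomm : ∀ y ∈ Y, ∀ a ∈ A, y * a * y⁻¹ * a⁻¹ ∈ Subgroup.center X := by
      intro y hy a ha
      rw [hY, hCb] at hy
      exact comm_mem_center A y a hy ha
    obtain ⟨a₀, ha₀A, ha₀Z⟩ := SetLike.exists_of_lt (lt_of_le_of_ne hZA hZneA)
    obtain ⟨ψ, hψ⟩ : ∃ ψ, ψ = commHom Y a₀ (fun y hy => hYcomm y hy a₀ ha₀A) := ⟨_, rfl⟩
    have hker : ψ.ker = A.subgroupOf Y := by
      ext y
      rw [hψ, mem_ker_commHom, Subgroup.mem_subgroupOf]
      constructor
      · intro hy
        apply hC
        -- D-trick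
        have hDA : A ⊓ Subgroup.centralizer {(y : X)} ≤ A := inf_le_left
        have hZD : Subgroup.center X ≤ A ⊓ Subgroup.centralizer {(y : X)} :=
          le_inf hZA (Subgroup.center_le_centralizer _)
        have ha₀D : a₀ ∈ A ⊓ Subgroup.centralizer {(y : X)} := by
          refine Subgroup.mem_inf.2 ⟨ha₀A, ?_⟩
          rw [Subgroup.mem_centralizer_iff]
          intro h hh
          rw [Set.mem_singleton_iff] at hh
          rw [hh, hy]
        have hZneD : Subgroup.center X ≠ A ⊓ Subgroup.centralizer {(y : X)} := by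
          intro h
          apply ha₀Z
          rw [h]
          exact ha₀D
        have h1 := card_lt_of_lt hZD hZneD
        obtain ⟨j, hj, hjc⟩ := card_pow_of_le (p := p) hDA hA
        rw [hk, hjc] at h1
        have h2 : 1 < j := by
          have : p ^ 1 < p ^ j := by rwa [pow_one]
          exact (Nat.pow_lt_pow_iff_right hp1).1 this
        have hj2 : j = 2 := by omega
        subst hj2
        have hDeq : A ⊓ Subgroup.centralizer {(y : X)} = A :=
          Subgroup.eq_of_le_of_card_ge hDA (by rw [hjc, hA])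
        rw [Subgroup.mem_centralizer_iff]
        intro a ha
        have : a ∈ A ⊓ Subgroup.centralizer {(y : X)} := by rw [hDeq]; exact ha
        have h3 := (Subgroup.mem_centralizer_iff.1 (Subgroup.mem_inf.1 this).2) y rfl
        exact h3.symm
      · intro hy
        exact hAcomm _ hy _ ha₀A
    have hcardY := card_hom ψ
    have hkercard : Nat.card ψ.ker = p ^ 2 := by
      rw [hker, Nat.card_congr (Subgroup.subgroupOfEquivOfLe hAY).toEquiv, hA]
    have hrange : Nat.card ψ.range ∣ p := by
      have := Subgroup.card_subgroup_dvd_card ψ.range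
      rwa [hk] at this
    -- image of `A`
    have hAb : Nat.card (A.map (QuotientGroup.mk' (Subgroup.center X))) = p := by
      have := card_map_mk (Subgroup.center X) A hZA
      rw [hA, hk, pow_two] at this
      exact (Nat.eq_of_mul_eq_mul_left hp.out.pos this).symm
    have hAbC : A.map (QuotientGroup.mk' (Subgroup.center X)) ≤ Cb := by
      rw [Subgroup.map_le_iff_le_comap, ← hY]
      exact hAY
    have hCbcard : Nat.card Cb = p ^ 2 := by
      rcases (Nat.dvd_prime hp.out).1 hrange with h1 | h1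
      · -- impossible case
        exfalso
        rw [hkercard, h1, mul_one, hYcard, pow_two] at hcardY
        have hCbp : Nat.card Cb = p := Nat.eq_of_mul_eq_mul_left hp.out.pos hcardY
        have hAbeq : A.map (QuotientGroup.mk' (Subgroup.center X)) = Cb :=
          Subgroup.eq_of_le_of_card_ge hAbC (by rw [hCbp, hAb])
        obtain ⟨k', hk'0, hk'⟩ := IsPGroup.card_center_eq_prime_pow hQ (by omega)
        have hZQ : Subgroup.center (X ⧸ Subgroup.center X) ≤ Cb := by
          rw [hCb]
          exact Subgroup.center_le_centralizer _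
        have h5 := Subgroup.card_le_of_le hZQ
        have h6 : p ^ 1 ≤ p ^ k' := Nat.pow_le_pow_right hp.out.pos hk'0
        rw [pow_one] at h6
        have hZQeq : Subgroup.center (X ⧸ Subgroup.center X) = Cb :=
          Subgroup.eq_of_le_of_card_ge hZQ (by rw [hCbp, hk']; exact h6)
        have htop : Cb = ⊤ := by
          rw [hCb, Subgroup.centralizer_eq_top_iff_subset, hAbeq, hZQeq]
        rw [htop, Subgroup.card_top, hQ] at hCbp
        have : p ^ n = p ^ 1 := by rw [hCbp, pow_one]
        have := Nat.pow_right_injective hp.out.two_le this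
        omega
      · rw [hkercard, h1, hYcard] at hcardY
        have : p * Nat.card Cb = p * p ^ 2 := by rw [hcardY]; ring
        exact Nat.eq_of_mul_eq_mul_left hp.out.pos this
    have hCbC : Subgroup.centralizer (Cb : Set (X ⧸ Subgroup.center X)) ≤ Cb := by
      conv_rhs => rw [hCb]
      exact Subgroup.centralizer_le hAbC
    have hclass := ih (X ⧸ Subgroup.center X) hQ Cb hCbcard hCbC
    rw [Group.nilpotencyClass_eq_quotient_center_plus_one, hclass]
    omega


/-- Let X be a finite p-group of order p^n containing a non-abelian subgroup B of order p³ with C_X(B) ≤ B. Then X has nilpotency class n − 1 (maximal class). -/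
theorem result {X : Type*} [Group X] [Finite X] {p : ℕ} [Fact p.Prime] (n : ℕ) (hX : Nat.card X = p ^ n)
    (B : Subgroup X) (hB : Nat.card B = p ^ 3) (hBna : ¬ IsMulCommutative B) (hC : Subgroup.centralizer (B : Set X) ≤ B) :
    Group.nilpotencyClass X = n - 1 := by
  have hp : Fact p.Prime := inferInstance
  have hp1 := hp.out.one_lt
  have hn3 : 3 ≤ n := by
    have := Subgroup.card_subgroup_dvd_card B
    rw [hB, hX] at this
    exact (Nat.pow_dvd_pow_iff_le_right hp1).1 this
  have hXp : IsPGroup p X := IsPGroup.of_card hX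
  have : Group.IsNilpotent X := hXp.isNilpotent
  have hXnt : Nontrivial X := by
    rw [← Finite.one_lt_card_iff_nontrivial, hX]
    exact Nat.one_lt_pow (by omega) hp1
  have hZZ' : Subgroup.center X ≤ Subgroup.centralizer (B : Set X) :=
    Subgroup.center_le_centralizer _
  have hZB : Subgroup.center X ≤ B := hZZ'.trans hC
  obtain ⟨k, hk0, hk⟩ := IsPGroup.card_center_eq_prime_pow hX (by omega)
  -- the centralizer of `B` has order `p`
  obtain ⟨j, hj3, hj⟩ := card_pow_of_le (p := p) hC hB
  have hj1 : j ≤ 1 := by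
    by_contra hj2
    apply hBna
    have key : ∀ b ∈ B, ∀ b' ∈ B, b * b' = b' * b := by
      intro b hb b' hb'
      by_cases hbZ : b ∈ Subgroup.centralizer (B : Set X)
      · exact (Subgroup.mem_centralizer_iff.1 hbZ b' hb').symm
      · have hDB : B ⊓ Subgroup.centralizer {b} ≤ B := inf_le_left
        have hZD : Subgroup.centralizer (B : Set X) ≤ B ⊓ Subgroup.centralizer {b} := by
          apply le_inf hC
          apply Subgroup.centralizer_le
          rw [Set.singleton_subset_iff]
          exact hb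
        have hbD : b ∈ B ⊓ Subgroup.centralizer {b} := by
          refine Subgroup.mem_inf.2 ⟨hb, ?_⟩
          rw [Subgroup.mem_centralizer_iff]
          intro h hh
          rw [Set.mem_singleton_iff] at hh
          rw [hh]
        have hne : Subgroup.centralizer (B : Set X) ≠ B ⊓ Subgroup.centralizer {b} := by
          intro h
          apply hbZ
          rw [h]
          exact hbD
        have h1 := card_lt_of_lt hZD hne
        obtain ⟨i, hi3, hi⟩ := card_pow_of_le (p := p) hDB hB
        rw [hj, hi] at h1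
        have h2 := (Nat.pow_lt_pow_iff_right hp1).1 h1
        have hi3' : i = 3 := by omega
        subst hi3'
        have hDeq : B ⊓ Subgroup.centralizer {b} = B :=
          Subgroup.eq_of_le_of_card_ge hDB (by rw [hi, hB])
        have : b' ∈ B ⊓ Subgroup.centralizer {b} := by rw [hDeq]; exact hb'
        exact (Subgroup.mem_centralizer_iff.1 (Subgroup.mem_inf.1 this).2) b rfl
    exact ⟨⟨fun a b => Subtype.ext (key a a.2 b b.2)⟩⟩
  have hkj : k ≤ j := by
    have := Subgroup.card_dvd_of_le hZZ'
    rw [hk, hj] at this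
    exact (Nat.pow_dvd_pow_iff_le_right hp1).1 this
  have hk1 : k = 1 := by omega
  have hj1' : j = 1 := by omega
  subst hk1
  subst hj1'
  rw [pow_one] at hk hj
  have hZeq : Subgroup.center X = Subgroup.centralizer (B : Set X) :=
    Subgroup.eq_of_le_of_card_ge hZZ' (by rw [hk, hj])
  -- the quotient
  obtain ⟨m, rfl⟩ : ∃ m, n = m + 1 := ⟨n - 1, by omega⟩
  have hQ : Nat.card (X ⧸ Subgroup.center X) = p ^ m := by
    have h4 := Subgroup.card_eq_card_quotient_mul_card_subgroup (Subgroup.center X)
    rw [hX, hk, pow_succ] at h4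
    exact (Nat.eq_of_mul_eq_mul_right hp.out.pos h4).symm
  obtain ⟨Cb, hCb⟩ : ∃ Cb : Subgroup (X ⧸ Subgroup.center X),
    Cb = Subgroup.centralizer ((B.map (QuotientGroup.mk' (Subgroup.center X)) :
      Subgroup (X ⧸ Subgroup.center X)) : Set (X ⧸ Subgroup.center X)) := ⟨_, rfl⟩
  obtain ⟨Y, hY⟩ : ∃ Y : Subgroup X, Y = Cb.comap (QuotientGroup.mk' (Subgroup.center X)) :=
    ⟨_, rfl⟩
  have hYcard : Nat.card Y = p * Nat.card Cb := by
    rw [hY, card_comap_mk, hk]
  have hBb : Nat.card (B.map (QuotientGroup.mk' (Subgroup.center X))) = p ^ 2 := by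
    have := card_map_mk (Subgroup.center X) B hZB
    rw [hB, hk] at this
    have h2 : p * p ^ 2 = p * Nat.card (B.map (QuotientGroup.mk' (Subgroup.center X))) := by
      rw [← this]; ring
    exact (Nat.eq_of_mul_eq_mul_left hp.out.pos h2).symm
  have hBY : B ≤ Y := by
    intro b hb
    rw [hY, Subgroup.mem_comap, hCb, Subgroup.mem_centralizer_iff]
    rintro _ ⟨b', hb', rfl⟩
    have hc : IsMulCommutative (B.map (QuotientGroup.mk' (Subgroup.center X))) :=
      IsPGroup.isMulCommutative_of_card_eq_prime_sq hBb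
    have := hc.is_comm.comm ⟨QuotientGroup.mk' (Subgroup.center X) b', ⟨b', hb', rfl⟩⟩
      ⟨QuotientGroup.mk' (Subgroup.center X) b, ⟨b, hb, rfl⟩⟩
    exact congrArg Subtype.val this
  have hYcomm : ∀ y ∈ Y, ∀ b ∈ B, y * b * y⁻¹ * b⁻¹ ∈ Subgroup.center X := by
    intro y hy b hb
    rw [hY, hCb] at hy
    exact comm_mem_center B y b hy hb
  have hZneB : Subgroup.center X ≠ B := by
    intro h
    rw [h, hB] at hk
    have : p ^ 3 = p ^ 1 := by rw [hk, pow_one]
    have := Nat.pow_right_injective hp.out.two_le this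
    omega
  obtain ⟨b₁, hb₁B, hb₁Z⟩ := SetLike.exists_of_lt (lt_of_le_of_ne hZB hZneB)
  have hb₁Z' : b₁ ∉ Subgroup.centralizer (B : Set X) := by rwa [← hZeq]
  rw [Subgroup.mem_centralizer_iff] at hb₁Z'
  push Not at hb₁Z'
  obtain ⟨b₂, hb₂B, hb₂⟩ := hb₁Z'
  obtain ⟨ψ, hψ⟩ : ∃ ψ, ψ = (commHom Y b₁ (fun y hy => hYcomm y hy b₁ hb₁B)).prod
    (commHom Y b₂ (fun y hy => hYcomm y hy b₂ hb₂B)) := ⟨_, rfl⟩
  have hker : ψ.ker ≤ (Subgroup.center X).subgroupOf Y := by
    intro y hy
    rw [hψ, MonoidHom.ker_prod, Subgroup.mem_inf, mem_ker_commHom, mem_ker_commHom] at hy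
    obtain ⟨hy1, hy2⟩ := hy
    rw [Subgroup.mem_subgroupOf, hZeq]
    -- D-trick
    have hDB : B ⊓ Subgroup.centralizer {(y : X)} ≤ B := inf_le_left
    have hD'D : B ⊓ Subgroup.centralizer {(y : X)} ⊓ Subgroup.centralizer {b₁} ≤
        B ⊓ Subgroup.centralizer {(y : X)} := inf_le_left
    have hZD' : Subgroup.center X ≤
        B ⊓ Subgroup.centralizer {(y : X)} ⊓ Subgroup.centralizer {b₁} :=
      le_inf (le_inf hZB (Subgroup.center_le_centralizer _)) (Subgroup.center_le_centralizer _)
    have hb₁D' : b₁ ∈ B ⊓ Subgroup.centralizer {(y : X)} ⊓ Subgroup.centralizer {b₁} := by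
      refine Subgroup.mem_inf.2 ⟨Subgroup.mem_inf.2 ⟨hb₁B, ?_⟩, ?_⟩
      · rw [Subgroup.mem_centralizer_iff]
        intro h hh
        rw [Set.mem_singleton_iff] at hh
        rw [hh, hy1]
      · rw [Subgroup.mem_centralizer_iff]
        intro h hh
        rw [Set.mem_singleton_iff] at hh
        rw [hh]
    have hb₂D : b₂ ∈ B ⊓ Subgroup.centralizer {(y : X)} := by
      refine Subgroup.mem_inf.2 ⟨hb₂B, ?_⟩
      rw [Subgroup.mem_centralizer_iff]
      intro h hh
      rw [Set.mem_singleton_iff] at hh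
      rw [hh, hy2]
    have hb₂D' : b₂ ∉ B ⊓ Subgroup.centralizer {(y : X)} ⊓ Subgroup.centralizer {b₁} := by
      intro h
      have := (Subgroup.mem_centralizer_iff.1 (Subgroup.mem_inf.1 h).2) b₁ rfl
      exact hb₂ this.symm
    have hne1 : Subgroup.center X ≠
        B ⊓ Subgroup.centralizer {(y : X)} ⊓ Subgroup.centralizer {b₁} := by
      intro h
      apply hb₁Z
      rw [h]
      exact hb₁D'
    have hne2 : B ⊓ Subgroup.centralizer {(y : X)} ⊓ Subgroup.centralizer {b₁} ≠
        B ⊓ Subgroup.centralizer {(y : X)} := by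
      intro h
      apply hb₂D'
      rw [h]
      exact hb₂D
    have h1 := card_lt_of_lt hZD' hne1
    have h2 := card_lt_of_lt hD'D hne2
    obtain ⟨i, hi3, hi⟩ := card_pow_of_le (p := p) hDB hB
    obtain ⟨i', hi'3, hi'⟩ := card_pow_of_le (p := p) (hD'D.trans hDB) hB
    rw [hk, hi'] at h1
    rw [hi', hi] at h2
    have h3 : 1 < i' := by
      have : p ^ 1 < p ^ i' := by rwa [pow_one]
      exact (Nat.pow_lt_pow_iff_right hp1).1 this
    have h4 := (Nat.pow_lt_pow_iff_right hp1).1 h2
    have hi3' : i = 3 := by omega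
    subst hi3'
    have hDeq : B ⊓ Subgroup.centralizer {(y : X)} = B :=
      Subgroup.eq_of_le_of_card_ge hDB (by rw [hi, hB])
    rw [Subgroup.mem_centralizer_iff]
    intro b hb
    have : b ∈ B ⊓ Subgroup.centralizer {(y : X)} := by rw [hDeq]; exact hb
    have h5 := (Subgroup.mem_centralizer_iff.1 (Subgroup.mem_inf.1 this).2) y rfl
    exact h5.symm
  have hZY : Subgroup.center X ≤ Y := hZB.trans hBY
  have hcardY := card_hom ψ
  have hkercard : Nat.card ψ.ker ∣ p := by
    have := Subgroup.card_dvd_of_le hker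
    rwa [Nat.card_congr (Subgroup.subgroupOfEquivOfLe hZY).toEquiv, hk] at this
  have hrange : Nat.card ψ.range ∣ p * p := by
    have := Subgroup.card_subgroup_dvd_card ψ.range
    rwa [Nat.card_prod, hk] at this
  have hYdvd : Nat.card Y ∣ p ^ 3 := by
    rw [hcardY]
    have : p ^ 3 = p * (p * p) := by ring
    rw [this]
    exact Nat.mul_dvd_mul hkercard hrange
  have hYle : Nat.card Y ≤ Nat.card B := by
    rw [hB]
    exact Nat.le_of_dvd (pow_pos hp.out.pos 3) hYdvd
  have hYB : B = Y := Subgroup.eq_of_le_of_card_ge hBY hYle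
  have hCbeq : Cb = B.map (QuotientGroup.mk' (Subgroup.center X)) := by
    rw [hYB, hY, Subgroup.map_comap_eq_self_of_surjective (QuotientGroup.mk'_surjective _)]
  have hCbcard : Nat.card Cb = p ^ 2 := by rw [hCbeq, hBb]
  have hCbC : Subgroup.centralizer (Cb : Set (X ⧸ Subgroup.center X)) ≤ Cb := by
    conv_lhs => rw [hCbeq]
    rw [← hCb]
  have hclass := suzuki p m (by omega) (X ⧸ Subgroup.center X) hQ Cb hCbcard hCbC
  rw [Group.nilpotencyClass_eq_quotient_center_plus_one, hclass]
  omega

end Cfsg.Agent.S4143
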