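import Cfsg.Statements.S4152
import Mathlib
import Cfsg.Agent.Lib.Helper74.PiClasses
import Cfsg.Agent.Lib.Helper74.PiParts

set_option autoImplicit false
open Cfsg

namespace Cfsg.Agent.S4152

open Cfsg.Agent.Lib.Helper74

/-- The class count in the statement's form, times the group order, counts commuting pairs. -/
theorem card_stmt_form {X : Type*} [Group X] [Finite X] (π : Set ℕ) :
    Nat.card {C : ConjClasses X // ∀ q : ℕ, q.Prime → (∃ g : X, ConjClasses.mk g = C ∧ q ∣ orderOf g) → q ∈ π} * Nat.card X =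
      Nat.card (cp (Set.univ : Set X) {x | IsPiElt π x}) := by
  rw [← card_classes_mul_card (IsPiElt π) (fun x g hx => isPiElt_conj π x g hx)]
  congr 1
  apply Nat.card_congr
  refine Equiv.subtypeEquivRight (fun C => ?_)
  constructor
  · intro h g hg q hq hd
    exact h q hq ⟨g, hg, hd⟩
  · rintro h q hq ⟨g, hg, hd⟩
    exact h g hg q hq hd

/-- The `π`-part trick. -/
theorem card_cp_pi_le {G : Type*} [Group G] [Finite G] (π : Set ℕ) (N : Subgroup G) [N.Normal]
    (q : G ⧸ N) :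
    Nat.card (cp (N : Set G) ({x | IsPiElt π x} ∩ (QuotientGroup.mk : G → G ⧸ N) ⁻¹' {q})) ≤
      Nat.card (cp ({x | IsPiElt π x} ∩ (N : Set G)) ((QuotientGroup.mk : G → G ⧸ N) ⁻¹' {q})) := by
  obtain ⟨e, e', h1, h2, h3, h4⟩ := exists_pi_exponents π G
  have hmap : ∀ p : cp (N : Set G) ({x | IsPiElt π x} ∩ (QuotientGroup.mk : G → G ⧸ N) ⁻¹' {q}),
      (p.1.1 ^ e, p.1.2 * p.1.1 ^ e') ∈
        cp ({x | IsPiElt π x} ∩ (N : Set G)) ((QuotientGroup.mk : G → G ⧸ N) ⁻¹' {q}) := by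
    rintro ⟨⟨n, x⟩, hn, ⟨hx, hxq⟩, hcomm⟩
    refine ⟨⟨h1 n, N.pow_mem hn e⟩, ?_, ?_⟩
    · simp only [Set.mem_preimage, Set.mem_singleton_iff] at hxq ⊢
      rw [QuotientGroup.mk_mul, hxq, (QuotientGroup.eq_one_iff _).mpr (N.pow_mem hn e'), mul_one]
    · exact (hcomm.pow_left e).mul_right (Commute.pow_pow_self n e e')
  refine Nat.card_le_card_of_injective (fun p => ⟨_, hmap p⟩) ?_
  rintro ⟨⟨n1, x1⟩, hn1, ⟨hx1, hxq1⟩, hc1⟩ ⟨⟨n2, x2⟩, hn2, ⟨hx2, hxq2⟩, hc2⟩ h
  simp only [Subtype.mk.injEq, Prod.mk.injEq] at h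
  obtain ⟨hm, hy⟩ := h
  have key : ∀ (n x : G), IsPiElt π x → Commute n x → (x * n ^ e') ^ e = x := by
    intro n x hx hc
    rw [(hc.symm.pow_right e').mul_pow, h3 x hx, h4 n, mul_one]
  have hx12 : x1 = x2 := by
    rw [← key n1 x1 hx1 hc1, ← key n2 x2 hx2 hc2, hy]
  subst hx12
  have hn' : n1 ^ e' = n2 ^ e' := mul_left_cancel hy
  have hn12 : n1 = n2 := by
    rw [← h2 n1, ← h2 n2, hm, hn']
  subst hn12
  rfl

/-- Transport of the count for the subgroup `N`. -/
theorem card_cp_subgroup_pi {G : Type*} [Group G] (π : Set ℕ) (N : Subgroup G) :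
    Nat.card (cp (N : Set G) ({x : G | IsPiElt π x} ∩ (N : Set G))) =
      Nat.card (cp (Set.univ : Set N) {x : N | IsPiElt π x}) := by
  have hord : ∀ b : N, IsPiElt π (b : G) ↔ IsPiElt π b := by
    intro b
    unfold IsPiElt
    rw [Subgroup.orderOf_coe]
  apply Nat.card_congr
  exact
    { toFun := fun p => ⟨(⟨p.1.1, p.2.1⟩, ⟨p.1.2, p.2.2.1.2⟩), trivial,
        (hord ⟨p.1.2, p.2.2.1.2⟩).mp p.2.2.1.1, Subtype.ext p.2.2.2⟩
      invFun := fun p => ⟨(p.1.1.1, p.1.2.1), p.1.1.2, ⟨(hord p.1.2).mpr p.2.2.1, p.1.2.2⟩,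
        congrArg Subtype.val p.2.2.2⟩
      left_inv := fun p => rfl
      right_inv := fun p => rfl }

/-- Let G be a finite group, N a normal subgroup and π a set of primes. Then the number of conjugacy classes of π-elements of G (elements whose order is divisible only by primes in π) is at most the number of conjugacy classes of π-elements of N (under conjugation by N) times the number of conjugacy classes of π-elements of G/N. -/
theorem result {G : Type*} [Group G] [Finite G] (N : Subgroup G) [N.Normal] (π : Set ℕ) :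
    Nat.card {C : ConjClasses G // ∀ q : ℕ, q.Prime → (∃ g : G, ConjClasses.mk g = C ∧ q ∣ orderOf g) → q ∈ π} ≤ Nat.card {C : ConjClasses N // ∀ q : ℕ, q.Prime → (∃ g : N, ConjClasses.mk g = C ∧ q ∣ orderOf g) → q ∈ π} * Nat.card {C : ConjClasses (G ⧸ N) // ∀ q : ℕ, q.Prime → (∃ g : (G ⧸ N), ConjClasses.mk g = C ∧ q ∣ orderOf g) → q ∈ π} := by
  classical
  let _ : Fintype (G ⧸ N) := Fintype.ofFinite _
  set kG := Nat.card {C : ConjClasses G // ∀ q : ℕ, q.Prime → (∃ g : G, ConjClasses.mk g = C ∧ q ∣ orderOf g) → q ∈ π} with hkG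
  set kN := Nat.card {C : ConjClasses N // ∀ q : ℕ, q.Prime → (∃ g : N, ConjClasses.mk g = C ∧ q ∣ orderOf g) → q ∈ π} with hkN
  set kQ := Nat.card {C : ConjClasses (G ⧸ N) // ∀ q : ℕ, q.Prime → (∃ g : (G ⧸ N), ConjClasses.mk g = C ∧ q ∣ orderOf g) → q ∈ π} with hkQ
  set pr : G → G ⧸ N := QuotientGroup.mk with hpr
  set S : Set G := {x | IsPiElt π x} with hS
  set Sb : Set (G ⧸ N) := {x | IsPiElt π x} with hSb
  set c := Nat.card (cp (S ∩ (N : Set G)) (N : Set G)) with hc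
  have hG : kG * Nat.card G = Nat.card (cp (Set.univ : Set G) S) := card_stmt_form π
  have hQ : kQ * Nat.card (G ⧸ N) = Nat.card (cp (Set.univ : Set (G ⧸ N)) Sb) := card_stmt_form π
  have hN : kN * Nat.card N = c := by
    rw [hc, card_cp_swap, card_cp_subgroup_pi]
    exact card_stmt_form π
  have hXN : Nat.card N * N.index = Nat.card G := N.card_mul_index
  -- decomposition
  have hdecomp : Nat.card (cp (Set.univ : Set G) S) =
      ∑ q2 : G ⧸ N, ∑ q1 : G ⧸ N, Nat.card (cp (pr ⁻¹' {q2}) (S ∩ pr ⁻¹' {q1})) := by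
    rw [card_cp_swap, card_cp_fiber pr S Set.univ]
    apply Finset.sum_congr rfl
    intro q2 _
    rw [Set.univ_inter, card_cp_swap, card_cp_fiber pr (pr ⁻¹' {q2}) S]
  have hterm : ∀ q2 q1 : G ⧸ N, Nat.card (cp (pr ⁻¹' {q2}) (S ∩ pr ⁻¹' {q1})) ≤
      if (q2, q1) ∈ cp (Set.univ : Set (G ⧸ N)) Sb then c else 0 := by
    intro q2 q1
    split_ifs with hq
    · calc Nat.card (cp (pr ⁻¹' {q2}) (S ∩ pr ⁻¹' {q1}))
          = Nat.card (cp (S ∩ pr ⁻¹' {q1}) (pr ⁻¹' {q2})) := card_cp_swap _ _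
        _ ≤ Nat.card (cp (S ∩ pr ⁻¹' {q1}) (N : Set G)) := card_cp_coset_le N _ q2
        _ = Nat.card (cp (N : Set G) (S ∩ pr ⁻¹' {q1})) := card_cp_swap _ _
        _ ≤ Nat.card (cp (S ∩ (N : Set G)) (pr ⁻¹' {q1})) := card_cp_pi_le π N q1
        _ ≤ c := card_cp_coset_le N _ q1
    · have hempty : cp (pr ⁻¹' {q2}) (S ∩ pr ⁻¹' {q1}) = ∅ := by
        rw [Set.eq_empty_iff_forall_notMem]
        rintro ⟨a, b⟩ ⟨h1, ⟨h2, h3⟩, h4⟩
        apply hq
        simp only [Set.mem_preimage, Set.mem_singleton_iff] at h1 h3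
        refine ⟨trivial, ?_, ?_⟩
        · change IsPiElt π q1
          rw [← h3]
          exact isPiElt_map π (QuotientGroup.mk' N) b h2
        · change Commute q2 q1
          rw [← h1, ← h3]
          exact h4.map (QuotientGroup.mk' N)
      rw [hempty]
      simp
  have hsum : ∑ q2 : G ⧸ N, ∑ q1 : G ⧸ N,
      (if (q2, q1) ∈ cp (Set.univ : Set (G ⧸ N)) Sb then c else 0) =
      Nat.card (cp (Set.univ : Set (G ⧸ N)) Sb) * c := by
    rw [← Fintype.sum_prod_type' (f := fun q2 q1 : G ⧸ N =>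
      if (q2, q1) ∈ cp (Set.univ : Set (G ⧸ N)) Sb then c else 0)]
    rw [← Finset.sum_filter, Finset.sum_const, smul_eq_mul]
    congr 1
    rw [Nat.card_eq_fintype_card]
    exact (Fintype.card_subtype _).symm
  have hle : Nat.card (cp (Set.univ : Set G) S) ≤ Nat.card (cp (Set.univ : Set (G ⧸ N)) Sb) * c := by
    rw [hdecomp, ← hsum]
    exact Finset.sum_le_sum fun q2 _ => Finset.sum_le_sum fun q1 _ => hterm q2 q1
  rw [← hG, ← hQ, ← hN, ← hXN, ← Subgroup.index_eq_card] at hle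
  have hpos : 0 < Nat.card N * N.index :=
    Nat.mul_pos Nat.card_pos (Nat.pos_of_ne_zero Subgroup.index_ne_zero_of_finite)
  have h3 : kG * (Nat.card N * N.index) ≤ (kN * kQ) * (Nat.card N * N.index) := by
    calc kG * (Nat.card N * N.index) ≤ kQ * N.index * (kN * Nat.card N) := hle
      _ = (kN * kQ) * (Nat.card N * N.index) := by ring
  exact Nat.le_of_mul_le_mul_right h3 hpos

end Cfsg.Agent.S4152
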