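import Cfsg.Statements.S4153
import Mathlib

set_option autoImplicit false
open Cfsg

namespace Cfsg.Agent.S4153

theorem card_ker_inf_mul_card_map {G G' : Type*} [Group G] [Group G'] [Finite G] (f : G →* G')
    (K : Subgroup G) :
    Nat.card (f.ker ⊓ K : Subgroup G) * Nat.card (K.map f) = Nat.card K := by
  rw [← Subgroup.relIndex_ker, Subgroup.relIndex, ← Subgroup.card_mul_index (f.ker.subgroupOf K)]
  congr 1
  rw [← Subgroup.subgroupOf_map_subtype, Subgroup.card_map_of_injective K.subtype_injective]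

/-- Let G be a finite group, p a prime, N a normal subgroup, P a Sylow p-subgroup of G and P̄ a Sylow p-subgroup of G/N. Count the elements of p-power order, the identity included. Then (number of such elements of G/N)/#P̄ ≤ (number of such elements of G)/#P, stated as a cross-multiplied inequality, with equality when N is central. -/
theorem result {G : Type*} [Group G] [Finite G] (p : ℕ) [Fact p.Prime] (N : Subgroup G) [N.Normal]
    (P : Sylow p G) (Pbar : Sylow p (G ⧸ N)) :
    Nat.card {g : (G ⧸ N) // ∃ k : ℕ, orderOf g = p ^ k} * Nat.card (P : Subgroup G) ≤ Nat.card {g : G // ∃ k : ℕ, orderOf g = p ^ k} * Nat.card (Pbar : Subgroup (G ⧸ N)) ∧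
    (N ≤ Subgroup.center G → Nat.card {g : (G ⧸ N) // ∃ k : ℕ, orderOf g = p ^ k} * Nat.card (P : Subgroup G) = Nat.card {g : G // ∃ k : ℕ, orderOf g = p ^ k} * Nat.card (Pbar : Subgroup (G ⧸ N))) := by
  classical
  have hp : p.Prime := Fact.out
  let π : G →* G ⧸ N := QuotientGroup.mk' N
  have hπ : Function.Surjective π := QuotientGroup.mk'_surjective N
  have hker : π.ker = N := QuotientGroup.ker_mk' N
  have hcardP : ∀ Q : Sylow p G, Nat.card (Q : Subgroup G) = Nat.card (P : Subgroup G) := fun Q => by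
    rw [Q.card_eq_multiplicity, P.card_eq_multiplicity]
  have hcardPbar : ∀ Q : Sylow p (G ⧸ N), Nat.card (Q : Subgroup (G ⧸ N)) = Nat.card (Pbar : Subgroup (G ⧸ N)) :=
    fun Q => by rw [Q.card_eq_multiplicity, Pbar.card_eq_multiplicity]
  have hs : ∀ Q : Sylow p G, Nat.card (N ⊓ (Q : Subgroup G) : Subgroup G) * Nat.card (Pbar : Subgroup (G ⧸ N)) =
      Nat.card (P : Subgroup G) := by
    intro Q
    have h1 := card_ker_inf_mul_card_map π (Q : Subgroup G)
    rw [hker] at h1
    have h2 : Nat.card ((Q : Subgroup G).map π) = Nat.card (Pbar : Subgroup (G ⧸ N)) := by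
      have := hcardPbar (Q.mapSurjective hπ)
      rwa [Sylow.coe_mapSurjective] at this
    rw [h2, hcardP Q] at h1
    exact h1
  set s := Nat.card (N ⊓ (P : Subgroup G) : Subgroup G) with hsdef
  have hsQ : ∀ Q : Sylow p G, Nat.card (N ⊓ (Q : Subgroup G) : Subgroup G) = s := by
    intro Q
    have := (hs Q).trans (hs P).symm
    exact Nat.eq_of_mul_eq_mul_right Nat.card_pos this
  have hmap : ∀ g : G, (∃ k : ℕ, orderOf g = p ^ k) → ∃ k : ℕ, orderOf (π g) = p ^ k := by
    rintro g ⟨k, hk⟩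
    have := orderOf_map_dvd π g
    rw [hk] at this
    obtain ⟨j, -, hj⟩ := (Nat.dvd_prime_pow hp).mp this
    exact ⟨j, hj⟩
  let f : {g : G // ∃ k : ℕ, orderOf g = p ^ k} → {g : (G ⧸ N) // ∃ k : ℕ, orderOf g = p ^ k} :=
    fun a => ⟨π a.1, hmap a.1 a.2⟩
  have hlift : ∀ b : {g : (G ⧸ N) // ∃ k : ℕ, orderOf g = p ^ k},
      ∃ (Q : Sylow p G) (g : G), g ∈ (Q : Subgroup G) ∧ π g = b.1 := by
    intro b
    obtain ⟨k, hk⟩ := b.2
    have hpg : IsPGroup p (Subgroup.zpowers b.1) :=
      IsPGroup.of_card (n := k) (by rw [Nat.card_zpowers, hk])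
    obtain ⟨Qb, hQb⟩ := hpg.exists_le_sylow
    obtain ⟨Q, hQ⟩ := Sylow.mapSurjective_surjective hπ p Qb
    have hb : b.1 ∈ ((Q.mapSurjective hπ : Sylow p (G ⧸ N)) : Subgroup (G ⧸ N)) := by
      rw [hQ]; exact hQb (Subgroup.mem_zpowers _)
    rw [Sylow.coe_mapSurjective] at hb
    obtain ⟨g, hg, hgb⟩ := hb
    exact ⟨Q, g, hg, hgb⟩
  have hpel : ∀ (Q : Sylow p G) (g : G), g ∈ (Q : Subgroup G) → ∃ k : ℕ, orderOf g = p ^ k := by
    intro Q g hg
    obtain ⟨k, hk⟩ := (IsPGroup.iff_orderOf.mp Q.isPGroup') ⟨g, hg⟩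
    exact ⟨k, by rw [← hk]; exact (Subgroup.orderOf_mk g hg).symm⟩
  have hfib : ∀ b : {g : (G ⧸ N) // ∃ k : ℕ, orderOf g = p ^ k}, s ≤ Nat.card {a // f a = b} := by
    intro b
    obtain ⟨Q, g, hg, hgb⟩ := hlift b
    rw [← hsQ Q]
    have hmem : ∀ n : (N ⊓ (Q : Subgroup G) : Subgroup G),
        f ⟨g * n.1, hpel Q _ ((Q : Subgroup G).mul_mem hg n.2.2)⟩ = b := by
      intro n
      apply Subtype.ext
      change π (g * n.1) = b.1
      rw [map_mul, hgb]
      have : π n.1 = 1 := (QuotientGroup.eq_one_iff n.1).mpr n.2.1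
      rw [this, mul_one]
    refine Nat.card_le_card_of_injective (fun n => ⟨⟨g * n.1, hpel Q _ ((Q : Subgroup G).mul_mem hg n.2.2)⟩, hmem n⟩) ?_
    intro n m hnm
    simp only [Subtype.mk.injEq] at hnm
    exact Subtype.ext (mul_left_cancel hnm)
  let _ : Fintype {g : (G ⧸ N) // ∃ k : ℕ, orderOf g = p ^ k} := Fintype.ofFinite _
  have hsum : Nat.card {g : G // ∃ k : ℕ, orderOf g = p ^ k} =
      ∑ b : {g : (G ⧸ N) // ∃ k : ℕ, orderOf g = p ^ k}, Nat.card {a // f a = b} := by
    rw [← Nat.card_sigma]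
    exact Nat.card_congr (Equiv.sigmaFiberEquiv f).symm
  have hcardB : ∑ _b : {g : (G ⧸ N) // ∃ k : ℕ, orderOf g = p ^ k}, s =
      Nat.card {g : (G ⧸ N) // ∃ k : ℕ, orderOf g = p ^ k} * s := by
    rw [Finset.sum_const, Finset.card_univ, smul_eq_mul, Nat.card_eq_fintype_card]
  have hle : Nat.card {g : (G ⧸ N) // ∃ k : ℕ, orderOf g = p ^ k} * s ≤
      Nat.card {g : G // ∃ k : ℕ, orderOf g = p ^ k} := by
    rw [hsum, ← hcardB]
    exact Finset.sum_le_sum fun b _ => hfib b
  constructor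
  · rw [← hs P, ← mul_assoc]
    exact Nat.mul_le_mul_right _ hle
  · intro hcent
    have hfib' : ∀ b : {g : (G ⧸ N) // ∃ k : ℕ, orderOf g = p ^ k}, Nat.card {a // f a = b} ≤ s := by
      intro b
      obtain ⟨Q, g, hg, hgb⟩ := hlift b
      rw [← hsQ Q]
      have hmem : ∀ a : {a // f a = b}, g⁻¹ * a.1.1 ∈ (N ⊓ (Q : Subgroup G) : Subgroup G) := by
        rintro ⟨⟨a, ha⟩, hab⟩
        have hab' : π a = b.1 := congrArg Subtype.val hab
        have hnN : g⁻¹ * a ∈ N := by
          apply QuotientGroup.eq.mp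
          change π g = π a
          rw [hgb, hab']
        refine ⟨hnN, ?_⟩
        set n := g⁻¹ * a with hn
        have hncent : n ∈ Subgroup.center G := hcent hnN
        have hcomm : Commute g⁻¹ a := by
          have h1 : a = g * n := by rw [hn]; group
          have h2 : g * n = n * g := Subgroup.mem_center_iff.mp hncent g
          change g⁻¹ * a = a * g⁻¹
          calc g⁻¹ * a = n := hn.symm
            _ = (n * g) * g⁻¹ := by group
            _ = (g * n) * g⁻¹ := by rw [h2]
            _ = a * g⁻¹ := by rw [← h1]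
        obtain ⟨i, hi⟩ := hpel Q g hg
        obtain ⟨j, hj⟩ := ha
        have hdvd : orderOf n ∣ p ^ (max i j) := by
          have h1 := hcomm.orderOf_mul_dvd_lcm
          rw [orderOf_inv, hi, hj] at h1
          refine h1.trans (Nat.lcm_dvd ?_ ?_)
          · exact pow_dvd_pow _ (le_max_left _ _)
          · exact pow_dvd_pow _ (le_max_right _ _)
        obtain ⟨l, -, hl⟩ := (Nat.dvd_prime_pow hp).mp hdvd
        have hpg : IsPGroup p (Subgroup.zpowers n) :=
          IsPGroup.of_card (n := l) (by rw [Nat.card_zpowers, hl])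
        have hnorm : (Subgroup.zpowers n).Normal := by
          refine ⟨fun x hx y => ?_⟩
          have hxc : x ∈ Subgroup.center G := by
            obtain ⟨t, rfl⟩ := hx
            exact (Subgroup.center G).zpow_mem hncent t
          have : y * x * y⁻¹ = x := by
            rw [Subgroup.mem_center_iff.mp hxc y, mul_inv_cancel_right]
          rw [this]; exact hx
        exact (hpg.le_sylow_of_normal Q) (Subgroup.mem_zpowers n)
      refine Nat.card_le_card_of_injective (fun a => ⟨g⁻¹ * a.1.1, hmem a⟩) ?_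
      intro a a' haa
      simp only [Subtype.mk.injEq] at haa
      exact Subtype.ext (Subtype.ext (mul_left_cancel haa))
    have hge : Nat.card {g : G // ∃ k : ℕ, orderOf g = p ^ k} ≤
        Nat.card {g : (G ⧸ N) // ∃ k : ℕ, orderOf g = p ^ k} * s := by
      rw [hsum, ← hcardB]
      exact Finset.sum_le_sum fun b _ => hfib' b
    rw [← hs P, ← mul_assoc, le_antisymm hle hge]

end Cfsg.Agent.S4153
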