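import Cfsg.Statements.S4154
import Mathlib

set_option autoImplicit false
open Cfsg

namespace Cfsg.Agent.S4154

/-- For an endomorphism `β` of a group, the number of elements `β h * h⁻¹` is the index of the
fixed-point subgroup of `β`. -/
theorem card_range_eq_index {H : Type*} [Group H] (β : H →* H) :
    Nat.card (Set.range (fun h : H => β h * h⁻¹)) = (MonoidHom.eqLocus β (MonoidHom.id H)).index := by
  set F := MonoidHom.eqLocus β (MonoidHom.id H) with hF
  have hkey : ∀ a b : H, (β a * a⁻¹ = β b * b⁻¹) ↔ a⁻¹ * b ∈ F := by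
    intro a b
    have hmem : ∀ z : H, z ∈ F ↔ β z = z := fun z => Iff.rfl
    rw [hmem, map_mul, map_inv]
    constructor
    · intro h
      have h1 : β b = β a * a⁻¹ * b := by rw [h]; group
      rw [h1]; group
    · intro h
      have h1 : β b = β a * (a⁻¹ * b) := by rw [← h]; group
      rw [h1]; group
  let g : H ⧸ F → H := Quotient.lift (fun h : H => β h * h⁻¹) (by
    intro a b hab
    have : a⁻¹ * b ∈ F := QuotientGroup.leftRel_apply.mp hab
    exact (hkey a b).mpr this)
  have hg_inj : Function.Injective g := by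
    intro x y
    induction x using QuotientGroup.induction_on with
    | H a =>
      induction y using QuotientGroup.induction_on with
      | H b =>
        intro h
        have h' : β a * a⁻¹ = β b * b⁻¹ := h
        exact QuotientGroup.eq.mpr ((hkey a b).mp h')
  have hrange : Set.range g = Set.range (fun h : H => β h * h⁻¹) := by
    ext z
    constructor
    · rintro ⟨x, rfl⟩
      induction x using QuotientGroup.induction_on with
      | H a => exact ⟨a, rfl⟩
    · rintro ⟨a, rfl⟩
      exact ⟨QuotientGroup.mk a, rfl⟩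
  rw [← hrange, Nat.card_range_of_injective hg_inj, Subgroup.index_eq_card]

/-- Let G be a finite group and α an automorphism of G such that every element of G is the product of an element fixed by α and an element of the form g⁻¹α(g). If N is a normal α-invariant subgroup, then the automorphism ᾱ induced on G/N has the same property, and every coset fixed by ᾱ contains an element fixed by α (so the fixed points of ᾱ are the images of the fixed points of α). -/
theorem result {G : Type*} [Group G] [Finite G] (α : MulAut G)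
    (hccp : ∀ x : G, ∃ c g : G, α c = c ∧ x = c * (g⁻¹ * α g))
    (N : Subgroup G) [N.Normal] (hN : ∀ n ∈ N, α n ∈ N) :
    (∀ x : G, ∃ c g : G, c⁻¹ * α c ∈ N ∧ x⁻¹ * (c * (g⁻¹ * α g)) ∈ N) ∧
    (∀ x : G, x⁻¹ * α x ∈ N → ∃ c : G, α c = c ∧ c⁻¹ * x ∈ N) := by
  constructor
  · intro x
    obtain ⟨c, g, hc, hx⟩ := hccp x
    refine ⟨c, g, ?_, ?_⟩
    · rw [hc, inv_mul_cancel]; exact N.one_mem
    · rw [← hx, inv_mul_cancel]; exact N.one_mem
  · -- induced endomorphism on the quotient
    let αh : G →* G := α.toMonoidHom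
    have hNle : N ≤ N.comap αh := fun n hn => hN n hn
    let β : G ⧸ N →* G ⧸ N := QuotientGroup.map N N αh hNle
    have hβ : ∀ x : G, β (QuotientGroup.mk x) = QuotientGroup.mk (α x) := fun x => rfl
    let C : Subgroup G := MonoidHom.eqLocus αh (MonoidHom.id G)
    let Cb : Subgroup (G ⧸ N) := C.map (QuotientGroup.mk' N)
    let Db : Subgroup (G ⧸ N) := MonoidHom.eqLocus β (MonoidHom.id (G ⧸ N))
    have hCD : Cb ≤ Db := by
      rintro _ ⟨c, hc, rfl⟩
      change β (QuotientGroup.mk c) = QuotientGroup.mk c
      rw [hβ]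
      have : α c = c := hc
      rw [this]
    -- surjection
    let K := Set.range (fun h : G ⧸ N => β h * h⁻¹)
    have hsurj : Function.Surjective (fun p : K × Cb => (p.1 : G ⧸ N) * (p.2 : G ⧸ N)) := by
      intro y
      induction y using QuotientGroup.induction_on with
      | H x =>
        obtain ⟨c, g, hc, hx⟩ := hccp x⁻¹
        have hx' : x = α g⁻¹ * (g⁻¹)⁻¹ * c⁻¹ := by
          have : x = (x⁻¹)⁻¹ := (inv_inv x).symm
          rw [this, hx, map_inv]; group
        refine ⟨(⟨β (QuotientGroup.mk g⁻¹) * (QuotientGroup.mk g⁻¹)⁻¹, ⟨QuotientGroup.mk g⁻¹, rfl⟩⟩,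
          ⟨QuotientGroup.mk c⁻¹, ⟨c⁻¹, ?_, rfl⟩⟩), ?_⟩
        · change αh c⁻¹ = c⁻¹
          change α c⁻¹ = c⁻¹
          rw [map_inv, hc]
        · change β (QuotientGroup.mk g⁻¹) * (QuotientGroup.mk g⁻¹)⁻¹ * QuotientGroup.mk c⁻¹ = QuotientGroup.mk x
          rw [hβ, hx']
          rfl
    have h1 : Nat.card (G ⧸ N) ≤ Nat.card K * Nat.card Cb := by
      rw [← Nat.card_prod]
      exact Nat.card_le_card_of_surjective _ hsurj
    have h2 : Nat.card K = Db.index := card_range_eq_index β
    have h3 : Nat.card Db * Db.index = Nat.card (G ⧸ N) := Subgroup.card_mul_index Db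
    have hpos : 0 < Db.index := Nat.pos_of_ne_zero Subgroup.index_ne_zero_of_finite
    have h4 : Nat.card Db ≤ Nat.card Cb := by
      rw [h2, ← h3, mul_comm] at h1
      exact Nat.le_of_mul_le_mul_left h1 hpos
    have hEq : Cb = Db := Subgroup.eq_of_le_of_card_ge hCD h4
    intro x hx
    have hxD : (QuotientGroup.mk x : G ⧸ N) ∈ Db := by
      change β (QuotientGroup.mk x) = QuotientGroup.mk x
      rw [hβ, eq_comm]
      exact QuotientGroup.eq.mpr hx
    rw [← hEq] at hxD
    obtain ⟨c, hc, hcx⟩ := hxD
    refine ⟨c, hc, ?_⟩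
    exact QuotientGroup.eq.mp hcx

end Cfsg.Agent.S4154
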