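import Cfsg.Statements.S4155
import Cfsg.Agent.Lib.Helper74.EqualOrder
import Cfsg.Agent.Lib.Helper01.Fitting

set_option autoImplicit false
open Cfsg

namespace Cfsg.Agent.S4155

open Cfsg.Agent.Lib.Helper74

/-- the basic consequence of the equal order hypothesis: an element outside `N` does not commute
with a nontrivial element of `N` of coprime order -/
theorem eq_one_of_commute_coprime {G : Type*} [Group G] [Finite G] (N : Subgroup G)
    (heq : ∀ x : G, x ∉ N → ∀ n ∈ N, orderOf (x * n) = orderOf x)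
    {x c : G} (hx : x ∉ N) (hc : c ∈ N) (hcomm : Commute x c)
    (hcop : (orderOf x).Coprime (orderOf c)) : c = 1 := by
  have h1 := hcomm.orderOf_mul_eq_mul_orderOf_of_coprime hcop
  rw [heq x hx c hc] at h1
  have hpos : 0 < orderOf x := orderOf_pos x
  have h2 : orderOf c = 1 :=
    Nat.eq_of_mul_eq_mul_left hpos (h1.symm.trans (mul_one _).symm)
  exact orderOf_eq_one_iff.mp h2

theorem fitting_normal {G : Type*} [Group G] : (Cfsg.fittingSubgroup G).Normal :=
  Subgroup.sSup_normal _ fun _ hH => hH.1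

theorem part1 {G : Type*} [Group G] [Finite G] (N : Subgroup G) [N.Normal] (hN1 : N ≠ ⊥)
    (heq : ∀ x : G, x ∉ N → ∀ n ∈ N, orderOf (x * n) = orderOf x)
    (hnil : Group.IsNilpotent N) (hnpp : ¬ IsPrimePow (Nat.card N)) :
    N = Cfsg.fittingSubgroup G := by
  apply le_antisymm
  · exact le_sSup ⟨inferInstance, hnil⟩
  · by_contra hle
    obtain ⟨y, hyF, hyN⟩ := SetLike.not_le_iff_exists.mp hle
    obtain ⟨q, m, k, hq, hzN, hzo⟩ := exists_pow_prime_pow_order N hyN
    haveI := Fact.mk hq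
    have hzF : y ^ m ∈ Cfsg.fittingSubgroup G := pow_mem hyF m
    haveI : (Cfsg.fittingSubgroup G).Normal := fitting_normal
    obtain ⟨Y, hYn, -, hYq, hYmem, -⟩ :=
      exists_pPart (Cfsg.fittingSubgroup G) Cfsg.Agent.Lib.Helper01.fitting_isNilpotent q
    have hzY : y ^ m ∈ Y := hYmem _ hzF k hzo
    have hcard1 : Nat.card N ≠ 1 := fun h => hN1 (Subgroup.card_eq_one.mp h)
    obtain ⟨p, hp, hpq, hpN⟩ := exists_prime_ne_dvd Nat.card_pos.ne' hcard1 hnpp q
    haveI := Fact.mk hp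
    obtain ⟨Np, hNpn, hNpN, hNpp, -, hNpne⟩ := exists_pPart N hnil p
    obtain ⟨c, hc, hc1⟩ := (Subgroup.bot_or_exists_ne_one Np).resolve_left (hNpne hpN)
    have hdisj : Disjoint Y Np := IsPGroup.disjoint_of_ne q p hpq.symm Y Np hYq hNpp
    have hcomm : Commute (y ^ m) c :=
      Subgroup.commute_of_normal_of_disjoint Y Np hYn hNpn hdisj (y ^ m) c hzY hc
    obtain ⟨j, hj⟩ := orderOf_eq_prime_pow_of_mem hNpp hc
    have hcop : (orderOf (y ^ m)).Coprime (orderOf c) := by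
      rw [hzo, hj]
      exact Nat.Coprime.pow _ _ ((Nat.coprime_primes hq hp).mpr hpq.symm)
    exact hc1 (eq_one_of_commute_coprime N heq hzN (hNpN hc) hcomm hcop)

theorem part2 {G : Type*} [Group G] [Finite G] (N : Subgroup G) [N.Normal] (hN1 : N ≠ ⊥)
    (heq : ∀ x : G, x ∉ N → ∀ n ∈ N, orderOf (x * n) = orderOf x)
    (hnil : Group.IsNilpotent N) (hnpp : ¬ IsPrimePow (Nat.card N))
    (q : ℕ) [Fact q.Prime] (Q' : Sylow q (G ⧸ N)) :
    IsCyclic (Q' : Subgroup (G ⧸ N)) ∨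
      ∃ n : ℕ, Nonempty ((Q' : Subgroup (G ⧸ N)) ≃* QuaternionGroup (2 ^ n)) := by
  have hq : q.Prime := Fact.out
  have hcard1 : Nat.card N ≠ 1 := fun h => hN1 (Subgroup.card_eq_one.mp h)
  obtain ⟨p, hp, hpq, hpN⟩ := exists_prime_ne_dvd Nat.card_pos.ne' hcard1 hnpp q
  have := Fact.mk hp
  obtain ⟨Np, hNpn, hNpN, hNpp, -, hNpne⟩ := exists_pPart N hnil p
  obtain ⟨Nq, hNqn, hNqN, hNqq, hNqmem, -⟩ := exists_pPart N hnil q
  have hdisjN : Disjoint Np Nq := IsPGroup.disjoint_of_ne p q hpq Np Nq hNpp hNqq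
  -- a Sylow subgroup `S` of `G` mapping onto `Q'`
  obtain ⟨S, hS⟩ := Sylow.mapSurjective_surjective (QuotientGroup.mk'_surjective N) q Q'
  have hSQ : (S : Subgroup G).map (QuotientGroup.mk' N) = Q' := by
    rw [← hS, Sylow.coe_mapSurjective]
  -- the quotient by `Nq`
  let π : G →* G ⧸ Nq := QuotientGroup.mk' Nq
  have hπ : Function.Surjective π := QuotientGroup.mk'_surjective Nq
  let ρ : G ⧸ Nq →* G ⧸ N :=
    QuotientGroup.map Nq N (MonoidHom.id G) (fun x hx => hNqN hx)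
  have hρπ : ρ.comp π = QuotientGroup.mk' N := by
    ext g
    rfl
  have hπ1 : ∀ g : G, π g = 1 ↔ g ∈ Nq := fun g => QuotientGroup.eq_one_iff g
  set K : Subgroup (G ⧸ Nq) := Np.map π with hKdef
  set H : Subgroup (G ⧸ Nq) := (S : Subgroup G).map π with hHdef
  have hKn : K.Normal := hNpn.map π hπ
  have hKp : IsPGroup p K := hNpp.map π
  have hHq : IsPGroup q H := S.isPGroup'.map π
  have hK : K ≠ ⊥ := by
    obtain ⟨c, hc, hc1⟩ := (Subgroup.bot_or_exists_ne_one Np).resolve_left (hNpne hpN)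
    intro hbot
    have h1 : π c ∈ K := Subgroup.mem_map_of_mem π hc
    rw [hbot, Subgroup.mem_bot] at h1
    have h2 : c ∈ Nq := (hπ1 c).mp h1
    exact hc1 (Subgroup.disjoint_def.mp hdisjN hc h2)
  -- elements of `S` in `N` lie in `Nq`
  have hSN : ∀ u ∈ (S : Subgroup G), u ∈ N → u ∈ Nq := by
    intro u hu huN
    obtain ⟨j, hj⟩ := orderOf_eq_prime_pow_of_mem S.isPGroup' hu
    exact hNqmem u huN j hj
  have hfpf : ∀ h ∈ H, h ≠ 1 → K ⊓ Subgroup.centralizer {h} = ⊥ := by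
    rintro _ ⟨u, hu, rfl⟩ hu1
    rw [eq_bot_iff]
    rintro _ ⟨⟨k, hk, rfl⟩, hcent⟩
    have hcent' : π k * π u = π u * π k := Subgroup.mem_centralizer_singleton_iff.mp hcent
    have huN : u ∉ N := fun huN => hu1 ((hπ1 u).mpr (hSN u hu huN))
    have h1 : k * u * k⁻¹ * u⁻¹ ∈ Nq := by
      apply (hπ1 _).mp
      rw [map_mul, map_mul, map_mul, hcent', map_inv, map_inv]
      group
    have h2 : k * u * k⁻¹ * u⁻¹ ∈ Np := by
      have h : k * (u * k⁻¹ * u⁻¹) ∈ Np := Np.mul_mem hk (hNpn.conj_mem _ (Np.inv_mem hk) u)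
      have he : k * u * k⁻¹ * u⁻¹ = k * (u * k⁻¹ * u⁻¹) := by group
      rw [he]
      exact h
    have h3 : k * u * k⁻¹ * u⁻¹ = 1 := Subgroup.disjoint_def.mp hdisjN h2 h1
    have hcomm : Commute u k := by
      show u * k = k * u
      calc u * k = (k * u * k⁻¹ * u⁻¹)⁻¹ * (k * u) := by group
        _ = k * u := by rw [h3, inv_one, one_mul]
    obtain ⟨i, hi⟩ := orderOf_eq_prime_pow_of_mem S.isPGroup' hu
    obtain ⟨j, hj⟩ := orderOf_eq_prime_pow_of_mem hNpp hk
    have hcop : (orderOf u).Coprime (orderOf k) := by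
      rw [hi, hj]
      exact Nat.Coprime.pow _ _ ((Nat.coprime_primes hq hp).mpr hpq.symm)
    have hk1 : k = 1 := eq_one_of_commute_coprime N heq huN (hNpN hk) hcomm hcop
    rw [Subgroup.mem_bot, hk1, map_one]
  have hmain := cyclic_or_quaternion_of_fpf K H hK p q hpq hKp hHq hfpf
  -- the isomorphism `H ≃* Q'`
  have hHρ : H.map ρ = Q' := by
    rw [hHdef, Subgroup.map_map, hρπ]
    exact hSQ
  have hinj : Function.Injective (ρ.subgroupMap H) := by
    rw [injective_iff_map_eq_one]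
    rintro ⟨_, ⟨u, hu, rfl⟩⟩ hx
    have h1 : ρ (π u) = 1 := congrArg Subtype.val hx
    have huN : u ∈ N := (QuotientGroup.eq_one_iff u).mp h1
    apply Subtype.ext
    exact (hπ1 u).mpr (hSN u hu huN)
  let e : H ≃* (Q' : Subgroup (G ⧸ N)) :=
    (MulEquiv.ofBijective (ρ.subgroupMap H) ⟨hinj, ρ.subgroupMap_surjective H⟩).trans
      (MulEquiv.subgroupCongr hHρ)
  rcases hmain with hcyc | ⟨n, ⟨f⟩⟩
  · left
    exact e.isCyclic.mp hcyc
  · right
    exact ⟨n, ⟨e.symm.trans f⟩⟩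

/-- Let G be a finite group and N a proper non-trivial normal nilpotent subgroup whose order is not a prime power, such that for every x outside N all elements of the coset xN have the same order as x. Then N is the Fitting subgroup of G, and for every prime q every Sylow q-subgroup of G/N is cyclic or generalized quaternion. -/
theorem result {G : Type*} [Group G] [Finite G] (N : Subgroup G) [N.Normal] (hN1 : N ≠ ⊥) (hN2 : N ≠ ⊤)
    (heq : ∀ x : G, x ∉ N → ∀ n ∈ N, orderOf (x * n) = orderOf x)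
    (hnil : Group.IsNilpotent N) (hnpp : ¬ IsPrimePow (Nat.card N)) :
    N = Cfsg.fittingSubgroup G ∧
    ∀ (q : ℕ) [Fact q.Prime] (Q : Sylow q (G ⧸ N)), IsCyclic (Q : Subgroup (G ⧸ N)) ∨ ∃ n : ℕ, Nonempty ((Q : Subgroup (G ⧸ N)) ≃* QuaternionGroup (2 ^ n)) := by
  refine ⟨part1 N hN1 heq hnil hnpp, ?_⟩
  intro q _ Q
  exact part2 N hN1 heq hnil hnpp q Q

end Cfsg.Agent.S4155
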