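import Cfsg.Statements.S4156
import Mathlib

set_option autoImplicit false
open Cfsg

namespace Cfsg.Agent.S4156

section rep

variable (F : Type*) [Field F] (m : ℕ)

/-- The coordinate-sum functional. -/
noncomputable def sumFun : (Fin m → F) →ₗ[F] F := ∑ i, LinearMap.proj i

theorem sumFun_apply (w : Fin m → F) : sumFun F m w = ∑ i, w i := by
  simp [sumFun]

/-- The sum-zero hyperplane. -/
noncomputable def hyp : Submodule F (Fin m → F) := LinearMap.ker (sumFun F m)

theorem mem_hyp (w : Fin m → F) : w ∈ hyp F m ↔ ∑ i, w i = 0 := by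
  rw [hyp, LinearMap.mem_ker, sumFun_apply]

/-- The permutation action on functions. -/
noncomputable def permLin (σ : Equiv.Perm (Fin m)) : (Fin m → F) →ₗ[F] (Fin m → F) :=
  LinearMap.funLeft F F (⇑σ⁻¹)

theorem permLin_apply (σ : Equiv.Perm (Fin m)) (w : Fin m → F) (i : Fin m) :
    permLin F m σ w i = w (σ⁻¹ i) := rfl

theorem permLin_mem (σ : Equiv.Perm (Fin m)) (w : Fin m → F) (hw : w ∈ hyp F m) :
    permLin F m σ w ∈ hyp F m := by
  rw [mem_hyp] at *
  simp only [permLin_apply]
  rw [Equiv.sum_comp σ⁻¹ w]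
  exact hw

/-- The representation on the hyperplane. -/
noncomputable def hypRep : Equiv.Perm (Fin m) →* Module.End F (hyp F m) where
  toFun σ := (permLin F m σ).restrict (permLin_mem F m σ)
  map_one' := by
    ext v i
    simp [permLin_apply]
  map_mul' σ τ := by
    ext v i
    simp [permLin_apply, mul_inv_rev]

theorem hypRep_apply (σ : Equiv.Perm (Fin m)) (v : hyp F m) (i : Fin m) :
    ((hypRep F m σ v : hyp F m) : Fin m → F) i = (v : Fin m → F) (σ⁻¹ i) := rfl

theorem finrank_hyp (n : ℕ) : Module.finrank F (hyp F (n + 1)) = n := by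
  have h := LinearMap.finrank_range_add_finrank_ker (sumFun F (n + 1))
  have hsurj : LinearMap.range (sumFun F (n + 1)) = ⊤ := by
    rw [LinearMap.range_eq_top]
    intro c
    refine ⟨Pi.single 0 c, ?_⟩
    rw [sumFun_apply]
    simp
  rw [hsurj, finrank_top, Module.finrank_self, Module.finrank_fin_fun] at h
  unfold hyp
  omega

end rep

/-- Let n ≥ 5 and F a finite field. Then the projective special linear group PSL_n(F) contains a subgroup isomorphic to the alternating group of degree n + 1. -/
theorem result (n : ℕ) (hn : 5 ≤ n) (F : Type*) [Field F] [Finite F] :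
    ∃ f : alternatingGroup (Fin (n + 1)) →* Matrix.ProjectiveSpecialLinearGroup (Fin n) F, Function.Injective f := by
  classical
  have hsimple : IsSimpleGroup (alternatingGroup (Fin (n + 1))) :=
    alternatingGroup.isSimpleGroup (by rw [Nat.card_eq_fintype_card, Fintype.card_fin]; omega)
  have hnc : ¬ IsMulCommutative (alternatingGroup (Fin (n + 1))) := by
    rw [alternatingGroup.isMulCommutative_iff_card_le_three, Nat.card_eq_fintype_card,
      Fintype.card_fin]
    omega
  let ρ : alternatingGroup (Fin (n + 1)) →* (hyp F (n + 1) ≃ₗ[F] hyp F (n + 1)) :=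
    ((LinearMap.GeneralLinearGroup.generalLinearEquiv F (hyp F (n + 1))).toMonoidHom.comp
      (hypRep F (n + 1)).toHomUnits).comp (alternatingGroup (Fin (n + 1))).subtype
  have hρ : ∀ (σ : alternatingGroup (Fin (n + 1))) (v : hyp F (n + 1)) (i : Fin (n + 1)),
      ((ρ σ v : hyp F (n + 1)) : Fin (n + 1) → F) i =
        (v : Fin (n + 1) → F) ((σ : Equiv.Perm (Fin (n + 1)))⁻¹ i) := by
    intro σ v i
    rfl
  have hdet : ∀ σ : alternatingGroup (Fin (n + 1)), LinearEquiv.det (ρ σ) = 1 := by
    let d : alternatingGroup (Fin (n + 1)) →* Fˣ := LinearEquiv.det.comp ρ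
    have hker : d.ker = ⊤ := by
      rcases (d.normal_ker).eq_bot_or_eq_top with h | h
      · exfalso
        apply hnc
        have hinj : Function.Injective d := (MonoidHom.ker_eq_bot_iff d).mp h
        exact IsMulCommutative.of_comm (fun a b => hinj (by rw [map_mul, map_mul, mul_comm]))
      · exact h
    intro σ
    have : σ ∈ d.ker := by rw [hker]; trivial
    exact this
  let g' : alternatingGroup (Fin (n + 1)) →* SpecialLinearGroup F (hyp F (n + 1)) :=
    { toFun := fun σ => ⟨ρ σ, hdet σ⟩
      map_one' := Subtype.ext (map_one ρ)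
      map_mul' := fun σ τ => Subtype.ext (map_mul ρ σ τ) }
  -- g' is injective
  have hg'inj : Function.Injective g' := by
    rw [← MonoidHom.ker_eq_bot_iff]
    rcases (g'.normal_ker).eq_bot_or_eq_top with h | h
    · exact h
    · exfalso
      let i0 : Fin (n + 1) := ⟨0, by omega⟩
      let i1 : Fin (n + 1) := ⟨1, by omega⟩
      let i2 : Fin (n + 1) := ⟨2, by omega⟩
      have h01 : i0 ≠ i1 := by simp [i0, i1, Fin.ext_iff]
      have h02 : i0 ≠ i2 := by simp [i0, i2, Fin.ext_iff]
      have h12 : i1 ≠ i2 := by simp [i1, i2, Fin.ext_iff]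
      let σ0 : alternatingGroup (Fin (n + 1)) :=
        ⟨Equiv.swap i0 i1 * Equiv.swap i1 i2,
          Equiv.Perm.mul_mem_alternatingGroup_of_isSwap ⟨i0, i1, h01, rfl⟩ ⟨i1, i2, h12, rfl⟩⟩
      let w0 : Fin (n + 1) → F := Pi.single i0 1 - Pi.single i1 1
      have hw0 : w0 ∈ hyp F (n + 1) := by
        rw [mem_hyp]
        simp [w0, Finset.sum_sub_distrib]
      let v0 : hyp F (n + 1) := ⟨w0, hw0⟩
      have hσ0 : σ0 ∈ g'.ker := by rw [h]; trivial
      have h1 : g' σ0 = 1 := hσ0
      have h2 : ρ σ0 = 1 := congrArg Subtype.val h1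
      have h3 : ρ σ0 v0 = v0 := by rw [h2]; rfl
      have h4 := hρ σ0 v0 i2
      rw [h3] at h4
      have h5 : (σ0 : Equiv.Perm (Fin (n + 1)))⁻¹ i2 = i1 := by
        rw [Equiv.Perm.inv_eq_iff_eq]
        change i2 = (Equiv.swap i0 i1 * Equiv.swap i1 i2) i1
        rw [Equiv.Perm.mul_apply, Equiv.swap_apply_left,
          Equiv.swap_apply_of_ne_of_ne h02.symm h12.symm]
      rw [h5] at h4
      have h6 : (v0 : Fin (n + 1) → F) i2 = 0 := by
        change w0 i2 = 0
        simp [w0, Pi.single_apply, h02.symm, h12.symm]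
      have h7 : (v0 : Fin (n + 1) → F) i1 = -1 := by
        change w0 i1 = -1
        simp [w0, Pi.single_apply, h01.symm]
      rw [h6, h7] at h4
      have : (1 : F) = 0 := by
        have := congrArg Neg.neg h4
        simpa using this.symm
      exact one_ne_zero this
  let b : Module.Basis (Fin n) F (hyp F (n + 1)) :=
    Module.finBasisOfFinrankEq F (hyp F (n + 1)) (finrank_hyp F n)
  let e : SpecialLinearGroup F (hyp F (n + 1)) ≃* Matrix.SpecialLinearGroup (Fin n) F :=
    (Matrix.SpecialLinearGroup.toLin_equiv b).symm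
  let g : alternatingGroup (Fin (n + 1)) →* Matrix.SpecialLinearGroup (Fin n) F :=
    e.toMonoidHom.comp g'
  have hginj : Function.Injective g := e.injective.comp hg'inj
  let f : alternatingGroup (Fin (n + 1)) →* Matrix.ProjectiveSpecialLinearGroup (Fin n) F :=
    (QuotientGroup.mk' (Subgroup.center (Matrix.SpecialLinearGroup (Fin n) F))).comp g
  refine ⟨f, ?_⟩
  rw [← MonoidHom.ker_eq_bot_iff]
  rcases (f.normal_ker).eq_bot_or_eq_top with h | h
  · exact h
  · exfalso
    apply hnc
    have hcent : ∀ σ : alternatingGroup (Fin (n + 1)),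
        g σ ∈ Subgroup.center (Matrix.SpecialLinearGroup (Fin n) F) := by
      intro σ
      have : σ ∈ f.ker := by rw [h]; trivial
      exact (QuotientGroup.eq_one_iff (g σ)).mp this
    refine IsMulCommutative.of_comm (fun a b => hginj ?_)
    rw [map_mul, map_mul]
    exact (Subgroup.mem_center_iff.mp (hcent b) (g a))

end Cfsg.Agent.S4156
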