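import Cfsg.Statements.S4157
import Cfsg.Agent.Lib.Helper69.KulStep
import Cfsg.Agent.Lib.Helper69.CycMax2
import Cfsg.Agent.Lib.Helper69.MaxClassEven

set_option autoImplicit false
open Cfsg

namespace Cfsg.Agent.S4157

open Cfsg.Agent.Lib.Helper75.SubCount Cfsg.Agent.Lib.Helper69.KulStep
  Cfsg.Agent.Lib.Helper69.CycMax2 Cfsg.Agent.Lib.Helper69.MaxClassEven

universe u

/-- a cyclic group of order at least 8 does not have class `n - 2` where `n ≥ 4`. -/
theorem not_class_of_cyclic {M : Type u} [Group M] (hc : IsCyclic M) (j : ℕ) (hj : 2 ≤ j) :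
    Group.nilpotencyClass M ≠ j := by
  have h1 : Group.nilpotencyClass M ≤ 1 :=
    Cfsg.Agent.Lib.Helper78.nilpotencyClass_le_one_of_comm
      (fun a b => (IsCyclic.isMulCommutative (α := M)).is_comm.comm a b)
  omega

theorem card_bad_eq {G : Type u} [Group G] [Finite G] (n : ℕ) (hn : 4 ≤ n) :
    Nat.card {M : Subgroup G // M.index = 2 ∧
        (IsCyclic M ∨ Group.nilpotencyClass ↥M = n - 2)} =
      Nat.card {M : Subgroup G // M.index = 2 ∧ IsCyclic M} +
        Nat.card {M : Subgroup G // M.index = 2 ∧ Group.nilpotencyClass ↥M = n - 2} := by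
  rw [card_subtype_split (fun M : Subgroup G => M.index = 2 ∧
    (IsCyclic M ∨ Group.nilpotencyClass ↥M = n - 2)) (fun M => IsCyclic M)]
  congr 1
  · apply Nat.card_congr
    apply Equiv.subtypeEquivRight
    intro M
    constructor
    · rintro ⟨⟨h1, _⟩, h2⟩; exact ⟨h1, h2⟩
    · rintro ⟨h1, h2⟩; exact ⟨⟨h1, Or.inl h2⟩, h2⟩
  · apply Nat.card_congr
    apply Equiv.subtypeEquivRight
    intro M
    constructor
    · rintro ⟨⟨h1, h2⟩, h3⟩
      rcases h2 with h2 | h2
      · exact absurd h2 h3
      · exact ⟨h1, h2⟩
    · rintro ⟨h1, h2⟩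
      exact ⟨⟨h1, Or.inr h2⟩, fun hc => not_class_of_cyclic hc (n - 2) (by omega) h2⟩

theorem two_main : ∀ (n : ℕ) (G : Type u) [Group G] [Finite G], Nat.card G = 2 ^ n →
    (¬ IsCyclic G → Group.nilpotencyClass G ≠ n - 1 →
      ∀ a, 0 < a → a < n → sN 2 a G ≡ 3 [MOD 4]) ∧
    ((IsCyclic G ∨ Group.nilpotencyClass G = n - 1) →
      ∀ a, 0 < a → a + 2 ≤ n → sN 2 a G ≡ 1 [MOD 4]) := by
  intro n
  induction n using Nat.strong_induction_on with
  | _ n ih =>
    intro G _ _ hcard
    haveI : Fact (Nat.Prime 2) := ⟨Nat.prime_two⟩
    have hcycM : ∀ (a : ℕ) (M : Subgroup G), a + 2 ≤ n → M.index = 2 → IsCyclic M →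
        sN 2 a ↥M ≡ 1 [MOD 4] := by
      intro a M han hM hb
      have hMcard := card_index_prime 2 n hcard (by omega) M hM
      have : sN 2 a ↥M = 1 := by
        haveI := hb
        apply sN_of_isCyclic
        rw [hMcard]; exact pow_dvd_pow 2 (by omega)
      rw [this]
    have htopM : ∀ (a : ℕ) (M : Subgroup G), a + 2 = n → M.index = 2 → ¬ IsCyclic M →
        sN 2 a ↥M ≡ 3 [MOD 4] := by
      intro a M han hM hb
      have hMcard := card_index_prime 2 n hcard (by omega) M hM
      have := kulakoff_top 2 (n - 1) hMcard hb a (by omega)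
      simpa using this
    constructor
    · intro hnc hcl a ha han
      rcases Nat.lt_or_ge (a + 1) n with h | h
      swap
      · have := kulakoff_top 2 n hcard hnc a (by omega)
        simpa using this
      rcases Nat.lt_or_ge (a + 2) n with h' | h'
      swap
      · have hstep := two_step n G hcard hnc a ha (by omega) (fun M => IsCyclic M)
          (fun M hM hb => hcycM a M (by omega) hM hb)
          (fun M hM hb => htopM a M (by omega) hM hb)
        obtain ⟨t, ht⟩ := even_card_cyclic_max n (by omega) hcard hnc hcl
        rw [ht] at hstep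
        unfold Nat.ModEq at hstep ⊢
        omega
      · have hstep := two_step n G hcard hnc a ha (by omega)
          (fun M => IsCyclic M ∨ Group.nilpotencyClass ↥M = n - 2)
          (fun M hM hb => by
            have hMcard := card_index_prime 2 n hcard (by omega) M hM
            refine (ih (n - 1) (by omega) ↥M hMcard).2 ?_ a ha (by omega)
            rcases hb with hb | hb
            · exact Or.inl hb
            · right; rw [hb]; omega)
          (fun M hM hb => by
            have hMcard := card_index_prime 2 n hcard (by omega) M hM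
            push Not at hb
            refine (ih (n - 1) (by omega) ↥M hMcard).1 hb.1 ?_ a ha (by omega)
            intro h; apply hb.2; rw [h]; omega)
        rw [card_bad_eq n (by omega)] at hstep
        obtain ⟨t, ht⟩ := even_card_cyclic_max n (by omega) hcard hnc hcl
        obtain ⟨t', ht'⟩ := even_card_maxclass_max n (by omega) hcard hcl
        rw [ht, ht'] at hstep
        unfold Nat.ModEq at hstep ⊢
        omega
    · intro hbad a ha han
      by_cases hcyc : IsCyclic G
      · have : sN 2 a G = 1 := by
          apply sN_of_isCyclic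
          rw [hcard]; exact pow_dvd_pow 2 (by omega)
        rw [this]
      have hmc : Group.nilpotencyClass G = n - 1 := by
        rcases hbad with h | h
        · exact absurd h hcyc
        · exact h
      rcases Nat.lt_or_ge (a + 2) n with h' | h'
      swap
      · have hstep := two_step n G hcard hcyc a ha han (fun M => IsCyclic M)
          (fun M hM hb => hcycM a M (by omega) hM hb)
          (fun M hM hb => htopM a M (by omega) hM hb)
        obtain ⟨t, ht⟩ := odd_card_cyclic_max n (by omega) hcard hmc
        rw [ht] at hstep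
        unfold Nat.ModEq at hstep ⊢
        omega
      · have hstep := two_step n G hcard hcyc a ha han (fun _ => True)
          (fun M hM _ => by
            have hMcard := card_index_prime 2 n hcard (by omega) M hM
            refine (ih (n - 1) (by omega) ↥M hMcard).2 ?_ a ha (by omega)
            rcases max_of_maxclass n (by omega) hcard hmc M hM with h | h
            · exact Or.inl h
            · right; rw [h]; omega)
          (fun M hM hb => absurd trivial hb)
        have hr : Nat.card {M : Subgroup G // M.index = 2} ≡ 3 [MOD 4] :=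
          card_max_modEq 2 (IsPGroup.of_card hcard) hcyc
        have e : {M : Subgroup G // M.index = 2 ∧ True} ≃ {M : Subgroup G // M.index = 2} :=
          Equiv.subtypeEquivRight (fun M => by simp)
        rw [Nat.card_congr e] at hstep
        unfold Nat.ModEq at hstep hr ⊢
        omega

/-- Let G be a finite p-group of order p^m that is not cyclic and, when p = 2, not of maximal class (nilpotency class m − 1). Then for every 1 ≤ k < m the number of subgroups of G of order p^k is congruent to 1 + p modulo p². -/
theorem result {G : Type*} [Group G] [Finite G] {p : ℕ} [Fact p.Prime] (m : ℕ)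
    (hG : Nat.card G = p ^ m) (hnc : ¬ IsCyclic G) (h2 : p = 2 → Group.nilpotencyClass G ≠ m - 1)
    (k : ℕ) (hk1 : 1 ≤ k) (hk2 : k < m) :
    Nat.card {H : Subgroup G // Nat.card H = p ^ k} ≡ 1 + p [MOD p ^ 2] := by
  by_cases hp2 : p = 2
  · subst hp2
    have := (two_main m G hG).1 hnc (h2 rfl) k hk1 hk2
    simpa [sN] using this
  · exact kulakoff p hp2 m G hG hnc k hk1 hk2

end Cfsg.Agent.S4157
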