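import Cfsg.Statements.S4168
import Mathlib

set_option autoImplicit false
open Cfsg

namespace Cfsg.Agent.S4168

/-- Let L be a finite quasisimple group (perfect with L/Z(L) simple). Then every prime dividing the order of the centre Z(L) also divides the order of L/Z(L). -/
theorem result {L : Type*} [Group L] [Finite L] (hL : Cfsg.IsQuasisimple L)
    (p : ℕ) (hp : p.Prime) (hdiv : p ∣ Nat.card (Subgroup.center L)) : p ∣ (Subgroup.center L).index := by
  obtain ⟨hperf, -⟩ := hL
  by_contra hnd
  have : Fact p.Prime := ⟨hp⟩
  let P : Sylow p L := default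
  have hPZ : (P : Subgroup L) ≤ Subgroup.center L := by
    intro g hg
    obtain ⟨k, hk⟩ := (IsPGroup.iff_orderOf.mp P.isPGroup') ⟨g, hg⟩
    have hk' : orderOf g = p ^ k := by
      rw [← hk]; exact (Subgroup.orderOf_mk g hg).symm
    have h1 : orderOf (QuotientGroup.mk' (Subgroup.center L) g) ∣ p ^ k := by
      rw [← hk']; exact orderOf_map_dvd _ g
    have h2 : orderOf (QuotientGroup.mk' (Subgroup.center L) g) ∣ (Subgroup.center L).index := by
      rw [Subgroup.index_eq_card]; exact orderOf_dvd_natCard _
    have hcop : Nat.Coprime (p ^ k) (Subgroup.center L).index :=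
      Nat.Coprime.pow_left k ((Nat.Prime.coprime_iff_not_dvd hp).mpr hnd)
    have h3 : orderOf (QuotientGroup.mk' (Subgroup.center L) g) = 1 :=
      Nat.eq_one_of_dvd_coprimes hcop h1 h2
    rw [orderOf_eq_one_iff] at h3
    exact (QuotientGroup.eq_one_iff g).mp h3
  have hP : Subgroup.normalizer (P : Set L) ≤ Subgroup.centralizer (P : Set L) := by
    intro g _
    rw [Subgroup.mem_centralizer_iff]
    intro h hh
    have := Subgroup.mem_center_iff.mp (hPZ hh) g
    exact this.symm
  have hcompl := MonoidHom.ker_transferSylow_isComplement' P hP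
  have hker : (MonoidHom.transferSylow P hP).ker = ⊤ := by
    rw [eq_top_iff, ← hperf.commutator_eq_top, commutator_def, Subgroup.commutator_le]
    intro a _ b _
    rw [MonoidHom.mem_ker, commutatorElement_def, map_mul, map_mul, map_mul, map_inv, map_inv]
    set x := MonoidHom.transferSylow P hP a
    set y := MonoidHom.transferSylow P hP b
    have hxy : x * y = y * x := by
      apply Subtype.ext
      have := Subgroup.mem_center_iff.mp (hPZ x.2) y.1
      exact this.symm
    rw [hxy]; group
  rw [hker] at hcompl
  have hPbot : (P : Subgroup L) = ⊥ := Subgroup.isComplement'_top_left.mp hcompl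
  exact P.ne_bot_of_dvd_card (hdiv.trans (Subgroup.card_subgroup_dvd_card _)) hPbot

end Cfsg.Agent.S4168
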