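import Cfsg.Statements.S4169
import Cfsg.Agent.Lib.Helper74.SmallClasses
import Cfsg.Agent.S0015

set_option autoImplicit false
open Cfsg

namespace Cfsg.Agent.S4169

/-- Let P be a finite p-group whose conjugacy classes have exactly two sizes (1 and one other value). Then P has nilpotency class at most 3. -/
theorem result {P : Type*} [Group P] [Finite P] {p : ℕ} [Fact p.Prime] (hP : IsPGroup p P)
    (m : ℕ) (hm : 1 < m) (h : ∀ x : P, (Subgroup.centralizer ({x} : Set P)).index = 1 ∨ (Subgroup.centralizer ({x} : Set P)).index = m) :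
    upperCentralSeries P 3 = ⊤ := by
  show Subgroup.upperCentralSeries P 3 = ⊤
  have hnil : Group.IsNilpotent P := hP.isNilpotent
  -- a maximal normal abelian subgroup
  obtain ⟨A, hAmax⟩ := (Set.toFinite {N : Subgroup P | N.Normal ∧ IsMulCommutative N}).exists_maximal
    ⟨⊥, Subgroup.normal_bot, inferInstance⟩
  have hAn : A.Normal := hAmax.prop.1
  have hAc : IsMulCommutative A := hAmax.prop.2
  have hCA : Subgroup.centralizer (A : Set P) = A := by
    apply Cfsg.Agent.S0015.result A
    intro M hMn hMc hAM
    exact le_antisymm (hAmax.le_of_ge ⟨hMn, hMc⟩ hAM) hAM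
  have hA' : ∀ u ∈ A, ∀ v ∈ A, u * v = v * u := by
    intro u hu v hv
    have := hAc.is_comm.comm ⟨u, hu⟩ ⟨v, hv⟩
    exact congrArg Subtype.val this
  have hmin : ∀ g : P, 1 < (Subgroup.centralizer ({g} : Set P)).index →
      m ≤ (Subgroup.centralizer ({g} : Set P)).index := by
    intro g hg
    rcases h g with h1 | h1
    · omega
    · omega
  apply Cfsg.Agent.Lib.Helper74.upperCentralSeries_three_eq_top_of_triple_top
  intro u v w
  have hall : ∀ g : P, g ∈ Subgroup.closure {x : P | (Subgroup.centralizer ({x} : Set P)).index = 1 ∨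
      (Subgroup.centralizer ({x} : Set P)).index = m} := fun g => Subgroup.subset_closure (h g)
  exact Cfsg.Agent.Lib.Helper74.triple_commutator_mem_center A hA' hCA m hmin u v w
    (hall u) (hall v) (hall w)

end Cfsg.Agent.S4169
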