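import Cfsg.Statements.S4172
import Cfsg.Agent.Lib.Helper58.TG5
import Cfsg.Agent.Lib.Helper28.FStar

set_option autoImplicit false
open Cfsg

namespace Cfsg.Agent.S4172

/-- Let p be a prime and G a finite group with a non-commutative Sylow p-subgroup P whose Frattini subgroup has index p² in P (P is generated by two elements). Suppose G has no nontrivial normal subgroup of order prime to p and the Frattini subgroup of P contains no nontrivial normal subgroup of G. Then the generalized Fitting subgroup F*(G) is the unique minimal normal subgroup of G, the image of P in G/F*(G) is cyclic, and if F*(G) is not commutative then P permutes the components of G transitively by conjugation. -/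
theorem result {G : Type*} [Group G] [Finite G] (p : ℕ) [Fact p.Prime] (P : Sylow p G) (hna : ¬ IsMulCommutative (P : Subgroup G)) (hgen : (frattini ↥(P : Subgroup G)).index = p ^ 2) (hcore : Cfsg.pPrimeCore p G = ⊥) (hfrat : ((frattini ↥(P : Subgroup G)).map (P : Subgroup G).subtype).normalCore = ⊥) [hFn : (Cfsg.generalizedFittingSubgroup G).Normal] :
    (Cfsg.generalizedFittingSubgroup G ≠ ⊥ ∧ ∀ K : Subgroup G, K.Normal → K ≠ ⊥ → Cfsg.generalizedFittingSubgroup G ≤ K) ∧
      IsCyclic ↥((P : Subgroup G).map (QuotientGroup.mk' (Cfsg.generalizedFittingSubgroup G))) ∧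
      (¬ IsMulCommutative (Cfsg.generalizedFittingSubgroup G) → ∀ K L : Subgroup G, Cfsg.IsComponent K → Cfsg.IsComponent L → ∃ x ∈ (P : Subgroup G), L = K.map (MulAut.conj x).toMonoidHom) := by
  obtain ⟨N, hNn, hN, hmin⟩ :=
    Cfsg.Agent.Lib.Helper58.TG.exists_unique_min_normal P hna hgen hcore hfrat
  have hFne : Cfsg.generalizedFittingSubgroup G ≠ ⊥ := by
    intro h
    have h1 := Cfsg.Agent.Lib.Helper28.centralizer_genFitting_le (G := G)
    rw [h] at h1
    apply hN
    rw [eq_bot_iff]
    refine le_trans ?_ h1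
    intro n _
    rw [Subgroup.mem_centralizer_iff]
    intro g hg
    have hg1 : g = 1 := by simpa using hg
    rw [hg1, one_mul, mul_one]
  have hNF : N ≤ Cfsg.generalizedFittingSubgroup G := hmin _ hFn hFne
  have hFN : Cfsg.generalizedFittingSubgroup G ≤ N := by
    by_cases hc : IsMulCommutative ↥N
    · exact Cfsg.Agent.Lib.Helper58.TG.genFitting_le_of_comm P hgen hcore hfrat N hN hmin
    · exact Cfsg.Agent.Lib.Helper58.TG.genFitting_le_of_not_comm N hN hmin hc
  have hFeq : Cfsg.generalizedFittingSubgroup G = N := le_antisymm hFN hNF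
  refine ⟨⟨hFne, fun K hKn hK => hFN.trans (hmin K hKn hK)⟩, ?_, ?_⟩
  · obtain ⟨x, _, hdec⟩ := Cfsg.Agent.Lib.Helper58.TG.exists_gen P hgen
      (Cfsg.generalizedFittingSubgroup G)
      (by rw [Subgroup.normalizer_eq_top]; exact le_top)
      (Cfsg.Agent.Lib.Helper58.TG.not_inf_le_frat P hcore hfrat _ hFne)
    exact Cfsg.Agent.Lib.Helper58.TG.isCyclic_map_mk' P _ hdec
  · intro hnc K L hK hL
    have hNc : ¬ IsMulCommutative ↥N := by
      intro h
      apply hnc
      rw [hFeq]
      exact h
    exact Cfsg.Agent.Lib.Helper58.TG.exists_conj_of_fitting_eq_bot P hna hgen hcore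
      (Cfsg.Agent.Lib.Helper58.TG.fitting_eq_bot_of_not_comm N hN hmin hNc) hK hL

end Cfsg.Agent.S4172
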