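import Cfsg.Statements.S4177
import Mathlib
import Cfsg.Agent.Lib.Helper74.CoprimeOrbit

set_option autoImplicit false
open Cfsg

namespace Cfsg.Agent.S4177

open Cfsg.Agent.Lib.Helper74

/-- Vectors fixed by a subgroup `K` transitive on the (spanning) orbit of `a` are multiples of the
orbit sum. -/
theorem key {k V H : Type*} [Field k] [AddCommGroup V] [Module k V] [Group H] [Fintype H]
    (hchar : ¬ ringChar k ∣ Nat.card H) (ρ : Representation k H V) (a : V)
    (hspan : Submodule.span k {u : V | ∃ h : H, ρ h a = u} = ⊤)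
    (K : Subgroup H) (htrans : ∀ h : H, ∃ x ∈ K, ρ x a = ρ h a)
    (v : V) (hv : ∀ x ∈ K, ρ x v = v) : ∃ c : k, v = c • (∑ h : H, ρ h a) := by
  classical
  have hHne : (Nat.card H : k) ≠ 0 := fun h0 => hchar ((ringChar.spec k _).mp h0)
  have hKne : (Nat.card K : k) ≠ 0 := fun h0 =>
    hchar (((ringChar.spec k _).mp h0).trans (Subgroup.card_subgroup_dvd_card K))
  set tK : V := ∑ x : K, ρ x.1 a with htK
  set tH : V := ∑ h : H, ρ h a with htH
  -- (i)
  have h_i : ∀ h : H, ∑ x : K, ρ x.1 (ρ h a) = tK := by
    intro h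
    obtain ⟨y, hy, hya⟩ := htrans h
    rw [← hya, htK]
    refine Fintype.sum_equiv (Equiv.mulRight (⟨y, hy⟩ : K)) _ _ ?_
    intro x
    simp [map_mul]
  -- (ii)
  have h_ii : ∀ w : V, ∃ c : k, ∑ x : K, ρ x.1 w = c • tK := by
    intro w
    have hw : w ∈ Submodule.span k {u : V | ∃ h : H, ρ h a = u} := by rw [hspan]; trivial
    induction hw using Submodule.span_induction with
    | mem u hu =>
      obtain ⟨h, rfl⟩ := hu
      exact ⟨1, by rw [h_i h, one_smul]⟩
    | zero => exact ⟨0, by simp⟩
    | add u w _ _ hu hw =>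
      obtain ⟨c1, h1⟩ := hu
      obtain ⟨c2, h2⟩ := hw
      refine ⟨c1 + c2, ?_⟩
      simp only [map_add, Finset.sum_add_distrib, h1, h2, add_smul]
    | smul r u _ hu =>
      obtain ⟨c1, h1⟩ := hu
      refine ⟨r * c1, ?_⟩
      simp only [map_smul, ← Finset.smul_sum, h1, mul_smul]
  -- (iii)
  obtain ⟨c, hc⟩ := h_ii v
  have h_iii : (Nat.card K : k) • v = c • tK := by
    rw [← hc]
    have : ∑ x : K, ρ x.1 v = ∑ _x : K, v := Finset.sum_congr rfl (fun x _ => hv x.1 x.2)
    rw [this, Finset.sum_const, Finset.card_univ, Nat.card_eq_fintype_card, Nat.cast_smul_eq_nsmul]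
  -- (iv)
  have h_iv : (Nat.card K : k) • tH = (Nat.card H : k) • tK := by
    have e1 : ∑ h : H, ∑ x : K, ρ x.1 (ρ h a) = (Nat.card H : k) • tK := by
      rw [Finset.sum_congr rfl (fun h _ => h_i h), Finset.sum_const, Finset.card_univ,
        Nat.card_eq_fintype_card, Nat.cast_smul_eq_nsmul]
    have e2 : ∑ h : H, ∑ x : K, ρ x.1 (ρ h a) = (Nat.card K : k) • tH := by
      rw [Finset.sum_comm]
      have : ∀ x : K, ∑ h : H, ρ x.1 (ρ h a) = tH := by
        intro x
        rw [htH]
        refine Fintype.sum_equiv (Equiv.mulLeft x.1) _ _ ?_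
        intro h
        simp [map_mul]
      rw [Finset.sum_congr rfl (fun x _ => this x), Finset.sum_const, Finset.card_univ,
        Nat.card_eq_fintype_card, Nat.cast_smul_eq_nsmul]
    rw [← e1, e2]
  refine ⟨c * (Nat.card K : k)⁻¹ * (Nat.card K : k) * (Nat.card H : k)⁻¹, ?_⟩
  have hv' : v = (Nat.card K : k)⁻¹ • (c • tK) := by
    rw [← h_iii, smul_smul, inv_mul_cancel₀ hKne, one_smul]
  have htK' : tK = (Nat.card H : k)⁻¹ • ((Nat.card K : k) • tH) := by
    rw [h_iv, smul_smul, inv_mul_cancel₀ hHne, one_smul]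
  rw [hv', htK']
  simp only [smul_smul]
  congr 1
  ring

/-- Let k be a field whose characteristic does not divide the order of the finite group H (for instance a field of characteristic zero), and ρ a k-linear representation of H on V. Let a be a vector whose H-orbit spans V. Then the space of H-fixed vectors has dimension at most 1, and every vector b whose H-orbit has size coprime to the size of the orbit of a is fixed by H. -/
theorem result {k V H : Type*} [Field k] [AddCommGroup V] [Module k V] [Group H] [Finite H]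
    (hchar : ¬ ringChar k ∣ Nat.card H) (ρ : Representation k H V) (a : V)
    (hspan : Submodule.span k {u : V | ∃ h : H, ρ h a = u} = ⊤) :
    Module.finrank k ρ.invariants ≤ 1 ∧
    ∀ b : V, (Nat.card {u : V | ∃ h : H, ρ h a = u}).Coprime (Nat.card {u : V | ∃ h : H, ρ h b = u}) → ∀ h : H, ρ h b = b := by
  classical
  let _ : Fintype H := Fintype.ofFinite H
  set tH : V := ∑ h : H, ρ h a with htH
  have htH_fix : ∀ g : H, ρ g tH = tH := by
    intro g
    rw [htH, map_sum]
    refine Fintype.sum_equiv (Equiv.mulLeft g) _ _ ?_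
    intro h
    simp [map_mul]
  constructor
  · have hle : ρ.invariants ≤ Submodule.span k {tH} := by
      intro v hv
      have hv' : ∀ g : H, ρ g v = v := (Representation.mem_invariants ρ v).mp hv
      obtain ⟨c, hc⟩ := key hchar ρ a hspan ⊤ (fun h => ⟨h, Subgroup.mem_top h, rfl⟩) v
        (fun x _ => hv' x)
      rw [hc]
      exact Submodule.smul_mem _ _ (Submodule.mem_span_singleton_self _)
    calc Module.finrank k ρ.invariants ≤ Module.finrank k (Submodule.span k {tH}) :=
          Submodule.finrank_mono hle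
      _ ≤ 1 := by
          have := finrank_span_le_card (R := k) ({tH} : Set V)
          simpa using this
  · intro b hcop h
    let _ : MulAction H V := MulAction.compHom V (ρ : H →* (V →ₗ[k] V))
    have hsmul : ∀ (g : H) (w : V), g • w = ρ g w := fun g w => rfl
    let K : Subgroup H := MulAction.stabilizer H b
    have hKmem : ∀ x : H, x ∈ K ↔ ρ x b = b := fun x => Iff.rfl
    have horb : ∀ w : V, Nat.card {u : V | ∃ h : H, ρ h w = u} = (MulAction.orbit H w).ncard := by
      intro w
      rw [Nat.card_coe_set_eq]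
      rfl
    have hidx : K.index = (MulAction.orbit H b).ncard := MulAction.index_stabilizer H b
    rw [horb a, horb b, ← hidx] at hcop
    have htrans : ∀ h : H, ∃ x ∈ K, ρ x a = ρ h a := fun h =>
      exists_mem_smul_eq_of_coprime a K hcop h
    obtain ⟨c, hc⟩ := key hchar ρ a hspan K htrans b (fun x hx => (hKmem x).mp hx)
    rw [hc, map_smul, htH_fix]

end Cfsg.Agent.S4177
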