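import Cfsg.Statements.S4178
import Mathlib

set_option autoImplicit false
open Cfsg

namespace Cfsg.Agent.S4178

theorem index_le_ncard_of_orbit_subset {G Ω : Type*} [Group G] [MulAction G Ω] (R : Subgroup G)
    (x : Ω) (T : Set Ω) (hT : T.Finite)
    (hstab : MulAction.stabilizer G x ≤ R) (horb : MulAction.orbit G x ⊆ T) :
    R.index ≤ T.ncard := by
  have h1 : R.index ∣ (MulAction.stabilizer G x).index := Subgroup.index_dvd_of_le hstab
  rw [MulAction.index_stabilizer] at h1
  have h2 : (MulAction.orbit G x).ncard ≤ T.ncard := Set.ncard_le_ncard horb hT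
  have h3 : 0 < (MulAction.orbit G x).ncard :=
    (Set.ncard_pos (hT.subset horb)).mpr ⟨x, MulAction.mem_orbit_self x⟩
  exact (Nat.le_of_dvd h3 h1).trans h2

theorem ncard_submodule_diff_zero {F U : Type*} [Field F] [Fintype F] [AddCommGroup U] [Module F U]
    [FiniteDimensional F U] (S : Submodule F U) :
    ((S : Set U) \ {0}).ncard = Fintype.card F ^ Module.finrank F S - 1 := by
  have hfin : Finite U := Module.finite_of_finite F
  rw [Set.ncard_diff_singleton_of_mem S.zero_mem, ← Nat.card_coe_set_eq]
  have : Nat.card (S : Set U) = Nat.card S := rfl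
  rw [this, Module.natCard_eq_pow_finrank (K := F), Nat.card_eq_fintype_card]

/-- Let F be a finite field with q elements, V a non-zero finite-dimensional F-space of dimension d, H a group of invertible linear maps of V, and R the subgroup of H generated by the elements of H that fix some non-zero vector (have eigenvalue 1). Then the index of R in H is at most q^d − 1; and if H leaves invariant some proper non-zero subspace, the index is at most q^(d/2) − 1. -/
theorem result {F V : Type*} [Field F] [Fintype F] [AddCommGroup V] [Module F V] [FiniteDimensional F V] [Nontrivial V]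
    (H : Subgroup (V ≃ₗ[F] V)) :
    (Subgroup.closure {h : ↥H | ∃ v : V, v ≠ 0 ∧ (h : V ≃ₗ[F] V) v = v}).index ≤ Fintype.card F ^ Module.finrank F V - 1 ∧
    ((∃ W : Submodule F V, W ≠ ⊥ ∧ W ≠ ⊤ ∧ ∀ h ∈ H, ∀ w ∈ W, h w ∈ W) →
      ((Subgroup.closure {h : ↥H | ∃ v : V, v ≠ 0 ∧ (h : V ≃ₗ[F] V) v = v}).index : ℝ) ≤ Real.sqrt ((Fintype.card F : ℝ) ^ Module.finrank F V) - 1) := by
  classical
  have hfinV : Finite V := Module.finite_of_finite F
  set R := Subgroup.closure {h : ↥H | ∃ v : V, v ≠ 0 ∧ (h : V ≃ₗ[F] V) v = v} with hR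
  have hq1 : 1 ≤ Fintype.card F := Fintype.card_pos
  -- primal orbit bound
  have hprimal : ∀ (S : Submodule F V), S ≠ ⊥ → (∀ h ∈ H, ∀ w ∈ S, h w ∈ S) →
      R.index ≤ Fintype.card F ^ Module.finrank F S - 1 := by
    intro S hS hinv
    obtain ⟨v, hvS, hv0⟩ := Submodule.exists_mem_ne_zero_of_ne_bot hS
    rw [← ncard_submodule_diff_zero S]
    apply index_le_ncard_of_orbit_subset R v _ (Set.toFinite _)
    · intro h hh
      apply Subgroup.subset_closure
      exact ⟨v, hv0, hh⟩
    · rintro _ ⟨h, rfl⟩
      refine ⟨hinv h.1 h.2 v hvS, ?_⟩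
      rw [Set.mem_singleton_iff]
      intro h0
      apply hv0
      have : (h : V ≃ₗ[F] V) v = 0 := h0
      exact (LinearEquiv.map_eq_zero_iff _).mp this
  constructor
  · have := hprimal ⊤ top_ne_bot (fun _ _ _ _ => trivial)
    rwa [finrank_top] at this
  · rintro ⟨W, hWbot, hWtop, hWinv⟩
    -- suffices: index + 1 ≤ q^e with 2e ≤ d
    have hsuff : ∀ e : ℕ, 2 * e ≤ Module.finrank F V → R.index ≤ Fintype.card F ^ e - 1 →
        (R.index : ℝ) ≤ Real.sqrt ((Fintype.card F : ℝ) ^ Module.finrank F V) - 1 := by
      intro e he hidx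
      have hqe : 1 ≤ Fintype.card F ^ e := Nat.one_le_pow _ _ hq1
      have h1 : R.index + 1 ≤ Fintype.card F ^ e := by omega
      have h2 : (R.index + 1) ^ 2 ≤ Fintype.card F ^ Module.finrank F V := by
        calc (R.index + 1) ^ 2 ≤ (Fintype.card F ^ e) ^ 2 := Nat.pow_le_pow_left h1 2
          _ = Fintype.card F ^ (2 * e) := by rw [← pow_mul, mul_comm]
          _ ≤ Fintype.card F ^ Module.finrank F V := Nat.pow_le_pow_right hq1 he
      have h3 : ((R.index : ℝ) + 1) ^ 2 ≤ (Fintype.card F : ℝ) ^ Module.finrank F V := by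
        exact_mod_cast h2
      have h4 : (R.index : ℝ) + 1 ≤ Real.sqrt ((Fintype.card F : ℝ) ^ Module.finrank F V) :=
        Real.le_sqrt_of_sq_le h3
      linarith
    have hdim := Subspace.finrank_add_finrank_dualAnnihilator_eq W
    by_cases hcase : 2 * Module.finrank F W ≤ Module.finrank F V
    · exact hsuff _ hcase (hprimal W hWbot hWinv)
    · -- dual case
      push Not at hcase
      have hW0 : 0 < Module.finrank F W.dualAnnihilator := by
        have hlt : Module.finrank F W < Module.finrank F V := Submodule.finrank_lt hWtop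
        omega
      have he : 2 * Module.finrank F W.dualAnnihilator ≤ Module.finrank F V := by omega
      apply hsuff _ he
      -- dual action
      let ρ : Representation F ↥H V :=
        (LinearEquiv.automorphismGroup.toLinearMapMonoidHom).comp H.subtype
      have hρ : ∀ (h : ↥H) (v : V), ρ h v = (h : V ≃ₗ[F] V) v := fun h v => rfl
      let _ : MulAction ↥H (Module.Dual F V) :=
        MulAction.compHom (Module.Dual F V) (ρ.dual : ↥H →* (Module.Dual F V →ₗ[F] Module.Dual F V))
      have hsmul : ∀ (h : ↥H) (φ : Module.Dual F V) (v : V), (h • φ) v = φ (((h⁻¹ : ↥H) : V ≃ₗ[F] V) v) := by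
        intro h φ v
        rfl
      have hfinD : Finite (Module.Dual F V) := Module.finite_of_finite F
      have hWann : W.dualAnnihilator ≠ ⊥ := by
        intro hb
        rw [hb, finrank_bot] at hW0
        exact lt_irrefl 0 hW0
      obtain ⟨φ1, hφ1, hφ0'⟩ := Submodule.exists_mem_ne_zero_of_ne_bot hWann
      set φ : W.dualAnnihilator := ⟨φ1, hφ1⟩ with hφdef
      rw [← ncard_submodule_diff_zero W.dualAnnihilator]
      apply index_le_ncard_of_orbit_subset R (φ : Module.Dual F V) _ (Set.toFinite _)
      · intro h hh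
        apply Subgroup.subset_closure
        -- h fixes φ, so h - 1 is not surjective, hence not injective
        have hfix : ∀ v : V, (φ : Module.Dual F V) ((h : V ≃ₗ[F] V) v) = (φ : Module.Dual F V) v := by
          intro v
          have h1 : h • (φ : Module.Dual F V) = φ := hh
          have h2 := congrArg (fun ψ : Module.Dual F V => ψ ((h : V ≃ₗ[F] V) v)) h1
          simp only [hsmul] at h2
          rw [← h2]
          congr 1
          change ((h⁻¹ * h : ↥H) : V ≃ₗ[F] V) v = v
          rw [inv_mul_cancel]; rfl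
        let T : V →ₗ[F] V := ((h : V ≃ₗ[F] V) : V →ₗ[F] V) - LinearMap.id
        have hT : ∀ v, (φ : Module.Dual F V) (T v) = 0 := by
          intro v
          simp only [T, LinearMap.sub_apply, LinearMap.id_apply, map_sub, LinearEquiv.coe_coe, hfix, sub_self]
        have hnsurj : ¬ Function.Surjective T := by
          intro hs
          apply hφ0'
          ext v
          obtain ⟨u, rfl⟩ := hs v
          rw [hT]; rfl
        have hninj : ¬ Function.Injective T := fun hi => hnsurj (LinearMap.injective_iff_surjective.mp hi)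
        rw [← LinearMap.ker_eq_bot, Submodule.eq_bot_iff] at hninj
        push Not at hninj
        obtain ⟨v, hvker, hv0⟩ := hninj
        refine ⟨v, hv0, ?_⟩
        have : T v = 0 := hvker
        simp only [T, LinearMap.sub_apply, LinearMap.id_apply, LinearEquiv.coe_coe] at this
        exact sub_eq_zero.mp this
      · rintro _ ⟨h, rfl⟩
        refine ⟨?_, ?_⟩
        · change h • (φ : Module.Dual F V) ∈ W.dualAnnihilator
          rw [Submodule.mem_dualAnnihilator]
          intro w hw
          rw [hsmul]
          have hw' : ((h⁻¹ : ↥H) : V ≃ₗ[F] V) w ∈ W := hWinv _ (h⁻¹).2 w hw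
          exact (Submodule.mem_dualAnnihilator _).mp φ.2 _ hw'
        · rw [Set.mem_singleton_iff]
          intro h0
          apply hφ0'
          ext v
          have h1 := congrArg (fun ψ : Module.Dual F V => ψ ((h : V ≃ₗ[F] V) v)) h0
          simp only [hsmul] at h1
          have h2 : ((h⁻¹ : ↥H) : V ≃ₗ[F] V) ((h : V ≃ₗ[F] V) v) = v := by
            change ((h⁻¹ * h : ↥H) : V ≃ₗ[F] V) v = v
            rw [inv_mul_cancel]; rfl
          rw [h2] at h1
          exact h1

end Cfsg.Agent.S4178
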