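import Cfsg.Statements.S4182
import Mathlib
import Cfsg.Agent.Lib.Helper74.SylowConj

set_option autoImplicit false
open Cfsg

namespace Cfsg.Agent.S4182

open scoped Pointwise

variable {G : Type*} [Group G]

/-- `p`-elements. -/
def IsPElt (p : ℕ) (g : G) : Prop := ∃ k : ℕ, orderOf g = p ^ k

/-- Subgroups generated by their `p`-elements. -/
def PGen (p : ℕ) (X : Subgroup G) : Prop :=
  Subgroup.closure {g : G | g ∈ X ∧ IsPElt p g} = X

theorem pgen_sup (p : ℕ) {X Y : Subgroup G} (hX : PGen p X) (hY : PGen p Y) : PGen p (X ⊔ Y) := by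
  unfold PGen at *
  apply le_antisymm
  · rw [Subgroup.closure_le]
    intro g hg
    exact hg.1
  · apply sup_le
    · conv_lhs => rw [← hX]
      apply Subgroup.closure_mono
      intro g hg
      exact ⟨Subgroup.mem_sup_left hg.1, hg.2⟩
    · conv_lhs => rw [← hY]
      apply Subgroup.closure_mono
      intro g hg
      exact ⟨Subgroup.mem_sup_right hg.1, hg.2⟩

theorem pgen_of_isPGroup (p : ℕ) [Fact p.Prime] {X : Subgroup G} (hX : IsPGroup p X) : PGen p X := by
  unfold PGen
  have : {g : G | g ∈ X ∧ IsPElt p g} = (X : Set G) := by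
    ext g
    constructor
    · intro hg; exact hg.1
    · intro hg
      refine ⟨hg, ?_⟩
      obtain ⟨k, hk⟩ := (IsPGroup.iff_orderOf.mp hX) ⟨g, hg⟩
      exact ⟨k, by rw [← hk]; exact (Subgroup.orderOf_mk g hg).symm⟩
  rw [this, Subgroup.closure_eq]

theorem mem_conj_smul (x y : G) (M : Subgroup G) :
    y ∈ MulAut.conj x • M ↔ x⁻¹ * y * x ∈ M := by
  rw [Subgroup.mem_pointwise_smul_iff_inv_smul_mem]
  simp [MulAut.smul_def]

theorem isPElt_conj (p : ℕ) (x g : G) (hg : IsPElt p g) : IsPElt p (x * g * x⁻¹) := by
  obtain ⟨k, hk⟩ := hg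
  refine ⟨k, ?_⟩
  rw [← hk]
  have := orderOf_injective (MulAut.conj x).toMonoidHom (MulAut.conj x).injective g
  simpa using this

theorem pgen_conj (p : ℕ) (x : G) {X : Subgroup G} (hX : PGen p X) : PGen p (MulAut.conj x • X) := by
  unfold PGen at *
  apply le_antisymm
  · rw [Subgroup.closure_le]
    intro g hg
    exact hg.1
  · intro y hy
    rw [mem_conj_smul] at hy
    rw [← hX] at hy
    -- y = x * (x⁻¹ y x) * x⁻¹
    have key : ∀ z ∈ Subgroup.closure {g : G | g ∈ X ∧ IsPElt p g},
        x * z * x⁻¹ ∈ Subgroup.closure {g : G | g ∈ MulAut.conj x • X ∧ IsPElt p g} := by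
      intro z hz
      induction hz using Subgroup.closure_induction with
      | mem g hg =>
        apply Subgroup.subset_closure
        refine ⟨?_, isPElt_conj p x g hg.2⟩
        rw [mem_conj_smul]
        have : x⁻¹ * (x * g * x⁻¹) * x = g := by group
        rw [this]; exact hg.1
      | one => simp
      | mul a b _ _ ha hb =>
        have : x * (a * b) * x⁻¹ = (x * a * x⁻¹) * (x * b * x⁻¹) := by group
        rw [this]; exact Subgroup.mul_mem _ ha hb
      | inv a _ ha =>
        have : x * a⁻¹ * x⁻¹ = (x * a * x⁻¹)⁻¹ := by group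
        rw [this]; exact Subgroup.inv_mem _ ha
    have := key _ hy
    have h2 : x * (x⁻¹ * y * x) * x⁻¹ = y := by group
    rwa [h2] at this

theorem conj_smul_ne_top (x : G) {X : Subgroup G} (hX : X ≠ ⊤) : MulAut.conj x • X ≠ ⊤ := by
  intro h
  apply hX
  rw [eq_top_iff]
  intro g _
  have : x * g * x⁻¹ ∈ MulAut.conj x • X := by rw [h]; trivial
  rw [mem_conj_smul] at this
  have h2 : x⁻¹ * (x * g * x⁻¹) * x = g := by group
  rwa [h2] at this

theorem conj_smul_mono (x : G) {X Y : Subgroup G} (h : X ≤ Y) : MulAut.conj x • X ≤ MulAut.conj x • Y := by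
  intro g hg
  rw [mem_conj_smul] at *
  exact h hg

theorem conj_inv_smul_smul (x : G) (X : Subgroup G) : MulAut.conj x⁻¹ • (MulAut.conj x • X) = X := by
  ext g
  rw [mem_conj_smul, mem_conj_smul]
  have : x⁻¹ * (x⁻¹⁻¹ * g * x⁻¹) * x = g := by group
  rw [this]

theorem conj_smul_inv_smul (x : G) (X : Subgroup G) : MulAut.conj x • (MulAut.conj x⁻¹ • X) = X := by
  have := conj_inv_smul_smul x⁻¹ X
  rwa [inv_inv] at this

theorem conj_smul_eq_self_of_mem {x : G} {X : Subgroup G} (hx : x ∈ X) : MulAut.conj x • X = X := by
  ext g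
  rw [mem_conj_smul]
  constructor
  · intro h
    have : g = x * (x⁻¹ * g * x) * x⁻¹ := by group
    rw [this]
    exact X.mul_mem (X.mul_mem hx h) (X.inv_mem hx)
  · intro h
    exact X.mul_mem (X.mul_mem (X.inv_mem hx) h) hx

/-- Counting argument for `p`-groups. -/
theorem pgroup_case [Finite G] (p : ℕ) [Fact p.Prime] (hG : IsPGroup p G)
    {ι : Type*} [Fintype ι] (K : ι → Subgroup G) (hK : ∀ i, K i ≠ ⊤)
    (hcov : ∀ g : G, ∃ i, g ∈ K i) : p + 1 ≤ Fintype.card ι := by
  classical
  have hp : p.Prime := Fact.out
  by_contra hlt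
  push Not at hlt
  let _ : Fintype G := Fintype.ofFinite G
  -- each K i has p * |K i| ≤ |G|
  have hKi : ∀ i, p * Nat.card (K i) ≤ Nat.card G := by
    intro i
    obtain ⟨k, hk⟩ := hG.index (K i)
    have hk0 : k ≠ 0 := by
      intro h0
      rw [h0, pow_zero] at hk
      exact hK i (Subgroup.index_eq_one.mp hk)
    have hdvd : p ∣ (K i).index := by rw [hk]; exact dvd_pow_self p hk0
    have := (K i).card_mul_index
    rw [← this]
    obtain ⟨t, ht⟩ := hdvd
    rw [ht]
    have ht0 : 0 < t := by
      rcases Nat.eq_zero_or_pos t with h | h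
      · exfalso
        rw [h, mul_zero] at ht
        exact Subgroup.index_ne_zero_of_finite ht
      · exact h
    calc p * Nat.card (K i) ≤ p * Nat.card (K i) * t := Nat.le_mul_of_pos_right _ ht0
      _ = Nat.card (K i) * (p * t) := by ring
  -- ι nonempty
  obtain ⟨i0, -⟩ := hcov 1
  have hGp : p ≤ Nat.card G := by
    have := hKi i0
    have h1 : 1 ≤ Nat.card (K i0) := Nat.card_pos
    nlinarith
  -- counting
  have hsub : (Finset.univ : Finset G).erase 1 ⊆
      Finset.univ.biUnion (fun i : ι => ((Finset.univ : Finset G).filter (· ∈ K i)).erase 1) := by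
    intro g hg
    rw [Finset.mem_erase] at hg
    obtain ⟨i, hi⟩ := hcov g
    rw [Finset.mem_biUnion]
    refine ⟨i, Finset.mem_univ _, ?_⟩
    rw [Finset.mem_erase]
    exact ⟨hg.1, by simp [hi]⟩
  have hcard1 := Finset.card_le_card hsub
  have hcard2 := Finset.card_biUnion_le (s := (Finset.univ : Finset ι))
    (t := fun i : ι => ((Finset.univ : Finset G).filter (· ∈ K i)).erase 1)
  have hcard3 : ∀ i : ι, (((Finset.univ : Finset G).filter (· ∈ K i)).erase 1).card = Nat.card (K i) - 1 := by
    intro i
    rw [Finset.card_erase_of_mem (by simp [(K i).one_mem])]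
    congr 1
    rw [Nat.card_eq_fintype_card, Fintype.card_subtype]
  have hcard4 : ((Finset.univ : Finset G).erase 1).card = Nat.card G - 1 := by
    rw [Finset.card_erase_of_mem (Finset.mem_univ _), Finset.card_univ, Nat.card_eq_fintype_card]
  rw [hcard4] at hcard1
  have hsum : ∑ i : ι, (((Finset.univ : Finset G).filter (· ∈ K i)).erase 1).card * p ≤
      ∑ _i : ι, (Nat.card G - p) := by
    apply Finset.sum_le_sum
    intro i _
    rw [hcard3 i]
    have := hKi i
    have h1 : 1 ≤ Nat.card (K i) := Nat.card_pos
    have : (Nat.card (K i) - 1) * p = p * Nat.card (K i) - p := by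
      rw [Nat.sub_mul, one_mul, mul_comm]
    omega
  rw [Finset.sum_const, Finset.card_univ, smul_eq_mul, ← Finset.sum_mul] at hsum
  have h5 : (Nat.card G - 1) * p ≤ Fintype.card ι * (Nat.card G - p) :=
    (Nat.mul_le_mul_right p (hcard1.trans hcard2)).trans hsum
  have h6 : Fintype.card ι * (Nat.card G - p) ≤ p * (Nat.card G - p) :=
    Nat.mul_le_mul_right _ (by omega)
  have h7 : (Nat.card G - 1) * p ≤ p * (Nat.card G - p) := h5.trans h6
  have hp2 : 2 ≤ p := hp.two_le
  rw [mul_comm] at h7
  have h8 : Nat.card G - 1 ≤ Nat.card G - p := Nat.le_of_mul_le_mul_left h7 (by omega)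
  omega

theorem aux (p : ℕ) [Fact p.Prime] (n : ℕ) :
    ∀ (G : Type*) [Group G] [Finite G], Nat.card G = n →
      Subgroup.closure {g : G | ∃ k : ℕ, orderOf g = p ^ k} = ⊤ →
      ∀ (ι : Type*) [Fintype ι] (K : ι → Subgroup G), (∀ i, K i ≠ ⊤) →
        (∀ g : G, (∃ k : ℕ, orderOf g = p ^ k) → ∃ i, g ∈ K i) → p + 1 ≤ Fintype.card ι := by
  induction n using Nat.strong_induction_on with
  | _ n ih =>
    intro G _ _ hn hgen ι _ K hK hcov
    classical
    have hp : p.Prime := Fact.out
    by_contra hlt
    push Not at hlt
    -- Step 3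
    have step3 : ∀ X : Subgroup G, X ≠ ⊤ → PGen p X → ∃ i, X ≤ K i := by
      intro X hX hpg
      by_contra hno
      push Not at hno
      have hcardX : Nat.card X < n := by
        rw [← hn]
        apply lt_of_le_of_ne (Subgroup.card_le_card_group X)
        intro h
        exact hX (Subgroup.eq_top_of_card_eq X h)
      have hgenX : Subgroup.closure {g : X | ∃ k : ℕ, orderOf g = p ^ k} = ⊤ := by
        apply Subgroup.map_injective X.subtype_injective
        rw [MonoidHom.map_closure, ← MonoidHom.range_eq_map, Subgroup.range_subtype]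
        have : (X.subtype : X → G) '' {g : X | ∃ k : ℕ, orderOf g = p ^ k} =
            {g : G | g ∈ X ∧ IsPElt p g} := by
          ext g
          constructor
          · rintro ⟨y, ⟨k, hk⟩, rfl⟩
            exact ⟨y.2, k, by rw [← hk]; exact Subgroup.orderOf_coe y⟩
          · rintro ⟨hgX, k, hk⟩
            exact ⟨⟨g, hgX⟩, ⟨k, by rw [← hk]; exact (Subgroup.orderOf_mk g hgX)⟩, rfl⟩
        rw [this]
        exact hpg
      have := ih (Nat.card X) hcardX X rfl hgenX ι (fun i => (K i).subgroupOf X)
        (fun i h => hno i (Subgroup.subgroupOf_eq_top.mp h))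
        (fun g hg => by
          obtain ⟨k, hk⟩ := hg
          obtain ⟨i, hi⟩ := hcov (g : G) ⟨k, by rw [← hk]; exact Subgroup.orderOf_coe g⟩
          exact ⟨i, hi⟩)
      omega
    by_cases hGp : IsPGroup p G
    · -- p-group case
      have := pgroup_case p hGp K hK (fun g => by
        obtain ⟨k, hk⟩ := (IsPGroup.iff_orderOf.mp hGp) g
        exact hcov g ⟨k, hk⟩)
      omega
    · -- general case
      obtain ⟨P⟩ : Nonempty (Sylow p G) := inferInstance
      have hSne : ∀ S : Sylow p G, (S : Subgroup G) ≠ ⊤ := by
        intro S h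
        apply hGp
        have := S.isPGroup'
        rw [h] at this
        exact IsPGroup.of_equiv this Subgroup.topEquiv
      -- the maximal proper p-generated subgroups
      let PP : Set (Subgroup G) := {Y | Y ≠ ⊤ ∧ PGen p Y}
      have hPPfin : PP.Finite := Set.toFinite _
      have exists_max : ∀ X : Subgroup G, X ≠ ⊤ → PGen p X →
          ∃ M, X ≤ M ∧ Maximal (fun x => x ∈ PP) M := by
        intro X hX hpg
        exact hPPfin.exists_le_maximal ⟨hX, hpg⟩
      let MM : Set (Subgroup G) := {M | Maximal (fun x => x ∈ PP) M}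
      have hMMfin : Finite MM := Set.toFinite _
      have hMMle : ∀ M : MM, ∃ i, (M : Subgroup G) ≤ K i := by
        intro M
        exact step3 M.1 M.2.1.1 M.2.1.2
      choose f hf using hMMle
      have hfinj : Function.Injective f := by
        intro M M' hMM'
        have h1 : (M : Subgroup G) ⊔ M' ≤ K (f M) := by
          apply sup_le (hf M)
          rw [hMM']; exact hf M'
        have h2 : ((M : Subgroup G) ⊔ M') ∈ PP := by
          refine ⟨?_, pgen_sup p M.2.1.2 M'.2.1.2⟩
          intro htop
          apply hK (f M)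
          rw [eq_top_iff, ← htop]; exact h1
        have h3 : (M : Subgroup G) ⊔ M' ≤ M := M.2.2 h2 le_sup_left
        have h4 : (M : Subgroup G) ⊔ M' ≤ M' := M'.2.2 h2 le_sup_right
        apply Subtype.ext
        apply le_antisymm
        · exact le_sup_left.trans h4
        · exact le_sup_right.trans h3
      have hMMcard : Nat.card MM ≤ p := by
        have := Nat.card_le_card_of_injective f hfinj
        rw [Nat.card_eq_fintype_card (α := ι)] at this
        omega
      -- conjugation preserves MM
      have hMMconj : ∀ (x : G) (M : Subgroup G), M ∈ MM → MulAut.conj x • M ∈ MM := by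
        intro x M hM
        refine ⟨⟨conj_smul_ne_top x hM.1.1, pgen_conj p x hM.1.2⟩, ?_⟩
        intro Y hY hle
        have h1 : M ≤ MulAut.conj x⁻¹ • Y := by
          have := conj_smul_mono x⁻¹ hle
          rwa [conj_inv_smul_smul] at this
        have h2 : MulAut.conj x⁻¹ • Y ∈ PP := ⟨conj_smul_ne_top x⁻¹ hY.1, pgen_conj p x⁻¹ hY.2⟩
        have h3 := hM.2 h2 h1
        have := conj_smul_mono x h3
        rwa [conj_smul_inv_smul] at this
      -- every Sylow normalizes every member of MM
      have hnorm : ∀ (S : Sylow p G) (M : Subgroup G), M ∈ MM → ∀ x ∈ (S : Subgroup G),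
          MulAut.conj x • M = M := by
        intro S M hM
        obtain ⟨MS, hSMS, hMS⟩ := exists_max S (hSne S) (pgen_of_isPGroup p S.isPGroup')
        by_cases hMMS : M = MS
        · intro x hx
          rw [hMMS]
          exact conj_smul_eq_self_of_mem (hSMS hx)
        · let _ : MulAction (S : Subgroup G) (Subgroup G) :=
            MulAction.compHom (Subgroup G) ((MulAut.conj : G →* MulAut G).comp (S : Subgroup G).subtype)
          have hsmul : ∀ (x : (S : Subgroup G)) (Y : Subgroup G), x • Y = MulAut.conj (x : G) • Y :=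
            fun x Y => rfl
          have horb : MulAction.orbit (S : Subgroup G) M ⊆ MM \ {MS} := by
            rintro _ ⟨x, rfl⟩
            refine ⟨?_, ?_⟩
            · change x • M ∈ MM
              rw [hsmul]; exact hMMconj x M hM
            · rw [Set.mem_singleton_iff]
              change x • M ≠ MS
              rw [hsmul]
              intro h
              apply hMMS
              have h1 : MulAut.conj (x : G)⁻¹ • (MulAut.conj (x : G) • M) = MulAut.conj (x : G)⁻¹ • MS := by
                rw [h]
              rw [conj_inv_smul_smul] at h1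
              rw [h1]
              exact conj_smul_eq_self_of_mem ((S : Subgroup G).inv_mem (show (x : G) ∈ (S : Subgroup G) from x.2) |> fun h => hSMS h)
          have hfinMM : (MM \ {MS}).Finite := Set.toFinite _
          have hcard1 : (MulAction.orbit (S : Subgroup G) M).ncard ≤ (MM \ {MS}).ncard :=
            Set.ncard_le_ncard horb hfinMM
          have hcard2 : (MM \ {MS}).ncard = MM.ncard - 1 :=
            Set.ncard_diff_singleton_of_mem hMS
          have hcard3 : MM.ncard ≤ p := by
            rw [← Nat.card_coe_set_eq]; exact hMMcard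
          have hidx : (MulAction.stabilizer (S : Subgroup G) M).index < p := by
            rw [MulAction.index_stabilizer]
            have : 0 < MM.ncard := by
              rw [Set.ncard_pos (Set.toFinite _)]
              exact ⟨MS, hMS⟩
            omega
          have hSp : IsPGroup p (S : Subgroup G) := S.isPGroup'
          obtain ⟨k, hk⟩ := hSp.index (MulAction.stabilizer (S : Subgroup G) M)
          have hk0 : k = 0 := by
            by_contra h0
            have : p ≤ p ^ k := Nat.le_self_pow h0 p
            omega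
          rw [hk0, pow_zero] at hk
          have htop := Subgroup.index_eq_one.mp hk
          intro x hx
          have : (⟨x, hx⟩ : (S : Subgroup G)) ∈ MulAction.stabilizer (S : Subgroup G) M := by
            rw [htop]; trivial
          exact this
      -- M_P is normal and contains every p-element
      obtain ⟨MP, hPMP, hMP⟩ := exists_max P (hSne P) (pgen_of_isPGroup p P.isPGroup')
      have hall : ∀ g : G, (∃ k : ℕ, orderOf g = p ^ k) → ∀ y ∈ MP, g * y * g⁻¹ ∈ MP := by
        intro g hg y hy
        obtain ⟨c, hc⟩ := Cfsg.Agent.Lib.Helper74.exists_conj_mem_sylow P g hg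
        have hgS : g ∈ ((c • P : Sylow p G) : Subgroup G) := by
          rw [Cfsg.Agent.Lib.Helper74.mem_sylow_smul_iff]; exact hc
        have h1 := hnorm (c • P) MP hMP g hgS
        have : g * y * g⁻¹ ∈ MulAut.conj g • MP := by
          rw [mem_conj_smul]
          have : g⁻¹ * (g * y * g⁻¹) * g = y := by group
          rw [this]; exact hy
        rwa [h1] at this
      have hnormal : ∀ g : G, ∀ y ∈ MP, g * y * g⁻¹ ∈ MP := by
        intro g
        have hg : g ∈ Subgroup.closure {g : G | ∃ k : ℕ, orderOf g = p ^ k} := by rw [hgen]; trivial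
        induction hg using Subgroup.closure_induction with
        | mem g hg => exact hall g hg
        | one => intro y hy; simpa using hy
        | mul a b _ _ ha hb =>
          intro y hy
          have : a * b * y * (a * b)⁻¹ = a * (b * y * b⁻¹) * a⁻¹ := by group
          rw [this]; exact ha _ (hb y hy)
        | inv a _ ha =>
          intro y hy
          -- conjugation by a is a bijection of the finite set MP
          have hinj : Function.Injective (fun z : MP => (⟨a * z.1 * a⁻¹, ha z.1 z.2⟩ : MP)) := by
            intro z z' hzz'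
            simp only [Subtype.mk.injEq] at hzz'
            apply Subtype.ext
            have := mul_left_cancel (mul_right_cancel hzz')
            exact this
          have hsurj := Finite.surjective_of_injective hinj
          obtain ⟨z, hz⟩ := hsurj ⟨y, hy⟩
          have hz' : a * z.1 * a⁻¹ = y := congrArg Subtype.val hz
          have : a⁻¹ * y * a⁻¹⁻¹ = z.1 := by rw [← hz']; group
          rw [this]; exact z.2
      have hMPtop : MP = ⊤ := by
        rw [eq_top_iff, ← hgen, Subgroup.closure_le]
        intro g hg
        obtain ⟨c, hc⟩ := Cfsg.Agent.Lib.Helper74.exists_conj_mem_sylow P g hg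
        have h1 : c⁻¹ * g * c ∈ MP := hPMP hc
        have h2 := hnormal c _ h1
        have h3 : c * (c⁻¹ * g * c) * c⁻¹ = g := by group
        rwa [h3] at h2
      exact hMP.1.1 hMPtop

/-- Let p be a prime and G a finite group generated by its p-elements. If a finite family of proper subgroups of G covers the set of p-elements of G (every element of p-power order lies in one of them), then the family has at least p + 1 members. -/
theorem result {G : Type*} [Group G] [Finite G] (p : ℕ) [Fact p.Prime] (hgen : Subgroup.closure {g : G | ∃ k : ℕ, orderOf g = p ^ k} = ⊤)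
    {ι : Type*} [Fintype ι] (K : ι → Subgroup G) (hK : ∀ i, K i ≠ ⊤)
    (hcov : ∀ g : G, (∃ k : ℕ, orderOf g = p ^ k) → ∃ i, g ∈ K i) :
    p + 1 ≤ Fintype.card ι :=
  aux p _ G rfl hgen ι K hK hcov

end Cfsg.Agent.S4182
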