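import Cfsg.Statements.S4186
import Mathlib

set_option autoImplicit false
open Cfsg

namespace Cfsg.Agent.S4186

/-- Let T and X be subgroups of a group with T a finite 2-group normalizing X but not centralizing it. Then some element of T inverts some non-identity element of X under conjugation. -/
theorem result {G : Type*} [Group G] (T X : Subgroup G) [Finite ↥T] (hT : IsPGroup 2 ↥T) (hTN : T ≤ Subgroup.normalizer (X : Set G)) (hTC : ¬ T ≤ Subgroup.centralizer (X : Set G)) : ∃ t ∈ T, ∃ x ∈ X, x ≠ 1 ∧ t * x * t⁻¹ = x⁻¹ := by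
  -- pick t in T not centralizing X
  obtain ⟨t, htT, htC⟩ := Set.not_subset.mp hTC
  -- t^(2^k) = 1 for some k
  obtain ⟨k, hk⟩ := hT ⟨t, htT⟩
  have hk' : t ^ (2 ^ k) = 1 := by
    have := congrArg Subtype.val hk
    simpa using this
  -- find least j with t^(2^j) centralizing X
  have hex : ∃ j, t ^ (2 ^ j) ∈ Subgroup.centralizer (X : Set G) := ⟨k, by rw [hk']; exact one_mem _⟩
  classical
  let j := Nat.find hex
  have hj : t ^ (2 ^ j) ∈ Subgroup.centralizer (X : Set G) := Nat.find_spec hex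
  have hj0 : j ≠ 0 := by
    intro h0
    apply htC
    have := hj
    rw [h0] at this
    simpa using this
  obtain ⟨i, hi⟩ := Nat.exists_eq_succ_of_ne_zero hj0
  have hnot : t ^ (2 ^ i) ∉ Subgroup.centralizer (X : Set G) := by
    apply Nat.find_min hex
    change i < j
    omega
  set s := t ^ (2 ^ i) with hs
  have hsT : s ∈ T := T.pow_mem htT _
  have hs2 : s * s ∈ Subgroup.centralizer (X : Set G) := by
    have : s * s = t ^ (2 ^ j) := by
      rw [hs, ← pow_add, hi, pow_succ]
      ring_nf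
    rw [this]; exact hj
  -- y in X with s y ≠ y s
  rw [Subgroup.mem_centralizer_iff] at hnot
  push Not at hnot
  obtain ⟨y, hyX, hy⟩ := hnot
  have hyX' : y ∈ X := hyX
  have hsy : s * y * s⁻¹ ∈ X := by
    have := hTN hsT
    rw [Subgroup.mem_normalizer_iff] at this
    exact (this y).mp hyX'
  refine ⟨s, hsT, y⁻¹ * (s * y * s⁻¹), X.mul_mem (X.inv_mem hyX') hsy, ?_, ?_⟩
  · intro h
    apply hy
    have h1 : s * y * s⁻¹ = y := by
      have := congrArg (fun z => y * z) h
      simpa [mul_assoc] using this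
    calc y * s = (s * y * s⁻¹) * s := by rw [h1]
      _ = s * y := by group
  · rw [Subgroup.mem_centralizer_iff] at hs2
    have h2 := hs2 y hyX
    -- y * (s*s) = (s*s) * y
    have h3 : s * s * y * s⁻¹ * s⁻¹ = y := by
      rw [← h2]; group
    calc s * (y⁻¹ * (s * y * s⁻¹)) * s⁻¹ = (s * y⁻¹ * s⁻¹) * (s * s * y * s⁻¹ * s⁻¹) := by group
      _ = (s * y⁻¹ * s⁻¹) * y := by rw [h3]
      _ = (y⁻¹ * (s * y * s⁻¹))⁻¹ := by group

end Cfsg.Agent.S4186
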