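import Cfsg.Statements.S4189
import Cfsg.Agent.Lib.Helper74.MaxClassTwo
import Cfsg.Agent.Lib.Helper74.QuatAut

set_option autoImplicit false
open Cfsg

namespace Cfsg.Agent.S4189

open Cfsg.Agent.Lib.Helper74
open scoped commutatorElement

/-- Let P be a finite non-abelian 2-group whose commutator subgroup has index 4 and whose automorphism group is not a 2-group (some automorphism has order that is not a power of 2). Then P is isomorphic to the quaternion group of order 8. -/
theorem result {P : Type*} [Group P] [Finite P] (hP : IsPGroup 2 P) (hna : ¬ IsMulCommutative P) (h4 : (commutator P).index = 4) (haut : ¬ IsPGroup 2 (MulAut P)) : Nonempty (P ≃* QuaternionGroup 2) := by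
  obtain ⟨n, hcard⟩ := IsPGroup.iff_card.mp hP
  -- the derived subgroup is nontrivial
  have hD : 2 ≤ Nat.card (commutator P) := by
    by_contra hlt
    have h1 : Nat.card (commutator P) = 1 := by
      have : 0 < Nat.card (commutator P) := Nat.card_pos
      omega
    have h2 : commutator P = ⊥ := Subgroup.card_eq_one.mp h1
    apply hna
    constructor
    constructor
    intro x y
    have h3 : ⁅x, y⁆ ∈ commutator P := by
      rw [commutator_def]
      exact Subgroup.commutator_mem_commutator (Subgroup.mem_top x) (Subgroup.mem_top y)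
    rw [h2, Subgroup.mem_bot, commutatorElement_def] at h3
    calc x * y = (x * y * x⁻¹ * y⁻¹) * (y * x) := by group
      _ = y * x := by rw [h3, one_mul]
  have h8 : 8 ≤ Nat.card P := by
    rw [← (commutator P).card_mul_index, h4]
    omega
  have hn : 3 ≤ n := by
    by_contra hlt
    have : n ≤ 2 := by omega
    have h1 : 2 ^ n ≤ 2 ^ 2 := Nat.pow_le_pow_right two_pos this
    rw [hcard] at h8
    omega
  obtain ⟨a, b, z, horda, hb, hidx, hzdef, hordz, hcenter, hconj, hsq⟩ :=
    V78.structure_of_index_four hP h4 n hn hcard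
  have hzz : z * z = 1 := by
    have := pow_orderOf_eq_one z
    rw [hordz, pow_two] at this
    exact this
  have hzc : ∀ g : P, g * z = z * g := by
    intro g
    have : z ∈ Subgroup.center P := (hcenter z).mpr (Or.inr rfl)
    exact (Subgroup.mem_center_iff.mp this g)
  have hzi : ∀ (i : ℤ) (g : P), g * z ^ i = z ^ i * g := by
    intro i g
    have : Commute g z := hzc g
    exact (this.zpow_right i).eq
  have hbb : ∀ g : P, g * (b * b) = (b * b) * g := by
    intro g
    rcases hsq with h | h
    · rw [h]; simp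
    · rw [h]; exact hzc g
  have hbb2 : (b * b) * (b * b) = 1 := by
    rcases hsq with h | h
    · rw [h]; simp
    · rw [h]; exact hzz
  -- every element outside ⟨a⟩ is `b * a ^ i`
  have hform : ∀ g : P, g ∉ Subgroup.zpowers a → ∃ i : ℤ, g = b * a ^ i := by
    intro g hg
    have h1 : b⁻¹ * g ∈ Subgroup.zpowers a := by
      rw [Subgroup.mul_mem_iff_of_index_two hidx]
      constructor
      · intro h; exact absurd ((Subgroup.inv_mem_iff _).mp h) hb
      · intro h; exact absurd h hg
    obtain ⟨i, hi⟩ := Subgroup.mem_zpowers_iff.mp h1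
    exact ⟨i, by rw [hi]; group⟩
  have e0 : ∀ i : ℤ, (b * a ^ i) * (b * a ^ i) = (b * a * b⁻¹) ^ i * (b * b) * a ^ i := by
    intro i
    rw [conj_zpow]; group
  have hsq1 : b * a * b⁻¹ = a⁻¹ → ∀ i : ℤ, (b * a ^ i) * (b * a ^ i) = b * b := by
    intro h i
    rw [e0, h, hbb (a⁻¹ ^ i), mul_assoc, inv_zpow, inv_mul_cancel, mul_one]
  have hsq2 : b * a * b⁻¹ = a⁻¹ * z → ∀ i : ℤ, (b * a ^ i) * (b * a ^ i) = z ^ i * (b * b) := by
    intro h i
    have hcomm : Commute a⁻¹ z := hzc a⁻¹
    rw [e0, h, hcomm.mul_zpow, hzi i (a⁻¹ ^ i), mul_assoc (z ^ i), hbb (a⁻¹ ^ i), mul_assoc,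
      mul_assoc, inv_zpow, inv_mul_cancel, mul_one]
  -- fourth powers
  have hm4 : ∀ g : P, g ∉ Subgroup.zpowers a → g ^ 4 = 1 := by
    intro g hg
    obtain ⟨i, rfl⟩ := hform g hg
    have h4' : (b * a ^ i) ^ 4 = ((b * a ^ i) * (b * a ^ i)) * ((b * a ^ i) * (b * a ^ i)) := by
      rw [pow_succ, pow_succ, pow_succ, pow_one]; group
    rw [h4']
    rcases hconj with h | h
    · rw [hsq1 h i, hbb2]
    · rw [hsq2 h i]
      have hzi2 : z ^ i * z ^ i = 1 := by
        rw [← (Commute.refl z).mul_zpow, hzz, one_zpow]
      calc z ^ i * (b * b) * (z ^ i * (b * b)) = z ^ i * ((b * b) * z ^ i) * (b * b) := by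
            simp only [mul_assoc]
        _ = z ^ i * (z ^ i * (b * b)) * (b * b) := by rw [hzi i (b * b)]
        _ = (z ^ i * z ^ i) * ((b * b) * (b * b)) := by simp only [mul_assoc]
        _ = 1 := by rw [hzi2, hbb2, one_mul]
  -- the case `n ≥ 4` is impossible
  have hn3 : n = 3 := by
    by_contra hne
    have hn4 : 4 ≤ n := by omega
    apply haut
    apply V59.isPGroup_two_mulAut_of_cyclic_index_two a (n - 1) 4 (by omega) horda hidx hm4
    intro h
    have h1 : orderOf a ∣ 4 := orderOf_dvd_of_pow_eq_one h
    rw [horda] at h1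
    have h2 : 2 ^ 3 ≤ 2 ^ (n - 1) := Nat.pow_le_pow_right two_pos (by omega)
    have h3 := Nat.le_of_dvd (by norm_num) h1
    omega
  subst hn3
  have horda4 : orderOf a = 4 := by rw [horda]; norm_num
  have hz2 : z = a ^ 2 := by rw [hzdef]; norm_num
  have ha2 : a ^ 2 ≠ 1 := by
    intro h
    have h1 : orderOf a ∣ 2 := orderOf_dvd_of_pow_eq_one h
    rw [horda4] at h1
    norm_num at h1
  rcases hconj with hconj | hconj
  · rcases hsq with hsq | hsq
    · -- dihedral: the automorphism group is a 2-group
      exfalso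
      apply haut
      apply V59.isPGroup_two_mulAut_of_cyclic_index_two a 2 2 (by norm_num) horda4 hidx _ ha2
      intro g hg
      obtain ⟨i, rfl⟩ := hform g hg
      rw [pow_two, hsq1 hconj i, hsq]
    · -- quaternion
      apply V59.nonempty_mulEquiv_quaternion 2 a b
      · rw [hcard]; norm_num
      · rw [horda4]
      · rw [hsq, hz2]
      · exact hconj
      · exact hb
  · -- `b` centralizes `a`: impossible
    exfalso
    have hba : b * a * b⁻¹ = a := by
      rw [hconj, hz2, pow_two]; group
    have hac : a ∈ Subgroup.center P := by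
      rw [Subgroup.mem_center_iff]
      intro g
      by_cases hg : g ∈ Subgroup.zpowers a
      · obtain ⟨k, rfl⟩ := Subgroup.mem_zpowers_iff.mp hg
        rw [← zpow_add_one, ← zpow_one_add, add_comm]
      · obtain ⟨i, rfl⟩ := hform g hg
        calc b * a ^ i * a = b * a * a ^ i := by
              rw [mul_assoc, ← zpow_add_one, mul_assoc, ← zpow_one_add, add_comm]
          _ = (b * a * b⁻¹) * (b * a ^ i) := by group
          _ = a * (b * a ^ i) := by rw [hba]
    rcases (hcenter a).mp hac with h | h
    · rw [h, orderOf_one] at horda4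
      norm_num at horda4
    · rw [h, hordz] at horda4
      norm_num at horda4

end Cfsg.Agent.S4189
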