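import Cfsg.Statements.S4194
import Cfsg.Agent.Lib.Helper06.OddClass

set_option autoImplicit false
open Cfsg

namespace Cfsg.Agent.S4194

/-- A finite group G has commutative Sylow 2-subgroups if and only if every 2-element of G (element of order a power of 2) is 2-central, that is, its centralizer contains a Sylow 2-subgroup of G. -/
theorem result {G : Type*} [Group G] [Finite G] (P : Sylow 2 G) :
    IsMulCommutative (P : Subgroup G) ↔ ∀ x : G, (∃ k : ℕ, orderOf x = 2 ^ k) → (∃ Q : Sylow 2 G, (Q : Subgroup G) ≤ Subgroup.centralizer ({x} : Set G)) := by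
  constructor
  · intro hP x hx
    -- `x` lies in some Sylow subgroup, which is commutative
    have hZ : IsPGroup 2 ↥(Subgroup.zpowers x) := by
      obtain ⟨k, hk⟩ := hx
      apply IsPGroup.of_card (n := k)
      rw [Nat.card_zpowers, hk]
    obtain ⟨Q, hQ⟩ := hZ.exists_le_sylow
    refine ⟨Q, ?_⟩
    obtain ⟨g, hg⟩ := MulAction.exists_smul_eq G P Q
    have hxQ : x ∈ (Q : Subgroup G) := hQ (Subgroup.mem_zpowers x)
    intro q hq
    rw [Subgroup.mem_centralizer_iff]
    rintro y rfl
    rw [← hg, Sylow.coe_subgroup_smul] at hq hxQ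
    obtain ⟨a, ha, rfl⟩ := hq
    obtain ⟨b, hb, rfl⟩ := hxQ
    have hab : a * b = b * a := by
      have := hP.is_comm.comm ⟨a, ha⟩ ⟨b, hb⟩
      exact congrArg Subtype.val this
    have h1 : Commute b a := hab.symm
    exact ((Commute.conj_iff g).2 h1).eq
  · intro h
    apply Cfsg.Agent.Lib.Helper06.OddClass.isMulCommutative_sylow _ P
    intro x hx h2
    obtain ⟨Q, hQ⟩ := h x hx
    exact Q.not_dvd_index (dvd_trans h2 (Subgroup.index_dvd_of_le hQ))

end Cfsg.Agent.S4194
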