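import Cfsg.Statements.S4195
import Mathlib
import Cfsg.Agent.Lib.Helper74.ConjClass

set_option autoImplicit false
open Cfsg

namespace Cfsg.Agent.S4195

/-- Let x be a non-identity element of a finite group G whose centralizer contains a Sylow 2-subgroup of G. If x is conjugate to its inverse, then x has order 2. -/
theorem result {G : Type*} [Group G] [Finite G] (x : G) (hx : x ≠ 1) (P : Sylow 2 G) (hP : (P : Subgroup G) ≤ Subgroup.centralizer ({x} : Set G)) (hreal : IsConj x x⁻¹) : orderOf x = 2 := by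
  classical
  have : Fact (Nat.Prime 2) := ⟨Nat.prime_two⟩
  -- the class of x has odd size
  have hodd : ¬ 2 ∣ Nat.card {y : G // IsConj x y} := by
    rw [← Cfsg.Agent.Lib.Helper74.index_centralizer_eq_card_conj]
    intro h
    exact P.not_dvd_index (h.trans (Subgroup.index_dvd_of_le hP))
  let _ : Fintype {y : G // IsConj x y} := Fintype.ofFinite _
  rw [Nat.card_eq_fintype_card] at hodd
  -- inversion on the class
  have hinv : ∀ y : G, IsConj x y → IsConj x y⁻¹ := by
    intro y hy
    have h1 : IsConj x⁻¹ y⁻¹ := by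
      obtain ⟨c, hc⟩ := isConj_iff.mp hy
      exact isConj_iff.mpr ⟨c, by rw [← hc]; group⟩
    exact hreal.trans h1
  let σ : Equiv.Perm {y : G // IsConj x y} :=
    { toFun := fun y => ⟨y.1⁻¹, hinv y.1 y.2⟩
      invFun := fun y => ⟨y.1⁻¹, hinv y.1 y.2⟩
      left_inv := fun y => by simp
      right_inv := fun y => by simp }
  have hσ : σ ^ 2 ^ 1 = 1 := by
    ext y
    simp [σ, pow_two]
  obtain ⟨a, ha⟩ := Equiv.Perm.exists_fixed_point_of_prime (p := 2) (n := 1) hodd hσ
  have ha' : (a.1)⁻¹ = a.1 := congrArg Subtype.val ha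
  have ha2 : a.1 ^ 2 = 1 := by
    rw [pow_two]
    nth_rewrite 1 [← ha']
    exact inv_mul_cancel _
  obtain ⟨c, hc⟩ := isConj_iff.mp a.2
  have hx2 : x ^ 2 = 1 := by
    have : (c * x * c⁻¹) ^ 2 = 1 := by rw [hc]; exact ha2
    rw [conj_pow] at this
    have h3 : x ^ 2 = c⁻¹ * (c * x ^ 2 * c⁻¹) * c := by group
    rw [h3, this]; group
  exact orderOf_eq_prime hx2 hx

end Cfsg.Agent.S4195
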