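import Cfsg.Statements.S4196
import Mathlib
import Cfsg.Agent.Lib.Helper74.SylowConj
import Cfsg.Agent.S4195

set_option autoImplicit false
open Cfsg

namespace Cfsg.Agent.S4196

/-- A finite group G has elementary abelian Sylow 2-subgroups (commutative with every element squaring to the identity) if and only if every 2-element of G has a Sylow 2-subgroup in its centralizer and is conjugate to its inverse. -/
theorem result {G : Type*} [Group G] [Finite G] (P : Sylow 2 G) :
    (IsMulCommutative (P : Subgroup G) ∧ ∀ x ∈ (P : Subgroup G), x ^ 2 = 1) ↔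
      ∀ x : G, (∃ k : ℕ, orderOf x = 2 ^ k) → (∃ Q : Sylow 2 G, (Q : Subgroup G) ≤ Subgroup.centralizer ({x} : Set G)) ∧ IsConj x x⁻¹ := by
  have : Fact (Nat.Prime 2) := ⟨Nat.prime_two⟩
  constructor
  · rintro ⟨hcomm, hexp⟩ x hx
    obtain ⟨g, hg⟩ := Cfsg.Agent.Lib.Helper74.exists_conj_mem_sylow P x hx
    have hcomm' : ∀ a ∈ (P : Subgroup G), ∀ b ∈ (P : Subgroup G), a * b = b * a := by
      intro a ha b hb
      have := (isMulCommutative_iff.mp hcomm) ⟨a, ha⟩ ⟨b, hb⟩
      exact congrArg Subtype.val this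
    constructor
    · refine ⟨g • P, ?_⟩
      intro y hy
      rw [Cfsg.Agent.Lib.Helper74.mem_sylow_smul_iff] at hy
      rw [Subgroup.mem_centralizer_iff]
      intro z hz
      rw [Set.mem_singleton_iff] at hz
      subst hz
      have h1 := hcomm' _ hg _ hy
      -- g⁻¹ z g * g⁻¹ y g = g⁻¹ y g * g⁻¹ z g
      have h2 : z * y = g * ((g⁻¹ * z * g) * (g⁻¹ * y * g)) * g⁻¹ := by group
      have h3 : y * z = g * ((g⁻¹ * y * g) * (g⁻¹ * z * g)) * g⁻¹ := by group
      rw [h2, h3, h1]
    · have h1 := hexp _ hg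
      have h2 : x ^ 2 = 1 := by
        have h3 : x ^ 2 = g * (g⁻¹ * x * g) ^ 2 * g⁻¹ := by
          rw [pow_two, pow_two]; group
        rw [h3, h1]; group
      have h4 : x⁻¹ = x := by
        rw [inv_eq_iff_mul_eq_one, ← pow_two, h2]
      rw [h4]
  · intro h
    have hexp : ∀ x ∈ (P : Subgroup G), x ^ 2 = 1 := by
      intro x hx
      by_cases hx1 : x = 1
      · rw [hx1, one_pow]
      · have hord : ∃ k : ℕ, orderOf x = 2 ^ k := by
          obtain ⟨k, hk⟩ := (IsPGroup.iff_orderOf.mp P.isPGroup') ⟨x, hx⟩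
          refine ⟨k, ?_⟩
          rw [← hk]
          exact (Subgroup.orderOf_mk x hx).symm
        obtain ⟨⟨Q, hQ⟩, hreal⟩ := h x hord
        have := Cfsg.Agent.S4195.result x hx1 Q hQ hreal
        rw [← this]
        exact pow_orderOf_eq_one x
    refine ⟨?_, hexp⟩
    apply IsMulCommutative.of_comm
    rintro ⟨a, ha⟩ ⟨b, hb⟩
    apply Subtype.ext
    change a * b = b * a
    have h1 := hexp a ha
    have h2 := hexp b hb
    have h3 := hexp (a * b) (Subgroup.mul_mem _ ha hb)
    have ha' : a⁻¹ = a := by rw [inv_eq_iff_mul_eq_one, ← pow_two, h1]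
    have hb' : b⁻¹ = b := by rw [inv_eq_iff_mul_eq_one, ← pow_two, h2]
    have hab' : (a * b)⁻¹ = a * b := by rw [inv_eq_iff_mul_eq_one, ← pow_two, h3]
    calc a * b = (a * b)⁻¹ := hab'.symm
      _ = b⁻¹ * a⁻¹ := by group
      _ = b * a := by rw [ha', hb']

end Cfsg.Agent.S4196
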