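import Cfsg.Statements.S4198
import Cfsg.Agent.Lib.Helper74.PartitionBound
import Cfsg.Agent.Lib.Helper74.IndexTwoClasses

set_option autoImplicit false
open Cfsg

namespace Cfsg.Agent.S4198

open Cfsg.Agent.Lib.Helper74 Equiv Equiv.Perm

/-- a representative of a conjugacy class. -/
noncomputable def rep {X : Type*} [Monoid X] (C : ConjClasses X) : X :=
  Function.surjInv ConjClasses.mk_surjective C

theorem mk_rep {X : Type*} [Monoid X] (C : ConjClasses X) : ConjClasses.mk (rep C) = C :=
  Function.surjInv_eq ConjClasses.mk_surjective C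

/-- the class number of the symmetric group is at most the number of partitions. -/
theorem card_conjClasses_perm_le (n : ℕ) :
    Nat.card (ConjClasses (Perm (Fin n))) ≤ Fintype.card (Nat.Partition n) := by
  have h1 : Nat.card (ConjClasses (Perm (Fin n))) ≤
      Nat.card (Nat.Partition (Fintype.card (Fin n))) := by
    apply Nat.card_le_card_of_injective (fun C => (rep C).partition)
    intro C C' h
    have h2 : IsConj (rep C) (rep C') := partition_eq_of_isConj.mpr h
    rw [← mk_rep C, ← mk_rep C']
    exact ConjClasses.mk_eq_mk_iff_isConj.mpr h2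
  rw [Nat.card_eq_fintype_card] at h1
  simpa using h1

/-- replace one part `a` by `a - 1`. -/
noncomputable def phi (m : Multiset ℕ) : Multiset ℕ :=
  if h : m ≠ 0 then
    ((Multiset.exists_mem_of_ne_zero h).choose - 1) ::ₘ m.erase (Multiset.exists_mem_of_ne_zero h).choose
  else 0

/-- add one to every even part. -/
def psi (M : Multiset ℕ) : Multiset ℕ :=
  M.filter (fun x => Odd x) + (M.filter (fun x => Even x)).map (· + 1)

theorem phi_spec (m : Multiset ℕ) (h : m ≠ 0) :
    ∃ a ∈ m, phi m = (a - 1) ::ₘ m.erase a := by
  refine ⟨(Multiset.exists_mem_of_ne_zero h).choose, (Multiset.exists_mem_of_ne_zero h).choose_spec, ?_⟩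
  simp only [phi, dif_pos h]

theorem psi_phi (m : Multiset ℕ) (h : m ≠ 0) (hodd : ∀ c ∈ m, Odd c) : psi (phi m) = m := by
  obtain ⟨a, ha, he⟩ := phi_spec m h
  rw [he, psi]
  have hao : Odd a := hodd a ha
  have hae : Even (a - 1) := by
    obtain ⟨k, rfl⟩ := hao
    exact ⟨k, by omega⟩
  have hano : ¬ Odd (a - 1) := Nat.not_odd_iff_even.mpr hae
  have hrest : ∀ c ∈ m.erase a, Odd c := fun c hc => hodd c (Multiset.mem_of_mem_erase hc)
  rw [Multiset.filter_cons_of_neg _ hano, Multiset.filter_cons_of_pos _ hae,
    Multiset.filter_eq_self.mpr hrest,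
    Multiset.filter_eq_nil.mpr (fun c hc => Nat.not_even_iff_odd.mpr (hrest c hc))]
  have ha1 : a - 1 + 1 = a := by
    obtain ⟨k, rfl⟩ := hao
    omega
  simp only [Multiset.map_cons, Multiset.map_zero, ha1]
  rw [add_comm]
  simp only [Multiset.cons_zero, Multiset.singleton_add]
  exact Multiset.cons_erase ha

theorem even_sum_add_card (m : Multiset ℕ) (hodd : ∀ c ∈ m, Odd c) : Even (m.sum + Multiset.card m) := by
  induction m using Multiset.induction_on with
  | empty => simp
  | cons a s ih =>
    have h1 : Odd a := hodd a (Multiset.mem_cons_self a s)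
    have h2 := ih (fun c hc => hodd c (Multiset.mem_cons_of_mem hc))
    rw [Multiset.sum_cons, Multiset.card_cons]
    have : a + s.sum + (Multiset.card s + 1) = (a + 1) + (s.sum + Multiset.card s) := by ring
    rw [this]
    exact Even.add h1.add_one h2

theorem phi_props (n : ℕ) (m : Multiset ℕ) (h : m ≠ 0) (hodd : ∀ c ∈ m, Odd c)
    (h2 : ∀ c ∈ m, 2 ≤ c) (hsum : m.sum ≤ n) :
    (phi m).sum ≤ n ∧ (∀ c ∈ phi m, 2 ≤ c) ∧ Odd ((phi m).sum + Multiset.card (phi m)) := by
  obtain ⟨a, ha, he⟩ := phi_spec m h
  have hao : Odd a := hodd a ha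
  have ha2 : 2 ≤ a := h2 a ha
  have ha3 : 3 ≤ a := by
    obtain ⟨k, rfl⟩ := hao
    omega
  have hs : a + (m.erase a).sum = m.sum := Multiset.sum_erase ha
  have hc : Multiset.card (m.erase a) + 1 = Multiset.card m := by
    rw [← Multiset.card_cons a, Multiset.cons_erase ha]
  have hev := even_sum_add_card m hodd
  rw [he]
  refine ⟨?_, ?_, ?_⟩
  · rw [Multiset.sum_cons]; omega
  · intro c hc'
    rcases Multiset.mem_cons.mp hc' with rfl | hc'
    · omega
    · exact h2 c (Multiset.mem_of_mem_erase hc')
  · rw [Multiset.sum_cons, Multiset.card_cons]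
    have : a - 1 + (m.erase a).sum + (Multiset.card (m.erase a) + 1) + 1 =
        m.sum + Multiset.card m := by omega
    rw [← this] at hev
    rcases Nat.even_or_odd (a - 1 + (m.erase a).sum + (Multiset.card (m.erase a) + 1)) with h' | h'
    · exact absurd hev (Nat.not_even_iff_odd.mpr h'.add_one)
    · exact h'

theorem not_mem_alternating_of_odd {n : ℕ} (g : Perm (Fin n))
    (h : Odd (g.cycleType.sum + Multiset.card g.cycleType)) : g ∉ alternatingGroup (Fin n) := by
  rw [mem_alternatingGroup, sign_of_cycleType]
  intro h1
  have := (neg_one_pow_eq_one_iff_even (R := ℤˣ) (by decide)).mp h1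
  exact (Nat.not_even_iff_odd.mpr h) this

/-- The split classes are fewer than the odd classes. -/
theorem card_split_lt_card_odd (n : ℕ) (hn : 5 ≤ n) :
    Nat.card {C : ConjClasses (Perm (Fin n)) // ∀ g : Perm (Fin n), ConjClasses.mk g = C →
            (∀ t : Perm (Fin n), Commute t g → t ∈ alternatingGroup (Fin n))} <
    Nat.card {C : ConjClasses (Perm (Fin n)) // ∀ g : Perm (Fin n), ConjClasses.mk g = C →
            g ∉ alternatingGroup (Fin n)} := by
  classical
  set 𝒮 := {C : ConjClasses (Perm (Fin n)) // ∀ g : Perm (Fin n), ConjClasses.mk g = C →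
            (∀ t : Perm (Fin n), Commute t g → t ∈ alternatingGroup (Fin n))} with h𝒮
  set 𝒪 := {C : ConjClasses (Perm (Fin n)) // ∀ g : Perm (Fin n), ConjClasses.mk g = C →
            g ∉ alternatingGroup (Fin n)} with h𝒪
  -- data for a split class
  have hsplit : ∀ C : 𝒮, (∀ c ∈ (rep C.1).cycleType, Odd c) ∧ n ≤ (rep C.1).cycleType.sum + 1 := by
    intro C
    have h1 : Subgroup.centralizer {rep C.1} ≤ alternatingGroup (Fin n) := by
      intro t ht
      rw [Subgroup.mem_centralizer_singleton_iff] at ht
      exact C.2 (rep C.1) (mk_rep C.1) t ht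
    have h2 := centralizer_le_alternating_iff.mp h1
    refine ⟨h2.1, ?_⟩
    have := h2.2.1
    simpa using this
  have hne : ∀ C : 𝒮, (rep C.1).cycleType ≠ 0 := by
    intro C h0
    have := (hsplit C).2
    rw [h0, Multiset.sum_zero] at this
    omega
  have hsum : ∀ g : Perm (Fin n), g.cycleType.sum ≤ n := by
    intro g
    rw [sum_cycleType]
    have := Finset.card_le_univ g.support
    simpa using this
  -- target cycle types
  let T : Option 𝒮 → Multiset ℕ := fun o =>
    match o with
    | none => {2}
    | some C => phi (rep C.1).cycleType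
  have hT : ∀ o, (T o).sum ≤ Fintype.card (Fin n) ∧ (∀ a ∈ T o, 2 ≤ a) ∧
      Odd ((T o).sum + Multiset.card (T o)) := by
    intro o
    cases o with
    | none =>
      refine ⟨?_, ?_, ?_⟩
      · simp only [T, Multiset.sum_singleton, Fintype.card_fin]; omega
      · intro a ha
        simp only [T, Multiset.mem_singleton] at ha
        omega
      · simp only [T, Multiset.sum_singleton, Multiset.card_singleton]
        decide
    | some C =>
      have := phi_props n (rep C.1).cycleType (hne C) (hsplit C).1
        (fun c hc => two_le_of_mem_cycleType hc) (hsum _)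
      simpa [T] using this
  have hTinj : Function.Injective T := by
    intro o o' h
    cases o with
    | none =>
      cases o' with
      | none => rfl
      | some C' =>
        exfalso
        have h1 : psi (phi (rep C'.1).cycleType) = psi {2} := by
          simp only [T] at h
          rw [← h]
        rw [psi_phi _ (hne C') (hsplit C').1] at h1
        have h2 : psi {2} = {3} := by decide
        rw [h2] at h1
        have := (hsplit C').2
        rw [h1, Multiset.sum_singleton] at this
        omega
    | some C =>
      cases o' with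
      | none =>
        exfalso
        have h1 : psi (phi (rep C.1).cycleType) = psi {2} := by
          simp only [T] at h
          rw [h]
        rw [psi_phi _ (hne C) (hsplit C).1] at h1
        have h2 : psi {2} = {3} := by decide
        rw [h2] at h1
        have := (hsplit C).2
        rw [h1, Multiset.sum_singleton] at this
        omega
      | some C' =>
        have h1 : psi (phi (rep C.1).cycleType) = psi (phi (rep C'.1).cycleType) := by
          simp only [T] at h
          rw [h]
        rw [psi_phi _ (hne C) (hsplit C).1, psi_phi _ (hne C') (hsplit C').1] at h1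
        have h2 : IsConj (rep C.1) (rep C'.1) := isConj_iff_cycleType_eq.mpr h1
        have h3 : C.1 = C'.1 := by
          rw [← mk_rep C.1, ← mk_rep C'.1]
          exact ConjClasses.mk_eq_mk_iff_isConj.mpr h2
        exact congrArg some (Subtype.ext h3)
  -- realize the cycle types
  have hex : ∀ o, ∃ g : Perm (Fin n), g.cycleType = T o := fun o =>
    (exists_with_cycleType_iff (Fin n)).mpr ⟨(hT o).1, (hT o).2.1⟩
  let gg : Option 𝒮 → Perm (Fin n) := fun o => (hex o).choose
  have hgg : ∀ o, (gg o).cycleType = T o := fun o => (hex o).choose_spec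
  have hmem : ∀ o, ∀ g : Perm (Fin n), ConjClasses.mk g = ConjClasses.mk (gg o) →
      g ∉ alternatingGroup (Fin n) := by
    intro o g hg
    have h1 : g.cycleType = T o := by
      rw [← hgg o]
      exact isConj_iff_cycleType_eq.mp (ConjClasses.mk_eq_mk_iff_isConj.mp hg)
    apply not_mem_alternating_of_odd
    rw [h1]
    exact (hT o).2.2
  let F : Option 𝒮 → 𝒪 := fun o => ⟨ConjClasses.mk (gg o), hmem o⟩
  have hF : Function.Injective F := by
    intro o o' h
    have h1 : ConjClasses.mk (gg o) = ConjClasses.mk (gg o') := congrArg Subtype.val h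
    have h2 := isConj_iff_cycleType_eq.mp (ConjClasses.mk_eq_mk_iff_isConj.mp h1)
    rw [hgg, hgg] at h2
    exact hTinj h2
  have := Nat.card_le_card_of_injective F hF
  rw [Finite.card_option] at this
  omega

/-- For n ≥ 5 the alternating group of degree n has strictly fewer conjugacy classes than the symmetric group of degree n, and the symmetric group of degree n (whose classes correspond to the partitions of n) has at most 2^(n−2) conjugacy classes. -/
theorem result (n : ℕ) (hn : 5 ≤ n) : Nat.card (ConjClasses (alternatingGroup (Fin n))) < Nat.card (ConjClasses (Equiv.Perm (Fin n))) ∧ Nat.card (ConjClasses (Equiv.Perm (Fin n))) ≤ 2 ^ (n - 2) := by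
  refine ⟨?_, (card_conjClasses_perm_le n).trans (card_partition_le n hn)⟩
  have : Nontrivial (Fin n) := Fin.nontrivial_iff_two_le.mpr (by omega)
  exact card_conjClasses_lt_of_index_two (alternatingGroup (Fin n)) alternatingGroup.index_eq_two
    (card_split_lt_card_odd n hn)

end Cfsg.Agent.S4198
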