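import Cfsg.Statements.S4200
import Mathlib
import Cfsg.Agent.Lib.Helper74.CommPairs

set_option autoImplicit false
open Cfsg

namespace Cfsg.Agent.S4200

open Cfsg.Agent.Lib.Helper74

/-- Let Y be a subgroup of the finite group X, of index m. Then the numbers of conjugacy classes satisfy k(Y) ≤ m·k(X) and k(X) ≤ m·k(Y), and the second inequality is strict unless Y is normal in X. -/
theorem result {X : Type*} [Group X] [Finite X] (Y : Subgroup X) : Nat.card (ConjClasses Y) ≤ Y.index * Nat.card (ConjClasses X) ∧ Nat.card (ConjClasses X) ≤ Y.index * Nat.card (ConjClasses Y) ∧ (¬ Y.Normal → Nat.card (ConjClasses X) < Y.index * Nat.card (ConjClasses Y)) := by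
  have hA : Nat.card (cp (Set.univ : Set X) (Set.univ : Set X)) = Nat.card (ConjClasses X) * Nat.card X :=
    card_cp_univ
  have hC : Nat.card (cp (Y : Set X) (Y : Set X)) = Nat.card (ConjClasses Y) * Nat.card Y :=
    card_cp_subgroup Y
  have hXY : Nat.card Y * Y.index = Nat.card X := Y.card_mul_index
  have hYpos : 0 < Nat.card Y := Nat.card_pos
  have hmpos : 0 < Y.index := Nat.pos_of_ne_zero Subgroup.index_ne_zero_of_finite
  have hB1 : Nat.card (cp (Set.univ : Set X) (Y : Set X)) ≤ Y.index * Nat.card (cp (Y : Set X) (Y : Set X)) := by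
    rw [card_cp_swap, card_cp_swap (Y : Set X) (Y : Set X)]
    have := card_cp_univ_le_index_mul Y (Y : Set X)
    rwa [card_cp_swap (Y : Set X) (Y : Set X)] at this
  refine ⟨?_, ?_, ?_⟩
  · have h1 : Nat.card (cp (Y : Set X) (Y : Set X)) ≤ Nat.card (cp (Set.univ : Set X) (Set.univ : Set X)) :=
      card_cp_mono (Set.subset_univ _) (Set.subset_univ _)
    rw [hA, hC, ← hXY] at h1
    have h2 : Nat.card (ConjClasses Y) * Nat.card Y ≤ (Y.index * Nat.card (ConjClasses X)) * Nat.card Y := by
      calc Nat.card (ConjClasses Y) * Nat.card Y ≤ Nat.card (ConjClasses X) * (Nat.card Y * Y.index) := h1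
        _ = (Y.index * Nat.card (ConjClasses X)) * Nat.card Y := by ring
    exact Nat.le_of_mul_le_mul_right h2 hYpos
  · have h1 := card_cp_univ_le_index_mul Y (Set.univ : Set X)
    have h2 : Nat.card (cp (Set.univ : Set X) (Set.univ : Set X)) ≤ Y.index * (Y.index * Nat.card (cp (Y : Set X) (Y : Set X))) :=
      h1.trans (Nat.mul_le_mul_left _ hB1)
    rw [hA, hC, ← hXY] at h2
    have h3 : Nat.card (ConjClasses X) * (Nat.card Y * Y.index) ≤ (Y.index * Nat.card (ConjClasses Y)) * (Nat.card Y * Y.index) := by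
      calc Nat.card (ConjClasses X) * (Nat.card Y * Y.index) ≤ Y.index * (Y.index * (Nat.card (ConjClasses Y) * Nat.card Y)) := h2
        _ = (Y.index * Nat.card (ConjClasses Y)) * (Nat.card Y * Y.index) := by ring
    exact Nat.le_of_mul_le_mul_right h3 (Nat.mul_pos hYpos hmpos)
  · intro hnn
    have hex : ∃ y ∈ Y, ∃ g : X, g * y * g⁻¹ ∉ Y := by
      by_contra hcon
      push Not at hcon
      exact hnn ⟨fun n hn g => hcon n hn g⟩
    obtain ⟨y, hy, g, hg⟩ := hex
    have h1 : Nat.card (cp (Set.univ : Set X) (Set.univ : Set X)) < Y.index * Nat.card (cp (Set.univ : Set X) (Y : Set X)) := by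
      apply card_cp_univ_lt_index_mul Y (Set.univ : Set X)
      refine ⟨y, Set.mem_univ _, g⁻¹, ?_⟩
      intro b hb hcomm
      have hb' : (g⁻¹)⁻¹ * b ∈ Y := QuotientGroup.eq.mp hb.symm
      rw [inv_inv] at hb'
      apply hg
      have h2 : g * y * g⁻¹ = (g * b) * y * (g * b)⁻¹ := by
        have : b * y * b⁻¹ = y := by
          rw [← hcomm.eq]; group
        calc g * y * g⁻¹ = g * (b * y * b⁻¹) * g⁻¹ := by rw [this]
          _ = (g * b) * y * (g * b)⁻¹ := by group
      rw [h2]
      exact Y.mul_mem (Y.mul_mem hb' hy) (Y.inv_mem hb')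
    have h2 : Nat.card (cp (Set.univ : Set X) (Set.univ : Set X)) < Y.index * (Y.index * Nat.card (cp (Y : Set X) (Y : Set X))) :=
      lt_of_lt_of_le h1 (Nat.mul_le_mul_left _ hB1)
    rw [hA, hC, ← hXY] at h2
    have h3 : Nat.card (ConjClasses X) * (Nat.card Y * Y.index) < (Y.index * Nat.card (ConjClasses Y)) * (Nat.card Y * Y.index) := by
      calc Nat.card (ConjClasses X) * (Nat.card Y * Y.index) < Y.index * (Y.index * (Nat.card (ConjClasses Y) * Nat.card Y)) := h2
        _ = (Y.index * Nat.card (ConjClasses Y)) * (Nat.card Y * Y.index) := by ring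
    exact Nat.lt_of_mul_lt_mul_right h3

end Cfsg.Agent.S4200
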