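import Cfsg.Statements.S4201
import Mathlib
import Cfsg.Agent.Lib.Helper74.CommPairs

set_option autoImplicit false
open Cfsg

namespace Cfsg.Agent.S4201

open Cfsg.Agent.Lib.Helper74

/-- If N is a normal subgroup of the finite group X then k(X) ≤ k(N)·k(X ⧸ N), where k denotes the number of conjugacy classes. -/
theorem result {X : Type*} [Group X] [Finite X] (N : Subgroup X) [N.Normal] : Nat.card (ConjClasses X) ≤ Nat.card (ConjClasses N) * Nat.card (ConjClasses (X ⧸ N)) := by
  classical
  let _ : Fintype (X ⧸ N) := Fintype.ofFinite _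
  set π : X → X ⧸ N := QuotientGroup.mk with hπ
  have hA : Nat.card (cp (Set.univ : Set X) (Set.univ : Set X)) = Nat.card (ConjClasses X) * Nat.card X :=
    card_cp_univ
  have hC : Nat.card (cp (N : Set X) (N : Set X)) = Nat.card (ConjClasses N) * Nat.card N :=
    card_cp_subgroup N
  have hXN : Nat.card N * N.index = Nat.card X := N.card_mul_index
  have hQ : Nat.card {p : (X ⧸ N) × (X ⧸ N) // Commute p.1 p.2} = Nat.card (ConjClasses (X ⧸ N)) * Nat.card (X ⧸ N) :=
    card_comm_eq_card_conjClasses_mul_card _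
  set c := Nat.card (cp (N : Set X) (N : Set X)) with hc
  -- the double decomposition
  have hdecomp : Nat.card (cp (Set.univ : Set X) (Set.univ : Set X)) =
      ∑ q1 : X ⧸ N, ∑ q2 : X ⧸ N, Nat.card (cp (π ⁻¹' {q1}) (π ⁻¹' {q2})) := by
    rw [card_cp_fiber π Set.univ Set.univ]
    apply Finset.sum_congr rfl
    intro q1 _
    rw [Set.univ_inter, card_cp_swap, card_cp_fiber π (π ⁻¹' {q1}) Set.univ]
    apply Finset.sum_congr rfl
    intro q2 _
    rw [Set.univ_inter]
  have hterm : ∀ q1 q2 : X ⧸ N, Nat.card (cp (π ⁻¹' {q1}) (π ⁻¹' {q2})) ≤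
      if Commute q1 q2 then c else 0 := by
    intro q1 q2
    split_ifs with hq
    · calc Nat.card (cp (π ⁻¹' {q1}) (π ⁻¹' {q2})) ≤ Nat.card (cp (π ⁻¹' {q1}) (N : Set X)) :=
            card_cp_coset_le N _ q2
        _ = Nat.card (cp (N : Set X) (π ⁻¹' {q1})) := card_cp_swap _ _
        _ ≤ c := card_cp_coset_le N _ q1
    · have hempty : cp (π ⁻¹' {q1}) (π ⁻¹' {q2}) = ∅ := by
        rw [Set.eq_empty_iff_forall_notMem]
        rintro ⟨a, b⟩ ⟨h1, h2, h3⟩
        apply hq
        simp only [Set.mem_preimage, Set.mem_singleton_iff] at h1 h2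
        rw [← h1, ← h2]
        exact h3.map (QuotientGroup.mk' N)
      rw [hempty]
      simp
  have hsum : ∑ q1 : X ⧸ N, ∑ q2 : X ⧸ N, (if Commute q1 q2 then c else 0) =
      Nat.card {p : (X ⧸ N) × (X ⧸ N) // Commute p.1 p.2} * c := by
    rw [← Fintype.sum_prod_type' (f := fun q1 q2 : X ⧸ N => if Commute q1 q2 then c else 0)]
    rw [← Finset.sum_filter, Finset.sum_const, smul_eq_mul, Nat.card_eq_fintype_card,
      Fintype.card_subtype]
  have hle : Nat.card (cp (Set.univ : Set X) (Set.univ : Set X)) ≤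
      Nat.card {p : (X ⧸ N) × (X ⧸ N) // Commute p.1 p.2} * c := by
    rw [hdecomp, ← hsum]
    exact Finset.sum_le_sum fun q1 _ => Finset.sum_le_sum fun q2 _ => hterm q1 q2
  rw [hA, hQ, hC, ← hXN, ← Subgroup.index_eq_card] at hle
  have hpos : 0 < Nat.card N * N.index :=
    Nat.mul_pos Nat.card_pos (Nat.pos_of_ne_zero Subgroup.index_ne_zero_of_finite)
  have h3 : Nat.card (ConjClasses X) * (Nat.card N * N.index) ≤
      (Nat.card (ConjClasses N) * Nat.card (ConjClasses (X ⧸ N))) * (Nat.card N * N.index) := by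
    calc Nat.card (ConjClasses X) * (Nat.card N * N.index)
        ≤ Nat.card (ConjClasses (X ⧸ N)) * N.index * (Nat.card (ConjClasses N) * Nat.card N) := hle
      _ = (Nat.card (ConjClasses N) * Nat.card (ConjClasses (X ⧸ N))) * (Nat.card N * N.index) := by ring
  exact Nat.le_of_mul_le_mul_right h3 hpos

end Cfsg.Agent.S4201
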