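import Cfsg.Statements.S4203
import Mathlib
import Cfsg.Agent.Lib.Helper14.MaxPrimeIndex
import Cfsg.Agent.Lib.Helper77.PermSmall

set_option autoImplicit false
open Cfsg

namespace Cfsg.Agent.S4203

open Subgroup

/-- The hypothesis passes to quotients. -/
theorem hyp_quotient {G : Type*} [Group G] [Finite G]
    (h : ∀ M : Subgroup G, IsCoatom M → ∃ p : ℕ, p.Prime ∧ (M.index = p ∨ M.index = p ^ 2))
    (N : Subgroup G) [N.Normal] :
    ∀ M : Subgroup (G ⧸ N), IsCoatom M → ∃ p : ℕ, p.Prime ∧ (M.index = p ∨ M.index = p ^ 2) := by
  intro M hM
  have hco := isCoatom_comap_of_surjective (QuotientGroup.mk'_surjective N) hM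
  have := h _ hco
  rwa [Subgroup.index_comap_of_surjective _ (QuotientGroup.mk'_surjective N)] at this

/-- A perfect subgroup acts trivially on a coset space with at most four points. -/
theorem le_of_perfect_of_index_le_four {G : Type*} [Group G] [Finite G] (N M : Subgroup G)
    (hperf : ⁅N, N⁆ = N) (hM : M.index ≤ 4) : N ≤ M := by
  have hsolv : Group.IsSolvable (Equiv.Perm (G ⧸ M)) := by
    apply Cfsg.Agent.Lib.Helper77.solvable_perm_of_card_le_four
    rw [← Subgroup.index_eq_card]; exact hM
  let ψ : ↥N →* Equiv.Perm (G ⧸ M) := (MulAction.toPermHom G (G ⧸ M)).comp N.subtype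
  have hP : Group.IsPerfect ↥N := Subgroup.isPerfect_iff.mpr hperf
  have hPr : Group.IsPerfect ψ.range := Group.IsPerfect.range ψ
  have hSr : Group.IsSolvable ψ.range := inferInstance
  have hsub : Subsingleton ψ.range := by
    by_contra hns
    rw [not_subsingleton_iff_nontrivial] at hns
    exact Group.IsPerfect.not_isSolvable ψ.range hSr
  intro n hn
  have h1 : ψ ⟨n, hn⟩ = 1 := by
    have := Subsingleton.elim (⟨ψ ⟨n, hn⟩, ⟨⟨n, hn⟩, rfl⟩⟩ : ψ.range) 1
    exact congrArg Subtype.val this
  have h2 : n • (QuotientGroup.mk 1 : G ⧸ M) = QuotientGroup.mk 1 := by
    have := congrArg (fun σ : Equiv.Perm (G ⧸ M) => σ (QuotientGroup.mk 1)) h1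
    exact this
  rw [MulAction.Quotient.smul_mk, smul_eq_mul, mul_one] at h2
  have h3 := QuotientGroup.eq.mp h2
  rw [mul_one] at h3
  exact (M.inv_mem_iff).mp h3

theorem aux (n : ℕ) :
    ∀ (G : Type*) [Group G] [Finite G], Nat.card G = n →
      (∀ M : Subgroup G, IsCoatom M → ∃ p : ℕ, p.Prime ∧ (M.index = p ∨ M.index = p ^ 2)) →
      Group.IsSolvable G := by
  induction n using Nat.strong_induction_on with
  | _ n ih =>
    intro G _ _ hn h
    rcases subsingleton_or_nontrivial G with hs | hnt
    · infer_instance
    · -- every nontrivial normal subgroup has solvable quotient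
      have hquot : ∀ (N : Subgroup G) [N.Normal], N ≠ ⊥ → Group.IsSolvable (G ⧸ N) := by
        intro N _ hN
        have hNcard : 1 < Nat.card N := by
          rw [Subgroup.one_lt_card_iff_ne_bot]; exact hN
        have hlt : Nat.card (G ⧸ N) < n := by
          have := Subgroup.card_eq_card_quotient_mul_card_subgroup N
          rw [← hn, this]
          have hpos : 0 < Nat.card (G ⧸ N) := Nat.card_pos
          nlinarith
        exact ih _ hlt (G ⧸ N) rfl (hyp_quotient h N)
      have hext : ∀ (N : Subgroup G) [N.Normal], N ≠ ⊥ → Group.IsSolvable ↥N → Group.IsSolvable G := by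
        intro N _ hN hNs
        have := hquot N hN
        exact (Group.isSolvable_iff_subgroup_quotient N).mpr ⟨hNs, this⟩
      have hcard : 1 < Nat.card G := Finite.one_lt_card
      have hne : (Nat.card G).primeFactors.Nonempty := by
        rw [Nat.nonempty_primeFactors]; exact hcard
      set p := (Nat.card G).primeFactors.max' hne with hpdef
      have hpmem : p ∈ (Nat.card G).primeFactors := Finset.max'_mem _ _
      have hpprime : p.Prime := Nat.prime_of_mem_primeFactors hpmem
      have hpdvd : p ∣ Nat.card G := Nat.dvd_of_mem_primeFactors hpmem
      have : Fact p.Prime := ⟨hpprime⟩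
      have hmax : ∀ q : ℕ, q.Prime → q ∣ Nat.card G → q ≤ p := by
        intro q hq hqd
        apply Finset.le_max'
        rw [Nat.mem_primeFactors]
        exact ⟨hq, hqd, by omega⟩
      obtain ⟨P⟩ : Nonempty (Sylow p G) := inferInstance
      by_cases hPn : (P : Subgroup G).Normal
      · -- Sylow normal
        have hPne : (P : Subgroup G) ≠ ⊥ := P.ne_bot_of_dvd_card hpdvd
        apply hext (P : Subgroup G) hPne
        have hnil := P.2.isNilpotent
        exact @IsNilpotent.to_isSolvable _ _ hnil
      · -- Sylow not normal: then p = 3 and coatoms above Sylow normalizers have index 4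
        have key : ∀ (P' : Sylow p G) (M : Subgroup G), IsCoatom M →
            normalizer ((P' : Subgroup G) : Set G) ≤ M → p = 3 ∧ M.index = 4 := by
          intro P' M hM hle
          have hmod := Cfsg.Agent.Lib.Helper14.index_modEq_one_of_normalizer_le P' M hle
          obtain ⟨q, hq, hidx⟩ := h M hM
          have hqdvd : q ∣ Nat.card G := by
            rcases hidx with h1 | h1
            · rw [← h1]; exact Subgroup.index_dvd_card M
            · have : q ∣ M.index := by rw [h1]; exact dvd_pow_self q (by norm_num)
              exact this.trans (Subgroup.index_dvd_card M)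
          have hqp : q ≤ p := hmax q hq hqdvd
          have hp2 : 2 ≤ p := hpprime.two_le
          have hq2 : 2 ≤ q := hq.two_le
          have hidx_pos : 1 ≤ M.index := Nat.pos_of_ne_zero Subgroup.index_ne_zero_of_finite
          have hdvd1 : p ∣ M.index - 1 := (Nat.modEq_iff_dvd' hidx_pos).mp hmod.symm
          rcases hidx with h1 | h1
          · exfalso
            rw [h1] at hdvd1
            have := Nat.le_of_dvd (by omega) hdvd1
            omega
          · rw [h1] at hdvd1
            have hsq : q ^ 2 - 1 = (q - 1) * (q + 1) := by
              obtain ⟨r, rfl⟩ : ∃ r, q = r + 1 := ⟨q - 1, by omega⟩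
              have : (r + 1) ^ 2 = (r + 1 - 1) * (r + 1 + 1) + 1 := by
                simp only [Nat.add_sub_cancel]
                ring
              rw [this, Nat.add_sub_cancel]
            rw [hsq] at hdvd1
            rcases (Nat.Prime.dvd_mul hpprime).mp hdvd1 with h5 | h5
            · exfalso
              have := Nat.le_of_dvd (by omega) h5
              omega
            · have h6 := Nat.le_of_dvd (by omega) h5
              have hpq : p = q ∨ p = q + 1 := by omega
              rcases hpq with h7 | h7
              · exfalso
                rw [h7] at h5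
                have : q ∣ 1 := (Nat.dvd_add_right (dvd_refl q)).mp h5
                have := Nat.le_of_dvd (by norm_num) this
                omega
              · have hq2' : q = 2 := by
                  rcases Nat.Prime.eq_two_or_odd hq with h8 | h8
                  · exact h8
                  · exfalso
                    rcases Nat.Prime.eq_two_or_odd hpprime with h9 | h9
                    · omega
                    · omega
                subst hq2'
                exact ⟨by omega, by rw [h1]; norm_num⟩
        -- get p = 3 from P itself
        have hnorm_ne : normalizer ((P : Subgroup G) : Set G) ≠ ⊤ := by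
          intro htop
          exact hPn (normalizer_eq_top_iff.mp htop)
        obtain ⟨M0, hM0, hle0⟩ := (eq_top_or_exists_le_coatom _).resolve_left hnorm_ne
        obtain ⟨hp3, -⟩ := key P M0 hM0 hle0
        -- primes dividing |G| are 2 or 3
        have hprimes : ∀ q : ℕ, q.Prime → q ∣ Nat.card G → q = 2 ∨ q = 3 := by
          intro q hq hqd
          have h1 := hmax q hq hqd
          have h2 := hq.two_le
          omega
        -- minimal normal subgroup
        have hfin : {K : Subgroup G | K.Normal ∧ K ≠ ⊥}.Finite := Set.toFinite _
        have hnonempty : {K : Subgroup G | K.Normal ∧ K ≠ ⊥}.Nonempty :=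
          ⟨⊤, inferInstance, top_ne_bot⟩
        obtain ⟨N, ⟨hNn, hNne⟩, hNmin⟩ :=
          Set.exists_min_image _ (fun K : Subgroup G => Nat.card K) hfin hnonempty
        have hminimal : ∀ K : Subgroup G, K.Normal → K ≤ N → K = ⊥ ∨ K = N := by
          intro K hKn hKN
          by_cases hK : K = ⊥
          · exact Or.inl hK
          · right
            exact Subgroup.eq_of_le_of_card_ge hKN (hNmin K ⟨hKn, hK⟩)
        apply hext N hNne
        -- N is solvable
        have hcomm_normal : (⁅N, N⁆ : Subgroup G).Normal := Subgroup.commutator_normal N N
        rcases hminimal ⁅N, N⁆ hcomm_normal (Subgroup.commutator_le_left N N) with hcb | hcN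
        · -- abelian
          have hle : N ≤ centralizer (N : Set G) := Subgroup.commutator_eq_bot_iff_le_centralizer.mp hcb
          apply Group.isSolvable_of_comm
          intro a b
          apply Subtype.ext
          have := hle a.2 b.1 b.2
          exact this.symm
        · -- perfect: derive that N is a p-group anyway
          obtain ⟨P1⟩ : Nonempty (Sylow p ↥N) := inferInstance
          have hfrat := Sylow.normalizer_sup_eq_top P1
          by_cases hn1 : normalizer (((P1 : Subgroup ↥N).map N.subtype : Subgroup G) : Set G) = ⊤
          · have hP1n : ((P1 : Subgroup ↥N).map N.subtype).Normal := normalizer_eq_top_iff.mp hn1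
            have hP1le : (P1 : Subgroup ↥N).map N.subtype ≤ N := Subgroup.map_subtype_le _
            rcases hminimal _ hP1n hP1le with hb | hb
            · -- Sylow 3 of N trivial: N is a 2-group
              have hP1bot : (P1 : Subgroup ↥N) = ⊥ := by
                rw [← Subgroup.map_eq_bot_iff_of_injective _ N.subtype_injective]; exact hb
              have h3ndvd : ¬ p ∣ Nat.card ↥N := by
                intro hd
                exact P1.ne_bot_of_dvd_card hd hP1bot
              have h2grp : IsPGroup 2 ↥N := by
                have : Fact (Nat.Prime 2) := ⟨Nat.prime_two⟩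
                obtain ⟨k, hk⟩ : ∃ k, Nat.card ↥N = 2 ^ k := by
                  refine ⟨_, Nat.eq_prime_pow_of_unique_prime_dvd Nat.card_pos.ne' ?_⟩
                  intro q hq hqd
                  rcases hprimes q hq (hqd.trans (Subgroup.card_subgroup_dvd_card N)) with h2 | h3
                  · exact h2
                  · exfalso; apply h3ndvd; rw [hp3, ← h3]; exact hqd
                exact IsPGroup.of_card hk
              have hnil := h2grp.isNilpotent
              exact @IsNilpotent.to_isSolvable _ _ hnil
            · -- N is a p-group
              have hpg : IsPGroup p ↥N := by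
                have h1 : IsPGroup p ↥((P1 : Subgroup ↥N).map N.subtype) := P1.2.map N.subtype
                rw [hb] at h1
                exact h1
              have hnil := hpg.isNilpotent
              exact @IsNilpotent.to_isSolvable _ _ hnil
          · exfalso
            obtain ⟨M1, hM1, hle1⟩ := (eq_top_or_exists_le_coatom _).resolve_left hn1
            -- a Sylow of G containing P1
            have hpg1 : IsPGroup p ↥((P1 : Subgroup ↥N).map N.subtype) := P1.2.map N.subtype
            obtain ⟨P', hP'⟩ := hpg1.exists_le_sylow
            -- P' ⊓ N = image of P1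
            have hinf : (P' : Subgroup G) ⊓ N = (P1 : Subgroup ↥N).map N.subtype := by
              have h1 : IsPGroup p ↥(((P' : Subgroup G) ⊓ N).subgroupOf N) :=
                (P'.2.to_le inf_le_left).comap_subtype
              have h2 : (P1 : Subgroup ↥N) ≤ ((P' : Subgroup G) ⊓ N).subgroupOf N := by
                intro x hx
                rw [Subgroup.mem_subgroupOf]
                exact ⟨hP' ⟨x, hx, rfl⟩, x.2⟩
              have h3 := P1.3 h1 h2
              rw [← h3, Subgroup.subgroupOf_map_subtype, inf_assoc, inf_idem]
            have hle2 : normalizer ((P' : Subgroup G) : Set G) ≤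
                normalizer (((P1 : Subgroup ↥N).map N.subtype : Subgroup G) : Set G) := by
              rw [← hinf]
              intro g hg
              rw [Subgroup.mem_normalizer_iff] at hg ⊢
              intro x
              rw [Subgroup.mem_inf, Subgroup.mem_inf, ← hg x]
              constructor
              · rintro ⟨h1, h2⟩
                exact ⟨h1, hNn.conj_mem x h2 g⟩
              · rintro ⟨h1, h2⟩
                refine ⟨h1, ?_⟩
                have := hNn.conj_mem _ h2 g⁻¹
                simpa [mul_assoc] using this
            obtain ⟨-, hidx⟩ := key P' M1 hM1 (hle2.trans hle1)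
            have hNM1 : N ≤ M1 := le_of_perfect_of_index_le_four N M1 hcN (by omega)
            have : (⊤ : Subgroup G) ≤ M1 := by
              rw [← hfrat]
              exact sup_le hle1 hNM1
            exact hM1.1 (top_le_iff.mp this)

/-- A finite group in which every maximal subgroup has index a prime or the square of a prime is solvable. -/
theorem result {G : Type*} [Group G] [Finite G] (h : ∀ M : Subgroup G, IsCoatom M → ∃ p : ℕ, p.Prime ∧ (M.index = p ∨ M.index = p ^ 2)) : Group.IsSolvable G :=
  aux _ G rfl h

end Cfsg.Agent.S4203
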