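import Cfsg.Statements.S4204

set_option autoImplicit false
open Cfsg

namespace Cfsg.Agent.S4204

/-- The subgroup of elements commuting with `Y` modulo the normal subgroup `Z`. -/
def centMod {G : Type*} [Group G] (Y Z : Subgroup G) [Z.Normal] : Subgroup G :=
  (Subgroup.centralizer ((Y.map (QuotientGroup.mk' Z) : Subgroup (G ⧸ Z)) : Set (G ⧸ Z))).comap
    (QuotientGroup.mk' Z)

theorem comm_le_iff {G : Type*} [Group G] (X Y Z : Subgroup G) [Z.Normal] :
    ⁅X, Y⁆ ≤ Z ↔ X ≤ centMod Y Z := by
  unfold centMod
  rw [← Subgroup.map_le_iff_le_comap, ← Subgroup.commutator_eq_bot_iff_le_centralizer,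
    ← Subgroup.map_commutator, Subgroup.map_eq_bot_iff, QuotientGroup.ker_mk']

/-- extended lower central series: index 0 gives the whole group -/
def ext {G : Type*} [Group G] (H : Subgroup G) : ℕ → Subgroup G
  | 0 => ⊤
  | (i + 1) => H.lowerCentralSeries i

instance ext_normal {G : Type*} [Group G] (H : Subgroup G) [H.Normal] (i : ℕ) : (ext H i).Normal := by
  cases i with
  | zero => exact Subgroup.normal_top
  | succ i => exact Subgroup.lowerCentralSeries_normal H i

theorem ext_comm_le {G : Type*} [Group G] (H : Subgroup G) [H.Normal] (i : ℕ) :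
    ⁅ext H i, H⁆ ≤ ext H (i + 1) := by
  cases i with
  | zero => exact Subgroup.commutator_le_right (H₁ := ⊤) (H₂ := H)
  | succ i => exact le_rfl

theorem ext_eq_bot {G : Type*} [Group G] (H : Subgroup G) (c : ℕ) (hH : H.lowerCentralSeries c = ⊥)
    (i : ℕ) (hi : c + 1 ≤ i) : ext H i = ⊥ := by
  obtain ⟨k, rfl⟩ := Nat.exists_eq_add_of_le hi
  have : ext H (c + 1 + k) = H.lowerCentralSeries (c + k) := by
    have : c + 1 + k = (c + k) + 1 := by ring
    rw [this]; rfl
  rw [this, eq_bot_iff, ← hH]
  exact H.lowerCentralSeries_antitone (Nat.le_add_right c k)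

/-- the product of the `ext H i ⊓ ext K j` with `i + j = m` -/
def T {G : Type*} [Group G] (H K : Subgroup G) (m : ℕ) : Subgroup G :=
  ⨆ (i : ℕ) (j : ℕ) (_ : i + j = m), ext H i ⊓ ext K j

instance T_normal {G : Type*} [Group G] (H K : Subgroup G) [H.Normal] [K.Normal] (m : ℕ) :
    (T H K m).Normal := by
  unfold T
  infer_instance

theorem le_T {G : Type*} [Group G] (H K : Subgroup G) (i j m : ℕ) (h : i + j = m) :
    ext H i ⊓ ext K j ≤ T H K m := by
  unfold T
  exact le_iSup_of_le i (le_iSup_of_le j (le_iSup_of_le h le_rfl))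

theorem T_le {G : Type*} [Group G] (H K : Subgroup G) (m : ℕ) (X : Subgroup G)
    (h : ∀ i j, i + j = m → ext H i ⊓ ext K j ≤ X) : T H K m ≤ X := by
  unfold T
  exact iSup_le fun i => iSup_le fun j => iSup_le fun hij => h i j hij

theorem lcs_le_T {G : Type*} [Group G] (H K : Subgroup G) [H.Normal] [K.Normal] (n : ℕ) :
    (H ⊔ K).lowerCentralSeries n ≤ T H K (n + 1) := by
  induction n with
  | zero =>
    rw [Subgroup.lowerCentralSeries_zero]
    apply sup_le
    · refine le_trans ?_ (le_T H K 1 0 1 rfl)
      simp [ext]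
    · refine le_trans ?_ (le_T H K 0 1 1 rfl)
      simp [ext]
  | succ n ih =>
    rw [Subgroup.lowerCentralSeries_succ]
    refine le_trans (Subgroup.commutator_mono ih le_rfl) ?_
    rw [comm_le_iff]
    refine T_le H K _ _ fun i j hij => ?_
    rw [← comm_le_iff, Subgroup.commutator_comm, comm_le_iff]
    apply sup_le
    · rw [← comm_le_iff, Subgroup.commutator_comm]
      refine le_trans ?_ (le_T H K (i + 1) j (n + 1 + 1) (by omega))
      apply le_inf
      · exact le_trans (Subgroup.commutator_mono inf_le_left le_rfl) (ext_comm_le H i)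
      · exact le_trans (Subgroup.commutator_mono inf_le_right le_rfl) (Subgroup.commutator_le_left _ _)
    · rw [← comm_le_iff, Subgroup.commutator_comm]
      refine le_trans ?_ (le_T H K i (j + 1) (n + 1 + 1) (by omega))
      apply le_inf
      · exact le_trans (Subgroup.commutator_mono inf_le_left le_rfl) (Subgroup.commutator_le_left _ _)
      · exact le_trans (Subgroup.commutator_mono inf_le_right le_rfl) (ext_comm_le K j)

/-- If `H` and `K` are normal subgroups of a finite group with `H` nilpotent of class at most `c` and `K` nilpotent of class at most `d` (the terms with index `c`, respectively `d`, of their lower central series are trivial, indices starting at `0`), then `HK` is nilpotent of class at most `c + d`. -/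
theorem result {G : Type*} [Group G] [Finite G] (H K : Subgroup G) [H.Normal] [K.Normal] (c d : ℕ) (hH : H.lowerCentralSeries c = ⊥) (hK : K.lowerCentralSeries d = ⊥) : (H ⊔ K).lowerCentralSeries (c + d) = ⊥ := by
  rw [eq_bot_iff]
  refine le_trans (lcs_le_T H K (c + d)) ?_
  refine T_le H K _ _ fun i j hij => ?_
  rcases Nat.lt_or_ge c i with h | h
  · rw [ext_eq_bot H c hH i h]; simp
  · have hj : d + 1 ≤ j := by omega
    rw [ext_eq_bot K d hK j hj]; simp

end Cfsg.Agent.S4204
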