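import Cfsg.Statements.S4205

set_option autoImplicit false
open Cfsg

namespace Cfsg.Agent.S4205

theorem aux {G : Type*} [Group G] (H : Subgroup G) (i : ℕ) :
    Subgroup.upperCentralSeries G i ≤ (fun K : Subgroup G => Subgroup.normalizer (K : Set G))^[i] H := by
  induction i with
  | zero => simp
  | succ i ih =>
    rw [Function.iterate_succ_apply']
    set K := (fun K : Subgroup G => Subgroup.normalizer (K : Set G))^[i] H with hK
    intro z hz
    have key : ∀ w ∈ Subgroup.upperCentralSeries G (i+1), ∀ k ∈ K, w * k * w⁻¹ ∈ K := by
      intro w hw k hk
      have h1 : w * k * w⁻¹ * k⁻¹ ∈ K := ih ((Subgroup.mem_upperCentralSeries_succ_iff).1 hw k)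
      have h2 := K.mul_mem h1 hk
      simpa using h2
    rw [Subgroup.mem_normalizer_iff]
    intro k
    constructor
    · intro hk
      exact key z hz k hk
    · intro hk
      have := key z⁻¹ (inv_mem hz) _ hk
      simpa [mul_assoc] using this

/-- In a finite group whose upper central series reaches the whole group at step `c` (nilpotent of class at most `c`), starting from any subgroup and taking normalizers `c` times reaches the whole group. -/
theorem result {G : Type*} [Group G] [Finite G] (c : ℕ) (hG : Subgroup.upperCentralSeries G c = ⊤) (H : Subgroup G) : (fun K : Subgroup G => Subgroup.normalizer (K : Set G))^[c] H = ⊤ := by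
  rw [eq_top_iff, ← hG]
  exact aux H c

end Cfsg.Agent.S4205
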