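import Cfsg.Statements.S4211
import Mathlib
import Cfsg.Agent.Lib.Helper59.QuaternionIso

set_option autoImplicit false
open Cfsg

namespace Cfsg.Agent.S4211


variable {G : Type*} [Group G]

theorem conj_mem_zpowers (hn : ∀ H : Subgroup G, H.Normal) (x g : G) :
    g * x * g⁻¹ ∈ Subgroup.zpowers x :=
  (hn (Subgroup.zpowers x)).conj_mem x (Subgroup.mem_zpowers x) g

theorem comm_of_mem_zpowers {x c : G} (h : c ∈ Subgroup.zpowers x) : c * x = x * c := by
  obtain ⟨k, rfl⟩ := Subgroup.mem_zpowers_iff.1 h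
  exact ((Commute.refl x).zpow_left k).eq

theorem comm_mem_left (hn : ∀ H : Subgroup G, H.Normal) (x y : G) :
    x * y * x⁻¹ * y⁻¹ ∈ Subgroup.zpowers x := by
  have h1 : y * x⁻¹ * y⁻¹ ∈ Subgroup.zpowers x := by
    have := conj_mem_zpowers hn x⁻¹ y
    rwa [Subgroup.zpowers_inv] at this
  have h2 := mul_mem (Subgroup.mem_zpowers x) h1
  convert h2 using 1
  group

theorem comm_mem_right (hn : ∀ H : Subgroup G, H.Normal) (x y : G) :
    x * y * x⁻¹ * y⁻¹ ∈ Subgroup.zpowers y := by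
  have h1 := conj_mem_zpowers hn y x
  exact mul_mem h1 (inv_mem (Subgroup.mem_zpowers y))

/-- if `x y x⁻¹ = c y` with `c` commuting with `x` then `x^k y x^(-k) = c^k y` -/
theorem pow_conj {x y c : G} (hc : c * x = x * c) (h : x * y = c * y * x) (k : ℕ) :
    x ^ k * y = c ^ k * y * x ^ k := by
  induction k with
  | zero => simp
  | succ k ih =>
    have hck : c ^ k * x = x * c ^ k := ((Commute.pow_left (show Commute c x from hc) k)).eq
    calc x ^ (k + 1) * y = x * (x ^ k * y) := by rw [pow_succ']; group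
      _ = x * (c ^ k * y * x ^ k) := by rw [ih]
      _ = (x * c ^ k) * y * x ^ k := by group
      _ = c ^ k * (x * y) * x ^ k := by rw [← hck]; group
      _ = c ^ k * (c * y * x) * x ^ k := by rw [h]
      _ = c ^ (k + 1) * y * x ^ (k + 1) := by rw [pow_succ, pow_succ']; group

/-- the power of a product when `b a = d a b` with `d` commuting with `a` and `b` -/
theorem mul_pow_comm {a b d : G} (hda : d * a = a * d) (hdb : d * b = b * d)
    (hba : b * a = d * a * b) (n : ℕ) :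
    (a * b) ^ n = a ^ n * b ^ n * d ^ (n.choose 2) := by
  have cda : Commute d a := hda
  have cdb : Commute d b := hdb
  induction n with
  | zero => simp
  | succ n ih =>
    have h1 := pow_conj hdb hba n
    have hch : (n + 1).choose 2 = n + n.choose 2 := by
      rw [Nat.choose_succ_succ' n 1, Nat.choose_one_right]
    have e1 : d ^ (n.choose 2) * (a * b) = (a * b) * d ^ (n.choose 2) :=
      ((cda.mul_right cdb).pow_left _).eq
    have e2 : a ^ n * d ^ n = d ^ n * a ^ n := ((cda.pow_pow n n).symm).eq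
    have e3 : d ^ n * (a ^ (n + 1) * b ^ (n + 1)) = (a ^ (n + 1) * b ^ (n + 1)) * d ^ n :=
      (((cda.pow_right (n + 1)).mul_right (cdb.pow_right (n + 1))).pow_left n).eq
    calc (a * b) ^ (n + 1) = (a * b) ^ n * (a * b) := pow_succ _ _
      _ = a ^ n * b ^ n * d ^ (n.choose 2) * (a * b) := by rw [ih]
      _ = a ^ n * (b ^ n * a) * b * d ^ (n.choose 2) := by
        rw [mul_assoc (a ^ n * b ^ n), e1]; group
      _ = a ^ n * (d ^ n * a * b ^ n) * b * d ^ (n.choose 2) := by rw [h1]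
      _ = (a ^ n * d ^ n) * (a * b ^ n * b) * d ^ (n.choose 2) := by group
      _ = (d ^ n * a ^ n) * (a * b ^ n * b) * d ^ (n.choose 2) := by rw [e2]
      _ = d ^ n * (a ^ (n + 1) * b ^ (n + 1)) * d ^ (n.choose 2) := by
        rw [pow_succ, pow_succ]; group
      _ = a ^ (n + 1) * b ^ (n + 1) * (d ^ n * d ^ (n.choose 2)) := by
        rw [e3]; group
      _ = a ^ (n + 1) * b ^ (n + 1) * d ^ ((n + 1).choose 2) := by
        rw [← pow_add, hch]

theorem choose_lemma (p β : ℕ) (hp : p.Prime) (hβ : 1 ≤ β)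
    (h : ¬ p ∣ (p ^ (β - 1)).choose 2) : p = 2 ∧ β = 2 := by
  obtain ⟨b, rfl⟩ : ∃ b, β = b + 1 := ⟨β - 1, by omega⟩
  simp only [Nat.add_sub_cancel] at h
  rcases Nat.eq_zero_or_pos b with rfl | hb
  · exfalso; apply h; simp
  obtain ⟨b', rfl⟩ : ∃ b', b = b' + 1 := ⟨b - 1, by omega⟩
  set k := p ^ (b' + 1) with hk
  have h2 : 2 * k.choose 2 = k * (k - 1) := by
    rw [Nat.choose_two_right, Nat.mul_div_cancel' (Nat.even_mul_pred_self k).two_dvd]
  have hpk : p ∣ k := dvd_pow_self p (by omega)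
  have hp2 : p = 2 := by
    by_contra hne
    have h3 : p ∣ 2 * k.choose 2 := by rw [h2]; exact hpk.mul_right _
    rcases (Nat.Prime.dvd_mul hp).1 h3 with h4 | h4
    · exact hne ((Nat.prime_dvd_prime_iff_eq hp Nat.prime_two).1 h4)
    · exact h h4
  subst hp2
  refine ⟨rfl, ?_⟩
  by_contra hne
  have hb' : 1 ≤ b' := by omega
  apply h
  have h3 : k = 2 * 2 ^ b' := by rw [hk, pow_succ]; ring
  have h4 : k.choose 2 = 2 ^ b' * (k - 1) := by
    have : 2 * k.choose 2 = 2 * (2 ^ b' * (k - 1)) := by rw [h2, h3]; ring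
    omega
  rw [h4]
  exact (dvd_pow_self 2 (by omega)).mul_right _

/-- in a cyclic group of order `p ^ α` the elements with `g ^ p = 1` are powers of
`x ^ (p ^ (α - 1))` -/
theorem mem_omega [Finite G] {x c : G} {p α : ℕ} (hα : 1 ≤ α) (hx : orderOf x = p ^ α)
    (hp : p.Prime) (hc : c ∈ Subgroup.zpowers x) (hcp : c ^ p = 1) :
    ∃ j : ℕ, c = (x ^ (p ^ (α - 1))) ^ j := by
  obtain ⟨j, rfl⟩ := (Submonoid.mem_powers_iff _ _).1 ((mem_powers_iff_mem_zpowers).2 hc)
  rw [← pow_mul] at hcp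
  have h1 := orderOf_dvd_of_pow_eq_one hcp
  rw [hx] at h1
  have h2 : p ^ α = p ^ (α - 1) * p := by rw [← pow_succ]; congr 1; omega
  rw [h2] at h1
  have h3 : p ^ (α - 1) ∣ j := Nat.dvd_of_mul_dvd_mul_right hp.pos h1
  obtain ⟨j', rfl⟩ := h3
  exact ⟨j', by rw [pow_mul]⟩

theorem orderOf_omega {x : G} {p α : ℕ} (hα : 1 ≤ α) (hx : orderOf x = p ^ α)
    (hp : p.Prime) : orderOf (x ^ (p ^ (α - 1))) = p := by
  rw [orderOf_pow_of_dvd (pow_pos hp.pos _).ne' (by rw [hx]; exact pow_dvd_pow p (by omega)), hx]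
  have h2 : p ^ α = p ^ (α - 1) * p := by rw [← pow_succ]; congr 1; omega
  rw [h2, Nat.mul_div_cancel_left _ (pow_pos hp.pos _)]

theorem core [Finite G] (hn : ∀ H : Subgroup G, H.Normal) (x y : G) (hxy : x * y ≠ y * x)
    (hmin : ∀ x' y' : G, x' * y' ≠ y' * x' → orderOf x + orderOf y ≤ orderOf x' + orderOf y')
    (hle : orderOf y ≤ orderOf x) :
    orderOf x = 4 ∧ y * y = x ^ 2 ∧ y * x * y⁻¹ = x⁻¹ := by
  set c := x * y * x⁻¹ * y⁻¹ with hc
  have hc1 : c ≠ 1 := by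
    intro h; apply hxy
    have : x * y = c * y * x := by rw [hc]; group
    rw [this, h, one_mul]
  have hcx : c ∈ Subgroup.zpowers x := comm_mem_left hn x y
  have hcy : c ∈ Subgroup.zpowers y := comm_mem_right hn x y
  have ccx : c * x = x * c := comm_of_mem_zpowers hcx
  have ccy : c * y = y * c := comm_of_mem_zpowers hcy
  have hxyc : x * y = c * y * x := by rw [hc]; group
  have hyxc : y * x = c⁻¹ * x * y := by rw [hc]; group
  have ccy' : c⁻¹ * y = y * c⁻¹ := ((show Commute c y from ccy).inv_left).eq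
  -- primes dividing the orders kill `c`
  have fact_x : ∀ ℓ : ℕ, ℓ.Prime → ℓ ∣ orderOf x → c ^ ℓ = 1 := by
    intro ℓ hℓ hd
    have hox : 0 < orderOf x := orderOf_pos x
    have h1 : orderOf (x ^ ℓ) = orderOf x / ℓ := orderOf_pow_of_dvd hℓ.ne_zero hd
    have h2 : orderOf x / ℓ < orderOf x := Nat.div_lt_self hox hℓ.one_lt
    have h3 : x ^ ℓ * y = y * x ^ ℓ := by
      by_contra h
      have := hmin (x ^ ℓ) y h
      omega
    have h4 := pow_conj ccx hxyc ℓ
    rw [h3, mul_assoc] at h4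
    exact (right_eq_mul.1 h4)
  have fact_y : ∀ ℓ : ℕ, ℓ.Prime → ℓ ∣ orderOf y → c ^ ℓ = 1 := by
    intro ℓ hℓ hd
    have hoy : 0 < orderOf y := orderOf_pos y
    have h1 : orderOf (y ^ ℓ) = orderOf y / ℓ := orderOf_pow_of_dvd hℓ.ne_zero hd
    have h2 : orderOf y / ℓ < orderOf y := Nat.div_lt_self hoy hℓ.one_lt
    have h3 : y ^ ℓ * x = x * y ^ ℓ := by
      by_contra h
      have := hmin x (y ^ ℓ) (fun h' => h h'.symm)
      omega
    have h4 := pow_conj ccy' hyxc ℓ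
    rw [h3, mul_assoc] at h4
    have h5 := right_eq_mul.1 h4
    rwa [inv_pow, inv_eq_one] at h5
  have hx1 : orderOf x ≠ 1 := by
    intro h; rw [orderOf_eq_one_iff] at h; apply hxy; rw [h]; simp
  have hy1 : orderOf y ≠ 1 := by
    intro h; rw [orderOf_eq_one_iff] at h; apply hxy; rw [h]; simp
  -- the order of `c` is a prime `p`
  obtain ⟨p, hp, hcp⟩ : ∃ p : ℕ, p.Prime ∧ orderOf c = p := by
    refine ⟨(orderOf x).minFac, Nat.minFac_prime hx1, ?_⟩
    have h1 := fact_x _ (Nat.minFac_prime hx1) (Nat.minFac_dvd _)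
    have h2 := orderOf_dvd_of_pow_eq_one h1
    rcases (Nat.dvd_prime (Nat.minFac_prime hx1)).1 h2 with h | h
    · exact absurd (orderOf_eq_one_iff.1 h) hc1
    · exact h
  have hcpow : c ^ p = 1 := by rw [← hcp]; exact pow_orderOf_eq_one c
  have hpx : ∀ ℓ : ℕ, ℓ.Prime → ℓ ∣ orderOf x → ℓ = p := by
    intro ℓ hℓ hd
    have h2 := orderOf_dvd_of_pow_eq_one (fact_x ℓ hℓ hd)
    rw [hcp] at h2
    exact ((Nat.prime_dvd_prime_iff_eq hp hℓ).1 h2).symm
  have hpy : ∀ ℓ : ℕ, ℓ.Prime → ℓ ∣ orderOf y → ℓ = p := by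
    intro ℓ hℓ hd
    have h2 := orderOf_dvd_of_pow_eq_one (fact_y ℓ hℓ hd)
    rw [hcp] at h2
    exact ((Nat.prime_dvd_prime_iff_eq hp hℓ).1 h2).symm
  obtain ⟨α, hα⟩ : ∃ α, orderOf x = p ^ α :=
    ⟨_, Nat.eq_prime_pow_of_unique_prime_dvd (orderOf_pos x).ne' (fun hd hdvd => hpx _ hd hdvd)⟩
  obtain ⟨β, hβ⟩ : ∃ β, orderOf y = p ^ β :=
    ⟨_, Nat.eq_prime_pow_of_unique_prime_dvd (orderOf_pos y).ne' (fun hd hdvd => hpy _ hd hdvd)⟩
  have hα1 : 1 ≤ α := by
    rcases Nat.eq_zero_or_pos α with h | h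
    · rw [h, pow_zero] at hα; exact absurd hα hx1
    · exact h
  have hβ1 : 1 ≤ β := by
    rcases Nat.eq_zero_or_pos β with h | h
    · rw [h, pow_zero] at hβ; exact absurd hβ hy1
    · exact h
  have hβα : β ≤ α := by
    rw [hα, hβ] at hle
    exact (Nat.pow_le_pow_iff_right hp.one_lt).1 hle
  set x₀ := x ^ (p ^ (α - 1)) with hx₀
  set y₀ := y ^ (p ^ (β - 1)) with hy₀
  have hox₀ : orderOf x₀ = p := orderOf_omega hα1 hα hp
  have hoy₀ : orderOf y₀ = p := orderOf_omega hβ1 hβ hp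
  obtain ⟨jx, hjx⟩ := mem_omega hα1 hα hp hcx hcpow
  obtain ⟨jy, hjy⟩ := mem_omega hβ1 hβ hp hcy hcpow
  have hzx : Subgroup.zpowers c = Subgroup.zpowers x₀ := by
    apply Subgroup.eq_of_le_of_card_ge
    · rw [Subgroup.zpowers_le, hjx]; exact Subgroup.pow_mem _ (Subgroup.mem_zpowers _) _
    · rw [Nat.card_zpowers, Nat.card_zpowers, hcp, hox₀]
  have hzy : Subgroup.zpowers c = Subgroup.zpowers y₀ := by
    apply Subgroup.eq_of_le_of_card_ge
    · rw [Subgroup.zpowers_le, hjy]; exact Subgroup.pow_mem _ (Subgroup.mem_zpowers _) _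
    · rw [Nat.card_zpowers, Nat.card_zpowers, hcp, hoy₀]
  have hy₀x : y₀ ∈ Subgroup.zpowers x₀ := by
    rw [← hzx, hzy]; exact Subgroup.mem_zpowers _
  obtain ⟨t, ht⟩ := (Submonoid.mem_powers_iff _ _).1 ((mem_powers_iff_mem_zpowers).2 hy₀x)
  -- the element `z`
  set s := t * p ^ (α - β) with hs
  set z := x ^ s with hz
  set k := p ^ (β - 1) with hk
  have hzk : z ^ k = y₀ := by
    rw [hz, ← pow_mul, hs, hk, mul_assoc, ← pow_add,
      show α - β + (β - 1) = α - 1 by omega, mul_comm, pow_mul, ← hx₀, ht]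
  have czx : z * x = x * z := by rw [hz]; exact ((Commute.refl x).pow_left s).eq
  have hy₁ : x * (z⁻¹ * y) ≠ (z⁻¹ * y) * x := by
    intro h
    apply hxy
    have h1 : z⁻¹ * x = x * z⁻¹ := ((show Commute z x from czx).inv_left).eq
    have h2 : z⁻¹ * (x * y) = z⁻¹ * (y * x) := by
      rw [← mul_assoc, h1, mul_assoc, h]; group
    exact mul_left_cancel h2
  have hord := hmin x (z⁻¹ * y) hy₁
  -- the commutation relation between `y` and `z⁻¹`
  have hzy' : z * y = c ^ s * y * z := pow_conj ccx hxyc s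
  have ccs_z : c ^ s * z = z * c ^ s := by
    rw [hz]; exact ((show Commute c x from ccx).pow_pow s s).eq
  have hba : y * z⁻¹ = c ^ s * z⁻¹ * y := by
    have h1 : y = z⁻¹ * (c ^ s * y * z) := by rw [← hzy']; group
    have h2 : c ^ s * z⁻¹ = z⁻¹ * c ^ s := ((show Commute (c ^ s) z from ccs_z).inv_right).eq
    calc y * z⁻¹ = z⁻¹ * (c ^ s * y * z) * z⁻¹ := by rw [← h1]
      _ = (z⁻¹ * c ^ s) * y := by group
      _ = c ^ s * z⁻¹ * y := by rw [h2]
  have hda : c ^ s * z⁻¹ = z⁻¹ * c ^ s := ((show Commute (c ^ s) z from ccs_z).inv_right).eq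
  have hdb : c ^ s * y = y * c ^ s := ((show Commute c y from ccy).pow_left s).eq
  have hpow := mul_pow_comm hda hdb hba k
  have h1k : z⁻¹ ^ k * y ^ k = 1 := by
    rw [inv_pow, hzk, ← hy₀]; group
  rw [h1k, one_mul, ← pow_mul] at hpow
  have hnd : ¬ p ∣ s * k.choose 2 := by
    intro hd
    obtain ⟨m, hm⟩ := hd
    rw [hm, pow_mul, hcpow, one_pow] at hpow
    have h1 := orderOf_dvd_of_pow_eq_one hpow
    have h2 : orderOf (z⁻¹ * y) ≤ k := Nat.le_of_dvd (pow_pos hp.pos _) h1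
    have h3 : k < p ^ β := by
      rw [hk]; exact Nat.pow_lt_pow_right hp.one_lt (by omega)
    omega
  have hαβ : α = β := by
    by_contra hne
    apply hnd
    have : p ∣ p ^ (α - β) := dvd_pow_self p (by omega)
    rw [hs]
    exact ((this.mul_left t)).mul_right _
  have hch : ¬ p ∣ (p ^ (β - 1)).choose 2 := fun h => hnd (h.mul_left s)
  obtain ⟨rfl, rfl⟩ := choose_lemma p β hp hβ1 hch
  subst hαβ
  have hx4 : orderOf x = 4 := by rw [hα]; norm_num
  have hy4 : orderOf y = 4 := by rw [hβ]; norm_num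
  -- `c = x ^ 2 = y ^ 2`
  have hcx2 : c = x ^ 2 := by
    have h0 : x₀ = x ^ 2 := by rw [hx₀]; norm_num
    have hx₀2 : x₀ ^ 2 = 1 := by rw [← hox₀]; exact pow_orderOf_eq_one _
    rw [← h0, hjx]
    rcases Nat.even_or_odd' jx with ⟨m, hm | hm⟩
    · exfalso; apply hc1; rw [hjx, hm, pow_mul, hx₀2, one_pow]
    · rw [hm, pow_succ, pow_mul, hx₀2, one_pow, one_mul]
  have hcy2 : c = y ^ 2 := by
    have h0 : y₀ = y ^ 2 := by rw [hy₀]; norm_num
    have hy₀2 : y₀ ^ 2 = 1 := by rw [← hoy₀]; exact pow_orderOf_eq_one _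
    rw [← h0, hjy]
    rcases Nat.even_or_odd' jy with ⟨m, hm | hm⟩
    · exfalso; apply hc1; rw [hjy, hm, pow_mul, hy₀2, one_pow]
    · rw [hm, pow_succ, pow_mul, hy₀2, one_pow, one_mul]
  refine ⟨hx4, ?_, ?_⟩
  · rw [← pow_two, ← hcy2, hcx2]
  · have h1 : x * y * x⁻¹ * y⁻¹ = x ^ 2 := by rw [← hc, hcx2]
    have h2 : y * x⁻¹ * y⁻¹ = x := by
      have : y * x⁻¹ * y⁻¹ = x⁻¹ * (x * y * x⁻¹ * y⁻¹) := by group
      rw [this, h1]; group
    have h3 : y * x * y⁻¹ = (y * x⁻¹ * y⁻¹)⁻¹ := by group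
    rw [h3, h2]

theorem exists_quaternion_pair [Finite G] (hn : ∀ H : Subgroup G, H.Normal)
    (hna : ∃ x y : G, x * y ≠ y * x) :
    ∃ x y : G, orderOf x = 4 ∧ y * y = x ^ 2 ∧ y * x * y⁻¹ = x⁻¹ ∧ x * y ≠ y * x := by
  classical
  have hex : ∃ n : ℕ, ∃ x y : G, x * y ≠ y * x ∧ orderOf x + orderOf y = n := by
    obtain ⟨x, y, h⟩ := hna
    exact ⟨_, x, y, h, rfl⟩
  obtain ⟨x, y, hxy, hsum⟩ := Nat.find_spec hex
  have hmin : ∀ x' y' : G, x' * y' ≠ y' * x' → orderOf x + orderOf y ≤ orderOf x' + orderOf y' := by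
    intro x' y' h
    rw [hsum]
    exact Nat.find_min' hex ⟨x', y', h, rfl⟩
  rcases le_total (orderOf y) (orderOf x) with hle | hle
  · obtain ⟨h1, h2, h3⟩ := core hn x y hxy hmin hle
    exact ⟨x, y, h1, h2, h3, hxy⟩
  · have hmin' : ∀ x' y' : G, x' * y' ≠ y' * x' →
        orderOf y + orderOf x ≤ orderOf x' + orderOf y' := by
      intro x' y' h
      have := hmin x' y' h
      omega
    obtain ⟨h1, h2, h3⟩ := core hn y x (fun h => hxy h.symm) hmin' hle
    exact ⟨y, x, h1, h2, h3, fun h => hxy h.symm⟩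

/-- a conjugate of an element of order four lying in its cyclic group is the element or
its inverse -/
theorem conj_order_four (hn : ∀ H : Subgroup G, H.Normal) (x g : G) (hx : orderOf x = 4) :
    g * x * g⁻¹ = x ∨ g * x * g⁻¹ = x⁻¹ := by
  have h1 := conj_mem_zpowers hn x g
  have hfin : IsOfFinOrder x := by rw [← orderOf_pos_iff, hx]; norm_num
  obtain ⟨j, hj⟩ := (Submonoid.mem_powers_iff _ _).1 ((hfin.mem_powers_iff_mem_zpowers).2 h1)
  have h4 : x ^ 4 = 1 := by rw [← hx]; exact pow_orderOf_eq_one x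
  have h2 : x ^ 2 ≠ 1 := by
    intro h
    have := orderOf_dvd_of_pow_eq_one h
    rw [hx] at this; norm_num at this
  have hord : orderOf (g * x * g⁻¹) = 4 := by
    have : g * x * g⁻¹ = MulAut.conj g x := by simp
    rw [this, MulEquiv.orderOf_eq, hx]
  rw [← pow_mod_orderOf, hx] at hj
  have hlt : j % 4 < 4 := Nat.mod_lt _ (by norm_num)
  rw [← hj] at hord ⊢
  interval_cases (j % 4)
  · exfalso; simp at hord
  · left; simp
  · exfalso
    have : orderOf (x ^ 2) ∣ 2 := orderOf_dvd_of_pow_eq_one (by rw [← pow_mul]; exact h4)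
    rw [hord] at this; norm_num at this
  · right
    rw [eq_inv_iff_mul_eq_one, ← pow_succ]; exact h4

theorem sq_odd_eq_one (w : G) (h1 : w ^ 2 = 1)
    (m : ℕ) (hm : Odd m) (h2 : w ^ m = 1) : w = 1 := by
  obtain ⟨r, rfl⟩ := hm
  rwa [pow_succ, pow_mul, h1, one_pow, one_mul] at h2

/-- a pair of generators of a quaternion group of order eight -/
structure QPair (x y : G) : Prop where
  ox : orderOf x = 4
  sq : y * y = x ^ 2
  conj : y * x * y⁻¹ = x⁻¹

namespace QPair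

variable {x y : G} (h : QPair x y)
include h

theorem x4 : x ^ 4 = 1 := by rw [← h.ox]; exact pow_orderOf_eq_one x

theorem x2 : x ^ 2 ≠ 1 := by
  intro h2
  have := orderOf_dvd_of_pow_eq_one h2
  rw [h.ox] at this; norm_num at this

theorem c2 : x ^ 2 * x ^ 2 = 1 := by rw [← pow_add]; exact h.x4

theorem xinv : x⁻¹ ≠ x := by
  intro h1
  apply h.x2
  rw [pow_two]
  nth_rewrite 1 [← h1]
  simp

theorem y2 : y ^ 2 = x ^ 2 := by rw [pow_two, h.sq]

theorem y4 : y ^ 4 = 1 := by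
  have : y ^ 4 = (y ^ 2) ^ 2 := by rw [← pow_mul]
  rw [this, h.y2, ← pow_mul]; exact h.x4

theorem oy : orderOf y = 4 := by
  have := orderOf_eq_prime_pow (p := 2) (n := 1) (x := y) (by rw [pow_one, h.y2]; exact h.x2)
    (by norm_num; exact h.y4)
  rw [this]; norm_num

theorem yinv : y⁻¹ ≠ y := by
  intro h1
  apply h.x2
  rw [← h.y2, pow_two]
  nth_rewrite 1 [← h1]
  simp

theorem ncomm : x * y ≠ y * x := by
  intro h1
  have h2 := h.conj
  rw [← h1] at h2
  apply h.xinv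
  rw [← h2]; group

/-- `x y x⁻¹ = y⁻¹` -/
theorem conj' : x * y * x⁻¹ = y⁻¹ := by
  have h1 : y * x = x⁻¹ * y := by
    have := h.conj
    calc y * x = (y * x * y⁻¹) * y := by group
      _ = x⁻¹ * y := by rw [this]
  have h2 : x * y * x⁻¹ = y * (x ^ 2)⁻¹ := by
    have : x * y = y * x⁻¹ := by
      calc x * y = x * (y * x) * x⁻¹ := by group
        _ = x * (x⁻¹ * y) * x⁻¹ := by rw [h1]
        _ = y * x⁻¹ := by group
    rw [this]; group
  rw [h2, ← h.y2]; group

/-- `y⁻¹ x y = x⁻¹` -/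
theorem conj_inv : y⁻¹ * x * y = x⁻¹ := by
  have := h.conj
  calc y⁻¹ * x * y = y⁻¹ * (y * x * y⁻¹)⁻¹ * y := by rw [this, inv_inv]
    _ = x⁻¹ := by group

/-- `x⁻¹ y x = y⁻¹` -/
theorem conj_inv' : x⁻¹ * y * x = y⁻¹ := by
  have := h.conj'
  calc x⁻¹ * y * x = x⁻¹ * (x * y * x⁻¹)⁻¹ * x := by rw [this, inv_inv]
    _ = y⁻¹ := by group

theorem swap : QPair y x where
  ox := h.oy
  sq := by rw [← pow_two, ← h.y2, pow_two]
  conj := h.conj'

/-- every element is the product of an element centralizing `x` and `y` and one of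
`1, x, y, x * y` -/
theorem decomp (hn : ∀ H : Subgroup G, H.Normal) (g : G) :
    ∃ w q : G, g = w * q ∧ w * x = x * w ∧ w * y = y * w ∧
      (q = 1 ∨ q = x ∨ q = y ∨ q = x * y) := by
  have key : ∀ w : G, w * x * w⁻¹ = x → w * x = x * w := by
    intro w hw
    calc w * x = (w * x * w⁻¹) * w := by group
      _ = x * w := by rw [hw]
  have key' : ∀ w : G, w * y * w⁻¹ = y → w * y = y * w := by
    intro w hw
    calc w * y = (w * y * w⁻¹) * w := by group
      _ = y * w := by rw [hw]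
  rcases conj_order_four hn x g h.ox with hx | hx <;>
  rcases conj_order_four hn y g h.oy with hy | hy
  · exact ⟨g, 1, by simp, key g hx, key' g hy, Or.inl rfl⟩
  · refine ⟨g * x⁻¹, x, by group, key _ ?_, key' _ ?_, Or.inr (Or.inl rfl)⟩
    · calc g * x⁻¹ * x * (g * x⁻¹)⁻¹ = g * x * g⁻¹ := by group
        _ = x := hx
    · calc g * x⁻¹ * y * (g * x⁻¹)⁻¹ = g * (x⁻¹ * y * x) * g⁻¹ := by group
        _ = g * y⁻¹ * g⁻¹ := by rw [h.conj_inv']
        _ = (g * y * g⁻¹)⁻¹ := by group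
        _ = y := by rw [hy, inv_inv]
  · refine ⟨g * y⁻¹, y, by group, key _ ?_, key' _ ?_, Or.inr (Or.inr (Or.inl rfl))⟩
    · calc g * y⁻¹ * x * (g * y⁻¹)⁻¹ = g * (y⁻¹ * x * y) * g⁻¹ := by group
        _ = g * x⁻¹ * g⁻¹ := by rw [h.conj_inv]
        _ = (g * x * g⁻¹)⁻¹ := by group
        _ = x := by rw [hx, inv_inv]
    · calc g * y⁻¹ * y * (g * y⁻¹)⁻¹ = g * y * g⁻¹ := by group
        _ = y := hy
  · refine ⟨g * (x * y)⁻¹, x * y, by group, key _ ?_, key' _ ?_, Or.inr (Or.inr (Or.inr rfl))⟩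
    · calc g * (x * y)⁻¹ * x * (g * (x * y)⁻¹)⁻¹ = g * (y⁻¹ * x * y) * g⁻¹ := by group
        _ = g * x⁻¹ * g⁻¹ := by rw [h.conj_inv]
        _ = (g * x * g⁻¹)⁻¹ := by group
        _ = x := by rw [hx, inv_inv]
    · calc g * (x * y)⁻¹ * y * (g * (x * y)⁻¹)⁻¹ = g * (y⁻¹ * (x⁻¹ * y * x) * y) * g⁻¹ := by group
        _ = g * y⁻¹ * g⁻¹ := by rw [h.conj_inv']; group
        _ = (g * y * g⁻¹)⁻¹ := by group
        _ = y := by rw [hy, inv_inv]

/-- an element of order dividing four centralizing `x` and `y` has order at most two -/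
theorem sq_eq_one (hn : ∀ H : Subgroup G, H.Normal) (w : G) (hwx : w * x = x * w)
    (hwy : w * y = y * w) (hw4 : w ^ 4 = 1) : w ^ 2 = 1 := by
  have cyw : Commute y w := hwy.symm
  have hv4 : (y * w) ^ 4 = 1 := by rw [cyw.mul_pow, h.y4, hw4, one_mul]
  have h1 : x * (y * w) * x⁻¹ = y⁻¹ * w := by
    calc x * (y * w) * x⁻¹ = (x * y * x⁻¹) * (x * w) * x⁻¹ := by group
      _ = y⁻¹ * (w * x) * x⁻¹ := by rw [h.conj', hwx]
      _ = y⁻¹ * w := by group
  have h2 := conj_mem_zpowers hn (y * w) x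
  rw [h1] at h2
  have hfin : IsOfFinOrder (y * w) := isOfFinOrder_iff_pow_eq_one.2 ⟨4, by norm_num, hv4⟩
  obtain ⟨j, hj⟩ := (Submonoid.mem_powers_iff _ _).1 ((hfin.mem_powers_iff_mem_zpowers).2 h2)
  rw [pow_eq_pow_mod j hv4, cyw.mul_pow] at hj
  have hlt : j % 4 < 4 := Nat.mod_lt _ (by norm_num)
  have hwy_eq : w ≠ y := by
    intro he; apply h.ncomm; rw [← he]; exact hwx.symm
  have hy3 : y ^ 3 = y⁻¹ := by
    rw [eq_inv_iff_mul_eq_one, ← pow_succ]; exact h.y4
  interval_cases (j % 4)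
  · exfalso
    simp only [pow_zero, one_mul] at hj
    apply hwy_eq
    calc w = y * (y⁻¹ * w) := by group
      _ = y := by rw [← hj, mul_one]
  · exfalso
    simp only [pow_one] at hj
    exact h.yinv (mul_right_cancel hj).symm
  · exfalso
    apply hwy_eq
    have h3 : y ^ 3 * w = 1 := by
      calc y ^ 3 * w = y * (y ^ 2 * w ^ 2) * w⁻¹ := by
            rw [pow_succ y 2, pow_two w]; group
        _ = y * (y⁻¹ * w) * w⁻¹ := by rw [hj]
        _ = 1 := by group
    rw [hy3] at h3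
    calc w = y * (y⁻¹ * w) := by group
      _ = y := by rw [h3, mul_one]
  · rw [hy3] at hj
    have h3 : w ^ 3 = w := mul_left_cancel hj
    have : w ^ 2 * w = 1 * w := by rw [← pow_succ, one_mul]; exact h3
    exact mul_right_cancel this

/-- elements centralizing `x` and `y` have order `m` or `2 * m` with `m` odd -/
theorem exists_odd [Finite G] (hn : ∀ H : Subgroup G, H.Normal) (w : G) (hwx : w * x = x * w)
    (hwy : w * y = y * w) : ∃ m : ℕ, Odd m ∧ w ^ (2 * m) = 1 := by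
  obtain ⟨k, m, hm, hkm⟩ := Nat.exists_eq_two_pow_mul_odd (orderOf_pos w).ne'
  refine ⟨m, hm, ?_⟩
  rcases Nat.lt_or_ge k 2 with hk | hk
  · have : k = 0 ∨ k = 1 := by omega
    rcases this with rfl | rfl
    · rw [pow_zero, one_mul] at hkm
      rw [mul_comm, pow_mul, ← hkm, pow_orderOf_eq_one, one_pow]
    · rw [pow_one] at hkm
      rw [← hkm, pow_orderOf_eq_one]
  · exfalso
    obtain ⟨k', rfl⟩ : ∃ k', k = k' + 2 := ⟨k - 2, by omega⟩
    set v := w ^ (2 ^ k' * m) with hv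
    have cwx : Commute w x := hwx
    have cwy : Commute w y := hwy
    have hv4 : v ^ 4 = 1 := by
      rw [hv, ← pow_mul, show 2 ^ k' * m * 4 = 2 ^ (k' + 2) * m by ring, ← hkm,
        pow_orderOf_eq_one]
    have hv2 := h.sq_eq_one hn v (cwx.pow_left _).eq (cwy.pow_left _).eq hv4
    rw [hv, ← pow_mul] at hv2
    have h3 := orderOf_dvd_of_pow_eq_one hv2
    rw [hkm] at h3
    have h4 : 2 ^ (k' + 2) * m = (2 ^ k' * m * 2) * 2 := by ring
    rw [h4] at h3
    have hpos : 0 < 2 ^ k' * m * 2 := by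
      have := hm.pos
      positivity
    have := Nat.le_of_dvd hpos h3
    omega

/-- the centralizer of `x` and `y` is abelian -/
theorem centralizer_comm [Finite G] (hn : ∀ H : Subgroup G, H.Normal) (w₁ w₂ : G)
    (h1x : w₁ * x = x * w₁) (h1y : w₁ * y = y * w₁) (h2x : w₂ * x = x * w₂)
    (h2y : w₂ * y = y * w₂) : w₁ * w₂ = w₂ * w₁ := by
  by_contra hne
  set C := Subgroup.centralizer ({x, y} : Set G) with hC
  have memC : ∀ w : G, w ∈ C ↔ (w * x = x * w ∧ w * y = y * w) := by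
    intro w
    rw [hC, Subgroup.mem_centralizer_iff]
    constructor
    · intro hw
      exact ⟨(hw x (by simp)).symm, (hw y (by simp)).symm⟩
    · rintro ⟨hx, hy⟩ g hg
      rcases hg with rfl | rfl
      · exact hx.symm
      · exact hy.symm
  have hnC : ∀ H : Subgroup C, H.Normal := by
    intro H
    refine ⟨fun n hnH g => ?_⟩
    have h1 : (n : G) ∈ H.map C.subtype := ⟨n, hnH, rfl⟩
    have h2 := (hn (H.map C.subtype)).conj_mem _ h1 (g : G)
    obtain ⟨m, hm, hmeq⟩ := h2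
    have : m = g * n * g⁻¹ := Subtype.ext (by simpa using hmeq)
    rwa [← this]
  have hnaC : ∃ a b : C, a * b ≠ b * a := by
    refine ⟨⟨w₁, (memC w₁).2 ⟨h1x, h1y⟩⟩, ⟨w₂, (memC w₂).2 ⟨h2x, h2y⟩⟩, fun he => hne ?_⟩
    exact congrArg Subtype.val he
  obtain ⟨x', y', hx', -, -, -⟩ := exists_quaternion_pair hnC hnaC
  have hx'G : orderOf (x' : G) = 4 := by rw [Subgroup.orderOf_coe, hx']
  have hmem := (memC (x' : G)).1 x'.2
  have h4 : (x' : G) ^ 4 = 1 := by rw [← hx'G]; exact pow_orderOf_eq_one _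
  have h2 := h.sq_eq_one hn (x' : G) hmem.1 hmem.2 h4
  have := orderOf_dvd_of_pow_eq_one h2
  rw [hx'G] at this
  norm_num at this

/-- the `2`-torsion of the centralizer of `x` and `y` -/
def T [Finite G] (hn : ∀ H : Subgroup G, H.Normal) : Subgroup G where
  carrier := {w | (w * x = x * w ∧ w * y = y * w) ∧ w ^ 2 = 1}
  one_mem' := by simp
  mul_mem' := by
    rintro a b ⟨⟨hax, hay⟩, ha2⟩ ⟨⟨hbx, hby⟩, hb2⟩
    have cab : Commute a b := h.centralizer_comm hn a b hax hay hbx hby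
    refine ⟨⟨?_, ?_⟩, ?_⟩
    · rw [mul_assoc, hbx, ← mul_assoc, hax, mul_assoc]
    · rw [mul_assoc, hby, ← mul_assoc, hay, mul_assoc]
    · rw [cab.mul_pow, ha2, hb2, one_mul]
  inv_mem' := by
    rintro a ⟨⟨hax, hay⟩, ha2⟩
    refine ⟨⟨((show Commute a x from hax).inv_left).eq, ((show Commute a y from hay).inv_left).eq⟩,
      ?_⟩
    rw [inv_pow, ha2, inv_one]

/-- the odd part of the centralizer of `x` and `y` -/
def O [Finite G] (hn : ∀ H : Subgroup G, H.Normal) : Subgroup G where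
  carrier := {w | (w * x = x * w ∧ w * y = y * w) ∧ ∃ m : ℕ, Odd m ∧ w ^ m = 1}
  one_mem' := ⟨by simp, 1, odd_one, by simp⟩
  mul_mem' := by
    rintro a b ⟨⟨hax, hay⟩, m, hm, ham⟩ ⟨⟨hbx, hby⟩, m', hm', hbm⟩
    have cab : Commute a b := h.centralizer_comm hn a b hax hay hbx hby
    refine ⟨⟨?_, ?_⟩, m * m', hm.mul hm', ?_⟩
    · rw [mul_assoc, hbx, ← mul_assoc, hax, mul_assoc]
    · rw [mul_assoc, hby, ← mul_assoc, hay, mul_assoc]
    · rw [cab.mul_pow, pow_mul, ham, one_pow, mul_comm m m', pow_mul, hbm, one_pow, one_mul]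
  inv_mem' := by
    rintro a ⟨⟨hax, hay⟩, m, hm, ham⟩
    refine ⟨⟨((show Commute a x from hax).inv_left).eq, ((show Commute a y from hay).inv_left).eq⟩,
      m, hm, ?_⟩
    rw [inv_pow, ham, inv_one]

theorem mem_T [Finite G] (hn : ∀ H : Subgroup G, H.Normal) (w : G) :
    w ∈ h.T hn ↔ (w * x = x * w ∧ w * y = y * w) ∧ w ^ 2 = 1 := Iff.rfl

theorem mem_O [Finite G] (hn : ∀ H : Subgroup G, H.Normal) (w : G) :
    w ∈ h.O hn ↔ (w * x = x * w ∧ w * y = y * w) ∧ ∃ m : ℕ, Odd m ∧ w ^ m = 1 := Iff.rfl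

theorem c_mem_T [Finite G] (hn : ∀ H : Subgroup G, H.Normal) : x ^ 2 ∈ h.T hn := by
  refine ⟨⟨((Commute.refl x).pow_left 2).eq, ?_⟩, ?_⟩
  · rw [← h.y2]; exact ((Commute.refl y).pow_left 2).eq
  · rw [← pow_mul]; exact h.x4

/-- a complement of `⟨x ^ 2⟩` in `T` -/
theorem exists_E [Finite G] (hn : ∀ H : Subgroup G, H.Normal) :
    ∃ E : Subgroup G, E ≤ h.T hn ∧ x ^ 2 ∉ E ∧ ∀ w ∈ h.T hn, w ∈ E ∨ w * x ^ 2 ∈ E := by
  obtain ⟨E, -, hE⟩ := Finite.exists_le_maximal (p := fun E' : Subgroup G => E' ≤ h.T hn ∧ x ^ 2 ∉ E')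
    (a := ⊥) ⟨bot_le, by rw [Subgroup.mem_bot]; exact h.x2⟩
  refine ⟨E, hE.1.1, hE.1.2, ?_⟩
  intro w hw
  by_contra hcon
  push Not at hcon
  obtain ⟨hwE, hwcE⟩ := hcon
  have hw2 : w ^ 2 = 1 := ((h.mem_T hn w).1 hw).2
  have hle : E ⊔ Subgroup.zpowers w ≤ h.T hn :=
    sup_le hE.1.1 (by rw [Subgroup.zpowers_le]; exact hw)
  have hmem : x ^ 2 ∈ E ⊔ Subgroup.zpowers w := by
    by_contra hnot
    have := hE.2 ⟨hle, hnot⟩ le_sup_left
    exact hwE (this (le_sup_right (a := E) (Subgroup.mem_zpowers w)))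
  haveI := hn (Subgroup.zpowers w)
  rw [← SetLike.mem_coe, Subgroup.mul_normal] at hmem
  obtain ⟨e, he, v, hv, hev⟩ := hmem
  obtain ⟨j, rfl⟩ := Subgroup.mem_zpowers_iff.1 hv
  rcases Int.even_or_odd' j with ⟨r, hr | hr⟩
  · have : w ^ j = 1 := by
      rw [hr, zpow_mul, zpow_ofNat, hw2, one_zpow]
    simp only [this, mul_one] at hev
    exact hE.1.2 (hev ▸ he)
  · have : w ^ j = w := by
      rw [hr, zpow_add, zpow_mul, zpow_ofNat, hw2, one_zpow, one_mul, zpow_one]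
    simp only [this] at hev
    apply hwcE
    have hcw : w * x ^ 2 = x ^ 2 * w := ((show Commute w x from ((h.mem_T hn w).1 hw).1.1).pow_right 2).eq
    have hwinv : w⁻¹ = w := by
      rw [inv_eq_iff_mul_eq_one, ← pow_two]; exact hw2
    have : w * x ^ 2 = e := by
      rw [hcw, ← hev]
      calc e * w * w = e * w ^ 2 := by rw [pow_two, mul_assoc]
        _ = e := by rw [hw2, mul_one]
    rw [this]; exact he

end QPair

theorem main [Finite G] (hn : ∀ H : Subgroup G, H.Normal) (x y : G) (h : QPair x y) :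
    ∃ Q E A : Subgroup G, Nonempty (Q ≃* QuaternionGroup 2) ∧ Cfsg.IsElementaryAbelian 2 E ∧
      IsMulCommutative A ∧ Odd (Nat.card A) ∧ E ⊓ A = ⊥ ∧ Q ⊓ (E ⊔ A) = ⊥ ∧
      Q ⊔ (E ⊔ A) = ⊤ := by
  have hyz : y ∉ Subgroup.zpowers x := by
    intro hy
    obtain ⟨k, rfl⟩ := Subgroup.mem_zpowers_iff.1 hy
    exact h.ncomm ((Commute.refl x).zpow_right k).eq
  have hord : orderOf x = 2 * 2 := by rw [h.ox]
  have hinj := Cfsg.Agent.Lib.Helper59.quatHom_injective 2 x y hord h.sq h.conj hyz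
  set φ := Cfsg.Agent.Lib.Helper59.quatHom 2 x y (by rw [← hord]; exact pow_orderOf_eq_one x)
    h.sq h.conj with hφ
  obtain ⟨E, hET, hcE, hEc⟩ := h.exists_E hn
  refine ⟨φ.range, E, h.O hn, ⟨(MonoidHom.ofInjective hinj).symm⟩, ?_, ?_, ?_, ?_, ?_, ?_⟩
  · -- `E` is elementary abelian
    refine ⟨⟨⟨fun a b => Subtype.ext ?_⟩⟩, fun a ha => ((h.mem_T hn a).1 (hET ha)).2⟩
    have ha := (h.mem_T hn a).1 (hET a.2)
    have hb := (h.mem_T hn b).1 (hET b.2)
    exact h.centralizer_comm hn a b ha.1.1 ha.1.2 hb.1.1 hb.1.2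
  · -- `O` is abelian
    refine ⟨⟨fun a b => Subtype.ext ?_⟩⟩
    have ha := (h.mem_O hn a).1 a.2
    have hb := (h.mem_O hn b).1 b.2
    exact h.centralizer_comm hn a b ha.1.1 ha.1.2 hb.1.1 hb.1.2
  · -- `O` has odd order
    by_contra hodd
    rw [Nat.not_odd_iff_even] at hodd
    haveI : Fact (Nat.Prime 2) := ⟨Nat.prime_two⟩
    obtain ⟨w, hw⟩ := exists_prime_orderOf_dvd_card' 2 hodd.two_dvd
    obtain ⟨-, m, hm, hwm⟩ := (h.mem_O hn w).1 w.2
    have h2 : (w : G) ^ 2 = 1 := by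
      have : w ^ 2 = 1 := by rw [← hw]; exact pow_orderOf_eq_one w
      exact_mod_cast congrArg Subtype.val this
    have := sq_odd_eq_one (w : G) h2 m hm hwm
    have hw1 : w = 1 := Subtype.ext this
    rw [hw1, orderOf_one] at hw
    norm_num at hw
  · -- `E ⊓ O = ⊥`
    rw [eq_bot_iff]
    intro w hw
    obtain ⟨hwE, hwO⟩ := Subgroup.mem_inf.1 hw
    obtain ⟨-, m, hm, hwm⟩ := (h.mem_O hn w).1 hwO
    rw [Subgroup.mem_bot]
    exact sq_odd_eq_one w ((h.mem_T hn w).1 (hET hwE)).2 m hm hwm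
  · -- `Q ⊓ (E ⊔ O) = ⊥`
    rw [eq_bot_iff]
    intro g hg
    obtain ⟨hgQ, hgEO⟩ := Subgroup.mem_inf.1 hg
    rw [Subgroup.mem_bot]
    haveI := hn (h.O hn)
    rw [← SetLike.mem_coe, Subgroup.mul_normal] at hgEO
    obtain ⟨e, he, a, ha, hea⟩ := hgEO
    change e * a = g at hea
    have heT := (h.mem_T hn e).1 (hET he)
    have haO := (h.mem_O hn a).1 ha
    -- `g` centralizes `x` and `y`
    have hgx : g * x = x * g := by
      rw [← hea, mul_assoc, haO.1.1, ← mul_assoc, heT.1.1, mul_assoc]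
    have hgy : g * y = y * g := by
      rw [← hea, mul_assoc, haO.1.2, ← mul_assoc, heT.1.2, mul_assoc]
    -- hence `g` is `1` or `x ^ 2`
    have hg : g = 1 ∨ g = x ^ 2 := by
      obtain ⟨q, rfl⟩ := hgQ
      rcases q with i | i
      · have hq : φ (QuaternionGroup.a i) = x ^ i.val := rfl
        rw [hq] at hgy ⊢
        have hlt : i.val < 4 := ZMod.val_lt i
        interval_cases i.val
        · left; simp
        · exfalso; rw [pow_one] at hgy; exact h.ncomm hgy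
        · right; rfl
        · exfalso
          have hx3 : x ^ 3 = x⁻¹ := by
            rw [eq_inv_iff_mul_eq_one, ← pow_succ]; exact h.x4
          rw [hx3] at hgy
          exact h.ncomm (Commute.inv_left_iff.1 (show Commute x⁻¹ y from hgy)).eq
      · exfalso
        have hq : φ (QuaternionGroup.xa i) = y * x ^ i.val := rfl
        rw [hq] at hgx
        apply h.ncomm
        have h1 : y * x * x ^ i.val = x * y * x ^ i.val := by
          calc y * x * x ^ i.val = y * x ^ i.val * x := by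
                rw [mul_assoc, mul_assoc, ← pow_succ, ← pow_succ']
            _ = x * (y * x ^ i.val) := hgx
            _ = x * y * x ^ i.val := by rw [mul_assoc]
        exact (mul_right_cancel h1).symm
    rcases hg with hg | hg
    · exact hg
    · exfalso
      apply hcE
      -- `a = e⁻¹ * x ^ 2` lies in `T ⊓ O`, so it is trivial
      have haT : a ∈ h.T hn := by
        have : a = e⁻¹ * x ^ 2 := by rw [← hg, ← hea]; group
        rw [this]
        exact mul_mem (inv_mem (hET he)) (h.c_mem_T hn)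
      obtain ⟨-, m, hm, ham⟩ := haO
      have ha1 := sq_odd_eq_one a ((h.mem_T hn a).1 haT).2 m hm ham
      rw [ha1, mul_one] at hea
      rw [← hg, ← hea]; exact he
  · -- `Q ⊔ (E ⊔ O) = ⊤`
    rw [eq_top_iff]
    intro g _
    have hxQ : x ∈ φ.range := ⟨QuaternionGroup.a 1, by
      show x ^ (1 : ZMod (2 * 2)).val = x
      have : (1 : ZMod (2 * 2)).val = 1 := rfl
      rw [this, pow_one]⟩
    have hyQ : y ∈ φ.range := ⟨QuaternionGroup.xa 0, by
      show y * x ^ (0 : ZMod (2 * 2)).val = y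
      have : (0 : ZMod (2 * 2)).val = 0 := rfl
      rw [this, pow_zero, mul_one]⟩
    obtain ⟨w, q, rfl, hwx, hwy, hq⟩ := h.decomp hn g
    have hqQ : q ∈ φ.range := by
      rcases hq with rfl | rfl | rfl | rfl
      · exact one_mem _
      · exact hxQ
      · exact hyQ
      · exact mul_mem hxQ hyQ
    refine mul_mem ?_ (Subgroup.mem_sup_left hqQ)
    obtain ⟨m, hm, hwm⟩ := h.exists_odd hn w hwx hwy
    have cwx : Commute w x := hwx
    have cwy : Commute w y := hwy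
    -- the odd part of `w`
    have h1 : w ^ (m + 1) ∈ h.O hn := by
      refine ⟨⟨(cwx.pow_left _).eq, (cwy.pow_left _).eq⟩, m, hm, ?_⟩
      obtain ⟨r, hr⟩ := hm
      rw [← pow_mul, show (m + 1) * m = 2 * m * (r + 1) by rw [hr]; ring, pow_mul, hwm, one_pow]
    -- the `2`-part of `w`
    have h2 : (w ^ m)⁻¹ ∈ h.T hn := by
      refine ⟨⟨((cwx.pow_left _).inv_left).eq, ((cwy.pow_left _).inv_left).eq⟩, ?_⟩
      rw [inv_pow, ← pow_mul, mul_comm, hwm, inv_one]
    have hw : w = w ^ (m + 1) * (w ^ m)⁻¹ := by rw [pow_succ']; group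
    rw [hw]
    refine mul_mem (Subgroup.mem_sup_right (Subgroup.mem_sup_right h1)) ?_
    rcases hEc _ h2 with h3 | h3
    · exact Subgroup.mem_sup_right (Subgroup.mem_sup_left h3)
    · have hc : x ^ 2 ∈ φ.range := pow_mem hxQ 2
      have : (w ^ m)⁻¹ = ((w ^ m)⁻¹ * x ^ 2) * x ^ 2 := by
        rw [mul_assoc, h.c2, mul_one]
      rw [this]
      exact mul_mem (Subgroup.mem_sup_right (Subgroup.mem_sup_left h3)) (Subgroup.mem_sup_left hc)



/-- A finite non-abelian group in which every subgroup is normal is the internal direct product of a subgroup isomorphic to the quaternion group of order `8`, an elementary abelian `2`-subgroup and an abelian subgroup of odd order. -/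
theorem result {G : Type*} [Group G] [Finite G] (hna : ¬ IsMulCommutative G) (hn : ∀ H : Subgroup G, H.Normal) : ∃ Q E A : Subgroup G, Nonempty (Q ≃* QuaternionGroup 2) ∧ Cfsg.IsElementaryAbelian 2 E ∧ IsMulCommutative A ∧ Odd (Nat.card A) ∧ E ⊓ A = ⊥ ∧ Q ⊓ (E ⊔ A) = ⊥ ∧ Q ⊔ (E ⊔ A) = ⊤ := by
  have hna' : ∃ x y : G, x * y ≠ y * x := by
    by_contra hcon
    push Not at hcon
    exact hna ⟨⟨hcon⟩⟩
  obtain ⟨x, y, h1, h2, h3, -⟩ := exists_quaternion_pair hn hna'
  exact main hn x y ⟨h1, h2, h3⟩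

end Cfsg.Agent.S4211
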