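import Cfsg.Statements.S4212
import Mathlib
import Cfsg.Agent.S3993

set_option autoImplicit false
open Cfsg

namespace Cfsg.Agent.S4212

universe u

lemma order_of_root {H : Type u} [Group H] {p a : ℕ} (hp : p.Prime) (c x : H)
    (hpc : p ∣ orderOf c) (hx : x ^ (p ^ a) = c) : orderOf x = p ^ a * orderOf c := by
  have hpa : p ^ a ≠ 0 := (pow_pos hp.pos a).ne'
  have h1 : orderOf c = orderOf x / Nat.gcd (orderOf x) (p ^ a) := by
    rw [← hx, orderOf_pow' _ hpa]
  have h2 : orderOf x = orderOf c * Nat.gcd (orderOf x) (p ^ a) := by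
    rw [h1, Nat.div_mul_cancel (Nat.gcd_dvd_left _ _)]
  obtain ⟨b, hb, hb'⟩ := (Nat.dvd_prime_pow hp).1 (Nat.gcd_dvd_right (orderOf x) (p ^ a))
  by_cases hba : b < a
  · exfalso
    have h3 : p ^ (b + 1) ∣ Nat.gcd (orderOf x) (p ^ a) := by
      apply Nat.dvd_gcd
      · rw [h2, hb', pow_succ, mul_comm]
        exact Nat.mul_dvd_mul_right hpc _
      · exact Nat.pow_dvd_pow p hba
    rw [hb'] at h3
    have := (Nat.pow_dvd_pow_iff_le_right hp.one_lt).1 h3
    omega
  · have : b = a := by omega
    rw [h2, hb', this, mul_comm]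

/-- Inside a cyclic group `⟨x₀⟩` whose order is `q * o`, the solutions of `w ^ q = 1`
are the powers of `x₀ ^ o`. -/
lemma mem_zpowers_pow_of_pow_eq_one {H : Type u} [Group H] {q o : ℕ} (hq : 0 < q) (x₀ w : H)
    (hx₀ : orderOf x₀ = q * o) (hw : w ∈ Subgroup.zpowers x₀) (hwq : w ^ q = 1) :
    w ∈ Subgroup.zpowers (x₀ ^ o) := by
  obtain ⟨k, rfl⟩ := Subgroup.mem_zpowers_iff.1 hw
  rw [← zpow_natCast, ← zpow_mul, ← orderOf_dvd_iff_zpow_eq_one, hx₀] at hwq
  have h1 : (o : ℤ) ∣ k := by
    push_cast at hwq
    rw [mul_comm k] at hwq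
    exact Int.dvd_of_mul_dvd_mul_left (by exact_mod_cast hq.ne') hwq
  obtain ⟨j, rfl⟩ := h1
  rw [Subgroup.mem_zpowers_iff]
  exact ⟨j, by rw [← zpow_natCast, ← zpow_mul]⟩


lemma B2 {H : Type u} [Group H] [Fintype H] [DecidableEq H] {p a : ℕ} (hp : p.Prime) (c : H)
    (hpc : p ∣ orderOf c) :
    p ^ a ∣ (Finset.univ.filter (fun x : H => x ^ (p ^ a) = c)).card := by
  classical
  rw [Finset.card_eq_sum_card_fiberwise (f := fun x : H => Subgroup.zpowers x) (t := Finset.univ)
    (fun _ _ => Finset.mem_univ _)]
  apply Finset.dvd_sum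
  intro Z _
  by_cases hne : ((Finset.univ.filter (fun x : H => x ^ (p ^ a) = c)).filter
      (fun x => Subgroup.zpowers x = Z)).Nonempty
  · obtain ⟨x₀, hx₀⟩ := hne
    simp only [Finset.mem_filter, Finset.mem_univ, true_and] at hx₀
    obtain ⟨hx₀c, rfl⟩ := hx₀
    have ho := order_of_root hp c x₀ hpc hx₀c
    have hopos : 0 < orderOf c := orderOf_pos c
    have hW : orderOf (x₀ ^ orderOf c) = p ^ a := by
      rw [orderOf_pow_of_dvd hopos.ne' (ho ▸ Dvd.intro_left _ rfl), ho,
        Nat.mul_div_cancel _ hopos]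
    have hle : Subgroup.zpowers (x₀ ^ orderOf c) ≤ Subgroup.zpowers x₀ := by
      rw [Subgroup.zpowers_le]
      exact Subgroup.pow_mem _ (Subgroup.mem_zpowers x₀) _
    have hset : ((Finset.univ.filter (fun x : H => x ^ (p ^ a) = c)).filter
        (fun x => Subgroup.zpowers x = Subgroup.zpowers x₀)) =
        (Finset.univ.filter (fun w : H => w ∈ Subgroup.zpowers (x₀ ^ orderOf c))).image
          (fun w => x₀ * w) := by
      ext x
      simp only [Finset.mem_filter, Finset.mem_univ, true_and, Finset.mem_image]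
      constructor
      · rintro ⟨hxc, hxZ⟩
        refine ⟨x₀⁻¹ * x, ?_, by group⟩
        have hxmem : x ∈ Subgroup.zpowers x₀ := hxZ ▸ Subgroup.mem_zpowers x
        apply mem_zpowers_pow_of_pow_eq_one (pow_pos hp.pos a) x₀ _ ho
        · exact Subgroup.mul_mem _ (Subgroup.inv_mem _ (Subgroup.mem_zpowers x₀)) hxmem
        · obtain ⟨k, rfl⟩ := Subgroup.mem_zpowers_iff.1 hxmem
          have hc : Commute x₀⁻¹ (x₀ ^ k) := ((Commute.refl x₀).zpow_right k).inv_left
          rw [hc.mul_pow, inv_pow, hx₀c, hxc, inv_mul_cancel]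
      · rintro ⟨w, hw, rfl⟩
        have hwmem : w ∈ Subgroup.zpowers x₀ := hle hw
        have hwq : w ^ (p ^ a) = 1 := by
          apply orderOf_dvd_iff_pow_eq_one.1
          have := Subgroup.orderOf_dvd_natCard _ hw
          rwa [Nat.card_zpowers, hW] at this
        have hcomm : Commute x₀ w := by
          obtain ⟨k, rfl⟩ := Subgroup.mem_zpowers_iff.1 hwmem
          exact (Commute.refl x₀).zpow_right k
        have hroot : (x₀ * w) ^ (p ^ a) = c := by
          rw [hcomm.mul_pow, hwq, mul_one, hx₀c]
        refine ⟨hroot, ?_⟩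
        apply Subgroup.eq_of_le_of_card_ge
        · rw [Subgroup.zpowers_le]
          exact Subgroup.mul_mem _ (Subgroup.mem_zpowers x₀) hwmem
        · rw [Nat.card_zpowers, Nat.card_zpowers, ho, order_of_root hp c _ hpc hroot]
    rw [hset, Finset.card_image_of_injective _ (mul_right_injective x₀),
      ← Fintype.card_subtype, ← Nat.card_eq_fintype_card]
    have : Nat.card {w : H // w ∈ Subgroup.zpowers (x₀ ^ orderOf c)} = p ^ a :=
      (Nat.card_zpowers _).trans hW
    rw [this]
  · rw [Finset.not_nonempty_iff_eq_empty] at hne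
    rw [hne, Finset.card_empty]
    exact dvd_zero _


open Cfsg.Agent.S3993 in
lemma T_prime_pow {H : Type u} [Group H] [Finite H] {p a : ℕ} (hp : p.Prime) (c : H)
    (hc : c ∈ Subgroup.center H) :
    Nat.gcd (p ^ a) (Nat.card H) ∣ Nat.card {x : H // x ^ (p ^ a) = c} := by
  classical
  have := Fintype.ofFinite H
  by_cases hpc : p ∣ orderOf c
  · have h := B2 (a := a) hp c hpc
    rw [Nat.card_eq_fintype_card (α := {x : H // x ^ (p ^ a) = c}), Fintype.card_subtype]
    exact (Nat.gcd_dvd_left _ _).trans h
  · have hcop : Nat.Coprime (Nat.card (Subgroup.zpowers c)) (p ^ a) := by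
      rw [Nat.card_zpowers]
      exact Nat.Coprime.pow_right _ ((Nat.Prime.coprime_iff_not_dvd hp).2 hpc).symm
    obtain ⟨c', hc'⟩ := (powCoprime hcop).surjective ⟨c, Subgroup.mem_zpowers c⟩
    have hc'' : (c' : H) ^ (p ^ a) = c := by simpa using congrArg Subtype.val hc'
    have hc'c : (c' : H) ∈ Subgroup.center H := (Subgroup.zpowers_le.2 hc) c'.2
    have e : {x : H // x ^ (p ^ a) = c} ≃ {x : H // x ^ (p ^ a) = 1} :=
      Equiv.subtypeEquiv (Equiv.mulRight (c' : H)⁻¹) (fun x => by
        simp only [Equiv.coe_mulRight]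
        have hcm : Commute x (c' : H)⁻¹ :=
          Commute.inv_right (Subgroup.mem_center_iff.1 hc'c x)
        rw [hcm.mul_pow, inv_pow, hc'', mul_inv_eq_one])
    rw [Nat.card_congr e]
    exact frob_gcd (frob_all _ H rfl) (p ^ a)


/-- `T n`: for every finite group and central element `c`, `gcd n |H|` divides the number of
`n`-th roots of `c`. -/
def T (n : ℕ) : Prop := ∀ (H : Type u) [Group H] [Finite H] (c : H), c ∈ Subgroup.center H →
    Nat.gcd n (Nat.card H) ∣ Nat.card {x : H // x ^ n = c}

/-- `S n`: the same for arbitrary `c`, with the centralizer order. -/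
def S (n : ℕ) : Prop := ∀ (H : Type u) [Group H] [Finite H] (c : H),
    Nat.gcd n (Nat.card (Subgroup.centralizer {c})) ∣ Nat.card {x : H // x ^ n = c}

lemma S_of_T {n : ℕ} (hT : T.{u} n) : S.{u} n := by
  intro H _ _ c
  have hcC : c ∈ Subgroup.centralizer {c} :=
    Subgroup.mem_centralizer_iff.2 (fun h hh => by rw [Set.mem_singleton_iff] at hh; rw [hh])
  have hcen : (⟨c, hcC⟩ : Subgroup.centralizer {c}) ∈
      Subgroup.center (Subgroup.centralizer {c}) := by
    rw [Subgroup.mem_center_iff]
    rintro ⟨g, hg⟩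
    ext
    exact (Subgroup.mem_centralizer_iff.1 hg c rfl).symm
  have h := hT (Subgroup.centralizer {c}) ⟨c, hcC⟩ hcen
  have e : {x : H // x ^ n = c} ≃ {x : Subgroup.centralizer {c} // x ^ n = ⟨c, hcC⟩} :=
    { toFun := fun x => ⟨⟨x.1, by
        rw [Subgroup.mem_centralizer_iff]
        intro h hh
        rw [Set.mem_singleton_iff] at hh
        rw [hh]
        have hx := x.2
        have hcm := (Commute.pow_self x.1 n).eq
        rw [hx] at hcm
        exact hcm⟩, Subtype.ext x.2⟩
      invFun := fun x => ⟨x.1.1, congrArg Subtype.val x.2⟩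
      left_inv := fun x => rfl
      right_inv := fun x => rfl }
  rwa [← Nat.card_congr e] at h

open Cfsg.Agent.S3993 in
lemma split_dvd {H : Type u} [Group H] [Finite H] (c : H) (hc : c ∈ Subgroup.center H)
    (n₁ n₂ : ℕ) (hS : S.{u} n₁) :
    Nat.gcd n₁ (Nat.card H) ∣ Nat.card {x : H // x ^ (n₁ * n₂) = c} := by
  classical
  have := Fintype.ofFinite H
  rw [Nat.card_eq_fintype_card (α := {x : H // x ^ (n₁ * n₂) = c}), Fintype.card_subtype,
    Finset.card_eq_sum_card_fiberwise (f := fun x : H => x ^ n₁) (t := Finset.univ)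
      (fun _ _ => Finset.mem_univ _)]
  apply class_sum_dvd
  · intro t y
    symm
    apply Finset.card_equiv (MulAut.conj t).toEquiv
    intro x
    have hcc : t * c * t⁻¹ = c := by
      rw [Subgroup.mem_center_iff] at hc; rw [hc t, mul_inv_cancel_right]
    have key : ∀ z : H, t * z * t⁻¹ = c ↔ z = c := by
      intro z
      constructor
      · intro h
        rw [← hcc] at h
        simpa using h
      · rintro rfl; exact hcc
    simp only [Finset.mem_filter, Finset.mem_univ, true_and, MulEquiv.toEquiv_eq_coe,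
      MulEquiv.coe_toEquiv, MulAut.conj_apply, conj_pow, mul_left_inj, mul_right_inj, key]
  · intro y
    rw [Finset.filter_filter]
    by_cases hy : y ^ n₂ = c
    · have hset : Finset.univ.filter (fun x : H => x ^ (n₁ * n₂) = c ∧ x ^ n₁ = y) =
          Finset.univ.filter (fun x : H => x ^ n₁ = y) := by
        ext x
        simp only [Finset.mem_filter, Finset.mem_univ, true_and, and_iff_right_iff_imp]
        intro h
        rw [pow_mul, h, hy]
      rw [hset, ← Fintype.card_subtype, ← Nat.card_eq_fintype_card]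
      have h1 := hS H y
      have h2 : Nat.gcd n₁ (Nat.card H) ∣ (Subgroup.centralizer {y}).index *
          Nat.gcd n₁ (Nat.card (Subgroup.centralizer {y})) := by
        rw [← Nat.gcd_mul_left, Subgroup.index_mul_card]
        exact Nat.dvd_gcd ((Nat.gcd_dvd_left _ _).trans (Dvd.intro_left _ rfl))
          (Nat.gcd_dvd_right _ _)
      exact h2.trans (Nat.mul_dvd_mul_left _ h1)
    · have hset : Finset.univ.filter (fun x : H => x ^ (n₁ * n₂) = c ∧ x ^ n₁ = y) = ∅ := by
        ext x
        simp only [Finset.mem_filter, Finset.mem_univ, true_and, Finset.notMem_empty, iff_false,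
          not_and]
        intro h h'
        apply hy
        rw [← h', ← pow_mul, h]
      rw [hset, Finset.card_empty, mul_zero]
      exact dvd_zero _

theorem T_all : ∀ n : ℕ, T.{u} n := by
  intro n
  induction n using Nat.strong_induction_on with
  | _ n ih =>
    intro H _ _ c hc
    rcases Nat.eq_zero_or_pos n with rfl | hn
    · rw [Nat.gcd_zero_left]
      by_cases h1 : c = 1
      · subst h1
        have : Nat.card {x : H // x ^ 0 = 1} = Nat.card H :=
          Nat.card_congr (Equiv.subtypeUnivEquiv (fun x => pow_zero x))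
        rw [this]
      · have : IsEmpty {x : H // x ^ 0 = c} := ⟨fun x => h1 (by rw [← x.2, pow_zero])⟩
        have h0 : Nat.card {x : H // x ^ 0 = c} = 0 := Nat.card_of_isEmpty
        rw [h0]
        exact dvd_zero _
    · rcases Nat.eq_or_lt_of_le hn with h1 | h1
      · subst h1
        rw [Nat.gcd_one_left]
        exact one_dvd _
      · obtain ⟨p, hp, hpn⟩ := Nat.exists_prime_and_dvd (show n ≠ 1 by omega)
        obtain ⟨a, m, hpm, rfl⟩ := Nat.exists_eq_pow_mul_and_not_dvd hn.ne' p hp.ne_one
        by_cases hm1 : m = 1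
        · subst hm1
          rw [mul_one]
          exact T_prime_pow hp c hc
        · have ha : 0 < a := by
            rcases Nat.eq_zero_or_pos a with rfl | h
            · rw [pow_zero, one_mul] at hpn
              exact absurd hpn hpm
            · exact h
          have hm0 : m ≠ 0 := by
            rintro rfl
            simp at hn
          have hpa2 : 2 ≤ p ^ a := by
            calc 2 ≤ p := hp.two_le
              _ = p ^ 1 := (pow_one p).symm
              _ ≤ p ^ a := Nat.pow_le_pow_right hp.pos ha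
          have hm2 : 2 ≤ m := by omega
          have h1lt : p ^ a < p ^ a * m := by nlinarith
          have h2lt : m < p ^ a * m := by nlinarith
          have hcop : Nat.Coprime (p ^ a) m :=
            Nat.Coprime.pow_left _ ((Nat.Prime.coprime_iff_not_dvd hp).2 hpm)
          have hA := split_dvd c hc (p ^ a) m (S_of_T (ih _ h1lt))
          have hB := split_dvd c hc m (p ^ a) (S_of_T (ih _ h2lt))
          rw [mul_comm m (p ^ a)] at hB
          rw [Nat.gcd_comm, Nat.Coprime.gcd_mul _ hcop, Nat.gcd_comm _ (p ^ a), Nat.gcd_comm _ m]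
          exact Nat.Coprime.mul_dvd_of_dvd_of_dvd
            (Nat.Coprime.coprime_dvd_left (Nat.gcd_dvd_left _ _)
              (Nat.Coprime.coprime_dvd_right (Nat.gcd_dvd_left _ _) hcop)) hA hB


open Cfsg.Agent.S3993 in
/-- Let `G` be a finite group of order `g`, `c` an element whose conjugacy class has `h` elements, and `n` a natural number. Then the number of elements `x` of `G` with `x^n` conjugate to `c` is a multiple of `gcd(hn, g)`. -/
theorem result {G : Type*} [Group G] [Finite G] (c : G) (n : ℕ) : Nat.gcd (Nat.card {y : G // IsConj c y} * n) (Nat.card G) ∣ Nat.card {x : G // IsConj c (x ^ n)} := by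
  classical
  have := Fintype.ofFinite G
  have hh : Nat.card {y : G // IsConj c y} = (Subgroup.centralizer {c}).index := by
    rw [Nat.card_eq_fintype_card, Fintype.card_subtype, ← card_conj_eq_index]
    congr 1
    ext y
    simp only [Finset.mem_filter, Finset.mem_univ, true_and, ConjClasses.mk_eq_mk_iff_isConj]
    exact isConj_comm
  have hX : Nat.card {x : G // IsConj c (x ^ n)} =
      Nat.card {y : G // IsConj c y} * Nat.card {x : G // x ^ n = c} := by
    rw [Nat.card_eq_fintype_card, Nat.card_eq_fintype_card, Nat.card_eq_fintype_card,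
      Fintype.card_subtype, Fintype.card_subtype, Fintype.card_subtype,
      Finset.card_eq_sum_card_fiberwise (f := fun x : G => x ^ n)
        (t := Finset.univ.filter (fun y => IsConj c y)) (by intro x hx; simpa using hx)]
    apply Finset.sum_const_nat
    intro y hy
    simp only [Finset.mem_filter, Finset.mem_univ, true_and] at hy
    obtain ⟨t, ht⟩ := isConj_iff.1 hy
    rw [Finset.filter_filter]
    symm
    apply Finset.card_equiv (MulAut.conj t).toEquiv
    intro x
    simp only [Finset.mem_filter, Finset.mem_univ, true_and, MulEquiv.toEquiv_eq_coe,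
      MulEquiv.coe_toEquiv, MulAut.conj_apply, conj_pow, ← ht, mul_left_inj, mul_right_inj]
    constructor
    · intro h
      refine ⟨?_, h⟩
      rw [h]
      exact isConj_iff.2 ⟨t, rfl⟩
    · intro h
      exact h.2
  rw [hX, hh, ← Subgroup.index_mul_card (Subgroup.centralizer {c}), Nat.gcd_mul_left]
  exact Nat.mul_dvd_mul_left _ (S_of_T (T_all n) G c)

end Cfsg.Agent.S4212
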