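import Cfsg.Statements.S4213
import Cfsg.Agent.S3993

set_option autoImplicit false
open Cfsg

namespace Cfsg.Agent.S4213

universe u

open scoped commutatorElement

/-- The elements of order dividing `p` in a commutative subgroup. -/
def omegaSub {G : Type u} [Group G] (D : Subgroup G)
    (hD : ∀ a ∈ D, ∀ b ∈ D, a * b = b * a) (p : ℕ) : Subgroup G where
  carrier := {x | x ∈ D ∧ x ^ p = 1}
  one_mem' := ⟨D.one_mem, one_pow p⟩
  mul_mem' := by
    rintro a b ⟨ha, hap⟩ ⟨hb, hbp⟩
    refine ⟨D.mul_mem ha hb, ?_⟩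
    have hc : Commute a b := hD a ha b hb
    rw [hc.mul_pow, hap, hbp, one_mul]
  inv_mem' := by
    rintro a ⟨ha, hap⟩
    exact ⟨D.inv_mem ha, by rw [inv_pow, hap, inv_one]⟩

lemma mem_omegaSub {G : Type u} [Group G] (D : Subgroup G)
    (hD : ∀ a ∈ D, ∀ b ∈ D, a * b = b * a) (p : ℕ) (x : G) :
    x ∈ omegaSub D hD p ↔ x ∈ D ∧ x ^ p = 1 := Iff.rfl

lemma exists_normal_exp_prime (G : Type u) [Group G] [Finite G] [Group.IsSolvable G] [Nontrivial G] :
    ∃ (p : ℕ) (N : Subgroup G), p.Prime ∧ N.Normal ∧ N ≠ ⊥ ∧ ∀ x ∈ N, x ^ p = 1 := by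
  classical
  have hsol : ∃ m, derivedSeries G m = ⊥ := Group.IsSolvable.solvable
  have hk0 : Nat.find hsol ≠ 0 := by
    intro h0
    have := Nat.find_spec hsol
    rw [h0, derivedSeries_zero] at this
    exact top_ne_bot this
  obtain ⟨j, hj⟩ := Nat.exists_eq_succ_of_ne_zero hk0
  have hDne : derivedSeries G j ≠ ⊥ := Nat.find_min hsol (by omega)
  have hDD : ⁅derivedSeries G j, derivedSeries G j⁆ = ⊥ := by
    have := Nat.find_spec hsol
    rw [hj, Nat.succ_eq_add_one, derivedSeries_succ] at this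
    exact this
  set D := derivedSeries G j with hDdef
  have hDn : D.Normal := derivedSeries_normal G j
  have hcomm : ∀ a ∈ D, ∀ b ∈ D, a * b = b * a := by
    intro a ha b hb
    have h1 : ⁅a, b⁆ ∈ ⁅D, D⁆ := Subgroup.commutator_mem_commutator ha hb
    rw [hDD, Subgroup.mem_bot] at h1
    exact (commutatorElement_eq_one_iff_commute.1 h1)
  have hcard : 1 < Nat.card D := (Subgroup.one_lt_card_iff_ne_bot D).2 hDne
  have hp : (Nat.minFac (Nat.card D)).Prime := Nat.minFac_prime (by omega)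
  set p := Nat.minFac (Nat.card D) with hpdef
  have : Fact p.Prime := ⟨hp⟩
  obtain ⟨x, hx⟩ := exists_prime_orderOf_dvd_card' (G := D) p (Nat.minFac_dvd _)
  refine ⟨p, omegaSub D hcomm p, hp, ⟨?_⟩, ?_, ?_⟩
  · rintro a ⟨ha, hap⟩ g
    refine ⟨hDn.conj_mem a ha g, ?_⟩
    rw [conj_pow, hap, mul_one, mul_inv_cancel]
  · intro hbot
    have hxm : (x : G) ∈ omegaSub D hcomm p := by
      refine ⟨x.2, ?_⟩
      have : x ^ p = 1 := by rw [← hx]; exact pow_orderOf_eq_one x
      have := congrArg Subtype.val this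
      simpa using this
    rw [hbot, Subgroup.mem_bot] at hxm
    have : x = 1 := Subtype.ext hxm
    rw [this, orderOf_one] at hx
    exact hp.one_lt.ne hx
  · rintro a ⟨_, hap⟩
    exact hap


lemma le_card_roots {Q : Type u} [Group Q] [Finite Q] (m : ℕ) (hm : m ∣ Nat.card Q) :
    m ≤ Nat.card {y : Q // y ^ m = 1} := by
  have h1 := Cfsg.Agent.S3993.result (G := Q) m hm
  have h2 : 0 < Nat.card {y : Q // y ^ m = 1} := by
    have : Nonempty {y : Q // y ^ m = 1} := ⟨⟨1, one_pow m⟩⟩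
    exact Nat.card_pos
  exact Nat.le_of_dvd h2 h1

lemma card_comap_mk {G : Type u} [Group G] [Finite G] (N : Subgroup G) [N.Normal]
    (K : Subgroup (G ⧸ N)) :
    Nat.card (K.comap (QuotientGroup.mk' N)) = Nat.card N * Nat.card K := by
  set H := K.comap (QuotientGroup.mk' N) with hH
  have hNH : N ≤ H := by
    intro x hx
    rw [hH, Subgroup.mem_comap]
    have : (QuotientGroup.mk' N) x = 1 := (QuotientGroup.eq_one_iff x).2 hx
    rw [this]; exact K.one_mem
  have h1 := Subgroup.card_mul_index (N.subgroupOf H)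
  have h2 : Nat.card (N.subgroupOf H) = Nat.card N :=
    Nat.card_congr (Subgroup.subgroupOfEquivOfLe hNH).toEquiv
  have h3 : (N.subgroupOf H).index = Nat.card K := by
    change N.relIndex H = _
    have h4 := Subgroup.relIndex_ker (QuotientGroup.mk' N) (K := H)
    rw [QuotientGroup.ker_mk'] at h4
    rw [h4, hH, Subgroup.map_comap_eq_self_of_surjective (QuotientGroup.mk'_surjective N)]
  rw [← h1, h2, h3]

lemma card_of_coe_eq {G : Type u} [Group G] (n : ℕ) (H : Subgroup G)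
    (h : (H : Set G) = {x : G | x ^ n = 1}) : Nat.card H = Nat.card {x : G // x ^ n = 1} := by
  have : ∀ x : G, x ∈ H ↔ x ^ n = 1 := by
    intro x
    have : x ∈ (H : Set G) ↔ x ∈ {x : G | x ^ n = 1} := by rw [h]
    exact this
  exact Nat.card_congr (Equiv.subtypeEquivRight this)

lemma coe_eq_of_subset_of_card {G : Type u} [Group G] [Finite G] (n : ℕ) (H : Subgroup G)
    (hsub : ∀ x ∈ H, x ^ n = 1) (hcard : Nat.card {x : G // x ^ n = 1} ≤ Nat.card H) :
    (H : Set G) = {x : G | x ^ n = 1} := by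
  apply Set.eq_of_subset_of_ncard_le
  · intro x hx; exact hsub x hx
  · rw [← Nat.card_coe_set_eq, ← Nat.card_coe_set_eq]
    exact hcard
  · exact Set.toFinite _

lemma normal_of_coe_eq {G : Type u} [Group G] (n : ℕ) (H : Subgroup G)
    (h : (H : Set G) = {x : G | x ^ n = 1}) : H.Normal := by
  have hm : ∀ x : G, x ∈ H ↔ x ^ n = 1 := by
    intro x
    have : x ∈ (H : Set G) ↔ x ∈ {x : G | x ^ n = 1} := by rw [h]
    exact this
  refine ⟨fun x hx g => ?_⟩
  rw [hm] at hx ⊢
  rw [conj_pow, hx, mul_one, mul_inv_cancel]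

lemma card_eq_prime_pow {G : Type u} [Group G] [Finite G] (N : Subgroup G) (p : ℕ)
    (hp : p.Prime) (hN : ∀ x ∈ N, x ^ p = 1) : ∃ k, Nat.card N = p ^ k := by
  have : Fact p.Prime := ⟨hp⟩
  have : IsPGroup p N := by
    intro g
    refine ⟨1, ?_⟩
    rw [pow_one]
    exact Subtype.ext (by simpa using hN g g.2)
  exact (IsPGroup.iff_card).1 this


lemma case_coprime {G : Type u} [Group G] [Finite G] (N : Subgroup G) [N.Normal] (p : ℕ)
    (hp : p.Prime) (hN : ∀ x ∈ N, x ^ p = 1) (n : ℕ) (hpn : ¬ p ∣ n) (hn : n ∣ Nat.card G)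
    (hcount : Nat.card {x : G // x ^ n = 1} = n)
    (IH : ∀ m, m ∣ Nat.card (G ⧸ N) → Nat.card {y : G ⧸ N // y ^ m = 1} = m →
      ∃ K : Subgroup (G ⧸ N), (K : Set (G ⧸ N)) = {y | y ^ m = 1}) :
    ∃ H : Subgroup G, (H : Set G) = {x : G | x ^ n = 1} := by
  obtain ⟨k, hk⟩ := card_eq_prime_pow N p hp hN
  have hcop : Nat.Coprime n (Nat.card N) := by
    rw [hk]
    exact (Nat.Coprime.pow_left k ((Nat.Prime.coprime_iff_not_dvd hp).2 hpn)).symm
  have hGcard : Nat.card G = Nat.card (G ⧸ N) * Nat.card N :=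
    Subgroup.card_eq_card_quotient_mul_card_subgroup N
  have hnQ : n ∣ Nat.card (G ⧸ N) := by
    rw [hGcard] at hn
    exact hcop.dvd_of_dvd_mul_right hn
  -- the surjection
  have hsurj : Nat.card {y : G ⧸ N // y ^ n = 1} ≤ Nat.card {x : G // x ^ n = 1} := by
    refine Nat.card_le_card_of_surjective
      (fun x : {x : G // x ^ n = 1} => (⟨QuotientGroup.mk x.1, by
        rw [← QuotientGroup.mk_pow, x.2]; rfl⟩ : {y : G ⧸ N // y ^ n = 1})) ?_
    rintro ⟨y, hy⟩
    induction y using QuotientGroup.induction_on with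
    | H y₀ =>
      rw [← QuotientGroup.mk_pow, QuotientGroup.eq_one_iff] at hy
      obtain ⟨a, ha1, ha0⟩ := Nat.chineseRemainder hcop 1 0
      have hdvd : Nat.card N ∣ a := (Nat.modEq_zero_iff_dvd).1 ha0
      have hyc : (y₀ ^ n) ^ (Nat.card N) = 1 := by
        have h := congrArg Subtype.val (pow_card_eq_one' (G := N) (x := ⟨y₀ ^ n, hy⟩))
        rw [Subgroup.coe_pow, Subgroup.coe_one] at h
        exact h
      have hx : (y₀ ^ a) ^ n = 1 := by
        obtain ⟨t, rfl⟩ := hdvd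
        rw [← pow_mul, mul_comm, pow_mul, pow_mul, hyc, one_pow]
      refine ⟨⟨y₀ ^ a, hx⟩, ?_⟩
      simp only [Subtype.mk.injEq]
      rw [QuotientGroup.mk_pow]
      have hyn : ((y₀ : G ⧸ N)) ^ n = 1 := by
        rw [← QuotientGroup.mk_pow]; exact (QuotientGroup.eq_one_iff _).2 hy
      have hmod : a ≡ 1 [MOD orderOf (y₀ : G ⧸ N)] :=
        Nat.ModEq.of_dvd (orderOf_dvd_of_pow_eq_one hyn) ha1
      have := (pow_eq_pow_iff_modEq (x := (y₀ : G ⧸ N))).2 hmod
      rw [this, pow_one]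
  have hQcount : Nat.card {y : G ⧸ N // y ^ n = 1} = n :=
    le_antisymm (hsurj.trans hcount.le) (le_card_roots n hnQ)
  obtain ⟨K, hK⟩ := IH n hnQ hQcount
  have hKcard : Nat.card K = n := (card_of_coe_eq n K hK).trans hQcount
  set H := K.comap (QuotientGroup.mk' N) with hH
  have hHcard : Nat.card H = Nat.card N * n := by rw [hH, card_comap_mk, hKcard]
  have hNH : N ≤ H := by
    intro x hx
    rw [hH, Subgroup.mem_comap]
    have : (QuotientGroup.mk' N) x = 1 := (QuotientGroup.eq_one_iff x).2 hx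
    rw [this]; exact K.one_mem
  have h1 := Subgroup.card_mul_index (N.subgroupOf H)
  have h2 : Nat.card (N.subgroupOf H) = Nat.card N :=
    Nat.card_congr (Subgroup.subgroupOfEquivOfLe hNH).toEquiv
  have hNpos : 0 < Nat.card N := Nat.card_pos
  have h3 : (N.subgroupOf H).index = n := by
    rw [h2, hHcard] at h1
    exact Nat.eq_of_mul_eq_mul_left hNpos h1
  have hcop' : Nat.Coprime (Nat.card (N.subgroupOf H)) (N.subgroupOf H).index := by
    rw [h2, h3]; exact hcop.symm
  obtain ⟨C, hC⟩ := Subgroup.exists_left_complement'_of_coprime hcop'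
  have hCcard : Nat.card C = n := by
    have := hC.card_mul_card
    rw [h2, hHcard, mul_comm] at this
    exact Nat.eq_of_mul_eq_mul_left hNpos this
  refine ⟨C.map H.subtype, ?_⟩
  have hcard : Nat.card (C.map H.subtype) = n := by rw [Subgroup.card_subtype, hCcard]
  apply coe_eq_of_subset_of_card
  · intro x hx
    have h := congrArg Subtype.val (pow_card_eq_one' (G := C.map H.subtype) (x := ⟨x, hx⟩))
    rw [Subgroup.coe_pow, Subgroup.coe_one, hcard] at h
    exact h
  · rw [hcard, hcount]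


lemma arith_key (p k' m q : ℕ) (h : p * m ∣ q * p ^ (k' + 1)) (hp : 0 < p) (hm : 0 < m) :
    p * m ≤ p ^ (k' + 1) * Nat.gcd m q := by
  have h1 : m ∣ q * p ^ k' := by
    rw [pow_succ, ← mul_assoc, mul_comm p m] at h
    exact Nat.dvd_of_mul_dvd_mul_right hp h
  have h2 : m ∣ Nat.gcd (m * p ^ k') (q * p ^ k') := Nat.dvd_gcd (dvd_mul_right _ _) h1
  rw [Nat.gcd_mul_right] at h2
  have hq : 0 < Nat.gcd m q := Nat.gcd_pos_of_pos_left _ hm
  have h3 : m ≤ Nat.gcd m q * p ^ k' := Nat.le_of_dvd (Nat.mul_pos hq (pow_pos hp _)) h2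
  calc p * m ≤ p * (Nat.gcd m q * p ^ k') := Nat.mul_le_mul_left _ h3
    _ = p ^ (k' + 1) * Nat.gcd m q := by ring

lemma case_dvd {G : Type u} [Group G] [Finite G] (N : Subgroup G) [N.Normal] (hNbot : N ≠ ⊥)
    (p : ℕ)
    (hp : p.Prime) (hN : ∀ x ∈ N, x ^ p = 1) (n : ℕ) (hpn : p ∣ n) (hn : n ∣ Nat.card G)
    (hcount : Nat.card {x : G // x ^ n = 1} = n)
    (IH : ∀ m, m ∣ Nat.card (G ⧸ N) → Nat.card {y : G ⧸ N // y ^ m = 1} = m →
      ∃ K : Subgroup (G ⧸ N), (K : Set (G ⧸ N)) = {y | y ^ m = 1}) :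
    ∃ H : Subgroup G, (H : Set G) = {x : G | x ^ n = 1} := by
  obtain ⟨k, hk⟩ := card_eq_prime_pow N p hp hN
  have hk0 : k ≠ 0 := by
    rintro rfl
    rw [pow_zero] at hk
    exact hNbot ((Subgroup.card_eq_one).1 hk)
  obtain ⟨k', rfl⟩ := Nat.exists_eq_succ_of_ne_zero hk0
  have hGcard : Nat.card G = Nat.card (G ⧸ N) * Nat.card N :=
    Subgroup.card_eq_card_quotient_mul_card_subgroup N
  have hGpos : 0 < Nat.card G := Nat.card_pos
  have hnpos : 0 < n := Nat.pos_of_dvd_of_pos hn hGpos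
  obtain ⟨m, rfl⟩ := hpn
  have hmpos : 0 < m := Nat.pos_of_mul_pos_left hnpos
  set q := Nat.card (G ⧸ N) with hq
  set n' := Nat.gcd m q with hn'
  have hn'q : n' ∣ q := Nat.gcd_dvd_right _ _
  have hn'm : n' ∣ m := Nat.gcd_dvd_left _ _
  have harith : p * m ≤ Nat.card N * n' := by
    rw [hk]
    apply arith_key p k' m q _ hp.pos hmpos
    rw [← Nat.succ_eq_add_one, ← hk, ← hGcard]
    exact hn
  -- preimage of roots is inside roots
  have hpre : ∀ x : G, ((x : G ⧸ N)) ^ n' = 1 → x ^ (p * m) = 1 := by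
    intro x hx
    rw [← QuotientGroup.mk_pow, QuotientGroup.eq_one_iff] at hx
    have h1 := hN _ hx
    obtain ⟨t, ht⟩ := hn'm
    rw [ht, ← mul_assoc, mul_comm p n', pow_mul, pow_mul, h1, one_pow]
  -- the injection
  have hinj : Nat.card ({y : G ⧸ N // y ^ n' = 1} × N) ≤ Nat.card {x : G // x ^ (p * m) = 1} := by
    refine Nat.card_le_card_of_injective
      (fun yz : {y : G ⧸ N // y ^ n' = 1} × N =>
        (⟨Quotient.out yz.1.1 * (yz.2 : G), hpre _ (by
          rw [QuotientGroup.mk_mul, (QuotientGroup.eq_one_iff (yz.2 : G)).2 yz.2.2, mul_one,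
            QuotientGroup.out_eq']
          exact yz.1.2)⟩ : {x : G // x ^ (p * m) = 1})) ?_
    rintro ⟨⟨y₁, hy₁⟩, ⟨z₁, hz₁⟩⟩ ⟨⟨y₂, hy₂⟩, ⟨z₂, hz₂⟩⟩ h
    simp only [Subtype.mk.injEq] at h
    have h' := congrArg (fun x : G => (x : G ⧸ N)) h
    simp only [QuotientGroup.mk_mul, (QuotientGroup.eq_one_iff z₁).2 hz₁,
      (QuotientGroup.eq_one_iff z₂).2 hz₂, mul_one, QuotientGroup.out_eq'] at h'
    subst h'
    have hz : z₁ = z₂ := mul_left_cancel h
    subst hz
    rfl
  rw [Nat.card_prod, hcount] at hinj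
  have hroots : n' ≤ Nat.card {y : G ⧸ N // y ^ n' = 1} := le_card_roots n' hn'q
  have hNpos : 0 < Nat.card N := Nat.card_pos
  have hchain : Nat.card N * n' ≤ Nat.card N * Nat.card {y : G ⧸ N // y ^ n' = 1} :=
    Nat.mul_le_mul_left _ hroots
  have hQcount : Nat.card {y : G ⧸ N // y ^ n' = 1} = n' := by
    have : Nat.card N * Nat.card {y : G ⧸ N // y ^ n' = 1} = Nat.card N * n' := by
      rw [mul_comm] at hinj
      omega
    exact Nat.eq_of_mul_eq_mul_left hNpos this
  have hNn' : Nat.card N * n' = p * m := by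
    rw [hQcount, mul_comm] at hinj
    omega
  obtain ⟨K, hK⟩ := IH n' hn'q hQcount
  have hKcard : Nat.card K = n' := (card_of_coe_eq n' K hK).trans hQcount
  refine ⟨K.comap (QuotientGroup.mk' N), ?_⟩
  apply coe_eq_of_subset_of_card
  · intro x hx
    rw [Subgroup.mem_comap] at hx
    have : (QuotientGroup.mk' N x) ∈ (K : Set (G ⧸ N)) := hx
    rw [hK] at this
    exact hpre x this
  · rw [card_comap_mk, hKcard, hNn', hcount]


theorem main : ∀ (M : ℕ) (G : Type u) [Group G] [Finite G] [Group.IsSolvable G],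
    Nat.card G = M → ∀ n : ℕ, n ∣ Nat.card G → Nat.card {x : G // x ^ n = 1} = n →
    ∃ H : Subgroup G, (H : Set G) = {x : G | x ^ n = 1} := by
  intro M
  induction M using Nat.strong_induction_on with
  | _ M ih =>
    intro G _ _ _ hM n hn hcount
    rcases subsingleton_or_nontrivial G with hsub | hnt
    · refine ⟨⊤, ?_⟩
      ext x
      simp only [Subgroup.coe_top, Set.mem_univ, Set.mem_ofPred_eq, true_iff]
      rw [Subsingleton.elim x 1, one_pow]
    · obtain ⟨p, N, hp, hNn, hNbot, hNp⟩ := exists_normal_exp_prime G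
      have hGcard : Nat.card G = Nat.card (G ⧸ N) * Nat.card N :=
        Subgroup.card_eq_card_quotient_mul_card_subgroup N
      have hN1 : 1 < Nat.card N := (Subgroup.one_lt_card_iff_ne_bot N).2 hNbot
      have hQpos : 0 < Nat.card (G ⧸ N) := Nat.card_pos
      have hlt : Nat.card (G ⧸ N) < M := by
        rw [← hM, hGcard]
        nlinarith
      have hsolv : Group.IsSolvable (G ⧸ N) := inferInstance
      have IH : ∀ m, m ∣ Nat.card (G ⧸ N) → Nat.card {y : G ⧸ N // y ^ m = 1} = m →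
          ∃ K : Subgroup (G ⧸ N), (K : Set (G ⧸ N)) = {y | y ^ m = 1} :=
        fun m hm hc => ih _ hlt (G ⧸ N) rfl m hm hc
      by_cases hpn : p ∣ n
      · exact case_dvd N hNbot p hp hNp n hpn hn hcount IH
      · exact case_coprime N p hp hNp n hpn hn hcount IH

/-- If `G` is a finite solvable group and `n` divides the order of `G` and exactly `n` elements `x` of `G` satisfy `x^n = 1`, then these elements form a normal subgroup. -/
theorem result {G : Type*} [Group G] [Finite G] [Group.IsSolvable G] (n : ℕ) (hn : n ∣ Nat.card G) (hcount : Nat.card {x : G // x ^ n = 1} = n) : ∃ H : Subgroup G, H.Normal ∧ (H : Set G) = {x : G | x ^ n = 1} := by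
  obtain ⟨H, hH⟩ := main (Nat.card G) G rfl n hn hcount
  exact ⟨H, normal_of_coe_eq n H hH, hH⟩

end Cfsg.Agent.S4213
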