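import Cfsg.Statements.S4214
import Cfsg.Agent.Lib.Helper01.Hall
import Cfsg.Agent.Lib.Helper13.MinNormalSolvable
import Cfsg.Agent.Lib.Helper77.Fiber
import Cfsg.Agent.Lib.Helper77.HallSylow
import Cfsg.Agent.Lib.Helper77.ConjUnion

set_option autoImplicit false
open Cfsg

namespace Cfsg.Agent.S4214

open Cfsg.Agent.Lib.Helper01 Cfsg.Agent.Lib.Helper13 Cfsg.Agent.Lib.Helper77
open scoped Pointwise commutatorElement

universe u

section action

variable {G : Type u} [Group G]

/-- Subgroups of order `m`. -/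
abbrev HallSet (G : Type u) [Group G] (m : ℕ) := {H : Subgroup G // Nat.card H = m}

instance hallAction (m : ℕ) : MulAction G (HallSet G m) where
  smul g H := ⟨MulAut.conj g • H.1, by rw [card_conj_smul]; exact H.2⟩
  one_smul H := Subtype.ext (by
    show MulAut.conj (1 : G) • H.1 = H.1
    rw [map_one, one_smul])
  mul_smul g h H := Subtype.ext (by
    show MulAut.conj (g * h) • H.1 = MulAut.conj g • (MulAut.conj h • H.1)
    rw [conj_smul_conj_smul])

theorem hallAction_coe (m : ℕ) (g : G) (H : HallSet G m) :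
    ((g • H : HallSet G m) : Subgroup G) = MulAut.conj g • H.1 := rfl

end action

section chain

/-- A nontrivial finite solvable group has a normal subgroup of prime index
(argument of helper12's `Lib.Helper12.Schmidt.exists_normal_prime_index`, copied to avoid the import chain). -/
theorem exists_normal_prime_index' {G : Type*} [Group G] [Finite G] [hsol : Group.IsSolvable G]
    [Nontrivial G] : ∃ M : Subgroup G, M.Normal ∧ M.index.Prime := by
  have hlt := Group.IsSolvable.commutator_lt_top_of_nontrivial G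
  obtain ⟨M, hM, hle⟩ := (eq_top_or_exists_le_coatom _).resolve_left hlt.ne
  have hMn : M.Normal := by
    refine ⟨fun m hm g => ?_⟩
    have h1 : ⁅g, m⁆ ∈ commutator G := by
      rw [commutator_def]
      exact Subgroup.commutator_mem_commutator (Subgroup.mem_top g) (Subgroup.mem_top m)
    have h2 : g * m * g⁻¹ = ⁅g, m⁆ * m := by
      rw [commutatorElement_def]; group
    rw [h2]
    exact M.mul_mem (hle h1) hm
  refine ⟨M, hMn, ?_⟩
  have hk1 : M.index ≠ 1 := fun h => hM.1 (Subgroup.index_eq_one.mp h)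
  set p := M.index.minFac with hp
  have hpp : p.Prime := Nat.minFac_prime hk1
  have : Fact p.Prime := ⟨hpp⟩
  have hdvd : p ∣ Nat.card (G ⧸ M) := by
    rw [← Subgroup.index_eq_card]; exact Nat.minFac_dvd _
  obtain ⟨c, hc⟩ := exists_prime_orderOf_dvd_card' p hdvd
  obtain ⟨x, rfl⟩ := QuotientGroup.mk_surjective c
  have hxM : x ∉ M := by
    intro hx
    have : (QuotientGroup.mk x : G ⧸ M) = 1 := (QuotientGroup.eq_one_iff x).mpr hx
    rw [this, orderOf_one] at hc
    exact hpp.one_lt.ne hc
  set H := (Subgroup.zpowers (QuotientGroup.mk x : G ⧸ M)).comap (QuotientGroup.mk' M) with hH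
  have hMH : M ≤ H := by
    intro m hm
    show (QuotientGroup.mk' M m) ∈ Subgroup.zpowers _
    have : QuotientGroup.mk' M m = 1 := (QuotientGroup.eq_one_iff m).mpr hm
    rw [this]; exact Subgroup.one_mem _
  have hxH : x ∈ H := Subgroup.mem_zpowers _
  have hHtop : H = ⊤ := by
    rcases (hM.le_iff).mp hMH with h | h
    · exact h
    · exact absurd (h ▸ hxH) hxM
  have hz : Subgroup.zpowers (QuotientGroup.mk x : G ⧸ M) = ⊤ := by
    rw [← Subgroup.map_comap_eq_self_of_surjective (QuotientGroup.mk'_surjective M)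
      (Subgroup.zpowers (QuotientGroup.mk x : G ⧸ M)), ← hH, hHtop, ← MonoidHom.range_eq_map,
      MonoidHom.range_eq_top.mpr (QuotientGroup.mk'_surjective M)]
  have : Nat.card (G ⧸ M) = p := by
    rw [← hc, ← Nat.card_zpowers, hz, Subgroup.card_top]
  rw [Subgroup.index_eq_card, this]
  exact hpp

/-- the factor lists. -/
def GoodList (q h : ℕ) (l : List ℕ) : Prop :=
  ∀ c ∈ l, (∃ e : ℕ, c = q ^ e) ∧ ∃ r : ℕ, r.Prime ∧ r ∣ h ∧ c ≡ 1 [MOD r]

variable {Γ : Type u} [Group Γ] [Finite Γ]

theorem inf_centralizer_sup (V A B : Subgroup Γ) :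
    V ⊓ Subgroup.centralizer ((A ⊔ B : Subgroup Γ) : Set Γ) =
      (V ⊓ Subgroup.centralizer (A : Set Γ)) ⊓ Subgroup.centralizer (B : Set Γ) := by
  ext v
  simp only [Subgroup.mem_inf]
  constructor
  · rintro ⟨hv, hc⟩
    exact ⟨⟨hv, Subgroup.centralizer_le (by exact_mod_cast (le_sup_left : A ≤ A ⊔ B)) hc⟩,
      Subgroup.centralizer_le (by exact_mod_cast (le_sup_right : B ≤ A ⊔ B)) hc⟩
  · rintro ⟨⟨hv, hA⟩, hB⟩
    refine ⟨hv, ?_⟩
    have h1 : A ≤ Subgroup.centralizer ({v} : Set Γ) := by
      intro a ha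
      rw [Subgroup.mem_centralizer_iff]
      intro y hy
      rw [Set.mem_singleton_iff] at hy; subst hy
      exact (Subgroup.mem_centralizer_iff.mp hA a ha).symm
    have h2 : B ≤ Subgroup.centralizer ({v} : Set Γ) := by
      intro a ha
      rw [Subgroup.mem_centralizer_iff]
      intro y hy
      rw [Set.mem_singleton_iff] at hy; subst hy
      exact (Subgroup.mem_centralizer_iff.mp hB a ha).symm
    have h3 : A ⊔ B ≤ Subgroup.centralizer ({v} : Set Γ) := sup_le h1 h2
    rw [Subgroup.mem_centralizer_iff]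
    intro x hx
    have := h3 hx
    rw [Subgroup.mem_centralizer_iff] at this
    exact (this v rfl).symm

theorem cent_factor (q : ℕ) (hq : q.Prime) (V : Subgroup Γ) (hV : IsPGroup q V) :
    ∀ (k : ℕ) (H : Subgroup Γ), Nat.card H = k → Group.IsSolvable H →
      H ≤ Subgroup.normalizer (V : Set Γ) → ¬ q ∣ Nat.card H →
      ∃ l : List ℕ, Nat.card V =
          Nat.card (V ⊓ Subgroup.centralizer (H : Set Γ) : Subgroup Γ) * l.prod ∧
        GoodList q (Nat.card H) l := by
  intro k
  induction k using Nat.strong_induction_on with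
  | _ k IH =>
  intro H hk hsol hHV hqH
  by_cases hbot : H = ⊥
  · subst hbot
    refine ⟨[], ?_, ?_⟩
    · have : V ⊓ Subgroup.centralizer (((⊥ : Subgroup Γ)) : Set Γ) = V := by
        apply inf_of_le_left
        intro v _
        rw [Subgroup.mem_centralizer_iff]
        intro x hx
        have : x = 1 := by simpa using hx
        subst this; simp
      rw [this]; simp
    · intro c hc; simp at hc
  · haveI : Nontrivial H := (Subgroup.nontrivial_iff_ne_bot H).mpr hbot
    haveI := hsol
    obtain ⟨M, hMn, hMp⟩ := exists_normal_prime_index' (G := H)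
    set r := M.index with hr
    haveI : Fact r.Prime := ⟨hMp⟩
    set H₁ : Subgroup Γ := M.map H.subtype with hH₁
    have hH₁H : H₁ ≤ H := Subgroup.map_subtype_le M
    have hcardH₁ : Nat.card H₁ = Nat.card M :=
      Nat.card_congr (M.equivMapOfInjective H.subtype H.subtype_injective).symm.toEquiv
    have hMcard : Nat.card M * r = Nat.card H := M.card_mul_index
    have hlt : Nat.card H₁ < k := by
      rw [hcardH₁, ← hk, ← hMcard]
      have : 0 < Nat.card M := Nat.card_pos
      have := hMp.one_lt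
      nlinarith
    have hsol₁ : Group.IsSolvable H₁ := by
      have : Group.IsSolvable M := inferInstance
      exact Group.isSolvable_of_isSolvable_injective
        (f := (M.equivMapOfInjective H.subtype H.subtype_injective).symm.toMonoidHom)
        (M.equivMapOfInjective H.subtype H.subtype_injective).symm.injective
    have hdvd₁ : Nat.card H₁ ∣ Nat.card H := Subgroup.card_dvd_of_le hH₁H
    obtain ⟨l₁, hl₁, hg₁⟩ := IH _ hlt H₁ rfl hsol₁ (hH₁H.trans hHV)
      (fun h => hqH (h.trans hdvd₁))
    -- Sylow r-subgroup of H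
    obtain ⟨R⟩ : Nonempty (Sylow r H) := Sylow.nonempty
    set R' : Subgroup Γ := (R : Subgroup H).map H.subtype with hR'
    have hR'H : R' ≤ H := Subgroup.map_subtype_le _
    have hR'p : IsPGroup r R' := R.isPGroup'.map _
    have hRM : ¬ (R : Subgroup H) ≤ M := by
      intro h
      have := Subgroup.index_dvd_of_le h
      exact R.not_dvd_index this
    have hsup : H₁ ⊔ R' = H := by
      have h1 : M ⊔ (R : Subgroup H) = ⊤ := by
        by_contra hne
        have hle : M ≤ M ⊔ (R : Subgroup H) := le_sup_left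
        have hd := Subgroup.index_dvd_of_le hle
        rcases (Nat.dvd_prime hMp).mp hd with h | h
        · exact hne (Subgroup.index_eq_one.mp h)
        · have hc1 := (M ⊔ (R : Subgroup H)).card_mul_index
          have hc2 := M.card_mul_index
          rw [h] at hc1
          have : Nat.card (M ⊔ (R : Subgroup H) : Subgroup H) = Nat.card M := by
            have hr0 : 0 < r := hMp.pos
            rw [← hc2] at hc1
            exact Nat.eq_of_mul_eq_mul_right hr0 hc1
          have := Subgroup.eq_of_le_of_card_ge hle this.le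
          exact hRM (this ▸ le_sup_right)
      rw [hH₁, hR', ← Subgroup.map_sup, h1, ← MonoidHom.range_eq_map, Subgroup.range_subtype]
    -- U = C_V(H₁) is normalized by H
    set U : Subgroup Γ := V ⊓ Subgroup.centralizer (H₁ : Set Γ) with hU
    have hHnormH₁ : ∀ a ∈ H, ∀ x, x ∈ H₁ ↔ a * x * a⁻¹ ∈ H₁ := by
      intro a ha x
      constructor
      · rintro ⟨y, hy, rfl⟩
        refine ⟨⟨a, ha⟩ * y * ⟨a, ha⟩⁻¹, hMn.conj_mem y hy _, ?_⟩
        simp
      · rintro ⟨y, hy, hyx⟩
        refine ⟨⟨a, ha⟩⁻¹ * y * ⟨a, ha⟩, ?_, ?_⟩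
        · have := hMn.conj_mem y hy (⟨a, ha⟩⁻¹)
          simpa using this
        · simp only [Subgroup.subtype_apply, Subgroup.coe_mul, Subgroup.coe_inv] 
          have : (y : Γ) = a * x * a⁻¹ := hyx
          rw [this]; group
    have hHU : H ≤ Subgroup.normalizer (U : Set Γ) := by
      intro a ha
      rw [Subgroup.mem_normalizer_iff]
      intro x
      have hVa := Subgroup.mem_normalizer_iff.mp (hHV ha) x
      have hcent : x ∈ Subgroup.centralizer (H₁ : Set Γ) ↔
          a * x * a⁻¹ ∈ Subgroup.centralizer (H₁ : Set Γ) := by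
        simp only [Subgroup.mem_centralizer_iff]
        constructor
        · intro hx y hy
          have hy' : a⁻¹ * y * a ∈ H₁ := by
            have := (hHnormH₁ a⁻¹ (H.inv_mem ha) y).mp hy
            simpa using this
          have := hx _ hy'
          calc y * (a * x * a⁻¹) = a * ((a⁻¹ * y * a) * x) * a⁻¹ := by group
            _ = a * (x * (a⁻¹ * y * a)) * a⁻¹ := by rw [this]
            _ = a * x * a⁻¹ * y := by group
        · intro hx y hy
          have hy' : a * y * a⁻¹ ∈ H₁ := (hHnormH₁ a ha y).mp hy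
          have := hx _ hy'
          calc y * x = a⁻¹ * ((a * y * a⁻¹) * (a * x * a⁻¹)) * a := by group
            _ = a⁻¹ * ((a * x * a⁻¹) * (a * y * a⁻¹)) * a := by rw [this]
            _ = x * y := by group
      simp only [hU, Subgroup.mem_inf]
      rw [hVa, hcent]
    have hmod := card_modEq_card_inf_centralizer R' U hR'p (hR'H.trans hHU)
    have hCeq : U ⊓ Subgroup.centralizer (R' : Set Γ) =
        V ⊓ Subgroup.centralizer (H : Set Γ) := by
      rw [hU, ← inf_centralizer_sup, hsup]
    rw [hCeq] at hmod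
    set C : Subgroup Γ := V ⊓ Subgroup.centralizer (H : Set Γ) with hC
    have hCU : C ≤ U := by
      rw [← hCeq]; exact inf_le_left
    obtain ⟨c, hc⟩ := Subgroup.card_dvd_of_le hCU
    have hUV : U ≤ V := inf_le_left
    have hUp : IsPGroup q U := hV.to_le hUV
    haveI : Fact q.Prime := ⟨hq⟩
    obtain ⟨a, ha⟩ := hUp.exists_card_eq
    obtain ⟨b, hb⟩ := (hV.to_le (hCU.trans hUV)).exists_card_eq
    have hcq : ∃ e, c = q ^ e := by
      have : c ∣ q ^ a := by rw [← ha, hc]; exact Dvd.intro_left _ rfl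
      obtain ⟨e, _, he⟩ := (Nat.dvd_prime_pow hq).mp this
      exact ⟨e, he⟩
    have hrq : r ≠ q := by
      intro h
      apply hqH
      rw [← h, ← hMcard]
      exact Dvd.intro_left _ rfl
    have hcop : Nat.Coprime r (Nat.card C) := by
      rw [hb]
      exact Nat.Coprime.pow_right _ ((Nat.coprime_primes hMp hq).mpr hrq)
    have hc1 : c ≡ 1 [MOD r] := by
      have h1 : Nat.card C * c ≡ Nat.card C * 1 [MOD r] := by
        rw [mul_one, ← hc]; exact hmod
      exact Nat.ModEq.cancel_left_of_coprime hcop h1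
    refine ⟨c :: l₁, ?_, ?_⟩
    · rw [List.prod_cons, hl₁, hc]; ring
    · intro f hf
      rcases List.mem_cons.mp hf with rfl | hf
      · refine ⟨hcq, r, hMp, ?_, hc1⟩
        rw [← hMcard]; exact Dvd.intro_left _ rfl
      · obtain ⟨h1, r', hr', hr'd, hr'm⟩ := hg₁ f hf
        exact ⟨h1, r', hr', hr'd.trans hdvd₁, hr'm⟩

end chain

section fac

/-- admissible factors. -/
def Fac (G : Type u) [Group G] (m f : ℕ) : Prop :=
  (∃ q e : ℕ, q.Prime ∧ f = q ^ e) ∧
  (∃ K L : Subgroup G, K.Normal ∧ L.Normal ∧ K < L ∧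
    (∀ M : Subgroup G, M.Normal → K ≤ M → M ≤ L → M = K ∨ M = L) ∧ f ∣ K.relIndex L) ∧
  (∃ q : ℕ, q.Prime ∧ q ∣ m ∧ f ≡ 1 [MOD q])

theorem Fac.of_quotient {G : Type u} [Group G] (N : Subgroup G) [N.Normal] {m' m f : ℕ}
    (hm : m' ∣ m) (h : Fac (G ⧸ N) m' f) : Fac G m f := by
  obtain ⟨h1, ⟨K, L, hKn, hLn, hKL, hmin, hdvd⟩, ⟨q, hq, hqm, hmod⟩⟩ := h
  have hsurj := QuotientGroup.mk'_surjective N
  refine ⟨h1, ⟨K.comap (QuotientGroup.mk' N), L.comap (QuotientGroup.mk' N), hKn.comap _,
    hLn.comap _, ?_, ?_, ?_⟩, ⟨q, hq, hqm.trans hm, hmod⟩⟩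
  · exact (Subgroup.comap_lt_comap_of_surjective hsurj).mpr hKL
  · intro M hMn hKM hML
    have hNM : N ≤ M := by
      refine le_trans ?_ hKM
      intro x hx
      rw [Subgroup.mem_comap]
      have : QuotientGroup.mk' N x = 1 := (QuotientGroup.eq_one_iff x).mpr hx
      rw [this]; exact K.one_mem
    have hM' : M = (M.map (QuotientGroup.mk' N)).comap (QuotientGroup.mk' N) := by
      rw [Subgroup.comap_map_eq, QuotientGroup.ker_mk', sup_of_le_left hNM]
    have hMn' : (M.map (QuotientGroup.mk' N)).Normal := hMn.map _ hsurj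
    have h2 : K ≤ M.map (QuotientGroup.mk' N) := by
      have := Subgroup.map_mono (f := QuotientGroup.mk' N) hKM
      rwa [Subgroup.map_comap_eq_self_of_surjective hsurj] at this
    have h3 : M.map (QuotientGroup.mk' N) ≤ L := Subgroup.map_le_iff_le_comap.mpr hML
    rcases hmin _ hMn' h2 h3 with h | h
    · left; rw [hM', h]
    · right; rw [hM', h]
  · rw [Subgroup.relIndex_comap, Subgroup.map_comap_eq_self_of_surjective hsurj]
    exact hdvd

end fac

section count

variable {G : Type u} [Group G] [Finite G]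

/-- Case A: subgroups of order `m' * |N|` all contain `N`. -/
theorem card_hallSet_quotient (N : Subgroup G) [N.Normal] (m' : ℕ)
    (hle : ∀ H : Subgroup G, Nat.card H = m' * Nat.card N → N ≤ H) :
    Nat.card (HallSet G (m' * Nat.card N)) = Nat.card (HallSet (G ⧸ N) m') := by
  have hsurj := QuotientGroup.mk'_surjective N
  have hNpos : 0 < Nat.card N := Nat.card_pos
  refine Nat.card_congr ⟨fun H => ⟨H.1.map (QuotientGroup.mk' N), ?_⟩,
    fun K => ⟨K.1.comap (QuotientGroup.mk' N), ?_⟩, ?_, ?_⟩
  · have h1 := card_map_mul_card_ker_of_le (QuotientGroup.mk' N) H.1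
      (by rw [QuotientGroup.ker_mk']; exact hle H.1 H.2)
    rw [QuotientGroup.ker_mk', H.2] at h1
    exact Nat.eq_of_mul_eq_mul_right hNpos h1
  · rw [card_comap_of_surjective _ hsurj, QuotientGroup.ker_mk', K.2]
  · intro H
    apply Subtype.ext
    show (H.1.map (QuotientGroup.mk' N)).comap (QuotientGroup.mk' N) = H.1
    rw [Subgroup.comap_map_eq, QuotientGroup.ker_mk', sup_of_le_left (hle H.1 H.2)]
  · intro K
    apply Subtype.ext
    show (K.1.comap (QuotientGroup.mk' N)).map (QuotientGroup.mk' N) = K.1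
    exact Subgroup.map_comap_eq_self_of_surjective hsurj _

/-- Case B, fibre count. -/
theorem card_fiber_mul [Group.IsSolvable G] (N : Subgroup G) [N.Normal] (m : ℕ)
    (hcop : (Nat.card N).Coprime m) (x₀ : HallSet G m) :
    Nat.card {x : HallSet G m // x.1.map (QuotientGroup.mk' N) = x₀.1.map (QuotientGroup.mk' N)} *
      Nat.card (N ⊓ Subgroup.centralizer (x₀.1 : Set G) : Subgroup G) = Nat.card N := by
  classical
  have hdisj : N ⊓ x₀.1 = ⊥ :=
    (Subgroup.disjoint_of_coprime_natCard (by rw [x₀.2]; exact hcop)).eq_bot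
  -- orbit of x₀ under N
  have horb : MulAction.orbit N x₀ =
      {x : HallSet G m | x.1.map (QuotientGroup.mk' N) = x₀.1.map (QuotientGroup.mk' N)} := by
    ext x
    constructor
    · rintro ⟨n, rfl⟩
      show ((n • x₀ : HallSet G m) : Subgroup G).map _ = _
      rw [Subgroup.smul_def, hallAction_coe, map_conj_smul]
      have : QuotientGroup.mk' N (n : G) = 1 := (QuotientGroup.eq_one_iff _).mpr n.2
      rw [this, map_one, one_smul]
    · intro hx
      have hx : x.1.map (QuotientGroup.mk' N) = x₀.1.map (QuotientGroup.mk' N) := hx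
      set L : Subgroup G := x₀.1 ⊔ N with hL
      have hxL : x.1 ≤ L := by
        calc x.1 ≤ (x.1.map (QuotientGroup.mk' N)).comap (QuotientGroup.mk' N) :=
              Subgroup.le_comap_map _ _
          _ = L := by rw [hx, Subgroup.comap_map_eq, QuotientGroup.ker_mk']
      have hx₀L : x₀.1 ≤ L := le_sup_left
      have hLcard : Nat.card L = m * Nat.card N := by
        rw [hL, card_sup_of_coprime N x₀.1 (by rw [x₀.2]; exact hcop), x₀.2, mul_comm]
      have hall := (hallProp (G := L)) m (Nat.card N) hLcard hcop.symm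
      obtain ⟨l, hl⟩ := hall.2.1 (x₀.1.subgroupOf L) (x.1.subgroupOf L)
        (by rw [card_subgroupOf_of_le hx₀L, x₀.2]) (by rw [card_subgroupOf_of_le hxL, x.2])
      obtain ⟨g, hgL, hg⟩ := conj_of_conj_subgroupOf hx₀L hxL ⟨l, hl⟩
      have hgL' : g ∈ ((N ⊔ x₀.1 : Subgroup G) : Set G) := by
        rw [sup_comm]; exact hgL
      rw [Subgroup.normal_mul] at hgL'
      obtain ⟨n, hn, h, hh, rfl⟩ := Set.mem_mul.mp hgL'
      refine ⟨⟨n, hn⟩, ?_⟩
      apply Subtype.ext
      show MulAut.conj n • x₀.1 = x.1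
      rw [← hg, ← conj_smul_conj_smul, Subgroup.conj_smul_eq_self_of_mem hh]
  have hstab : Nat.card (MulAction.stabilizer N x₀) =
      Nat.card (N ⊓ Subgroup.centralizer (x₀.1 : Set G) : Subgroup G) := by
    have h1 : MulAction.stabilizer N x₀ =
        (N ⊓ Subgroup.centralizer (x₀.1 : Set G) : Subgroup G).subgroupOf N := by
      ext n
      rw [MulAction.mem_stabilizer_iff, Subgroup.mem_subgroupOf, Subgroup.mem_inf]
      constructor
      · intro hn
        have hn' : MulAut.conj (n : G) • x₀.1 = x₀.1 := congrArg Subtype.val hn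
        refine ⟨n.2, ?_⟩
        rw [Subgroup.mem_centralizer_iff]
        intro h hh
        have h1 : (n : G) * h * (n : G)⁻¹ ∈ x₀.1 := by
          have : (n : G) * h * (n : G)⁻¹ ∈ MulAut.conj (n : G) • x₀.1 := by
            rw [mem_conj_smul_iff]
            have : (n : G)⁻¹ * ((n : G) * h * (n : G)⁻¹) * (n : G) = h := by group
            rw [this]; exact hh
          rwa [hn'] at this
        have h2 : (n : G) * h * (n : G)⁻¹ * h⁻¹ ∈ N ⊓ x₀.1 := by
          refine ⟨?_, x₀.1.mul_mem h1 (x₀.1.inv_mem hh)⟩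
          have : h * (n : G)⁻¹ * h⁻¹ ∈ N := ‹N.Normal›.conj_mem _ (N.inv_mem n.2) h
          have := N.mul_mem n.2 this
          have e : (n : G) * (h * (n : G)⁻¹ * h⁻¹) = (n : G) * h * (n : G)⁻¹ * h⁻¹ := by group
          rwa [e] at this
        rw [hdisj, Subgroup.mem_bot] at h2
        have e : h * (n : G) = ((n : G) * h * (n : G)⁻¹ * h⁻¹)⁻¹ * ((n : G) * h) := by group
        rw [e, h2, inv_one, one_mul]
      · rintro ⟨-, hc⟩
        apply Subtype.ext
        show MulAut.conj (n : G) • x₀.1 = x₀.1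
        have hnn : (n : G) ∈ Subgroup.normalizer (x₀.1 : Set G) :=
          Subgroup.centralizer_le_normalizer _ hc
        exact mem_normalizer_iff_conj_smul.mp hnn
    rw [h1, card_subgroupOf_of_le inf_le_left]
  have h3 := Subgroup.card_mul_index (MulAction.stabilizer N x₀)
  rw [MulAction.index_stabilizer, horb, hstab, ← Nat.card_coe_set_eq] at h3
  rw [mul_comm]
  exact h3

/-- Case B, full count. -/
theorem card_hallSet_coprime [Group.IsSolvable G] (N : Subgroup G) [N.Normal] (m n : ℕ)
    (hG : Nat.card G = m * n) (hmn : m.Coprime n) (hNn : Nat.card N ∣ n) (x₀ : HallSet G m) :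
    Nat.card (HallSet G m) = Nat.card (HallSet (G ⧸ N) m) *
      Nat.card {x : HallSet G m //
        x.1.map (QuotientGroup.mk' N) = x₀.1.map (QuotientGroup.mk' N)} := by
  have hsurj := QuotientGroup.mk'_surjective N
  have hcop : (Nat.card N).Coprime m := (Nat.Coprime.coprime_dvd_right hNn hmn).symm
  haveI : MulAction.IsPretransitive G (HallSet G m) := by
    refine ⟨fun x y => ?_⟩
    obtain ⟨g, hg⟩ := (hallProp (G := G) m n hG hmn).2.1 x.1 y.1 x.2 y.2
    exact ⟨g, Subtype.ext hg⟩
  let f : HallSet G m → Subgroup (G ⧸ N) := fun x => x.1.map (QuotientGroup.mk' N)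
  have hperm : ∀ (g : G) (x x' : HallSet G m), f x = f x' → f (g • x) = f (g • x') := by
    intro g x x' h
    show ((g • x : HallSet G m) : Subgroup G).map _ = ((g • x' : HallSet G m) : Subgroup G).map _
    rw [hallAction_coe, hallAction_coe, map_conj_smul, map_conj_smul]
    have h' : x.1.map (QuotientGroup.mk' N) = x'.1.map (QuotientGroup.mk' N) := h
    rw [h']
  have key := card_eq_card_range_mul_card_fiber (G := G) f hperm x₀
  obtain ⟨n', hn'⟩ := hNn
  have hQcard : Nat.card (G ⧸ N) = m * n' := by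
    have h1 := Subgroup.card_eq_card_quotient_mul_card_subgroup N
    have hNpos : 0 < Nat.card N := Nat.card_pos
    rw [hG, hn'] at h1
    have : m * n' * Nat.card N = Nat.card (G ⧸ N) * Nat.card N := by rw [← h1]; ring
    exact (Nat.eq_of_mul_eq_mul_right hNpos this).symm
  have hmn' : m.Coprime n' := Nat.Coprime.coprime_dvd_right (Dvd.intro_left _ hn'.symm) hmn
  have hrange : Set.range f = {K : Subgroup (G ⧸ N) | Nat.card K = m} := by
    ext K
    constructor
    · rintro ⟨x, rfl⟩
      show Nat.card (x.1.map (QuotientGroup.mk' N)) = m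
      rw [card_map_of_coprime _ _ (by rw [QuotientGroup.ker_mk', x.2]; exact hcop.symm), x.2]
    · intro hK
      have hK : Nat.card K = m := hK
      have hx₀ : Nat.card (x₀.1.map (QuotientGroup.mk' N)) = m := by
        rw [card_map_of_coprime _ _ (by rw [QuotientGroup.ker_mk', x₀.2]; exact hcop.symm), x₀.2]
      obtain ⟨c, hc⟩ := (hallProp (G := G ⧸ N) m n' hQcard hmn').2.1 _ K hx₀ hK
      obtain ⟨g, rfl⟩ := hsurj c
      refine ⟨g • x₀, ?_⟩
      show ((g • x₀ : HallSet G m) : Subgroup G).map _ = K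
      rw [hallAction_coe, map_conj_smul]
      exact hc
  rw [key, hrange]
  rfl

end count

section main

theorem main_aux : ∀ (k : ℕ) (G : Type u) [Group G] [Finite G] [Group.IsSolvable G],
    Nat.card G = k → ∀ m n : ℕ, Nat.card G = m * n → m.Coprime n →
    ∃ l : List ℕ, l.prod = Nat.card (HallSet G m) ∧ ∀ f ∈ l, Fac G m f := by
  intro k
  induction k using Nat.strong_induction_on with
  | _ k IH =>
  intro G _ _ _ hk m n hG hmn
  by_cases hnt : Nontrivial G
  · obtain ⟨N, hN⟩ := exists_isMinNormal (G := G)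
    haveI hNn : N.Normal := hN.1
    obtain ⟨q, hq, hqN, -, hNp⟩ := hN.exists_prime
    haveI : Fact q.Prime := ⟨hq⟩
    have hNpos : 0 < Nat.card N := Nat.card_pos
    have hcardQ := Subgroup.card_eq_card_quotient_mul_card_subgroup N
    have hN1 : 1 < Nat.card N := by
      have : Nat.card N ≠ 1 := fun h => hN.2.1 (Subgroup.card_eq_one.mp h)
      omega
    have hQlt : Nat.card (G ⧸ N) < k := by
      rw [← hk, hcardQ]
      have : 0 < Nat.card (G ⧸ N) := Nat.card_pos
      nlinarith
    obtain ⟨e, he⟩ := hNp.exists_card_eq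
    have hNG : Nat.card N ∣ m * n := by rw [← hG]; exact Subgroup.card_subgroup_dvd_card N
    by_cases hqm : q ∣ m
    · -- Case A
      have hqn : Nat.Coprime (Nat.card N) n := by
        rw [he]
        apply Nat.Coprime.pow_left
        exact Nat.Coprime.coprime_dvd_left hqm hmn
      have hNm : Nat.card N ∣ m := hqn.dvd_of_dvd_mul_right hNG
      obtain ⟨m', hm'⟩ := hNm
      have hm'' : m = m' * Nat.card N := by rw [hm', mul_comm]
      have hQcard : Nat.card (G ⧸ N) = m' * n := by
        have : m' * n * Nat.card N = Nat.card (G ⧸ N) * Nat.card N := by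
          rw [← hcardQ, hG, hm'']; ring
        exact (Nat.eq_of_mul_eq_mul_right hNpos this).symm
      have hm'n : m'.Coprime n := Nat.Coprime.coprime_dvd_left (Dvd.intro_left _ hm'.symm) hmn
      obtain ⟨l, hl, hfac⟩ := IH _ hQlt (G ⧸ N) rfl m' n hQcard hm'n
      refine ⟨l, ?_, fun f hf => Fac.of_quotient N (Dvd.intro_left _ hm'.symm) (hfac f hf)⟩
      rw [hl, hm'']
      symm
      apply card_hallSet_quotient
      intro H hH
      exact normal_le_of_card_dvd N H m n hG hmn (by rw [hH, ← hm'']) (Dvd.intro_left _ hm''.symm)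
    · -- Case B
      have hcopNm : (Nat.card N).Coprime m := by
        rw [he]
        apply Nat.Coprime.pow_left
        exact (Nat.Prime.coprime_iff_not_dvd hq).mpr hqm
      have hNn' : Nat.card N ∣ n := hcopNm.dvd_of_dvd_mul_left hNG
      obtain ⟨H₀, hH₀⟩ := (hallProp (G := G) m n hG hmn).1
      let x₀ : HallSet G m := ⟨H₀, hH₀⟩
      have hcount := card_hallSet_coprime N m n hG hmn hNn' x₀
      have hfib := card_fiber_mul N m hcopNm x₀
      obtain ⟨n', hn'⟩ := hNn'
      have hQcard : Nat.card (G ⧸ N) = m * n' := by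
        have : m * n' * Nat.card N = Nat.card (G ⧸ N) * Nat.card N := by
          rw [← hcardQ, hG, hn']; ring
        exact (Nat.eq_of_mul_eq_mul_right hNpos this).symm
      have hmn' : m.Coprime n' := Nat.Coprime.coprime_dvd_right (Dvd.intro_left _ hn'.symm) hmn
      obtain ⟨l', hl', hfac'⟩ := IH _ hQlt (G ⧸ N) rfl m n' hQcard hmn'
      have hH₀sol : Group.IsSolvable H₀ := inferInstance
      have hH₀N : H₀ ≤ Subgroup.normalizer (N : Set G) := by
        rw [Subgroup.normalizer_eq_top]; exact le_top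
      obtain ⟨l, hl, hgood⟩ := cent_factor q hq N hNp _ H₀ rfl hH₀sol hH₀N
        (by rw [hH₀]; exact hqm)
      have hCpos : 0 < Nat.card (N ⊓ Subgroup.centralizer (H₀ : Set G) : Subgroup G) :=
        Nat.card_pos
      have hfibeq : Nat.card {x : HallSet G m //
          x.1.map (QuotientGroup.mk' N) = x₀.1.map (QuotientGroup.mk' N)} = l.prod := by
        have : Nat.card {x : HallSet G m //
            x.1.map (QuotientGroup.mk' N) = x₀.1.map (QuotientGroup.mk' N)} *
            Nat.card (N ⊓ Subgroup.centralizer (H₀ : Set G) : Subgroup G) =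
            l.prod * Nat.card (N ⊓ Subgroup.centralizer (H₀ : Set G) : Subgroup G) := by
          rw [hfib, hl]; ring
        exact Nat.eq_of_mul_eq_mul_right hCpos this
      refine ⟨l' ++ l, ?_, ?_⟩
      · rw [List.prod_append, hl', hcount, hfibeq]
      · intro f hf
        rcases List.mem_append.mp hf with hf | hf
        · exact Fac.of_quotient N dvd_rfl (hfac' f hf)
        · obtain ⟨⟨e', he'⟩, r, hr, hrm, hmod⟩ := hgood f hf
          refine ⟨⟨q, e', hq, he'⟩, ⟨⊥, N, inferInstance, hNn, bot_lt_iff_ne_bot.mpr hN.2.1, ?_, ?_⟩,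
            ⟨r, hr, by rw [← hH₀]; exact hrm, hmod⟩⟩
          · intro M hMn _ hMN
            exact hN.2.2 M hMn hMN
          · rw [Subgroup.relIndex_bot_left, hl]
            exact Dvd.dvd.mul_left (List.dvd_prod hf) _
  · rw [not_nontrivial_iff_subsingleton] at hnt
    have hc1 : Nat.card G = 1 := Nat.card_eq_one_iff_unique.mpr ⟨hnt, ⟨1⟩⟩
    have hm1 : m = 1 := by
      rw [hc1] at hG
      exact Nat.eq_one_of_mul_eq_one_right hG.symm
    refine ⟨[], ?_, by intro f hf; simp at hf⟩
    rw [List.prod_nil]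
    symm
    rw [Nat.card_eq_one_iff_unique]
    refine ⟨⟨fun a b => Subtype.ext ?_⟩, ⟨⟨⊥, by rw [Subgroup.card_bot, hm1]⟩⟩⟩
    ext x
    have : x = 1 := Subsingleton.elim _ _
    subst this
    simp

end main

/-- Let `G` be a finite solvable group of order `mn` with `gcd(m, n) = 1`. Then the number of subgroups of order `m` is a product of natural numbers each of which is a power of a prime, divides the order of some chief factor of `G` (a quotient `L/K` of normal subgroups `K < L` of `G` with no normal subgroup of `G` strictly between them), and is congruent to `1` modulo some prime divisor of `m`. -/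
theorem result {G : Type*} [Group G] [Finite G] [Group.IsSolvable G] (m n : ℕ) (hG : Nat.card G = m * n) (hmn : Nat.Coprime m n) : ∃ (k : ℕ) (f : Fin k → ℕ), Nat.card {H : Subgroup G // Nat.card H = m} = ∏ i, f i ∧ ∀ i, (∃ q e : ℕ, q.Prime ∧ f i = q ^ e) ∧ (∃ K L : Subgroup G, K.Normal ∧ L.Normal ∧ K < L ∧ (∀ M : Subgroup G, M.Normal → K ≤ M → M ≤ L → M = K ∨ M = L) ∧ f i ∣ K.relIndex L) ∧ (∃ q : ℕ, q.Prime ∧ q ∣ m ∧ f i ≡ 1 [MOD q]) := by
  obtain ⟨l, hl, hfac⟩ := main_aux _ G rfl m n hG hmn
  refine ⟨l.length, l.get, ?_, ?_⟩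
  · rw [← List.prod_ofFn, List.ofFn_get]
    exact hl.symm
  · intro i
    exact hfac _ (List.get_mem l i)

end Cfsg.Agent.S4214
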