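import Cfsg.Statements.S4217

set_option autoImplicit false
open Cfsg

namespace Cfsg.Agent.S4217

universe u

variable {G : Type u} [Group G]

/-- `π` is a crossed homomorphism `H → A` restricting to the `k`-th power map on `A`. -/
structure IsCrossed (A H : Subgroup G) (k : ℤ) (π : G → G) : Prop where
  mem : ∀ h ∈ H, π h ∈ A
  mul : ∀ h ∈ H, ∀ h' ∈ H, π (h * h') = π h * (h * π h' * h⁻¹)
  onA : ∀ a ∈ A, π a = a ^ k

def Good (A H : Subgroup G) (k : ℤ) : Prop := ∃ π : G → G, IsCrossed A H k π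

/-- Step 4: a crossed homomorphism `G → A` which is the identity on `A` gives a complement. -/
lemma exists_complement_of_good (A : Subgroup G) [A.Normal]
    (hcomm : ∀ a ∈ A, ∀ b ∈ A, a * b = b * a) (h : Good A ⊤ 1) :
    ∃ K : Subgroup G, K.IsComplement' A := by
  obtain ⟨π, hπ⟩ := h
  have hmul : ∀ g h : G, π (g * h) = π g * (g * π h * g⁻¹) :=
    fun g h => hπ.mul g (Subgroup.mem_top g) h (Subgroup.mem_top h)
  have hmem : ∀ g : G, π g ∈ A := fun g => hπ.mem g (Subgroup.mem_top g)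
  have honA : ∀ a ∈ A, π a = a := fun a ha => by rw [hπ.onA a ha, zpow_one]
  have h1 : π 1 = 1 := honA 1 A.one_mem
  let K : Subgroup G :=
    { carrier := {g | π g = 1}
      one_mem' := h1
      mul_mem' := by
        intro a b ha hb
        change π (a * b) = 1
        rw [hmul, (ha : π a = 1), (hb : π b = 1)]
        group
      inv_mem' := by
        intro a ha
        change π a⁻¹ = 1
        have h2 := hmul a⁻¹ a
        rw [inv_mul_cancel, h1, (ha : π a = 1)] at h2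
        have : π a⁻¹ * (a⁻¹ * 1 * a⁻¹⁻¹) = π a⁻¹ := by group
        rw [this] at h2
        exact h2.symm }
  have hK : ∀ g, g ∈ K ↔ π g = 1 := fun g => Iff.rfl
  refine ⟨K, (Subgroup.isComplement'_of_disjoint_and_mul_eq_univ ?_ ?_).symm⟩
  · rw [Subgroup.disjoint_def]
    intro x hxA hxK
    rw [hK] at hxK
    rw [← honA x hxA, hxK]
  · rw [Set.eq_univ_iff_forall]
    intro g
    refine ⟨π g, hmem g, (π g)⁻¹ * g, ?_, by group⟩
    change π ((π g)⁻¹ * g) = 1
    rw [hmul, honA _ (A.inv_mem (hmem g))]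
    have hc := hcomm _ (hmem g) _ (A.inv_mem (hmem g))
    calc (π g)⁻¹ * ((π g)⁻¹ * π g * (π g)⁻¹⁻¹) = (π g)⁻¹ * π g := by group
      _ = 1 := inv_mul_cancel _


lemma good_zpow (A H : Subgroup G) [A.Normal]
    (hcomm : ∀ a ∈ A, ∀ b ∈ A, a * b = b * a) (k x : ℤ) (h : Good A H k) :
    Good A H (k * x) := by
  obtain ⟨π, hπ⟩ := h
  refine ⟨fun g => (π g) ^ x, ⟨?_, ?_, ?_⟩⟩
  · intro h hh
    exact A.zpow_mem (hπ.mem h hh) x
  · intro h hh h' hh'
    have hc : Commute (π h) (h * π h' * h⁻¹) :=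
      hcomm _ (hπ.mem h hh) _ (Subgroup.Normal.conj_mem inferInstance _ (hπ.mem h' hh') h)
    change (π (h * h')) ^ x = (π h) ^ x * (h * (π h') ^ x * h⁻¹)
    rw [hπ.mul h hh h' hh', hc.mul_zpow, conj_zpow]
  · intro a ha
    change (π a) ^ x = a ^ (k * x)
    rw [hπ.onA a ha, zpow_mul]

lemma good_add (A H : Subgroup G) [A.Normal]
    (hcomm : ∀ a ∈ A, ∀ b ∈ A, a * b = b * a) (k l : ℤ) (h1 : Good A H k) (h2 : Good A H l) :
    Good A H (k + l) := by
  obtain ⟨π, hπ⟩ := h1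
  obtain ⟨ρ, hρ⟩ := h2
  refine ⟨fun g => π g * ρ g, ⟨?_, ?_, ?_⟩⟩
  · intro h hh
    exact A.mul_mem (hπ.mem h hh) (hρ.mem h hh)
  · intro h hh h' hh'
    have hc : Commute (h * π h' * h⁻¹) (ρ h) :=
      hcomm _ (Subgroup.Normal.conj_mem inferInstance _ (hπ.mem h' hh') h) _ (hρ.mem h hh)
    change π (h * h') * ρ (h * h') = π h * ρ h * (h * (π h' * ρ h') * h⁻¹)
    rw [hπ.mul h hh h' hh', hρ.mul h hh h' hh', hc.mul_mul_mul_comm]
    congr 1
    group
  · intro a ha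
    change π a * ρ a = a ^ (k + l)
    rw [hπ.onA a ha, hρ.onA a ha, zpow_add]

lemma good_comb (A H : Subgroup G) [A.Normal]
    (hcomm : ∀ a ∈ A, ∀ b ∈ A, a * b = b * a) (k l x y : ℤ) (h1 : Good A H k)
    (h2 : Good A H l) : Good A H (k * x + l * y) :=
  good_add A H hcomm _ _ (good_zpow A H hcomm k x h1) (good_zpow A H hcomm l y h2)

lemma good_gcd (A H : Subgroup G) [A.Normal]
    (hcomm : ∀ a ∈ A, ∀ b ∈ A, a * b = b * a) (k l : ℕ) (h1 : Good A H (k : ℤ))
    (h2 : Good A H (l : ℤ)) : Good A H ((Nat.gcd k l : ℕ) : ℤ) := by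
  rw [Nat.gcd_eq_gcd_ab]
  exact good_comb A H hcomm _ _ _ _ h1 h2

/-- Step 1: a complement `K` of `A` in `H` gives a crossed homomorphism. -/
lemma good_of_complement (A H K : Subgroup G) [A.Normal]
    (hcomm : ∀ a ∈ A, ∀ b ∈ A, a * b = b * a) (hKA : K ⊓ A = ⊥) (hH : K ⊔ A = H) :
    Good A H 1 := by
  classical
  have hKH : K ≤ H := hH ▸ le_sup_left
  have hAH : A ≤ H := hH ▸ le_sup_right
  have hex : ∀ h ∈ H, ∃ a ∈ A, ∃ k ∈ K, a * k = h := by
    intro h hh
    rw [← hH, sup_comm] at hh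
    have : h ∈ ((A ⊔ K : Subgroup G) : Set G) := hh
    rw [Subgroup.normal_mul] at this
    obtain ⟨a, ha, k, hk, rfl⟩ := Set.mem_mul.1 this
    exact ⟨a, ha, k, hk, rfl⟩
  have huniq : ∀ a ∈ A, ∀ k ∈ K, ∀ a' ∈ A, ∀ k' ∈ K, a * k = a' * k' → a = a' := by
    intro a ha k hk a' ha' k' hk' h
    have h1 : a'⁻¹ * a = k' * k⁻¹ := by
      have : a = a' * k' * k⁻¹ := by rw [← h]; group
      rw [this]; group
    have h2 : a'⁻¹ * a ∈ K ⊓ A :=
      ⟨h1 ▸ K.mul_mem hk' (K.inv_mem hk), A.mul_mem (A.inv_mem ha') ha⟩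
    rw [hKA, Subgroup.mem_bot] at h2
    exact (inv_mul_eq_one.1 h2).symm
  let π : G → G := fun h => if hh : h ∈ H then Classical.choose (hex h hh) else 1
  have hπ : ∀ a ∈ A, ∀ k ∈ K, π (a * k) = a := by
    intro a ha k hk
    have hh : a * k ∈ H := H.mul_mem (hAH ha) (hKH hk)
    have hdef : π (a * k) = Classical.choose (hex (a * k) hh) := dif_pos hh
    obtain ⟨ha', k', hk', h'⟩ := Classical.choose_spec (hex (a * k) hh)
    rw [hdef]
    exact huniq _ ha' k' hk' a ha k hk h'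
  refine ⟨π, ⟨?_, ?_, ?_⟩⟩
  · intro h hh
    obtain ⟨a, ha, k, hk, rfl⟩ := hex h hh
    rw [hπ a ha k hk]; exact ha
  · intro h hh h' hh'
    obtain ⟨a, ha, k, hk, rfl⟩ := hex h hh
    obtain ⟨a', ha', k', hk', rfl⟩ := hex h' hh'
    have hconj : k * a' * k⁻¹ ∈ A := Subgroup.Normal.conj_mem inferInstance _ ha' k
    have h1 : a * k * (a' * k') = (a * (k * a' * k⁻¹)) * (k * k') := by group
    rw [h1, hπ _ (A.mul_mem ha hconj) _ (K.mul_mem hk hk'), hπ a ha k hk, hπ a' ha' k' hk']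
    congr 1
    have hc := hcomm _ ha _ hconj
    calc k * a' * k⁻¹ = k * a' * k⁻¹ * a * a⁻¹ := by group
      _ = a * (k * a' * k⁻¹) * a⁻¹ := by rw [hc]
      _ = a * k * a' * (a * k)⁻¹ := by group
  · intro a ha
    have := hπ a ha 1 K.one_mem
    rw [mul_one] at this
    rw [this, zpow_one]


/-- Step 2: corestriction of a crossed homomorphism. -/
lemma good_cores [Finite G] (A H : Subgroup G) [A.Normal]
    (hcomm : ∀ a ∈ A, ∀ b ∈ A, a * b = b * a) (hAH : A ≤ H) (h : Good A H 1) :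
    Good A ⊤ (H.index : ℤ) := by
  classical
  obtain ⟨π, hπ⟩ := h
  letI : Fintype (G ⧸ H) := Fintype.ofFinite _
  letI : CommGroup A :=
    { (inferInstance : Group A) with
      mul_comm := fun a b => Subtype.ext (hcomm a a.2 b b.2) }
  let t : G ⧸ H → G := fun q => q.out
  have ht : ∀ q, ((t q : G) : G ⧸ H) = q := fun q => QuotientGroup.out_eq' q
  have hsm : ∀ (g : G) (q : G ⧸ H), g • q = ((g * t q : G) : G ⧸ H) := by
    intro g q
    conv_lhs => rw [← ht q]
    rfl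
  have hmemH : ∀ (g : G) (q : G ⧸ H), (t (g • q))⁻¹ * g * t q ∈ H := by
    intro g q
    have h1 : ((t (g • q) : G) : G ⧸ H) = ((g * t q : G) : G ⧸ H) := by rw [ht, hsm]
    have := QuotientGroup.eq.1 h1
    rwa [← mul_assoc] at this
  let F : G → G ⧸ H → A := fun g q =>
    ⟨t (g • q) * π ((t (g • q))⁻¹ * g * t q) * (t (g • q))⁻¹,
      Subgroup.Normal.conj_mem inferInstance _ (hπ.mem _ (hmemH g q)) _⟩
  have hF : ∀ g q, ((F g q : A) : G) =
      t (g • q) * π ((t (g • q))⁻¹ * g * t q) * (t (g • q))⁻¹ := fun g q => rfl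
  let conjA : G → (A →* A) := fun g => (MulAut.conjNormal g : MulAut A).toMonoidHom
  have hconjA : ∀ (g : G) (a : A), ((conjA g a : A) : G) = g * a * g⁻¹ := fun g a => rfl
  have hkey : ∀ g₁ g₂ q, F (g₁ * g₂) q = F g₁ (g₂ • q) * conjA g₁ (F g₂ q) := by
    intro g₁ g₂ q
    apply Subtype.ext
    rw [Subgroup.coe_mul, hconjA, hF, hF, hF]
    have hq : (g₁ * g₂) • q = g₁ • (g₂ • q) := mul_smul g₁ g₂ q
    rw [hq]
    have h1 : (t (g₁ • g₂ • q))⁻¹ * (g₁ * g₂) * t q =
        ((t (g₁ • g₂ • q))⁻¹ * g₁ * t (g₂ • q)) * ((t (g₂ • q))⁻¹ * g₂ * t q) := by group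
    rw [h1, hπ.mul _ (hmemH g₁ (g₂ • q)) _ (hmemH g₂ q)]
    generalize π ((t (g₁ • g₂ • q))⁻¹ * g₁ * t (g₂ • q)) = w
    generalize π ((t (g₂ • q))⁻¹ * g₂ * t q) = z
    group
  refine ⟨fun g => ((∏ q, F g q : A) : G), ⟨?_, ?_, ?_⟩⟩
  · intro g _
    exact (∏ q, F g q : A).2
  · intro g₁ _ g₂ _
    change ((∏ q, F (g₁ * g₂) q : A) : G) =
      ((∏ q, F g₁ q : A) : G) * (g₁ * ((∏ q, F g₂ q : A) : G) * g₁⁻¹)
    rw [← hconjA, ← Subgroup.coe_mul]
    congr 1
    rw [map_prod, ← Equiv.prod_comp (MulAction.toPerm g₂) (fun q => F g₁ q),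
      ← Finset.prod_mul_distrib]
    refine Finset.prod_congr rfl (fun q _ => ?_)
    rw [hkey]
    rfl
  · intro a ha
    have hfix : ∀ q : G ⧸ H, a • q = q := by
      intro q
      rw [hsm]
      conv_rhs => rw [← ht q]
      rw [QuotientGroup.eq]
      have : (a * t q)⁻¹ * t q = (t q)⁻¹ * a⁻¹ * (t q)⁻¹⁻¹ := by group
      rw [this]
      exact hAH (Subgroup.Normal.conj_mem inferInstance _ (A.inv_mem ha) _)
    have hFa : ∀ q, F a q = ⟨a, ha⟩ := by
      intro q
      apply Subtype.ext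
      rw [hF, hfix q]
      have hm : (t q)⁻¹ * a * t q ∈ A := by
        have := Subgroup.Normal.conj_mem (inferInstance : A.Normal) _ ha (t q)⁻¹
        rwa [inv_inv] at this
      rw [hπ.onA _ hm, zpow_one]
      group
    change ((∏ q, F a q : A) : G) = a ^ (H.index : ℤ)
    rw [Finset.prod_congr rfl (fun q _ => hFa q), Finset.prod_const, Finset.card_univ,
      Subgroup.coe_pow, zpow_natCast, Subgroup.index_eq_card, Nat.card_eq_fintype_card]


theorem backward [Finite G] (A : Subgroup G) [A.Normal]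
    (hcomm : ∀ a ∈ A, ∀ b ∈ A, a * b = b * a)
    (hyp : ∀ p : ℕ, p.Prime → p ∣ A.index → ∃ (S : Sylow p (G ⧸ A)) (K : Subgroup G),
      K ⊓ A = ⊥ ∧ K ⊔ A = (S : Subgroup (G ⧸ A)).comap (QuotientGroup.mk' A)) :
    ∃ K : Subgroup G, K.IsComplement' A := by
  classical
  have hstep : ∀ p : ℕ, p.Prime → p ∣ A.index → ∃ m : ℕ, ¬ p ∣ m ∧ Good A ⊤ (m : ℤ) := by
    intro p hp hpd
    haveI : Fact p.Prime := ⟨hp⟩
    obtain ⟨S, K, h1, h2⟩ := hyp p hp hpd
    refine ⟨((S : Subgroup (G ⧸ A)).comap (QuotientGroup.mk' A)).index, ?_, ?_⟩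
    · rw [Subgroup.index_comap_of_surjective _ (QuotientGroup.mk'_surjective A)]
      exact S.not_dvd_index
    · apply good_cores A _ hcomm
      · rw [← h2]; exact le_sup_right
      · exact good_of_complement A _ K hcomm h1 h2
  have hA : Good A ⊤ (A.index : ℤ) := by
    apply good_cores A A hcomm le_rfl
    exact good_of_complement A A ⊥ hcomm (bot_inf_eq A) (bot_sup_eq A)
  have hind : ∀ s : Finset ℕ, (∀ p ∈ s, p.Prime ∧ p ∣ A.index) →
      ∃ d : ℕ, Good A ⊤ (d : ℤ) ∧ d ∣ A.index ∧ ∀ p ∈ s, ¬ p ∣ d := by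
    intro s
    induction s using Finset.induction_on with
    | empty => intro _; exact ⟨A.index, hA, dvd_rfl, by simp⟩
    | insert p s hps ih =>
      intro hs
      obtain ⟨d, hd1, hd2, hd3⟩ := ih (fun q hq => hs q (Finset.mem_insert_of_mem hq))
      obtain ⟨m, hm1, hm2⟩ := hstep p (hs p (Finset.mem_insert_self _ _)).1
        (hs p (Finset.mem_insert_self _ _)).2
      refine ⟨Nat.gcd d m, good_gcd A ⊤ hcomm d m hd1 hm2,
        (Nat.gcd_dvd_left _ _).trans hd2, ?_⟩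
      intro q hq
      rcases Finset.mem_insert.1 hq with rfl | hq
      · exact fun h => hm1 (h.trans (Nat.gcd_dvd_right _ _))
      · exact fun h => hd3 q hq (h.trans (Nat.gcd_dvd_left _ _))
  obtain ⟨d, hd1, hd2, hd3⟩ := hind A.index.primeFactors
    (fun p hp => ⟨Nat.prime_of_mem_primeFactors hp, Nat.dvd_of_mem_primeFactors hp⟩)
  have hd : d = 1 := by
    by_contra hne
    obtain ⟨r, hr, hrd⟩ := Nat.exists_prime_and_dvd hne
    have : r ∈ A.index.primeFactors :=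
      Nat.mem_primeFactors.2 ⟨hr, hrd.trans hd2, Subgroup.index_ne_zero_of_finite⟩
    exact hd3 r this hrd
  rw [hd] at hd1
  exact exists_complement_of_good A hcomm (by simpa using hd1)

theorem forward [Finite G] (A : Subgroup G) [A.Normal]
    (h : ∃ K : Subgroup G, K.IsComplement' A) :
    ∀ p : ℕ, p.Prime → p ∣ A.index → ∃ (S : Sylow p (G ⧸ A)) (K : Subgroup G),
      K ⊓ A = ⊥ ∧ K ⊔ A = (S : Subgroup (G ⧸ A)).comap (QuotientGroup.mk' A) := by
  obtain ⟨K, hK⟩ := h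
  intro p hp _
  haveI : Fact p.Prime := ⟨hp⟩
  let f : K →* G ⧸ A := (QuotientGroup.mk' A).comp K.subtype
  have hf : Function.Surjective f := by
    intro q
    induction q using QuotientGroup.induction_on with
    | H g =>
      have hg : g ∈ ((K ⊔ A : Subgroup G) : Set G) := by
        rw [hK.sup_eq_top]; exact Set.mem_univ _
      rw [Subgroup.mul_normal] at hg
      obtain ⟨k, hk, a, ha, rfl⟩ := Set.mem_mul.1 hg
      refine ⟨⟨k, hk⟩, ?_⟩
      change ((k : G) : G ⧸ A) = ((k * a : G) : G ⧸ A)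
      rw [QuotientGroup.eq]
      simpa using ha
  let P : Sylow p K := default
  refine ⟨P.mapSurjective hf, (P : Subgroup K).map K.subtype, ?_, ?_⟩
  · have h1 : (P : Subgroup K).map K.subtype ≤ K := Subgroup.map_subtype_le _
    have h2 := hK.disjoint
    rw [disjoint_iff] at h2
    exact le_bot_iff.1 (h2 ▸ inf_le_inf_right A h1)
  · rw [Sylow.coe_mapSurjective]
    change _ = Subgroup.comap (QuotientGroup.mk' A)
      (Subgroup.map ((QuotientGroup.mk' A).comp K.subtype) (P : Subgroup K))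
    rw [← Subgroup.map_map, Subgroup.comap_map_eq, QuotientGroup.ker_mk']

theorem result {G : Type*} [Group G] [Finite G] (A : Subgroup G) [A.Normal] (hA : IsMulCommutative A) : (∃ K : Subgroup G, K.IsComplement' A) ↔ ∀ p : ℕ, p.Prime → p ∣ A.index → ∃ (S : Sylow p (G ⧸ A)) (K : Subgroup G), K ⊓ A = ⊥ ∧ K ⊔ A = (S : Subgroup (G ⧸ A)).comap (QuotientGroup.mk' A) := by
  have hcomm : ∀ a ∈ A, ∀ b ∈ A, a * b = b * a := by
    intro a ha b hb
    have := mul_comm' (⟨a, ha⟩ : A) ⟨b, hb⟩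
    exact congrArg Subtype.val this
  exact ⟨forward A, backward A hcomm⟩

end Cfsg.Agent.S4217
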