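import Cfsg.Statements.S4218
import Cfsg.Agent.Lib.Helper75.FrattiniFaithful

set_option autoImplicit false
open Cfsg

namespace Cfsg.Agent.S4218

open Cfsg.Agent.Lib.Helper75

theorem mem_map_subtype_iff {X : Type*} [Group X] (R : Subgroup X) (K : Subgroup R) (x : X) :
    x ∈ K.map R.subtype ↔ ∃ hx : x ∈ R, (⟨x, hx⟩ : R) ∈ K := by
  constructor
  · rintro ⟨w, hw, rfl⟩
    exact ⟨w.2, hw⟩
  · rintro ⟨hx, hK⟩
    exact ⟨⟨x, hx⟩, hK, rfl⟩

/-- Let `G` be a finite `p`-solvable group, `N₀ = O_{p'}(G)`, `P₁ = O_{p',p}(G)`, and let `F ≤ P₁` be the preimage of the Frattini subgroup of `P₁/N₀`. Then an element `g` of `G` induces the identity on `P₁/F` by conjugation (that is, `g x g⁻¹ x⁻¹ ∈ F` for all `x ∈ P₁`) if and only if `g ∈ P₁`: the group `G/P₁` acts faithfully on `P₁/F`. -/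
theorem result {G : Type*} [Group G] [Finite G] {p : ℕ} [Fact p.Prime] (hG : Cfsg.IsPSolvable p G) (g : G) : (∀ x ∈ Cfsg.pPrimePCore p G, g * x * g⁻¹ * x⁻¹ ∈ ((frattini (↥(Cfsg.pPrimePCore p G) ⧸ (Cfsg.pPrimeCore p G).subgroupOf (Cfsg.pPrimePCore p G))).comap (QuotientGroup.mk' ((Cfsg.pPrimeCore p G).subgroupOf (Cfsg.pPrimePCore p G)))).map (Cfsg.pPrimePCore p G).subtype) ↔ g ∈ Cfsg.pPrimePCore p G := by
  have hp : p.Prime := Fact.out
  have hRp : IsPGroup p (pCore p (G ⧸ pPrimeCore p G)) := Cfsg.Agent.Lib.Helper81.isPGroup_pCore p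
  have hXsol : IsPSolvable p (G ⧸ pPrimeCore p G) :=
    Cfsg.Agent.Lib.Helper81.IsPSolvable.quotient hp hG (pPrimeCore p G)
  have hXcore : pPrimeCore p (G ⧸ pPrimeCore p G) = ⊥ :=
    Cfsg.Agent.Lib.Helper81.pPrimeCore_quotient_eq_bot p
  have hcent : Subgroup.centralizer ((pCore p (G ⧸ pPrimeCore p G) : Subgroup (G ⧸ pPrimeCore p G)) : Set (G ⧸ pPrimeCore p G))
      ≤ pCore p (G ⧸ pPrimeCore p G) :=
    Cfsg.Agent.Lib.Helper81.centralizer_pCore_le hXsol hXcore
  have hmemP : ∀ z : G, z ∈ pPrimePCore p G ↔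
      QuotientGroup.mk' (pPrimeCore p G) z ∈ pCore p (G ⧸ pPrimeCore p G) := fun z => Iff.rfl
  -- the map `P₁ → R`
  let f : pPrimePCore p G →* pCore p (G ⧸ pPrimeCore p G) :=
    ((QuotientGroup.mk' (pPrimeCore p G)).comp (pPrimePCore p G).subtype).codRestrict
      (pCore p (G ⧸ pPrimeCore p G)) (fun z => z.2)
  have hf_apply : ∀ z : pPrimePCore p G, ((f z : pCore p (G ⧸ pPrimeCore p G)) : G ⧸ pPrimeCore p G)
      = QuotientGroup.mk' (pPrimeCore p G) (z : G) := fun z => rfl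
  have hf_surj : Function.Surjective f := by
    intro y
    obtain ⟨x, hx⟩ := QuotientGroup.mk'_surjective (pPrimeCore p G) (y : G ⧸ pPrimeCore p G)
    have hxP : x ∈ pPrimePCore p G := by
      rw [hmemP, hx]; exact y.2
    refine ⟨⟨x, hxP⟩, ?_⟩
    apply Subtype.ext
    rw [hf_apply]
    exact hx
  have hf_ker : f.ker = (pPrimeCore p G).subgroupOf (pPrimePCore p G) := by
    ext z
    rw [MonoidHom.mem_ker, Subgroup.mem_subgroupOf, Subtype.ext_iff, hf_apply]
    simp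
  let e : (↥(pPrimePCore p G) ⧸ (pPrimeCore p G).subgroupOf (pPrimePCore p G)) ≃*
      pCore p (G ⧸ pPrimeCore p G) :=
    (QuotientGroup.quotientMulEquivOfEq hf_ker.symm).trans
      (QuotientGroup.quotientKerEquivOfSurjective f hf_surj)
  have he : ∀ z : pPrimePCore p G,
      e (QuotientGroup.mk' ((pPrimeCore p G).subgroupOf (pPrimePCore p G)) z) = f z := fun z => rfl
  -- translation
  have htrans : ∀ z : G, z ∈ ((frattini (↥(pPrimePCore p G) ⧸ (pPrimeCore p G).subgroupOf (pPrimePCore p G))).comap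
        (QuotientGroup.mk' ((pPrimeCore p G).subgroupOf (pPrimePCore p G)))).map (pPrimePCore p G).subtype ↔
      z ∈ pPrimePCore p G ∧ QuotientGroup.mk' (pPrimeCore p G) z ∈
        (frattini (pCore p (G ⧸ pPrimeCore p G))).map (pCore p (G ⧸ pPrimeCore p G)).subtype := by
    intro z
    rw [mem_map_subtype_iff]
    constructor
    · rintro ⟨hz, hz2⟩
      refine ⟨hz, ?_⟩
      rw [Subgroup.mem_comap, ← frattini_comap_mulEquiv e, Subgroup.mem_comap] at hz2
      rw [mem_map_subtype_iff]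
      refine ⟨hz, ?_⟩
      have h3 : e.toMonoidHom (QuotientGroup.mk' ((pPrimeCore p G).subgroupOf (pPrimePCore p G)) ⟨z, hz⟩)
          = f ⟨z, hz⟩ := he ⟨z, hz⟩
      rw [h3] at hz2
      exact hz2
    · rintro ⟨hz, hz2⟩
      refine ⟨hz, ?_⟩
      rw [mem_map_subtype_iff] at hz2
      obtain ⟨hz', hz3⟩ := hz2
      rw [Subgroup.mem_comap, ← frattini_comap_mulEquiv e, Subgroup.mem_comap]
      have h3 : e.toMonoidHom (QuotientGroup.mk' ((pPrimeCore p G).subgroupOf (pPrimePCore p G)) ⟨z, hz⟩)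
          = f ⟨z, hz⟩ := he ⟨z, hz⟩
      rw [h3]
      exact hz3
  constructor
  · intro h
    rw [hmemP]
    apply mem_pCore_of_trivial_on_frattini_quotient (pCore p (G ⧸ pPrimeCore p G)) hRp hcent
    intro y hy
    obtain ⟨x, rfl⟩ := QuotientGroup.mk'_surjective (pPrimeCore p G) y
    have hx : x ∈ pPrimePCore p G := (hmemP x).2 hy
    have := ((htrans _).1 (h x hx)).2
    simpa using this
  · intro hg x hx
    rw [htrans]
    refine ⟨?_, ?_⟩
    · exact mul_mem (mul_mem (mul_mem hg hx) (inv_mem hg)) (inv_mem hx)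
    · have := trivial_on_frattini_quotient_of_mem (pCore p (G ⧸ pPrimeCore p G)) hRp
        (QuotientGroup.mk' (pPrimeCore p G) g) ((hmemP g).1 hg)
        (QuotientGroup.mk' (pPrimeCore p G) x) ((hmemP x).1 hx)
      simpa using this

end Cfsg.Agent.S4218
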