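import Cfsg.Statements.S4219

set_option autoImplicit false
open Cfsg
open scoped Pointwise

namespace Cfsg.Agent.S4219

theorem conj_le_imp_mem_normalizer {G : Type*} [Group G] [Finite G] (Q : Subgroup G) (g : G)
    (h : Q.map (MulAut.conj g).toMonoidHom ≤ Q) : g ∈ Subgroup.normalizer (Q : Set G) := by
  have hcard : Nat.card Q ≤ Nat.card (Q.map (MulAut.conj g).toMonoidHom) := by
    rw [Subgroup.card_map_of_injective (MulAut.conj g).injective]
  have heq : Q.map (MulAut.conj g).toMonoidHom = Q := Subgroup.eq_of_le_of_card_ge h hcard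
  rw [Subgroup.mem_normalizer_iff]
  intro k
  constructor
  · intro hk
    have : g * k * g⁻¹ ∈ Q.map (MulAut.conj g).toMonoidHom := ⟨k, hk, by simp⟩
    rwa [heq] at this
  · intro hk
    rw [← heq] at hk
    obtain ⟨k', hk', e⟩ := hk
    have : k' = k := by
      have e' : g * k' * g⁻¹ = g * k * g⁻¹ := by simpa using e
      simpa using e'
    rwa [← this]

theorem key {G : Type*} [Group G] [Finite G] {α : Type*} [Fintype α] [MulAction G α] {t : ℕ}
    (hG : MulAction.IsMultiplyPretransitive G α t) (x : Fin t ↪ α) {p : ℕ} [Fact p.Prime]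
    (S : Subgroup G) (hS : S = MulAction.stabilizer G x)
    (P : Sylow p S) (a : Fin t ↪ α)
    (ha : ∀ i, a i ∈ MulAction.fixedPoints ((P : Subgroup S).map S.subtype) α) :
    ∃ g ∈ Subgroup.normalizer ((((P : Subgroup S).map S.subtype) : Subgroup G) : Set G), g • x = a := by
  set Q : Subgroup G := (P : Subgroup S).map S.subtype with hQ
  obtain ⟨h, hh⟩ := MulAction.exists_smul_eq G x a
  have hQa : ∀ q ∈ Q, q • a = a := by
    intro q hq
    ext i
    have := ha i
    rw [MulAction.mem_fixedPoints] at this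
    exact this ⟨q, hq⟩
  have hle : Q.map (MulAut.conj h⁻¹).toMonoidHom ≤ S := by
    rintro _ ⟨q, hq, rfl⟩
    rw [hS, MulAction.mem_stabilizer_iff]
    simp only [MulEquiv.coe_toMonoidHom, MulAut.conj_apply, inv_inv, mul_smul]
    rw [hh, hQa q hq, ← hh, inv_smul_smul]
  set R : Subgroup S := (Q.map (MulAut.conj h⁻¹).toMonoidHom).comap S.subtype with hR
  have hQp : IsPGroup p Q := P.2.map S.subtype
  have hRp : IsPGroup p R := (hQp.map _).comap_of_injective S.subtype S.subtype_injective
  obtain ⟨P', hP'⟩ := hRp.exists_le_sylow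
  obtain ⟨s, hs⟩ := MulAction.exists_smul_eq S P' P
  refine ⟨h * (s : G)⁻¹, ?_, ?_⟩
  · have : (s : G) * h⁻¹ ∈ Subgroup.normalizer (Q : Set G) := by
      apply conj_le_imp_mem_normalizer
      rintro _ ⟨q, hq, rfl⟩
      have hr : h⁻¹ * q * h ∈ S := hle ⟨q, hq, by simp⟩
      have hrR : (⟨h⁻¹ * q * h, hr⟩ : S) ∈ R := by
        rw [hR, Subgroup.mem_comap]
        exact ⟨q, hq, by simp⟩
      have hrP' : (⟨h⁻¹ * q * h, hr⟩ : S) ∈ (P' : Subgroup S) := hP' hrR
      have : s * ⟨h⁻¹ * q * h, hr⟩ * s⁻¹ ∈ (P : Subgroup S) := by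
        rw [← hs]
        show _ ∈ MulAut.conj s • (P' : Subgroup S)
        rw [Subgroup.mem_pointwise_smul_iff_inv_smul_mem]
        simpa [MulAut.smul_def, mul_assoc] using hrP'
      refine ⟨_, this, ?_⟩
      simp [mul_assoc]
    have h2 := inv_mem this
    simpa using h2
  · rw [mul_smul]
    have : (s : G)⁻¹ • x = x := by
      have hs' : (s : G)⁻¹ ∈ S := inv_mem s.2
      have hs'' : (s : G)⁻¹ ∈ MulAction.stabilizer G x := by rw [← hS]; exact hs'
      rwa [MulAction.mem_stabilizer_iff] at hs''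
    rw [this, hh]

/-- Let a finite group `G` act `t`-fold transitively on a finite set, let `H` be the stabilizer of `t` distinct points and `P` a Sylow `p`-subgroup of `H`. Then the normalizer of `P` in `G` is `t`-fold transitive on the fixed points of `P`: any `t` distinct fixed points of `P` can be carried to any other `t` distinct fixed points of `P` by an element normalizing `P`. -/
theorem result {G : Type*} [Group G] [Finite G] {α : Type*} [Fintype α] [MulAction G α] {t : ℕ} (hG : MulAction.IsMultiplyPretransitive G α t) (x : Fin t ↪ α) {p : ℕ} [Fact p.Prime] (P : Sylow p (MulAction.stabilizer G x)) (a b : Fin t ↪ α) (ha : ∀ i, a i ∈ MulAction.fixedPoints ((P : Subgroup (MulAction.stabilizer G x)).map (MulAction.stabilizer G x).subtype) α) (hb : ∀ i, b i ∈ MulAction.fixedPoints ((P : Subgroup (MulAction.stabilizer G x)).map (MulAction.stabilizer G x).subtype) α) : ∃ g ∈ Subgroup.normalizer ((((P : Subgroup (MulAction.stabilizer G x)).map (MulAction.stabilizer G x).subtype) : Subgroup G) : Set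 G), g • a = b := by
  obtain ⟨g1, hg1, e1⟩ := key hG x _ rfl P a ha
  obtain ⟨g2, hg2, e2⟩ := key hG x _ rfl P b hb
  refine ⟨g2 * g1⁻¹, mul_mem hg2 (inv_mem hg1), ?_⟩
  rw [mul_smul, ← e1, inv_smul_smul, e2]

end Cfsg.Agent.S4219
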