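import Cfsg.Statements.S4222

set_option autoImplicit false
open Cfsg

namespace Cfsg.Agent.S4222

/-- If a normal subgroup `N` of a finite group is complete (its centre is trivial and every automorphism of `N` is inner), then the group is the internal direct product of `N` and the centralizer of `N`: the centralizer is a complement to `N`. -/
theorem result {T : Type*} [Group T] [Finite T] (N : Subgroup T) [N.Normal] (hz : Subgroup.center ↥N = ⊥) (ha : Function.Surjective (MulAut.conj : ↥N →* MulAut ↥N)) : (Subgroup.centralizer (N : Set T)).IsComplement' N := by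
  apply Subgroup.isComplement'_of_disjoint_and_mul_eq_univ
  · rw [Subgroup.disjoint_def]
    intro x hxC hxN
    have hc : (⟨x, hxN⟩ : N) ∈ Subgroup.center N := by
      rw [Subgroup.mem_center_iff]
      intro m
      apply Subtype.ext
      simp only [Subgroup.coe_mul]
      exact hxC m.1 m.2
    rw [hz, Subgroup.mem_bot] at hc
    exact congrArg Subtype.val hc
  · rw [Set.eq_univ_iff_forall]
    intro g
    obtain ⟨n, hn⟩ := ha (MulAut.conjNormal g)
    refine ⟨g * (n : T)⁻¹, ?_, n, n.2, by simp⟩
    rw [SetLike.mem_coe, Subgroup.mem_centralizer_iff]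
    intro m hm
    have h1 : ((MulAut.conj n) ((MulAut.conj n)⁻¹ ⟨m, hm⟩) : N) = (MulAut.conjNormal g) ((MulAut.conj n)⁻¹ ⟨m, hm⟩) := by
      rw [hn]
    have h2 := congrArg Subtype.val h1
    simp only [MulAut.conjNormal_apply, MulAut.conj_apply, MulAut.conj_inv_apply, Subgroup.coe_mul, Subgroup.coe_inv] at h2
    simp only [mul_assoc, mul_inv_rev, inv_inv] at h2 ⊢
    have h3 : m = g * ((n:T)⁻¹ * (m * ((n:T) * g⁻¹))) := by
      simpa [mul_assoc] using h2
    calc m * (g * (n:T)⁻¹) = g * ((n:T)⁻¹ * (m * ((n:T) * g⁻¹))) * (g * (n:T)⁻¹) := by rw [← h3]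
      _ = g * ((n:T)⁻¹ * m) := by group

end Cfsg.Agent.S4222
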