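import Cfsg.Statements.S4223

set_option autoImplicit false
open Cfsg

namespace Cfsg.Agent.S4223

universe u v

/-- directly indecomposable -/
def Indec (A : Type*) [Group A] : Prop :=
  Nontrivial A ∧ ∀ H K : Subgroup A, H.Normal → K.Normal → H ⊓ K = ⊥ → H ⊔ K = ⊤ → H = ⊥ ∨ K = ⊥

/-- iterate of an endomorphism as a hom -/
def iter {A : Type*} [Group A] (φ : A →* A) : ℕ → (A →* A)
  | 0 => MonoidHom.id A
  | k + 1 => φ.comp (iter φ k)

lemma iter_apply {A : Type*} [Group A] (φ : A →* A) (k : ℕ) (a : A) :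
    iter φ k a = φ^[k] a := by
  induction k with
  | zero => rfl
  | succ k ih =>
    rw [Function.iterate_succ_apply']
    change φ (iter φ k a) = _
    rw [ih]

lemma iter_add {A : Type*} [Group A] (φ : A →* A) (k l : ℕ) (a : A) :
    iter φ (k + l) a = iter φ k (iter φ l a) := by
  rw [iter_apply, iter_apply, iter_apply, Function.iterate_add_apply]

lemma iter_range_antitone {A : Type*} [Group A] (φ : A →* A) {k l : ℕ} (h : k ≤ l) :
    (iter φ l).range ≤ (iter φ k).range := by
  rintro _ ⟨a, rfl⟩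
  obtain ⟨d, rfl⟩ := Nat.exists_eq_add_of_le h
  exact ⟨iter φ d a, (iter_add φ k d a).symm⟩

/-- Fitting's lemma for a finite indecomposable group: a normal endomorphism is injective or
nilpotent. -/
lemma fitting {A : Type*} [Group A] [Finite A] (hA : Indec A) (φ : A →* A)
    (hφ : ∀ x a : A, φ (x * a * x⁻¹) = x * φ a * x⁻¹) :
    Function.Injective φ ∨ ∃ k, ∀ a, φ^[k] a = 1 := by
  classical
  -- stabilisation
  let f : ℕ → ℕ := fun k => Nat.card (iter φ k).range
  have hne : (Set.range f).Nonempty := ⟨f 0, 0, rfl⟩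
  obtain ⟨k₀, hk₀⟩ := Nat.sInf_mem hne
  have hmin : ∀ k, f k₀ ≤ f k := fun k => by rw [hk₀]; exact Nat.sInf_le ⟨k, rfl⟩
  have hstab : ∀ k, k₀ ≤ k → (iter φ k).range = (iter φ k₀).range := by
    intro k hk
    exact Subgroup.eq_of_le_of_card_ge (iter_range_antitone φ hk) (hmin k)
  set k := k₀ + 1 with hk
  set ρ := iter φ k with hρ
  have hρn : ∀ x a : A, ρ (x * a * x⁻¹) = x * ρ a * x⁻¹ := by
    have : ∀ j, ∀ x a : A, iter φ j (x * a * x⁻¹) = x * iter φ j a * x⁻¹ := by
      intro j
      induction j with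
      | zero => intro x a; rfl
      | succ j ih =>
        intro x a
        change φ (iter φ j (x * a * x⁻¹)) = x * φ (iter φ j a) * x⁻¹
        rw [ih, hφ]
    exact this k
  have hrr : (iter φ (k + k)).range = ρ.range := by
    rw [hstab (k + k) (by omega), hρ, hstab k (by omega)]
  -- range normal
  have hN : ρ.range.Normal := by
    refine ⟨?_⟩
    rintro _ ⟨a, rfl⟩ x
    exact ⟨x * a * x⁻¹, hρn x a⟩
  have hK : ρ.ker.Normal := inferInstance
  -- ρ injective on its range
  have hsurj : ∀ b ∈ ρ.range, ∃ c ∈ ρ.range, ρ c = b := by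
    intro b hb
    rw [← hrr] at hb
    obtain ⟨a, rfl⟩ := hb
    exact ⟨ρ a, ⟨a, rfl⟩, (iter_add φ k k a).symm⟩
  have hinj : ∀ b ∈ ρ.range, ρ b = 1 → b = 1 := by
    -- the restriction of ρ to its range is a surjective self-map of a finite set
    let g : ρ.range → ρ.range := fun b => ⟨ρ b.1, ⟨b.1, rfl⟩⟩
    have hg : Function.Surjective g := by
      rintro ⟨b, hb⟩
      obtain ⟨c, hc, hcb⟩ := hsurj b hb
      exact ⟨⟨c, hc⟩, Subtype.ext hcb⟩
    have hgi : Function.Injective g := Finite.injective_iff_surjective.2 hg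
    intro b hb hb1
    have : g ⟨b, hb⟩ = g ⟨1, ρ.range.one_mem⟩ := by
      apply Subtype.ext
      change ρ b = ρ 1
      rw [hb1, map_one]
    have := hgi this
    exact congrArg Subtype.val this
  have hdisj : ρ.ker ⊓ ρ.range = ⊥ := by
    rw [eq_bot_iff]
    rintro b ⟨hb1, hb2⟩
    rw [Subgroup.mem_bot]
    exact hinj b hb2 (MonoidHom.mem_ker.1 hb1)
  have hsup : ρ.ker ⊔ ρ.range = ⊤ := by
    rw [eq_top_iff]
    intro a _
    obtain ⟨c, hc, hca⟩ := hsurj (ρ a) ⟨a, rfl⟩
    have h1 : a * c⁻¹ ∈ ρ.ker := by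
      rw [MonoidHom.mem_ker, map_mul, map_inv, hca, mul_inv_cancel]
    have : a = (a * c⁻¹) * c := by group
    rw [this]
    exact Subgroup.mul_mem_sup h1 hc
  rcases hA.2 ρ.ker ρ.range hK hN hdisj hsup with h | h
  · left
    have hρinj : Function.Injective ρ := (MonoidHom.ker_eq_bot_iff ρ).1 h
    intro a b hab
    apply hρinj
    rw [hρ, iter_apply, iter_apply, hk, Function.iterate_succ_apply, Function.iterate_succ_apply,
      hab]
  · right
    refine ⟨k, fun a => ?_⟩
    rw [← iter_apply]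
    have : ρ a ∈ ρ.range := ⟨a, rfl⟩
    rw [h, Subgroup.mem_bot] at this
    exact this


lemma two_summand {A : Type*} [Group A] [Finite A] (hA : Indec A) (φ ψ : A →* A)
    (hφ : ∀ x a : A, φ (x * a * x⁻¹) = x * φ a * x⁻¹) (hsum : ∀ a, φ a * ψ a = a) :
    Function.Bijective φ ∨ Function.Bijective ψ := by
  rcases fitting hA φ hφ with h | ⟨k, hk⟩
  · left; exact Finite.injective_iff_bijective.1 h
  · right
    apply Finite.injective_iff_bijective.1
    rw [injective_iff_map_eq_one]
    intro a ha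
    have h1 : φ a = a := by
      have := hsum a
      rw [ha, mul_one] at this
      exact this
    have h2 : ∀ j, φ^[j] a = a := by
      intro j
      induction j with
      | zero => rfl
      | succ j ih => rw [Function.iterate_succ_apply', ih, h1]
    rw [← h2 k, hk]

section Proj

variable {n : ℕ} (B : Fin n → Type v) [∀ j, Group (B j)]

/-- projection of the product onto the coordinates in `S` -/
def P (S : Finset (Fin n)) : ((j : Fin n) → B j) →* ((j : Fin n) → B j) where
  toFun b j := if j ∈ S then b j else 1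
  map_one' := by
    ext j
    by_cases h : j ∈ S <;> simp [h]
  map_mul' b c := by
    ext j
    by_cases h : j ∈ S <;> simp [h]

lemma P_apply (S : Finset (Fin n)) (b : (j : Fin n) → B j) (j : Fin n) :
    P B S b j = if j ∈ S then b j else 1 := rfl

lemma P_univ (b : (j : Fin n) → B j) : P B Finset.univ b = b := by
  ext j; simp [P_apply]

lemma P_empty (b : (j : Fin n) → B j) : P B ∅ b = 1 := by
  ext j; simp [P_apply]

lemma P_insert (k : Fin n) (S : Finset (Fin n)) (hk : k ∉ S) (b : (j : Fin n) → B j) :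
    P B (insert k S) b = P B {k} b * P B S b := by
  ext j
  simp only [P_apply, Pi.mul_apply, Finset.mem_insert, Finset.mem_singleton]
  by_cases hjk : j = k
  · subst hjk
    simp [hk]
  · by_cases hjS : j ∈ S <;> simp [hjk, hjS]

lemma P_normal (S : Finset (Fin n)) (X Y : (j : Fin n) → B j) :
    P B S (X * Y * X⁻¹) = X * P B S Y * X⁻¹ := by
  ext j
  simp only [P_apply, Pi.mul_apply, Pi.inv_apply]
  by_cases hjS : j ∈ S <;> simp [hjS]

lemma P_singleton (k : Fin n) (b : (j : Fin n) → B j) :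
    P B {k} b = Pi.mulSingle k (b k) := by
  ext j
  simp only [P_apply, Finset.mem_singleton]
  by_cases hjk : j = k
  · subst hjk; simp
  · simp [hjk]

end Proj

section TT

variable {A C : Type u} [Group A] [Group C] {n : ℕ} {B : Fin n → Type v} [∀ j, Group (B j)]

/-- the endomorphism of `A` induced by the projection `P S` -/
def T (e : A × C ≃* ((j : Fin n) → B j)) (S : Finset (Fin n)) : A →* A :=
  (MonoidHom.fst A C).comp (e.symm.toMonoidHom.comp ((P B S).comp
    (e.toMonoidHom.comp (MonoidHom.inl A C))))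

lemma T_apply (e : A × C ≃* ((j : Fin n) → B j)) (S : Finset (Fin n)) (a : A) :
    T e S a = (e.symm (P B S (e (a, 1)))).1 := rfl

lemma T_univ (e : A × C ≃* ((j : Fin n) → B j)) (a : A) : T e Finset.univ a = a := by
  rw [T_apply, P_univ, MulEquiv.symm_apply_apply]

lemma T_empty (e : A × C ≃* ((j : Fin n) → B j)) (a : A) : T e ∅ a = 1 := by
  rw [T_apply, P_empty, map_one]; rfl

lemma T_insert (e : A × C ≃* ((j : Fin n) → B j)) (k : Fin n) (S : Finset (Fin n))
    (hk : k ∉ S) (a : A) : T e (insert k S) a = T e {k} a * T e S a := by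
  rw [T_apply, T_apply, T_apply, P_insert B k S hk, map_mul]; rfl

lemma T_normal (e : A × C ≃* ((j : Fin n) → B j)) (S : Finset (Fin n)) (x a : A) :
    T e S (x * a * x⁻¹) = x * T e S a * x⁻¹ := by
  rw [T_apply, T_apply]
  have h1 : ((x * a * x⁻¹, 1) : A × C) = (x, 1) * (a, 1) * (x, 1)⁻¹ := by
    ext <;> simp
  have h2 : e ((x, 1) * (a, 1) * (x, 1)⁻¹) = e (x, 1) * e (a, 1) * (e (x, 1))⁻¹ := by
    rw [map_mul, map_mul, map_inv]
  have h3 : ∀ Z : (j : Fin n) → B j, e.symm (e (x, 1) * Z * (e (x, 1))⁻¹) =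
      (x, 1) * e.symm Z * (x, 1)⁻¹ := by
    intro Z
    rw [map_mul, map_mul, map_inv, MulEquiv.symm_apply_apply]
  rw [h1, h2, P_normal, h3]
  rfl

lemma exists_bij_singleton [Finite A] (hA : Indec A) (e : A × C ≃* ((j : Fin n) → B j)) :
    ∀ S : Finset (Fin n), Function.Bijective (T e S) → ∃ j ∈ S, Function.Bijective (T e {j}) := by
  classical
  intro S
  induction S using Finset.induction_on with
  | empty =>
    intro h
    exfalso
    obtain ⟨a, ha⟩ := @exists_ne A hA.1 1
    exact ha (h.1 (by rw [T_empty, T_empty]))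
  | insert k S hk ih =>
    intro hbij
    let Γ : A ≃* A := MulEquiv.ofBijective (T e (insert k S)) hbij
    have hΓ : ∀ a, Γ a = T e (insert k S) a := fun a => rfl
    let γ : A ≃* A := Γ.symm
    have hγn : ∀ x b : A, γ (x * b * x⁻¹) = x * γ b * x⁻¹ := by
      intro x b
      apply Γ.injective
      rw [MulEquiv.apply_symm_apply, hΓ, T_normal, ← hΓ, MulEquiv.apply_symm_apply]
    let φ : A →* A := γ.toMonoidHom.comp (T e {k})
    let ψ : A →* A := γ.toMonoidHom.comp (T e S)
    have hφ : ∀ x a : A, φ (x * a * x⁻¹) = x * φ a * x⁻¹ := by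
      intro x a
      change γ (T e {k} (x * a * x⁻¹)) = x * γ (T e {k} a) * x⁻¹
      rw [T_normal, hγn]
    have hsum : ∀ a, φ a * ψ a = a := by
      intro a
      change γ (T e {k} a) * γ (T e S a) = a
      rw [← map_mul, ← T_insert e k S hk, ← hΓ]
      exact Γ.symm_apply_apply a
    rcases two_summand hA φ ψ hφ hsum with h | h
    · refine ⟨k, Finset.mem_insert_self _ _, ?_⟩
      have : (T e {k} : A → A) = Γ ∘ φ := by
        funext a
        change T e {k} a = Γ (γ (T e {k} a))
        rw [MulEquiv.apply_symm_apply]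
      rw [this]
      exact Γ.bijective.comp h
    · have : (T e S : A → A) = Γ ∘ ψ := by
        funext a
        change T e S a = Γ (γ (T e S a))
        rw [MulEquiv.apply_symm_apply]
      have hS : Function.Bijective (T e S) := by
        rw [this]; exact Γ.bijective.comp h
      obtain ⟨j, hj, hjb⟩ := ih hS
      exact ⟨j, Finset.mem_insert_of_mem hj, hjb⟩

end TT


/-- `Fin.insertNthEquiv` as a multiplicative equivalence -/
def insertNthMulEquiv {n : ℕ} (α : Fin (n + 1) → Type v) [∀ j, Group (α j)] (p : Fin (n + 1)) :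
    α p × ((i : Fin n) → α (p.succAbove i)) ≃* ((i : Fin (n + 1)) → α i) :=
  { Fin.insertNthEquiv α p with
    map_mul' := fun x y => by
      change p.insertNth (x.1 * y.1) (x.2 * y.2) = p.insertNth x.1 x.2 * p.insertNth y.1 y.2
      exact Fin.insertNth_mul p x.1 y.1 x.2 y.2 }

lemma insertNthMulEquiv_apply {n : ℕ} (α : Fin (n + 1) → Type v) [∀ j, Group (α j)]
    (p : Fin (n + 1)) (x : α p × ((i : Fin n) → α (p.succAbove i))) :
    insertNthMulEquiv α p x = p.insertNth x.1 x.2 := rfl

theorem key {A C : Type u} [Group A] [Group C] [Finite A] [Finite C] {n : ℕ}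
    {B : Fin (n + 1) → Type v} [∀ j, Group (B j)] [∀ j, Finite (B j)]
    (hA : Indec A) (hB : ∀ j, Indec (B j)) (e : A × C ≃* ((j : Fin (n + 1)) → B j)) :
    ∃ j₀ : Fin (n + 1), Nonempty (A ≃* B j₀) ∧
      Nonempty (C ≃* ((k : Fin n) → B (j₀.succAbove k))) := by
  classical
  obtain ⟨j₀, -, hj₀⟩ := exists_bij_singleton hA e Finset.univ
    ⟨fun a b h => by rwa [T_univ, T_univ] at h, fun a => ⟨a, T_univ e a⟩⟩
  refine ⟨j₀, ?_⟩
  let α : A →* B j₀ := (Pi.evalMonoidHom B j₀).comp (e.toMonoidHom.comp (MonoidHom.inl A C))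
  let β : B j₀ →* A := (MonoidHom.fst A C).comp (e.symm.toMonoidHom.comp (MonoidHom.mulSingle B j₀))
  have hα : ∀ a, α a = e (a, 1) j₀ := fun a => rfl
  have hβ : ∀ b, β b = (e.symm (Pi.mulSingle j₀ b)).1 := fun b => rfl
  have hT : ∀ a, T e {j₀} a = β (α a) := by
    intro a
    rw [T_apply, P_singleton, hβ, hα]
  have hαinj : Function.Injective α := by
    intro a b hab
    apply hj₀.1
    rw [hT, hT, hab]
  have hβα_surj : ∀ a, ∃ a', β (α a') = a := by
    intro a
    obtain ⟨a', ha'⟩ := hj₀.2 a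
    exact ⟨a', by rw [← hT, ha']⟩
  -- range α is normal
  have hrn : α.range.Normal := by
    refine ⟨?_⟩
    rintro _ ⟨a, rfl⟩ b
    set X : (j : Fin (n + 1)) → B j := Pi.mulSingle j₀ b with hX
    refine ⟨(e.symm X).1 * a * ((e.symm X).1)⁻¹, ?_⟩
    rw [hα, hα]
    have h1 : (((e.symm X).1 * a * ((e.symm X).1)⁻¹, 1) : A × C) =
        e.symm X * (a, 1) * (e.symm X)⁻¹ := by
      ext <;> simp
    rw [h1, map_mul, map_mul, map_inv, MulEquiv.apply_symm_apply]
    simp [hX]
  have hdisj : α.range ⊓ β.ker = ⊥ := by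
    rw [eq_bot_iff]
    rintro _ ⟨⟨a, rfl⟩, h2⟩
    rw [Subgroup.mem_bot]
    have : β (α a) = 1 := MonoidHom.mem_ker.1 h2
    rw [← hT] at this
    have h3 : a = 1 := hj₀.1 (by rw [this, hT, map_one, map_one])
    rw [h3, map_one]
  have hsup : α.range ⊔ β.ker = ⊤ := by
    rw [eq_top_iff]
    intro b _
    obtain ⟨a, ha⟩ := hβα_surj (β b)
    have h1 : (α a)⁻¹ * b ∈ β.ker := by
      rw [MonoidHom.mem_ker, map_mul, map_inv, ha, inv_mul_cancel]
    have : b = α a * ((α a)⁻¹ * b) := by group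
    rw [this]
    exact Subgroup.mul_mem_sup ⟨a, rfl⟩ h1
  have hβinj : Function.Injective β := by
    rcases (hB j₀).2 α.range β.ker hrn inferInstance hdisj hsup with h | h
    · exfalso
      obtain ⟨a, ha⟩ := @exists_ne A hA.1 1
      have : α a ∈ α.range := ⟨a, rfl⟩
      rw [h, Subgroup.mem_bot] at this
      exact ha (hαinj (by rw [this, map_one]))
    · exact (MonoidHom.ker_eq_bot_iff β).1 h
  have hαsurj : Function.Surjective α := by
    intro b
    obtain ⟨a, ha⟩ := hβα_surj (β b)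
    exact ⟨a, hβinj ha⟩
  have hAB : A ≃* B j₀ := MulEquiv.ofBijective α ⟨hαinj, hαsurj⟩
  refine ⟨⟨hAB⟩, ?_⟩
  -- the complement
  let B' := (k : Fin n) → B (j₀.succAbove k)
  let ι' : B' →* ((j : Fin (n + 1)) → B j) :=
    (insertNthMulEquiv B j₀).toMonoidHom.comp (MonoidHom.inr (B j₀) B')
  have hι' : ∀ b' : B', ι' b' = j₀.insertNth 1 b' := fun b' => rfl
  let f : B' →* C := (MonoidHom.snd A C).comp (e.symm.toMonoidHom.comp ι')
  have hf : ∀ b', f b' = (e.symm (ι' b')).2 := fun b' => rfl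
  have hfinj : Function.Injective f := by
    rw [injective_iff_map_eq_one]
    intro b' hb'
    rw [hf] at hb'
    have h1 : e.symm (ι' b') = ((e.symm (ι' b')).1, 1) := by
      ext
      · rfl
      · exact hb'
    have h2 : ι' b' = e ((e.symm (ι' b')).1, 1) := by
      rw [← h1, MulEquiv.apply_symm_apply]
    have h3 : α (e.symm (ι' b')).1 = 1 := by
      rw [hα, ← h2, hι', Fin.insertNth_apply_same]
    have h4 : (e.symm (ι' b')).1 = 1 := hαinj (by rw [h3, map_one])
    have h5 : ι' b' = 1 := by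
      rw [h2, h4]
      exact map_one e
    funext k
    have := congrFun h5 (j₀.succAbove k)
    rw [hι', Fin.insertNth_apply_succAbove] at this
    exact this
  have hcard : Nat.card C ≤ Nat.card B' := by
    have h1 : Nat.card (A × C) = Nat.card ((j : Fin (n + 1)) → B j) := Nat.card_congr e.toEquiv
    have h2 : Nat.card ((j : Fin (n + 1)) → B j) = Nat.card (B j₀ × B') :=
      Nat.card_congr (Fin.insertNthEquiv B j₀).symm
    have h3 : Nat.card A = Nat.card (B j₀) := Nat.card_congr hAB.toEquiv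
    rw [h2, Nat.card_prod, Nat.card_prod, ← h3] at h1
    have hApos : 0 < Nat.card A := Nat.card_pos
    exact (Nat.eq_of_mul_eq_mul_left hApos h1).le
  have hfbij : Function.Bijective f := hfinj.bijective_of_nat_card_le hcard
  exact ⟨(MulEquiv.ofBijective f hfbij).symm⟩


lemma not_subsingleton_pi {n : ℕ} (B : Fin (n + 1) → Type v) [∀ j, Group (B j)]
    (hB : ∀ j, Indec (B j)) : ¬ Subsingleton ((j : Fin (n + 1)) → B j) := by
  intro h
  obtain ⟨b, hb⟩ := @exists_ne (B 0) (hB 0).1 1
  have : (Pi.mulSingle 0 b : (j : Fin (n + 1)) → B j) = 1 := Subsingleton.elim _ _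
  have := congrFun this 0
  simp at this
  exact hb this

theorem main : ∀ (m n : ℕ) (A : Fin m → Type u) (B : Fin n → Type v)
    [∀ i, Group (A i)] [∀ j, Group (B j)] [∀ i, Finite (A i)] [∀ j, Finite (B j)],
    (∀ i, Indec (A i)) → (∀ j, Indec (B j)) → (((i : Fin m) → A i) ≃* ((j : Fin n) → B j)) →
    ∃ σ : Fin m ≃ Fin n, ∀ i, Nonempty (A i ≃* B (σ i)) := by
  intro m
  induction m with
  | zero =>
    intro n A B _ _ _ _ hA hB e
    cases n with
    | zero => exact ⟨Equiv.refl _, fun i => i.elim0⟩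
    | succ n =>
      exfalso
      apply not_subsingleton_pi B hB
      exact e.symm.toEquiv.subsingleton
  | succ m ih =>
    intro n A B _ _ _ _ hA hB e
    cases n with
    | zero =>
      exfalso
      apply not_subsingleton_pi A hA
      exact e.toEquiv.subsingleton
    | succ n =>
      let e₁ : A 0 × ((k : Fin m) → A ((0 : Fin (m + 1)).succAbove k)) ≃*
          ((j : Fin (n + 1)) → B j) := (insertNthMulEquiv A 0).trans e
      obtain ⟨j₀, ⟨h0⟩, ⟨hC⟩⟩ := key (hA 0) hB e₁
      obtain ⟨σ', hσ'⟩ := ih n (fun k : Fin m => A ((0 : Fin (m + 1)).succAbove k))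
        (fun k : Fin n => B (j₀.succAbove k)) (fun k => hA _) (fun k => hB _) hC
      let σ : Fin (m + 1) ≃ Fin (n + 1) :=
        (finSuccEquiv' 0).trans ((Equiv.optionCongr σ').trans (finSuccEquiv' j₀).symm)
      refine ⟨σ, ?_⟩
      intro i
      by_cases hi : i = 0
      · subst hi
        have : σ 0 = j₀ := by simp [σ]
        rw [this]
        exact ⟨h0⟩
      · obtain ⟨k, rfl⟩ := Fin.exists_succAbove_eq hi
        have : σ ((0 : Fin (m + 1)).succAbove k) = j₀.succAbove (σ' k) := by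
          change (finSuccEquiv' j₀).symm
            (Equiv.optionCongr σ' ((finSuccEquiv' 0) ((0 : Fin (m + 1)).succAbove k))) = _
          rw [finSuccEquiv'_succAbove, Equiv.optionCongr_apply, Option.map_some,
            finSuccEquiv'_symm_some]
        rw [this]
        exact hσ' k

theorem result {m n : ℕ} {A : Fin m → Type*} {B : Fin n → Type*} [∀ i, Group (A i)] [∀ j, Group (B j)] [∀ i, Finite (A i)] [∀ j, Finite (B j)] (hA : ∀ i, Nontrivial (A i) ∧ ∀ H K : Subgroup (A i), H.Normal → K.Normal → H ⊓ K = ⊥ → H ⊔ K = ⊤ → H = ⊥ ∨ K = ⊥) (hB : ∀ j, Nontrivial (B j) ∧ ∀ H K : Subgroup (B j), H.Normal → K.Normal → H ⊓ K = ⊥ → H ⊔ K = ⊤ → H = ⊥ ∨ K = ⊥) (e : ((i : Fin m) → A i) ≃* ((j : Fin n) → B j)) : ∃ σ : Fin m ≃ Fin n, ∀ i, Nonempty (A i ≃* B (σ i)) :=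
  main m n A B hA hB e

end Cfsg.Agent.S4223
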