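import Cfsg.Statements.S4226
import Cfsg.Agent.Lib.Helper14.HWControl

set_option autoImplicit false
open Cfsg

namespace Cfsg.Agent.S4226

/-- Let `P` be a Sylow `p`-subgroup of the finite group `G` with nilpotency class less than `p` (the term of index `p - 1` of the lower central series of `P`, indexed from `0`, is trivial), and let `N` be its normalizer. Then `O^p(N) = O^p(G) ∩ N`, where `O^p` denotes the subgroup generated by the elements of order prime to `p`; so the largest `p`-factor groups of `G` and of `N` are isomorphic. -/
theorem result {G : Type*} [Group G] [Finite G] {p : ℕ} [Fact p.Prime] (P : Sylow p G) (hcl : (P : Subgroup G).lowerCentralSeries (p - 1) = ⊥) : Cfsg.pResidualOf p (Subgroup.normalizer ((P : Subgroup G) : Set G)) = Cfsg.pResidual p G ⊓ Subgroup.normalizer ((P : Subgroup G) : Set G) := by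
  have hwc : Cfsg.IsWeaklyClosed (P : Subgroup G) (P : Subgroup G) := by
    refine ⟨le_rfl, fun g hle => ?_⟩
    have hg : g ∈ Subgroup.normalizer ((P : Subgroup G) : Set G) := by
      apply Subgroup.mem_normalizer_fintype
      intro n hn
      exact hle ⟨n, hn, rfl⟩
    exact Subgroup.mem_normalizer_iff_map_conj_eq.mp hg
  unfold Cfsg.pResidualOf
  apply Cfsg.Agent.Lib.Helper14.map_pResidual_normalizer_eq_of_not_hwBad hwc
  rintro ⟨x, hx, z, hz, W₀, -, -, hnot⟩
  apply hnot
  have key : ∀ k : ℕ, (fun y : G => y⁻¹ * z⁻¹ * y * z)^[k] x ∈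
      (P : Subgroup G).lowerCentralSeries k := by
    intro k
    induction k with
    | zero => exact hx
    | succ k ih =>
      rw [Function.iterate_succ_apply', Subgroup.lowerCentralSeries_succ]
      have h1 := Subgroup.commutator_mem_commutator (Subgroup.inv_mem _ ih)
        (Subgroup.inv_mem _ hz)
      rw [commutatorElement_def] at h1
      simpa [mul_assoc] using h1
  have h1 := key (p - 1)
  rw [hcl, Subgroup.mem_bot] at h1
  rw [h1]
  exact Subgroup.one_mem _

end Cfsg.Agent.S4226
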