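import Cfsg.Statements.S4227
import Cfsg.Agent.S0635
import Cfsg.Agent.S0505
import Cfsg.Agent.Lib.Helper04.BurnsidePQ
import Cfsg.Agent.Lib.Helper75.FrattiniFaithful

set_option autoImplicit false
open Cfsg

namespace Cfsg.Agent.S4227

universe u

open Cfsg.Agent.Lib.Helper15 Cfsg.Agent.Lib.Helper81

section A4
variable {V : Type*} [Group V]

lemma sq_cube {n : V} (h2 : n * n = 1) (h3 : n ^ 3 = 1) : n = 1 := by
  have : n ^ 3 = n * n * n := by rw [pow_succ, pow_two]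
  rw [this, h2, one_mul] at h3
  exact h3

lemma core_step (hcomm : ∀ v w : V, v * w = w * v) (hV : ∀ v : V, v ^ 3 = 1) (s : MulAut V)
    (n x y : V) (h : n * x * y = 1) (hn : s n = n) (hx : s x = x⁻¹) (hy : s y = y⁻¹) : n = 1 := by
  have h' : s (n * x * y) = 1 := by rw [h, map_one]
  rw [map_mul, map_mul, hn, hx, hy] at h'
  have e1 : x * y = n⁻¹ := by
    rw [mul_assoc] at h
    exact eq_inv_of_mul_eq_one_right h
  have e2 : x⁻¹ * y⁻¹ = n⁻¹ := by
    rw [mul_assoc] at h'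
    exact eq_inv_of_mul_eq_one_right h'
  have e3 : y * x = n := by
    have : (y * x)⁻¹ = n⁻¹ := by rw [mul_inv_rev, e2]
    exact inv_injective this
  have e4 : n = n⁻¹ := by rw [← e3, hcomm y x, e1, inv_inv, ← e1, ← hcomm y x, e3]
  apply sq_cube _ (hV n)
  nth_rewrite 1 [e4]
  exact inv_mul_cancel n

lemma a4_lemma (hcomm : ∀ v w : V, v * w = w * v) (hV : ∀ v : V, v ^ 3 = 1)
    (a s₁ s₂ : MulAut V)
    (h1 : s₁ * s₁ = 1) (h2 : s₂ * s₂ = 1) (h12 : s₁ * s₂ = s₂ * s₁)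
    (ha1 : a * s₁ * a⁻¹ = s₂) (ha2 : a * s₂ * a⁻¹ = s₁ * s₂)
    (hstar : ∀ v : V, v * a v * a (a v) = 1) : s₁ = 1 := by
  have e1 : ∀ v, s₁ (s₁ v) = v := fun v => by
    have := DFunLike.congr_fun h1 v; simpa using this
  have e2 : ∀ v, s₂ (s₂ v) = v := fun v => by
    have := DFunLike.congr_fun h2 v; simpa using this
  have e12 : ∀ v, s₁ (s₂ v) = s₂ (s₁ v) := fun v => by
    have := DFunLike.congr_fun h12 v; simpa using this
  have ea1 : ∀ v, s₂ (a v) = a (s₁ v) := fun v => by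
    have h : a * s₁ = s₂ * a := by rw [← ha1]; group
    have := DFunLike.congr_fun h v; simpa using this.symm
  have ea2 : ∀ v, a (s₂ v) = s₁ (s₂ (a v)) := fun v => by
    have h : a * s₂ = s₁ * s₂ * a := by rw [← ha2]; group
    have := DFunLike.congr_fun h v; simpa using this
  have ea3 : ∀ v, s₁ (a v) = a (s₁ (s₂ v)) := fun v => by
    symm
    calc a (s₁ (s₂ v)) = s₂ (a (s₂ v)) := (ea1 _).symm
      _ = s₂ (s₁ (s₂ (a v))) := by rw [ea2]
      _ = s₂ (s₂ (s₁ (a v))) := by rw [e12]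
      _ = s₁ (a v) := e2 _
  have hE : ∀ n : V, s₁ n = n⁻¹ → s₂ n = n → n = 1 := by
    intro n hn1 hn2
    apply core_step hcomm hV s₂ n (a n) (a (a n)) (hstar n) hn2
    · rw [ea1, hn1, map_inv]
    · rw [ea1, ea3, hn2, hn1, map_inv, map_inv]
  have hE' : ∀ n : V, s₁ n = n⁻¹ → s₂ n = n⁻¹ → n = 1 := by
    intro n hn1 hn2
    apply core_step hcomm hV (s₁ * s₂) n (a n) (a (a n)) (hstar n)
    · rw [MulAut.mul_apply, hn2, map_inv, hn1, inv_inv]
    · rw [MulAut.mul_apply, ← ea2, hn2, map_inv]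
    · rw [MulAut.mul_apply, ← ea2, ea1, hn1, map_inv, map_inv]
  by_contra hs
  obtain ⟨u, hu⟩ := DFunLike.ne_iff.1 hs
  rw [MulAut.one_apply] at hu
  obtain ⟨m, hm⟩ : ∃ m, m = u * (s₁ u)⁻¹ := ⟨_, rfl⟩
  have hm1 : s₁ m = m⁻¹ := by
    rw [hm, map_mul, map_inv, e1, mul_inv_rev, inv_inv]
  have hmne : m ≠ 1 := by
    intro h
    rw [hm, mul_inv_eq_one] at h
    exact hu h.symm
  have hp : m * s₂ m = 1 := by
    apply hE
    · calc s₁ (m * s₂ m) = s₁ m * s₂ (s₁ m) := by rw [map_mul, e12]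
        _ = m⁻¹ * (s₂ m)⁻¹ := by rw [hm1, map_inv]
        _ = (s₂ m * m)⁻¹ := by rw [mul_inv_rev]
        _ = (m * s₂ m)⁻¹ := by rw [hcomm]
    · rw [map_mul, e2, hcomm]
  have hq : m * (s₂ m)⁻¹ = 1 := by
    apply hE'
    · calc s₁ (m * (s₂ m)⁻¹) = s₁ m * (s₂ (s₁ m))⁻¹ := by rw [map_mul, map_inv, e12]
        _ = m⁻¹ * (s₂ m)⁻¹⁻¹ := by rw [hm1, map_inv]
        _ = ((s₂ m)⁻¹ * m)⁻¹ := by rw [mul_inv_rev]
        _ = (m * (s₂ m)⁻¹)⁻¹ := by rw [hcomm]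
    · rw [map_mul, map_inv, e2, mul_inv_rev, inv_inv]
  apply hmne
  apply sq_cube _ (hV m)
  have h3 : s₂ m = m := (mul_inv_eq_one.1 hq).symm
  have h4 : s₂ m = m⁻¹ := (eq_inv_of_mul_eq_one_right hp)
  rw [h3] at h4
  nth_rewrite 1 [h4]
  exact inv_mul_cancel m

end A4

/-- a number all of whose prime factors are 2 or 3 -/
lemma two_three_of_primes : ∀ n : ℕ, 0 < n → (∀ r : ℕ, r.Prime → r ∣ n → r = 2 ∨ r = 3) →
    ∃ a b : ℕ, n = 2 ^ a * 3 ^ b := by
  intro n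
  induction n using Nat.strong_induction_on with
  | _ n ih =>
    intro hn hpr
    by_cases h1 : n = 1
    · exact ⟨0, 0, by simp [h1]⟩
    · obtain ⟨r, hr, hrn⟩ := Nat.exists_prime_and_dvd h1
      obtain ⟨k, rfl⟩ := hrn
      have hk : 0 < k := Nat.pos_of_mul_pos_left hn
      have hlt : k < r * k := by
        have := hr.two_le
        nlinarith
      obtain ⟨a, b, hab⟩ := ih k hlt hk (fun s hs hsk => hpr s hs (hsk.trans (dvd_mul_left _ _)))
      rcases hpr r hr (dvd_mul_right _ _) with rfl | rfl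
      · exact ⟨a + 1, b, by rw [hab]; ring⟩
      · exact ⟨a, b + 1, by rw [hab]; ring⟩

lemma card_two_three {G : Type u} [Group G] [Finite G] (h : ∀ x : G, x ^ 6 = 1) :
    ∃ a b : ℕ, Nat.card G = 2 ^ a * 3 ^ b := by
  apply two_three_of_primes _ Nat.card_pos
  intro r hr hrd
  haveI : Fact r.Prime := ⟨hr⟩
  obtain ⟨x, hx⟩ := exists_prime_orderOf_dvd_card' (G := G) r hrd
  have h6 : r ∣ 6 := hx ▸ orderOf_dvd_of_pow_eq_one (h x)
  have : r ∣ 2 * 3 := h6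
  rcases (Nat.Prime.dvd_mul hr).1 this with h2 | h3
  · left; exact (Nat.prime_dvd_prime_iff_eq hr Nat.prime_two).1 h2
  · right; exact (Nat.prime_dvd_prime_iff_eq hr Nat.prime_three).1 h3

lemma solvable_of_exp {G : Type u} [Group G] [Finite G] (h : ∀ x : G, x ^ 6 = 1) :
    Group.IsSolvable G := by
  obtain ⟨a, b, hab⟩ := card_two_three h
  exact Cfsg.Agent.Lib.Helper04.burnside_paqb 2 3 a b Nat.prime_two Nat.prime_three hab


/-- criterion for `p`-length at most one -/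
theorem pl_of_claim {G : Type u} [Group G] [Finite G] (p : ℕ) [hp : Fact p.Prime]
    (hclaim : ∀ g : G ⧸ (upperPSeries p G 1).1,
      g ^ p ∈ pCore p (G ⧸ (upperPSeries p G 1).1) → g ∈ pCore p (G ⧸ (upperPSeries p G 1).1)) :
    PLengthLE p 1 G := by
  have h2 : (upperPSeries p G 2).1 =
      (pCore p (G ⧸ (upperPSeries p G 1).1)).comap (QuotientGroup.mk' _) :=
    upperPSeries_succ_odd p 1 (by decide)
  -- every p-element of G / U_2 is trivial
  have hpow : ∀ k : ℕ, ∀ y : G ⧸ (upperPSeries p G 2).1, y ^ (p ^ k) = 1 → y = 1 := by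
    intro k
    induction k with
    | zero => intro y hy; simpa using hy
    | succ k ih =>
      intro y hy
      have h1 : y ^ p = 1 := by
        apply ih
        rw [← pow_mul, ← pow_succ']
        exact hy
      obtain ⟨g, rfl⟩ := QuotientGroup.mk_surjective y
      rw [← QuotientGroup.mk_pow, QuotientGroup.eq_one_iff, h2, Subgroup.mem_comap] at h1
      rw [QuotientGroup.eq_one_iff, h2, Subgroup.mem_comap]
      apply hclaim
      rw [← map_pow]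
      exact h1
  have h0 : PLengthLE p 0 (G ⧸ (upperPSeries p G 2).1) := by
    let S : Sylow p (G ⧸ (upperPSeries p G 2).1) := default
    apply Cfsg.Agent.S0635.pLength_zero p S
    rw [eq_bot_iff]
    intro y hy
    obtain ⟨k, hk⟩ := S.isPGroup' ⟨y, hy⟩
    have hk' : y ^ (p ^ k) = 1 := by
      have := congrArg Subtype.val hk
      simpa using this
    rw [Subgroup.mem_bot]
    exact hpow k y hk'
  have := pLengthLE_of_quotient p 1 0 (by simpa using h0)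
  simpa using this

section Two

variable {X : Type u} [Group X] [Finite X]

theorem M2 (hexp : ∀ x : X, x ^ 6 = 1) (hbot : pPrimeCore 2 X = ⊥) (g : X)
    (hg : g ^ 2 ∈ pCore 2 X) : g ∈ pCore 2 X := by
  haveI : Fact (Nat.Prime 2) := ⟨Nat.prime_two⟩
  haveI hsolv : Group.IsSolvable X := solvable_of_exp hexp
  have hPn : (pCore 2 X).Normal := Cfsg.Agent.Lib.Helper81.pCore_normal (G := X) 2
  have hPp : IsPGroup 2 (pCore 2 X) := Cfsg.Agent.Lib.Helper81.isPGroup_pCore (G := X) 2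
  have hcent : Subgroup.centralizer (pCore 2 X : Set X) ≤ pCore 2 X :=
    Cfsg.Agent.S0505.centralizer_pCore_le_of_solvable 2 hbot inferInstance
  have hsq : ∀ x : X, x ^ 2 ∈ pCore 2 X → x ^ 2 = 1 := by
    intro x hx
    have h3 : (x ^ 2) ^ 3 = 1 := by rw [← pow_mul]; exact hexp x
    obtain ⟨k, hk⟩ := hPp ⟨x ^ 2, hx⟩
    have hk' : (x ^ 2) ^ (2 ^ k) = 1 := by
      have := congrArg Subtype.val hk
      simpa using this
    have hg1 := pow_gcd_eq_one.2 ⟨h3, hk'⟩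
    have hcop : Nat.gcd 3 (2 ^ k) = 1 := Nat.Coprime.pow_right k (by decide)
    rw [hcop, pow_one] at hg1
    exact hg1
  have hmulsq : ∀ y ∈ pCore 2 X, (g * y) ^ 2 ∈ pCore 2 X := by
    intro y hy
    rw [← QuotientGroup.eq_one_iff, QuotientGroup.mk_pow, QuotientGroup.mk_mul,
      (QuotientGroup.eq_one_iff y).2 hy, mul_one, ← QuotientGroup.mk_pow,
      QuotientGroup.eq_one_iff]
    exact hg
  apply hcent
  rw [Subgroup.mem_centralizer_iff]
  intro y hy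
  have hy2 : y * y = 1 := by
    have := hsq y ((pCore 2 X).pow_mem hy 2)
    rwa [pow_two] at this
  have hg2 : g * g = 1 := by
    have := hsq g hg
    rwa [pow_two] at this
  have hgy : g * y * (g * y) = 1 := by
    have := hsq (g * y) (hmulsq y hy)
    rwa [pow_two] at this
  -- y * g = g * y
  have hyi : y⁻¹ = y := inv_eq_of_mul_eq_one_right hy2
  have hgi : g⁻¹ = g := inv_eq_of_mul_eq_one_right hg2
  have h1 : (g * y)⁻¹ = g * y := inv_eq_of_mul_eq_one_right hgy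
  rw [mul_inv_rev, hyi, hgi] at h1
  exact h1

end Two


lemma comm_of_sq {Y : Type*} [Group Y] (Q : Subgroup Y) (hQ : ∀ q ∈ Q, q * q = 1)
    (a b : Y) (ha : a ∈ Q) (hb : b ∈ Q) : a * b = b * a := by
  have h1 : (a * b)⁻¹ = a * b := inv_eq_of_mul_eq_one_right (hQ _ (Q.mul_mem ha hb))
  have h2 : a⁻¹ = a := inv_eq_of_mul_eq_one_right (hQ a ha)
  have h3 : b⁻¹ = b := inv_eq_of_mul_eq_one_right (hQ b hb)
  rw [mul_inv_rev, h2, h3] at h1
  exact h1.symm

lemma klein_rels {Y : Type*} [Group Y] (Q : Subgroup Y) [hQn : Q.Normal]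
    (hQ : ∀ q ∈ Q, q * q = 1) (g u : Y) (hg : g ^ 3 = 1) (hu : u ∈ Q) :
    ∃ v₁ v₂ : Y, v₁ = u * (g * u * g⁻¹) ∧ v₂ = g * v₁ * g⁻¹ ∧ v₁ ∈ Q ∧ v₁ * v₁ = 1 ∧ v₂ * v₂ = 1 ∧
      v₁ * v₂ = v₂ * v₁ ∧ g * v₂ * g⁻¹ = v₁ * v₂ := by
  have hu1 : g * u * g⁻¹ ∈ Q := hQn.conj_mem u hu g
  have hu2 : g * (g * u * g⁻¹) * g⁻¹ ∈ Q := hQn.conj_mem _ hu1 g
  have hv1 : u * (g * u * g⁻¹) ∈ Q := Q.mul_mem hu hu1
  have hv2 : g * (u * (g * u * g⁻¹)) * g⁻¹ ∈ Q := hQn.conj_mem _ hv1 g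
  refine ⟨u * (g * u * g⁻¹), g * (u * (g * u * g⁻¹)) * g⁻¹, rfl, rfl, hv1, hQ _ hv1, hQ _ hv2,
    comm_of_sq Q hQ _ _ hv1 hv2, ?_⟩
  have hggg : g * g * g = 1 := by
    have : g ^ 3 = g * g * g := by rw [pow_succ, pow_two]
    rw [← this, hg]
  have hg3 : g * (g * (g * u * g⁻¹) * g⁻¹) * g⁻¹ = u := by
    have : g * (g * (g * u * g⁻¹) * g⁻¹) * g⁻¹ = (g * g * g) * u * (g * g * g)⁻¹ := by group
    rw [this, hggg]; group
  -- v₂ = u₁ u₂
  have hv2e : g * (u * (g * u * g⁻¹)) * g⁻¹ = (g * u * g⁻¹) * (g * (g * u * g⁻¹) * g⁻¹) := by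
    group
  have hlhs : g * (g * (u * (g * u * g⁻¹)) * g⁻¹) * g⁻¹ = (g * (g * u * g⁻¹) * g⁻¹) * u := by
    rw [hv2e]
    have : g * ((g * u * g⁻¹) * (g * (g * u * g⁻¹) * g⁻¹)) * g⁻¹ =
        (g * (g * u * g⁻¹) * g⁻¹) * (g * (g * (g * u * g⁻¹) * g⁻¹) * g⁻¹) := by group
    rw [this, hg3]
  rw [hlhs, hv2e]
  have h11 : (g * u * g⁻¹) * (g * u * g⁻¹) = 1 := hQ _ hu1
  calc g * (g * u * g⁻¹) * g⁻¹ * u = u * (g * (g * u * g⁻¹) * g⁻¹) :=
        comm_of_sq Q hQ _ _ hu2 hu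
    _ = u * ((g * u * g⁻¹) * (g * u * g⁻¹)) * (g * (g * u * g⁻¹) * g⁻¹) := by rw [h11, mul_one]
    _ = u * (g * u * g⁻¹) * (g * u * g⁻¹ * (g * (g * u * g⁻¹) * g⁻¹)) := by group


section Three

variable {X : Type u} [Group X] [Finite X]

open Cfsg.Agent.Lib.Helper75 in
theorem M3 (hexp : ∀ x : X, x ^ 6 = 1) (hbot : pPrimeCore 3 X = ⊥) (g : X)
    (hg : g ^ 3 ∈ pCore 3 X) : g ∈ pCore 3 X := by
  classical
  by_contra hgn
  haveI h3 : Fact (Nat.Prime 3) := ⟨Nat.prime_three⟩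
  haveI h2 : Fact (Nat.Prime 2) := ⟨Nat.prime_two⟩
  haveI hsolv : Group.IsSolvable X := solvable_of_exp hexp
  set P₀ := pCore 3 X with hP₀
  haveI hPn : P₀.Normal := Cfsg.Agent.Lib.Helper81.pCore_normal (G := X) 3
  have hPp : IsPGroup 3 P₀ := Cfsg.Agent.Lib.Helper81.isPGroup_pCore (G := X) 3
  have hcent : Subgroup.centralizer (P₀ : Set X) ≤ P₀ :=
    Cfsg.Agent.S0505.centralizer_pCore_le_of_solvable 3 hbot inferInstance
  -- cubes
  have hcube : ∀ x : X, x ^ 3 ∈ P₀ → x ^ 3 = 1 := by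
    intro x hx
    have h2' : (x ^ 3) ^ 2 = 1 := by rw [← pow_mul]; exact hexp x
    obtain ⟨k, hk⟩ := hPp ⟨x ^ 3, hx⟩
    have hk' : (x ^ 3) ^ (3 ^ k) = 1 := by
      have := congrArg Subtype.val hk
      simpa using this
    have hg1 := pow_gcd_eq_one.2 ⟨h2', hk'⟩
    have hcop : Nat.gcd 2 (3 ^ k) = 1 := Nat.Coprime.pow_right k (by decide)
    rw [hcop, pow_one] at hg1
    exact hg1
  have hg3 : g ^ 3 = 1 := hcube g hg
  have hmulcube : ∀ y ∈ P₀, (g * y) ^ 3 = 1 := by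
    intro y hy
    apply hcube
    rw [← QuotientGroup.eq_one_iff, QuotientGroup.mk_pow, QuotientGroup.mk_mul,
      (QuotientGroup.eq_one_iff y).2 hy, mul_one, ← QuotientGroup.mk_pow,
      QuotientGroup.eq_one_iff]
    exact hg
  have hggg : g * g * g = 1 := by
    have : g ^ 3 = g * g * g := by rw [pow_succ, pow_two]
    rw [← this, hg3]
  have hrel : ∀ y ∈ P₀, (g * y * g⁻¹) * (g * (g * y * g⁻¹) * g⁻¹) * y = 1 := by
    intro y hy
    have h := hmulcube y hy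
    have hgi : g⁻¹ * g⁻¹ = g := by
      calc g⁻¹ * g⁻¹ = g⁻¹ * g⁻¹ * (g * g * g) := by rw [hggg, mul_one]
        _ = g := by group
    have e1 : (g * y * g⁻¹) * (g * (g * y * g⁻¹) * g⁻¹) * y =
        g * y * g * y * (g⁻¹ * g⁻¹) * y := by group
    rw [e1, hgi]
    have e2 : (g * y) ^ 3 = g * y * g * y * g * y := by
      rw [pow_succ, pow_two]; group
    rw [← e2]; exact h
  -- the module and the representation
  have hVcomm : ∀ v w : ↥P₀ ⧸ frattini ↥P₀, v * w = w * v := frattini_quotient_comm hPp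
  have hVpow : ∀ v : ↥P₀ ⧸ frattini ↥P₀, v ^ 3 = 1 := frattini_quotient_pow hPp
  let conjN : X →* MulAut P₀ := MulAut.conjNormal
  let ρ' : X →* MulAut (↥P₀ ⧸ frattini ↥P₀) := (Cfsg.Agent.S4208.rho P₀).comp conjN
  have hρ' : ∀ (x : X) (y : P₀), ρ' x (QuotientGroup.mk y) = QuotientGroup.mk (conjN x y) :=
    fun x y => rfl
  have hconjN : ∀ (x : X) (y : P₀), ((conjN x y : P₀) : X) = x * y * x⁻¹ := fun x y => rfl
  have hker1 : ∀ x ∈ P₀, ρ' x = 1 := by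
    intro x hx
    ext v
    obtain ⟨y, rfl⟩ := QuotientGroup.mk_surjective v
    rw [hρ', MulAut.one_apply]
    obtain ⟨z, hz, hzeq⟩ := trivial_on_frattini_quotient_of_mem P₀ hPp x hx y y.2
    have hz' : (z : X) = x * y * x⁻¹ * (y : X)⁻¹ := hzeq
    have hzz : (conjN x y) * y⁻¹ = z := by
      apply Subtype.ext
      rw [Subgroup.coe_mul, Subgroup.coe_inv, hconjN]
      exact hz'.symm
    have h1 : (QuotientGroup.mk (conjN x y * y⁻¹) : ↥P₀ ⧸ frattini ↥P₀) = 1 :=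
      (QuotientGroup.eq_one_iff _).2 (hzz ▸ hz)
    rw [QuotientGroup.mk_mul, QuotientGroup.mk_inv, mul_inv_eq_one] at h1
    exact h1
  have hker2 : ∀ x : X, ρ' x = 1 → x ∈ P₀ := by
    intro x hx
    apply mem_pCore_of_trivial_on_frattini_quotient P₀ hPp hcent x
    intro y hy
    have h := DFunLike.congr_fun hx (QuotientGroup.mk (⟨y, hy⟩ : P₀))
    rw [hρ', MulAut.one_apply] at h
    have h' : (conjN x ⟨y, hy⟩) * (⟨y, hy⟩ : P₀)⁻¹ ∈ frattini ↥P₀ := by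
      rw [← QuotientGroup.eq_one_iff, QuotientGroup.mk_mul, QuotientGroup.mk_inv, h,
        mul_inv_cancel]
    exact ⟨_, h', rfl⟩
  -- the quotient
  have hexpb : ∀ x : X ⧸ P₀, x ^ 6 = 1 := by
    intro x
    obtain ⟨y, rfl⟩ := QuotientGroup.mk_surjective x
    rw [← QuotientGroup.mk_pow, hexp]; rfl
  have hbotb : pPrimeCore 2 (X ⧸ P₀) = ⊥ := by
    rw [Cfsg.Agent.Lib.Helper81.pPrimeCore_eq_bot_iff]
    intro N hN hc
    have hN3 : IsPGroup 3 N := by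
      intro y
      refine ⟨1, ?_⟩
      rw [pow_one]
      have h6 : y ^ 6 = 1 := Subtype.ext (by simpa using hexpb (y : X ⧸ P₀))
      have hcard : y ^ Nat.card N = 1 := pow_card_eq_one'
      have hd := pow_gcd_eq_one.2 ⟨h6, hcard⟩
      have hd3 : Nat.gcd 6 (Nat.card N) ∣ 3 := by
        have h1 : (Nat.gcd 6 (Nat.card N)).Coprime 2 :=
          Nat.Coprime.coprime_dvd_left (Nat.gcd_dvd_right _ _) hc
        exact h1.dvd_of_dvd_mul_left (by
          have : Nat.gcd 6 (Nat.card N) ∣ 6 := Nat.gcd_dvd_left _ _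
          simpa using this)
      obtain ⟨c, hc'⟩ := hd3
      rw [hc', pow_mul, hd, one_pow]
    have hle : N.comap (QuotientGroup.mk' P₀) ≤ P₀ := by
      apply Cfsg.Agent.Lib.Helper81.le_pCore (hN.comap _)
      apply hN3.comap_of_ker_isPGroup
      rw [QuotientGroup.ker_mk']
      exact hPp
    rw [eq_bot_iff]
    intro y hy
    obtain ⟨x, rfl⟩ := QuotientGroup.mk_surjective y
    rw [Subgroup.mem_bot, QuotientGroup.eq_one_iff]
    exact hle hy
  haveI hQn : (pCore 2 (X ⧸ P₀)).Normal := Cfsg.Agent.Lib.Helper81.pCore_normal (G := X ⧸ P₀) 2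
  have hQp : IsPGroup 2 (pCore 2 (X ⧸ P₀)) :=
    Cfsg.Agent.Lib.Helper81.isPGroup_pCore (G := X ⧸ P₀) 2
  have hcentb : Subgroup.centralizer (pCore 2 (X ⧸ P₀) : Set (X ⧸ P₀)) ≤ pCore 2 (X ⧸ P₀) :=
    Cfsg.Agent.S0505.centralizer_pCore_le_of_solvable 2 hbotb inferInstance
  have hQsq : ∀ q ∈ pCore 2 (X ⧸ P₀), q * q = 1 := by
    intro q hq
    obtain ⟨k, hk⟩ := hQp ⟨q, hq⟩
    have hk' : q ^ (2 ^ k) = 1 := by
      have := congrArg Subtype.val hk
      simpa using this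
    have hd := pow_gcd_eq_one.2 ⟨hexpb q, hk'⟩
    have hd2 : Nat.gcd 6 (2 ^ k) ∣ 2 := by
      have h1 : (Nat.gcd 6 (2 ^ k)).Coprime 3 :=
        Nat.Coprime.coprime_dvd_left (Nat.gcd_dvd_right _ _)
          (Nat.Coprime.pow_left k (by decide))
      exact h1.dvd_of_dvd_mul_right (by
        have : Nat.gcd 6 (2 ^ k) ∣ 6 := Nat.gcd_dvd_left _ _
        simpa using this)
    obtain ⟨c, hc'⟩ := hd2
    rw [← pow_two, hc', pow_mul, hd, one_pow]
  -- the element of order three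
  have hgb3 : (g : X ⧸ P₀) ^ 3 = 1 := by
    rw [← QuotientGroup.mk_pow, hg3]; rfl
  have hgbQ : (g : X ⧸ P₀) ∉ pCore 2 (X ⧸ P₀) := by
    intro h
    obtain ⟨k, hk⟩ := hQp ⟨(g : X ⧸ P₀), h⟩
    have hk' : (g : X ⧸ P₀) ^ (2 ^ k) = 1 := by
      have := congrArg Subtype.val hk
      simpa using this
    have hd := pow_gcd_eq_one.2 ⟨hgb3, hk'⟩
    have hcop : Nat.gcd 3 (2 ^ k) = 1 := Nat.Coprime.pow_right k (by decide)
    rw [hcop, pow_one] at hd
    exact hgn ((QuotientGroup.eq_one_iff g).1 hd)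
  have hnc : (g : X ⧸ P₀) ∉ Subgroup.centralizer (pCore 2 (X ⧸ P₀) : Set (X ⧸ P₀)) :=
    fun h => hgbQ (hcentb h)
  rw [Subgroup.mem_centralizer_iff] at hnc
  obtain ⟨ub, hnc'⟩ := not_forall.1 hnc
  obtain ⟨hub, hne⟩ := Classical.not_imp.1 hnc'
  obtain ⟨v₁, v₂, hv1, hv2, hv1Q, hv11, hv22, hv12, hgv2⟩ :=
    klein_rels (pCore 2 (X ⧸ P₀)) hQsq (g : X ⧸ P₀) ub hgb3 hub
  have hv1ne : v₁ ≠ 1 := by
    intro h
    rw [hv1] at h
    apply hne
    have hubi : ub⁻¹ = ub := inv_eq_of_mul_eq_one_right (hQsq ub hub)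
    have h1 : (g : X ⧸ P₀) * ub * (g : X ⧸ P₀)⁻¹ = ub := by
      rw [eq_inv_of_mul_eq_one_right h, hubi]
    rw [mul_inv_eq_iff_eq_mul] at h1
    exact h1.symm
  -- the induced representation of the quotient
  let ρb : X ⧸ P₀ →* MulAut (↥P₀ ⧸ frattini ↥P₀) :=
    QuotientGroup.lift P₀ ρ' (fun x hx => hker1 x hx)
  have hρb : ∀ x : X, ρb (x : X ⧸ P₀) = ρ' x := fun x => rfl
  have hρbinj : ∀ y : X ⧸ P₀, ρb y = 1 → y = 1 := by
    intro y hy
    obtain ⟨x, rfl⟩ := QuotientGroup.mk_surjective y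
    rw [hρb] at hy
    exact (QuotientGroup.eq_one_iff x).2 (hker2 x hy)
  have hstar : ∀ v : ↥P₀ ⧸ frattini ↥P₀,
      v * ρb (g : X ⧸ P₀) v * ρb (g : X ⧸ P₀) (ρb (g : X ⧸ P₀) v) = 1 := by
    intro v
    obtain ⟨y, rfl⟩ := QuotientGroup.mk_surjective v
    rw [hρb, hρ', hρ', ← QuotientGroup.mk_mul, ← QuotientGroup.mk_mul]
    have : y * conjN g y * conjN g (conjN g y) = 1 := by
      apply Subtype.ext
      rw [Subgroup.coe_mul, Subgroup.coe_mul, hconjN, hconjN, hconjN, Subgroup.coe_one]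
      have h := hrel y y.2
      calc (y : X) * (g * y * g⁻¹) * (g * (g * y * g⁻¹) * g⁻¹)
          = y * ((g * y * g⁻¹) * (g * (g * y * g⁻¹) * g⁻¹) * y) * (y : X)⁻¹ := by group
        _ = 1 := by rw [h]; group
    rw [this]; rfl
  have hfin := a4_lemma hVcomm hVpow (ρb (g : X ⧸ P₀)) (ρb v₁) (ρb v₂)
    (by rw [← map_mul, hv11, map_one]) (by rw [← map_mul, hv22, map_one])
    (by rw [← map_mul, ← map_mul, hv12])
    (by rw [← map_inv, ← map_mul, ← map_mul, ← hv2])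
    (by rw [← map_inv, ← map_mul, ← map_mul, ← map_mul, hgv2]) hstar
  exact hv1ne (hρbinj v₁ hfin)

end Three


theorem pl_aux {G : Type u} [Group G] [Finite G] (h : ∀ x : G, x ^ 6 = 1) (p : ℕ)
    [hp : Fact p.Prime]
    (hM : ∀ (X : Type u) [Group X] [Finite X], (∀ x : X, x ^ 6 = 1) → pPrimeCore p X = ⊥ →
      ∀ g : X, g ^ p ∈ pCore p X → g ∈ pCore p X) : PLengthLE p 1 G := by
  apply pl_of_claim p
  have h1 : (upperPSeries p G 1).1 =
      (pPrimeCore p (G ⧸ (upperPSeries p G 0).1)).comap (QuotientGroup.mk' _) :=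
    upperPSeries_succ_even p 0 (by simp)
  have hbot : pPrimeCore p (G ⧸ (upperPSeries p G 1).1) = ⊥ :=
    Cfsg.Agent.S0634.pPrimeCore_quotient_comap_eq_bot p (upperPSeries p G 0).1 _ h1
  have hexp : ∀ x : G ⧸ (upperPSeries p G 1).1, x ^ 6 = 1 := by
    intro x
    obtain ⟨y, rfl⟩ := QuotientGroup.mk_surjective x
    rw [← QuotientGroup.mk_pow, h]; rfl
  exact hM _ hexp hbot

/-- A finite group in which every element has order dividing `6` has `2`-length at most `1` and `3`-length at most `1`. -/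
theorem result {G : Type*} [Group G] [Finite G] (h : ∀ x : G, x ^ 6 = 1) : Cfsg.PLengthLE 2 1 G ∧ Cfsg.PLengthLE 3 1 G := by
  haveI h3 : Fact (Nat.Prime 3) := ⟨Nat.prime_three⟩
  haveI h2 : Fact (Nat.Prime 2) := ⟨Nat.prime_two⟩
  exact ⟨pl_aux h 2 (fun X _ _ hexp hbot g hg => M2 hexp hbot g hg),
    pl_aux h 3 (fun X _ _ hexp hbot g hg => M3 hexp hbot g hg)⟩

end Cfsg.Agent.S4227
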