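import Cfsg.Statements.S4230

set_option autoImplicit false
open Cfsg

namespace Cfsg.Agent.S4230

open Polynomial in
theorem dvd_iff_isRoot (p q f : ℕ) [Fact p.Prime] :
    ((p : ℤ) ∣ (Polynomial.cyclotomic f ℤ).eval (q : ℤ)) ↔
      (Polynomial.cyclotomic f (ZMod p)).IsRoot (q : ZMod p) := by
  rw [← ZMod.intCast_zmod_eq_zero_iff_dvd, Polynomial.IsRoot.def,
    ← Polynomial.map_cyclotomic_int f (ZMod p)]
  have := Polynomial.eval_intCast_map (Int.castRingHom (ZMod p)) (Polynomial.cyclotomic f ℤ) (q : ℤ)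
  simp only [Int.cast_natCast, eq_intCast] at this
  rw [this]

theorem arith (p j m e j' : ℕ) (hp : p.Prime) (hm : ¬ p ∣ m) (he : ¬ p ∣ e)
    (h : p ^ j * m = e * p ^ j') : m = e := by
  have hcop1 : Nat.Coprime (p ^ j) e := Nat.Coprime.pow_left _ ((Nat.Prime.coprime_iff_not_dvd hp).2 he)
  have hcop2 : Nat.Coprime (p ^ j') m := Nat.Coprime.pow_left _ ((Nat.Prime.coprime_iff_not_dvd hp).2 hm)
  have h1 : p ^ j ∣ p ^ j' := by
    have : p ^ j ∣ e * p ^ j' := ⟨m, h.symm⟩
    exact hcop1.dvd_of_dvd_mul_left this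
  have h2 : p ^ j' ∣ p ^ j := by
    have : p ^ j' ∣ p ^ j * m := ⟨e, by rw [h]; ring⟩
    exact hcop2.dvd_of_dvd_mul_right this
  have h3 : p ^ j = p ^ j' := Nat.dvd_antisymm h1 h2
  rw [h3, mul_comm] at h
  exact Nat.eq_of_mul_eq_mul_right (pow_pos hp.pos _) h

/-- Let p be an odd prime, q a natural number not divisible by p, and e the multiplicative order of q modulo p. For a natural number f, p divides the value at q of the f-th cyclotomic polynomial if and only if f = e·p^j for some j ≥ 0. -/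
theorem result (p q f : ℕ) (hp : p.Prime) (hp2 : p ≠ 2) (hpq : ¬ p ∣ q) :
    ((p : ℤ) ∣ (Polynomial.cyclotomic f ℤ).eval (q : ℤ)) ↔ ∃ j : ℕ, f = orderOf (q : ZMod p) * p ^ j := by
  haveI : Fact p.Prime := ⟨hp⟩
  have hq0 : (q : ZMod p) ≠ 0 := by
    rwa [Ne, ZMod.natCast_eq_zero_iff]
  have hpow : (q : ZMod p) ^ (p - 1) = 1 := ZMod.pow_card_sub_one_eq_one hq0
  have he_dvd : orderOf (q : ZMod p) ∣ p - 1 := orderOf_dvd_of_pow_eq_one hpow
  have hp1 : 0 < p - 1 := Nat.sub_pos_of_lt hp.one_lt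
  have he_pos : 0 < orderOf (q : ZMod p) := Nat.pos_of_dvd_of_pos he_dvd hp1
  have he_ndvd : ¬ p ∣ orderOf (q : ZMod p) := by
    intro h
    have := Nat.le_of_dvd hp1 (dvd_trans h he_dvd)
    omega
  rw [dvd_iff_isRoot]
  rcases Nat.eq_zero_or_pos f with hf | hf
  · subst hf
    simp only [Polynomial.cyclotomic_zero, Polynomial.IsRoot.def, Polynomial.eval_one, one_ne_zero,
      false_iff, not_exists]
    intro j h
    have : 0 < orderOf (q : ZMod p) * p ^ j := Nat.mul_pos he_pos (pow_pos hp.pos _)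
    omega
  · obtain ⟨j, m, hm, rfl⟩ := Nat.exists_eq_pow_mul_and_not_dvd hf.ne' p hp.ne_one
    haveI : NeZero ((m : ℕ) : ZMod p) := ⟨by rwa [Ne, ZMod.natCast_eq_zero_iff]⟩
    have hroot : (Polynomial.cyclotomic (p ^ j * m) (ZMod p)).IsRoot (q : ZMod p) ↔
        IsPrimitiveRoot (q : ZMod p) m := by
      rcases Nat.eq_zero_or_pos j with hj | hj
      · subst hj
        simp only [pow_zero, one_mul]
        exact Polynomial.isRoot_cyclotomic_iff
      · rw [Polynomial.isRoot_cyclotomic_prime_pow_mul_iff_of_charP]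
    rw [hroot]
    constructor
    · intro h
      refine ⟨j, ?_⟩
      rw [← h.eq_orderOf, mul_comm]
    · rintro ⟨j', h⟩
      have := arith p j m _ j' hp hm he_ndvd h
      rw [this]
      exact IsPrimitiveRoot.orderOf _

end Cfsg.Agent.S4230
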