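import Cfsg.Statements.S4236
import Cfsg.Agent.S4303
import Cfsg.Agent.Lib.Helper77.SylowTwoP

set_option autoImplicit false
open Cfsg

namespace Cfsg.Agent.S4236

open Subgroup

theorem fact17 : Fact (Nat.Prime 17) := ⟨by norm_num⟩
attribute [local instance] fact17

/-- No finite simple group has exactly 35 Sylow 17-subgroups. -/
theorem core_false {S : Type*} [Group S] [Finite S] [IsSimpleGroup S]
    (h : Nat.card (Sylow 17 S) = 35) : False := by
  have h' : Nat.card (Sylow 17 S) = 2 * 17 + 1 := h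
  have h3 : 3 ≤ 17 := by norm_num
  obtain ⟨P⟩ : Nonempty (Sylow 17 S) := inferInstance
  have hG := Lib.Helper77.TwoP.not_comm h3 h'
  obtain ⟨hk, -, hS⟩ := Lib.Helper77.TwoP.card_eq h3 h' P
  rcases Nat.even_or_odd (Nat.card S) with he | ho
  · exact Lib.Helper77.TwoP.false_of_even_of_self_centralizing hG (by norm_num) P
      (Lib.Helper77.TwoP.card_sylow_eq_p h3 h' P) (Lib.Helper77.TwoP.centralizer_eq h3 h' P)
      (by rw [Lib.Helper77.TwoP.index_normalizer h' P]; norm_num) (even_iff_two_dvd.mp he)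
  · generalize (centralizer ((P : Subgroup S) : Set S)).relIndex
      (normalizer ((P : Subgroup S) : Set S)) = k at hk hS
    have hk16 : k ≤ 16 := Nat.le_of_dvd (by norm_num) hk
    rw [hS] at ho
    have hkodd : k % 2 = 1 := by
      rcases Nat.odd_mul.mp ho with ⟨-, h2⟩
      exact Nat.odd_iff.mp (Nat.odd_mul.mp h2).2
    have hk1 : k = 1 := by
      interval_cases k <;> omega
    rw [hk1] at hS
    exact Lib.Helper77.false_of_card_eq_prime_mul hG 5 119 (by norm_num) (by rw [hS])
      (by norm_num) (by norm_num)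

/-- No finite group has exactly 35 Sylow 17-subgroups. -/
theorem result {G : Type*} [Group G] [Finite G] : Nat.card (Sylow 17 G) ≠ 35 := by
  intro h35
  obtain ⟨l, hprod, hl⟩ := Cfsg.Agent.S4303.result (G := G) 17
  have hmod : ∀ m ∈ l, m % 17 = 1 := by
    intro m hm
    rcases hl m hm with ⟨_, h⟩ | ⟨T, _, _, _, rfl⟩
    · exact h
    · exact card_sylow_modEq_one 17 T
  have hdvd : ∀ m ∈ l, m ∣ 35 := fun m hm => by
    rw [← h35, ← hprod]; exact List.dvd_prod hm
  have hval : ∀ m ∈ l, m = 1 ∨ m = 35 := by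
    have aux : ∀ m : ℕ, m % 17 = 1 → m ∣ 35 → m = 1 ∨ m = 35 := by
      intro m h1 h2
      have h3 : m ≤ 35 := Nat.le_of_dvd (by norm_num) h2
      interval_cases m <;> omega
    intro m hm
    exact aux m (hmod m hm) (hdvd m hm)
  have hex : ∃ m ∈ l, m = 35 := by
    by_contra hcon
    push Not at hcon
    have : l.prod = 1 :=
      List.prod_eq_one (fun m hm => (hval m hm).resolve_right (hcon m hm))
    rw [this] at hprod
    omega
  obtain ⟨m, hm, rfl⟩ := hex
  rcases hl 35 hm with ⟨hpp, _⟩ | ⟨T, _, _, hsimple, hcard⟩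
  · exfalso
    rw [isPrimePow_nat_iff] at hpp
    obtain ⟨p, k, hp, hk, hpk⟩ := hpp
    have h5 : 5 ∣ p ^ k := by rw [hpk]; norm_num
    have h7 : 7 ∣ p ^ k := by rw [hpk]; norm_num
    have e5 := (Nat.prime_dvd_prime_iff_eq Nat.prime_five hp).mp
      (Nat.prime_five.dvd_of_dvd_pow h5)
    have e7 := (Nat.prime_dvd_prime_iff_eq (by norm_num : Nat.Prime 7) hp).mp
      ((by norm_num : Nat.Prime 7).dvd_of_dvd_pow h7)
    omega
  · exact core_false (S := T) hcard.symm

end Cfsg.Agent.S4236
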