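import Cfsg.Statements.S4237
import Cfsg.Agent.Lib.Helper75.HallCount3

set_option autoImplicit false
open Cfsg

namespace Cfsg.Agent.S4237

open Cfsg.Agent.Lib.Helper75.SubCount

theorem two_case {G : Type*} [Group G] [Finite G] (a : ℕ) (hdvd : 2 ^ (a + 1) ∣ Nat.card G) :
    Nat.card {H : Subgroup G // Nat.card H = 2 ^ a} ≡ 1 [MOD 2 ^ 2] ∨
      Nat.card {H : Subgroup G // Nat.card H = 2 ^ a} ≡ 1 + 2 [MOD 2 ^ 2] := by
  have : Fact (Nat.Prime 2) := ⟨Nat.prime_two⟩
  have h := Cfsg.Agent.Lib.Helper71.card_subgroups_modEq_one (G := G) 2 a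
    (dvd_trans (pow_dvd_pow 2 (Nat.le_succ a)) hdvd)
  unfold Nat.ModEq at h ⊢
  norm_num at h ⊢
  omega

theorem odd_case {G : Type*} [Group G] [Finite G] (p a : ℕ) [hp : Fact p.Prime] (hp2 : p ≠ 2)
    (hdvd : p ^ (a + 1) ∣ Nat.card G) :
    sN p a G ≡ 1 [MOD p ^ 2] ∨ sN p a G ≡ 1 + p [MOD p ^ 2] := by
  have hpp : p.Prime := hp.out
  obtain ⟨P⟩ : Nonempty (Sylow p G) := inferInstance
  have hPc := P.card_eq_multiplicity
  set m := (Nat.card G).factorization p with hm
  have ham : a + 1 ≤ m :=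
    (hpp.pow_dvd_iff_le_factorization Nat.card_pos.ne').mp hdvd
  have hred := hall_reduction a m (by omega) P hPc
  by_cases hc : IsCyclic ↥(P : Subgroup G)
  · left
    refine hred.trans ?_
    rw [sN_of_isCyclic p a (by rw [hPc]; exact pow_dvd_pow p (by omega))]
  · rcases Nat.eq_zero_or_pos a with h0 | h0
    · left
      refine hred.trans ?_
      have : sN p a ↥(P : Subgroup G) = 1 := by
        unfold sN
        rw [h0, pow_zero, Nat.card_eq_one_iff_exists]
        refine ⟨⟨⊥, Subgroup.card_bot⟩, ?_⟩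
        intro H
        apply Subtype.ext
        exact Subgroup.eq_bot_of_card_eq H.1 H.2
      rw [this]
    · right
      exact hred.trans (kulakoff p hp2 m ↥(P : Subgroup G) hPc hc a h0 (by omega))

/-- Let G be a finite group, p a prime and a a natural number such that p^(a+1) divides the order of G. Then the number of subgroups of G of order p^a is congruent to 1 or to 1 + p modulo p². -/
theorem result {G : Type*} [Group G] [Finite G] (p a : ℕ) (hp : p.Prime) (hdvd : p ^ (a + 1) ∣ Nat.card G) :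
    Nat.card {H : Subgroup G // Nat.card H = p ^ a} ≡ 1 [MOD p ^ 2] ∨
      Nat.card {H : Subgroup G // Nat.card H = p ^ a} ≡ 1 + p [MOD p ^ 2] := by
  by_cases hp2 : p = 2
  · subst hp2
    exact two_case a hdvd
  · have : Fact p.Prime := ⟨hp⟩
    exact odd_case p a hp2 hdvd

end Cfsg.Agent.S4237
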