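import Cfsg.Statements.S4238
import Cfsg.Agent.Lib.Helper41.Frobenius
import Cfsg.Agent.Lib.Helper61.PPrimeCore
import Cfsg.Agent.Lib.Helper61.NPCSection
-- import your own Cfsg.Agent.* helpers here

set_option autoImplicit false
open Cfsg

namespace Cfsg.Agent.S4238

open Cfsg.Agent.Lib.Helper61 Cfsg.Agent.Lib.Helper41

theorem forward {G : Type*} [Group G] [Finite G] (p : ℕ) [hp : Fact p.Prime]
    (h : Cfsg.HasNormalPComplement p G) (H : Subgroup G) (N : Subgroup H) [N.Normal]
    (hcore : Cfsg.pPrimeCore p (H ⧸ N) = ⊥) :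
    ∃ k : H ⧸ N, orderOf k = Monoid.exponent (H ⧸ N) := by
  obtain ⟨P, M, hMn, hMP⟩ := hasNormalPComplement_subgroup h H
  have hcard : Nat.card M * Nat.card P = Nat.card H := hMP.card_mul_card
  have hPpos : 0 < Nat.card P := Nat.card_pos
  have hMpos : 0 < Nat.card M := Nat.card_pos
  have hMidx : Nat.card M = (P : Subgroup H).index := by
    have h1 := (P : Subgroup H).card_mul_index
    apply Nat.eq_of_mul_eq_mul_right hPpos
    rw [hcard, ← h1, mul_comm]
  have hMcop : (Nat.card M).Coprime p := by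
    rw [hMidx]
    exact ((Nat.Prime.coprime_iff_not_dvd hp.out).mpr P.not_dvd_index).symm
  have hidxM : M.index = Nat.card P := by
    have h1 := M.card_mul_index
    apply Nat.eq_of_mul_eq_mul_left hMpos
    rw [h1, hcard]
  set π := QuotientGroup.mk' N with hπ
  have hπs : Function.Surjective π := QuotientGroup.mk'_surjective N
  have hMle : M.map π ≤ Cfsg.pPrimeCore p (H ⧸ N) := by
    apply le_pPrimeCore (hMn.map π hπs)
    exact Nat.Coprime.coprime_dvd_left (Subgroup.card_map_dvd M π) hMcop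
  rw [hcore, le_bot_iff] at hMle
  obtain ⟨n, hn⟩ := (IsPGroup.iff_card (p := p)).mp P.2
  have hPG : IsPGroup p (H ⧸ N) := by
    intro g
    obtain ⟨x, rfl⟩ := hπs g
    refine ⟨n, ?_⟩
    rw [← map_pow, ← hn, ← hidxM]
    have h1 : π (x ^ M.index) ∈ M.map π := Subgroup.mem_map_of_mem π (M.pow_index_mem x)
    rw [hMle, Subgroup.mem_bot] at h1
    exact h1
  obtain ⟨m, hm⟩ := (IsPGroup.iff_card (p := p)).mp hPG
  obtain ⟨j, hj, hej⟩ := (Nat.dvd_prime_pow hp.out).mp
    (hm ▸ (Group.exponent_dvd_nat_card (G := H ⧸ N)))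
  obtain ⟨g, hg⟩ := hp.out.exists_orderOf_eq_pow_factorization_exponent (H ⧸ N)
  refine ⟨g, ?_⟩
  rw [hg, hej, hp.out.factorization_pow]
  simp

theorem backward {G : Type*} [Group G] [Finite G] (p : ℕ) [hp : Fact p.Prime]
    (hsec : ∀ (H : Subgroup G) (N : Subgroup H) [N.Normal], Cfsg.pPrimeCore p (H ⧸ N) = ⊥ →
        ∃ k : H ⧸ N, orderOf k = Monoid.exponent (H ⧸ N)) :
    FrobCond p G := by
  have key : ∀ n : ℕ, ∀ (Q : Subgroup G) (y : G), Nat.card Q + orderOf y = n → IsPGroup p Q →
      y ∈ Subgroup.normalizer (Q : Set G) → Nat.Coprime (orderOf y) p →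
      y ∈ Subgroup.centralizer (Q : Set G) := by
    intro n
    induction n using Nat.strong_induction_on with
    | _ n ih =>
    intro Q y hn hQ hyN hyc
    by_contra hnc
    have hy1 : y ≠ 1 := by
      rintro rfl
      exact hnc (Subgroup.one_mem _)
    have hoy : orderOf y ≠ 1 := fun h => hy1 (orderOf_eq_one_iff.mp h)
    have hoy0 : 0 < orderOf y := orderOf_pos y
    obtain ⟨q, hq, hqy⟩ := Nat.exists_prime_and_dvd hoy
    have hpq : p ≠ q := by
      rintro rfl
      have : p ∣ Nat.gcd (orderOf y) p := Nat.dvd_gcd hqy dvd_rfl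
      rw [Nat.Coprime.gcd_eq_one hyc] at this
      exact hp.out.one_lt.ne' (Nat.dvd_one.mp this)
    have hyq : y ^ q ∈ Subgroup.centralizer (Q : Set G) := by
      have hlt : orderOf (y ^ q) < orderOf y := by
        rw [orderOf_pow_of_dvd hq.ne_zero hqy]
        exact Nat.div_lt_self hoy0 hq.one_lt
      exact ih (Nat.card Q + orderOf (y ^ q)) (by omega) Q (y ^ q) rfl hQ
        (Subgroup.pow_mem _ hyN q) (Nat.Coprime.coprime_dvd_left (orderOf_pow_dvd q) hyc)
    set H : Subgroup G := Q ⊔ Subgroup.zpowers y with hH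
    have hQH : Q ≤ H := le_sup_left
    have hyH : y ∈ H := le_sup_right (a := Q) (Subgroup.mem_zpowers y)
    have hHN : H ≤ Subgroup.normalizer (Q : Set G) :=
      sup_le Subgroup.le_normalizer (by rw [Subgroup.zpowers_le]; exact hyN)
    have hQ'n : (Q.subgroupOf H).Normal :=
      (Subgroup.normal_subgroupOf_iff_le_normalizer hQH).mpr hHN
    have htop : Q.subgroupOf H ⊔ Subgroup.zpowers (⟨y, hyH⟩ : H) = ⊤ := by
      have hz : Subgroup.zpowers (⟨y, hyH⟩ : H) = (Subgroup.zpowers y).subgroupOf H := by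
        apply Subgroup.map_injective H.subtype_injective
        rw [MonoidHom.map_zpowers, Subgroup.map_subgroupOf_eq_of_le]
        · rfl
        · exact le_sup_right
      rw [hz, ← Subgroup.subgroupOf_sup hQH le_sup_right, ← hH, Subgroup.subgroupOf_self]
    have hyq' : ∀ x ∈ Q.subgroupOf H, x * (⟨y, hyH⟩ : H) ^ q = (⟨y, hyH⟩ : H) ^ q * x := by
      intro x hx
      apply Subtype.ext
      have := (Subgroup.mem_centralizer_iff.mp hyq) (x : G) (Subgroup.mem_subgroupOf.mp hx)
      simpa using this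
    have hnc' : ∃ x ∈ Q.subgroupOf H, x * (⟨y, hyH⟩ : H) ≠ ⟨y, hyH⟩ * x := by
      rw [Subgroup.mem_centralizer_iff] at hnc
      push Not at hnc
      obtain ⟨x, hx, hxy⟩ := hnc
      refine ⟨⟨x, hQH hx⟩, Subgroup.mem_subgroupOf.mpr hx, ?_⟩
      intro h
      exact hxy (congrArg Subtype.val h)
    have hmin' : ∀ Q₁ : Subgroup H, Q₁.Normal → Q₁ < Q.subgroupOf H →
        ∀ x ∈ Q₁, x * (⟨y, hyH⟩ : H) = ⟨y, hyH⟩ * x := by
      intro Q₁ hQ₁n hlt x hx
      set Q₂ : Subgroup G := Q₁.map H.subtype with hQ₂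
      have hQ₂Q : Q₂ ≤ Q := by
        rintro _ ⟨z, hz, rfl⟩
        exact Subgroup.mem_subgroupOf.mp (hlt.le hz)
      have hcard : Nat.card Q₂ < Nat.card Q := by
        by_contra hge
        push Not at hge
        have heq : Q₂ = Q := Subgroup.eq_of_le_of_card_ge hQ₂Q hge
        apply hlt.ne
        apply Subgroup.map_injective H.subtype_injective
        rw [← hQ₂, heq, Subgroup.map_subgroupOf_eq_of_le hQH]
      have hQ₂p : IsPGroup p Q₂ := hQ.to_le hQ₂Q
      have hyN₂ : y ∈ Subgroup.normalizer (Q₂ : Set G) := by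
        apply Subgroup.mem_normalizer_fintype
        rintro _ ⟨z, hz, rfl⟩
        exact ⟨⟨y, hyH⟩ * z * ⟨y, hyH⟩⁻¹, hQ₁n.conj_mem z hz _, by simp⟩
      have := ih (Nat.card Q₂ + orderOf y) (by omega) Q₂ y rfl hQ₂p hyN₂ hyc
      apply Subtype.ext
      have h2 := (Subgroup.mem_centralizer_iff.mp this) (x : G) ⟨x, hx, rfl⟩
      simpa using h2
    obtain ⟨N, hNn, hcore, hno⟩ := section_lemmaA hq hpq (Q.subgroupOf H) hQ.comap_subtype
      ⟨y, hyH⟩ (by rw [Subgroup.orderOf_mk]; exact hyc) htop hyq' hnc' hmin'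
    exact hno (hsec H N hcore)
  intro Q hQ g hg hc
  exact key _ Q g rfl hQ hg hc

/-- Let G be a finite group and p a prime. Then G has a normal p-complement if and only if every section K = H/N of G (N a normal subgroup of a subgroup H) whose largest normal subgroup of order prime to p is trivial contains an element whose order equals the exponent of K. -/
theorem result {G : Type*} [Group G] [Finite G] (p : ℕ) [Fact p.Prime] :
    Cfsg.HasNormalPComplement p G ↔
      ∀ (H : Subgroup G) (N : Subgroup H) [N.Normal], Cfsg.pPrimeCore p (H ⧸ N) = ⊥ →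
        ∃ k : H ⧸ N, orderOf k = Monoid.exponent (H ⧸ N) := by
  constructor
  · intro h H N _ hcore
    exact forward p h H N hcore
  · intro hsec
    exact hasNormalPComplement_of_frobCond (backward p hsec)

end Cfsg.Agent.S4238
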