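import Cfsg.Statements.S4242
import Cfsg.Agent.Lib.Helper14.NilpHall
import Cfsg.Agent.Lib.Helper14.MinNonNilp
import Cfsg.Agent.Lib.Helper41.Frobenius
import Cfsg.Agent.Lib.Helper29.Sup
import Cfsg.Agent.Lib.Helper01.Coprime

set_option autoImplicit false
set_option linter.style.haveILetI false
open Cfsg

namespace Cfsg.Agent.S4242

section aux

open scoped commutatorElement

variable {G : Type*} [Group G]

theorem commute_of_mem_nilpotent {N : Subgroup G} (hN : Group.IsNilpotent N) {g u : G}
    (hg : g ∈ N) (hu : u ∈ N) (hcop : (orderOf g).Coprime (orderOf u)) : g * u = u * g := by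
  haveI := hN
  have h := Cfsg.Agent.Lib.Helper14.commute_of_coprime_orderOf N ⟨g, hg⟩ ⟨u, hu⟩ (by
    rw [Subgroup.orderOf_mk, Subgroup.orderOf_mk]; exact hcop)
  have := congrArg Subtype.val h.eq
  simpa using this

theorem isNilpotent_of_le {L N : Subgroup G} (hN : Group.IsNilpotent N) (h : L ≤ N) :
    Group.IsNilpotent L := by
  haveI := hN
  haveI : Group.IsNilpotent (L.subgroupOf N) := inferInstance
  exact Group.nilpotent_of_mulEquiv (Subgroup.subgroupOfEquivOfLe h)

theorem isNilpotent_of_comm {H : Type*} [Group H] (h : IsMulCommutative H) :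
    Group.IsNilpotent H :=
  ⟨⟨1, Subgroup.upperCentralSeries_one_eq_top_iff.mpr h⟩⟩

theorem forward [Finite G] (p : ℕ) (hp : p.Prime) (hpG : p ∣ Nat.card G)
    (H : ∀ M : Subgroup G, IsCoatom M → p ∣ Nat.card M → Group.IsNilpotent M)
    (hmin : ¬ Cfsg.IsMinimalNonNilpotent G) (hG : ¬ Group.IsNilpotent G) :
    ∃ Z K : Subgroup G, Z.Normal ∧ K.Normal ∧ Z ⊓ K = ⊥ ∧ Z ⊔ K = ⊤ ∧ Nat.card Z = p ∧
          Cfsg.IsMinimalNonNilpotent K ∧ ¬ p ∣ Nat.card K := by
  classical
  haveI : Fact p.Prime := ⟨hp⟩
  have L3 : ∀ L : Subgroup G, L ≠ ⊤ → p ∣ Nat.card L → Group.IsNilpotent L := by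
    intro L hL hpL
    obtain ⟨M, hM, hLM⟩ := (eq_top_or_exists_le_coatom L).resolve_left hL
    exact isNilpotent_of_le (H M hM (hpL.trans (Subgroup.card_dvd_of_le hLM))) hLM
  obtain ⟨M₀, hM₀, hM₀n⟩ : ∃ M₀ : Subgroup G, IsCoatom M₀ ∧ ¬ Group.IsNilpotent M₀ := by
    by_contra hcon
    push Not at hcon
    apply hmin
    refine ⟨hG, fun L hL => ?_⟩
    obtain ⟨M, hM, hLM⟩ := (eq_top_or_exists_le_coatom L).resolve_left hL
    exact isNilpotent_of_le (hcon M hM) hLM
  have hpM₀ : ¬ p ∣ Nat.card M₀ := fun h => hM₀n (H M₀ hM₀ h)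
  -- Frobenius' condition
  have hfrob : Cfsg.Agent.Lib.Helper41.FrobCond p G := by
    intro Q hQ g hgN hcop
    by_cases hQb : Q = ⊥
    · rw [hQb, Subgroup.mem_centralizer_iff]
      intro h hh
      have : h = 1 := by simpa using hh
      subst this
      simp
    set L : Subgroup G := Subgroup.zpowers g ⊔ Q with hL
    have hpQ : p ∣ Nat.card Q := by
      obtain ⟨k, hk⟩ := IsPGroup.iff_card.mp hQ
      rw [hk]
      apply dvd_pow_self
      rintro rfl
      rw [pow_zero] at hk
      exact hQb (Subgroup.card_eq_one.mp hk)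
    have hpL : p ∣ Nat.card L := hpQ.trans (Subgroup.card_dvd_of_le le_sup_right)
    by_cases hLtop : L = ⊤
    · exfalso
      have hQn : Q.Normal := by
        rw [← Subgroup.normalizer_eq_top_iff, eq_top_iff, ← hLtop]
        apply sup_le
        · rw [Subgroup.zpowers_le]; exact hgN
        · exact Subgroup.le_normalizer
      have hcomm : _root_.commutator G ≤ Q := by
        apply Subgroup.Normal.commutator_le_of_self_sup_commutative_eq_top (H := Subgroup.zpowers g)
        · rw [sup_comm]; exact hLtop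
        · infer_instance
      have hdisj : Q ⊓ M₀ = ⊥ := by
        apply (Subgroup.disjoint_of_coprime_natCard _).eq_bot  -- placeholder
        obtain ⟨k, hk⟩ := IsPGroup.iff_card.mp hQ
        rw [hk]
        exact Nat.Coprime.pow_left k ((Nat.Prime.coprime_iff_not_dvd hp).mpr hpM₀)
      apply hM₀n
      apply isNilpotent_of_comm
      refine ⟨⟨fun a b => ?_⟩⟩
      have h1 : ⁅(a : G), (b : G)⁆ ∈ Q ⊓ M₀ := by
        refine Subgroup.mem_inf.mpr ⟨hcomm (Subgroup.commutator_mem_commutator (Subgroup.mem_top _)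
          (Subgroup.mem_top _)), ?_⟩
        rw [commutatorElement_def]
        exact M₀.mul_mem (M₀.mul_mem (M₀.mul_mem a.2 b.2) (M₀.inv_mem a.2)) (M₀.inv_mem b.2)
      rw [hdisj, Subgroup.mem_bot, commutatorElement_eq_one_iff_mul_comm] at h1
      exact Subtype.ext h1
    · have hLn := L3 L hLtop hpL
      rw [Subgroup.mem_centralizer_iff]
      intro u hu
      have hgL : g ∈ L := le_sup_left (a := Subgroup.zpowers g) (Subgroup.mem_zpowers g)
      have huL : u ∈ L := le_sup_right (a := Subgroup.zpowers g) hu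
      have hcop' : (orderOf g).Coprime (orderOf u) := by
        obtain ⟨k, hk⟩ := hQ ⟨u, hu⟩
        have hk' : u ^ (p ^ k) = 1 := by
          have := congrArg Subtype.val hk
          simpa using this
        have : orderOf u ∣ p ^ k := orderOf_dvd_of_pow_eq_one hk'
        exact Nat.Coprime.coprime_dvd_right this (Nat.Coprime.pow_right k hcop)
      exact (commute_of_mem_nilpotent hLn hgL huL hcop').symm
  obtain ⟨P, K₀, hK₀n, hcompl⟩ := Cfsg.Agent.Lib.Helper41.hasNormalPComplement_of_frobCond hfrob
  haveI := hK₀n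
  have hK₀N : Subgroup.normalizer (K₀ : Set G) = ⊤ := Subgroup.normalizer_eq_top_iff.mpr hK₀n
  have hcard : Nat.card K₀ * Nat.card P = Nat.card G := hcompl.card_mul_card
  have hpK₀ : ¬ p ∣ Nat.card K₀ := by
    rw [← hcompl.index_eq_card]
    exact P.not_dvd_index
  have hK₀top : K₀ ≠ ⊤ := by
    intro h
    apply hpK₀
    rw [h, Subgroup.card_top]
    exact hpG
  have hmemK₀ : ∀ m : G, (orderOf m).Coprime p → m ∈ K₀ := fun m hm =>
    Cfsg.Agent.Lib.Helper41.mem_of_coprime_of_isComplement' P hcompl hm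
  have hM₀K₀ : M₀ ≤ K₀ := by
    intro m hm
    apply hmemK₀
    have h1 : orderOf m ∣ Nat.card M₀ := by
      have := orderOf_dvd_natCard (⟨m, hm⟩ : M₀)
      rwa [Subgroup.orderOf_mk] at this
    exact Nat.Coprime.coprime_dvd_left h1 ((Nat.Prime.coprime_iff_not_dvd hp).mpr hpM₀).symm
  have hK₀M₀ : K₀ = M₀ := (hM₀.le_iff.mp hM₀K₀).resolve_left hK₀top
  have hK₀coatom : IsCoatom K₀ := hK₀M₀ ▸ hM₀
  have hK₀nn : ¬ Group.IsNilpotent K₀ := hK₀M₀ ▸ hM₀n
  -- |P| = p
  obtain ⟨x, hx⟩ := exists_prime_orderOf_dvd_card' p hpG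
  have hxK₀ : x ∉ K₀ := by
    intro hxm
    apply hpK₀
    have := orderOf_dvd_natCard (⟨x, hxm⟩ : K₀)
    rwa [Subgroup.orderOf_mk, hx] at this
  have hsup : Subgroup.zpowers x ⊔ K₀ = ⊤ := by
    have hle : K₀ ≤ Subgroup.zpowers x ⊔ K₀ := le_sup_right
    rcases hK₀coatom.le_iff.mp hle with h | h
    · exact h
    · exfalso
      apply hxK₀
      rw [← h]
      exact le_sup_left (a := Subgroup.zpowers x) (Subgroup.mem_zpowers x)
  have hPcard : Nat.card P = p := by
    have h1 : Nat.card (K₀ ⊔ Subgroup.zpowers x : Subgroup G) ∣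
        Nat.card K₀ * Nat.card (Subgroup.zpowers x) :=
      Cfsg.Agent.Lib.Helper29.card_sup_dvd_of_le_normalizer K₀ (Subgroup.zpowers x)
        (by rw [hK₀N]; exact le_top)
    rw [sup_comm, hsup, Subgroup.card_top, ← hcard, Nat.card_zpowers, hx] at h1
    have h2 : Nat.card P ∣ p := Nat.dvd_of_mul_dvd_mul_left Nat.card_pos h1
    rcases (Nat.dvd_prime hp).mp h2 with h | h
    · exfalso
      apply hpK₀
      rw [h, mul_one] at hcard
      rw [hcard]
      exact hpG
    · exact h
  have hPcomm : ∀ a ∈ (P : Subgroup G), ∀ b ∈ (P : Subgroup G), a * b = b * a := by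
    haveI : IsCyclic (P : Subgroup G) := isCyclic_of_prime_card hPcard
    letI := IsCyclic.commGroup (α := (P : Subgroup G))
    intro a ha b hb
    have := mul_comm (⟨a, ha⟩ : (P : Subgroup G)) ⟨b, hb⟩
    exact congrArg Subtype.val this
  have hpP : p ∣ Nat.card (P : Subgroup G) := by rw [hPcard]
  have hPcent : Subgroup.centralizer ((P : Subgroup G) : Set G) = ⊤ := by
    apply Cfsg.Agent.Lib.Helper14.eq_top_of_forall_sylow_le
    intro q hq
    by_cases hqp : q = p
    · subst hqp
      refine ⟨P, fun a ha => ?_⟩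
      rw [Subgroup.mem_centralizer_iff]
      intro b hb
      exact hPcomm b hb a ha
    · haveI := hq
      have hSK : ∀ S : Sylow q G, (S : Subgroup G) ≤ K₀ := by
        intro S s hs
        apply hmemK₀
        obtain ⟨k, hk⟩ := S.2 ⟨s, hs⟩
        have hk' : s ^ (q ^ k) = 1 := by
          have := congrArg Subtype.val hk
          simpa using this
        have : orderOf s ∣ q ^ k := orderOf_dvd_of_pow_eq_one hk'
        exact Nat.Coprime.coprime_dvd_left this
          (Nat.Coprime.pow_left k ((Nat.coprime_primes hq.out hp).mpr hqp))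
      obtain ⟨S, hS⟩ : ∃ S : Sylow q G,
          (P : Subgroup G) ≤ Subgroup.normalizer ((S : Subgroup G) : Set G) := by
        have hnd : ¬ p ∣ Nat.card (Sylow q G) := by
          obtain ⟨S⟩ : Nonempty (Sylow q G) := inferInstance
          have hidx : Nat.card (Sylow q G) =
              (Subgroup.normalizer ((S : Subgroup G) : Set G)).index :=
            Sylow.card_eq_index_normalizer S
          rw [hidx]
          have h1 : Subgroup.normalizer ((S : Subgroup G) : Set G) ⊔ K₀ = ⊤ :=
            Sylow.normalizer_sup_eq_top' S (hSK S)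
          have h2 : Nat.card (K₀ ⊔ Subgroup.normalizer ((S : Subgroup G) : Set G) : Subgroup G) ∣
              Nat.card K₀ * Nat.card (Subgroup.normalizer ((S : Subgroup G) : Set G)) :=
            Cfsg.Agent.Lib.Helper29.card_sup_dvd_of_le_normalizer K₀ _
              (by rw [hK₀N]; exact le_top)
          rw [sup_comm, h1, Subgroup.card_top,
            ← Subgroup.index_mul_card (Subgroup.normalizer ((S : Subgroup G) : Set G))] at h2
          have h3 : (Subgroup.normalizer ((S : Subgroup G) : Set G)).index ∣ Nat.card K₀ :=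
            Nat.dvd_of_mul_dvd_mul_right Nat.card_pos h2
          exact fun h => hpK₀ (h.trans h3)
        obtain ⟨S, hS⟩ := IsPGroup.nonempty_fixed_point_of_prime_not_dvd_card P.2 (Sylow q G) hnd
        refine ⟨S, fun a ha => ?_⟩
        have := hS ⟨a, ha⟩
        exact Sylow.smul_eq_iff_mem_normalizer.mp this
      refine ⟨S, ?_⟩
      have hne : (P : Subgroup G) ⊔ S ≠ ⊤ := by
        intro htop
        have h1 := Cfsg.Agent.Lib.Helper29.card_sup_dvd_of_le_normalizer (S : Subgroup G)
          (P : Subgroup G) hS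
        rw [sup_comm, htop, Subgroup.card_top, ← hcard] at h1
        have h2 : Nat.card K₀ ∣ Nat.card (S : Subgroup G) :=
          Nat.dvd_of_mul_dvd_mul_right Nat.card_pos h1
        have h3 : (S : Subgroup G) = K₀ :=
          Subgroup.eq_of_le_of_card_ge (hSK S) (Nat.le_of_dvd Nat.card_pos h2)
        apply hK₀nn
        rw [← h3]
        exact S.2.isNilpotent
      have hnil := L3 _ hne (hpP.trans
        (Subgroup.card_dvd_of_le le_sup_left))
      exact Cfsg.Agent.Lib.Helper14.le_centralizer_of_nilpotent_of_pgroups (q := p) (r := q)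
        (Ne.symm hqp) hnil le_sup_left le_sup_right P.2 S.2
  have hPc : ∀ z ∈ (P : Subgroup G), ∀ g : G, g * z = z * g := by
    intro z hz g
    have : g ∈ Subgroup.centralizer ((P : Subgroup G) : Set G) := hPcent ▸ Subgroup.mem_top g
    exact ((Subgroup.mem_centralizer_iff.mp this) z hz).symm
  have hPn : (P : Subgroup G).Normal := by
    refine ⟨fun n hn g => ?_⟩
    rw [hPc n hn g, mul_inv_cancel_right]
    exact hn
  refine ⟨P, K₀, hPn, hK₀n, ?_, ?_, hPcard, ⟨hK₀nn, ?_⟩, hpK₀⟩
  · rw [inf_comm]; exact hcompl.disjoint.eq_bot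
  · rw [sup_comm]; exact hcompl.sup_eq_top
  · intro H' hH'
    set L : Subgroup G := H'.map K₀.subtype with hL
    have hLK : L ≤ K₀ := by
      rintro _ ⟨y, _, rfl⟩
      exact y.2
    have hne : (P : Subgroup G) ⊔ L ≠ ⊤ := by
      intro htop
      have h1 := Cfsg.Agent.Lib.Helper29.card_sup_dvd_of_le_normalizer (P : Subgroup G) L
        (by rw [Subgroup.normalizer_eq_top_iff.mpr hPn]; exact le_top)
      rw [htop, Subgroup.card_top, ← hcard, mul_comm (Nat.card K₀)] at h1
      have h2 : Nat.card K₀ ∣ Nat.card L := Nat.dvd_of_mul_dvd_mul_left Nat.card_pos h1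
      have h3 : L = K₀ := Subgroup.eq_of_le_of_card_ge hLK (Nat.le_of_dvd Nat.card_pos h2)
      apply hH'
      apply Subgroup.map_injective K₀.subtype_injective
      rw [← hL, h3, ← MonoidHom.range_eq_map, Subgroup.range_subtype]
    have hnil := L3 _ hne (hpP.trans
        (Subgroup.card_dvd_of_le le_sup_left))
    haveI := isNilpotent_of_le hnil (le_sup_right : L ≤ (P : Subgroup G) ⊔ L)
    exact Group.nilpotent_of_mulEquiv
      (Subgroup.equivMapOfInjective H' K₀.subtype K₀.subtype_injective).symm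

theorem backward [Finite G] (p : ℕ) (hp : p.Prime)
    (h : Group.IsNilpotent G ∨ Cfsg.IsMinimalNonNilpotent G ∨
        ∃ Z K : Subgroup G, Z.Normal ∧ K.Normal ∧ Z ⊓ K = ⊥ ∧ Z ⊔ K = ⊤ ∧ Nat.card Z = p ∧
          Cfsg.IsMinimalNonNilpotent K ∧ ¬ p ∣ Nat.card K)
    (M : Subgroup G) (hM : IsCoatom M) (hpM : p ∣ Nat.card M) : Group.IsNilpotent M := by
  classical
  rcases h with h | h | ⟨Z, K, hZn, hKn, hinf, hsup, hZcard, hKmin, hpK⟩
  · haveI := h
    infer_instance
  · exact h.2 M hM.1
  · haveI := hZn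
    haveI := hKn
    haveI : Fact p.Prime := ⟨hp⟩
    have hcardG : Nat.card G = Nat.card Z * Nat.card K := by
      have := Cfsg.Agent.Lib.Helper01.card_sup_mul_card_inf_of_le_normalizer K Z
        (by rw [Subgroup.normalizer_eq_top_iff.mpr hKn]; exact le_top)
      rw [hsup, inf_comm, hinf, Subgroup.card_top, Subgroup.card_bot, mul_one] at this
      rw [this, mul_comm]
    obtain ⟨x, hx⟩ := exists_prime_orderOf_dvd_card' p hpM
    have hxZ : (x : G) ∈ Z := by
      have h1 : orderOf (QuotientGroup.mk' Z (x : G)) ∣ p := by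
        have := orderOf_map_dvd (QuotientGroup.mk' Z) (x : G)
        rwa [Subgroup.orderOf_coe, hx] at this
      have h2 : orderOf (QuotientGroup.mk' Z (x : G)) ∣ Nat.card K := by
        have hidx : Z.index = Nat.card K := by
          have := Z.index_mul_card
          rw [hcardG, mul_comm] at this
          exact Nat.eq_of_mul_eq_mul_left Nat.card_pos this
        rw [← hidx, Subgroup.index_eq_card]
        exact orderOf_dvd_natCard _
      have h3 : orderOf (QuotientGroup.mk' Z (x : G)) = 1 := by
        have := Nat.dvd_gcd h1 h2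
        rwa [Nat.Coprime.gcd_eq_one ((Nat.Prime.coprime_iff_not_dvd hp).mpr hpK),
          Nat.dvd_one] at this
      rw [orderOf_eq_one_iff] at h3
      exact (QuotientGroup.eq_one_iff _).mp h3
    have hZM : Z ≤ M := by
      have hzx : Subgroup.zpowers (x : G) = Z := by
        apply Subgroup.eq_of_le_of_card_ge
        · rw [Subgroup.zpowers_le]; exact hxZ
        · rw [Nat.card_zpowers, Subgroup.orderOf_coe, hx, hZcard]
      rw [← hzx, Subgroup.zpowers_le]
      exact x.2
    have hZcent : ∀ z ∈ Z, ∀ g : G, g * z = z * g := by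
      have hC : Subgroup.centralizer (Z : Set G) = ⊤ := by
        rw [eq_top_iff, ← hsup]
        apply sup_le
        · haveI : IsCyclic Z := isCyclic_of_prime_card hZcard
          letI := IsCyclic.commGroup (α := Z)
          intro a ha
          rw [Subgroup.mem_centralizer_iff]
          intro b hb
          have := mul_comm (⟨b, hb⟩ : Z) ⟨a, ha⟩
          exact congrArg Subtype.val this
        · intro k hk
          rw [Subgroup.mem_centralizer_iff]
          intro z hz
          have h1 : z * k * z⁻¹ * k⁻¹ ∈ Z ⊓ K := by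
            refine Subgroup.mem_inf.mpr ⟨?_, ?_⟩
            · have : z * k * z⁻¹ * k⁻¹ = z * (k * z⁻¹ * k⁻¹) := by group
              rw [this]
              exact Z.mul_mem hz (hZn.conj_mem _ (Z.inv_mem hz) k)
            · exact K.mul_mem (hKn.conj_mem _ hk z) (K.inv_mem hk)
          rw [hinf, Subgroup.mem_bot] at h1
          calc z * k = (z * k * z⁻¹ * k⁻¹) * (k * z) := by group
            _ = k * z := by rw [h1, one_mul]
      intro z hz g
      have : g ∈ Subgroup.centralizer (Z : Set G) := hC ▸ Subgroup.mem_top g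
      exact ((Subgroup.mem_centralizer_iff.mp this) z hz).symm
    have hMK : Group.IsNilpotent (M ⊓ K : Subgroup G) := by
      have hne : (M ⊓ K).subgroupOf K ≠ ⊤ := by
        intro htop
        rw [Subgroup.subgroupOf_eq_top] at htop
        apply hM.1
        rw [eq_top_iff, ← hsup]
        exact sup_le hZM (htop.trans inf_le_left)
      haveI := hKmin.2 _ hne
      exact Group.nilpotent_of_mulEquiv (Subgroup.subgroupOfEquivOfLe (inf_le_right : M ⊓ K ≤ K))
    haveI := hMK
    haveI : Group.IsNilpotent Z :=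
      (IsPGroup.of_card (n := 1) (by rw [hZcard, pow_one])).isNilpotent
    let f : Z × (M ⊓ K : Subgroup G) →* M :=
      MonoidHom.noncommCoprod (Subgroup.inclusion hZM)
        (Subgroup.inclusion (inf_le_left : M ⊓ K ≤ M)) (by
        intro z k
        apply Subtype.ext
        exact (hZcent z z.2 k).symm)
    apply Group.nilpotent_of_surjective f
    intro m
    have hm : (m : G) ∈ ((Z ⊔ K : Subgroup G) : Set G) := by
      rw [hsup]
      exact Set.mem_univ _
    rw [Subgroup.mul_normal] at hm
    obtain ⟨z, hz, k, hk, hzk⟩ := Set.mem_mul.mp hm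
    have hkM : k ∈ M := by
      have : k = z⁻¹ * (m : G) := by rw [← hzk]; group
      rw [this]
      exact M.mul_mem (M.inv_mem (hZM hz)) m.2
    refine ⟨(⟨z, hz⟩, ⟨k, Subgroup.mem_inf.mpr ⟨hkM, hk⟩⟩), ?_⟩
    apply Subtype.ext
    simp only [f]
    exact hzk

end aux

/-- Let G be a finite group and p a prime dividing its order. Every maximal subgroup of G of order divisible by p is nilpotent if and only if G is nilpotent, or G is a minimal non-nilpotent group, or G is the internal direct product of a normal subgroup of order p and a normal minimal non-nilpotent subgroup of order prime to p. -/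
theorem result {G : Type*} [Group G] [Finite G] (p : ℕ) (hp : p.Prime) (hpG : p ∣ Nat.card G) :
    (∀ M : Subgroup G, IsCoatom M → p ∣ Nat.card M → Group.IsNilpotent M) ↔
      (Group.IsNilpotent G ∨ Cfsg.IsMinimalNonNilpotent G ∨
        ∃ Z K : Subgroup G, Z.Normal ∧ K.Normal ∧ Z ⊓ K = ⊥ ∧ Z ⊔ K = ⊤ ∧ Nat.card Z = p ∧
          Cfsg.IsMinimalNonNilpotent K ∧ ¬ p ∣ Nat.card K) := by
  constructor
  · intro H
    by_cases hG : Group.IsNilpotent G
    · exact Or.inl hG
    by_cases hmin : Cfsg.IsMinimalNonNilpotent G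
    · exact Or.inr (Or.inl hmin)
    exact Or.inr (Or.inr (forward p hp hpG H hmin hG))
  · intro h M hM hpM
    exact backward p hp h M hM hpM

end Cfsg.Agent.S4242
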