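import Cfsg.Statements.S4244

set_option autoImplicit false
open Cfsg

namespace Cfsg.Agent.S4244

theorem card_mul_relIndex' {G : Type*} [Group G] (H L : Subgroup G) (h : H ≤ L) :
    Nat.card H * H.relIndex L = Nat.card L := by
  have := Subgroup.relIndex_mul_relIndex ⊥ H L bot_le h
  rwa [Subgroup.relIndex_bot_left, Subgroup.relIndex_bot_left] at this

theorem lemmaA {M : Type*} [Group M] [Finite M] (N K : Subgroup M) [N.Normal] :
    K.relIndex N ∣ K.index := by
  have h1 : K.relIndex (K ⊔ N) * (K ⊔ N).index = K.index :=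
    Subgroup.relIndex_mul_index le_sup_left
  have h2 : N.relIndex (K ⊔ N) = N.relIndex K := Subgroup.relIndex_sup_right K N
  have e1 := card_mul_relIndex' (N ⊓ K) N inf_le_left
  have e2 := card_mul_relIndex' (N ⊓ K) K inf_le_right
  have e3 := card_mul_relIndex' N (K ⊔ N) le_sup_right
  have e4 := card_mul_relIndex' K (K ⊔ N) le_sup_left
  rw [Subgroup.inf_relIndex_left] at e1
  rw [Subgroup.inf_relIndex_right] at e2
  rw [h2] at e3
  have hpos1 : 0 < Nat.card (N ⊓ K : Subgroup M) := Nat.card_pos
  have hpos2 : 0 < N.relIndex K := by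
    have : 0 < Nat.card K := Nat.card_pos
    rw [← e2] at this
    exact Nat.pos_of_mul_pos_left this
  have key : K.relIndex N = K.relIndex (K ⊔ N) := by
    have : Nat.card (N ⊓ K : Subgroup M) * N.relIndex K * K.relIndex N
        = Nat.card (N ⊓ K : Subgroup M) * N.relIndex K * K.relIndex (K ⊔ N) := by
      calc Nat.card (N ⊓ K : Subgroup M) * N.relIndex K * K.relIndex N
          = (Nat.card (N ⊓ K : Subgroup M) * K.relIndex N) * N.relIndex K := by ring
        _ = Nat.card (K ⊔ N : Subgroup M) := by rw [e1, e3]
        _ = Nat.card (N ⊓ K : Subgroup M) * N.relIndex K * K.relIndex (K ⊔ N) := by rw [e2, e4]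
    exact Nat.eq_of_mul_eq_mul_left (Nat.mul_pos hpos1 hpos2) this
  rw [key, ← h1]
  exact dvd_mul_right _ _

/-- Let H be a subnormal subgroup of a finite group G. Then for every subgroup K of G the index of H ∩ K in H divides the index of K in G. -/
theorem result {G : Type*} [Group G] [Finite G] (H : Subgroup G) (hH : H.IsSubnormal) (K : Subgroup G) :
    (H ⊓ K).relIndex H ∣ K.index := by
  induction hH with
  | top => simp
  | step H M hle hM hN ih =>
    rw [Subgroup.inf_relIndex_left]
    rw [Subgroup.inf_relIndex_left] at ih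
    refine dvd_trans ?_ ih
    rw [← Subgroup.relIndex_subgroupOf hle]
    have : (K.subgroupOf M).index = K.relIndex M := rfl
    rw [← this]
    exact lemmaA (H.subgroupOf M) (K.subgroupOf M)

end Cfsg.Agent.S4244
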