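import Cfsg.Statements.S4255
import Cfsg.Agent.Lib.Helper75.TwoTypes3
import Cfsg.Agent.Lib.Helper75.FrobQuot

set_option autoImplicit false
open Cfsg

namespace Cfsg.Agent.S4255

open Cfsg.Agent.Lib.Helper75.ClassProd Cfsg.Agent.Lib.Helper75.TwoTypes

theorem core {G : Type*} [Group G] [Finite G] {S : Set ℕ} (D : Setup G S) :
    ∃ H : Subgroup (G ⧸ Subgroup.center G), Cfsg.IsFrobeniusComplement H ∧ IsMulCommutative H ∧
      ∀ x ∈ Cfsg.frobeniusKernel H, ∀ y ∈ Cfsg.frobeniusKernel H, x * y = y * x :=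
  Cfsg.Agent.Lib.Helper75.FrobQuot.exists_frob_quot D.Y S D.center_le_Y ⟨D.a0, D.a0_not_mem_Y⟩
    ⟨D.b1, D.b1_mem_Y, D.b1_not_mem_center⟩ (fun _ hy _ hy' => D.Y_comm hy hy') D.comm_mem_Y
    (fun _ hx _ hy hz => D.mem_center_of_comm_mod hx hy hz)
    (fun _ hg _ hp hgp => D.not_mem_of_pow_mem_Y hg hp hgp)
    (fun _ hy hyZ _ hp hyp => D.mem_of_pow_mem_center hy hyZ hp hyp)

/-- Let G be a finite group. Call a prime a vertex if it divides some conjugacy class size of G, and two distinct vertices adjacent if their product divides some class size. Suppose this graph is disconnected: the vertices split into two nonempty parts with no vertex of one part adjacent to a vertex of the other. Then G/Z(G) is a Frobenius group with abelian Frobenius complement and with a Frobenius kernel all of whose elements commute. -/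
theorem result {G : Type*} [Group G] [Finite G] (S : Set ℕ) (hS : ∃ p ∈ S, (p.Prime ∧ ∃ g : G, p ∣ (Subgroup.centralizer ({g} : Set G)).index)) (hS' : ∃ q ∉ S, (q.Prime ∧ ∃ g : G, q ∣ (Subgroup.centralizer ({g} : Set G)).index))
    (hdisc : ∀ p q : ℕ, (p.Prime ∧ ∃ g : G, p ∣ (Subgroup.centralizer ({g} : Set G)).index) → (q.Prime ∧ ∃ g : G, q ∣ (Subgroup.centralizer ({g} : Set G)).index) → p ∈ S → q ∉ S → ¬ (∃ g : G, p * q ∣ (Subgroup.centralizer ({g} : Set G)).index)) :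
    ∃ H : Subgroup (G ⧸ Subgroup.center G), Cfsg.IsFrobeniusComplement H ∧ IsMulCommutative H ∧
      ∀ x ∈ Cfsg.frobeniusKernel H, ∀ y ∈ Cfsg.frobeniusKernel H, x * y = y * x := by
  classical
  have h0 : ∀ g : G, SNum S (idx g) ∨ SNum Sᶜ (idx g) := by
    intro g
    by_contra hcon
    rw [not_or] at hcon
    obtain ⟨h1, h2⟩ := hcon
    unfold Cfsg.Agent.Lib.Helper75.TwoTypes.SNum at h1 h2
    rw [not_forall] at h1 h2
    obtain ⟨q, hq'⟩ := h1
    obtain ⟨p, hp'⟩ := h2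
    rw [Classical.not_imp] at hq' hp'
    obtain ⟨hq, hq''⟩ := hq'
    obtain ⟨hp, hp''⟩ := hp'
    rw [Classical.not_imp] at hq'' hp''
    obtain ⟨hqd, hqS⟩ := hq''
    obtain ⟨hpd, hpS⟩ := hp''
    have hpS' : p ∈ S := by
      by_contra h
      exact hpS h
    have hpq : p ≠ q := by
      rintro rfl
      exact hqS hpS'
    exact hdisc p q ⟨hp, g, hpd⟩ ⟨hq, g, hqd⟩ hpS' hqS
      ⟨g, Nat.Coprime.mul_dvd_of_dvd_of_dvd ((Nat.coprime_primes hp hq).2 hpq) hpd hqd⟩
  obtain ⟨a0, ha0⟩ := Finite.exists_max (fun g : G => idx g)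
  obtain ⟨p, hpS, hp, gp, hgp⟩ := hS
  obtain ⟨q, hqS, hq, gq, hgq⟩ := hS'
  have hgp1 : idx gp ≠ 1 := by
    intro h
    have h' : p ∣ 1 := h ▸ hgp
    exact hp.ne_one (Nat.dvd_one.1 h')
  have hgq1 : idx gq ≠ 1 := by
    intro h
    have h' : q ∣ 1 := h ▸ hgq
    exact hq.ne_one (Nat.dvd_one.1 h')
  have hgpS : SNum S (idx gp) := (h0 gp).resolve_right (fun h => h p hp hgp hpS)
  have hgqS : SNum Sᶜ (idx gq) := (h0 gq).resolve_left (fun h => hqS (h q hq hgq))
  have ha01 : idx a0 ≠ 1 := by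
    have h1 : idx gp ≤ idx a0 := ha0 gp
    have h2 := idx_pos gp
    omega
  rcases h0 a0 with h | h
  · exact core ⟨h0, a0, h, ha01, ha0, gq, hgqS, hgq1⟩
  · have h0' : ∀ g : G, SNum Sᶜ (idx g) ∨ SNum Sᶜᶜ (idx g) := fun g => by
      rw [compl_compl]
      exact (h0 g).symm
    exact core (S := Sᶜ) ⟨h0', a0, h, ha01, ha0, gp, by rw [compl_compl]; exact hgpS, hgp1⟩

end Cfsg.Agent.S4255
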