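import Cfsg.Statements.S4257
import Cfsg.Agent.Lib.Helper32.ClassGraphC

set_option autoImplicit false
open Cfsg

namespace Cfsg.Agent.S4257

/-- Let G be a finite group. Call a prime a vertex if it divides some conjugacy class size of G, and two distinct vertices adjacent if their product divides some class size. If this graph is connected, then its diameter is at most 3: any two distinct vertices p and q are adjacent, or joined through one or two intermediate vertices. -/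
theorem result {G : Type*} [Group G] [Finite G]
    (hconn : ∀ S : Set ℕ, (∃ p ∈ S, (p.Prime ∧ ∃ g : G, p ∣ (Subgroup.centralizer ({g} : Set G)).index)) → (∃ q ∉ S, (q.Prime ∧ ∃ g : G, q ∣ (Subgroup.centralizer ({g} : Set G)).index)) →
      ∃ p q : ℕ, (p.Prime ∧ ∃ g : G, p ∣ (Subgroup.centralizer ({g} : Set G)).index) ∧ (q.Prime ∧ ∃ g : G, q ∣ (Subgroup.centralizer ({g} : Set G)).index) ∧ p ∈ S ∧ q ∉ S ∧ (∃ g : G, p * q ∣ (Subgroup.centralizer ({g} : Set G)).index))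
    (p q : ℕ) (hp : (p.Prime ∧ ∃ g : G, p ∣ (Subgroup.centralizer ({g} : Set G)).index)) (hq : (q.Prime ∧ ∃ g : G, q ∣ (Subgroup.centralizer ({g} : Set G)).index)) (hpq : p ≠ q) :
    (∃ g : G, p * q ∣ (Subgroup.centralizer ({g} : Set G)).index) ∨ (∃ r : ℕ, (r.Prime ∧ ∃ g : G, r ∣ (Subgroup.centralizer ({g} : Set G)).index) ∧ r ≠ p ∧ r ≠ q ∧ (∃ g : G, p * r ∣ (Subgroup.centralizer ({g} : Set G)).index) ∧ (∃ g : G, r * q ∣ (Subgroup.centralizer ({g} : Set G)).index)) ∨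
      (∃ r s : ℕ, (r.Prime ∧ ∃ g : G, r ∣ (Subgroup.centralizer ({g} : Set G)).index) ∧ (s.Prime ∧ ∃ g : G, s ∣ (Subgroup.centralizer ({g} : Set G)).index) ∧ r ≠ p ∧ s ≠ q ∧ r ≠ s ∧ r ≠ q ∧ s ≠ p ∧
        (∃ g : G, p * r ∣ (Subgroup.centralizer ({g} : Set G)).index) ∧ (∃ g : G, r * s ∣ (Subgroup.centralizer ({g} : Set G)).index) ∧ (∃ g : G, s * q ∣ (Subgroup.centralizer ({g} : Set G)).index)) := by
  classical
  by_contra hcon
  rw [not_or, not_or] at hcon
  obtain ⟨h1, h2, h3⟩ := hcon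
  -- abbreviations
  have vtx_of_adjL : ∀ a b : ℕ, (∃ g : G, a * b ∣ (Subgroup.centralizer ({g} : Set G)).index) →
      ∃ g : G, a ∣ (Subgroup.centralizer ({g} : Set G)).index := by
    rintro a b ⟨g, hg⟩
    exact ⟨g, dvd_of_mul_right_dvd hg⟩
  have vtx_of_adjR : ∀ a b : ℕ, (∃ g : G, a * b ∣ (Subgroup.centralizer ({g} : Set G)).index) →
      ∃ g : G, b ∣ (Subgroup.centralizer ({g} : Set G)).index := by
    rintro a b ⟨g, hg⟩
    exact ⟨g, dvd_of_mul_left_dvd hg⟩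
  have mul_dvd : ∀ (a b : ℕ) (w : G), a.Prime → b.Prime → a ≠ b →
      a ∣ (Subgroup.centralizer ({w} : Set G)).index →
      b ∣ (Subgroup.centralizer ({w} : Set G)).index →
      a * b ∣ (Subgroup.centralizer ({w} : Set G)).index := by
    intro a b w ha hb hab h1 h2
    exact Nat.Coprime.mul_dvd_of_dvd_of_dvd ((Nat.coprime_primes ha hb).2 hab) h1 h2
  set A : Set ℕ := {t | t = p ∨ (t.Prime ∧ t ≠ p ∧
    ∃ g : G, p * t ∣ (Subgroup.centralizer ({g} : Set G)).index)} with hAdef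
  set E : Set ℕ := {t | t = q ∨ (t.Prime ∧ t ≠ q ∧
    ∃ g : G, t * q ∣ (Subgroup.centralizer ({g} : Set G)).index)} with hEdef
  have hpA : p ∈ A := Or.inl rfl
  have hqE : q ∈ E := Or.inl rfl
  have primeA : ∀ t ∈ A, t.Prime := by
    rintro t (rfl | ⟨ht, -, -⟩)
    · exact hp.1
    · exact ht
  have primeE : ∀ t ∈ E, t.Prime := by
    rintro t (rfl | ⟨ht, -, -⟩)
    · exact hq.1
    · exact ht
  have hAE : ∀ t ∈ A, t ∉ E := by
    rintro t (rfl | ⟨ht, htp, hadj⟩) (hE | ⟨ht', htq, hadj'⟩)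
    · exact hpq hE
    · exact h1 hadj'
    · rw [hE] at hadj; exact h1 hadj
    · exact h2 ⟨t, ⟨ht, vtx_of_adjR _ _ hadj⟩, htp, htq, hadj, hadj'⟩
  have hEA : ∀ t ∈ E, t ∉ A := fun t htE htA => hAE t htA htE
  have hno : ∀ (w : G) (t t' : ℕ), t ∈ A → t' ∈ E →
      t ∣ (Subgroup.centralizer ({w} : Set G)).index →
      t' ∣ (Subgroup.centralizer ({w} : Set G)).index → False := by
    intro w t t' htA ht'E hd hd'
    have hne : t ≠ t' := fun h => hAE t htA (h ▸ ht'E)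
    have hadj : ∃ g : G, t * t' ∣ (Subgroup.centralizer ({g} : Set G)).index :=
      ⟨w, mul_dvd t t' w (primeA t htA) (primeE t' ht'E) hne hd hd'⟩
    have htq : t ≠ q := fun h => hAE t htA (h ▸ hqE)
    have ht'p : t' ≠ p := fun h => hAE t' (h ▸ hpA) ht'E
    rcases htA with rfl | ⟨ht, htp, hadjp⟩
    · rcases ht'E with rfl | ⟨ht', ht'q, hadjq⟩
      · exact h1 hadj
      · exact h2 ⟨t', ⟨ht', vtx_of_adjR _ _ hadj⟩, ht'p, ht'q, hadj, hadjq⟩
    · rcases ht'E with rfl | ⟨ht', ht'q, hadjq⟩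
      · exact h2 ⟨t, ⟨ht, vtx_of_adjL _ _ hadj⟩, htp, htq, hadjp, hadj⟩
      · exact h3 ⟨t, t', ⟨ht, vtx_of_adjL _ _ hadj⟩, ⟨ht', vtx_of_adjR _ _ hadj⟩, htp, ht'q, hne,
          htq, ht'p, hadjp, hadj, hadjq⟩
  have hAcl : ∀ x : G, p ∣ (Subgroup.centralizer ({x} : Set G)).index → ∀ t : ℕ, t.Prime →
      t ∣ (Subgroup.centralizer ({x} : Set G)).index → t ∈ A := by
    intro x hx t ht htx
    by_cases h : t = p
    · exact Or.inl h
    · exact Or.inr ⟨ht, h, x, mul_dvd p t x hp.1 ht (Ne.symm h) hx htx⟩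
  have hEcl : ∀ y : G, q ∣ (Subgroup.centralizer ({y} : Set G)).index → ∀ t : ℕ, t.Prime →
      t ∣ (Subgroup.centralizer ({y} : Set G)).index → t ∈ E := by
    intro y hy t ht hty
    by_cases h : t = q
    · exact Or.inl h
    · exact Or.inr ⟨ht, h, y, mul_dvd t q y ht hq.1 h hty hy⟩
  obtain ⟨xp, hxp⟩ := hp.2
  obtain ⟨xq, hxq⟩ := hq.2
  -- a class of maximal size among those divisible by `p` or `q`
  have : Nonempty {x : G // p ∣ (Subgroup.centralizer ({x} : Set G)).index ∨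
      q ∣ (Subgroup.centralizer ({x} : Set G)).index} := ⟨⟨xp, Or.inl hxp⟩⟩
  obtain ⟨⟨z, hz⟩, hzmax⟩ := Finite.exists_max
    (fun x : {x : G // p ∣ (Subgroup.centralizer ({x} : Set G)).index ∨
      q ∣ (Subgroup.centralizer ({x} : Set G)).index} =>
      (Subgroup.centralizer ({(x : G)} : Set G)).index)
  rcases hz with hz | hz
  · -- the maximal class is divisible by `p`: roles swapped
    have D : Cfsg.Agent.Lib.Helper32.ClassGraph.Cfg G E A q p z xq :=
      { hp0 := hq.1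
        hp4 := hp.1
        hAE := hEA
        hno := fun w t t' ht ht' hd hd' => hno w t' t ht' ht hd' hd
        hA := hEcl
        hE := hAcl
        hd := hz
        hmax := fun x hx => hzmax ⟨x, Or.inr hx⟩
        hx0 := hxq }
    obtain ⟨t, t', ht, ht', htE, ht'E, g, hg⟩ := hconn E ⟨q, hqE, hq⟩ ⟨p, fun hpE => hAE p hpA hpE, hp⟩
    exact D.false g t t' htE (dvd_of_mul_right_dvd hg) ht'.1 ht'E (dvd_of_mul_left_dvd hg)
  · have D : Cfsg.Agent.Lib.Helper32.ClassGraph.Cfg G A E p q z xp :=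
      { hp0 := hp.1
        hp4 := hq.1
        hAE := hAE
        hno := hno
        hA := hAcl
        hE := hEcl
        hd := hz
        hmax := fun x hx => hzmax ⟨x, Or.inl hx⟩
        hx0 := hxp }
    obtain ⟨t, t', ht, ht', htA, ht'A, g, hg⟩ := hconn A ⟨p, hpA, hp⟩ ⟨q, fun hqA => hAE q hqA hqE, hq⟩
    exact D.false g t t' htA (dvd_of_mul_right_dvd hg) ht'.1 ht'A (dvd_of_mul_left_dvd hg)

end Cfsg.Agent.S4257
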