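import Cfsg.Statements.S4260

set_option autoImplicit false
open Cfsg

namespace Cfsg.Agent.S4260

/-- Let H be a Hall subgroup of a finite group G (the order of H is coprime to its index) such that x^[G : H] lies in H for every x in G. Then H is normal in G. -/
theorem result {G : Type*} [Group G] [Finite G] (H : Subgroup G) (hHall : (Nat.card H).Coprime H.index)
    (hexp : ∀ x : G, x ^ H.index ∈ H) : H.Normal := by
  have key : ∀ x : G, x ∈ H ↔ (orderOf x).Coprime H.index := by
    intro x
    constructor
    · intro hx
      have h1 : orderOf x ∣ Nat.card H := Subgroup.orderOf_dvd_natCard H hx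
      exact Nat.Coprime.coprime_dvd_left h1 hHall
    · intro hx
      have h3 : x ∈ Subgroup.zpowers (x ^ H.index) := by
        rw [mem_zpowers_pow_iff]
        exact hx.symm
      have h4 : Subgroup.zpowers (x ^ H.index) ≤ H := by
        rw [Subgroup.zpowers_le]
        exact hexp x
      exact h4 h3
  constructor
  intro n hn g
  rw [key] at hn ⊢
  have : orderOf (g * n * g⁻¹) = orderOf n := by
    have h : SemiconjBy g n (g * n * g⁻¹) := by
      simp [SemiconjBy]
    exact (h.orderOf_eq).symm
  rwa [this]

end Cfsg.Agent.S4260
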