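import Cfsg.Statements.S4261
import Cfsg.Agent.Lib.Helper76.Basic

set_option autoImplicit false
open Cfsg

namespace Cfsg.Agent.S4261

open Cfsg.Agent.Lib.Helper76

/-- A nontrivial finite solvable group has a nontrivial normal abelian subgroup of prime exponent. -/
theorem exists_normal_abelian {Q : Type*} [Group Q] [Finite Q] [Nontrivial Q]
    (hsolv : Group.IsSolvable Q) :
    ∃ (p : ℕ) (A : Subgroup Q), p.Prime ∧ A.Normal ∧ A ≠ ⊥ ∧ (∀ a ∈ A, ∀ b ∈ A, a * b = b * a) ∧
      ∀ a ∈ A, a ^ p = 1 := by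
  classical
  obtain ⟨k, hk⟩ := hsolv.solvable
  have hex : ∃ k, derivedSeries Q k = ⊥ := ⟨k, hk⟩
  set k0 := Nat.find hex with hk0
  have hk0bot : derivedSeries Q k0 = ⊥ := Nat.find_spec hex
  have hk0pos : k0 ≠ 0 := by
    intro h0
    rw [h0, derivedSeries_zero] at hk0bot
    exact top_ne_bot hk0bot
  obtain ⟨j, hj⟩ := Nat.exists_eq_succ_of_ne_zero hk0pos
  have hjne : derivedSeries Q j ≠ ⊥ := by
    have : j < k0 := by omega
    exact Nat.find_min hex this
  set A0 := derivedSeries Q j with hA0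
  have hA0n : A0.Normal := derivedSeries_normal Q j
  have hcomm0 : ∀ a ∈ A0, ∀ b ∈ A0, a * b = b * a := by
    have h1 : ⁅A0, A0⁆ = ⊥ := by
      have := derivedSeries_succ Q j
      have hj' : k0 = j + 1 := hj
      rw [← hj', hk0bot] at this
      exact this.symm
    rw [Subgroup.commutator_eq_bot_iff_le_centralizer] at h1
    intro a ha b hb
    exact (h1 hb a ha)
  -- a prime dividing the order
  have hcard : Nat.card A0 ≠ 1 := by
    intro h1
    exact hjne (Subgroup.card_eq_one.mp h1)
  obtain ⟨p, hp, hpd⟩ := Nat.exists_prime_and_dvd hcard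
  have hpf : Fact p.Prime := ⟨hp⟩
  obtain ⟨a0, ha0⟩ := exists_prime_orderOf_dvd_card' (G := A0) p hpd
  let A : Subgroup Q :=
    { carrier := {a | a ∈ A0 ∧ a ^ p = 1}
      mul_mem' := by
        rintro a b ⟨ha, hap⟩ ⟨hb, hbp⟩
        refine ⟨A0.mul_mem ha hb, ?_⟩
        rw [(show Commute a b from hcomm0 a ha b hb).mul_pow, hap, hbp, one_mul]
      one_mem' := ⟨A0.one_mem, one_pow p⟩
      inv_mem' := by
        rintro a ⟨ha, hap⟩
        exact ⟨A0.inv_mem ha, by rw [inv_pow, hap, inv_one]⟩ }
  refine ⟨p, A, hp, ?_, ?_, ?_, ?_⟩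
  · constructor
    rintro a ⟨ha, hap⟩ g
    refine ⟨hA0n.conj_mem a ha g, ?_⟩
    rw [conj_pow, hap, mul_one, mul_inv_cancel]
  · intro hbot
    have hmem : (a0 : Q) ∈ A := by
      refine ⟨a0.2, ?_⟩
      have : a0 ^ p = 1 := by rw [← ha0]; exact pow_orderOf_eq_one a0
      have := congrArg Subtype.val this
      simpa using this
    rw [hbot, Subgroup.mem_bot] at hmem
    have h1 : a0 = 1 := Subtype.ext hmem
    rw [h1, orderOf_one] at ha0
    exact hp.one_lt.ne' ha0.symm
  · rintro a ⟨ha, _⟩ b ⟨hb, _⟩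
    exact hcomm0 a ha b hb
  · rintro a ⟨_, hap⟩
    exact hap

/-- The core-free case. -/
theorem corefree_case {Q : Type*} [Group Q] [Finite Q] (hsolv : Group.IsSolvable Q)
    (M : Subgroup Q) (hM : IsCoatom M) (hcore : M.normalCore = ⊥)
    (hexp : ∀ x : Q, x ^ M.index ∈ M) : M.Normal := by
  have hnt : Nontrivial Q := by
    by_contra hnt
    rw [not_nontrivial_iff_subsingleton] at hnt
    exact hM.1 (Subsingleton.elim _ _)
  obtain ⟨p, A, hp, hAn, hAne, hAcomm, hAexp⟩ := exists_normal_abelian hsolv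
  have hpf : Fact p.Prime := ⟨hp⟩
  set n := M.index with hn
  -- step 2
  have hAM : ¬ A ≤ M := by
    intro hle
    have : A ≤ M.normalCore := Subgroup.normal_le_normalCore.mpr hle
    rw [hcore] at this
    exact hAne (le_bot_iff.mp this)
  have hsup : M ⊔ A = ⊤ := hM.2 _ (left_lt_sup.mpr hAM)
  -- step 3
  have hinf : M ⊓ A = ⊥ := by
    have hnorm : (M ⊓ A).Normal := by
      apply normal_of_sup_eq_top hsup
      · intro m hm w hw
        exact ⟨M.mul_mem (M.mul_mem hm hw.1) (M.inv_mem hm), hAn.conj_mem w hw.2 m⟩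
      · intro a ha w hw
        have : a * w * a⁻¹ = w := by rw [hAcomm a ha w hw.2, mul_inv_cancel_right]
        rwa [this]
    have : M ⊓ A ≤ M.normalCore := Subgroup.normal_le_normalCore.mpr inf_le_left
    rw [hcore] at this
    exact le_bot_iff.mp this
  -- step 4
  have h4 : ∀ a ∈ A, ∀ m ∈ M, (a * m) ^ n = m ^ n := by
    intro a ha m hm
    have h1 : (a * m) ^ n * (m ^ n)⁻¹ ∈ M := M.mul_mem (hexp _) (M.inv_mem (M.pow_mem hm n))
    have h2 : (a * m) ^ n * (m ^ n)⁻¹ ∈ A := by
      rw [← QuotientGroup.eq_one_iff]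
      have ha1 : ((a : Q) : Q ⧸ A) = 1 := (QuotientGroup.eq_one_iff a).mpr ha
      simp [ha1]
    have h3 : (a * m) ^ n * (m ^ n)⁻¹ ∈ M ⊓ A := ⟨h1, h2⟩
    rw [hinf, Subgroup.mem_bot] at h3
    exact mul_inv_eq_one.mp h3
  -- step 5
  have h5 : ∀ a ∈ A, ∀ m ∈ M, m ^ n * a = a * m ^ n := by
    intro a ha m hm
    have e1 : (a * m) ^ (n + 1) = m ^ n * (a * m) := by rw [pow_succ, h4 a ha m hm]
    have e2 : (a * m) ^ (n + 1) = (a * m) * m ^ n := by rw [pow_succ', h4 a ha m hm]
    have e3 : m ^ n * (a * m) = (a * m) * m ^ n := e1.symm.trans e2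
    have e4 : m * m ^ n = m ^ n * m := (pow_succ' m n).symm.trans (pow_succ m n)
    have e5 : m ^ n * a * m = a * m ^ n * m := by
      rw [mul_assoc, e3, mul_assoc, e4, mul_assoc]
    exact mul_right_cancel e5
  -- step 6
  have h6 : ∀ m ∈ M, m ^ n = 1 := by
    intro m hm
    have hnorm : (M ⊓ Subgroup.centralizer (A : Set Q)).Normal := by
      apply normal_of_sup_eq_top hsup
      · intro m' hm' w hw
        have hcn : (Subgroup.centralizer (A : Set Q)).Normal := Subgroup.normal_centralizer
        exact ⟨M.mul_mem (M.mul_mem hm' hw.1) (M.inv_mem hm'), hcn.conj_mem w hw.2 m'⟩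
      · intro a ha w hw
        have hwa : a * w = w * a := (Subgroup.mem_centralizer_iff.mp hw.2 a ha)
        have : a * w * a⁻¹ = w := by rw [hwa, mul_inv_cancel_right]
        rwa [this]
    have hle : M ⊓ Subgroup.centralizer (A : Set Q) ≤ M.normalCore :=
      Subgroup.normal_le_normalCore.mpr inf_le_left
    rw [hcore] at hle
    have hmem : m ^ n ∈ M ⊓ Subgroup.centralizer (A : Set Q) := by
      refine ⟨M.pow_mem hm n, ?_⟩
      change m ^ n ∈ Subgroup.centralizer (A : Set Q)
      rw [Subgroup.mem_centralizer_iff]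
      intro a ha
      exact (h5 a ha m hm).symm
    exact (Subgroup.mem_bot.mp (hle hmem))
  -- step 7
  have hnA : n = Nat.card A := index_eq_card_of_sup_eq_top_of_inf_eq_bot M A hsup hinf
  have hApg : IsPGroup p A := by
    intro a
    refine ⟨1, ?_⟩
    rw [pow_one]
    exact Subtype.ext (by simpa using hAexp a a.2)
  obtain ⟨k, hk⟩ := (IsPGroup.iff_card).mp hApg
  have hMpg : IsPGroup p M := by
    intro m
    refine ⟨k, ?_⟩
    rw [← hk, ← hnA]
    exact Subtype.ext (by simpa using h6 m m.2)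
  obtain ⟨j, hj⟩ := (IsPGroup.iff_card).mp hMpg
  have hQpg : IsPGroup p Q := by
    apply IsPGroup.of_card (n := j + k)
    rw [← Subgroup.card_mul_index M, hj, ← hn, hnA, hk, pow_add]
  have hnil : Group.IsNilpotent Q := hQpg.isNilpotent
  have h02 : Group.IsNilpotent Q ↔ ∀ H : Subgroup Q, IsCoatom H → H.Normal :=
    Group.isNilpotent_of_finite_tfae.out 0 2
  exact h02.mp hnil M hM

theorem reduce {G : Type*} [Group G] [Finite G] (hG : Group.IsSolvable G) (N : Subgroup G)
    [N.Normal] (M : Subgroup G) (hNM : N ≤ M) (hcoreN : M.normalCore ≤ N) (hM : IsCoatom M)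
    (hexp : ∀ x : G, x ^ M.index ∈ M) : M.Normal := by
  set π := QuotientGroup.mk' N with hπdef
  have hπ : Function.Surjective π := QuotientGroup.mk'_surjective N
  set M' := M.map π with hM'def
  have hker : π.ker ≤ M := by rw [QuotientGroup.ker_mk']; exact hNM
  have hcomap : M'.comap π = M := Subgroup.comap_map_eq_self hker
  have hidx : M'.index = M.index := Subgroup.index_map_eq _ hπ hker
  have hM' : IsCoatom M' := by
    constructor
    · intro htop
      apply hM.1
      rw [← hcomap, htop, Subgroup.comap_top]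
    · intro K hK
      have h1 : M ≤ K.comap π := by rw [← hcomap]; exact Subgroup.comap_mono hK.le
      have h2 : M ≠ K.comap π := by
        intro h
        have : M' = K := by
          rw [hM'def, h, Subgroup.map_comap_eq_self_of_surjective hπ]
        exact hK.ne this
      have h3 : K.comap π = ⊤ := hM.2 _ (lt_of_le_of_ne h1 h2)
      rw [← Subgroup.map_comap_eq_self_of_surjective hπ K, h3, ← MonoidHom.range_eq_map,
        MonoidHom.range_eq_top.mpr hπ]
  have hcore' : M'.normalCore = ⊥ := by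
    have hn : ((M'.normalCore).comap π).Normal := inferInstance
    have h1 : (M'.normalCore).comap π ≤ N := by
      refine le_trans ?_ hcoreN
      apply Subgroup.normal_le_normalCore.mpr
      calc (M'.normalCore).comap π ≤ M'.comap π := Subgroup.comap_mono (Subgroup.normalCore_le _)
        _ = M := hcomap
    rw [← Subgroup.map_comap_eq_self_of_surjective hπ M'.normalCore, eq_bot_iff]
    calc ((M'.normalCore).comap π).map π ≤ N.map π := Subgroup.map_mono h1
      _ = ⊥ := by rw [hπdef, QuotientGroup.map_mk'_self]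
  have hexp' : ∀ y : G ⧸ N, y ^ M'.index ∈ M' := by
    intro y
    obtain ⟨x, rfl⟩ := hπ y
    rw [hidx]
    exact ⟨x ^ M.index, hexp x, map_pow π x _⟩
  have hsolv' : Group.IsSolvable (G ⧸ N) := Group.isSolvable_of_surjective hπ
  have := corefree_case hsolv' M' hM' hcore' hexp'
  rw [← hcomap]
  exact this.comap π

/-- Let M be a maximal subgroup of a finite solvable group G such that x^[G : M] lies in M for every x in G. Then M is normal in G. -/
theorem result {G : Type*} [Group G] [Finite G] (hG : Group.IsSolvable G) (M : Subgroup G) (hM : IsCoatom M)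
    (hexp : ∀ x : G, x ^ M.index ∈ M) : M.Normal :=
  reduce hG M.normalCore M M.normalCore_le le_rfl hM hexp

end Cfsg.Agent.S4261
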