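import Cfsg.Statements.S4263
import Cfsg.Agent.Lib.Helper76.Fitting

set_option autoImplicit false
open Cfsg

namespace Cfsg.Agent.S4263

open Cfsg.Agent.Lib.Helper76

/-- Let G be a finite group. An element x lies in the Fitting subgroup F(G) if and only if, for every subgroup H of G, the power x^[G : H] lies in H. -/
theorem result {G : Type*} [Group G] [Finite G] (x : G) :
    x ∈ Cfsg.fittingSubgroup G ↔ ∀ H : Subgroup G, x ^ H.index ∈ H := by
  have hFn : (Cfsg.fittingSubgroup G).Normal := fittingSubgroup_normal
  constructor
  · intro hx H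
    exact pow_index_mem_of_mem_normal_nilpotent fittingSubgroup_isNilpotent hx H
  · intro h
    -- the order of the image of x in G / F(G) is 1
    rw [← QuotientGroup.eq_one_iff, ← orderOf_eq_one_iff, Nat.eq_one_iff_not_exists_prime_dvd]
    intro p hp hdvd
    have hpf : Fact p.Prime := ⟨hp⟩
    -- x ^ [G : P] lies in every Sylow p-subgroup P
    obtain P : Sylow p G := default
    have hcore : (P : Subgroup G).normalCore ≤ Cfsg.pCore p G :=
      le_pCore (Subgroup.normalCore_normal _) (P.isPGroup'.to_le (Subgroup.normalCore_le _))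
    have hmem : x ^ (P : Subgroup G).index ∈ (P : Subgroup G).normalCore := by
      intro b
      have hQ := h ((P : Subgroup G).map ((MulAut.conj b⁻¹ : G ≃* G) : G →* G))
      rw [Subgroup.index_map_equiv] at hQ
      obtain ⟨y, hy, hyx⟩ := hQ
      have : b * x ^ (P : Subgroup G).index * b⁻¹ = y := by
        rw [← hyx]
        simp [mul_assoc]
      rw [this]
      exact hy
    have h2 : x ^ (P : Subgroup G).index ∈ Cfsg.fittingSubgroup G :=
      pCore_le_fittingSubgroup p (hcore hmem)
    rw [← QuotientGroup.eq_one_iff, QuotientGroup.mk_pow] at h2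
    have h3 := orderOf_dvd_of_pow_eq_one h2
    exact P.not_dvd_index (hdvd.trans h3)

end Cfsg.Agent.S4263
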