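import Cfsg.Statements.S4269

set_option autoImplicit false
open Cfsg
open scoped commutatorElement

namespace Cfsg.Agent.S4269

variable {G : Type*} [Group G]

theorem mem_map_conj_iff (H : Subgroup G) (g x : G) :
    x ∈ H.map (MulAut.conj g).toMonoidHom ↔ g⁻¹ * x * g ∈ H := by
  constructor
  · rintro ⟨y, hy, rfl⟩
    simpa [mul_assoc] using hy
  · intro h
    exact ⟨g⁻¹ * x * g, h, by simp [mul_assoc]⟩

theorem conj_mem_map_conj (H : Subgroup G) (g h : G) (hh : h ∈ H) :
    g * h * g⁻¹ ∈ H.map (MulAut.conj g).toMonoidHom :=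
  ⟨h, hh, by simp⟩

/-- A subgroup normalized by `H` and by `V` is normal when `H ⊔ V = ⊤`. -/
theorem normal_of_sup_eq_top {H V W : Subgroup G} (hHV : H ⊔ V = ⊤)
    (hH : ∀ h ∈ H, ∀ w ∈ W, h * w * h⁻¹ ∈ W) (hV : ∀ v ∈ V, ∀ w ∈ W, v * w * v⁻¹ ∈ W) :
    W.Normal := by
  have key : ∀ g ∈ H ⊔ V, ∀ w ∈ W, g * w * g⁻¹ ∈ W ∧ g⁻¹ * w * g ∈ W := by
    intro g hg
    rw [Subgroup.sup_eq_closure] at hg
    induction hg using Subgroup.closure_induction with
    | mem x hx =>
      intro w hw
      rcases hx with hx | hx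
      · refine ⟨hH x hx w hw, ?_⟩
        have := hH x⁻¹ (H.inv_mem hx) w hw
        rwa [inv_inv] at this
      · refine ⟨hV x hx w hw, ?_⟩
        have := hV x⁻¹ (V.inv_mem hx) w hw
        rwa [inv_inv] at this
    | one => intro w hw; simpa using hw
    | mul x y _ _ ihx ihy =>
      intro w hw
      constructor
      · have h1 := (ihy w hw).1
        have h2 := (ihx _ h1).1
        have : x * y * w * (x * y)⁻¹ = x * (y * w * y⁻¹) * x⁻¹ := by group
        rwa [this]
      · have h1 := (ihx w hw).2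
        have h2 := (ihy _ h1).2
        have : (x * y)⁻¹ * w * (x * y) = y⁻¹ * (x⁻¹ * w * x) * y := by group
        rwa [this]
    | inv x _ ihx =>
      intro w hw
      constructor
      · have := (ihx w hw).2
        rwa [inv_inv]
      · have := (ihx w hw).1
        rwa [inv_inv]
  refine ⟨fun w hw g => (key g ?_ w hw).1⟩
  rw [hHV]; exact Subgroup.mem_top g

theorem map_conj_mul (H : Subgroup G) (a b : G) :
    H.map (MulAut.conj (a * b)).toMonoidHom =
      (H.map (MulAut.conj b).toMonoidHom).map (MulAut.conj a).toMonoidHom := by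
  ext x
  rw [mem_map_conj_iff, mem_map_conj_iff, mem_map_conj_iff]
  have : (a * b)⁻¹ * x * (a * b) = b⁻¹ * (a⁻¹ * x * a) * b := by group
  rw [this]

theorem map_conj_eq_self_of_forall {H U : Subgroup G}
    (hU : ∀ h ∈ H, ∀ u ∈ U, h * u * h⁻¹ ∈ U) :
    ∀ h ∈ H, U.map (MulAut.conj h).toMonoidHom = U := by
  intro h hh
  ext y
  rw [mem_map_conj_iff]
  constructor
  · intro hy
    have := hU h hh _ hy
    have e : h * (h⁻¹ * y * h) * h⁻¹ = y := by group
    rwa [e] at this
  · intro hy
    have := hU h⁻¹ (H.inv_mem hh) y hy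
    rwa [inv_inv] at this

theorem map_conj_eq_self_of_mem (H : Subgroup G) {h : G} (hh : h ∈ H) :
    H.map (MulAut.conj h).toMonoidHom = H :=
  map_conj_eq_self_of_forall (H := H) (U := H)
    (fun _ ha _ hu => H.mul_mem (H.mul_mem ha hu) (H.inv_mem ha)) h hh

theorem map_conj_eq_self_of_mem_normalizer (H : Subgroup G) {n : G}
    (hn : n ∈ Subgroup.normalizer (H : Set G)) :
    H.map (MulAut.conj n).toMonoidHom = H := by
  ext y
  rw [mem_map_conj_iff]
  rw [Subgroup.mem_normalizer_iff''] at hn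
  exact (hn y).symm

/-- Facts about `⁅H, U⁆` for an `H`-invariant subgroup `U` of the abelian normal subgroup `V`. -/
theorem commutator_facts {H V U : Subgroup G} (hHV : H ⊔ V = ⊤)
    (hcomm : ∀ a ∈ V, ∀ b ∈ V, a * b = b * a) (hUV : U ≤ V)
    (hU : ∀ h ∈ H, U.map (MulAut.conj h).toMonoidHom = U) :
    ⁅H, U⁆ ≤ U ∧ (⁅H, U⁆).Normal := by
  have hUc : ∀ h ∈ H, ∀ u ∈ U, h * u * h⁻¹ ∈ U := by
    intro h hh u hu
    have := conj_mem_map_conj U h u hu
    rwa [hU h hh] at this
  have hle : ⁅H, U⁆ ≤ U := by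
    rw [Subgroup.commutator_le]
    intro h hh u hu
    rw [commutatorElement_def]
    exact U.mul_mem (hUc h hh u hu) (U.inv_mem hu)
  refine ⟨hle, ?_⟩
  apply normal_of_sup_eq_top hHV
  · intro h hh w hw
    have h1 : (⁅H, U⁆).map (MulAut.conj h).toMonoidHom = ⁅H, U⁆ := by
      rw [Subgroup.map_commutator, hU h hh, map_conj_eq_self_of_mem H hh]
    have := conj_mem_map_conj ⁅H, U⁆ h w hw
    rwa [h1] at this
  · intro v hv w hw
    have hwV : w ∈ V := hUV (hle hw)
    have : v * w * v⁻¹ = w := by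
      rw [hcomm v hv w hwV, mul_inv_cancel_right]
    rwa [this]

/-- Let G be a finite group, V an abelian normal subgroup and H a subgroup with HV = G. Then H is pronormal in G (H and gHg⁻¹ are conjugate inside the subgroup they generate, for every g) if and only if every H-invariant subgroup U of V satisfies U = N_U(H)·[H, U], that is, U is the join of U ∩ N_G(H) and the commutator subgroup [H, U]. -/
theorem result {G : Type*} [Group G] [Finite G]
    (V : Subgroup G) [V.Normal] (hV : IsMulCommutative ↥V) (H : Subgroup G) (hHV : H ⊔ V = ⊤) :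
    Cfsg.IsPronormal H ↔
      ∀ U : Subgroup G, U ≤ V → (∀ h ∈ H, U.map (MulAut.conj h).toMonoidHom = U) →
        U = (U ⊓ Subgroup.normalizer (H : Set G)) ⊔ ⁅H, U⁆ := by
  have hVn : V.Normal := inferInstance
  have hcomm : ∀ a ∈ V, ∀ b ∈ V, a * b = b * a := by
    intro a ha b hb
    have := hV.is_comm.comm (⟨a, ha⟩ : V) ⟨b, hb⟩
    exact congrArg Subtype.val this
  constructor
  · intro hpro U hUV hU
    obtain ⟨hWU, hWn⟩ := commutator_facts hHV hcomm hUV hU
    apply le_antisymm
    · intro u hu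
      obtain ⟨x, hx, hconj⟩ := hpro u
      have hJ : H ⊔ H.map (MulAut.conj u).toMonoidHom ≤ ⁅H, U⁆ ⊔ H := by
        apply sup_le le_sup_right
        intro y hy
        rw [mem_map_conj_iff] at hy
        have e : y = (⁅u⁻¹ * y * u, u⁆)⁻¹ * (u⁻¹ * y * u) := by
          rw [commutatorElement_def]; group
        rw [e]
        apply Subgroup.mul_mem
        · apply Subgroup.mem_sup_left
          exact Subgroup.inv_mem _ (Subgroup.commutator_mem_commutator hy hu)
        · exact Subgroup.mem_sup_right hy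
      have hx' := hJ hx
      rw [Subgroup.mem_sup_of_normal_left] at hx'
      obtain ⟨w, hw, h, hh, rfl⟩ := hx'
      rw [map_conj_mul, map_conj_eq_self_of_mem H hh] at hconj
      have hn : w⁻¹ * u ∈ Subgroup.normalizer (H : Set G) := by
        rw [Subgroup.mem_normalizer_iff]
        intro y
        have h1 : y ∈ H ↔ u * y * u⁻¹ ∈ H.map (MulAut.conj u).toMonoidHom := by
          rw [mem_map_conj_iff]
          have : u⁻¹ * (u * y * u⁻¹) * u = y := by group
          rw [this]
        rw [h1, hconj, mem_map_conj_iff]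
        have : w⁻¹ * (u * y * u⁻¹) * w = w⁻¹ * u * y * (w⁻¹ * u)⁻¹ := by group
        rw [this]
      have hwU : w⁻¹ * u ∈ U := U.mul_mem (U.inv_mem (hWU hw)) hu
      have e : u = w * (w⁻¹ * u) := by group
      rw [e]
      exact Subgroup.mul_mem _ (Subgroup.mem_sup_right hw) (Subgroup.mem_sup_left ⟨hwU, hn⟩)
    · exact sup_le inf_le_left hWU
  · intro h2 g
    have hg : g ∈ V ⊔ H := by rw [sup_comm, hHV]; exact Subgroup.mem_top g
    rw [Subgroup.mem_sup_of_normal_left] at hg
    obtain ⟨v, hv, h, hh, rfl⟩ := hg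
    rw [map_conj_mul, map_conj_eq_self_of_mem H hh]
    set S : Set G := {y | ∃ a ∈ H, y = a * v * a⁻¹} with hS
    set U : Subgroup G := Subgroup.closure S with hUdef
    have hUV : U ≤ V := by
      rw [hUdef, Subgroup.closure_le]
      rintro y ⟨a, _, rfl⟩
      exact hVn.conj_mem v hv a
    have hUc : ∀ a ∈ H, ∀ u ∈ U, a * u * a⁻¹ ∈ U := by
      intro a ha u hu
      induction hu using Subgroup.closure_induction with
      | mem x hx =>
        obtain ⟨b, hb, rfl⟩ := hx
        apply Subgroup.subset_closure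
        exact ⟨a * b, H.mul_mem ha hb, by group⟩
      | one => simp
      | mul x y _ _ ihx ihy =>
        have : a * (x * y) * a⁻¹ = (a * x * a⁻¹) * (a * y * a⁻¹) := by group
        rw [this]; exact U.mul_mem ihx ihy
      | inv x _ ihx =>
        have : a * x⁻¹ * a⁻¹ = (a * x * a⁻¹)⁻¹ := by group
        rw [this]; exact U.inv_mem ihx
    have hU := map_conj_eq_self_of_forall hUc
    have hvU : v ∈ U := Subgroup.subset_closure ⟨1, H.one_mem, by simp⟩
    obtain ⟨hWU, hWn⟩ := commutator_facts hHV hcomm hUV hU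
    have hv2 := h2 U hUV hU
    rw [hv2] at hvU
    rw [Subgroup.mem_sup_of_normal_right] at hvU
    obtain ⟨n, hn, w, hw, hnw⟩ := hvU
    have hnV : n ∈ V := hUV hn.1
    have hwV : w ∈ V := hUV (hWU hw)
    have hvw : v = w * n := by rw [← hnw]; exact hcomm n hnV w hwV
    -- W ≤ J
    set J := H ⊔ H.map (MulAut.conj v).toMonoidHom with hJ
    have hHJ : H ≤ J := le_sup_left
    have hWJ : ⁅H, U⁆ ≤ J := by
      rw [Subgroup.commutator_le]
      intro a ha u hu
      have key : u ∈ V ∧ ∀ a ∈ H, ⁅a, u⁆ ∈ J := by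
        induction hu using Subgroup.closure_induction with
        | mem x hx =>
          obtain ⟨b, hb, rfl⟩ := hx
          refine ⟨hVn.conj_mem v hv b, ?_⟩
          intro c hc
          have e : ⁅c, b * v * b⁻¹⁆ = b * ((b⁻¹ * c * b) * (v * (b⁻¹ * c * b)⁻¹ * v⁻¹)) * b⁻¹ := by
            rw [commutatorElement_def]; group
          rw [e]
          have hc' : b⁻¹ * c * b ∈ H := H.mul_mem (H.mul_mem (H.inv_mem hb) hc) hb
          apply J.mul_mem (J.mul_mem (hHJ hb) _) (J.inv_mem (hHJ hb))
          apply J.mul_mem (hHJ hc')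
          apply Subgroup.mem_sup_right
          exact conj_mem_map_conj H v _ (H.inv_mem hc')
        | one =>
          refine ⟨V.one_mem, ?_⟩
          intro c _
          simp
        | mul x y _ _ ihx ihy =>
          refine ⟨V.mul_mem ihx.1 ihy.1, ?_⟩
          intro c hc
          have hcx : c * x * c⁻¹ ∈ V := hVn.conj_mem x ihx.1 c
          have hcy : c * y * c⁻¹ ∈ V := hVn.conj_mem y ihy.1 c
          have e : ⁅c, x * y⁆ = ⁅c, x⁆ * ⁅c, y⁆ := by
            rw [commutatorElement_def, commutatorElement_def, commutatorElement_def]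
            have e1 : c * (x * y) * c⁻¹ * (x * y)⁻¹ = (c * x * c⁻¹) * ((c * y * c⁻¹) * y⁻¹ * x⁻¹) := by
              group
            have e2 : (c * y * c⁻¹) * y⁻¹ * x⁻¹ = x⁻¹ * ((c * y * c⁻¹) * y⁻¹) :=
              hcomm _ (V.mul_mem hcy (V.inv_mem ihy.1)) _ (V.inv_mem ihx.1)
            rw [e1, e2]; group
          rw [e]
          exact J.mul_mem (ihx.2 c hc) (ihy.2 c hc)
        | inv x _ ihx =>
          refine ⟨V.inv_mem ihx.1, ?_⟩
          intro c hc
          have hcx : c * x⁻¹ * c⁻¹ ∈ V := hVn.conj_mem _ (V.inv_mem ihx.1) c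
          have e : ⁅c, x⁻¹⁆ = (⁅c, x⁆)⁻¹ := by
            rw [commutatorElement_def, commutatorElement_def]
            have e1 : (c * x * c⁻¹ * x⁻¹)⁻¹ = x * (c * x⁻¹ * c⁻¹) := by group
            rw [e1, hcomm x ihx.1 _ hcx, inv_inv]
          rw [e]
          exact J.inv_mem (ihx.2 c hc)
      exact key.2 a ha
    refine ⟨w, hWJ hw, ?_⟩
    rw [hvw, map_conj_mul, map_conj_eq_self_of_mem_normalizer H hn.2]

end Cfsg.Agent.S4269
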