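import Cfsg.Statements.S4270
import Cfsg.Agent.Lib.Helper76.PronormalSylow

set_option autoImplicit false
open Cfsg
open Cfsg.Agent.Lib.Helper76

namespace Cfsg.Agent.S4270

/-- Let p be a prime and G a finite group with a normal subgroup A such that, both in A and in G/A, every subgroup containing a Sylow p-subgroup of that group is pronormal in that group. Let T be a Sylow p-subgroup of A. Then every subgroup of G containing a Sylow p-subgroup of G is pronormal in G if and only if (i) every subgroup of N_G(T)/T containing a Sylow p-subgroup of N_G(T)/T is pronormal there, and (ii) for every subgroup H of G containing a Sylow p-subgroup of G, the image of N_G(H) in G/A is the full normalizer of the image of H. (Pronormal: H and gHg⁻¹ are conjugate inside the subgroup they generate, for every g.) -/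
theorem result {G : Type*} [Group G] [Finite G] {p : ℕ} [Fact p.Prime]
    (A : Subgroup G) [A.Normal] (hA : (∀ K : Subgroup ↥A, (∃ P : Sylow p ↥A, (P : Subgroup ↥A) ≤ K) → Cfsg.IsPronormal K)) (hQ : (∀ K : Subgroup (G ⧸ A), (∃ P : Sylow p (G ⧸ A), (P : Subgroup (G ⧸ A)) ≤ K) → Cfsg.IsPronormal K))
    (T : Subgroup G) (hT : ∃ P : Sylow p ↥A, (P : Subgroup ↥A).map A.subtype = T) [(T.subgroupOf (Subgroup.normalizer (T : Set G))).Normal] :
    (∀ K : Subgroup G, (∃ P : Sylow p G, (P : Subgroup G) ≤ K) → Cfsg.IsPronormal K) ↔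
      ((∀ K : Subgroup (↥(Subgroup.normalizer (T : Set G)) ⧸ T.subgroupOf (Subgroup.normalizer (T : Set G))), (∃ P : Sylow p (↥(Subgroup.normalizer (T : Set G)) ⧸ T.subgroupOf (Subgroup.normalizer (T : Set G))), (P : Subgroup (↥(Subgroup.normalizer (T : Set G)) ⧸ T.subgroupOf (Subgroup.normalizer (T : Set G)))) ≤ K) → Cfsg.IsPronormal K) ∧
        ∀ K : Subgroup G, (∃ P : Sylow p G, (P : Subgroup G) ≤ K) →
          (Subgroup.normalizer (K : Set G)).map (QuotientGroup.mk' A) = Subgroup.normalizer ((K.map (QuotientGroup.mk' A) : Subgroup (G ⧸ A)) : Set (G ⧸ A))) := by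
  classical
  obtain ⟨PA, hPA⟩ := hT
  have hTp : IsPGroup p T := by
    rw [← hPA]; exact PA.isPGroup'.map _
  constructor
  · intro hG
    refine ⟨quotient_normalizer_pronormal A PA hPA hG, ?_⟩
    intro K hK
    exact map_normalizer_eq_of_isPronormal A (hG K hK)
  · rintro ⟨hN, hii⟩ H hH
    apply isPronormal_of_key hTp H hH
    intro H0 S0 hS0 hTS0 g
    -- pronormality of the image in the quotient
    let Sbar : Sylow p (G ⧸ A) := S0.mapSurjective (QuotientGroup.mk'_surjective A)
    have hSbar : (Sbar : Subgroup (G ⧸ A)) ≤ H0.map (QuotientGroup.mk' A) := by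
      rw [Sylow.coe_mapSurjective]
      exact Subgroup.map_mono hS0
    have h1 : PronAt (H0.map (QuotientGroup.mk' A)) (QuotientGroup.mk' A g) :=
      hQ _ ⟨Sbar, hSbar⟩ (QuotientGroup.mk' A g)
    obtain ⟨x, hx, hxe⟩ := pronAt_lift (QuotientGroup.mk' A) h1
    apply pronAt_of_left hx
    have h2 : QuotientGroup.mk' A (x⁻¹ * g) ∈
        Subgroup.normalizer ((H0.map (QuotientGroup.mk' A) : Subgroup (G ⧸ A)) : Set (G ⧸ A)) := by
      rw [← cj_eq_self_iff, ← map_cj, cj_mul, map_cj, hxe, ← map_cj, cj_inv_cj]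
    rw [← hii H0 ⟨S0, hS0⟩] at h2
    obtain ⟨n, hn, hne⟩ := h2
    have ha : (x⁻¹ * g) * n⁻¹ ∈ A := by
      rw [← QuotientGroup.ker_mk' A, MonoidHom.mem_ker, map_mul (QuotientGroup.mk' A) (x⁻¹ * g),
        map_inv, hne, mul_inv_cancel]
    have h3 := pronAt_mul_right hn
      (pronAt_of_mem_normal A hA PA hPA hN H0 S0 hS0 hTS0 ((x⁻¹ * g) * n⁻¹) ha)
    rwa [inv_mul_cancel_right] at h3

end Cfsg.Agent.S4270
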