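import Cfsg.Statements.S4271
import Cfsg.Agent.Lib.Helper76.PronormalSylow

set_option autoImplicit false
open Cfsg
open Cfsg.Agent.Lib.Helper76

namespace Cfsg.Agent.S4271

/-- Let p be a prime and G a finite group with a normal subgroup A such that every subgroup of A containing a Sylow p-subgroup of A is pronormal in A, and the Sylow p-subgroups of G/A are self-normalizing. Let T be a Sylow p-subgroup of A. Then every subgroup of G containing a Sylow p-subgroup of G is pronormal in G if and only if every subgroup of N_G(T)/T containing a Sylow p-subgroup of N_G(T)/T is pronormal in N_G(T)/T. (Pronormal: H and gHg⁻¹ are conjugate inside the subgroup they generate, for every g.) -/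
theorem result {G : Type*} [Group G] [Finite G] {p : ℕ} [Fact p.Prime]
    (A : Subgroup G) [A.Normal] (hA : (∀ K : Subgroup ↥A, (∃ P : Sylow p ↥A, (P : Subgroup ↥A) ≤ K) → Cfsg.IsPronormal K))
    (hQ : ∀ P : Sylow p (G ⧸ A), Subgroup.normalizer ((P : Subgroup (G ⧸ A)) : Set (G ⧸ A)) = P)
    (T : Subgroup G) (hT : ∃ P : Sylow p ↥A, (P : Subgroup ↥A).map A.subtype = T) [(T.subgroupOf (Subgroup.normalizer (T : Set G))).Normal] :
    (∀ K : Subgroup G, (∃ P : Sylow p G, (P : Subgroup G) ≤ K) → Cfsg.IsPronormal K) ↔ (∀ K : Subgroup (↥(Subgroup.normalizer (T : Set G)) ⧸ T.subgroupOf (Subgroup.normalizer (T : Set G))), (∃ P : Sylow p (↥(Subgroup.normalizer (T : Set G)) ⧸ T.subgroupOf (Subgroup.normalizer (T : Set G))), (P : Subgroup (↥(Subgroup.normalizer (T : Set G)) ⧸ T.subgroupOf (Subgroup.normalizer (T : Set G)))) ≤ K) → Cfsg.IsPronormal K) := by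
  classical
  obtain ⟨PA, hPA⟩ := hT
  have hTp : IsPGroup p T := by
    rw [← hPA]; exact PA.isPGroup'.map _
  constructor
  · intro hG
    exact quotient_normalizer_pronormal A PA hPA hG
  · intro hN H hH
    apply isPronormal_of_key hTp H hH
    intro H0 S0 hS0 hTS0 g
    refine pronAt_of_sylow_normalizer H0 S0 hS0 ⊤ ?_ g (Subgroup.mem_top g)
    intro g' _ hg'
    -- the image of g' normalizes the image of S0, hence lies in it
    let Sbar : Sylow p (G ⧸ A) := S0.mapSurjective (QuotientGroup.mk'_surjective A)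
    have h1 : QuotientGroup.mk' A g' ∈ Subgroup.normalizer ((Sbar : Subgroup (G ⧸ A)) : Set (G ⧸ A)) := by
      have h2 : QuotientGroup.mk' A g' ∈
          (Subgroup.normalizer ((S0 : Subgroup G) : Set G)).map (QuotientGroup.mk' A) :=
        Subgroup.mem_map_of_mem _ hg'
      exact Subgroup.le_normalizer_map _ h2
    rw [hQ Sbar] at h1
    obtain ⟨s, hs, hse⟩ := h1
    have ha : g' * s⁻¹ ∈ A := by
      rw [← QuotientGroup.ker_mk' A, MonoidHom.mem_ker, map_mul, map_inv, hse, mul_inv_cancel]
    have hsn : s ∈ Subgroup.normalizer (H0 : Set G) := Subgroup.le_normalizer (hS0 hs)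
    have h3 := pronAt_mul_right hsn
      (pronAt_of_mem_normal A hA PA hPA hN H0 S0 hS0 hTS0 (g' * s⁻¹) ha)
    rwa [inv_mul_cancel_right] at h3

end Cfsg.Agent.S4271
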