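import Cfsg.Statements.S4274
import Cfsg.Agent.Lib.Helper76.J1Main
import Cfsg.Agent.Lib.Helper63.J1K7980
import Cfsg.Agent.Lib.Helper15.J1K15960
import Cfsg.Agent.Lib.Helper82.J1K17556
import Cfsg.Agent.Lib.Helper12.J1K35112
import Cfsg.Agent.Lib.Helper73.J1K58520
import Cfsg.Agent.Lib.Helper81.J1K87780a
import Cfsg.Agent.Lib.Helper44.J1K87780b

set_option autoImplicit false
open Cfsg

namespace Cfsg.Agent.S4274

/-- A finite group of order 175560 = 2³·3·5·7·11·19 is either simple or has a normal Sylow 19-subgroup. -/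
theorem result {G : Type*} [Group G] [Finite G] (hG : Nat.card G = 175560) : IsSimpleGroup G ∨ ∀ P : Sylow 19 G, (P : Subgroup G).Normal := by
  exact Cfsg.Agent.Lib.Helper76.J1.main_of_keystones
    (fun H _ _ _ h1 h2 h3 => Cfsg.Agent.Lib.Helper63.J1.no_simple_7980 h1 h2 h3)
    (fun H _ _ _ h1 h2 h3 => Cfsg.Agent.Lib.Helper15.J1.no_simple_15960 h1 h2 h3)
    (fun H _ _ _ h1 h2 h3 => Cfsg.Agent.Lib.Helper82.J1.no_simple_17556 h1 h2 h3)
    (fun H _ _ _ h1 h2 h3 => Cfsg.Agent.Lib.Helper12.J1.no_simple_35112 h1 h2 h3)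
    (fun H _ _ _ h1 h2 h3 => Cfsg.Agent.Lib.Helper73.J1.no_simple_58520 h1 h2 h3)
    (fun H _ _ _ h1 h2 h3 => Cfsg.Agent.Lib.Helper81.J1.no_simple_87780_a h1 h2 h3)
    (fun H _ _ _ h1 h2 h3 => Cfsg.Agent.Lib.Helper44.J1.no_simple_87780_b h1 h2 h3) hG

end Cfsg.Agent.S4274
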