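import Cfsg.Statements.S4275

set_option autoImplicit false
open Cfsg

namespace Cfsg.Agent.S4275

/-- Let G be a transitive group of permutations of a finite set Ω, let o ∈ Ω, and let α be an automorphism of G. Then α is induced by conjugation by a permutation of Ω normalizing G if and only if the image under α of the stabilizer of o fixes some point of Ω. -/
theorem result {Ω : Type*} [Fintype Ω] (G : Subgroup (Equiv.Perm Ω)) (htr : MulAction.IsPretransitive G Ω) (o : Ω) (α : G ≃* G) : (∃ σ : Equiv.Perm Ω, σ ∈ Subgroup.normalizer (G : Set (Equiv.Perm Ω)) ∧ ∀ g : G, ((α g : G) : Equiv.Perm Ω) = σ * (g : Equiv.Perm Ω) * σ⁻¹) ↔ ∃ ω : Ω, ∀ g ∈ (MulAction.stabilizer G o).map α.toMonoidHom, g • ω = ω := by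
  constructor
  · rintro ⟨σ, _, hσ⟩
    refine ⟨σ o, ?_⟩
    rintro g ⟨g0, hg0, rfl⟩
    have h0 : (g0 : Equiv.Perm Ω) o = o := hg0
    change ((α g0 : G) : Equiv.Perm Ω) (σ o) = σ o
    rw [hσ g0]
    simp [h0]
  · rintro ⟨ω, hω⟩
    -- for each x choose g_x with g_x • o = x
    have hex : ∀ x : Ω, ∃ g : G, g • o = x := fun x => MulAction.exists_smul_eq G o x
    choose c hc using hex
    let σ : Ω → Ω := fun x => (α (c x)) • ω
    have key : ∀ (g : G) (x : Ω), g • o = x → α g • ω = σ x := by
      intro g x hgx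
      have h1 : (c x)⁻¹ * g ∈ MulAction.stabilizer G o := by
        rw [MulAction.mem_stabilizer_iff, mul_smul, hgx]
        nth_rewrite 2 [← hc x]
        rw [inv_smul_smul]
      have h2 : α ((c x)⁻¹ * g) • ω = ω := hω _ ⟨_, h1, rfl⟩
      rw [map_mul, mul_smul, map_inv, inv_smul_eq_iff] at h2
      exact h2
    have hequiv : ∀ (g : G) (x : Ω), σ (g • x) = α g • σ x := by
      intro g x
      have : (g * c x) • o = g • x := by rw [mul_smul, hc x]
      rw [← key _ _ this, map_mul, mul_smul]
    have hsurj : Function.Surjective σ := by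
      intro y
      obtain ⟨k, hk⟩ := MulAction.exists_smul_eq G ω y
      obtain ⟨g, rfl⟩ := α.surjective k
      exact ⟨g • o, by rw [← key g _ rfl, hk]⟩
    have hinj : Function.Injective σ := Finite.injective_iff_surjective.mpr hsurj
    let τ : Equiv.Perm Ω := Equiv.ofBijective σ ⟨hinj, hsurj⟩
    have hτ : ∀ g : G, ((α g : G) : Equiv.Perm Ω) = τ * (g : Equiv.Perm Ω) * τ⁻¹ := by
      intro g
      ext x
      have h1 := hequiv g (τ⁻¹ x)
      have h2 : σ (τ⁻¹ x) = x := by
        change τ (τ⁻¹ x) = x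
        simp
      rw [h2] at h1
      change _ = τ ((g : Equiv.Perm Ω) (τ⁻¹ x))
      exact h1.symm
    refine ⟨τ, ?_, hτ⟩
    rw [Subgroup.mem_normalizer_iff]
    intro k
    constructor
    · intro hk
      have := hτ ⟨k, hk⟩
      rw [← this]
      exact (α ⟨k, hk⟩).2
    · intro hk
      obtain ⟨g, hg⟩ := α.surjective ⟨_, hk⟩
      have h1 := hτ g
      rw [hg] at h1
      have h2 : k = (g : Equiv.Perm Ω) := by
        have : τ * k * τ⁻¹ = τ * (g : Equiv.Perm Ω) * τ⁻¹ := h1
        simpa using this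
      rw [h2]
      exact g.2

end Cfsg.Agent.S4275
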