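import Mathlib
import Cfsg.Statements.S4277
import Cfsg.Agent.S0675
import Cfsg.Agent.S4290
import Cfsg.Agent.Lib.Helper17.OutSolv

set_option autoImplicit false
set_option linter.style.haveILetI false
open Cfsg

namespace Cfsg.Agent.S4277

open MulAction Subgroup Cfsg.Agent.Lib.Helper17

universe u

set_option maxHeartbeats 800000 in
theorem main {G : Type u} [Group G] [Finite G] [IsSimpleGroup G] (H : Subgroup G)
    (hH : H.index.Prime)
    (h4290 : ∀ [Fintype (G ⧸ H)] (G₁ : Subgroup (Equiv.Perm (G ⧸ H))),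
      MulAction.IsMultiplyPretransitive G₁ (G ⧸ H) 2 → ∀ o : G ⧸ H,
      (Nat.card (MulAction.stabilizer G₁ o)).Coprime (MulAction.stabilizer G₁ o).index →
      ∀ α : MulAut G₁, Odd (orderOf α) →
      ∃ σ : Equiv.Perm (G ⧸ H), σ ∈ Subgroup.normalizer (G₁ : Set (Equiv.Perm (G ⧸ H))) ∧
        ∀ g : G₁, ((α g : G₁) : Equiv.Perm (G ⧸ H)) = σ * (g : Equiv.Perm (G ⧸ H)) * σ⁻¹) :
    Group.IsSolvable (Cfsg.Out G) := by
  classical
  have hHtop : H ≠ ⊤ := by
    intro h
    rw [h, Subgroup.index_top] at hH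
    exact Nat.not_prime_one hH
  haveI : H.FiniteIndex := ⟨hH.ne_zero⟩
  obtain ⟨p, hp⟩ : ∃ p, H.index = p := ⟨_, rfl⟩
  rw [hp] at hH
  haveI : Fact p.Prime := ⟨hH⟩
  letI : Fintype (G ⧸ H) := Fintype.ofFinite _
  have hΩ : Fintype.card (G ⧸ H) = p := by
    rw [← Nat.card_eq_fintype_card, ← hp]; rfl
  -- the permutation representation
  let φ : G →* Equiv.Perm (G ⧸ H) := MulAction.toPermHom G (G ⧸ H)
  have hker : φ.ker = ⊥ := by
    rcases IsSimpleGroup.eq_bot_or_eq_top_of_normal φ.ker (MonoidHom.normal_ker φ) with h | h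
    · exact h
    · exfalso
      apply hHtop
      rw [eq_top_iff]
      intro g _
      have hg : g ∈ φ.ker := by rw [h]; trivial
      rw [MonoidHom.mem_ker] at hg
      have h2 : φ g ((1 : G) : G ⧸ H) = ((1 : G) : G ⧸ H) := by rw [hg]; rfl
      have h3 : ((g * 1 : G) : G ⧸ H) = ((1 : G) : G ⧸ H) := h2
      rw [mul_one, QuotientGroup.eq] at h3
      simpa using h3
  have hinj : Function.Injective φ := (MonoidHom.ker_eq_bot_iff φ).mp hker
  by_cases hsolvG : Group.IsSolvable G
  · -- abelian case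
    have hcomm : ∀ a b : G, a * b = b * a := IsSimpleGroup.comm_iff_isSolvable.mpr hsolvG
    letI : CommGroup G := { (inferInstance : Group G) with mul_comm := hcomm }
    haveI : IsCyclic G := IsSimpleGroup.isCyclic
    apply Group.isSolvable_of_comm
    intro a b
    induction a using QuotientGroup.induction_on with
    | H a =>
      induction b using QuotientGroup.induction_on with
      | H b =>
        rw [← QuotientGroup.mk_mul, ← QuotientGroup.mk_mul]
        congr 1
        apply (IsCyclic.mulAutMulEquiv G).injective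
        rw [map_mul, map_mul, mul_comm]
  · -- nonabelian case
    let G₁ : Subgroup (Equiv.Perm (G ⧸ H)) := φ.range
    let e : G ≃* G₁ := MonoidHom.ofInjective hinj
    have he : ∀ g : G, ((e g : G₁) : Equiv.Perm (G ⧸ H)) = φ g := fun g =>
      MonoidHom.ofInjective_apply hinj
    haveI : MulAction.IsPretransitive G₁ (G ⧸ H) := by
      refine ⟨fun x y => ?_⟩
      obtain ⟨g, hg⟩ := MulAction.exists_smul_eq G x y
      exact ⟨⟨φ g, g, rfl⟩, hg⟩
    have hsolv₁ : ¬ Group.IsSolvable G₁ := by
      intro h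
      exact hsolvG (Group.isSolvable_of_isSolvable_injective (f := e.toMonoidHom) e.injective)
    have h2t : MulAction.IsMultiplyPretransitive G₁ (G ⧸ H) 2 := by
      rcases Cfsg.Agent.S0675.result (by rw [hΩ]; exact hH) G₁ with h | h
      · exact absurd h hsolv₁
      · exact h
    let o : G ⧸ H := ((1 : G) : G ⧸ H)
    have hcardG₁ : Nat.card G₁ ∣ p.factorial := by
      have := Subgroup.card_subgroup_dvd_card G₁
      rw [Nat.card_perm, Nat.card_eq_fintype_card (α := G ⧸ H), hΩ] at this
      exact this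
    have hidx : (MulAction.stabilizer G₁ o).index = p := by
      rw [MulAction.index_stabilizer_of_transitive, Nat.card_eq_fintype_card, hΩ]
    have hHall : (Nat.card (MulAction.stabilizer G₁ o)).Coprime (MulAction.stabilizer G₁ o).index := by
      rw [hidx, Nat.coprime_comm, Nat.Prime.coprime_iff_not_dvd hH]
      intro hdvd
      apply not_sq_dvd_factorial hH
      refine dvd_trans ?_ hcardG₁
      rw [← Subgroup.card_mul_index (MulAction.stabilizer G₁ o), hidx, pow_two]
      exact Nat.mul_dvd_mul_right hdvd p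
    -- the normaliser and its action by automorphisms
    let N₁ : Subgroup (Equiv.Perm (G ⧸ H)) := Subgroup.normalizer (G₁ : Set (Equiv.Perm (G ⧸ H)))
    let G₂ : Subgroup N₁ := G₁.subgroupOf N₁
    haveI hG₂n : G₂.Normal := Subgroup.normal_in_normalizer
    let e₂ : G ≃* G₂ := e.trans (Subgroup.subgroupOfEquivOfLe Subgroup.le_normalizer).symm
    have he₂ : ∀ g : G, (((e₂ g : G₂) : N₁) : Equiv.Perm (G ⧸ H)) = φ g := by
      intro g
      have h1 : (Subgroup.subgroupOfEquivOfLe (Subgroup.le_normalizer (H := G₁))) (e₂ g) = e g := by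
        simp [e₂]
      have h2 := congrArg (fun x : G₁ => (x : Equiv.Perm (G ⧸ H))) h1
      simp only [he] at h2
      rw [← h2]
      rfl
    let ψ : N₁ →* MulAut G := (MulAut.congr e₂.symm).toMonoidHom.comp (MulAut.conjNormal (H := G₂))
    have hψ : ∀ (σ : N₁) (g : G), φ ((ψ σ) g) = (σ : Equiv.Perm (G ⧸ H)) * φ g * (σ : Equiv.Perm (G ⧸ H))⁻¹ := by
      intro σ g
      have h1 : (ψ σ) g = e₂.symm ((MulAut.conjNormal σ) (e₂ g)) := rfl
      rw [h1, ← he₂ (e₂.symm _), MulEquiv.apply_symm_apply, MulAut.conjNormal_apply]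
      simp only [Subgroup.coe_mul, Subgroup.coe_inv, he₂]
    let π : MulAut G →* Cfsg.Out G := QuotientGroup.mk' (Cfsg.Inn G)
    let f : N₁ →* Cfsg.Out G := π.comp ψ
    have hfG₂ : ∀ n : N₁, n ∈ G₂ → f n = 1 := by
      intro n hn
      have hn' : (n : Equiv.Perm (G ⧸ H)) ∈ G₁ := hn
      obtain ⟨h, hh⟩ := hn'
      have h1 : ψ n = MulAut.conj h := by
        ext g
        apply hinj
        rw [hψ, MulAut.conj_apply, map_mul, map_mul, map_inv, hh]
      show (QuotientGroup.mk (ψ n) : Cfsg.Out G) = 1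
      rw [QuotientGroup.eq_one_iff, h1]
      exact ⟨h, rfl⟩
    -- Frattini
    have hpG₂ : p ∣ Nat.card G₂ := by
      rw [← Nat.card_congr e₂.toEquiv, ← Subgroup.card_mul_index H, hp]
      exact Nat.dvd_mul_left p (Nat.card H)
    let P₂ : Sylow p G₂ := default
    have hP₂ne : (P₂ : Subgroup G₂) ≠ ⊥ := P₂.ne_bot_of_dvd_card hpG₂
    let P' : Subgroup N₁ := Subgroup.map G₂.subtype P₂
    have hFrat : Subgroup.normalizer (P' : Set N₁) ⊔ G₂ = ⊤ := Sylow.normalizer_sup_eq_top P₂
    let K : Subgroup N₁ := Subgroup.normalizer (P' : Set N₁)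
    let P'' : Subgroup (Equiv.Perm (G ⧸ H)) := Subgroup.map N₁.subtype P'
    have hP''p : IsPGroup p P'' := (P₂.isPGroup'.map G₂.subtype).map N₁.subtype
    have hP''ne : P'' ≠ ⊥ := by
      intro h
      rw [Subgroup.map_eq_bot_iff_of_injective _ N₁.subtype_injective,
        Subgroup.map_eq_bot_iff_of_injective _ G₂.subtype_injective] at h
      exact hP₂ne h
    have hP''card : Nat.card P'' = p := card_eq_of_isPGroup_perm hΩ P'' hP''p hP''ne
    haveI hNsolv : Group.IsSolvable (Subgroup.normalizer (P'' : Set (Equiv.Perm (G ⧸ H)))) :=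
      normalizer_isSolvable_of_card_eq hΩ P'' hP''card
    have hKle : Subgroup.map N₁.subtype K ≤ Subgroup.normalizer (P'' : Set (Equiv.Perm (G ⧸ H))) :=
      Subgroup.le_normalizer_map N₁.subtype
    haveI hKsolv : Group.IsSolvable K := by
      let ι : K →* Subgroup.normalizer (P'' : Set (Equiv.Perm (G ⧸ H))) :=
        (Subgroup.inclusion hKle).comp (N₁.subtype.subgroupMap K)
      have hι : Function.Injective ι := by
        intro a b hab
        have h1 := congrArg (fun x : Subgroup.normalizer (P'' : Set (Equiv.Perm (G ⧸ H))) =>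
          (x : Equiv.Perm (G ⧸ H))) hab
        apply Subtype.ext
        apply Subtype.ext
        exact h1
      exact Group.isSolvable_of_isSolvable_injective hι
    let D₀ : Subgroup (Cfsg.Out G) := Subgroup.map f K
    haveI hD₀ : Group.IsSolvable D₀ :=
      Group.isSolvable_of_surjective (MonoidHom.subgroupMap_surjective f K)
    have hfall : ∀ σ : N₁, f σ ∈ D₀ := by
      intro σ
      have hσ : σ ∈ ((K ⊔ G₂ : Subgroup N₁) : Set N₁) := by
        rw [show K ⊔ G₂ = ⊤ from hFrat]; trivial
      rw [Subgroup.mul_normal, Set.mem_mul] at hσ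
      obtain ⟨k, hk, n, hn, rfl⟩ := hσ
      rw [map_mul, hfG₂ n hn, mul_one]
      exact ⟨k, hk, rfl⟩
    apply solvable_of_odd_in_solvable π (QuotientGroup.mk'_surjective _) D₀
    intro β hβ
    -- β is permutational
    obtain ⟨σ, hσN, hσ⟩ := h4290 G₁ h2t o hHall (MulAut.congr e β)
      (by rw [MulEquiv.orderOf_eq]; exact hβ)
    have hβeq : β = ψ ⟨σ, hσN⟩ := by
      ext g
      apply hinj
      rw [hψ]
      have h1 := hσ (e g)
      rw [he] at h1
      rw [← h1, MulAut.congr_apply]
      simp only [MulEquiv.trans_apply, MulEquiv.symm_apply_apply, he]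
    rw [hβeq]
    exact hfall ⟨σ, hσN⟩

/-- A case of the Schreier conjecture: if a finite simple group G has a subgroup of prime index, then the outer automorphism group of G is solvable. -/
theorem result {G : Type*} [Group G] [Finite G] [IsSimpleGroup G] (H : Subgroup G) (hH : H.index.Prime) : Group.IsSolvable (Cfsg.Out G) :=
  main H hH (fun G₁ h2 o hHall α hα => Cfsg.Agent.S4290.result G₁ h2 o hHall α hα)

end Cfsg.Agent.S4277
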