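import Cfsg.Statements.S4283
import Cfsg.Agent.S0034

set_option autoImplicit false
open Cfsg

namespace Cfsg.Agent.S4283

open scoped Pointwise

variable {Q : Type*} [Group Q]

theorem mem_conj_iff (g x : Q) (M : Subgroup Q) :
    x ∈ MulAut.conj g • M ↔ g⁻¹ * x * g ∈ M :=
  Cfsg.Agent.S0034.mem_conj_smul_iff' g x M

/-- Frobenius property for a conjugate of the complement. -/
theorem frob_conj (M : Subgroup Q) (hM : Cfsg.IsFrobeniusComplement M) (a y c : Q)
    (hy : y ∉ MulAut.conj a • M) (hc1 : c ∈ MulAut.conj a • M)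
    (hc2 : c ∈ MulAut.conj (y * a) • M) : c = 1 := by
  rw [mem_conj_iff] at hy hc1 hc2
  have hg : a⁻¹ * y * a ∉ M := hy
  have h3 := hM.2.2 (a⁻¹ * y * a) hg
  have h4 : a⁻¹ * c * a ∈ M ⊓ MulAut.conj (a⁻¹ * y * a) • M := by
    refine ⟨hc1, ?_⟩
    change a⁻¹ * c * a ∈ MulAut.conj (a⁻¹ * y * a) • M
    rw [mem_conj_iff]
    have e : (a⁻¹ * y * a)⁻¹ * (a⁻¹ * c * a) * (a⁻¹ * y * a) = (y * a)⁻¹ * c * (y * a) := by group
    rw [e]
    exact hc2
  rw [h3, Subgroup.mem_bot] at h4
  have e : c = a * (a⁻¹ * c * a) * a⁻¹ := by group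
  rw [e, h4]
  group

/-- If `c` commutes with a nonidentity element `x` of a conjugate of the complement, then `c` lies
in that conjugate. -/
theorem mem_conj_of_commute (M : Subgroup Q) (hM : Cfsg.IsFrobeniusComplement M) (a x c : Q)
    (hx : x ∈ MulAut.conj a • M) (hx1 : x ≠ 1) (hcx : c * x = x * c) :
    c ∈ MulAut.conj a • M := by
  by_contra hc
  apply hx1
  apply frob_conj M hM a c x hc hx
  rw [mem_conj_iff]
  have e : (c * a)⁻¹ * x * (c * a) = a⁻¹ * (c⁻¹ * (x * c)) * a := by group
  rw [e, ← hcx]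
  have e2 : a⁻¹ * (c⁻¹ * (c * x)) * a = a⁻¹ * x * a := by group
  rw [e2]
  exact (mem_conj_iff a x M).mp hx

/-- If `c` commutes with a nonidentity kernel element, then `c` is in the kernel. -/
theorem mem_kernel_of_commute (M : Subgroup Q) (hM : Cfsg.IsFrobeniusComplement M) (x c : Q)
    (hx : x ∈ Cfsg.frobeniusKernel M) (hx1 : x ≠ 1) (hcx : c * x = x * c) :
    c ∈ Cfsg.frobeniusKernel M := by
  by_contra hc
  have hc' : c ≠ 1 ∧ ∃ a : Q, c ∈ MulAut.conj a • M := by
    constructor
    · intro h1; exact hc (Or.inl h1)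
    · by_contra hcon
      push Not at hcon
      exact hc (Or.inr hcon)
  obtain ⟨hc1, a, hca⟩ := hc'
  have hxa : x ∈ MulAut.conj a • M := mem_conj_of_commute M hM a c x hca hc1 hcx.symm
  rcases hx with h | h
  · exact hx1 h
  · exact h a hxa

/-- Let G be a finite group with centre Z and let K, H be abelian subgroups of G containing Z such that G/Z is a Frobenius group with complement H/Z and kernel K/Z. Then the conjugacy class sizes of G are exactly 1, [G : K] and [G : H], and these two indices are coprime. (This is the converse half of the characterization of finite groups whose conjugacy class sizes are exactly 1, m and n with m and n coprime.) -/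
theorem result {G : Type*} [Group G] [Finite G] (K H : Subgroup G) (hZK : Subgroup.center G ≤ K) (hZH : Subgroup.center G ≤ H) (hK : IsMulCommutative K) (hH : IsMulCommutative H) (hFrob : Cfsg.IsFrobeniusComplement (H.map (QuotientGroup.mk' (Subgroup.center G)))) (hker : Cfsg.frobeniusKernel (H.map (QuotientGroup.mk' (Subgroup.center G))) = (K.map (QuotientGroup.mk' (Subgroup.center G)) : Set (G ⧸ Subgroup.center G))) : Set.range (fun x : G => (Subgroup.centralizer ({x} : Set G)).index) = ({1, K.index, H.index} : Set ℕ) ∧ K.index.Coprime H.index := by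
  set Z := Subgroup.center G with hZ
  set π := QuotientGroup.mk' Z with hπ
  set H' := H.map π with hH'
  set K' := K.map π with hK'
  have hπs : Function.Surjective π := QuotientGroup.mk'_surjective Z
  have hkerπ : π.ker = Z := QuotientGroup.ker_mk' Z
  -- membership transfer
  have memH : ∀ x : G, π x ∈ H' ↔ x ∈ H := by
    intro x
    constructor
    · rintro ⟨h, hh, hhx⟩
      have h1 : h⁻¹ * x ∈ Z := by
        rw [← hkerπ, MonoidHom.mem_ker, map_mul, map_inv, hhx, inv_mul_cancel]
      have h2 : h * (h⁻¹ * x) ∈ H := H.mul_mem hh (hZH h1)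
      rwa [mul_inv_cancel_left] at h2
    · intro hx; exact ⟨x, hx, rfl⟩
  have memK : ∀ x : G, π x ∈ K' ↔ x ∈ K := by
    intro x
    constructor
    · rintro ⟨h, hh, hhx⟩
      have h1 : h⁻¹ * x ∈ Z := by
        rw [← hkerπ, MonoidHom.mem_ker, map_mul, map_inv, hhx, inv_mul_cancel]
      have h2 : h * (h⁻¹ * x) ∈ K := K.mul_mem hh (hZK h1)
      rwa [mul_inv_cancel_left] at h2
    · intro hx; exact ⟨x, hx, rfl⟩
  have memKer : ∀ x : G, π x ∈ Cfsg.frobeniusKernel H' ↔ x ∈ K := by
    intro x
    rw [hker]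
    exact memK x
  have π1 : ∀ x : G, π x = 1 ↔ x ∈ Z := by
    intro x
    exact QuotientGroup.eq_one_iff x
  have hKcomm : ∀ a ∈ K, ∀ b ∈ K, a * b = b * a := fun a ha b hb =>
    congrArg Subtype.val (hK.is_comm.comm (⟨a, ha⟩ : K) ⟨b, hb⟩)
  have hHcomm : ∀ a ∈ H, ∀ b ∈ H, a * b = b * a := fun a ha b hb =>
    congrArg Subtype.val (hH.is_comm.comm (⟨a, ha⟩ : H) ⟨b, hb⟩)
  -- centralizers
  have cent1 : ∀ x ∈ Z, (Subgroup.centralizer ({x} : Set G)).index = 1 := by
    intro x hx
    rw [Subgroup.index_eq_one, eq_top_iff]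
    intro c _
    rw [Subgroup.mem_centralizer_iff]
    intro y hy
    rw [Set.mem_singleton_iff] at hy
    subst hy
    exact (Subgroup.mem_center_iff.mp hx c).symm
  have cent2 : ∀ x ∈ K, x ∉ Z → Subgroup.centralizer ({x} : Set G) = K := by
    intro x hxK hxZ
    apply le_antisymm
    · intro c hc
      rw [Subgroup.mem_centralizer_iff] at hc
      have hcx : x * c = c * x := hc x rfl
      rw [← memKer]
      apply mem_kernel_of_commute H' hFrob (π x) (π c) ((memKer x).mpr hxK)
      · intro h1; exact hxZ ((π1 x).mp h1)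
      · rw [← map_mul, ← map_mul, hcx]
    · intro c hc
      rw [Subgroup.mem_centralizer_iff]
      intro y hy
      rw [Set.mem_singleton_iff] at hy
      subst hy
      exact hKcomm y hxK c hc
  have cent3 : ∀ x : G, x ∉ K → (Subgroup.centralizer ({x} : Set G)).index = H.index := by
    intro x hxK
    have hx' : π x ∉ Cfsg.frobeniusKernel H' := fun h => hxK ((memKer x).mp h)
    have hx1 : π x ≠ 1 := fun h => hx' (Or.inl h)
    have hex : ∃ a : G ⧸ Z, π x ∈ MulAut.conj a • H' := by
      by_contra hcon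
      push Not at hcon
      exact hx' (Or.inr hcon)
    obtain ⟨a, ha⟩ := hex
    obtain ⟨g0, rfl⟩ := hπs a
    have hxH : g0⁻¹ * x * g0 ∈ H := by
      rw [← memH, map_mul, map_mul, map_inv]
      exact (mem_conj_iff _ _ _).mp ha
    have hcent : Subgroup.centralizer ({x} : Set G) = H.map ((MulAut.conj g0 : G ≃* G) : G →* G) := by
      apply le_antisymm
      · intro c hc
        rw [Subgroup.mem_centralizer_iff] at hc
        have hcx : x * c = c * x := hc x rfl
        have h1 : π c ∈ MulAut.conj (π g0) • H' := by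
          apply mem_conj_of_commute H' hFrob (π g0) (π x) (π c) ha hx1
          rw [← map_mul, ← map_mul, hcx]
        rw [mem_conj_iff, ← map_inv, ← map_mul, ← map_mul, memH] at h1
        refine ⟨g0⁻¹ * c * g0, h1, ?_⟩
        simp [mul_assoc]
      · rintro c ⟨h, hh, rfl⟩
        rw [Subgroup.mem_centralizer_iff]
        intro y hy
        rw [Set.mem_singleton_iff] at hy
        subst hy
        have e1 := hHcomm _ hxH h hh
        have e3 : ((MulAut.conj g0 : G ≃* G) : G →* G) h = g0 * h * g0⁻¹ := rfl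
        rw [e3]
        have e4 : y * (g0 * h * g0⁻¹) = g0 * ((g0⁻¹ * y * g0) * h) * g0⁻¹ := by group
        have e5 : (g0 * h * g0⁻¹) * y = g0 * (h * (g0⁻¹ * y * g0)) * g0⁻¹ := by group
        rw [e4, e5, e1]
    rw [hcent, Subgroup.index_map_equiv]
  -- counting
  obtain ⟨hcard, hmod⟩ := Cfsg.Agent.S0034.result H' hFrob
  have hcardK : Nat.card K' = H'.index := by
    rw [← hcard, hker]
    rfl
  have hKidx : K.index = K'.index := by
    rw [hK']
    exact (Subgroup.index_map_eq _ hπs (by rw [hkerπ]; exact hZK)).symm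
  have hHidx : H.index = H'.index := by
    rw [hH']
    exact (Subgroup.index_map_eq _ hπs (by rw [hkerπ]; exact hZH)).symm
  have hK'idx : K'.index = Nat.card H' := by
    have e1 := Subgroup.card_mul_index K'
    have e2 := Subgroup.card_mul_index H'
    rw [hcardK] at e1
    have hpos : 0 < H'.index := Nat.pos_of_ne_zero Subgroup.index_ne_zero_of_finite
    have : H'.index * K'.index = H'.index * Nat.card H' := by rw [e1, ← e2, mul_comm]
    exact Nat.eq_of_mul_eq_mul_left hpos this
  have hcop : K.index.Coprime H.index := by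
    rw [hKidx, hHidx, hK'idx]
    have hc1 : (H'.index % Nat.card H').Coprime (Nat.card H') := by
      rw [hmod, Nat.Coprime, ← Nat.gcd_rec]
      simp
    rw [Nat.Coprime, ← Nat.gcd_rec] at hc1
    exact hc1
  refine ⟨?_, hcop⟩
  ext n
  simp only [Set.mem_range, Set.mem_insert_iff, Set.mem_singleton_iff]
  constructor
  · rintro ⟨x, rfl⟩
    by_cases hxZ : x ∈ Z
    · left; exact cent1 x hxZ
    · by_cases hxK : x ∈ K
      · right; left; rw [cent2 x hxK hxZ]
      · right; right; exact cent3 x hxK
  · rintro (rfl | rfl | rfl)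
    · exact ⟨1, cent1 1 Z.one_mem⟩
    · -- a noncentral element of K
      have hK'ne : K' ≠ ⊥ := by
        intro hb
        have h1 : Nat.card K' = 1 := by rw [hb]; exact Subgroup.card_bot
        rw [hcardK, Subgroup.index_eq_one] at h1
        exact hFrob.2.1 h1
      obtain ⟨⟨k', hk'⟩, hk'0⟩ := Subgroup.ne_bot_iff_exists_ne_one.mp hK'ne
      have hk'1 : k' ≠ 1 := fun h => hk'0 (Subtype.ext h)
      obtain ⟨k, rfl⟩ := hπs k'
      have hkK : k ∈ K := (memK k).mp hk'
      have hkZ : k ∉ Z := fun h => hk'1 ((π1 k).mpr h)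
      exact ⟨k, by rw [cent2 k hkK hkZ]⟩
    · -- an element outside K
      obtain ⟨⟨h', hh'⟩, hh'0⟩ := Subgroup.ne_bot_iff_exists_ne_one.mp hFrob.1
      have hh'1 : h' ≠ 1 := fun h => hh'0 (Subtype.ext h)
      obtain ⟨h, rfl⟩ := hπs h'
      have hnotK : h ∉ K := by
        intro hK
        rcases (memKer h).mpr hK with h1 | h1
        · exact hh'1 h1
        · apply h1 1
          rw [mem_conj_iff]
          simpa using hh'
      exact ⟨h, cent3 h hnotK⟩

end Cfsg.Agent.S4283
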