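import Cfsg.Statements.S4292
import Cfsg.Agent.Lib.Helper79.FpfLiftI

set_option autoImplicit false
open Cfsg

namespace Cfsg.Agent.S4292

/-- Let A and B be nontrivial finite groups. Then the direct product A × B occurs as a Frobenius complement if and only if A and B both occur as Frobenius complements and the orders of A and B are coprime. -/
theorem result {A B : Type*} [Group A] [Finite A] [Nontrivial A] [Group B] [Finite B] [Nontrivial B] :
    (∃ (L : Type) (_ : Group L) (_ : Finite L) (H : Subgroup L), Cfsg.IsFrobeniusComplement H ∧ Nonempty ((A × B) ≃* H)) ↔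
    ((∃ (L : Type) (_ : Group L) (_ : Finite L) (H : Subgroup L), Cfsg.IsFrobeniusComplement H ∧ Nonempty (A ≃* H)) ∧
     (∃ (L : Type) (_ : Group L) (_ : Finite L) (H : Subgroup L), Cfsg.IsFrobeniusComplement H ∧ Nonempty (B ≃* H)) ∧
     (Nat.card A).Coprime (Nat.card B)) := by
  constructor
  · rintro ⟨L, instL, finL, H, hH, ⟨e⟩⟩
    refine ⟨?_, ?_, ?_⟩
    · exact Cfsg.Agent.Lib.Helper79.FpfLift.frobeniusComplement_of_embedding H hH
        (H.subtype.comp (e.toMonoidHom.comp (MonoidHom.inl A B)))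
        (fun x y hxy => by
          have h1 := e.injective (Subtype.ext hxy)
          exact congrArg Prod.fst h1)
        (fun a => (e (a, 1)).2)
    · exact Cfsg.Agent.Lib.Helper79.FpfLift.frobeniusComplement_of_embedding H hH
        (H.subtype.comp (e.toMonoidHom.comp (MonoidHom.inr A B)))
        (fun x y hxy => by
          have h1 := e.injective (Subtype.ext hxy)
          exact congrArg Prod.snd h1)
        (fun b => (e (1, b)).2)
    · exact Cfsg.Agent.Lib.Helper79.FpfLift.coprime_of_prod_embedding H hH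
        (H.subtype.comp e.toMonoidHom)
        (fun x y hxy => e.injective (Subtype.ext hxy))
        (fun x => (e x).2)
  · rintro ⟨⟨LA, instLA, finLA, HA, hHA, ⟨eA⟩⟩, ⟨LB, instLB, finLB, HB, hHB, ⟨eB⟩⟩, hcop⟩
    haveI : Fintype ↥HA := Fintype.ofFinite _
    haveI : Fintype ↥HB := Fintype.ofFinite _
    obtain ⟨χA, hχA⟩ := Cfsg.Agent.Lib.Helper79.FpfLift.exists_irr_of_frobeniusComplement HA hHA
    obtain ⟨χB, hχB⟩ := Cfsg.Agent.Lib.Helper79.FpfLift.exists_irr_of_frobeniusComplement HB hHB
    haveI : Nontrivial ↥HA := (Subgroup.nontrivial_iff_ne_bot HA).mpr hHA.1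
    have hcop' : (Fintype.card ↥HA).Coprime (Fintype.card ↥HB) := by
      rw [← Nat.card_eq_fintype_card, ← Nat.card_eq_fintype_card,
        ← Nat.card_congr eA.toEquiv, ← Nat.card_congr eB.toEquiv]
      exact hcop
    obtain ⟨L, instL, finL, C, hC, ⟨e⟩⟩ :=
      Cfsg.Agent.Lib.Helper79.FpfLift.exists_frobenius_prod χA hχA χB hχB hcop'
    exact ⟨L, instL, finL, C, hC, ⟨(MulEquiv.prodCongr eA eB).trans e⟩⟩

end Cfsg.Agent.S4292
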