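import Cfsg.Statements.S4293
import Cfsg.Agent.Lib.Helper76.FrobeniusShrink

set_option autoImplicit false
open Cfsg

namespace Cfsg.Agent.S4293

open Cfsg.Agent.Lib.Helper76

variable {D : Type*} [DivisionRing D]

/-- The `ℤ`-span of a subgroup of the units. -/
def spanH (H : Subgroup Dˣ) : Submodule ℤ D :=
  Submodule.span ℤ (Set.range (fun h : H => ((h : Dˣ) : D)))

theorem mul_mem_spanH (H : Subgroup Dˣ) (h : H) {m : D} (hm : m ∈ spanH H) :
    m * ((h : Dˣ) : D) ∈ spanH H := by
  unfold spanH at hm ⊢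
  induction hm using Submodule.span_induction with
  | mem x hx =>
    obtain ⟨g, rfl⟩ := hx
    exact Submodule.subset_span ⟨g * h, by simp⟩
  | zero => simp
  | add x y _ _ hx hy => rw [add_mul]; exact Submodule.add_mem _ hx hy
  | smul a x _ hx => rw [smul_mul_assoc]; exact Submodule.smul_mem _ a hx

theorem one_mem_spanH (H : Subgroup Dˣ) : (1 : D) ∈ spanH H :=
  Submodule.subset_span ⟨1, by simp⟩

/-- Right multiplication by an element of `H` on the span. -/
def rmul (H : Subgroup Dˣ) (h : H) : spanH H →ₗ[ℤ] spanH H :=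
  (LinearMap.mulRight ℤ ((h : Dˣ) : D)).restrict (fun _ hm => mul_mem_spanH H h hm)

theorem rmul_apply (H : Subgroup Dˣ) (h : H) (m : spanH H) :
    ((rmul H h m : spanH H) : D) = (m : D) * ((h : Dˣ) : D) := rfl

theorem rmul_one (H : Subgroup Dˣ) : rmul H 1 = LinearMap.id := by
  ext m
  simp [rmul_apply]

theorem rmul_mul (H : Subgroup Dˣ) (g h : H) : rmul H (g * h) = (rmul H h).comp (rmul H g) := by
  ext m
  simp [rmul_apply, mul_assoc]

/-- The action on the dual. -/
@[instance_reducible]
def dmaH (H : Subgroup Dˣ) (p : ℕ) : DistribMulAction H (spanH H →ₗ[ℤ] ZMod p) where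
  smul h f := f.comp (rmul H h)
  one_smul f := by
    change f.comp (rmul H 1) = f
    rw [rmul_one]; rfl
  mul_smul g h f := by
    change f.comp (rmul H (g * h)) = (f.comp (rmul H h)).comp (rmul H g)
    rw [rmul_mul]; rfl
  smul_zero h := by
    change (0 : spanH H →ₗ[ℤ] ZMod p).comp (rmul H h) = 0
    exact LinearMap.zero_comp _
  smul_add h f g := by
    change (f + g).comp (rmul H h) = f.comp (rmul H h) + g.comp (rmul H h)
    exact LinearMap.add_comp _ _ _

theorem geom_sum_eq_zero (H : Subgroup Dˣ) [Finite H] (h : H) (hne : h ≠ 1) :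
    ∑ k ∈ Finset.range (orderOf h), (((h : Dˣ) : D)) ^ k = 0 := by
  have h1 := geom_sum_mul (((h : Dˣ) : D)) (orderOf h)
  have h2 : (((h : Dˣ) : D)) ^ (orderOf h) = 1 := by
    have e1 : h ^ orderOf h = 1 := pow_orderOf_eq_one h
    have e2 : (((h ^ orderOf h : H) : Dˣ) : D) = ((((1 : H) : Dˣ)) : D) := by rw [e1]
    rw [Subgroup.coe_pow, Units.val_pow_eq_pow_val, Subgroup.coe_one, Units.val_one] at e2
    exact e2
  rw [h2, sub_self] at h1
  rcases mul_eq_zero.mp h1 with h3 | h3
  · exact h3
  · exfalso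
    apply hne
    apply Subtype.ext
    apply Units.ext
    simpa using sub_eq_zero.mp h3

theorem fpf_dual (H : Subgroup Dˣ) [Finite H] (p : ℕ) [Fact p.Prime] (hp : ¬ p ∣ Nat.card H)
    (h : H) (hne : h ≠ 1) (f : spanH H →ₗ[ℤ] ZMod p) (hf : f.comp (rmul H h) = f) : f = 0 := by
  have hk : ∀ (k : ℕ) (m : spanH H), f (rmul H (h ^ k) m) = f m := by
    intro k
    induction k with
    | zero =>
      intro m
      rw [pow_zero, rmul_one]; rfl
    | succ k ih =>
      intro m
      rw [pow_succ, rmul_mul, LinearMap.comp_apply]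
      have := congrArg (fun g => g (rmul H (h ^ k) m)) hf
      simp only [LinearMap.comp_apply] at this
      rw [this, ih]
  ext m
  have hsum : ∑ k ∈ Finset.range (orderOf h), rmul H (h ^ k) m = 0 := by
    apply Subtype.ext
    rw [Submodule.coe_sum]
    simp only [rmul_apply, Submodule.coe_zero]
    have : ∀ k, (((h ^ k : H) : Dˣ) : D) = (((h : Dˣ) : D)) ^ k := by
      intro k; simp
    simp only [this]
    rw [← Finset.mul_sum, geom_sum_eq_zero H h hne, mul_zero]
  have h0 := congrArg f hsum
  rw [map_sum, map_zero] at h0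
  simp only [hk] at h0
  rw [Finset.sum_const, Finset.card_range, nsmul_eq_mul] at h0
  have ho : ((orderOf h : ℕ) : ZMod p) ≠ 0 := by
    intro h1
    rw [ZMod.natCast_eq_zero_iff] at h1
    exact hp (h1.trans (orderOf_dvd_natCard h))
  rcases mul_eq_zero.mp h0 with h1 | h1
  · exact absurd h1 ho
  · simpa using h1

theorem char_zero_case [CharZero D] (H : Subgroup Dˣ) [Finite H] (hH : H ≠ ⊥) :
    ∃ (L : Type) (_ : Group L) (_ : Finite L) (C : Subgroup L),
      Cfsg.IsFrobeniusComplement C ∧ Nonempty (H ≃* C) := by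
  classical
  obtain ⟨p, hpge, hp⟩ := Nat.exists_infinite_primes (Nat.card H + 1)
  have hpf : Fact p.Prime := ⟨hp⟩
  have hpH : ¬ p ∣ Nat.card H := fun hd => by
    have := Nat.le_of_dvd Nat.card_pos hd
    omega
  have hSfin : (Set.range (fun h : H => ((h : Dˣ) : D))).Finite := Set.finite_range _
  have hMfin : Module.Finite ℤ (spanH H) := Module.Finite.span_of_finite ℤ hSfin
  obtain ⟨n, b⟩ := Module.basisOfFiniteTypeTorsionFree' (R := ℤ) (M := spanH H)
  let e : (Fin n → ZMod p) ≃ₗ[ℤ] (spanH H →ₗ[ℤ] ZMod p) := b.constr ℤ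
  have hVfin : Finite (spanH H →ₗ[ℤ] ZMod p) := Finite.of_equiv _ e.toEquiv
  have hn : n ≠ 0 := by
    rintro rfl
    have hsub : Subsingleton (spanH H) := b.repr.toEquiv.subsingleton
    have h1 : (⟨1, one_mem_spanH H⟩ : spanH H) = 0 := Subsingleton.elim _ _
    exact one_ne_zero (congrArg Subtype.val h1)
  have hVnt : Nontrivial (spanH H →ₗ[ℤ] ZMod p) := by
    have hne : Nonempty (Fin n) := ⟨⟨0, Nat.pos_of_ne_zero hn⟩⟩
    have hnt : Nontrivial (Fin n → ZMod p) := inferInstance
    exact e.toEquiv.symm.nontrivial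
  have hKnt : Nontrivial H := (Subgroup.nontrivial_iff_ne_bot H).mpr hH
  let φ : H →* MulAut (Multiplicative (spanH H →ₗ[ℤ] ZMod p)) :=
    (MulAutMultiplicative (spanH H →ₗ[ℤ] ZMod p)).symm.toMonoidHom.comp
      (@DistribMulAction.toAddAut H (spanH H →ₗ[ℤ] ZMod p) _ _ (dmaH H p))
  have hfpf : ∀ (a : H) (v : Multiplicative (spanH H →ₗ[ℤ] ZMod p)),
      φ a v = v → a = 1 ∨ v = 1 := by
    intro a v hv
    by_cases ha : a = 1
    · exact Or.inl ha
    · right
      have h1 : (Multiplicative.toAdd v).comp (rmul H a) = Multiplicative.toAdd v :=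
        congrArg Multiplicative.toAdd hv
      have h2 := fpf_dual H p hpH a ha _ h1
      exact h2
  exact exists_frobenius_of_fpf φ hfpf

theorem isCyclic_of_charP (p : ℕ) [Fact p.Prime] [CharP D p] (H : Subgroup Dˣ) [Finite H] :
    IsCyclic H := by
  classical
  let _ : Algebra (ZMod p) D := ZMod.algebra D p
  let ψ : H →* D := (Units.coeHom D).comp H.subtype
  let A : Subalgebra (ZMod p) D := Algebra.adjoin (ZMod p) (MonoidHom.mrange ψ : Set D)
  have hAspan : Subalgebra.toSubmodule A = Submodule.span (ZMod p) (MonoidHom.mrange ψ : Set D) := by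
    rw [Algebra.adjoin_eq_span, Submonoid.closure_eq]
  have hfinS : (MonoidHom.mrange ψ : Set D).Finite := by
    have : (MonoidHom.mrange ψ : Set D) = Set.range ψ := MonoidHom.coe_mrange ψ
    rw [this]
    exact Set.finite_range _
  have hMfin : Module.Finite (ZMod p) (Subalgebra.toSubmodule A) := by
    rw [hAspan]
    exact Module.Finite.span_of_finite (ZMod p) hfinS
  have hAfin : Finite A := Module.finite_of_finite (ZMod p) (M := Subalgebra.toSubmodule A)
  have hfield : IsField A := Finite.isDomain_to_isField A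
  let _ : Field A := hfield.toField
  let f : H →* A :=
    { toFun := fun h => ⟨ψ h, Algebra.subset_adjoin ⟨h, rfl⟩⟩
      map_one' := Subtype.ext (by simp [ψ])
      map_mul' := fun x y => Subtype.ext (by simp [ψ]) }
  have hf : Function.Injective f := by
    intro x y hxy
    have h1 : ψ x = ψ y := congrArg Subtype.val hxy
    apply Subtype.ext
    apply Units.ext
    exact h1
  exact isCyclic_of_injective_ringHom f hf

/-- A nontrivial finite subgroup of the multiplicative group of a division ring occurs as a Frobenius complement of some finite Frobenius group. -/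
theorem result {D : Type*} [DivisionRing D] (H : Subgroup Dˣ) [Finite H] (hH : H ≠ ⊥) :
    ∃ (L : Type) (_ : Group L) (_ : Finite L) (C : Subgroup L), Cfsg.IsFrobeniusComplement C ∧ Nonempty (H ≃* C) := by
  obtain ⟨p, hp⟩ := CharP.exists D
  rcases CharP.char_is_prime_or_zero D p with hpp | hp0
  · have hpf : Fact p.Prime := ⟨hpp⟩
    have hcyc : IsCyclic H := isCyclic_of_charP p H
    have hnt : Nontrivial H := (Subgroup.nontrivial_iff_ne_bot H).mpr hH
    exact Cfsg.Agent.S4299.result (C := H)
  · subst hp0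
    have hcz : CharZero D := CharP.charP_to_charZero D
    exact char_zero_case H hH

end Cfsg.Agent.S4293
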