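import Cfsg.Statements.S4296
import Cfsg.Agent.S0035
import Cfsg.Agent.S0039
import Cfsg.Agent.S0040
import Cfsg.Agent.Lib.Helper82.InvolutionInvert
import Cfsg.Agent.Lib.Helper76.QuatSquare

set_option autoImplicit false
open Cfsg

namespace Cfsg.Agent.S4296


/-- Quaternion relations inside `QuaternionGroup (2 * m)`. -/
theorem quat_rel (m : ℕ) (hm : 0 < m) :
    let qi : QuaternionGroup (2 * m) := QuaternionGroup.a (m : ZMod (2 * (2 * m)))
    let qj : QuaternionGroup (2 * m) := QuaternionGroup.xa 0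
    let z : QuaternionGroup (2 * m) := QuaternionGroup.a ((2 * m : ℕ) : ZMod (2 * (2 * m)))
    z ≠ 1 ∧ z * z = 1 ∧ qi * qi = z ∧ qj * qj = z ∧ qi * qj = qj * qi * z := by
  intro qi qj z
  have h4 : ((2 * (2 * m) : ℕ) : ZMod (2 * (2 * m))) = 0 := ZMod.natCast_self _
  refine ⟨?_, ?_, ?_, ?_, ?_⟩
  · intro h
    have h0 : (QuaternionGroup.a ((2 * m : ℕ) : ZMod (2 * (2 * m))) : QuaternionGroup (2 * m)) =
        QuaternionGroup.a 0 := h
    have h1 : ((2 * m : ℕ) : ZMod (2 * (2 * m))) = 0 := QuaternionGroup.a.inj h0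
    rw [ZMod.natCast_eq_zero_iff] at h1
    have := Nat.le_of_dvd (by omega) h1
    omega
  · show QuaternionGroup.a _ * QuaternionGroup.a _ = 1
    rw [QuaternionGroup.a_mul_a, QuaternionGroup.one_def]
    congr 1
    rw [← h4]; push_cast; ring
  · show QuaternionGroup.a _ * QuaternionGroup.a _ = QuaternionGroup.a _
    rw [QuaternionGroup.a_mul_a]
    congr 1
    push_cast; ring
  · show QuaternionGroup.xa _ * QuaternionGroup.xa _ = QuaternionGroup.a _
    rw [QuaternionGroup.xa_mul_xa]
    congr 1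
    push_cast; ring
  · show QuaternionGroup.a _ * QuaternionGroup.xa _ =
      QuaternionGroup.xa _ * QuaternionGroup.a _ * QuaternionGroup.a _
    rw [QuaternionGroup.a_mul_xa, QuaternionGroup.xa_mul_a, QuaternionGroup.xa_mul_a]
    congr 1
    have : (0 : ZMod (2 * (2 * m))) - (m : ZMod (2 * (2 * m))) =
        0 + m + ((2 * m : ℕ) : ZMod (2 * (2 * m))) - ((2 * (2 * m) : ℕ) : ZMod (2 * (2 * m))) := by
      push_cast; ring
    rw [this, h4, sub_zero]

/-- Let H be a Frobenius complement in a finite group, and suppose some Sylow subgroup of H is not cyclic. Then the number of elements of the Frobenius kernel (the identity together with the elements lying in no conjugate of H) is an odd perfect square. -/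
theorem result {L : Type*} [Group L] [Finite L] (H : Subgroup L) (hF : Cfsg.IsFrobeniusComplement H)
    (hZ : ∃ (p : ℕ) (_ : Fact p.Prime) (P : Sylow p H), ¬ IsCyclic P) :
    Odd (Nat.card (Cfsg.frobeniusKernel H)) ∧ IsSquare (Nat.card (Cfsg.frobeniusKernel H)) := by
  classical
  obtain ⟨N, hNset, hNnormal, hcompl⟩ := Cfsg.Agent.S0035.result H hF
  have := hNnormal
  have hHbot : H ≠ ⊥ := hF.1
  have hHtop : H ≠ ⊤ := hF.2.1
  have hNbot : N ≠ ⊥ := by
    intro h
    rw [h] at hcompl
    exact hHtop (Subgroup.isComplement'_bot_left.1 hcompl)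
  have hfpf := (Cfsg.Agent.S0039.result N H hcompl hNbot hHbot).1 hF
  obtain ⟨p, hp, P, hP⟩ := hZ
  have := hp
  rcases Cfsg.Agent.S0040.result N H hcompl hNbot hfpf p P with hc | ⟨n, ⟨e⟩⟩
  · exact absurd hc hP
  -- n ≥ 1
  obtain _ | k := n
  · exfalso
    apply hP
    have : IsCyclic (QuaternionGroup (2 ^ 0)) := by
      rw [pow_zero]; exact QuaternionGroup.quaternionGroup_one_isCyclic
    exact (MulEquiv.isCyclic e).2 this
  have hpow : 2 ^ (k + 1) = 2 * 2 ^ k := by rw [pow_succ, mul_comm]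
  rw [hpow] at e
  obtain ⟨hz1, hzz, hii, hjj, hij⟩ := quat_rel (2 ^ k) (by positivity)
  -- transport to L
  let ψ : QuaternionGroup (2 * 2 ^ k) →* L :=
    H.subtype.comp ((P : Subgroup H).subtype.comp e.symm.toMonoidHom)
  have hψinj : Function.Injective ψ := by
    intro x y hxy
    have h1 : ((P : Subgroup H).subtype.comp e.symm.toMonoidHom) x =
        ((P : Subgroup H).subtype.comp e.symm.toMonoidHom) y := H.subtype_injective hxy
    have h2 : e.symm x = e.symm y := (P : Subgroup H).subtype_injective h1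
    exact e.symm.injective h2
  have hψH : ∀ q, ψ q ∈ H := fun q => (((P : Subgroup H).subtype.comp e.symm.toMonoidHom) q).2
  set I := ψ (QuaternionGroup.a ((2 ^ k : ℕ) : ZMod (2 * (2 * 2 ^ k)))) with hI
  set J := ψ (QuaternionGroup.xa 0) with hJ
  set Z := ψ (QuaternionGroup.a ((2 * 2 ^ k : ℕ) : ZMod (2 * (2 * 2 ^ k)))) with hZdef
  have hZ1 : Z ≠ 1 := by
    intro h
    apply hz1
    apply hψinj
    rw [map_one]; exact h
  have hZZ : Z * Z = 1 := by rw [hZdef, ← map_mul, hzz, map_one]
  have hII : I * I = Z := by rw [hI, ← map_mul, hii]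
  have hJJ : J * J = Z := by rw [hJ, ← map_mul, hjj]
  have hIJ : I * J = J * I * Z := by rw [hI, hJ, hZdef, ← map_mul, ← map_mul, ← map_mul, hij]
  have hZH : Z ∈ H := hψH _
  -- Z inverts N, N abelian
  have hfpfZ : ∀ s ∈ N, Z * s * Z⁻¹ = s → s = 1 := by
    intro s hs hs2
    have h1 : s ∈ N ⊓ Subgroup.centralizer {Z} := by
      refine Subgroup.mem_inf.2 ⟨hs, ?_⟩
      rw [Subgroup.mem_centralizer_singleton_iff]
      rw [mul_inv_eq_iff_eq_mul] at hs2
      exact hs2.symm
    rw [hfpf Z hZH hZ1] at h1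
    exact Subgroup.mem_bot.1 h1
  obtain ⟨hinv, hcomm⟩ := Cfsg.Agent.Lib.Helper82.fpf_involution_inverts N Z hZZ
    (fun s hs => hNnormal.conj_mem s hs Z) hfpfZ
  -- odd order
  have hodd : Odd (Nat.card N) := by
    rw [← Nat.not_even_iff_odd, even_iff_two_dvd]
    intro h2
    obtain ⟨s, hs⟩ := exists_prime_orderOf_dvd_card' 2 h2
    have hs2 : (s : L) * (s : L) = 1 := by
      have : s ^ 2 = 1 := by rw [← hs]; exact pow_orderOf_eq_one s
      have := congrArg Subtype.val this
      simpa [pow_two] using this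
    have hs1 : (s : L) = 1 := by
      apply hfpfZ _ s.2
      rw [hinv _ s.2]
      exact inv_eq_of_mul_eq_one_left hs2
    have : s = 1 := Subtype.ext hs1
    rw [this, orderOf_one] at hs
    omega
  -- the two automorphisms
  let α : N →* N := (MulAut.conjNormal I : MulAut N).toMonoidHom
  let β : N →* N := (MulAut.conjNormal J : MulAut N).toMonoidHom
  have hα_apply : ∀ v : N, ((α v : N) : L) = I * v * I⁻¹ := fun v => rfl
  have hβ_apply : ∀ v : N, ((β v : N) : L) = J * v * J⁻¹ := fun v => rfl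
  have hsq : IsSquare (Nat.card N) := by
    apply Cfsg.Agent.Lib.Helper76.isSquare_card_of_quat_mul
      (fun a b => Subtype.ext (hcomm a a.2 b b.2)) hodd α β
    · intro v
      apply Subtype.ext
      rw [hα_apply, hα_apply, Subgroup.coe_inv, ← hinv _ v.2, ← hII]
      group
    · intro v
      apply Subtype.ext
      rw [hβ_apply, hβ_apply, Subgroup.coe_inv, ← hinv _ v.2, ← hJJ]
      group
    · intro v
      apply Subtype.ext
      rw [hα_apply, hβ_apply, Subgroup.coe_inv, hβ_apply, hα_apply]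
      have h1 : (J * (I * (v : L) * I⁻¹) * J⁻¹)⁻¹ = J * I * (v : L)⁻¹ * I⁻¹ * J⁻¹ := by group
      rw [h1, ← hinv _ v.2]
      have h2 : I * (J * (v : L) * J⁻¹) * I⁻¹ = (I * J) * (v : L) * (I * J)⁻¹ := by group
      rw [h2, hIJ]
      group
  have hcardeq : Nat.card (Cfsg.frobeniusKernel H) = Nat.card N := by
    rw [← hNset]; rfl
  rw [hcardeq]
  exact ⟨hodd, hsq⟩

end Cfsg.Agent.S4296
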