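import Cfsg.Statements.S4295
import Cfsg.Agent.S4296
import Cfsg.Agent.S0034
import Cfsg.Agent.Lib.Helper76.QuatAction

set_option autoImplicit false
open Cfsg

namespace Cfsg.Agent.S4295

/-- For a natural number m the following are equivalent: (a) some finite group has a Frobenius complement isomorphic to the quaternion group of order 8 whose Frobenius kernel (the identity together with the elements lying in no conjugate of the complement) has exactly m elements; (b) m is an odd perfect square greater than 1. -/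
theorem result (m : ℕ) :
    (∃ (L : Type) (_ : Group L) (_ : Finite L) (H : Subgroup L), Cfsg.IsFrobeniusComplement H ∧
        Nonempty (H ≃* QuaternionGroup 2) ∧ Nat.card (Cfsg.frobeniusKernel H) = m) ↔
    (Odd m ∧ IsSquare m ∧ 1 < m) := by
  classical
  constructor
  · rintro ⟨L, _, _, H, hF, ⟨e⟩, hm⟩
    have hcard : Nat.card H = 2 ^ 3 := by
      rw [Nat.card_congr e.toEquiv, Nat.card_eq_fintype_card, QuaternionGroup.card]; norm_num
    have hHp : IsPGroup 2 H := IsPGroup.of_card hcard
    have : Fact (Nat.Prime 2) := ⟨Nat.prime_two⟩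
    have hZ : ∃ (p : ℕ) (_ : Fact p.Prime) (P : Sylow p H), ¬ IsCyclic P := by
      refine ⟨2, inferInstance, default, ?_⟩
      intro hcyc
      have htop : (⊤ : Subgroup H) = ((default : Sylow 2 H) : Subgroup H) :=
        (default : Sylow 2 H).is_maximal' (hHp.to_subgroup ⊤) le_top
      have hsurj : Function.Surjective ((default : Sylow 2 H) : Subgroup H).subtype := by
        intro h
        exact ⟨⟨h, by rw [← htop]; exact Subgroup.mem_top h⟩, rfl⟩
      have hH : IsCyclic H := isCyclic_of_surjective _ hsurj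
      have hQ : IsCyclic (QuaternionGroup 2) := (MulEquiv.isCyclic e).1 hH
      have hcomm := @IsCyclic.isMulCommutative (QuaternionGroup 2) _ hQ
      have := hcomm.is_comm.comm (QuaternionGroup.a 1) (QuaternionGroup.xa 0)
      revert this
      decide
    obtain ⟨h1, h2⟩ := Cfsg.Agent.S4296.result H hF hZ
    rw [hm] at h1 h2
    refine ⟨h1, h2, ?_⟩
    rw [← hm, (Cfsg.Agent.S0034.result H hF).1]
    have h3 : H.index ≠ 1 := fun h => hF.2.1 (Subgroup.index_eq_one.1 h)
    have h4 : H.index ≠ 0 := Subgroup.index_ne_zero_of_finite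
    omega
  · rintro ⟨hodd, ⟨n, hn⟩, h1⟩
    have hoddn : Odd n := by
      rw [hn, Nat.odd_mul] at hodd
      exact hodd.1
    obtain ⟨N, _, _, φ, hfpf, hcN⟩ := Cfsg.Agent.Lib.Helper76.qAct_of_odd n hoddn
    have : Nontrivial N := by
      rw [← Finite.one_lt_card_iff_nontrivial, hcN, ← hn]
      exact h1
    obtain ⟨L, hL1, hL2, C, hC, ⟨e⟩, hidx⟩ :=
      Cfsg.Agent.Lib.Helper76.exists_frobenius_of_fpf_index φ hfpf
    refine ⟨L, hL1, hL2, C, hC, ⟨e.symm⟩, ?_⟩
    rw [(Cfsg.Agent.S0034.result C hC).1, hidx, hcN, hn]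

end Cfsg.Agent.S4295
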