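import Cfsg.Statements.S4297
import Cfsg.Agent.S4299

set_option autoImplicit false
open Cfsg

namespace Cfsg.Agent.S4297

variable {F : Type*} [Field F]

/-- The power map `i ↦ ζ ^ i` on `ZMod m` for `ζ ^ m = 1`. -/
noncomputable def pw (m : ℕ) (ζ : Fˣ) (hζ : ζ ^ m = 1) : ZMod m →+ Additive Fˣ :=
  ZMod.lift m ⟨zmultiplesHom (Additive Fˣ) (Additive.ofMul ζ), by
    rw [zmultiplesHom_apply, natCast_zsmul, ← ofMul_pow, hζ, ofMul_one]⟩

theorem pw_natCast (m : ℕ) (ζ : Fˣ) (hζ : ζ ^ m = 1) (k : ℕ) :
    Additive.toMul (pw m ζ hζ (k : ZMod m)) = ζ ^ k := by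
  have : (k : ZMod m) = ((k : ℤ) : ZMod m) := by push_cast; rfl
  rw [this, pw, ZMod.lift_coe]
  change Additive.toMul (zmultiplesHom (Additive Fˣ) (Additive.ofMul ζ) (k : ℤ)) = ζ ^ k
  rw [zmultiplesHom_apply, natCast_zsmul, ← ofMul_pow, toMul_ofMul]

theorem pw_injective (m : ℕ) (ζ : Fˣ) (hζ : ζ ^ m = 1) (hord : orderOf ζ = m) :
    Function.Injective (pw m ζ hζ) := by
  rw [pw, ZMod.lift_injective]
  intro k hk
  change zmultiplesHom (Additive Fˣ) (Additive.ofMul ζ) k = 0 at hk
  rw [zmultiplesHom_apply, ← ofMul_zpow] at hk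
  have h1 : ζ ^ k = 1 := by
    have := congrArg Additive.toMul hk
    simpa using this
  rw [← orderOf_dvd_iff_zpow_eq_one, hord] at h1
  exact (ZMod.intCast_zmod_eq_zero_iff_dvd k m).mpr h1

/-- The action of the quaternion group on `F × F`. -/
def act {n : ℕ} (e : ZMod (2 * n) →+ Additive Fˣ) : QuaternionGroup n → F × F → F × F
  | .a i, w => (((Additive.toMul (e i) : Fˣ) : F) * w.1, (((Additive.toMul (e i))⁻¹ : Fˣ) : F) * w.2)
  | .xa i, w => ((((Additive.toMul (e i))⁻¹ : Fˣ) : F) * w.2, -(((Additive.toMul (e i) : Fˣ) : F) * w.1))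

theorem act_mul {n : ℕ} (e : ZMod (2 * n) →+ Additive Fˣ)
    (hn : ((Additive.toMul (e (n : ZMod (2 * n))) : Fˣ) : F) = -1)
    (g h : QuaternionGroup n) (w : F × F) : act e (g * h) w = act e g (act e h w) := by
  have hn' : Additive.toMul (e (n : ZMod (2 * n))) = -1 := Units.ext (by simpa using hn)
  rcases g with i | i <;> rcases h with j | j
  · simp only [QuaternionGroup.a_mul_a, act, map_add, toMul_add, Units.val_mul, mul_inv]
    ext <;> simp only <;> ring
  · simp only [QuaternionGroup.a_mul_xa, act, map_sub, toMul_sub, div_eq_mul_inv, Units.val_mul,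
      mul_inv, inv_inv]
    ext <;> simp only <;> ring
  · simp only [QuaternionGroup.xa_mul_a, act, map_add, toMul_add, Units.val_mul, mul_inv]
    ext <;> simp only <;> ring
  · simp only [QuaternionGroup.xa_mul_xa, act, map_add, map_sub, toMul_add, toMul_sub,
      div_eq_mul_inv, Units.val_mul, mul_inv, inv_inv, hn']
    ext <;> simp <;> ring

/-- The distributive action. -/
@[instance_reducible]
def dma {n : ℕ} (e : ZMod (2 * n) →+ Additive Fˣ)
    (hn : ((Additive.toMul (e (n : ZMod (2 * n))) : Fˣ) : F) = -1) :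
    DistribMulAction (QuaternionGroup n) (F × F) where
  smul := act e
  one_smul := by
    intro w
    change act e 1 w = w
    rw [QuaternionGroup.one_def]
    simp [act]
  mul_smul := fun g h w => act_mul e hn g h w
  smul_zero := by
    intro g
    change act e g 0 = 0
    rcases g with i | i <;> simp [act]
  smul_add := by
    intro g v w
    change act e g (v + w) = act e g v + act e g w
    rcases g with i | i <;> simp only [act, Prod.fst_add, Prod.snd_add] <;> ext <;> simp <;> ring

/-- The homomorphism to the automorphism group. -/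
noncomputable def phi {n : ℕ} (e : ZMod (2 * n) →+ Additive Fˣ)
    (hn : ((Additive.toMul (e (n : ZMod (2 * n))) : Fˣ) : F) = -1) :
    QuaternionGroup n →* MulAut (Multiplicative (F × F)) :=
  (MulAutMultiplicative (F × F)).symm.toMonoidHom.comp
    (@DistribMulAction.toAddAut (QuaternionGroup n) (F × F) _ _ (dma e hn))

theorem phi_apply {n : ℕ} (e : ZMod (2 * n) →+ Additive Fˣ)
    (hn : ((Additive.toMul (e (n : ZMod (2 * n))) : Fˣ) : F) = -1)
    (g : QuaternionGroup n) (v : Multiplicative (F × F)) :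
    phi e hn g v = Multiplicative.ofAdd (act e g (Multiplicative.toAdd v)) := rfl

theorem fpf {n : ℕ} (e : ZMod (2 * n) →+ Additive Fˣ)
    (hn : ((Additive.toMul (e (n : ZMod (2 * n))) : Fˣ) : F) = -1)
    (hinj : Function.Injective e) (h2 : (2 : F) ≠ 0)
    (g : QuaternionGroup n) (v : Multiplicative (F × F)) (h : phi e hn g v = v) :
    g = 1 ∨ v = 1 := by
  rw [phi_apply] at h
  have h' : act e g (Multiplicative.toAdd v) = Multiplicative.toAdd v :=
    congrArg Multiplicative.toAdd h
  set w := Multiplicative.toAdd v with hw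
  by_cases hw0 : w = 0
  · right
    exact hw0
  rcases g with i | i
  · left
    simp only [act] at h'
    have h1 := congrArg Prod.fst h'
    have h2' := congrArg Prod.snd h'
    simp only at h1 h2'
    have hu : Additive.toMul (e i) = 1 := by
      by_cases hw1 : w.1 = 0
      · have hw2 : w.2 ≠ 0 := by
          intro hw2
          exact hw0 (Prod.ext hw1 hw2)
        have : (((Additive.toMul (e i))⁻¹ : Fˣ) : F) = 1 := by
          have := mul_right_cancel₀ hw2 (h2'.trans (one_mul _).symm)
          exact this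
        have h3 : (Additive.toMul (e i))⁻¹ = 1 := Units.ext (by simpa using this)
        exact inv_eq_one.mp h3
      · have : ((Additive.toMul (e i) : Fˣ) : F) = 1 :=
          mul_right_cancel₀ hw1 (h1.trans (one_mul _).symm)
        exact Units.ext (by simpa using this)
    have hi : i = 0 := by
      apply hinj
      rw [map_zero]
      exact hu
    rw [hi, QuaternionGroup.a_zero]
  · exfalso
    simp only [act] at h'
    have h1 := congrArg Prod.fst h'
    have h2' := congrArg Prod.snd h'
    simp only at h1 h2'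
    have hw1 : w.1 = 0 := by
      have e1 : w.1 = -w.1 := by
        conv_lhs => rw [← h1, ← h2']
        rw [mul_neg, ← mul_assoc]
        simp
      have e2 : (2 : F) * w.1 = 0 := by
        rw [two_mul]
        nth_rewrite 1 [e1]
        exact neg_add_cancel _
      rcases mul_eq_zero.mp e2 with h3 | h3
      · exact absurd h3 h2
      · exact h3
    have hw2 : w.2 = 0 := by
      rw [← h2', hw1, mul_zero, neg_zero]
    exact hw0 (Prod.ext hw1 hw2)

/-- For every n ≥ 2 the dicyclic group of order 4n (generated by an element a of order 2n and an element x with x² = aⁿ and x a x⁻¹ = a⁻¹) occurs as a Frobenius complement of some finite Frobenius group. -/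
theorem result (n : ℕ) (hn : 2 ≤ n) :
    ∃ (L : Type) (_ : Group L) (_ : Finite L) (H : Subgroup L), Cfsg.IsFrobeniusComplement H ∧ Nonempty (H ≃* QuaternionGroup n) := by
  classical
  have hn0 : NeZero n := ⟨by omega⟩
  have hm0 : 2 * n ≠ 0 := by omega
  obtain ⟨p, hp, hp2, hpn⟩ := Nat.exists_prime_gt_modEq_one 2 hm0
  have hpf : Fact p.Prime := ⟨hp⟩
  have hdvd : 2 * n ∣ p - 1 := (Nat.modEq_iff_dvd' hp.one_lt.le).mp hpn.symm
  obtain ⟨m, hm⟩ := hdvd
  have hp1 : 0 < p - 1 := Nat.sub_pos_of_lt hp.one_lt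
  have hmne : m ≠ 0 := by
    rintro rfl
    rw [mul_zero] at hm
    omega
  obtain ⟨ξ, hξ⟩ := IsCyclic.exists_generator (α := (ZMod p)ˣ)
  have hordξ : orderOf ξ = p - 1 := by
    rw [orderOf_eq_card_of_forall_mem_zpowers hξ, Nat.card_eq_fintype_card, ZMod.card_units]
  set ζ := ξ ^ m with hζdef
  have hordζ : orderOf ζ = 2 * n := by
    rw [hζdef, orderOf_pow_of_dvd hmne (by rw [hordξ, hm]; exact dvd_mul_left m (2 * n)), hordξ, hm]
    exact Nat.mul_div_cancel _ (Nat.pos_of_ne_zero hmne)
  have hζpow : ζ ^ (2 * n) = 1 := by rw [← hordζ]; exact pow_orderOf_eq_one ζ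
  set e := pw (2 * n) ζ hζpow with he
  have h2F : (2 : ZMod p) ≠ 0 := by
    intro h
    have : ((2 : ℕ) : ZMod p) = 0 := by exact_mod_cast h
    rw [ZMod.natCast_eq_zero_iff] at this
    exact absurd (Nat.le_of_dvd (by norm_num) this) (by omega)
  have hen : ((Additive.toMul (e (n : ZMod (2 * n))) : (ZMod p)ˣ) : ZMod p) = -1 := by
    rw [he, pw_natCast]
    have hsq : ((ζ ^ n : (ZMod p)ˣ) : ZMod p) ^ 2 = 1 := by
      rw [← Units.val_pow_eq_pow_val, ← pow_mul, mul_comm, hζpow, Units.val_one]
    have hne : ((ζ ^ n : (ZMod p)ˣ) : ZMod p) ≠ 1 := by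
      intro h1
      have h1' : ζ ^ n = 1 := Units.ext (by simpa using h1)
      have := orderOf_dvd_of_pow_eq_one h1'
      rw [hordζ] at this
      have := Nat.le_of_dvd (by omega) this
      omega
    rw [sq] at hsq
    rcases mul_self_eq_one_iff.mp hsq with h | h
    · exact absurd h hne
    · exact h
  set φ := phi e hen with hφ
  have hinj : Function.Injective e := pw_injective (2 * n) ζ hζpow hordζ
  have hfpf : ∀ (g : QuaternionGroup n) (v : Multiplicative (ZMod p × ZMod p)),
      φ g v = v → g = 1 ∨ v = 1 := fun g v h => fpf e hen hinj h2F g v h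
  have hntN : Nontrivial (Multiplicative (ZMod p × ZMod p)) := inferInstance
  refine ⟨Multiplicative (ZMod p × ZMod p) ⋊[φ] QuaternionGroup n, inferInstance, ?_,
    (SemidirectProduct.inr).range, Cfsg.Agent.S4299.frob_of_fpf φ hfpf, ?_⟩
  · exact Finite.of_equiv _ SemidirectProduct.equivProd.symm
  · exact ⟨(MonoidHom.ofInjective SemidirectProduct.inr_injective).symm⟩

end Cfsg.Agent.S4297
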