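import Cfsg.Statements.S4298
import Cfsg.Agent.S4299

set_option autoImplicit false
open Cfsg

namespace Cfsg.Agent.S4298

/-- Lookup table: an embedding of SL(2,3) into SL(2,5), indexed by `27a+9b+3c+d`. -/
def tabL : List (ZMod 5 × ZMod 5 × ZMod 5 × ZMod 5) :=
  [(0, 0, 0, 0), (0, 0, 0, 0), (0, 0, 0, 0), (0, 0, 0, 0), (0, 0, 0, 0), (0, 0, 0, 0),
   (0, 0, 0, 0), (0, 0, 0, 0), (0, 0, 0, 0), (0, 0, 0, 0), (0, 0, 0, 0), (0, 0, 0, 0),
   (0, 0, 0, 0), (0, 0, 0, 0), (0, 0, 0, 0), (0, 4, 1, 0), (2, 4, 3, 4), (3, 2, 1, 1),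
   (0, 0, 0, 0), (0, 0, 0, 0), (0, 0, 0, 0), (0, 1, 4, 0), (2, 3, 4, 4), (3, 1, 2, 1),
   (0, 0, 0, 0), (0, 0, 0, 0), (0, 0, 0, 0), (0, 0, 0, 0), (1, 0, 0, 1), (0, 0, 0, 0),
   (0, 0, 0, 0), (1, 2, 1, 3), (0, 0, 0, 0), (0, 0, 0, 0), (3, 3, 4, 1), (0, 0, 0, 0),
   (0, 0, 0, 0), (1, 1, 2, 3), (0, 0, 0, 0), (0, 0, 0, 0), (0, 0, 0, 0), (0, 2, 2, 0),
   (4, 2, 1, 2), (0, 0, 0, 0), (0, 0, 0, 0), (0, 0, 0, 0), (3, 4, 3, 1), (0, 0, 0, 0),
   (4, 1, 2, 2), (0, 0, 0, 0), (0, 0, 0, 0), (0, 0, 0, 0), (0, 0, 0, 0), (3, 0, 0, 2),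
   (0, 0, 0, 0), (0, 0, 0, 0), (4, 0, 0, 4), (0, 0, 0, 0), (0, 0, 0, 0), (2, 2, 1, 4),
   (0, 0, 0, 0), (0, 0, 0, 0), (4, 3, 4, 2), (0, 0, 0, 0), (0, 0, 0, 0), (2, 1, 2, 4),
   (0, 0, 0, 0), (2, 0, 0, 3), (0, 0, 0, 0), (1, 4, 3, 3), (0, 0, 0, 0), (0, 0, 0, 0),
   (0, 0, 0, 0), (0, 0, 0, 0), (4, 4, 3, 2), (1, 3, 4, 3), (0, 0, 0, 0), (0, 0, 0, 0),
   (0, 0, 0, 0), (0, 3, 3, 0), (0, 0, 0, 0)]

def tab (a b c d : ZMod 3) : ZMod 5 × ZMod 5 × ZMod 5 × ZMod 5 :=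
  tabL.getD (27 * a.val + 9 * b.val + 3 * c.val + d.val) (0, 0, 0, 0)

def mul4 (s t : ZMod 5 × ZMod 5 × ZMod 5 × ZMod 5) : ZMod 5 × ZMod 5 × ZMod 5 × ZMod 5 :=
  (s.1 * t.1 + s.2.1 * t.2.2.1, s.1 * t.2.1 + s.2.1 * t.2.2.2,
   s.2.2.1 * t.1 + s.2.2.2 * t.2.2.1, s.2.2.1 * t.2.1 + s.2.2.2 * t.2.2.2)

set_option maxRecDepth 100000 in
theorem tab_mul : ∀ a b c d : ZMod 3, a * d - b * c = 1 → ∀ a' b' c' d' : ZMod 3,
    a' * d' - b' * c' = 1 →
    tab (a * a' + b * c') (a * b' + b * d') (c * a' + d * c') (c * b' + d * d') =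
      mul4 (tab a b c d) (tab a' b' c' d') := by
  decide

theorem tab_one : tab 1 0 0 1 = (1, 0, 0, 1) := by decide

set_option synthInstance.maxSize 2000 in
set_option maxRecDepth 100000 in
theorem tab_fpf : ∀ a b c d : ZMod 3, a * d - b * c = 1 → ∀ u v : ZMod 5,
    ((tab a b c d).1 * u + (tab a b c d).2.1 * v = u ∧
      (tab a b c d).2.2.1 * u + (tab a b c d).2.2.2 * v = v) →
    (a = 1 ∧ b = 0 ∧ c = 0 ∧ d = 1) ∨ (u = 0 ∧ v = 0) := by
  decide

abbrev SL23 := Matrix.SpecialLinearGroup (Fin 2) (ZMod 3)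

/-- The table entry of a group element. -/
def tabG (g : SL23) : ZMod 5 × ZMod 5 × ZMod 5 × ZMod 5 :=
  tab (g.1 0 0) (g.1 0 1) (g.1 1 0) (g.1 1 1)

theorem det_eq (g : SL23) : g.1 0 0 * g.1 1 1 - g.1 0 1 * g.1 1 0 = 1 := by
  have := g.2
  rwa [Matrix.det_fin_two] at this

theorem tabG_mul (g h : SL23) : tabG (g * h) = mul4 (tabG g) (tabG h) := by
  have := tab_mul _ _ _ _ (det_eq g) _ _ _ _ (det_eq h)
  simp only [tabG, Matrix.SpecialLinearGroup.coe_mul, Matrix.mul_apply, Fin.sum_univ_two]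
  exact this

theorem tabG_one : tabG 1 = (1, 0, 0, 1) := by
  simp only [tabG, Matrix.SpecialLinearGroup.coe_one]
  simpa using tab_one

/-- The action on pairs. -/
def act (g : SL23) (w : ZMod 5 × ZMod 5) : ZMod 5 × ZMod 5 :=
  ((tabG g).1 * w.1 + (tabG g).2.1 * w.2, (tabG g).2.2.1 * w.1 + (tabG g).2.2.2 * w.2)

@[instance_reducible]
def dma : DistribMulAction SL23 (ZMod 5 × ZMod 5) where
  smul := act
  one_smul := by
    intro w
    change act 1 w = w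
    simp [act, tabG_one]
  mul_smul := by
    intro g h w
    change act (g * h) w = act g (act h w)
    simp only [act, tabG_mul, mul4]
    ext <;> simp only <;> ring
  smul_zero := by
    intro g
    change act g 0 = 0
    simp [act]
  smul_add := by
    intro g v w
    change act g (v + w) = act g v + act g w
    simp only [act, Prod.fst_add, Prod.snd_add]
    ext <;> simp only [Prod.fst_add, Prod.snd_add] <;> ring

noncomputable def phi : SL23 →* MulAut (Multiplicative (ZMod 5 × ZMod 5)) :=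
  (MulAutMultiplicative (ZMod 5 × ZMod 5)).symm.toMonoidHom.comp
    (@DistribMulAction.toAddAut SL23 (ZMod 5 × ZMod 5) _ _ dma)

theorem phi_apply (g : SL23) (v : Multiplicative (ZMod 5 × ZMod 5)) :
    phi g v = Multiplicative.ofAdd (act g (Multiplicative.toAdd v)) := rfl

theorem fpf (g : SL23) (v : Multiplicative (ZMod 5 × ZMod 5)) (h : phi g v = v) :
    g = 1 ∨ v = 1 := by
  rw [phi_apply] at h
  have h' : act g (Multiplicative.toAdd v) = Multiplicative.toAdd v :=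
    congrArg Multiplicative.toAdd h
  set w := Multiplicative.toAdd v with hw
  have h1 := congrArg Prod.fst h'
  have h2 := congrArg Prod.snd h'
  simp only [act] at h1 h2
  rcases tab_fpf _ _ _ _ (det_eq g) w.1 w.2 ⟨h1, h2⟩ with ⟨ha, hb, hc, hd⟩ | ⟨hu, hv⟩
  · left
    apply Subtype.ext
    ext i j
    fin_cases i <;> fin_cases j <;> simp [ha, hb, hc, hd]
  · right
    change w = 0
    exact Prod.ext hu hv

/-- The group SL(2,3) of order 24 (the binary tetrahedral group) occurs as a Frobenius complement of some finite Frobenius group. -/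
theorem result :
    ∃ (L : Type) (_ : Group L) (_ : Finite L) (H : Subgroup L), Cfsg.IsFrobeniusComplement H ∧ Nonempty (H ≃* Matrix.SpecialLinearGroup (Fin 2) (ZMod 3)) := by
  have h15 : Fact (1 < 5) := ⟨by norm_num⟩
  have hntN : Nontrivial (Multiplicative (ZMod 5 × ZMod 5)) := inferInstance
  have hntK : Nontrivial SL23 := by
    refine ⟨⟨1, -1, ?_⟩⟩
    intro h
    have := congrArg (fun g : SL23 => g.1 0 0) h
    simp at this
    revert this
    decide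
  refine ⟨Multiplicative (ZMod 5 × ZMod 5) ⋊[phi] SL23, inferInstance, ?_,
    (SemidirectProduct.inr).range, Cfsg.Agent.S4299.frob_of_fpf phi fpf, ?_⟩
  · exact Finite.of_equiv _ SemidirectProduct.equivProd.symm
  · exact ⟨(MonoidHom.ofInjective SemidirectProduct.inr_injective).symm⟩

end Cfsg.Agent.S4298
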