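import Cfsg.Statements.S4300

set_option autoImplicit false
open Cfsg

namespace Cfsg.Agent.S4300

/-- Let G act faithfully and primitively on a set X, and suppose the stabilizer of some point is a simple group. Then either G is simple, or G has a normal subgroup, neither trivial nor the whole group, that acts regularly on X (transitively with trivial point stabilizers). -/
theorem result {G : Type*} [Group G] {X : Type*} [MulAction G X] [FaithfulSMul G X]
    (hprim : MulAction.IsPreprimitive G X) (x : X) (hsimple : IsSimpleGroup (MulAction.stabilizer G x)) :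
    IsSimpleGroup G ∨ ∃ N : Subgroup G, N.Normal ∧ N ≠ ⊥ ∧ N ≠ ⊤ ∧
      MulAction.IsPretransitive N X ∧ ∀ y : X, MulAction.stabilizer N y = ⊥ := by
  by_cases hG : IsSimpleGroup G
  · exact Or.inl hG
  right
  have hnt : Nontrivial G := by
    have : Nontrivial (MulAction.stabilizer G x) := hsimple.toNontrivial
    exact (Subtype.coe_injective (p := fun g : G => g ∈ MulAction.stabilizer G x)).nontrivial
  -- a proper nontrivial normal subgroup
  have hex : ∃ N : Subgroup G, N.Normal ∧ N ≠ ⊥ ∧ N ≠ ⊤ := by
    by_contra hcon
    push Not at hcon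
    apply hG
    refine ⟨fun N hN => ?_⟩
    by_cases h : N = ⊥
    · exact Or.inl h
    · exact Or.inr (hcon N hN h)
  obtain ⟨N, hN, hbot, htop⟩ := hex
  have hqp : MulAction.IsQuasiPreprimitive G X := inferInstance
  have hfix : MulAction.fixedPoints N X ≠ Set.univ := by
    intro hfix
    apply hbot
    rw [Subgroup.eq_bot_iff_forall]
    intro n hn
    apply FaithfulSMul.eq_of_smul_eq_smul (α := X)
    intro a
    have ha : a ∈ MulAction.fixedPoints N X := by rw [hfix]; exact Set.mem_univ a
    rw [one_smul]
    exact ha ⟨n, hn⟩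
  have htr : MulAction.IsPretransitive N X := hqp.isPretransitive_of_normal hfix
  have hpt : MulAction.IsPretransitive G X := hprim.toIsPretransitive
  -- N ∩ G_x is normal in G_x
  have hnorm : (N.subgroupOf (MulAction.stabilizer G x)).Normal := inferInstance
  have hcases := hsimple.eq_bot_or_eq_top_of_normal _ hnorm
  have hinf : ∀ n ∈ N, n • x = x → n = 1 := by
    rcases hcases with h | h
    · intro n hn hnx
      have : (⟨n, hnx⟩ : MulAction.stabilizer G x) ∈ N.subgroupOf (MulAction.stabilizer G x) := by
        rw [Subgroup.mem_subgroupOf]; exact hn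
      rw [h, Subgroup.mem_bot] at this
      exact congrArg Subtype.val this
    · exfalso
      apply htop
      rw [Subgroup.subgroupOf_eq_top] at h
      rw [eq_top_iff]
      intro g _
      obtain ⟨n, hn⟩ := MulAction.exists_smul_eq N x (g • x)
      have h1 : (n : G)⁻¹ * g ∈ MulAction.stabilizer G x := by
        rw [MulAction.mem_stabilizer_iff, mul_smul, ← hn]
        change (n : G)⁻¹ • ((n : G) • x) = x
        rw [inv_smul_smul]
      have h2 : (n : G)⁻¹ * g ∈ N := h h1
      have h3 : (n : G) * ((n : G)⁻¹ * g) ∈ N := N.mul_mem n.2 h2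
      rwa [mul_inv_cancel_left] at h3
  refine ⟨N, hN, hbot, htop, htr, ?_⟩
  intro y
  rw [Subgroup.eq_bot_iff_forall]
  intro n hn
  rw [MulAction.mem_stabilizer_iff] at hn
  obtain ⟨g, hg⟩ := MulAction.exists_smul_eq G x y
  have h1 : (g⁻¹ * (n : G) * g) • x = x := by
    rw [mul_smul, mul_smul, hg]
    have : (n : G) • y = y := hn
    rw [this, ← hg, inv_smul_smul]
  have h2 : g⁻¹ * (n : G) * g ∈ N := by
    have := hN.conj_mem n n.2 g⁻¹
    rwa [inv_inv] at this
  have h3 := hinf _ h2 h1
  have h4 : (n : G) = 1 := by
    have : (n : G) = g * (g⁻¹ * (n : G) * g) * g⁻¹ := by group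
    rw [this, h3]; group
  exact Subtype.ext h4

end Cfsg.Agent.S4300
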