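import Cfsg.Statements.S4301

set_option autoImplicit false
open Cfsg

namespace Cfsg.Agent.S4301

variable {X : Type*}

theorem exists_emb_one {k : ℕ} (hk : 1 ≤ k) (hkX : Nonempty (Fin k ↪ X)) (z : X) :
    ∃ a : Fin k ↪ X, a ⟨0, by omega⟩ = z := by
  classical
  obtain ⟨e⟩ := hkX
  refine ⟨e.trans (Equiv.swap (e ⟨0, by omega⟩) z).toEmbedding, ?_⟩
  simp

theorem exists_emb_two {k : ℕ} (hk : 2 ≤ k) (hkX : Nonempty (Fin k ↪ X)) (z1 z2 : X)
    (hz : z1 ≠ z2) :
    ∃ a : Fin k ↪ X, a ⟨0, by omega⟩ = z1 ∧ a ⟨1, by omega⟩ = z2 := by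
  classical
  obtain ⟨e⟩ := hkX
  set e0 := e ⟨0, by omega⟩ with he0
  set e1 := e ⟨1, by omega⟩ with he1
  have hne : e0 ≠ e1 := by
    intro h
    have := e.injective h
    simp [Fin.ext_iff] at this
  set σ1 := Equiv.swap e0 z1 with hσ1
  set u := σ1 e1 with hu
  have hu1 : u ≠ z1 := by
    intro h
    have : σ1 e1 = σ1 e0 := by rw [← hu, h, hσ1, Equiv.swap_apply_left]
    exact hne (σ1.injective this).symm
  set σ2 := Equiv.swap u z2 with hσ2
  refine ⟨e.trans (σ1.trans σ2).toEmbedding, ?_, ?_⟩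
  · change σ2 (σ1 e0) = z1
    rw [hσ1, Equiv.swap_apply_left, hσ2]
    exact Equiv.swap_apply_of_ne_of_ne hu1.symm hz
  · change σ2 (σ1 e1) = z2
    rw [← hu, hσ2, Equiv.swap_apply_left]

/-- Transitivity on points of `X`. -/
theorem trans_one (G : Subgroup (Equiv.Perm (Option X))) (k : ℕ) (hk : 2 ≤ k)
    (hkX : Nonempty (Fin k ↪ X))
    (htrans : ∀ a b : Fin k ↪ X, ∃ f ∈ G, ∀ i, f (some (a i)) = some (b i)) (z w : X) :
    ∃ f ∈ G, f (some z) = some w := by
  obtain ⟨a, ha⟩ := exists_emb_one (by omega : 1 ≤ k) hkX z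
  obtain ⟨b, hb⟩ := exists_emb_one (by omega : 1 ≤ k) hkX w
  obtain ⟨f, hf, hfab⟩ := htrans a b
  refine ⟨f, hf, ?_⟩
  rw [← ha, ← hb]
  exact hfab _

theorem trans_two (G : Subgroup (Equiv.Perm (Option X))) (k : ℕ) (hk : 2 ≤ k)
    (hkX : Nonempty (Fin k ↪ X))
    (htrans : ∀ a b : Fin k ↪ X, ∃ f ∈ G, ∀ i, f (some (a i)) = some (b i)) (z1 z2 w1 w2 : X)
    (hz : z1 ≠ z2) (hw : w1 ≠ w2) :
    ∃ f ∈ G, f (some z1) = some w1 ∧ f (some z2) = some w2 := by
  obtain ⟨a, ha1, ha2⟩ := exists_emb_two hk hkX z1 z2 hz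
  obtain ⟨b, hb1, hb2⟩ := exists_emb_two hk hkX w1 w2 hw
  obtain ⟨f, hf, hfab⟩ := htrans a b
  refine ⟨f, hf, ?_, ?_⟩
  · rw [← ha1, ← hb1]; exact hfab _
  · rw [← ha2, ← hb2]; exact hfab _

/-- The double coset decomposition `Γ = G ∪ G h G`. -/
theorem mem_union (G : Subgroup (Equiv.Perm (Option X))) (hfix : ∀ f ∈ G, f none = none)
    (k : ℕ) (hk : 2 ≤ k) (hkX : Nonempty (Fin k ↪ X))
    (htrans : ∀ a b : Fin k ↪ X, ∃ f ∈ G, ∀ i, f (some (a i)) = some (b i))
    (h g : Equiv.Perm (Option X)) (hg : g ∈ G) (x y : X)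
    (h1 : h none = some x) (h2 : h (some x) = none) (h3 : h (some y) = some y)
    (h4 : g (some x) = some y) (h5 : g (some y) = some x)
    (h6 : (g * h) ^ 3 ∈ G) (h7 : h ^ 2 ∈ G)
    (h8 : ∀ f ∈ G, f (some x) = some x → h * f * h ∈ G ∧ (h * f * h) (some x) = some x)
    (f : Equiv.Perm (Option X))
    (hf : f ∈ Subgroup.closure ((G : Set (Equiv.Perm (Option X))) ∪ {h})) :
    f ∈ G ∨ ∃ a ∈ G, ∃ b ∈ G, f = a * h * b := by
  have hxy : x ≠ y := by
    intro hxy
    rw [hxy, h3] at h2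
    exact Option.some_ne_none _ h2
  -- Claim A
  have claimA : ∀ f ∈ G, h * f * h ∈ G ∨ ∃ a ∈ G, ∃ b ∈ G, h * f * h = a * h * b := by
    intro f hf
    by_cases hfx : f (some x) = some x
    · exact Or.inl (h8 f hf hfx).1
    · right
      -- f (some x) = some z with z ≠ x
      have hne : f (some x) ≠ none := by
        intro hn
        have : f (some x) = f none := by rw [hn, hfix f hf]
        exact Option.some_ne_none _ (f.injective this)
      obtain ⟨z, hz⟩ := Option.ne_none_iff_exists'.mp hne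
      have hzx : x ≠ z := by
        intro h'
        apply hfx
        rw [hz, h']
      obtain ⟨a, ha, hax, hay⟩ := trans_two G k hk hkX htrans x y x z hxy hzx
      set b := g⁻¹ * a⁻¹ * f with hb
      have hbG : b ∈ G := G.mul_mem (G.mul_mem (G.inv_mem hg) (G.inv_mem ha)) hf
      have hbx : b (some x) = some x := by
        rw [hb]
        simp only [Equiv.Perm.coe_mul, Function.comp_apply, hz]
        have e1 : a⁻¹ (some z) = some y := Equiv.Perm.inv_eq_iff_eq.mpr hay.symm
        have e2 : g⁻¹ (some y) = some x := Equiv.Perm.inv_eq_iff_eq.mpr h4.symm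
        rw [e1, e2]
      obtain ⟨ha', -⟩ := h8 a ha hax
      obtain ⟨hb', -⟩ := h8 b hbG hbx
      refine ⟨(h * a * h) * (h ^ 2)⁻¹ * g⁻¹ * (g * h) ^ 3 * (h ^ 2)⁻¹, ?_,
        g⁻¹ * (h ^ 2)⁻¹ * (h * b * h), ?_, ?_⟩
      · exact G.mul_mem (G.mul_mem (G.mul_mem (G.mul_mem ha' (G.inv_mem h7)) (G.inv_mem hg)) h6)
          (G.inv_mem h7)
      · exact G.mul_mem (G.mul_mem (G.inv_mem hg) (G.inv_mem h7)) hb'
      · have hfab : f = a * g * b := by rw [hb]; group
        rw [hfab]
        simp only [pow_succ, pow_zero, one_mul]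
        group
  induction hf using Subgroup.closure_induction with
  | mem f hf =>
    rcases hf with hf | hf
    · exact Or.inl hf
    · right
      rw [Set.mem_singleton_iff] at hf
      exact ⟨1, G.one_mem, 1, G.one_mem, by rw [hf]; group⟩
  | one => exact Or.inl G.one_mem
  | mul f1 f2 _ _ ih1 ih2 =>
    rcases ih1 with hf1 | ⟨a1, ha1, b1, hb1, rfl⟩
    · rcases ih2 with hf2 | ⟨a2, ha2, b2, hb2, rfl⟩
      · exact Or.inl (G.mul_mem hf1 hf2)
      · right
        exact ⟨f1 * a2, G.mul_mem hf1 ha2, b2, hb2, by group⟩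
    · rcases ih2 with hf2 | ⟨a2, ha2, b2, hb2, rfl⟩
      · right
        exact ⟨a1, ha1, b1 * f2, G.mul_mem hb1 hf2, by group⟩
      · rcases claimA (b1 * a2) (G.mul_mem hb1 ha2) with hm | ⟨a3, ha3, b3, hb3, hm⟩
        · left
          have : a1 * h * b1 * (a2 * h * b2) = a1 * (h * (b1 * a2) * h) * b2 := by group
          rw [this]
          exact G.mul_mem (G.mul_mem ha1 hm) hb2
        · right
          refine ⟨a1 * a3, G.mul_mem ha1 ha3, b3 * b2, G.mul_mem hb3 hb2, ?_⟩
          have : a1 * h * b1 * (a2 * h * b2) = a1 * (h * (b1 * a2) * h) * b2 := by group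
          rw [this, hm]
          group
  | inv f _ ih =>
    rcases ih with hf | ⟨a, ha, b, hb, rfl⟩
    · exact Or.inl (G.inv_mem hf)
    · right
      refine ⟨b⁻¹ * (h ^ 2)⁻¹, G.mul_mem (G.inv_mem hb) (G.inv_mem h7), a⁻¹, G.inv_mem ha, ?_⟩
      simp only [pow_succ, pow_zero, one_mul]
      group

theorem tail_exists {k : ℕ} (c : Fin (k + 1) → Option X) (hc : Function.Injective c)
    (h0 : c 0 = none) : ∃ c'' : Fin k ↪ X, ∀ i : Fin k, c i.succ = some (c'' i) := by
  have hne : ∀ i : Fin k, c i.succ ≠ none := by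
    intro i hi
    have := hc (hi.trans h0.symm)
    exact Fin.succ_ne_zero i this
  choose w hw using fun i => Option.ne_none_iff_exists'.mp (hne i)
  refine ⟨⟨w, ?_⟩, hw⟩
  intro i j hij
  have : c i.succ = c j.succ := by rw [hw i, hw j, hij]
  exact Fin.succ_injective _ (hc this)

/-- One-point extension of a multiply transitive group. Let X be a set and G a group of permutations of Option X (the set X with one extra point ∗ = none) all of whose elements fix ∗, such that G is k-transitive on the points of X for some k ≥ 2, X having at least k points. Suppose a permutation h of Option X and an element g of G satisfy: h interchanges ∗ with a point x of X and fixes a point y of X; g interchanges x and y; (g h)³ and h² lie in G; and for every f in G fixing x, the product h f h lies in G and fixes x. Then an element of the group generated by G and h fixes ∗ exactly when it lies in G, and that group acts (k+1)-transitively on Option X. -/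
theorem result {X : Type*} (G : Subgroup (Equiv.Perm (Option X))) (hfix : ∀ f ∈ G, f none = none)
    (k : ℕ) (hk : 2 ≤ k) (hkX : Nonempty (Fin k ↪ X))
    (htrans : ∀ a b : Fin k ↪ X, ∃ f ∈ G, ∀ i, f (some (a i)) = some (b i))
    (h g : Equiv.Perm (Option X)) (hg : g ∈ G) (x y : X)
    (h1 : h none = some x) (h2 : h (some x) = none) (h3 : h (some y) = some y)
    (h4 : g (some x) = some y) (h5 : g (some y) = some x)
    (h6 : (g * h) ^ 3 ∈ G) (h7 : h ^ 2 ∈ G)
    (h8 : ∀ f ∈ G, f (some x) = some x → h * f * h ∈ G ∧ (h * f * h) (some x) = some x) :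
    (∀ f ∈ Subgroup.closure ((G : Set (Equiv.Perm (Option X))) ∪ {h}), f none = none ↔ f ∈ G) ∧
      MulAction.IsMultiplyPretransitive (Subgroup.closure ((G : Set (Equiv.Perm (Option X))) ∪ {h})) (Option X) (k + 1) := by
  set Γ := Subgroup.closure ((G : Set (Equiv.Perm (Option X))) ∪ {h}) with hΓ
  have hGΓ : ∀ f ∈ G, f ∈ Γ := fun f hf => Subgroup.subset_closure (Or.inl hf)
  have hhΓ : h ∈ Γ := Subgroup.subset_closure (Or.inr rfl)
  constructor
  · intro f hf
    constructor
    · intro hfn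
      rcases mem_union G hfix k hk hkX htrans h g hg x y h1 h2 h3 h4 h5 h6 h7 h8 f hf with
        hfG | ⟨a, ha, b, hb, rfl⟩
      · exact hfG
      · exfalso
        simp only [Equiv.Perm.coe_mul, Function.comp_apply, hfix b hb, h1] at hfn
        have : a (some x) = a none := by rw [hfn, hfix a ha]
        exact Option.some_ne_none _ (a.injective this)
    · exact hfix f
  · -- (k+1)-transitivity
    have move0 : ∀ o : Option X, ∃ γ ∈ Γ, γ o = none := by
      intro o
      rcases o with _ | z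
      · exact ⟨1, Γ.one_mem, rfl⟩
      · obtain ⟨f, hf, hfz⟩ := trans_one G k hk hkX htrans z x
        refine ⟨h * f, Γ.mul_mem hhΓ (hGΓ f hf), ?_⟩
        simp [hfz, h2]
    rw [MulAction.IsMultiplyPretransitive]
    refine ⟨fun a b => ?_⟩
    obtain ⟨γa, hγa, ha0⟩ := move0 (a 0)
    obtain ⟨γb, hγb, hb0⟩ := move0 (b 0)
    obtain ⟨a'', ha''⟩ := tail_exists (fun i => γa (a i)) (γa.injective.comp a.injective) ha0
    obtain ⟨b'', hb''⟩ := tail_exists (fun i => γb (b i)) (γb.injective.comp b.injective) hb0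
    obtain ⟨f, hf, hfab⟩ := htrans a'' b''
    refine ⟨⟨γb⁻¹ * f * γa, Γ.mul_mem (Γ.mul_mem (Γ.inv_mem hγb) (hGΓ f hf)) hγa⟩, ?_⟩
    ext i : 1
    change (γb⁻¹ * f * γa) (a i) = b i
    simp only [Equiv.Perm.coe_mul, Function.comp_apply]
    rw [Equiv.Perm.inv_eq_iff_eq]
    refine Fin.cases ?_ (fun j => ?_) i
    · rw [ha0, hb0, hfix f hf]
    · have e1 : γa (a j.succ) = some (a'' j) := ha'' j
      have e2 : γb (b j.succ) = some (b'' j) := hb'' j
      rw [e1, e2, hfab]

end Cfsg.Agent.S4301
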