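import Cfsg.Statements.S4306
import Cfsg.Agent.Lib.Helper56.FrobStruct
import Cfsg.Agent.Lib.Helper56.FrobGroup
-- import your own Cfsg.Agent.* helpers here

set_option autoImplicit false
open Cfsg

namespace Cfsg.Agent.S4306

open Cfsg.Agent.Lib.Helper56 in
/-- the ordered version: `p < q` -/
theorem aux_ordered {G A : Type*} [Group G] [Finite G]
    [Group.IsSolvable G] [Group A] [Finite A] [MulDistribMulAction A G] (p q : ℕ) (hp : p.Prime)
    (hq : q.Prime) (hpq : p < q)
    (hA : Nat.card A = p * q) (hAna : ¬ IsMulCommutative A) (hcop : (Nat.card G).Coprime (p * q))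
    (hfpf : ∀ g : G, (∀ a : A, a • g = g) → g = 1) :
    ∃ F : Subgroup G, ∃ hF : F.Normal, Group.IsNilpotent ↥F ∧ Group.IsNilpotent (G ⧸ F) := by
  haveI := Fact.mk hp
  haveI := Fact.mk hq
  have hna : ∃ x y : A, x * y ≠ y * x := by
    by_contra hcon
    push Not at hcon
    exact hAna ⟨⟨hcon⟩⟩
  obtain ⟨a, b, hB⟩ := FrobL.exists_isFrob p q hp hq hpq hA hna
  have hcardB : Nat.card A = q * p := by rw [hA, mul_comm]
  have hcop' : (Nat.card G).Coprime (q * p) := by rw [mul_comm]; exact hcop
  obtain ⟨j, hj⟩ := FrobGp.frob_lcs hB hcardB (Nat.card G + 1) G (MulDistribMulAction.toMulAut A G)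
    (Nat.lt_succ_self _) hcop' (fun g hg => hfpf g (fun x => hg x))
  haveI hFn : (Cfsg.fittingSubgroup G).Normal := Cfsg.Agent.Lib.Helper13.fittingSubgroup_normal
  exact ⟨Cfsg.fittingSubgroup G, hFn, Cfsg.Agent.Lib.Helper01.fitting_isNilpotent,
    WardG.quotient_isNilpotent_of_lcs_le _ ⟨j, hj⟩⟩

/-- Let `A` be a non-abelian group of order `pq` with `p, q` distinct primes, acting by automorphisms on a finite solvable group `G` of order prime to `pq`, so that only the identity of `G` is fixed by all of `A`. Then `G` has Fitting height at most 2: there is a normal nilpotent subgroup `F` of `G` with `G/F` nilpotent. -/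
theorem result {G A : Type*} [Group G] [Finite G]
    [Group.IsSolvable G] [Group A] [Finite A] [MulDistribMulAction A G] (p q : ℕ) (hp : p.Prime) (hq : q.Prime) (hpq : p ≠ q)
    (hA : Nat.card A = p * q) (hAna : ¬ IsMulCommutative A) (hcop : (Nat.card G).Coprime (p * q))
    (hfpf : ∀ g : G, (∀ a : A, a • g = g) → g = 1) :
    ∃ F : Subgroup G, ∃ hF : F.Normal, Group.IsNilpotent ↥F ∧ Group.IsNilpotent (G ⧸ F) := by
  rcases lt_or_gt_of_ne hpq with h | h
  · exact aux_ordered p q hp hq h hA hAna hcop hfpf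
  · exact aux_ordered q p hq hp h (by rw [hA, mul_comm]) hAna (by rw [mul_comm]; exact hcop) hfpf

end Cfsg.Agent.S4306
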