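import Cfsg.Statements.S4309

set_option autoImplicit false
open Cfsg

namespace Cfsg.Agent.S4309

theorem relIndex_eq_of_normal {G : Type*} [Group G] [Finite G] (H A : Subgroup G) [A.Normal] :
    H.relIndex A = H.relIndex (H ⊔ A) := by
  have e1 : Nat.card H * H.relIndex (H ⊔ A) = (⊥ : Subgroup G).relIndex (H ⊔ A) := by
    rw [← Subgroup.relIndex_bot_left]
    exact Subgroup.relIndex_mul_relIndex _ _ _ bot_le le_sup_left
  have e2 : Nat.card A * A.relIndex H = (⊥ : Subgroup G).relIndex (H ⊔ A) := by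
    rw [← Subgroup.relIndex_bot_left, ← Subgroup.relIndex_sup_right H A]
    exact Subgroup.relIndex_mul_relIndex _ _ _ bot_le le_sup_right
  have e3 : Nat.card (H ⊓ A : Subgroup G) * A.relIndex H = Nat.card H := by
    rw [← Subgroup.relIndex_bot_left, ← Subgroup.relIndex_bot_left, ← Subgroup.inf_relIndex_left H A]
    exact Subgroup.relIndex_mul_relIndex _ _ _ bot_le inf_le_left
  have e4 : Nat.card (H ⊓ A : Subgroup G) * H.relIndex A = Nat.card A := by
    rw [← Subgroup.relIndex_bot_left, ← Subgroup.relIndex_bot_left, ← Subgroup.inf_relIndex_right H A]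
    exact Subgroup.relIndex_mul_relIndex _ _ _ bot_le inf_le_right
  have hpos1 : 0 < Nat.card (H ⊓ A : Subgroup G) := Nat.card_pos
  have hpos2 : 0 < A.relIndex H :=
    Nat.pos_of_dvd_of_pos (Subgroup.relIndex_dvd_card A H) Nat.card_pos
  have key : (Nat.card (H ⊓ A : Subgroup G) * A.relIndex H) * H.relIndex A =
      (Nat.card (H ⊓ A : Subgroup G) * A.relIndex H) * H.relIndex (H ⊔ A) := by
    calc (Nat.card (H ⊓ A : Subgroup G) * A.relIndex H) * H.relIndex A
        = (Nat.card (H ⊓ A : Subgroup G) * H.relIndex A) * A.relIndex H := by ring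
      _ = Nat.card A * A.relIndex H := by rw [e4]
      _ = Nat.card H * H.relIndex (H ⊔ A) := by rw [e2, e1]
      _ = (Nat.card (H ⊓ A : Subgroup G) * A.relIndex H) * H.relIndex (H ⊔ A) := by rw [e3]
  exact Nat.eq_of_mul_eq_mul_left (Nat.mul_pos hpos1 hpos2) key

/-- The Hall property passes to normal subgroups and to quotients. If H is a Hall π-subgroup of the finite group G and A is a normal subgroup of G, then H ∩ A is a Hall π-subgroup of A and the image HA/A is a Hall π-subgroup of G/A. -/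
theorem result {G : Type*} [Group G] [Finite G] (π : Set ℕ)
    (H A : Subgroup G) [A.Normal] (hH : Cfsg.IsPiHall π H) :
    Cfsg.IsPiHall π ((H ⊓ A).subgroupOf A) ∧ Cfsg.IsPiHall π (H.map (QuotientGroup.mk' A)) := by
  obtain ⟨h1, h2⟩ := hH
  refine ⟨⟨?_, ?_⟩, ⟨?_, ?_⟩⟩
  · intro p hp hdvd
    apply h1 p hp
    have hc : Nat.card ((H ⊓ A).subgroupOf A) = Nat.card (H ⊓ A : Subgroup G) :=
      Nat.card_congr (Subgroup.subgroupOfEquivOfLe (inf_le_right : H ⊓ A ≤ A)).toEquiv
    rw [hc] at hdvd
    exact hdvd.trans (Subgroup.card_dvd_of_le inf_le_left)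
  · intro p hp hpπ hdvd
    apply h2 p hp hpπ
    have hi : ((H ⊓ A).subgroupOf A).index = H.relIndex (H ⊔ A) := by
      show (H ⊓ A).relIndex A = _
      rw [Subgroup.inf_relIndex_right, relIndex_eq_of_normal]
    rw [hi] at hdvd
    exact hdvd.trans (Subgroup.relIndex_dvd_index_of_le le_sup_left)
  · intro p hp hdvd
    exact h1 p hp (hdvd.trans (Subgroup.card_map_dvd H _))
  · intro p hp hpπ hdvd
    exact h2 p hp hpπ (hdvd.trans (Subgroup.index_map_dvd H (QuotientGroup.mk'_surjective A)))

end Cfsg.Agent.S4309
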