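import Cfsg.Statements.S4314
import Mathlib

set_option autoImplicit false
open Cfsg

namespace Cfsg.Agent.S4314

open scoped Pointwise

/-- A subgroup containing the complement of a proper subgroup is everything. -/
theorem eq_top_of_compl_subset {G : Type*} [Group G] (H M : Subgroup G) (hM : M ≠ ⊤)
    (h : ∀ g, g ∉ M → g ∈ H) : H = ⊤ := by
  obtain ⟨t, ht⟩ : ∃ t, t ∉ M := by
    by_contra hcon
    exact hM (eq_top_iff.2 fun x _ => by_contra fun hx => hcon ⟨x, hx⟩)
  rw [eq_top_iff]
  intro g _
  by_cases hg : g ∈ M
  · have h1 : g * t ∉ M := by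
      intro h2
      apply ht
      have := M.mul_mem (M.inv_mem hg) h2
      simpa using this
    have h3 := H.mul_mem (h _ h1) (H.inv_mem (h t ht))
    simpa using h3
  · exact h g hg

/-- Class sizes in a quotient divide class sizes upstairs. -/
theorem index_centralizer_quotient_dvd {G : Type*} [Group G] (N : Subgroup G) [N.Normal] (g : G) :
    (Subgroup.centralizer ({(QuotientGroup.mk' N g)} : Set (G ⧸ N))).index ∣
      (Subgroup.centralizer ({g} : Set G)).index := by
  have h1 : (Subgroup.centralizer ({g} : Set G)).map (QuotientGroup.mk' N) ≤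
      Subgroup.centralizer ({(QuotientGroup.mk' N g)} : Set (G ⧸ N)) := by
    rintro _ ⟨c, hc, rfl⟩
    rw [SetLike.mem_coe, Subgroup.mem_centralizer_singleton_iff] at hc
    rw [Subgroup.mem_centralizer_singleton_iff, ← map_mul, ← map_mul, hc]
  exact (Subgroup.index_dvd_of_le h1).trans
    (Subgroup.index_map_dvd _ (QuotientGroup.mk'_surjective N))

/-- Core-free subgroup of prime index `p`: an element of order `p` has centralizer of order `p`,
and `p` does not divide the order of the subgroup. -/
theorem card_centralizer_of_prime_index {Γ : Type*} [Group Γ] [Finite Γ] (C : Subgroup Γ) (p : ℕ)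
    [hp : Fact p.Prime] (hidx : C.index = p) (hcore : C.normalCore = ⊥) (σ : Γ)
    (hσ : orderOf σ = p) :
    Nat.card (Subgroup.centralizer ({σ} : Set Γ)) = p ∧ ¬ p ∣ Nat.card C ∧
      Nat.card C ∣ (p - 1).factorial := by
  classical
  have hcardX : Nat.card (Γ ⧸ C) = p := hidx
  -- embedding into the symmetric group
  have hinj : Function.Injective (MulAction.toPermHom Γ (Γ ⧸ C)) := by
    rw [← MonoidHom.ker_eq_bot_iff, ← Subgroup.normalCore_eq_ker, hcore]
  have hdvd : Nat.card Γ ∣ p.factorial := by
    have := Subgroup.card_dvd_of_injective _ hinj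
    rwa [Nat.card_perm, hcardX] at this
  have hC : Nat.card C ∣ (p - 1).factorial := by
    rw [← C.card_mul_index, hidx] at hdvd
    have hp1 : p = (p - 1) + 1 := by have := hp.out.pos; omega
    rw [hp1, Nat.factorial_succ, ← hp1, mul_comm] at hdvd
    exact Nat.dvd_of_mul_dvd_mul_left hp.out.pos hdvd
  have hpC : ¬ p ∣ Nat.card C := by
    intro h
    have := (hp.out.dvd_factorial).1 (h.trans hC)
    have := hp.out.pos
    omega
  refine ⟨?_, hpC, hC⟩
  -- σ fixes no coset
  have hfix : ∀ x : Γ ⧸ C, σ • x ≠ x := by
    intro x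
    induction x using QuotientGroup.induction_on with
    | H g =>
      intro h
      rw [MulAction.Quotient.smul_mk, QuotientGroup.eq] at h
      -- (σ g)⁻¹ * g ∈ C
      have h1 : g⁻¹ * σ⁻¹ * g ∈ C := by simpa [mul_assoc] using h
      have h2 : orderOf (g⁻¹ * σ⁻¹ * g) = p := by
        have : g⁻¹ * σ⁻¹ * g = MulAut.conj g⁻¹ σ⁻¹ := by rw [MulAut.conj_apply, inv_inv]
        rw [this, MulEquiv.orderOf_eq, orderOf_inv, hσ]
      apply hpC
      rw [← h2]
      have := Subgroup.orderOf_dvd_natCard C h1
      exact this
  -- the cyclic group generated by σ acts transitively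
  have hHcard : Nat.card (Subgroup.zpowers σ) = p := by rw [Nat.card_zpowers, hσ]
  have hHprime : Fact (Nat.card (Subgroup.zpowers σ)).Prime := ⟨hHcard.symm ▸ hp.out⟩
  let x₀ : Γ ⧸ C := ((1 : Γ) : Γ ⧸ C)
  have hstab : MulAction.stabilizer (Subgroup.zpowers σ) x₀ = ⊥ := by
    rcases Subgroup.eq_bot_or_eq_top_of_prime_card
      (MulAction.stabilizer (Subgroup.zpowers σ) x₀) with h | h
    · exact h
    · exfalso
      have h1 : (⟨σ, Subgroup.mem_zpowers σ⟩ : Subgroup.zpowers σ) ∈
          MulAction.stabilizer (Subgroup.zpowers σ) x₀ := by rw [h]; trivial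
      exact hfix x₀ (MulAction.mem_stabilizer_iff.1 h1)
  have horbcard : Nat.card (MulAction.orbit (Subgroup.zpowers σ) x₀) = p := by
    rw [Nat.card_congr (MulAction.orbitEquivQuotientStabilizer (Subgroup.zpowers σ) x₀), hstab]
    have : Nat.card (Subgroup.zpowers σ ⧸ (⊥ : Subgroup (Subgroup.zpowers σ))) =
        (⊥ : Subgroup (Subgroup.zpowers σ)).index := rfl
    rw [this, Subgroup.index_bot, hHcard]
  have horb : MulAction.orbit (Subgroup.zpowers σ) x₀ = Set.univ := by
    apply Set.eq_of_subset_of_ncard_le (Set.subset_univ _) _ Set.finite_univ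
    rw [Set.ncard_univ, hcardX, ← Nat.card_coe_set_eq, horbcard]
  -- freeness of the centralizer
  have hfree : ∀ d ∈ Subgroup.centralizer ({σ} : Set Γ), d • x₀ = x₀ → d = 1 := by
    intro d hd hdx
    have hc : Commute d σ := Subgroup.mem_centralizer_singleton_iff.1 hd
    have hall : ∀ y : Γ ⧸ C, d • y = y := by
      intro y
      have hy : y ∈ MulAction.orbit (Subgroup.zpowers σ) x₀ := by rw [horb]; trivial
      obtain ⟨⟨h, hh⟩, rfl⟩ := hy
      obtain ⟨k, rfl⟩ := Subgroup.mem_zpowers_iff.1 hh
      have hcomm : d * σ ^ k = σ ^ k * d := (hc.zpow_right k).eq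
      show d • (σ ^ k • x₀) = σ ^ k • x₀
      rw [smul_smul, hcomm, mul_smul, hdx]
    have hmem : d ∈ C.normalCore := by
      rw [Subgroup.normalCore_eq_ker, MonoidHom.mem_ker]
      ext y
      exact hall y
    rw [hcore] at hmem
    exact Subgroup.mem_bot.1 hmem
  have hle : Nat.card (Subgroup.centralizer ({σ} : Set Γ)) ≤ p := by
    rw [← hcardX]
    apply Nat.card_le_card_of_injective
      (fun d : Subgroup.centralizer ({σ} : Set Γ) => (d : Γ) • x₀)
    intro d d' hdd
    have hdd' : (d : Γ) • x₀ = (d' : Γ) • x₀ := hdd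
    have h1 : ((d' : Γ)⁻¹ * (d : Γ)) • x₀ = x₀ := by
      rw [mul_smul]
      show (d' : Γ)⁻¹ • ((d : Γ) • x₀) = x₀
      rw [hdd', inv_smul_smul]
    have h2 := hfree _ (Subgroup.mul_mem _ (Subgroup.inv_mem _ d'.2) d.2) h1
    apply Subtype.ext
    exact (inv_mul_eq_one.1 h2).symm
  have hdvd2 : p ∣ Nat.card (Subgroup.centralizer ({σ} : Set Γ)) := by
    rw [← hHcard]
    apply Subgroup.card_dvd_of_le
    rw [Subgroup.zpowers_le]
    exact Subgroup.mem_centralizer_singleton_iff.2 rfl
  exact Nat.le_antisymm hle (Nat.le_of_dvd Nat.card_pos hdvd2)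

theorem map_centralizer_le {G : Type*} [Group G] (N : Subgroup G) [N.Normal] (g : G) :
    (Subgroup.centralizer ({g} : Set G)).map (QuotientGroup.mk' N) ≤
      Subgroup.centralizer ({(QuotientGroup.mk' N g)} : Set (G ⧸ N)) := by
  rintro _ ⟨c, hc, rfl⟩
  rw [SetLike.mem_coe, Subgroup.mem_centralizer_singleton_iff] at hc
  rw [Subgroup.mem_centralizer_singleton_iff, ← map_mul, ← map_mul, hc]

/-- Part A: all centralizers normal implies class at most 2. -/
theorem ucs_two_of_all_normal {G : Type*} [Group G] [Finite G]
    (h : ∀ x : G, (Subgroup.centralizer ({x} : Set G)).index = 1 ∨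
      ((Subgroup.centralizer ({x} : Set G)).index).Prime)
    (hn : ∀ x : G, (Subgroup.centralizer ({x} : Set G)).Normal) :
    Subgroup.upperCentralSeries G 2 = ⊤ := by
  have hle : ∀ g : G, commutator G ≤ Subgroup.centralizer ({g} : Set G) := by
    intro g
    rcases h g with h1 | h1
    · rw [Subgroup.index_eq_one] at h1
      rw [h1]; exact le_top
    · have := hn g
      have hf : Fact ((Subgroup.centralizer ({g} : Set G)).index).Prime := ⟨h1⟩
      have hcyc : IsCyclic (G ⧸ Subgroup.centralizer ({g} : Set G)) :=
        isCyclic_of_prime_card (p := (Subgroup.centralizer ({g} : Set G)).index) rfl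
      let _ : CommGroup (G ⧸ Subgroup.centralizer ({g} : Set G)) := IsCyclic.commGroup
      have h2 := Abelianization.commutator_subset_ker
        (QuotientGroup.mk' (Subgroup.centralizer ({g} : Set G)))
      rwa [QuotientGroup.ker_mk'] at h2
  have hcomm : commutator G ≤ Subgroup.center G := by
    intro c hc
    rw [Subgroup.mem_center_iff]
    intro g
    have := hle g hc
    rw [Subgroup.mem_centralizer_singleton_iff] at this
    exact this.symm
  rw [eq_top_iff]
  intro x _
  rw [Subgroup.mem_upperCentralSeries_succ_iff]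
  intro y
  rw [Subgroup.upperCentralSeries_one]
  apply hcomm
  rw [commutator_def]
  have := Subgroup.commutator_mem_commutator (Subgroup.mem_top x) (Subgroup.mem_top y)
  rwa [commutatorElement_def] at this

/-- Let `G` be a finite group every conjugacy class of which has size 1 or a prime. Then either `G` is nilpotent of class at most 2, or `G/Z(G)` is a non-abelian group of order `pq` for distinct primes `p, q` (a Frobenius group of order `pq`). -/
theorem result {G : Type*} [Group G] [Finite G]
    (h : ∀ x : G, (Subgroup.centralizer ({x} : Set G)).index = 1 ∨ ((Subgroup.centralizer ({x} : Set G)).index).Prime) :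
    Subgroup.upperCentralSeries G 2 = ⊤ ∨
      ∃ p q : ℕ, p.Prime ∧ q.Prime ∧ p ≠ q ∧ Nat.card (G ⧸ Subgroup.center G) = p * q ∧ ¬ IsMulCommutative (G ⧸ Subgroup.center G) := by
  classical
  by_cases hn : ∀ x : G, (Subgroup.centralizer ({x} : Set G)).Normal
  · left; exact ucs_two_of_all_normal h hn
  right
  obtain ⟨x, hx⟩ : ∃ x : G, ¬ (Subgroup.centralizer ({x} : Set G)).Normal := by
    by_contra hcon
    exact hn fun x => by_contra fun hx => hcon ⟨x, hx⟩
  have hidx : ((Subgroup.centralizer ({x} : Set G)).index).Prime := by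
    rcases h x with h1 | h1
    · exfalso; apply hx
      rw [Subgroup.index_eq_one] at h1
      rw [h1]; infer_instance
    · exact h1
  generalize hC : Subgroup.centralizer ({x} : Set G) = C at hx hidx
  generalize hp : C.index = p at hidx
  have hpf : Fact p.Prime := ⟨hidx⟩
  let π := QuotientGroup.mk' C.normalCore
  have hπ : Function.Surjective π := QuotientGroup.mk'_surjective _
  have hKC : C.normalCore ≤ C := Subgroup.normalCore_le C
  have hidxbar : (C.map π).index = p := by
    rw [Subgroup.index_map_eq _ hπ (by rw [QuotientGroup.ker_mk']; exact hKC), hp]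
  have hcomapC : (C.map π).comap π = C := by
    rw [Subgroup.comap_map_eq, QuotientGroup.ker_mk', sup_eq_left.2 hKC]
  have hcorebar : (C.map π).normalCore = ⊥ := by
    have h1 : ((C.map π).normalCore).comap π ≤ C.normalCore := by
      rw [Subgroup.normal_le_normalCore]
      calc ((C.map π).normalCore).comap π ≤ (C.map π).comap π :=
            Subgroup.comap_mono (Subgroup.normalCore_le _)
        _ = C := hcomapC
    rw [eq_bot_iff]
    intro y hy
    obtain ⟨g, rfl⟩ := hπ y
    have h2 : g ∈ C.normalCore := h1 hy
    rw [Subgroup.mem_bot]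
    exact (QuotientGroup.eq_one_iff g).2 h2
  have hCbar_ne : C.map π ≠ ⊥ := by
    intro hb
    apply hx
    rw [Subgroup.map_eq_bot_iff, QuotientGroup.ker_mk'] at hb
    have : C = C.normalCore := le_antisymm hb hKC
    rw [this]; infer_instance
  -- the hypothesis passes to the quotient
  have hbar : ∀ y : G ⧸ C.normalCore, (Subgroup.centralizer ({y} : Set (G ⧸ C.normalCore))).index = 1 ∨
      ((Subgroup.centralizer ({y} : Set (G ⧸ C.normalCore))).index).Prime := by
    intro y
    obtain ⟨g, rfl⟩ := hπ y
    have hd := index_centralizer_quotient_dvd C.normalCore g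
    rcases h g with h1 | h1
    · left; rw [h1] at hd; exact Nat.dvd_one.1 hd
    · rcases (Nat.dvd_prime h1).1 hd with h2 | h2
      · left; exact h2
      · right; rw [h2]; exact h1
  -- an element of order p
  have hcardG : Nat.card (G ⧸ C.normalCore) = Nat.card (C.map π) * p := by
    rw [← (C.map π).card_mul_index, hidxbar]
  have hpdvd : p ∣ Nat.card (G ⧸ C.normalCore) := by
    rw [hcardG]; exact dvd_mul_left _ _
  obtain ⟨σ, hσ⟩ := exists_prime_orderOf_dvd_card' p hpdvd
  obtain ⟨hcent, hpC, hCfac⟩ :=
    card_centralizer_of_prime_index (C.map π) p hidxbar hcorebar σ hσ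
  generalize hq : Nat.card (C.map π) = q at hcardG hpC hCfac
  have hq1 : q ≠ 1 := by
    intro h1
    apply hCbar_ne
    rw [← Subgroup.card_eq_one, hq, h1]
  have hclass : (Subgroup.centralizer ({σ} : Set (G ⧸ C.normalCore))).index = q := by
    have h1 := (Subgroup.centralizer ({σ} : Set (G ⧸ C.normalCore))).card_mul_index
    rw [hcent, hcardG, mul_comm q p] at h1
    exact Nat.eq_of_mul_eq_mul_left hidx.pos h1
  have hqprime : q.Prime := by
    rcases hbar σ with h1 | h1
    · rw [hclass] at h1; exact absurd h1 hq1
    · rwa [hclass] at h1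
  have hqp : q ≠ p := by
    intro h1; apply hpC; rw [h1]
  have hqltp : q < p := by
    have h1 := (hqprime.dvd_factorial).1 hCfac
    have := hidx.pos
    omega
  -- M̄ = ⟨σ⟩ is normal and self-centralizing
  have hMcard : Nat.card (Subgroup.zpowers σ) = p := by rw [Nat.card_zpowers, hσ]
  have hMidx : (Subgroup.zpowers σ).index = q := by
    have h1 := (Subgroup.zpowers σ).card_mul_index
    rw [hMcard, hcardG, mul_comm q p] at h1
    exact Nat.eq_of_mul_eq_mul_left hidx.pos h1
  have hminFac : (Nat.card (G ⧸ C.normalCore)).minFac = q := by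
    rw [hcardG]
    have hne : q * p ≠ 1 := by
      have := hqprime.two_le; have := hidx.two_le; nlinarith
    have h1 := Nat.minFac_prime hne
    have h2 := Nat.minFac_dvd (q * p)
    rcases (Nat.Prime.dvd_mul h1).1 h2 with h3 | h3
    · exact (Nat.prime_dvd_prime_iff_eq h1 hqprime).1 h3
    · have h4 := (Nat.prime_dvd_prime_iff_eq h1 hidx).1 h3
      have h5 := Nat.minFac_le_of_dvd hqprime.two_le (dvd_mul_right q p)
      omega
  have hMnormal : (Subgroup.zpowers σ).Normal :=
    Subgroup.normal_of_index_eq_minFac_card (hMidx.trans hminFac.symm)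
  have hMcent : Subgroup.zpowers σ = Subgroup.centralizer ({σ} : Set (G ⧸ C.normalCore)) := by
    apply Subgroup.eq_of_le_of_card_ge
    · rw [Subgroup.zpowers_le]
      exact Subgroup.mem_centralizer_singleton_iff.2 rfl
    · rw [hcent, hMcard]
  -- key claim
  have hkey : ∀ g : G, π g ∉ Subgroup.zpowers σ →
      C.normalCore ≤ Subgroup.centralizer ({g} : Set G) := by
    intro g hg
    have hpidx : p ∣ (Subgroup.centralizer ({π g} : Set (G ⧸ C.normalCore))).index := by
      by_contra hnd
      have h1 := (Subgroup.centralizer ({π g} : Set (G ⧸ C.normalCore))).card_mul_index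
      have h2 : p ∣ Nat.card (Subgroup.centralizer ({π g} : Set (G ⧸ C.normalCore))) := by
        have h3 : p ∣ Nat.card (Subgroup.centralizer ({π g} : Set (G ⧸ C.normalCore))) *
            (Subgroup.centralizer ({π g} : Set (G ⧸ C.normalCore))).index := by
          rw [h1]; exact hpdvd
        rcases (Nat.Prime.dvd_mul hidx).1 h3 with h4 | h4
        · exact h4
        · exact absurd h4 hnd
      obtain ⟨τ, hτ⟩ := exists_prime_orderOf_dvd_card' p h2
      have hτ' : orderOf (τ : G ⧸ C.normalCore) = p := by rw [Subgroup.orderOf_coe, hτ]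
      -- τ ∈ M̄
      have hτM : (τ : G ⧸ C.normalCore) ∈ Subgroup.zpowers σ := by
        rw [← QuotientGroup.eq_one_iff]
        have h5 : orderOf ((τ : G ⧸ C.normalCore) : (G ⧸ C.normalCore) ⧸ Subgroup.zpowers σ) ∣ p := by
          rw [← hτ']
          exact orderOf_map_dvd (QuotientGroup.mk' (Subgroup.zpowers σ)) _
        have h6 : orderOf ((τ : G ⧸ C.normalCore) : (G ⧸ C.normalCore) ⧸ Subgroup.zpowers σ) ∣ q := by
          rw [← hMidx]
          exact orderOf_dvd_natCard _
        have h7 : orderOf ((τ : G ⧸ C.normalCore) : (G ⧸ C.normalCore) ⧸ Subgroup.zpowers σ) ∣ 1 := by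
          have hcop : Nat.Coprime p q := (Nat.coprime_primes hidx hqprime).2 (Ne.symm hqp)
          rw [← hcop]
          exact Nat.dvd_gcd h5 h6
        exact orderOf_eq_one_iff.1 (Nat.dvd_one.1 h7)
      -- zpowers τ = zpowers σ
      have hzz : Subgroup.zpowers (τ : G ⧸ C.normalCore) = Subgroup.zpowers σ := by
        apply Subgroup.eq_of_le_of_card_ge
        · rw [Subgroup.zpowers_le]; exact hτM
        · rw [hMcard, Nat.card_zpowers, hτ']
      have hστ : σ ∈ Subgroup.zpowers (τ : G ⧸ C.normalCore) := by
        rw [hzz]; exact Subgroup.mem_zpowers σ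
      obtain ⟨k, hk⟩ := Subgroup.mem_zpowers_iff.1 hστ
      have hcτ : Commute (π g) (τ : G ⧸ C.normalCore) := by
        have := τ.2
        rw [Subgroup.mem_centralizer_singleton_iff] at this
        exact this.symm
      apply hg
      rw [hMcent, Subgroup.mem_centralizer_singleton_iff, ← hk]
      exact (hcτ.zpow_right k).eq
    -- class size of g is p
    have hd := index_centralizer_quotient_dvd C.normalCore g
    have hgp : (Subgroup.centralizer ({g} : Set G)).index = p := by
      rcases h g with h1 | h1
      · rw [h1] at hd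
        have := Nat.dvd_one.1 (hpidx.trans hd)
        exact absurd this hidx.ne_one
      · exact ((Nat.prime_dvd_prime_iff_eq hidx h1).1 (hpidx.trans hd)).symm
    have hgp' : (Subgroup.centralizer ({π g} : Set (G ⧸ C.normalCore))).index = p := by
      rw [hgp] at hd
      exact Nat.dvd_antisymm hd hpidx
    -- index of D ⊔ K
    have h1 : ((Subgroup.centralizer ({g} : Set G)) ⊔ C.normalCore).index = p := by
      have h2 : ((Subgroup.centralizer ({g} : Set G)).map π).index =
          ((Subgroup.centralizer ({g} : Set G)) ⊔ C.normalCore).index := by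
        rw [Subgroup.index_map, MonoidHom.range_eq_top_of_surjective π hπ, Subgroup.index_top,
          mul_one, QuotientGroup.ker_mk']
      have h3 : p ∣ ((Subgroup.centralizer ({g} : Set G)) ⊔ C.normalCore).index := by
        rw [← h2, ← hgp']
        exact Subgroup.index_dvd_of_le (map_centralizer_le C.normalCore g)
      have h4 : ((Subgroup.centralizer ({g} : Set G)) ⊔ C.normalCore).index ∣ p := by
        rw [← hgp]
        exact Subgroup.index_dvd_of_le le_sup_left
      exact Nat.dvd_antisymm h4 h3
    have h5 := Subgroup.relIndex_mul_index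
      (le_sup_left : Subgroup.centralizer ({g} : Set G) ≤
        Subgroup.centralizer ({g} : Set G) ⊔ C.normalCore)
    rw [h1, hgp] at h5
    have h6 : (Subgroup.centralizer ({g} : Set G)).relIndex
        (Subgroup.centralizer ({g} : Set G) ⊔ C.normalCore) = 1 := by
      have := hidx.pos
      nlinarith
    rw [Subgroup.relIndex_eq_one] at h6
    exact le_sup_right.trans h6
  -- K is central
  have hMtop : (Subgroup.zpowers σ).comap π ≠ ⊤ := by
    intro htop
    have h1 : Subgroup.zpowers σ = ⊤ := by
      rw [eq_top_iff]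
      intro y _
      obtain ⟨g, rfl⟩ := hπ y
      have : g ∈ (Subgroup.zpowers σ).comap π := by rw [htop]; trivial
      exact this
    rw [h1, Subgroup.index_top] at hMidx
    exact hq1 hMidx.symm
  have hcentK : Subgroup.centralizer (C.normalCore : Set G) = ⊤ := by
    apply eq_top_of_compl_subset _ _ hMtop
    intro g hg
    rw [Subgroup.mem_centralizer_iff]
    intro k hk
    have := hkey g hg hk
    rw [Subgroup.mem_centralizer_singleton_iff] at this
    exact this
  have hK : C.normalCore = Subgroup.center G := by
    apply le_antisymm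
    · intro k hk
      rw [Subgroup.mem_center_iff]
      intro g
      have : g ∈ Subgroup.centralizer (C.normalCore : Set G) := by rw [hcentK]; trivial
      rw [Subgroup.mem_centralizer_iff] at this
      exact (this k hk).symm
    · rw [Subgroup.normal_le_normalCore, ← hC]
      exact Subgroup.center_le_centralizer _
  -- transfer to G / Z(G)
  let e : G ⧸ C.normalCore ≃* G ⧸ Subgroup.center G := QuotientGroup.quotientMulEquivOfEq hK
  refine ⟨p, q, hidx, hqprime, Ne.symm hqp, ?_, ?_⟩
  · rw [← Nat.card_congr e.toEquiv, hcardG, mul_comm]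
  · intro hcomm
    apply hCbar_ne
    have hab : ∀ a b : G ⧸ C.normalCore, a * b = b * a := by
      intro a b
      apply e.injective
      rw [map_mul, map_mul]
      exact hcomm.is_comm.comm _ _
    have hnorm : (C.map π).Normal :=
      ⟨fun n hn g => by rw [hab g n, mul_inv_cancel_right]; exact hn⟩
    rw [← hcorebar]
    exact (Subgroup.normalCore_eq_self _).symm

end Cfsg.Agent.S4314
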