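import Cfsg.Statements.S4320
import Cfsg.Agent.Lib.Helper76.PITCrossed

set_option autoImplicit false
open Cfsg

namespace Cfsg.Agent.S4320

open Cfsg.Agent.Lib.Helper76.PIT MonoidAlgebra

/-- The translation representation of a group `Q` on functions `Q → V`. -/
def transRep (Q V : Type*) [Group Q] [AddCommGroup V] : Representation ℤ Q (Q → V) where
  toFun x :=
    { toFun := fun f q => f (x⁻¹ * q)
      map_add' := fun _ _ => rfl
      map_smul' := fun _ _ => rfl }
  map_one' := by
    ext f q
    simp
  map_mul' := fun x y => by
    ext f q
    simp [mul_assoc]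

theorem transRep_apply (Q V : Type*) [Group Q] [AddCommGroup V] (x : Q) (f : Q → V) (q : Q) :
    transRep Q V x f q = f (x⁻¹ * q) := rfl

section
variable {G : Type*} [Group G]

variable (G) in
/-- A section of the abelianization map. -/
noncomputable def sec (q : Abelianization G) : G := Quotient.out q

theorem of_sec (q : Abelianization G) : Abelianization.of (sec G q) = q :=
  QuotientGroup.out_eq' q

theorem kappa_mem (g : G) (q : Abelianization G) :
    (sec G q)⁻¹ * g * sec G ((Abelianization.of g)⁻¹ * q) ∈ commutator G := by
  rw [← Abelianization.ker_of G, MonoidHom.mem_ker]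
  simp only [map_mul, map_inv, of_sec]
  rw [mul_comm q⁻¹, mul_assoc, ← mul_assoc q⁻¹, mul_comm q⁻¹, mul_assoc, inv_mul_cancel, mul_one,
    mul_inv_cancel]

/-- The Kaluzhnin-Krasner cocycle, with values in the abelianization of the derived subgroup. -/
noncomputable def kappa (g : G) (q : Abelianization G) :
    Additive (Abelianization ↥(commutator G)) :=
  Additive.ofMul (Abelianization.of ⟨_, kappa_mem g q⟩)

theorem kappa_mul (g g' : G) (q : Abelianization G) :
    kappa (g * g') q = kappa g q + kappa g' ((Abelianization.of g)⁻¹ * q) := by
  unfold kappa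
  rw [← ofMul_mul, ← map_mul]
  congr 2
  apply Subtype.ext
  simp only [Subgroup.coe_mul, map_mul, mul_inv_rev]
  simp only [mul_assoc, mul_inv_cancel_left]

theorem inv_smul_eq (g : G) (q : G ⧸ commutator G) :
    (g⁻¹ • q : G ⧸ commutator G) =
      @HMul.hMul (Abelianization G) (Abelianization G) (Abelianization G) _
        (Abelianization.of g)⁻¹ q := by
  induction q using QuotientGroup.induction_on with
  | H a => rfl

theorem transfer_eq_prod [Finite G] (g : G) :
    letI := (commutator G).fintypeQuotientOfFiniteIndex
    MonoidHom.transfer (Abelianization.of : ↥(commutator G) →* Abelianization ↥(commutator G)) g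
      = ∏ q : G ⧸ commutator G, Additive.toMul (kappa g q) := by
  have hs : ∀ q : G ⧸ commutator G, ((sec G q : G) : G ⧸ commutator G) = q :=
    fun q => QuotientGroup.out_eq' q
  let T : (commutator G).LeftTransversal :=
    ⟨Set.range (sec G), Subgroup.isComplement_range_left hs⟩
  rw [MonoidHom.transfer_def _ T g]
  unfold Subgroup.leftTransversals.diff
  refine Finset.prod_congr rfl (fun q _ => ?_)
  show Abelianization.of _ = Abelianization.of _
  congr 1
  apply Subtype.ext
  show ((T.2.leftQuotientEquiv q : G))⁻¹ * ((g • T).2.leftQuotientEquiv q : G) = _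
  rw [Subgroup.smul_apply_eq_smul_apply_inv_smul]
  have h1 : ∀ q, (T.2.leftQuotientEquiv q : G) = sec G q :=
    fun q => Subgroup.IsComplement.leftQuotientEquiv_apply hs q
  rw [h1, h1, inv_smul_eq, smul_eq_mul]
  exact (mul_assoc _ _ _).symm

end

/-- The Principal Ideal Theorem of class field theory in its group-theoretic form: for every finite group `G`, the transfer homomorphism from `G` into the abelianization `G'/G''` of its derived subgroup `G'` is the trivial homomorphism. -/
theorem result {G : Type*} [Group G] [Finite G] :
    MonoidHom.transfer (Abelianization.of : ↥(commutator G) →* Abelianization ↥(commutator G)) =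
      (1 : G →* Abelianization ↥(commutator G)) := by
  classical
  have : Finite (Abelianization G) := inferInstanceAs (Finite (G ⧸ commutator G))
  haveI : Fintype (Abelianization G) := Fintype.ofFinite _
  ext g
  rw [MonoidHom.one_apply]
  let ρ := transRep (Abelianization G) (Additive (Abelianization ↥(commutator G)))
  let β : G → ρ.asModule × MonoidAlgebra ℤ (Abelianization G) := fun g =>
    (ρ.asModuleEquiv.symm (kappa g), of ℤ (Abelianization G) (Abelianization.of g) - 1)
  have hβ : ∀ g g', β (g * g') =
      β g + of ℤ (Abelianization G) ((Abelianization.of : G →* Abelianization G) g) • β g' := by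
    intro g g'
    apply Prod.ext
    · show ρ.asModuleEquiv.symm (kappa (g * g')) = ρ.asModuleEquiv.symm (kappa g) +
        of ℤ (Abelianization G) (Abelianization.of g) • ρ.asModuleEquiv.symm (kappa g')
      rw [← Representation.asModuleEquiv_symm_map_rho, ← map_add]
      congr 1
      ext q
      exact kappa_mul g g' q
    · show of ℤ (Abelianization G) (Abelianization.of (g * g')) - 1 =
        (of ℤ (Abelianization G) (Abelianization.of g) - 1) +
          of ℤ (Abelianization G) (Abelianization.of g) •
            (of ℤ (Abelianization G) (Abelianization.of g') - 1)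
      rw [map_mul, map_mul, smul_eq_mul]
      ring
  have key := crossed_normElt_smul_eq_zero (Abelianization.of : G →* Abelianization G) β hβ
    QuotientGroup.mk_surjective (Abelianization.ker_of G).le
    (LinearMap.snd _ _ _) (fun g => rfl) g
  have h1 : (normElt : MonoidAlgebra ℤ (Abelianization G)) • ρ.asModuleEquiv.symm (kappa g) = 0 :=
    congrArg Prod.fst key
  have h2 : ∑ x : Abelianization G, ρ x (kappa g) = 0 := by
    have h := congrArg ρ.asModuleEquiv h1
    rw [normElt, Finset.sum_smul, map_sum, map_zero] at h
    rw [← h]
    refine Finset.sum_congr rfl (fun x _ => ?_)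
    rw [Representation.asModuleEquiv_map_smul, Representation.asAlgebraHom_of,
      LinearEquiv.apply_symm_apply]
  have h3 : ∑ x : Abelianization G, kappa g (x⁻¹ * 1) = 0 := by
    have h := congrFun h2 1
    rw [Finset.sum_apply] at h
    exact h
  have h4 : ∏ q : Abelianization G, Additive.toMul (kappa g q) = 1 := by
    rw [← toMul_sum]
    have h5 : ∑ q : Abelianization G, kappa g q = ∑ x : Abelianization G, kappa g (x⁻¹ * 1) :=
      (Fintype.sum_equiv (Equiv.inv (Abelianization G)) _ _ (fun x => by simp)).symm
    rw [h5, h3]
    rfl
  rw [transfer_eq_prod]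
  have h6 : ∀ (i1 i2 : Fintype (Abelianization G)),
      (@Finset.univ _ i1).prod (fun q => Additive.toMul (kappa g q)) =
        (@Finset.univ _ i2).prod (fun q => Additive.toMul (kappa g q)) := by
    intro i1 i2
    rw [Subsingleton.elim i1 i2]
  exact (h6 _ _).trans h4

end Cfsg.Agent.S4320
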