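import Cfsg.Statements.S4325

set_option autoImplicit false
open Cfsg

namespace Cfsg.Agent.S4325

open Equiv

/-- Two equal swaps have the same underlying unordered pair. -/
theorem sym2_eq_of_swap_eq {α : Type*} [DecidableEq α] {x y x' y' : α} (hxy : x ≠ y)
    (h : swap x y = swap x' y') : s(x, y) = s(x', y') := by
  have h1 : swap x' y' x = y := by rw [← h, swap_apply_left]
  have h2 : swap x' y' y = x := by rw [← h, swap_apply_right]
  by_cases hx : x = x'
  · subst hx
    rw [swap_apply_left] at h1
    rw [h1]
  · by_cases hx' : x = y'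
    · subst hx'
      rw [swap_apply_right] at h1
      rw [h1, Sym2.eq_swap]
    · rw [swap_apply_of_ne_of_ne hx hx'] at h1
      exact absurd h1 hxy

/-- A nontrivial normal subgroup of a finite symmetric group has order divisible by the degree. -/
theorem card_dvd_of_normal_ne_bot {r : ℕ} (N : Subgroup (Perm (Fin r))) [N.Normal] (hN : N ≠ ⊥) :
    r ∣ Nat.card N := by
  obtain ⟨σ, hσN, hσ1⟩ : ∃ σ : Perm (Fin r), σ ∈ N ∧ σ ≠ 1 := by
    obtain ⟨a, ha⟩ := (Subgroup.ne_bot_iff_exists_ne_one (H := N)).mp hN
    exact ⟨a, a.2, fun h1 => ha (Subtype.ext h1)⟩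
  obtain ⟨i, hi⟩ : ∃ i, σ i ≠ i := by
    by_contra hcon
    push Not at hcon
    exact hσ1 (Equiv.ext hcon)
  have horb : MulAction.orbit N i = Set.univ := by
    rw [Set.eq_univ_iff_forall]
    intro k
    by_cases hk : k = i
    · subst hk; exact MulAction.mem_orbit_self _
    · let τ : Perm (Fin r) := swap (σ i) k
      have hmem : τ * σ * τ⁻¹ ∈ N := ‹N.Normal›.conj_mem σ hσN τ
      refine ⟨⟨τ * σ * τ⁻¹, hmem⟩, ?_⟩
      change (τ * σ * τ⁻¹) i = k
      have h1 : τ⁻¹ i = i := by
        simp only [τ, swap_inv]
        exact swap_apply_of_ne_of_ne (fun h => hi h.symm) (fun h => hk h.symm)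
      simp only [Perm.mul_apply, h1]
      exact swap_apply_left _ _
  have h1 := MulAction.index_stabilizer N i
  rw [horb, Set.ncard_univ, Nat.card_eq_fintype_card, Fintype.card_fin] at h1
  have h2 := Subgroup.index_dvd_card (MulAction.stabilizer N i)
  rwa [h1] at h2

/-- Let r be a prime and m a natural number with m + 1 < r, and let π be a set of primes containing every prime below r but not r itself. Then in the symmetric group of degree r any m transpositions generate a π-subgroup, while O_π of the symmetric group is trivial. (So no bound on the number of conjugates that works for all π exists in the π-radical analogue of the Baer–Suzuki Theorem.) -/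
theorem result (r m : ℕ) (hr : r.Prime)
    (hm : m + 1 < r) (π : Set ℕ) (hπ : ∀ q : ℕ, q.Prime → q < r → q ∈ π) (hrπ : r ∉ π)
    (t : Fin m → Equiv.Perm (Fin r)) (ht : ∀ i, (t i).IsSwap) :
    Cfsg.IsPiSubgroup π (Subgroup.closure (Set.range t)) ∧ Cfsg.piCore π (Equiv.Perm (Fin r)) = ⊥ := by
  constructor
  · intro p hp hpd
    have hdvd : p ∣ Nat.card (Perm (Fin r)) := hpd.trans (Subgroup.card_subgroup_dvd_card _)
    rw [Nat.card_eq_fintype_card, Fintype.card_perm, Fintype.card_fin] at hdvd
    have hle : p ≤ r := (hp.dvd_factorial).mp hdvd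
    rcases lt_or_eq_of_le hle with hlt | rfl
    · exact hπ p hp hlt
    · exfalso
      have : Fact p.Prime := ⟨hp⟩
      obtain ⟨g, hg⟩ := exists_prime_orderOf_dvd_card' p hpd
      have hg' : orderOf (g : Perm (Fin p)) = p := by
        rw [Subgroup.orderOf_coe]; exact hg
      have hcyc : (g : Perm (Fin p)).IsCycle := by
        apply Perm.isCycle_of_prime_order''
        · rw [Fintype.card_fin]; exact hp
        · rw [Fintype.card_fin]; exact hg'
      have hsupp : (g : Perm (Fin p)).support = Finset.univ := by
        rw [← Finset.card_eq_iff_eq_univ, Fintype.card_fin, ← hcyc.orderOf, hg']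
      -- the graph
      choose x y hxy hswap using ht
      let Γ : SimpleGraph (Fin p) := SimpleGraph.fromEdgeSet (Set.range fun i => s(x i, y i))
      have hadj : ∀ i, Γ.Adj (x i) (y i) := by
        intro i
        rw [SimpleGraph.fromEdgeSet_adj]
        exact ⟨⟨i, rfl⟩, hxy i⟩
      have hreach : ∀ σ ∈ Subgroup.closure (Set.range t), ∀ z, Γ.Reachable z (σ z) := by
        intro σ hσ
        induction hσ using Subgroup.closure_induction with
        | mem s hs =>
          obtain ⟨i, rfl⟩ := hs
          intro z
          rw [hswap i]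
          by_cases hzx : z = x i
          · subst hzx
            rw [swap_apply_left]
            exact (hadj i).reachable
          · by_cases hzy : z = y i
            · subst hzy
              rw [swap_apply_right]
              exact (hadj i).symm.reachable
            · rw [swap_apply_of_ne_of_ne hzx hzy]
        | one => intro z; exact SimpleGraph.Reachable.refl _
        | mul a b _ _ ha hb =>
          intro z
          exact (hb z).trans (ha (b z))
        | inv a _ ha =>
          intro z
          have := ha (a⁻¹ z)
          have e : a (a⁻¹ z) = z := by simp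
          rw [e] at this
          exact this.symm
      have hconn : Γ.Connected := by
        have : Nonempty (Fin p) := ⟨⟨0, hp.pos⟩⟩
        refine ⟨fun u v => ?_⟩
        have hu : u ∈ (g : Perm (Fin p)).support := hsupp ▸ Finset.mem_univ u
        have hv : v ∈ (g : Perm (Fin p)).support := hsupp ▸ Finset.mem_univ v
        obtain ⟨k, hk⟩ := hcyc.exists_zpow_eq (Perm.mem_support.mp hu) (Perm.mem_support.mp hv)
        have := hreach _ (Subgroup.zpow_mem _ g.2 k) u
        rwa [hk] at this
      have hcard := hconn.card_vert_le_card_edgeSet_add_one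
      rw [Nat.card_eq_fintype_card, Fintype.card_fin] at hcard
      have hedge : Nat.card Γ.edgeSet ≤ m := by
        have hsub : Γ.edgeSet ⊆ Set.range fun i => s(x i, y i) := by
          rw [SimpleGraph.edgeSet_fromEdgeSet]
          exact Set.sdiff_subset
        have h1 : Nat.card Γ.edgeSet ≤ Nat.card (Set.range fun i => s(x i, y i)) :=
          Nat.card_mono (Set.finite_range _) hsub
        have h2 : Nat.card (Set.range fun i => s(x i, y i)) ≤ Nat.card (Fin m) :=
          Finite.card_range_le _
        rw [Nat.card_eq_fintype_card (α := Fin m), Fintype.card_fin] at h2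
        exact h1.trans h2
      omega
  · unfold Cfsg.piCore
    rw [eq_bot_iff]
    refine sSup_le ?_
    rintro N ⟨hNn, hNπ⟩
    by_contra hne
    have hNb : N ≠ ⊥ := fun h => hne (h ▸ le_refl _)
    have := hNn
    exact hrπ (hNπ r hr (card_dvd_of_normal_ne_bot N hNb))

end Cfsg.Agent.S4325
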