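import Cfsg.Statements.S4326
import Cfsg.Agent.Lib.Helper77.ConjUnion

set_option autoImplicit false
open Pointwise
open Cfsg

namespace Cfsg.Agent.S4326

open Cfsg.Agent.Lib.Helper77

section action
variable {G : Type*} [Group G] (x : MulAut G) (M : Subgroup G)
  (hM : ∀ g : G, g ∈ M ↔ x g = g)

include hM in
theorem fixes_of_mem_zpowers (a : MulAut G) (ha : a ∈ Subgroup.zpowers x) (m : G) (hm : m ∈ M) :
    a m = m := by
  obtain ⟨n, rfl⟩ := Subgroup.mem_zpowers_iff.mp ha
  clear ha
  have hx1 : x m = m := (hM m).mp hm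
  have hx2 : x⁻¹ m = m := by
    rw [MulAut.inv_apply, MulEquiv.symm_apply_eq, hx1]
  induction n using Int.induction_on with
  | zero => simp
  | succ k ih => rw [zpow_add, zpow_one, MulAut.mul_apply, hx1, ih]
  | pred k ih => rw [zpow_sub, zpow_one, MulAut.mul_apply, hx2, ih]

/-- The action of `⟨x⟩` on the coset space `G ⧸ M`, where `M` is the fixed-point subgroup of `x`. -/
def cosetSMul (a : Subgroup.zpowers x) (q : G ⧸ M) : G ⧸ M :=
  Quotient.map' (fun g => (a : MulAut G) g) (by
    intro g1 g2 h
    rw [QuotientGroup.leftRel_apply] at h ⊢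
    have : ((a : MulAut G) g1)⁻¹ * (a : MulAut G) g2 = (a : MulAut G) (g1⁻¹ * g2) := by
      rw [map_mul, map_inv]
    rw [this, fixes_of_mem_zpowers x M hM a a.2 _ h]
    exact h) q

theorem cosetSMul_mk (a : Subgroup.zpowers x) (g : G) :
    cosetSMul x M hM a (QuotientGroup.mk g) = QuotientGroup.mk ((a : MulAut G) g) := rfl

/-- The action of `⟨x⟩` on `G ⧸ M`. -/
@[reducible] def cosetAction : MulAction (Subgroup.zpowers x) (G ⧸ M) where
  smul := cosetSMul x M hM
  one_smul := by
    intro q
    induction q using QuotientGroup.induction_on with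
    | H g => exact cosetSMul_mk x M hM 1 g
  mul_smul := by
    intro a b q
    induction q using QuotientGroup.induction_on with
    | H g => exact cosetSMul_mk x M hM (a * b) g

end action

/-- Let G be a finite group, p a prime, x an automorphism of G of p-power order and M the subgroup of fixed points of x. Suppose that p divides the index of M and that either M is self-normalizing or M has trivial center. Then some conjugate of M is mapped onto itself by x but is not fixed elementwise by x. -/
theorem result {G : Type*} [Group G] [Finite G]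
    (p : ℕ) [Fact p.Prime] (x : MulAut G) (hx : ∃ k : ℕ, orderOf x = p ^ k) (M : Subgroup G)
    (hM : ∀ g : G, g ∈ M ↔ x g = g) (hp : p ∣ M.index)
    (hself : Subgroup.normalizer (M : Set G) = M ∨ Subgroup.center M = ⊥) :
    ∃ g : G, (∀ y ∈ MulAut.conj g • M, x y ∈ MulAut.conj g • M) ∧ ∃ y ∈ MulAut.conj g • M, x y ≠ y := by
  classical
  letI act : MulAction (Subgroup.zpowers x) (G ⧸ M) := cosetAction x M hM
  have hsmul : ∀ (a : Subgroup.zpowers x) (g : G),
      a • (QuotientGroup.mk g : G ⧸ M) = QuotientGroup.mk ((a : MulAut G) g) := fun a g => rfl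
  have hpg : IsPGroup p (Subgroup.zpowers x) := by
    obtain ⟨k, hk⟩ := hx
    refine IsPGroup.of_card (n := k) ?_
    rw [Nat.card_zpowers, hk]
  have hmod := hpg.card_modEq_card_fixedPoints (G ⧸ M)
  have hdvd : p ∣ Nat.card (MulAction.fixedPoints (Subgroup.zpowers x) (G ⧸ M)) := by
    have h1 : Nat.card (G ⧸ M) = M.index := rfl
    rw [h1] at hmod
    exact (Nat.modEq_zero_iff_dvd.mp ((hmod.symm).trans (Nat.modEq_zero_iff_dvd.mpr hp)))
  have h1fix : (QuotientGroup.mk 1 : G ⧸ M) ∈ MulAction.fixedPoints (Subgroup.zpowers x) (G ⧸ M) := by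
    intro a
    rw [hsmul, map_one]
  -- another fixed point
  have hex : ∃ q : G ⧸ M, q ∈ MulAction.fixedPoints (Subgroup.zpowers x) (G ⧸ M) ∧
      q ≠ QuotientGroup.mk 1 := by
    by_contra hcon
    push Not at hcon
    have hsub : Subsingleton (MulAction.fixedPoints (Subgroup.zpowers x) (G ⧸ M)) :=
      ⟨fun a b => Subtype.ext ((hcon a a.2).trans (hcon b b.2).symm)⟩
    have hne : Nonempty (MulAction.fixedPoints (Subgroup.zpowers x) (G ⧸ M)) := ⟨⟨_, h1fix⟩⟩
    have hcard : Nat.card (MulAction.fixedPoints (Subgroup.zpowers x) (G ⧸ M)) = 1 :=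
      Nat.card_unique
    rw [hcard] at hdvd
    exact (Fact.out : p.Prime).one_lt.ne' (Nat.dvd_one.mp hdvd)
  obtain ⟨q, hqfix, hq1⟩ := hex
  obtain ⟨g, rfl⟩ := QuotientGroup.mk_surjective q
  have hgM : g ∉ M := by
    intro hg
    apply hq1
    rw [QuotientGroup.eq]
    simpa using hg
  have hc : g⁻¹ * x g ∈ M := by
    have := hqfix ⟨x, Subgroup.mem_zpowers x⟩
    rw [hsmul] at this
    have h2 := QuotientGroup.eq.mp this
    simp only at h2
    have h3 := M.inv_mem h2
    simpa using h3
  refine ⟨g, ?_, ?_⟩
  · intro y hy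
    rw [mem_conj_smul_iff] at hy ⊢
    -- g⁻¹ * x y * g = c * (g⁻¹ y g) * c⁻¹ with c = g⁻¹ x g
    have hfix : x (g⁻¹ * y * g) = g⁻¹ * y * g := (hM _).mp hy
    have hxy : x y = x g * (g⁻¹ * y * g) * (x g)⁻¹ := by
      rw [← hfix]
      simp only [map_mul, map_inv]
      group
    rw [hxy]
    have : g⁻¹ * (x g * (g⁻¹ * y * g) * (x g)⁻¹) * g
        = (g⁻¹ * x g) * (g⁻¹ * y * g) * (g⁻¹ * x g)⁻¹ := by group
    rw [this]
    exact M.mul_mem (M.mul_mem hc hy) (M.inv_mem hc)
  · by_contra hcon
    push Not at hcon
    -- conj g • M ≤ M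
    have hle : MulAut.conj g • M ≤ M := fun y hy => (hM y).mpr (hcon y hy)
    rcases hself with hN | hZ
    · -- self-normalizing
      have heq : MulAut.conj g • M = M := by
        apply Subgroup.eq_of_le_of_card_ge hle
        exact (Nat.card_congr (Subgroup.equivSMul (MulAut.conj g) M).toEquiv).le
      have hgN : g ∈ Subgroup.normalizer (M : Set G) := by
        rw [Subgroup.mem_set_normalizer_iff'']
        intro h
        constructor
        · intro hh
          have : h ∈ MulAut.conj g • M := by rw [heq]; exact hh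
          exact (mem_conj_smul_iff g h M).mp this
        · intro hh
          have : h ∈ MulAut.conj g • M := (mem_conj_smul_iff g h M).mpr hh
          rw [heq] at this; exact this
      rw [hN] at hgN
      exact hgM hgN
    · -- trivial center
      have hcen : (⟨g⁻¹ * x g, hc⟩ : M) ∈ Subgroup.center M := by
        rw [Subgroup.mem_center_iff]
        intro m
        apply Subtype.ext
        simp only [Subgroup.coe_mul]
        have hm : g * (m : G) * g⁻¹ ∈ MulAut.conj g • M := by
          rw [mem_conj_smul_iff]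
          have : g⁻¹ * (g * (m : G) * g⁻¹) * g = m := by group
          rw [this]; exact m.2
        have h1 := hcon _ hm
        have hmfix : x (m : G) = m := (hM _).mp m.2
        simp only [map_mul, map_inv, hmfix] at h1
        -- h1 : x g * m * (x g)⁻¹ = g * m * g⁻¹
        calc (m : G) * (g⁻¹ * x g) = g⁻¹ * (g * m * g⁻¹) * x g := by group
          _ = g⁻¹ * (x g * m * (x g)⁻¹) * x g := by rw [h1]
          _ = g⁻¹ * x g * m := by group
      rw [hZ, Subgroup.mem_bot] at hcen
      have h2 : g⁻¹ * x g = 1 := congrArg Subtype.val hcen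
      have h3 : x g = g := by
        have := congrArg (fun t => g * t) h2
        simpa using this
      exact hgM ((hM g).mpr h3)

end Cfsg.Agent.S4326
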