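import Cfsg.Statements.S4331

set_option autoImplicit false
open Cfsg

namespace Cfsg.Agent.S4331

abbrev C8 := Multiplicative (ZMod 8)
abbrev C2 := Multiplicative (ZMod 2)
abbrev V := Multiplicative (ZMod 3 × ZMod 3)

def mul3 : MulAut C8 where
  toFun x := Multiplicative.ofAdd (3 * Multiplicative.toAdd x)
  invFun x := Multiplicative.ofAdd (3 * Multiplicative.toAdd x)
  left_inv := by decide
  right_inv := by decide
  map_mul' := by decide

def φ : C2 →* MulAut C8 where
  toFun j := if Multiplicative.toAdd j = 0 then 1 else mul3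
  map_one' := rfl
  map_mul' := by
    intro j k
    refine MulEquiv.ext (fun x => ?_)
    revert j k x
    decide

abbrev H := C8 ⋊[φ] C2

instance : Fintype H := Fintype.ofEquiv (C8 × C2) SemidirectProduct.equivProd.symm

def R : MulAut V where
  toFun v := Multiplicative.ofAdd ((Multiplicative.toAdd v).1 - (Multiplicative.toAdd v).2,
    (Multiplicative.toAdd v).1 + (Multiplicative.toAdd v).2)
  invFun v := Multiplicative.ofAdd (-(Multiplicative.toAdd v).1 - (Multiplicative.toAdd v).2,
    (Multiplicative.toAdd v).1 - (Multiplicative.toAdd v).2)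
  left_inv := by decide
  right_inv := by decide
  map_mul' := by decide

def S : MulAut V where
  toFun v := Multiplicative.ofAdd ((Multiplicative.toAdd v).1, -(Multiplicative.toAdd v).2)
  invFun v := Multiplicative.ofAdd ((Multiplicative.toAdd v).1, -(Multiplicative.toAdd v).2)
  left_inv := by decide
  right_inv := by decide
  map_mul' := by decide

def ψ : H →* MulAut V where
  toFun h := R ^ (Multiplicative.toAdd h.left).val * S ^ (Multiplicative.toAdd h.right).val
  map_one' := by
    refine MulEquiv.ext (fun v => ?_)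
    revert v
    decide
  map_mul' := by
    intro h k
    refine MulEquiv.ext (fun v => ?_)
    revert h k v
    decide

abbrev G := V ⋊[ψ] H

instance : Fintype G := Fintype.ofEquiv (V × H) SemidirectProduct.equivProd.symm

def a : G := SemidirectProduct.inr ⟨1, Multiplicative.ofAdd 1⟩

def P (g : G) : Prop := g * a = a * g ∨ g.left = 1

instance : DecidablePred P := fun g => by unfold P; infer_instance

set_option maxRecDepth 100000 in
theorem key : ∀ c : G, ∃ x : G, P (x * c * x⁻¹) := by
  decide


theorem isSubnormal_of_normalizerCondition' {K : Type*} [Group K] [Finite K]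
    (h : NormalizerCondition K) (L : Subgroup K) : L.IsSubnormal := by
  induction L using WellFoundedGT.induction with
  | _ L ih =>
    by_cases hL : L = ⊤
    · rw [hL]; exact Subgroup.IsSubnormal.top
    · have hlt : L < Subgroup.normalizer (L : Set K) := h L (lt_top_iff_ne_top.2 hL)
      exact Subgroup.IsSubnormal.step L _ hlt.le (ih _ hlt)
        ((Subgroup.normal_subgroupOf_iff_le_normalizer hlt.le).2 le_rfl)

theorem isSubnormal_of_isPGroup' {K : Type*} [Group K] [Finite K] {p : ℕ} [Fact p.Prime]
    (hK : IsPGroup p K) (L : Subgroup K) : L.IsSubnormal := by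
  haveI : Group.IsNilpotent K := hK.isNilpotent
  exact isSubnormal_of_normalizerCondition' Group.normalizerCondition_of_isNilpotent L

instance : Group.IsSolvable H :=
  Group.isSolvable_of_ker_le_range (SemidirectProduct.inl : C8 →* H) SemidirectProduct.rightHom
    (by rw [SemidirectProduct.range_inl_eq_ker_rightHom])

instance : Group.IsSolvable G :=
  Group.isSolvable_of_ker_le_range (SemidirectProduct.inl : V →* G) SemidirectProduct.rightHom
    (by rw [SemidirectProduct.range_inl_eq_ker_rightHom])

theorem a_sq : a ^ 2 = 1 := by decide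

theorem a_ne_one : a ≠ 1 := by decide

/-- a vector moved by `a`. -/
def v₀ : G := SemidirectProduct.inl (Multiplicative.ofAdd (0, 1))

theorem comm_ne_one : a * v₀ * a⁻¹ * v₀⁻¹ ≠ 1 := by decide

theorem card_H : Nat.card H = 2 ^ 4 := by
  rw [Nat.card_eq_fintype_card]; rfl

theorem card_V : Nat.card V = 3 ^ 2 := by
  rw [Nat.card_eq_fintype_card]; rfl

theorem subnormal_of_P (g : G) (hg : P g) :
    ((Subgroup.zpowers a).subgroupOf (Subgroup.zpowers a ⊔ Subgroup.zpowers g)).IsSubnormal := by
  rcases hg with hg | hg
  · -- commuting case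
    have hJ : Subgroup.zpowers a ⊔ Subgroup.zpowers g ≤ Subgroup.centralizer {a} := by
      refine sup_le ?_ ?_
      · rw [Subgroup.zpowers_le]
        exact Subgroup.mem_centralizer_singleton_iff.mpr rfl
      · rw [Subgroup.zpowers_le]
        exact Subgroup.mem_centralizer_singleton_iff.mpr hg
    apply Subgroup.Normal.isSubnormal
    constructor
    intro n hn y
    rw [Subgroup.mem_subgroupOf] at hn ⊢
    rw [Subgroup.mem_zpowers_iff] at hn
    obtain ⟨k, hk⟩ := hn
    have hy : (y : G) * a = a * y := Subgroup.mem_centralizer_singleton_iff.mp (hJ y.2)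
    have hyk : Commute (y : G) (a ^ k) := Commute.zpow_right hy k
    have : ((y * n * y⁻¹ : _) : G) = (n : G) := by
      push_cast
      rw [← hk, hyk.eq, mul_inv_cancel_right]
    rw [this, ← hk]
    exact Subgroup.zpow_mem_zpowers a k
  · -- 2-group case
    have hH' : IsPGroup 2 (SemidirectProduct.inr : H →* G).range := by
      have e : H ≃* (SemidirectProduct.inr : H →* G).range :=
        MonoidHom.ofInjective SemidirectProduct.inr_injective
      apply IsPGroup.of_card (n := 4)
      rw [← Nat.card_congr e.toEquiv, card_H]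
    have hle : Subgroup.zpowers a ⊔ Subgroup.zpowers g ≤ (SemidirectProduct.inr : H →* G).range := by
      refine sup_le ?_ ?_
      · rw [Subgroup.zpowers_le]
        exact ⟨_, rfl⟩
      · rw [Subgroup.zpowers_le]
        refine ⟨g.right, ?_⟩
        apply SemidirectProduct.ext
        · rw [hg]; rfl
        · rfl
    have hK : IsPGroup 2 (Subgroup.zpowers a ⊔ Subgroup.zpowers g : Subgroup G) := hH'.to_le hle
    haveI : Fact (Nat.Prime 2) := ⟨Nat.prime_two⟩
    exact isSubnormal_of_isPGroup' hK _

/-- There is a finite solvable group G with a subgroup A of order 2 such that every conjugacy class of G contains an element g for which A is subnormal in the subgroup generated by A and g, and yet A is not contained in O_2(G). (So the corresponding criteria for odd primes fail at the prime 2, even for solvable groups.) -/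
theorem result :
    ∃ (G : Type) (_ : Group G) (_ : Finite G) (A : Subgroup G), Group.IsSolvable G ∧ Nat.card A = 2 ∧
      (∀ c : G, ∃ g : G, IsConj c g ∧ (A.subgroupOf (A ⊔ Subgroup.zpowers g)).IsSubnormal) ∧
      ¬ A ≤ Cfsg.pCore 2 G := by
  refine ⟨G, inferInstance, inferInstance, Subgroup.zpowers a, inferInstance, ?_, ?_, ?_⟩
  · rw [Nat.card_zpowers]
    exact orderOf_eq_prime a_sq a_ne_one
  · intro c
    obtain ⟨x, hx⟩ := key c
    exact ⟨x * c * x⁻¹, isConj_iff.mpr ⟨x, rfl⟩, subnormal_of_P _ hx⟩
  · intro hle
    have haQ : a ∈ Cfsg.pCore 2 G := hle (Subgroup.mem_zpowers a)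
    have hQn : (Cfsg.pCore 2 G).Normal := Subgroup.sSup_normal _ (fun _ hN => hN.1)
    have hQp : IsPGroup 2 (Cfsg.pCore 2 G) :=
      Sylow.sSup_of_normal _ (fun _ hN => hN.2) (fun _ hN => hN.1)
    have hVn : ((SemidirectProduct.inl : V →* G).range).Normal := by
      rw [SemidirectProduct.range_inl_eq_ker_rightHom]; infer_instance
    have hVp : IsPGroup 3 (SemidirectProduct.inl : V →* G).range := by
      have e : V ≃* (SemidirectProduct.inl : V →* G).range :=
        MonoidHom.ofInjective SemidirectProduct.inl_injective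
      apply IsPGroup.of_card (n := 2)
      rw [← Nat.card_congr e.toEquiv, card_V]
    have hdisj := IsPGroup.disjoint_of_ne 2 3 (by norm_num) _ _ hQp hVp
    have h1 : a * v₀ * a⁻¹ * v₀⁻¹ ∈ Cfsg.pCore 2 G := by
      have : v₀ * a⁻¹ * v₀⁻¹ ∈ Cfsg.pCore 2 G :=
        hQn.conj_mem _ ((Cfsg.pCore 2 G).inv_mem haQ) v₀
      have h := (Cfsg.pCore 2 G).mul_mem haQ this
      have e : a * (v₀ * a⁻¹ * v₀⁻¹) = a * v₀ * a⁻¹ * v₀⁻¹ := by group
      rw [e] at h; exact h
    have h2 : a * v₀ * a⁻¹ * v₀⁻¹ ∈ (SemidirectProduct.inl : V →* G).range := by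
      have hv : v₀ ∈ (SemidirectProduct.inl : V →* G).range := ⟨_, rfl⟩
      exact Subgroup.mul_mem _ (hVn.conj_mem _ hv a) (Subgroup.inv_mem _ hv)
    have h3 := Subgroup.disjoint_def.mp hdisj h1 h2
    exact comm_ne_one h3

end Cfsg.Agent.S4331
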