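import Cfsg.Statements.S4332
import Cfsg.Agent.S4325
import Cfsg.Agent.Lib.Helper77.ConjUnion

set_option autoImplicit false
open Pointwise
open Cfsg

namespace Cfsg.Agent.S4332

open Equiv Equiv.Perm Cfsg.Agent.Lib.Helper77

variable {α : Type*} [DecidableEq α]

/-- the three-cycle `a → c → b → a`. -/
def T3 (a b c : α) : Perm α := swap a b * swap a c

theorem conj_T3 (g : Perm α) (a b c : α) : g * T3 a b c * g⁻¹ = T3 (g a) (g b) (g c) := by
  unfold T3
  rw [swap_apply_apply, swap_apply_apply]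
  group

theorem T3_rot {a b c : α} (ab : a ≠ b) (ac : a ≠ c) (bc : b ≠ c) : T3 b c a = T3 a b c := by
  unfold T3
  ext w
  simp only [Perm.mul_apply, swap_apply_def]
  grind

theorem T3_inv {a b c : α} (ab : a ≠ b) (ac : a ≠ c) (bc : b ≠ c) : T3 b a c = (T3 a b c)⁻¹ := by
  unfold T3
  rw [mul_inv_rev, swap_inv, swap_inv]
  ext w
  simp only [Perm.mul_apply, swap_apply_def]
  grind

theorem T3_disjoint {a b c x y z : α} (h : [a, b, c, x, y, z].Nodup) :
    Perm.Disjoint (T3 a b c) (T3 x y z) := by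
  unfold T3
  simp only [List.nodup_cons, List.mem_cons, List.not_mem_nil, or_false, not_or,
    List.nodup_nil, and_true] at h
  obtain ⟨⟨h1, h2, h3, h4, h5⟩, ⟨h6, h7, h8, h9⟩, ⟨h10, h11, h12⟩, ⟨h13, h14⟩, h15⟩ := h
  refine Perm.Disjoint.mul_left (Perm.Disjoint.mul_right ?_ ?_) (Perm.Disjoint.mul_right ?_ ?_)
  all_goals
    apply disjoint_swap_swap
    simp only [List.nodup_cons, List.mem_cons, List.not_mem_nil, or_false, not_or,
      List.nodup_nil, and_true]
    tauto

/-- greedy choice of the third point. -/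
theorem exists_good_of_excl (c : Perm (Fin 8)) (x y : Fin 8) (E : Finset (Fin 8))
    (hx : c x ≠ x) (hy : c y ≠ y) (hyx : y ≠ x) (hycx : y ≠ c x) (hcyx : c y ≠ x)
    (hE : x ∈ E ∧ c x ∈ E ∧ c⁻¹ x ∈ E ∧ y ∈ E ∧ c y ∈ E ∧ c⁻¹ y ∈ E)
    (hcard : E.card < (Finset.univ.filter (fun z : Fin 8 => c z ≠ z)).card) :
    ∃ τ : Perm (Fin 8), τ.IsThreeCycle ∧ Commute (c * τ * c⁻¹) τ := by
  obtain ⟨z, hzS, hzE⟩ := Finset.exists_mem_notMem_of_card_lt_card hcard
  have hz : c z ≠ z := (Finset.mem_filter.mp hzS).2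
  obtain ⟨e1, e2, e3, e4, e5, e6⟩ := hE
  have zx : z ≠ x := fun h => hzE (h ▸ e1)
  have zcx : z ≠ c x := fun h => hzE (h ▸ e2)
  have czx : c z ≠ x := by
    intro h
    apply hzE
    have : z = c⁻¹ x := by rw [Perm.eq_inv_iff_eq]; exact h
    rw [this]; exact e3
  have zy : z ≠ y := fun h => hzE (h ▸ e4)
  have zcy : z ≠ c y := fun h => hzE (h ▸ e5)
  have czy : c z ≠ y := by
    intro h
    apply hzE
    have : z = c⁻¹ y := by rw [Perm.eq_inv_iff_eq]; exact h
    rw [this]; exact e6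
  refine ⟨T3 x y z, isThreeCycle_swap_mul_swap_same (Ne.symm hyx) (Ne.symm zx) (Ne.symm zy), ?_⟩
  rw [conj_T3]
  apply Perm.Disjoint.commute
  apply T3_disjoint
  have i1 : c x ≠ c y := fun h => hyx (c.injective h).symm
  have i2 : c x ≠ c z := fun h => zx (c.injective h).symm
  have i3 : c y ≠ c z := fun h => zy (c.injective h).symm
  simp only [List.nodup_cons, List.mem_cons, List.not_mem_nil, or_false, not_or,
    List.nodup_nil, and_true, not_false_eq_true]
  exact ⟨⟨i1, i2, hx, Ne.symm hycx, Ne.symm zcx⟩, ⟨i3, hcyx, hy, Ne.symm zcy⟩,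
    ⟨czx, czy, hz⟩, ⟨Ne.symm hyx, Ne.symm zx⟩, Ne.symm zy⟩

theorem exists_good (c : Perm (Fin 8)) :
    ∃ τ : Perm (Fin 8), τ.IsThreeCycle ∧ Commute (c * τ * c⁻¹) τ := by
  classical
  set F := Finset.univ.filter (fun z : Fin 8 => c z = z) with hF
  set S := Finset.univ.filter (fun z : Fin 8 => c z ≠ z) with hS
  have hFS : F.card + S.card = 8 := by
    have := Finset.card_filter_add_card_filter_not (s := (Finset.univ : Finset (Fin 8)))
      (fun z : Fin 8 => c z = z)
    simpa using this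
  by_cases h1 : 2 < F.card
  · obtain ⟨x, hx, y, hy, z, hz, hxy, hxz, hyz⟩ := Finset.two_lt_card.mp h1
    have hx' : c x = x := (Finset.mem_filter.mp hx).2
    have hy' : c y = y := (Finset.mem_filter.mp hy).2
    have hz' : c z = z := (Finset.mem_filter.mp hz).2
    refine ⟨T3 x y z, isThreeCycle_swap_mul_swap_same hxy hxz hyz, ?_⟩
    rw [conj_T3, hx', hy', hz']
  by_cases h2 : ∃ x, c x ≠ x ∧ c (c (c x)) = x
  · obtain ⟨x, hx, hx3⟩ := h2
    have h12 : c x ≠ c (c x) := fun h => hx (c.injective h).symm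
    have h02 : x ≠ c (c x) := by
      intro h
      apply hx
      have : c (c (c x)) = c x := by rw [← h]
      rw [hx3] at this; exact this.symm
    refine ⟨T3 x (c x) (c (c x)), isThreeCycle_swap_mul_swap_same (Ne.symm hx) h02 h12, ?_⟩
    rw [conj_T3, hx3, T3_rot (Ne.symm hx) h02 h12]
  by_cases h3 : ∃ x f, c x ≠ x ∧ c (c x) = x ∧ c f = f
  · obtain ⟨x, f, hx, hx2, hf⟩ := h3
    have hxf : x ≠ f := fun h => hx (h ▸ hf)
    have hcxf : c x ≠ f := by
      intro h
      apply hx
      have : c (c x) = c x := by rw [h, hf]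
      rw [hx2] at this; exact this.symm
    refine ⟨T3 x (c x) f, isThreeCycle_swap_mul_swap_same (Ne.symm hx) hxf hcxf, ?_⟩
    rw [conj_T3, hx2, hf, T3_inv (Ne.symm hx) hxf hcxf]
    exact (Commute.refl _).inv_left
  push Not at h1 h2 h3
  have hScard : 6 ≤ S.card := by omega
  by_cases h4 : ∃ x, c x ≠ x ∧ c (c x) ≠ x
  · obtain ⟨x, hx, hx2⟩ := h4
    have hx3 : c (c (c x)) ≠ x := h2 x hx
    apply exists_good_of_excl c x (c (c x)) {x, c x, c⁻¹ x, c (c x), c (c (c x))}
    · exact hx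
    · exact fun h => hx (c.injective (c.injective h))
    · exact hx2
    · exact fun h => hx (c.injective h)
    · exact hx3
    · refine ⟨?_, ?_, ?_, ?_, ?_, ?_⟩
      · simp
      · simp
      · simp
      · simp
      · simp
      · have : c⁻¹ (c (c x)) = c x := by rw [Perm.inv_eq_iff_eq]
        rw [this]; simp
    · have h5 : ({x, c x, c⁻¹ x, c (c x), c (c (c x))} : Finset (Fin 8)).card ≤ 5 :=
        Finset.card_le_five
      show _ < S.card
      omega
  · push Not at h4
    have hSne : S.Nonempty := by rw [← Finset.card_pos]; omega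
    obtain ⟨x₀, hx₀⟩ := hSne
    have hx₀' : c x₀ ≠ x₀ := (Finset.mem_filter.mp hx₀).2
    have hnofix : ∀ f, c f ≠ f := fun f hf => h3 x₀ f hx₀' (h4 x₀ hx₀') hf
    have hinv : ∀ z, c (c z) = z := fun z => h4 z (hnofix z)
    have hinv' : ∀ z, c⁻¹ z = c z := by
      intro z
      rw [Perm.inv_eq_iff_eq, hinv]
    have hSuniv : S.card = 8 := by
      have : F.card = 0 := by
        rw [Finset.card_eq_zero, Finset.filter_eq_empty_iff]
        intro z _; exact hnofix z
      omega
    obtain ⟨y, -, hy⟩ := Finset.exists_mem_notMem_of_card_lt_card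
      (s := {x₀, c x₀}) (t := (Finset.univ : Finset (Fin 8)))
      (lt_of_le_of_lt Finset.card_le_two (by simp))
    have hyx : y ≠ x₀ := fun h => hy (by rw [h]; simp)
    have hycx : y ≠ c x₀ := fun h => hy (by rw [h]; simp)
    apply exists_good_of_excl c x₀ y {x₀, c x₀, y, c y}
    · exact hx₀'
    · exact hnofix y
    · exact hyx
    · exact hycx
    · intro h
      apply hycx
      rw [← h, hinv]
    · refine ⟨?_, ?_, ?_, ?_, ?_, ?_⟩
      · simp
      · simp
      · rw [hinv']; simp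
      · simp
      · simp
      · rw [hinv']; simp
    · have h5 : ({x₀, c x₀, y, c y} : Finset (Fin 8)).card ≤ 4 := Finset.card_le_four
      show _ < S.card
      omega

/-- In the symmetric group of degree 8, let A be the subgroup generated by a 3-cycle. Then every conjugacy class contains an element g for which A is subnormal in the subgroup generated by A and its conjugate by g, although O_3 of the symmetric group of degree 8 is trivial. -/
theorem result
    (σ : Equiv.Perm (Fin 8)) (hσ : σ.IsThreeCycle) :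
    (∀ c : Equiv.Perm (Fin 8), ∃ g : Equiv.Perm (Fin 8), IsConj c g ∧
      ((Subgroup.zpowers σ).subgroupOf (Subgroup.zpowers σ ⊔ MulAut.conj g • Subgroup.zpowers σ)).IsSubnormal) ∧
    Cfsg.pCore 3 (Equiv.Perm (Fin 8)) = ⊥ := by
  constructor
  · intro c
    obtain ⟨τ, hτ, hcomm⟩ := exists_good c
    have hconj : IsConj τ σ := by
      rw [Equiv.Perm.isConj_iff_cycleType_eq, hτ.cycleType, hσ.cycleType]
    obtain ⟨h, hh⟩ := isConj_iff.mp hconj
    refine ⟨h * c * h⁻¹, isConj_iff.mpr ⟨h, rfl⟩, ?_⟩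
    set g := h * c * h⁻¹ with hg
    have hgσ : g * σ * g⁻¹ = h * (c * τ * c⁻¹) * h⁻¹ := by
      rw [hg, ← hh]; group
    have hcomm' : Commute (g * σ * g⁻¹) σ := by
      rw [hgσ, ← hh]
      show h * (c * τ * c⁻¹) * h⁻¹ * (h * τ * h⁻¹) = h * τ * h⁻¹ * (h * (c * τ * c⁻¹) * h⁻¹)
      have := hcomm.eq
      calc h * (c * τ * c⁻¹) * h⁻¹ * (h * τ * h⁻¹) = h * ((c * τ * c⁻¹) * τ) * h⁻¹ := by group
        _ = h * (τ * (c * τ * c⁻¹)) * h⁻¹ := by rw [this]
        _ = h * τ * h⁻¹ * (h * (c * τ * c⁻¹) * h⁻¹) := by group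
    have hJ : Subgroup.zpowers σ ⊔ MulAut.conj g • Subgroup.zpowers σ
        ≤ Subgroup.centralizer {σ} := by
      refine sup_le ?_ ?_
      · rw [Subgroup.zpowers_le]
        exact Subgroup.mem_centralizer_singleton_iff.mpr rfl
      · intro x hx
        rw [mem_conj_smul_iff, Subgroup.mem_zpowers_iff] at hx
        obtain ⟨k, hk⟩ := hx
        have hx' : x = (g * σ * g⁻¹) ^ k := by
          rw [conj_zpow, hk]; group
        rw [Subgroup.mem_centralizer_singleton_iff, hx']
        exact (hcomm'.zpow_left k).eq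
    apply Subgroup.Normal.isSubnormal
    constructor
    intro n hn y
    rw [Subgroup.mem_subgroupOf] at hn ⊢
    rw [Subgroup.mem_zpowers_iff] at hn
    obtain ⟨k, hk⟩ := hn
    have hy : (y : Equiv.Perm (Fin 8)) * σ = σ * y :=
      (Subgroup.mem_centralizer_singleton_iff.mp (hJ y.2))
    have hyk : Commute (y : Equiv.Perm (Fin 8)) (σ ^ k) := (Commute.zpow_right hy k)
    have : ((y * n * y⁻¹ : _) : Equiv.Perm (Fin 8)) = (n : Equiv.Perm (Fin 8)) := by
      push_cast
      rw [← hk, hyk.eq, mul_inv_cancel_right]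
    rw [this, ← hk]
    exact Subgroup.zpow_mem_zpowers σ k
  · unfold Cfsg.pCore
    rw [sSup_eq_bot]
    rintro N ⟨hNn, hNp⟩
    by_contra hne
    haveI := hNn
    have h8 : 8 ∣ Nat.card N := Cfsg.Agent.S4325.card_dvd_of_normal_ne_bot N hne
    obtain ⟨k, hk⟩ := hNp.exists_card_eq
    rw [hk] at h8
    have h2 : 2 ∣ 3 ^ k := dvd_trans (by norm_num) h8
    have := (Nat.Prime.dvd_of_dvd_pow Nat.prime_two h2)
    omega

end Cfsg.Agent.S4332
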