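import Cfsg.Statements.S4333
import Cfsg.Agent.Lib.Helper02.Zipper

set_option autoImplicit false
open Pointwise
open Cfsg

namespace Cfsg.Agent.S4333

open Cfsg.Agent.Lib.Helper02 Cfsg.Agent.Lib.Helper01

variable {G : Type*} [Group G]

theorem conj_smul_lt_of_lt {H K : Subgroup G} (hHK : H < K) {k : G} (hk : k ∈ K) :
    MulAut.conj k • H < K := by
  have h3 : MulAut.conj k • H ≤ K := conj_smul_le_of_mem hHK.le hk
  refine lt_of_le_of_ne h3 ?_
  intro h4
  apply hHK.ne
  have h5 : MulAut.conj k⁻¹ • (MulAut.conj k • H) = MulAut.conj k⁻¹ • K := by rw [h4]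
  rw [conj_smul_conj_smul, inv_mul_cancel, map_one, one_smul,
    Subgroup.conj_smul_eq_self_of_mem (K.inv_mem hk)] at h5
  exact h5

/-- Sharpened Wielandt criterion, relative to a subgroup `K`: only conjugates by `K`-conjugates
of elements of `A` are needed. -/
theorem wielandt_sharp [Finite G] : ∀ (n : ℕ) (K A : Subgroup G), Nat.card K = n → A ≤ K →
    (∀ a ∈ A, ∀ g ∈ K, RSn A (A ⊔ MulAut.conj (g⁻¹ * a * g) • A)) → RSn A K := by
  intro n
  induction n using Nat.strong_induction_on with
  | _ n ih =>
    intro K A hn hAK hAx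
    by_contra hnot
    have hyp : ∀ H, A ≤ H → H < K → RSn A H := by
      intro H hAH hHK
      exact ih _ (hn ▸ card_lt_of_lt hHK) H A rfl hAH
        (fun a ha g hg => hAx a ha g (hHK.le hg))
    have hAK' : A < K := by
      refine lt_of_le_of_ne hAK ?_
      rintro rfl
      exact hnot (RSn.refl _)
    obtain ⟨M, hAM, hM⟩ := exists_maxIn hAK'
    let X : Set G := {x | ∃ a ∈ A, ∃ g ∈ K, x = g⁻¹ * a * g}
    have hXK : X ⊆ K := by
      rintro x ⟨a, ha, g, hg, rfl⟩
      exact K.mul_mem (K.mul_mem (K.inv_mem hg) (hAK ha)) hg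
    have claim : ∀ k ∈ K, MulAut.conj k • A ≤ M →
        ∀ x ∈ X, MulAut.conj x • (MulAut.conj k • A) ≤ M := by
      intro k hk hBM x hx
      have hBK : MulAut.conj k • A ≤ K := conj_smul_le_of_mem hAK hk
      have hKk' : MulAut.conj k⁻¹ • K = K := Subgroup.conj_smul_eq_self_of_mem (K.inv_mem hk)
      have hBnot : ¬ RSn (MulAut.conj k • A) K := by
        intro h
        have := h.conj k⁻¹
        rw [conj_smul_conj_smul, inv_mul_cancel, map_one, one_smul, hKk'] at this
        exact hnot this
      have hBhyp : ∀ H, MulAut.conj k • A ≤ H → H < K → RSn (MulAut.conj k • A) H := by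
        intro H hBH hHK
        have h1 : A ≤ MulAut.conj k⁻¹ • H := by
          have h2 := Subgroup.pointwise_smul_le_pointwise_smul_iff (a := MulAut.conj k⁻¹) |>.mpr hBH
          rwa [conj_smul_conj_smul, inv_mul_cancel, map_one, one_smul] at h2
        have h2 : MulAut.conj k⁻¹ • H < K := conj_smul_lt_of_lt hHK (K.inv_mem hk)
        have h3 := (hyp _ h1 h2).conj k
        rwa [conj_smul_conj_smul, mul_inv_cancel, map_one, one_smul] at h3
      obtain ⟨a, ha, g, hg, rfl⟩ := hx
      have hBx : RSn (MulAut.conj k • A)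
          (MulAut.conj k • A ⊔ MulAut.conj (g⁻¹ * a * g) • (MulAut.conj k • A)) := by
        have h1 := hAx a ha (g * k) (K.mul_mem hg hk)
        have h2 := h1.conj k
        rw [Subgroup.smul_sup, conj_smul_conj_smul] at h2
        have e : k * ((g * k)⁻¹ * a * (g * k)) = g⁻¹ * a * g * k := by group
        rw [e] at h2
        rw [conj_smul_conj_smul]
        exact h2
      have hxK : g⁻¹ * a * g ∈ K := hXK ⟨a, ha, g, hg, rfl⟩
      have hLK : MulAut.conj k • A ⊔ MulAut.conj (g⁻¹ * a * g) • (MulAut.conj k • A) ≤ K :=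
        sup_le hBK (conj_smul_le_of_mem hBK hxK)
      have hLne : MulAut.conj k • A ⊔ MulAut.conj (g⁻¹ * a * g) • (MulAut.conj k • A) ≠ K :=
        fun h => hBnot (h ▸ hBx)
      obtain ⟨M', hLM', hM'⟩ := exists_maxIn (lt_of_le_of_ne hLK hLne)
      have := zipper K _ (MulAut.conj k • A) rfl hBK hBnot hBhyp M' M hM' hM
        (le_sup_left.trans hLM') hBM
      exact this ▸ (le_sup_right.trans hLM')
    have hNK : Subgroup.closure X ≤ K := (Subgroup.closure_le K).mpr hXK
    have hAN : A ≤ Subgroup.closure X := fun a ha =>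
      Subgroup.subset_closure ⟨a, ha, 1, K.one_mem, by group⟩
    have hXinv : ∀ x ∈ X, x⁻¹ ∈ X := by
      rintro x ⟨a, ha, g, hg, rfl⟩
      exact ⟨a⁻¹, A.inv_mem ha, g, hg, by group⟩
    have hNconj : ∀ y ∈ Subgroup.closure X, MulAut.conj y • A ≤ M := by
      intro y hy
      induction hy using Subgroup.closure_induction_left with
      | one => simpa using hAM
      | mul_left x hx y hy ih =>
        rw [← conj_smul_conj_smul]
        exact claim y (hNK hy) ih x hx
      | inv_mul_cancel x hx y hy ih =>
        rw [← conj_smul_conj_smul]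
        exact claim y (hNK hy) ih x⁻¹ (hXinv x hx)
    have hconjN : ∀ k ∈ K, ∀ z ∈ Subgroup.closure X, k * z * k⁻¹ ∈ Subgroup.closure X := by
      intro k hk z hz
      induction hz using Subgroup.closure_induction with
      | mem x hx =>
        obtain ⟨a, ha, g, hg, rfl⟩ := hx
        exact Subgroup.subset_closure
          ⟨a, ha, g * k⁻¹, K.mul_mem hg (K.inv_mem hk), by group⟩
      | one => simp
      | mul x y _ _ ihx ihy =>
        have e : k * (x * y) * k⁻¹ = (k * x * k⁻¹) * (k * y * k⁻¹) := by group
        rw [e]; exact Subgroup.mul_mem _ ihx ihy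
      | inv x _ ihx =>
        have e : k * x⁻¹ * k⁻¹ = (k * x * k⁻¹)⁻¹ := by group
        rw [e]; exact Subgroup.inv_mem _ ihx
    have hKN : K ≤ Subgroup.normalizer ((Subgroup.closure X : Subgroup G) : Set G) := by
      rw [le_normalizer_iff_conj_smul]
      intro k hk
      have hle : ∀ k ∈ K, MulAut.conj k • Subgroup.closure X ≤ Subgroup.closure X := by
        intro k hk y hy
        obtain ⟨z, hz, rfl⟩ := (Subgroup.mem_smul_pointwise_iff_exists _ _ _).mp hy
        exact hconjN k hk z hz
      apply le_antisymm (hle k hk)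
      have h1 := hle k⁻¹ (K.inv_mem hk)
      have h2 := Subgroup.pointwise_smul_le_pointwise_smul_iff (a := MulAut.conj k) |>.mpr h1
      rwa [conj_smul_conj_smul, mul_inv_cancel, map_one, one_smul] at h2
    by_cases hNeq : Subgroup.closure X = K
    · have hconj : ∀ x ∈ K, MulAut.conj x • A ≤ M := fun x hx => hNconj x (hNeq ▸ hx)
      set C : Subgroup G := ⨆ x : K, MulAut.conj (x : G) • A with hC
      have hAC : A ≤ C := by
        have := le_iSup (fun x : K => MulAut.conj (x : G) • A) 1
        simpa using this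
      have hCM : C ≤ M := iSup_le fun x => hconj x x.2
      have hCK : C < K := lt_of_le_of_lt hCM hM.1
      have hsmul : ∀ k ∈ K, MulAut.conj k • C ≤ C := by
        intro k hk
        rw [Subgroup.pointwise_smul_subset_iff, hC]
        apply iSup_le
        intro x
        rw [← Subgroup.pointwise_smul_subset_iff, conj_smul_conj_smul]
        exact le_iSup (fun x : K => MulAut.conj (x : G) • A) ⟨k * x, K.mul_mem hk x.2⟩
      have hKC : K ≤ Subgroup.normalizer (C : Set G) := by
        rw [le_normalizer_iff_conj_smul]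
        intro k hk
        apply le_antisymm (hsmul k hk)
        have h1 := hsmul k⁻¹ (K.inv_mem hk)
        have h2 := Subgroup.pointwise_smul_le_pointwise_smul_iff (a := MulAut.conj k) |>.mpr h1
        rwa [conj_smul_conj_smul, mul_inv_cancel, map_one, one_smul] at h2
      exact hnot ((hyp C hAC hCK).trans (RSn.single hCK.le hKC))
    · have hNlt : Subgroup.closure X < K := lt_of_le_of_ne hNK hNeq
      exact hnot ((hyp _ hAN hNlt).trans (RSn.single hNK hKN))

/-- Let A be a subgroup of a finite group G. If A is subnormal in the subgroup generated by A and its conjugate by g⁻¹ a g, for every a ∈ A and every g ∈ G, then A is subnormal in G. (A sharpening of Wielandt's subnormality criterion: only conjugates of A by conjugates of elements of A are needed.) -/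
theorem result {G : Type*} [Group G] [Finite G]
    (A : Subgroup G)
    (h : ∀ a ∈ A, ∀ g : G, (A.subgroupOf (A ⊔ MulAut.conj (g⁻¹ * a * g) • A)).IsSubnormal) :
    A.IsSubnormal := by
  have h' : ∀ a ∈ A, ∀ g ∈ (⊤ : Subgroup G), RSn A (A ⊔ MulAut.conj (g⁻¹ * a * g) • A) :=
    fun a ha g _ => RSn.of_isSubnormal_subgroupOf le_sup_left (h a ha g)
  exact (wielandt_sharp _ ⊤ A rfl le_top h').isSubnormal_of_top

end Cfsg.Agent.S4333
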