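import Mathlib
import Cfsg.Statements.S4334
import Cfsg.Agent.Lib.Helper41.Frobenius
import Cfsg.Agent.Lib.Helper14.NilpHall
import Cfsg.Agent.Lib.Helper01.Coprime

set_option autoImplicit false
set_option linter.style.haveILetI false
open Cfsg
open scoped Pointwise

namespace Cfsg.Agent.S4334

section aux

variable {G : Type*} [Group G]

theorem mem_conj {g x : G} {M : Subgroup G} : x ∈ MulAut.conj g • M ↔ g⁻¹ * x * g ∈ M := by
  rw [Subgroup.mem_pointwise_smul_iff_inv_smul_mem]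
  simp [MulAut.smul_def]

/-- an element normalizing `U` whose order is coprime to the index of `C_G(U)` centralizes `U` -/
theorem mem_centralizer_of_coprime_index [Finite G] (U : Subgroup G) (g : G)
    (hg : ∀ x ∈ U, g * x * g⁻¹ ∈ U)
    (hc : (orderOf g).Coprime (Subgroup.centralizer (U : Set G)).index) :
    g ∈ Subgroup.centralizer (U : Set G) := by
  have hgN : g ∈ Subgroup.normalizer (U : Set G) := Subgroup.mem_normalizer_fintype hg
  set N := Subgroup.normalizer (U : Set G) with hN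
  set C := Subgroup.centralizer (U : Set G) with hC
  have hCN : C ≤ N := Subgroup.centralizer_le_normalizer _
  have hnor : (C.subgroupOf N).Normal := by
    rw [hC, hN, ← Subgroup.normalizerMonoidHom_ker]
    infer_instance
  have h1 : (⟨g, hgN⟩ : N) ^ (C.subgroupOf N).index ∈ C.subgroupOf N :=
    Subgroup.pow_index_mem _ _
  rw [Subgroup.mem_subgroupOf] at h1
  simp only [Subgroup.coe_pow] at h1
  have h2 : (C.subgroupOf N).index ∣ C.index := by
    have := Subgroup.relIndex_mul_index hCN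
    exact Dvd.intro _ this
  exact Cfsg.Agent.Lib.Helper14.mem_of_pow_mem_of_coprime (hc.coprime_dvd_right h2) h1

/-- Lemma Z: in `H = Hs × Ht` with `Hs` nilpotent and `p ∤ |Ht|`, `p`-elements commute with
`p'`-elements. -/
theorem commute_p_p' [Finite G] {H Hs Ht : Subgroup G}
    (hdec : ∀ h ∈ H, ∃ a ∈ Hs, ∃ b ∈ Ht, h = a * b)
    (hcomm : ∀ a ∈ Hs, ∀ b ∈ Ht, a * b = b * a)
    (hsn : Group.IsNilpotent Hs)
    (hcop : (Nat.card Hs).Coprime (Nat.card Ht))
    {p : ℕ} (hp : p.Prime) (hpt : ¬ p ∣ Nat.card Ht)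
    {h u : G} (hh : h ∈ H) (hu : u ∈ H) (hhp : (orderOf h).Coprime p) {k : ℕ}
    (huk : u ^ (p ^ k) = 1) : h * u = u * h := by
  obtain ⟨a, ha, b, hb, rfl⟩ := hdec u hu
  obtain ⟨a', ha', b', hb', rfl⟩ := hdec h hh
  have hab : Commute a b := hcomm a ha b hb
  have hab' : Commute a' b' := hcomm a' ha' b' hb'
  have hoa : orderOf a ∣ Nat.card Hs := by
    have := orderOf_dvd_natCard (⟨a, ha⟩ : Hs)
    rwa [← Subgroup.orderOf_coe] at this
  have hob : orderOf b ∣ Nat.card Ht := by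
    have := orderOf_dvd_natCard (⟨b, hb⟩ : Ht)
    rwa [← Subgroup.orderOf_coe] at this
  have hoa' : orderOf a' ∣ Nat.card Hs := by
    have := orderOf_dvd_natCard (⟨a', ha'⟩ : Hs)
    rwa [← Subgroup.orderOf_coe] at this
  have hob' : orderOf b' ∣ Nat.card Ht := by
    have := orderOf_dvd_natCard (⟨b', hb'⟩ : Ht)
    rwa [← Subgroup.orderOf_coe] at this
  have h1 : orderOf (a * b) = orderOf a * orderOf b :=
    hab.orderOf_mul_eq_mul_orderOf_of_coprime
      (Nat.Coprime.coprime_dvd_left hoa (Nat.Coprime.coprime_dvd_right hob hcop))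
  have h1' : orderOf (a' * b') = orderOf a' * orderOf b' :=
    hab'.orderOf_mul_eq_mul_orderOf_of_coprime
      (Nat.Coprime.coprime_dvd_left hoa' (Nat.Coprime.coprime_dvd_right hob' hcop))
  have h2 : orderOf (a * b) ∣ p ^ k := orderOf_dvd_of_pow_eq_one huk
  have hb1 : b = 1 := by
    rw [← orderOf_eq_one_iff]
    have h3 : orderOf b ∣ p ^ k := (Dvd.intro_left _ h1.symm).trans h2
    have h4 : (p ^ k).Coprime (Nat.card Ht) :=
      Nat.Coprime.pow_left _ ((Nat.Prime.coprime_iff_not_dvd hp).mpr hpt)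
    exact Nat.eq_one_of_dvd_coprimes h4 h3 hob
  subst hb1
  rw [mul_one] at h2 ⊢
  have h5 : (orderOf a').Coprime (orderOf a) := by
    have h6 : (orderOf a').Coprime p :=
      Nat.Coprime.coprime_dvd_left (Dvd.intro _ h1'.symm) hhp
    exact Nat.Coprime.coprime_dvd_right h2 (Nat.Coprime.pow_right _ h6)
  have h7 : a' * a = a * a' := Cfsg.Agent.Lib.Helper14.commute_of_mem_nilpotent hsn ha' ha h5
  have h8 : a * b' = b' * a := hcomm a ha b' hb'
  calc a' * b' * a = a' * (b' * a) := by rw [mul_assoc]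
    _ = a' * (a * b') := by rw [h8]
    _ = (a' * a) * b' := by rw [mul_assoc]
    _ = (a * a') * b' := by rw [h7]
    _ = a * (a' * b') := by rw [mul_assoc]

/-- Lemma S: a Sylow subgroup of a Hall subgroup is Sylow in `G`. -/
theorem exists_sylow_in_hall [Finite G] {H : Subgroup G} {q : ℕ} (hq : q.Prime)
    (hqH : ¬ q ∣ H.index) :
    ∃ R : Subgroup G, R ≤ H ∧ IsPGroup q R ∧ ¬ q ∣ R.index := by
  haveI : Fact q.Prime := ⟨hq⟩
  obtain ⟨P⟩ : Nonempty (Sylow q H) := inferInstance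
  refine ⟨(P : Subgroup H).map H.subtype, ?_, P.2.map _, ?_⟩
  · exact Subgroup.map_subtype_le _
  · rw [Subgroup.index_map_subtype]
    intro h
    rcases (Nat.Prime.dvd_mul hq).mp h with h | h
    · exact P.not_dvd_index h
    · exact hqH h

/-- orders of elements of a `q`-group are coprime to `p ≠ q`. -/
theorem coprime_orderOf_of_isPGroup {q p : ℕ} (hq : q.Prime) (hp : p.Prime) (hqp : q ≠ p)
    {R : Subgroup G} (hR : IsPGroup q R) {r : G} (hr : r ∈ R) : (orderOf r).Coprime p := by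
  obtain ⟨j, hj⟩ := hR ⟨r, hr⟩
  have h1 : r ^ (q ^ j) = 1 := by
    have := congrArg Subtype.val hj
    simpa using this
  have h2 : orderOf r ∣ q ^ j := orderOf_dvd_of_pow_eq_one h1
  exact Nat.Coprime.coprime_dvd_left h2 (Nat.Coprime.pow_left _ ((Nat.coprime_primes hq hp).mpr hqp))

/-- the centralizer of a `p`-subgroup `Q ≤ x • P` has index prime to `q` for `q ≠ p`, `q ∈ π`. -/
theorem not_dvd_index_centralizer [Finite G] {H Hs Ht : Subgroup G}
    (hdec : ∀ h ∈ H, ∃ a ∈ Hs, ∃ b ∈ Ht, h = a * b)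
    (hcomm : ∀ a ∈ Hs, ∀ b ∈ Ht, a * b = b * a)
    (hsn : Group.IsNilpotent Hs)
    (hcop : (Nat.card Hs).Coprime (Nat.card Ht))
    {p : ℕ} (hp : p.Prime) (hpt : ¬ p ∣ Nat.card Ht)
    {P : Subgroup G} (hPH : P ≤ H) (hP : IsPGroup p P) (x : G)
    {Q : Subgroup G} (hQ : Q ≤ MulAut.conj x • P)
    {q : ℕ} (hq : q.Prime) (hqp : q ≠ p) (hqH : ¬ q ∣ H.index) :
    ¬ q ∣ (Subgroup.centralizer (Q : Set G)).index := by
  obtain ⟨R, hRH, hR, hRi⟩ := exists_sylow_in_hall hq hqH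
  have hle : MulAut.conj x • R ≤ Subgroup.centralizer (Q : Set G) := by
    intro r hr
    rw [Subgroup.mem_centralizer_iff]
    intro y hy
    have hy' := mem_conj.mp (hQ hy)
    have hr' := mem_conj.mp hr
    obtain ⟨k, hk⟩ := hP ⟨_, hy'⟩
    have hk' : (x⁻¹ * y * x) ^ (p ^ k) = 1 := by
      have := congrArg Subtype.val hk
      simpa using this
    have h1 := commute_p_p' hdec hcomm hsn hcop hp hpt (hRH hr') (hPH hy')
      (coprime_orderOf_of_isPGroup hq hp hqp hR hr') hk'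
    -- h1 : x⁻¹ r x * (x⁻¹ y x) = (x⁻¹ y x) * (x⁻¹ r x)
    have h2 : x * ((x⁻¹ * r * x) * (x⁻¹ * y * x)) * x⁻¹ = r * y := by group
    have h3 : x * ((x⁻¹ * y * x) * (x⁻¹ * r * x)) * x⁻¹ = y * r := by group
    rw [← h2, ← h3, h1]
  intro hdvd
  apply hRi
  rw [← Cfsg.Agent.Lib.Helper14.index_conj_smul x R]
  exact hdvd.trans (Subgroup.index_dvd_of_le hle)

/-- Lemma F: π-elements of order prime to `p` normalizing a `p`-subgroup centralize it. -/
theorem frob_cond [Finite G] {H Hs Ht : Subgroup G} {π : Set ℕ}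
    (hH : Cfsg.IsPiHall π H)
    (hdec : ∀ h ∈ H, ∃ a ∈ Hs, ∃ b ∈ Ht, h = a * b)
    (hcomm : ∀ a ∈ Hs, ∀ b ∈ Ht, a * b = b * a)
    (hsn : Group.IsNilpotent Hs)
    (hcop : (Nat.card Hs).Coprime (Nat.card Ht))
    {p : ℕ} (hp : p.Prime) (hpπ : p ∈ π) (hpt : ¬ p ∣ Nat.card Ht)
    {Q : Subgroup G} (hQ : IsPGroup p Q) {g : G} (hg : ∀ x ∈ Q, g * x * g⁻¹ ∈ Q)
    (hgπ : ∀ q : ℕ, q.Prime → q ∣ orderOf g → q ∈ π) (hgp : (orderOf g).Coprime p) :
    g ∈ Subgroup.centralizer (Q : Set G) := by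
  haveI : Fact p.Prime := ⟨hp⟩
  obtain ⟨P, hPH, hP, hPi⟩ := exists_sylow_in_hall hp (hH.2 p hp hpπ)
  obtain ⟨x, -, hx⟩ := Cfsg.Agent.Lib.Helper14.exists_conj_le_of_not_dvd_relIndex
    (le_top : Q ≤ ⊤) hP hQ (by rwa [Subgroup.relIndex_top_right])
  apply mem_centralizer_of_coprime_index Q g hg
  apply Nat.coprime_of_dvd
  intro q hq hqg
  have hqp : q ≠ p := by
    rintro rfl
    have := Nat.dvd_gcd hqg (dvd_refl q)
    rw [hgp] at this
    exact hq.one_lt.ne' (Nat.dvd_one.mp this)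
  exact not_dvd_index_centralizer hdec hcomm hsn hcop hp hpt hPH hP x hx hq hqp
    (hH.2 q hq (hgπ q hq hqg))

theorem orderOf_conj_inv (g m : G) : orderOf (g⁻¹ * m * g) = orderOf m := by
  have : g⁻¹ * m * g = MulAut.conj g⁻¹ m := by simp
  rw [this, MulEquiv.orderOf_eq]

/-- `Ht` is a maximal τ-subgroup. -/
theorem maximal_Ht [Finite G] {H Hs Ht : Subgroup G} {σ τ π : Set ℕ} (hπ : π = σ ∪ τ)
    (hd : Disjoint σ τ) (hH : Cfsg.IsPiHall π H)
    (hs : Cfsg.IsPiSubgroup σ Hs) (ht : Cfsg.IsPiSubgroup τ Ht)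
    (hcard : Nat.card H = Nat.card Hs * Nat.card Ht) :
    Maximal (Cfsg.IsPiSubgroup τ) Ht := by
  refine ⟨ht, fun T hT hle => ?_⟩
  have h1 : Nat.card T ∣ Nat.card Hs * Nat.card Ht * H.index := by
    rw [← hcard, Subgroup.card_mul_index]
    exact Subgroup.card_subgroup_dvd_card T
  have cop1 : (Nat.card T).Coprime (Nat.card Hs) :=
    Nat.coprime_of_dvd (fun q hq hqT hqs =>
      Set.disjoint_left.mp hd (hs q hq hqs) (hT q hq hqT))
  have cop2 : (Nat.card T).Coprime H.index :=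
    Nat.coprime_of_dvd (fun q hq hqT hqi =>
      hH.2 q hq (hπ ▸ Or.inr (hT q hq hqT)) hqi)
  have h2 : Nat.card T ∣ Nat.card Ht :=
    cop1.dvd_of_dvd_mul_left (cop2.dvd_of_dvd_mul_right h1)
  exact le_of_eq (Subgroup.eq_of_le_of_card_ge hle (Nat.le_of_dvd Nat.card_pos h2)).symm

theorem main_claim [Finite G] {H Hs Ht : Subgroup G} {σ τ π : Set ℕ} (hπ : π = σ ∪ τ)
    (hd : Disjoint σ τ) (hH : Cfsg.IsPiHall π H)
    (hs : Cfsg.IsPiSubgroup σ Hs) (ht : Cfsg.IsPiSubgroup τ Ht)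
    (hdec : ∀ h ∈ H, ∃ a ∈ Hs, ∃ b ∈ Ht, h = a * b)
    (hcomm : ∀ a ∈ Hs, ∀ b ∈ Ht, a * b = b * a)
    (hsn : Group.IsNilpotent Hs)
    (hcop : (Nat.card Hs).Coprime (Nat.card Ht))
    (hcard : Nat.card H = Nat.card Hs * Nat.card Ht)
    (hHtH : Ht ≤ H)
    (hD : Cfsg.IsDPiGroup τ G) :
    ∀ n : ℕ, ∀ K : Subgroup G, Nat.card K = n → Cfsg.IsPiSubgroup π K →
      ∃ g : G, K ≤ MulAut.conj g • H := by
  intro n
  induction n using Nat.strong_induction_on with
  | _ n ih =>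
  intro K hKn hK
  by_cases hex : ∃ p : ℕ, p.Prime ∧ p ∣ Nat.card K ∧ p ∣ Nat.card Hs
  · obtain ⟨p, hp, hpK, hpHs⟩ := hex
    have hpσ : p ∈ σ := hs p hp hpHs
    have hpπ : p ∈ π := hπ ▸ Or.inl hpσ
    have hpt : ¬ p ∣ Nat.card Ht := fun h => Set.disjoint_left.mp hd hpσ (ht p hp h)
    haveI : Fact p.Prime := ⟨hp⟩
    have hfrob : Cfsg.Agent.Lib.Helper41.FrobCond p ↥K := by
      intro Q hQ g hg hgp
      have h1 : (g : G) ∈ Subgroup.centralizer ((Q.map K.subtype : Subgroup G) : Set G) := by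
        apply frob_cond hH hdec hcomm hsn hcop hp hpπ hpt (hQ.map _)
        · rintro _ ⟨y, hy, rfl⟩
          exact ⟨g * y * g⁻¹, (Subgroup.mem_normalizer_iff.mp hg y).mp hy, by simp⟩
        · intro q hq hqg
          rw [Subgroup.orderOf_coe] at hqg
          exact hK q hq (hqg.trans (orderOf_dvd_natCard g))
        · rwa [Subgroup.orderOf_coe]
      rw [Subgroup.mem_centralizer_iff] at h1 ⊢
      intro y hy
      apply Subtype.ext
      simpa using h1 (y : G) ⟨y, hy, rfl⟩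
    obtain ⟨S, N, hNn, hNS⟩ := Cfsg.Agent.Lib.Helper41.hasNormalPComplement_of_frobCond hfrob
    have hcardmul : Nat.card N * Nat.card S = Nat.card K := hNS.card_mul_card
    have hSne : (S : Subgroup K) ≠ ⊥ := S.ne_bot_of_dvd_card hpK
    have hS1 : 1 < Nat.card S := by
      have h0 : Nat.card S ≠ 0 := Nat.card_pos.ne'
      have h1 : Nat.card S ≠ 1 := fun h => hSne (Subgroup.card_eq_one.mp h)
      omega
    have hNpos : 0 < Nat.card N := Nat.card_pos
    have hNlt : Nat.card N < Nat.card K := by rw [← hcardmul]; nlinarith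
    set M : Subgroup G := N.map K.subtype with hM
    have hMcard : Nat.card M = Nat.card N :=
      Subgroup.card_map_of_injective K.subtype_injective
    have hMK : M ≤ K := Subgroup.map_subtype_le _
    have hMπ : IsPiSubgroup π M :=
      fun q hq hqM => hK q hq (hqM.trans (Subgroup.card_dvd_of_le hMK))
    obtain ⟨g₀, hg₀⟩ := ih (Nat.card M) (by rw [hMcard, ← hKn]; exact hNlt) M rfl hMπ
    have hpM : ¬ p ∣ Nat.card M := by
      rw [hMcard, ← hNS.index_eq_card]
      exact S.not_dvd_index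
    obtain ⟨P, hPH, hP, hPi⟩ := exists_sylow_in_hall hp (hH.2 p hp hpπ)
    have hPcent : MulAut.conj g₀ • P ≤ Subgroup.centralizer (M : Set G) := by
      intro u hu
      rw [Subgroup.mem_centralizer_iff]
      intro m hm
      have hu' := mem_conj.mp hu
      have hm' := mem_conj.mp (hg₀ hm)
      obtain ⟨k, hk⟩ := hP ⟨_, hu'⟩
      have hk' : (g₀⁻¹ * u * g₀) ^ (p ^ k) = 1 := by
        have := congrArg Subtype.val hk
        simpa using this
      have hom : (orderOf (g₀⁻¹ * m * g₀)).Coprime p := by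
        rw [orderOf_conj_inv]
        have h2 : orderOf m ∣ Nat.card M := by
          have := orderOf_dvd_natCard (⟨m, hm⟩ : M)
          rwa [← Subgroup.orderOf_coe] at this
        exact Nat.Coprime.coprime_dvd_left h2
          ((Nat.Prime.coprime_iff_not_dvd hp).mpr hpM).symm
      have h1 := commute_p_p' hdec hcomm hsn hcop hp hpt hm' (hPH hu') hom hk'
      have h2 : g₀ * ((g₀⁻¹ * m * g₀) * (g₀⁻¹ * u * g₀)) * g₀⁻¹ = m * u := by group
      have h3 : g₀ * ((g₀⁻¹ * u * g₀) * (g₀⁻¹ * m * g₀)) * g₀⁻¹ = u * m := by group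
      rw [← h2, ← h3, h1]
    set Kp : Subgroup G := (S : Subgroup K).map K.subtype with hKp
    have hKpP : IsPGroup p Kp := S.2.map _
    have hidxC : ¬ p ∣ (Subgroup.centralizer (M : Set G)).index := fun hdvd => hPi (by
      rw [← Cfsg.Agent.Lib.Helper14.index_conj_smul g₀ P]
      exact hdvd.trans (Subgroup.index_dvd_of_le hPcent))
    have hKpcent : Kp ≤ Subgroup.centralizer (M : Set G) := by
      rintro _ ⟨y, hy, rfl⟩
      apply mem_centralizer_of_coprime_index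
      · rintro _ ⟨m, hm, rfl⟩
        exact ⟨y * m * y⁻¹, hNn.conj_mem m hm y, by simp⟩
      · obtain ⟨k, hk⟩ := S.2 ⟨y, hy⟩
        have hk' : ((y : K) : G) ^ (p ^ k) = 1 := by
          have := congrArg Subtype.val (congrArg Subtype.val hk)
          simpa using this
        have h2 : orderOf ((y : K) : G) ∣ p ^ k := orderOf_dvd_of_pow_eq_one hk'
        exact Nat.Coprime.coprime_dvd_left h2
          (Nat.Coprime.pow_left _ ((Nat.Prime.coprime_iff_not_dvd hp).mpr hidxC))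
    have hrel : ¬ p ∣ (MulAut.conj g₀ • P).relIndex (Subgroup.centralizer (M : Set G)) := by
      intro hdvd
      apply hPi
      rw [← Cfsg.Agent.Lib.Helper14.index_conj_smul g₀ P]
      exact hdvd.trans (Dvd.intro _ (Subgroup.relIndex_mul_index hPcent))
    have hgP : IsPGroup p (MulAut.conj g₀ • P : Subgroup G) :=
      hP.map (MulAut.conj g₀).toMonoidHom
    obtain ⟨c, hc, hcK⟩ := Cfsg.Agent.Lib.Helper14.exists_conj_le_of_not_dvd_relIndex
      hKpcent hgP hKpP hrel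
    refine ⟨c * g₀, ?_⟩
    intro k hk
    obtain ⟨⟨n', s'⟩, hns⟩ := (Subgroup.isComplement_iff_existsUnique.mp hNS ⟨k, hk⟩).exists
    have hk_eq : k = ((n' : K) : G) * ((s' : K) : G) := by
      have := congrArg Subtype.val hns
      simpa using this.symm
    have hnM : ((n' : K) : G) ∈ M := ⟨n', n'.2, rfl⟩
    have hsKp : ((s' : K) : G) ∈ Kp := ⟨s', s'.2, rfl⟩
    have h1 : g₀⁻¹ * ((n' : K) : G) * g₀ ∈ H := mem_conj.mp (hg₀ hnM)
    have h2 : g₀⁻¹ * (c⁻¹ * ((s' : K) : G) * c) * g₀ ∈ H :=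
      hPH (mem_conj.mp (mem_conj.mp (hcK hsKp)))
    have h3 : ((n' : K) : G) * c = c * ((n' : K) : G) := Subgroup.mem_centralizer_iff.mp hc _ hnM
    rw [mem_conj, hk_eq]
    have h4 : (c * g₀)⁻¹ * (((n' : K) : G) * ((s' : K) : G)) * (c * g₀)
        = (g₀⁻¹ * ((n' : K) : G) * g₀) * (g₀⁻¹ * (c⁻¹ * ((s' : K) : G) * c) * g₀) := by
      have h5 : c⁻¹ * ((n' : K) : G) = ((n' : K) : G) * c⁻¹ := by
        calc c⁻¹ * ((n' : K) : G) = c⁻¹ * (((n' : K) : G) * c) * c⁻¹ := by group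
          _ = c⁻¹ * (c * ((n' : K) : G)) * c⁻¹ := by rw [h3]
          _ = ((n' : K) : G) * c⁻¹ := by group
      calc (c * g₀)⁻¹ * (((n' : K) : G) * ((s' : K) : G)) * (c * g₀)
          = g₀⁻¹ * (c⁻¹ * ((n' : K) : G)) * ((s' : K) : G) * c * g₀ := by group
        _ = g₀⁻¹ * (((n' : K) : G) * c⁻¹) * ((s' : K) : G) * c * g₀ := by rw [h5]
        _ = _ := by group
    rw [h4]
    exact H.mul_mem h1 h2
  · push Not at hex
    have hKτ : IsPiSubgroup τ K := by
      intro q hq hqK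
      have hqπ := hK q hq hqK
      have h1 : ¬ q ∣ H.index := hH.2 q hq hqπ
      have h2 : q ∣ Nat.card H * H.index := by
        rw [Subgroup.card_mul_index]
        exact hqK.trans (Subgroup.card_subgroup_dvd_card K)
      have h3 : q ∣ Nat.card H := ((Nat.Prime.dvd_mul hq).mp h2).resolve_right h1
      rw [hcard] at h3
      have h4 : q ∣ Nat.card Ht := ((Nat.Prime.dvd_mul hq).mp h3).resolve_left (hex q hq hqK)
      exact ht q hq h4
    obtain ⟨T, hKT, hT⟩ : ∃ T, K ≤ T ∧ Maximal (IsPiSubgroup τ) T :=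
      Set.Finite.exists_le_maximal (Set.toFinite {T | IsPiSubgroup τ T}) hKτ
    obtain ⟨g, hg⟩ := hD Ht T (maximal_Ht hπ hd hH hs ht hcard) hT
    refine ⟨g, ?_⟩
    rw [hg] at hKT
    exact hKT.trans (Subgroup.map_mono hHtH)

end aux

/-- Let σ and τ be disjoint sets of primes with union π. Suppose a finite group G has a Hall π-subgroup H which is the direct product of a nilpotent σ-subgroup and a τ-subgroup (two elementwise-commuting subgroups generating H), and that the maximal τ-subgroups of G are pairwise conjugate. Then the maximal π-subgroups of G are pairwise conjugate. -/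
theorem result {G : Type*} [Group G] [Finite G]
    (σ τ π : Set ℕ) (hπ : π = σ ∪ τ) (hd : Disjoint σ τ) (H Hs Ht : Subgroup G) (hH : Cfsg.IsPiHall π H)
    (hs : Cfsg.IsPiSubgroup σ Hs) (ht : Cfsg.IsPiSubgroup τ Ht) (hsn : Group.IsNilpotent Hs)
    (hjoin : Hs ⊔ Ht = H) (hcomm : ∀ a ∈ Hs, ∀ b ∈ Ht, a * b = b * a) (hD : Cfsg.IsDPiGroup τ G) :
    Cfsg.IsDPiGroup π G := by
  have hcop : (Nat.card Hs).Coprime (Nat.card Ht) :=
    Nat.coprime_of_dvd (fun q hq hqs hqt => Set.disjoint_left.mp hd (hs q hq hqs) (ht q hq hqt))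
  have hnorm : Hs ≤ Subgroup.normalizer (Ht : Set G) := by
    refine le_trans ?_ (Subgroup.centralizer_le_normalizer _)
    intro a ha
    rw [Subgroup.mem_centralizer_iff]
    intro b hb
    exact (hcomm a ha b hb).symm
  have hdec : ∀ h ∈ H, ∃ a ∈ Hs, ∃ b ∈ Ht, h = a * b := by
    intro h hh
    rw [← hjoin] at hh
    exact Cfsg.Agent.Lib.Helper01.exists_mul_of_mem_sup hnorm hh
  have hcard : Nat.card H = Nat.card Hs * Nat.card Ht := by
    rw [← hjoin]
    have := Cfsg.Agent.Lib.Helper01.card_sup_of_coprime_of_le_normalizer Ht Hs hnorm hcop.symm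
    rw [this, mul_comm]
  have hHtH : Ht ≤ H := hjoin ▸ le_sup_right
  have main := main_claim hπ hd hH hs ht hdec hcomm hsn hcop hcard hHtH hD
  intro M1 M2 hM1 hM2
  have hHπ : IsPiSubgroup π H := hH.1
  have key : ∀ M, Maximal (IsPiSubgroup π) M → ∃ g : G, M = MulAut.conj g • H := by
    intro M hM
    obtain ⟨g, hg⟩ := main _ M rfl hM.1
    refine ⟨g, le_antisymm hg (hM.2 ?_ hg)⟩
    intro q hq hqd
    rw [Cfsg.Agent.Lib.Helper14.card_conj_smul] at hqd
    exact hHπ q hq hqd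
  obtain ⟨g1, h1⟩ := key M1 hM1
  obtain ⟨g2, h2⟩ := key M2 hM2
  refine ⟨g2 * g1⁻¹, ?_⟩
  show M2 = MulAut.conj (g2 * g1⁻¹) • M1
  rw [h1, h2, smul_smul, ← map_mul, inv_mul_cancel_right]

end Cfsg.Agent.S4334
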