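import Cfsg.Statements.S4337
import Cfsg.Agent.Lib.Helper77.PermSmall

set_option autoImplicit false
open Cfsg

namespace Cfsg.Agent.S4337

open Cfsg.Agent.Lib.Helper77 Equiv

/-- Adjoining an element commuting with a solvable generated subgroup keeps it solvable. -/
theorem solvable_closure_insert_of_commute {G : Type*} [Group G] (S : Set G) (z : G)
    (hS : Group.IsSolvable (Subgroup.closure S)) (hz : ∀ s ∈ S, Commute z s) :
    Group.IsSolvable (Subgroup.closure (insert z S)) := by
  have hcent : Subgroup.closure S ≤ Subgroup.centralizer {z} := by
    rw [Subgroup.closure_le]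
    intro s hs
    rw [SetLike.mem_coe, Subgroup.mem_centralizer_singleton_iff]
    exact (hz s hs).eq.symm
  have hcomm : ∀ (m : Subgroup.zpowers z) (n : Subgroup.closure S),
      Commute ((Subgroup.zpowers z).subtype m) ((Subgroup.closure S).subtype n) := by
    intro m n
    obtain ⟨k, hk⟩ := Subgroup.mem_zpowers_iff.mp m.2
    have h1 : Commute z (n : G) := by
      have := hcent n.2
      rw [Subgroup.mem_centralizer_singleton_iff] at this
      exact this.symm
    have h2 : Commute (z ^ k) (n : G) := h1.zpow_left k
    simpa [← hk] using h2
  let φ := MonoidHom.noncommCoprod (Subgroup.zpowers z).subtype (Subgroup.closure S).subtype hcomm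
  have hrange : φ.range = Subgroup.closure (insert z S) := by
    rw [MonoidHom.noncommCoprod_range, Subgroup.range_subtype, Subgroup.range_subtype,
      Set.insert_eq, Subgroup.closure_union, Subgroup.zpowers_eq_closure]
  have hzs : Group.IsSolvable (Subgroup.zpowers z) :=
    Group.isSolvable_of_comm
      (fun a b => (inferInstance : IsMulCommutative (Subgroup.zpowers z)).is_comm.comm a b)
  have hsol : Group.IsSolvable φ.range :=
    Group.isSolvable_of_surjective (f := φ.rangeRestrict) (MonoidHom.rangeRestrict_surjective _)
  rw [← hrange]
  exact hsol

/-- If all generators have support in `T`, so has every element of the generated subgroup. -/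
theorem closure_support_subset {α : Type*} [DecidableEq α] [Fintype α] (S : Set (Perm α))
    (T : Finset α) (hS : ∀ s ∈ S, s.support ⊆ T) :
    ∀ σ ∈ Subgroup.closure S, ∀ x, σ x ≠ x → x ∈ T := by
  intro σ hσ
  have : σ.support ⊆ T := by
    induction hσ using Subgroup.closure_induction with
    | mem s hs => exact hS s hs
    | one => simp
    | mul a b _ _ ha hb =>
      exact (Perm.support_mul_le a b).trans (Finset.union_subset ha hb)
    | inv a _ ha => rwa [Perm.support_inv]
  intro x hx
  exact this (Perm.mem_support.mpr hx)

/-- Swaps whose supports lie in a common set of at most four points generate a solvable group. -/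
theorem solvable_of_card_le {n : ℕ} (S : Set (Perm (Fin n))) (T : Finset (Fin n)) (hT : T.card ≤ 4)
    (hS : ∀ s ∈ S, s.support ⊆ T) : Group.IsSolvable (Subgroup.closure S) :=
  solvable_of_support_subset T hT _ (closure_support_subset S T hS)

theorem card_union_le_of_not_disjoint {α : Type*} [DecidableEq α] (X Y : Finset α)
    (h : ¬ Disjoint X Y) : (X ∪ Y).card + 1 ≤ X.card + Y.card := by
  rw [← Finset.card_union_add_card_inter]
  have : 0 < (X ∩ Y).card := by
    rw [Finset.card_pos]
    rwa [Finset.not_disjoint_iff_nonempty_inter] at h
  omega

/-- Three 2-sets, one of which meets both others, have union of size at most 4. -/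
theorem card_union3_le {α : Type*} [DecidableEq α] (X Y Z : Finset α) (hX : X.card = 2)
    (hY : Y.card = 2) (hZ : Z.card = 2) (h1 : ¬ Disjoint X Y) (h2 : ¬ Disjoint X Z) :
    (X ∪ Y ∪ Z).card ≤ 4 := by
  have e1 := card_union_le_of_not_disjoint X Y h1
  have h3 : ¬ Disjoint (X ∪ Y) Z := by
    intro hd
    exact h2 (hd.mono_left Finset.subset_union_left)
  have e2 := card_union_le_of_not_disjoint (X ∪ Y) Z h3
  omega

/-- Main case 1: `c` is disjoint from both `a` and `b`. -/
theorem case_disjoint {n : ℕ} (a b c : Perm (Fin n)) (ha : a.IsSwap) (hb : b.IsSwap)
    (hca : Disjoint c.support a.support) (hcb : Disjoint c.support b.support) :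
    Group.IsSolvable (Subgroup.closure ({c, a, b} : Set (Perm (Fin n)))) := by
  apply solvable_closure_insert_of_commute
  · apply solvable_of_card_le _ (a.support ∪ b.support)
    · have h1 := Perm.card_support_eq_two.mpr ha
      have h2 := Perm.card_support_eq_two.mpr hb
      have := Finset.card_union_le a.support b.support
      omega
    · intro s hs
      rcases hs with rfl | rfl
      · exact Finset.subset_union_left
      · exact Finset.subset_union_right
  · intro s hs
    rcases hs with rfl | rfl
    · exact (Perm.disjoint_iff_disjoint_support.mpr hca).commute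
    · exact (Perm.disjoint_iff_disjoint_support.mpr hcb).commute

/-- Main case 2: `a` meets both `b` and `c`. -/
theorem case_meet {n : ℕ} (a b c : Perm (Fin n)) (ha : a.IsSwap) (hb : b.IsSwap) (hc : c.IsSwap)
    (hab : ¬ Disjoint a.support b.support) (hac : ¬ Disjoint a.support c.support)
    (S : Set (Perm (Fin n))) (hS : S ⊆ {a, b, c}) :
    Group.IsSolvable (Subgroup.closure S) := by
  apply solvable_of_card_le _ (a.support ∪ b.support ∪ c.support)
  · exact card_union3_le _ _ _ (Perm.card_support_eq_two.mpr ha) (Perm.card_support_eq_two.mpr hb)
      (Perm.card_support_eq_two.mpr hc) hab hac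
  · intro s hs
    rcases hS hs with rfl | rfl | rfl
    · exact Finset.subset_union_left.trans Finset.subset_union_left
    · exact Finset.subset_union_right.trans Finset.subset_union_left
    · exact Finset.subset_union_right

/-- In a finite symmetric group, any three transpositions generate a solvable subgroup. -/
theorem result (n : ℕ) (a b c : Equiv.Perm (Fin n))
    (ha : a.IsSwap) (hb : b.IsSwap) (hc : c.IsSwap) :
    Group.IsSolvable (Subgroup.closure ({a, b, c} : Set (Equiv.Perm (Fin n)))) := by
  by_cases hab : Disjoint a.support b.support
  · by_cases hac : Disjoint a.support c.support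
    · -- a is disjoint from both
      exact case_disjoint b c a hb hc hab hac
    · by_cases hbc : Disjoint b.support c.support
      · -- b is disjoint from both
        have h := case_disjoint a c b ha hc hab.symm hbc
        have e : ({b, a, c} : Set (Perm (Fin n))) = {a, b, c} := by
          ext x; simp only [Set.mem_insert_iff, Set.mem_singleton_iff]; tauto
        rwa [e] at h
      · -- c meets both a and b
        refine case_meet c a b hc ha hb (fun h => hac h.symm) (fun h => hbc h.symm) _ ?_
        intro x hx
        simp only [Set.mem_insert_iff, Set.mem_singleton_iff] at hx ⊢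
        tauto
  · by_cases hac : Disjoint a.support c.support
    · by_cases hbc : Disjoint b.support c.support
      · -- c is disjoint from both
        have h := case_disjoint a b c ha hb hac.symm hbc.symm
        have e : ({c, a, b} : Set (Perm (Fin n))) = {a, b, c} := by
          ext x; simp only [Set.mem_insert_iff, Set.mem_singleton_iff]; tauto
        rwa [e] at h
      · -- b meets both a and c
        refine case_meet b a c hb ha hc (fun h => hab h.symm) hbc _ ?_
        intro x hx
        simp only [Set.mem_insert_iff, Set.mem_singleton_iff] at hx ⊢
        tauto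
    · -- a meets both b and c
      exact case_meet a b c ha hb hc hab hac _ (subset_refl _)

end Cfsg.Agent.S4337
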