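import Cfsg.Statements.S4341
import Cfsg.Agent.Lib.Helper77.SylowFiber

set_option autoImplicit false
open Cfsg

namespace Cfsg.Agent.S4341

open Cfsg.Agent.Lib.Helper77

/-- Let K be a normal subgroup of a finite group G, p a prime and P a Sylow p-subgroup of G; let N be the normalizer of P ∩ K inside the subgroup PK. Then the number of Sylow p-subgroups of G equals the product of the numbers of Sylow p-subgroups of G/K, of K, and of N/(P ∩ K). (The normality of P ∩ K in N, which always holds, is assumed as a hypothesis so that the quotient can be formed.) -/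
theorem result {G : Type*} [Group G] [Finite G]
    (p : ℕ) [Fact p.Prime] (K : Subgroup G) [K.Normal] (P : Sylow p G) (N : Subgroup G)
    (hN : N = ((P : Subgroup G) ⊔ K) ⊓ Subgroup.normalizer (((P : Subgroup G) ⊓ K : Subgroup G) : Set G))
    [hn : (((P : Subgroup G) ⊓ K).subgroupOf N).Normal] :
    Nat.card (Sylow p G) =
      Nat.card (Sylow p (G ⧸ K)) * Nat.card (Sylow p K) * Nat.card (Sylow p (N ⧸ ((P : Subgroup G) ⊓ K).subgroupOf N)) := by
  -- step 1
  rw [card_sylow_eq_quotient_mul K P, mul_assoc]
  congr 1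
  -- step 2, inside L = P ⊔ K
  generalize hL : (P : Subgroup G) ⊔ K = L at *
  have hPL : (P : Subgroup G) ≤ L := hL ▸ le_sup_left
  have hKL : K ≤ L := hL ▸ le_sup_right
  have hNL : N ≤ L := hN ▸ inf_le_left
  have : (K.subgroupOf L).Normal := inferInstance
  rw [card_sylow_eq_normal_mul (K.subgroupOf L) (P.subtype hPL)]
  -- step 3
  rw [card_sylow_congr (p := p) (Subgroup.subgroupOfEquivOfLe hKL)]
  congr 1
  -- step 4
  have hinf : ((P.subtype hPL : Sylow p L) : Subgroup L) ⊓ K.subgroupOf L =
      ((P : Subgroup G) ⊓ K).subgroupOf L := by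
    rw [Sylow.coe_subtype]
    ext x
    simp [Subgroup.mem_subgroupOf]
  have hnorm : Subgroup.normalizer
      ((((P.subtype hPL : Sylow p L) : Subgroup L) ⊓ K.subgroupOf L : Subgroup L) : Set L) =
      N.subgroupOf L := by
    rw [hinf, ← Subgroup.subgroupOf_normalizer_eq (inf_le_left.trans hPL), hN,
      Subgroup.inf_subgroupOf_left]
  rw [hnorm, card_sylow_congr (p := p) (Subgroup.subgroupOfEquivOfLe hNL)]
  -- step 5
  have hDp : IsPGroup p (((P : Subgroup G) ⊓ K).subgroupOf N) := by
    have h1 : IsPGroup p ((P : Subgroup G) ⊓ K : Subgroup G) := P.isPGroup'.to_le inf_le_left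
    exact h1.comap_of_injective N.subtype N.subtype_injective
  rw [card_sylow_quotient_pgroup _ hDp]

end Cfsg.Agent.S4341
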