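import Cfsg.Statements.S4343
import Cfsg.Agent.Lib.Helper77.ConjUnion

set_option autoImplicit false
open Cfsg

namespace Cfsg.Agent.S4343

open Cfsg.Agent.Lib.Helper77
open scoped Pointwise

theorem mem_smul_sylow {G : Type*} [Group G] {p : ℕ} (g x : G) (P : Sylow p G) :
    x ∈ ((g • P : Sylow p G) : Subgroup G) ↔ g⁻¹ * x * g ∈ (P : Subgroup G) := by
  rw [Sylow.coe_subgroup_smul, mem_conj_smul_iff]

/-- A finite simple `p`-group is commutative. -/
theorem comm_of_simple_pgroup {S : Type*} [Group S] [Finite S] [IsSimpleGroup S]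
    (p : ℕ) [Fact p.Prime] (h : IsPGroup p S) : IsMulCommutative S := by
  have hnt : Nontrivial (Subgroup.center S) := h.center_nontrivial
  have hne : Subgroup.center S ≠ ⊥ := by
    intro hb
    have : Subsingleton (Subgroup.center S) := by
      rw [hb]; infer_instance
    exact not_subsingleton _ this
  have htop : Subgroup.center S = ⊤ :=
    (IsSimpleGroup.eq_bot_or_eq_top_of_normal (Subgroup.center S) inferInstance).resolve_left hne
  refine ⟨⟨fun a b => ?_⟩⟩
  have hb : b ∈ Subgroup.center S := htop ▸ Subgroup.mem_top b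
  exact (Subgroup.mem_center_iff.mp hb a)

section
variable {S : Type*} [Group S] [Finite S] (p : ℕ) [Fact p.Prime]

/-- Any two Sylow `p`-subgroups have the same order. -/
theorem card_sylow_eq (T Q : Sylow p S) : Nat.card T = Nat.card Q := by
  rw [Sylow.card_eq_multiplicity, Sylow.card_eq_multiplicity]

/-- If there are fewer than `p²` Sylow `p`-subgroups, any two distinct ones meet in a subgroup
of index `p`. -/
theorem card_inf_mul (hn : Nat.card (Sylow p S) < p ^ 2) (T Q : Sylow p S) (hQT : Q ≠ T) :
    Nat.card ((Q : Subgroup S) ⊓ T : Subgroup S) * p = Nat.card T := by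
  have hp : p.Prime := Fact.out
  -- the stabilizer of `Q` in `T`
  have hstab : MulAction.stabilizer T Q = ((Q : Subgroup S) ⊓ T).subgroupOf T := by
    ext x
    rw [MulAction.mem_stabilizer_iff, Subgroup.mem_subgroupOf]
    have h1 : x • Q = Q ↔ (x : S) ∈ Subgroup.normalizer (Q : Set S) :=
      Sylow.smul_eq_iff_mem_normalizer (g := (x : S)) (P := Q)
    rw [h1]
    have h2 := T.isPGroup'.inf_normalizer_sylow Q
    constructor
    · intro hx
      have : (x : S) ∈ (T : Subgroup S) ⊓ Subgroup.normalizer (Q : Set S) := ⟨x.2, hx⟩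
      rw [h2] at this
      exact ⟨this.2, this.1⟩
    · intro hx
      have : (x : S) ∈ (T : Subgroup S) ⊓ (Q : Subgroup S) := ⟨hx.2, hx.1⟩
      rw [← h2] at this
      exact this.2
  have hidx := MulAction.index_stabilizer T Q
  obtain ⟨k, hk⟩ := T.isPGroup'.index (MulAction.stabilizer T Q)
  -- the orbit misses `T`
  have hTnot : T ∉ MulAction.orbit T Q := by
    rintro ⟨x, hx⟩
    have hx' : (x : S) • Q = T := hx
    have h3 : (x : S)⁻¹ • T = T := by
      rw [Sylow.smul_eq_iff_mem_normalizer]
      exact Subgroup.le_normalizer ((T : Subgroup S).inv_mem x.2)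
    apply hQT
    calc Q = (x : S)⁻¹ • ((x : S) • Q) := (inv_smul_smul _ _).symm
      _ = (x : S)⁻¹ • T := by rw [hx']
      _ = T := h3
  have hlt : (MulAction.orbit T Q).ncard < p ^ 2 := by
    have h1 : (MulAction.orbit T Q).ncard < (Set.univ : Set (Sylow p S)).ncard := by
      apply Set.ncard_lt_ncard _ (Set.toFinite _)
      exact ⟨Set.subset_univ _, fun h => hTnot (h (Set.mem_univ T))⟩
    rw [Set.ncard_univ] at h1
    exact h1.trans hn
  have hk1 : k = 1 := by
    have hk2 : k < 2 := by
      rw [hidx] at hk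
      rw [hk] at hlt
      exact (Nat.pow_lt_pow_iff_right hp.one_lt).mp hlt
    have hk0 : k ≠ 0 := by
      intro h0
      rw [h0, pow_zero, Subgroup.index_eq_one] at hk
      have hfix : Q ∈ MulAction.fixedPoints T (Sylow p S) := by
        intro x
        have : x ∈ MulAction.stabilizer T Q := hk ▸ Subgroup.mem_top x
        exact this
      have hle := (T.isPGroup'.sylow_mem_fixedPoints_iff).mp hfix
      apply hQT
      exact Sylow.ext (T.is_maximal' Q.isPGroup' hle)
    omega
  rw [hk1, pow_one, hstab] at hk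
  have h4 := Subgroup.card_mul_index (((Q : Subgroup S) ⊓ T).subgroupOf T)
  rw [hk, Nat.card_congr (Subgroup.subgroupOfEquivOfLe (inf_le_right : (Q : Subgroup S) ⊓ T ≤ T)).toEquiv] at h4
  exact h4

end

/-- Let S be a finite non-abelian simple group and p a prime dividing its order. If S has fewer than p² Sylow p-subgroups, then its Sylow p-subgroups have order p. -/
theorem result {S : Type*} [Group S] [Finite S]
    [IsSimpleGroup S] (hS : ¬ IsMulCommutative S) (p : ℕ) [Fact p.Prime] (hp : p ∣ Nat.card S)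
    (hn : Nat.card (Sylow p S) < p ^ 2) (P : Sylow p S) : Nat.card P = p := by
  have hpp : p.Prime := Fact.out
  -- no Sylow subgroup is normal
  have hnotnormal : ∀ T : Sylow p S, ¬ (T : Subgroup S).Normal := by
    intro T hTn
    rcases IsSimpleGroup.eq_bot_or_eq_top_of_normal (T : Subgroup S) hTn with hb | ht
    · exact T.ne_bot_of_dvd_card hp hb
    · apply hS
      apply comm_of_simple_pgroup p
      have := T.isPGroup'
      rw [ht] at this
      exact IsPGroup.of_equiv this Subgroup.topEquiv
  -- the intersection of all Sylow subgroups is trivial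
  have hR : (⨅ T : Sylow p S, (T : Subgroup S)) = ⊥ := by
    have hnorm : (⨅ T : Sylow p S, (T : Subgroup S)).Normal := by
      refine ⟨fun x hx g => ?_⟩
      rw [Subgroup.mem_iInf] at hx ⊢
      intro T
      have := hx (g⁻¹ • T)
      have h2 := (mem_smul_sylow g⁻¹ x T).mp this
      simpa using h2
    rcases IsSimpleGroup.eq_bot_or_eq_top_of_normal _ hnorm with hb | ht
    · exact hb
    · exfalso
      apply hnotnormal P
      have : (P : Subgroup S) = ⊤ := by
        rw [eq_top_iff, ← ht]
        exact iInf_le _ P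
      rw [this]; infer_instance
  -- there is a second Sylow subgroup
  obtain ⟨Q, hQP⟩ : ∃ Q : Sylow p S, Q ≠ P := by
    by_contra hcon
    push Not at hcon
    have hsub : Subsingleton (Sylow p S) := ⟨fun A B => (hcon A).trans (hcon B).symm⟩
    exact hnotnormal P (Sylow.normal_of_subsingleton P)
  have hcardD := card_inf_mul p hn P Q hQP
  have hcardD' := card_inf_mul p hn Q P hQP.symm
  -- D = Q ⊓ P is normal in both P and Q
  have hminfac : ∀ T : Sylow p S, (Nat.card T).minFac = p := by
    intro T
    obtain ⟨c, hc⟩ := IsPGroup.iff_card.mp T.isPGroup'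
    have hc0 : c ≠ 0 := by
      rintro rfl
      rw [pow_zero] at hc
      have : (T : Subgroup S) = ⊥ := Subgroup.card_eq_one.mp hc
      exact T.ne_bot_of_dvd_card hp this
    rw [hc, hpp.pow_minFac hc0]
  have hnormal_of : ∀ (T : Sylow p S) (D : Subgroup S), D ≤ T → Nat.card D * p = Nat.card T →
      (T : Subgroup S) ≤ Subgroup.normalizer (D : Set S) := by
    intro T D hDT hcard
    have h1 := Subgroup.card_mul_index (D.subgroupOf T)
    rw [Nat.card_congr (Subgroup.subgroupOfEquivOfLe hDT).toEquiv, ← hcard] at h1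
    have hDpos : 0 < Nat.card D := Nat.card_pos
    have hidx : (D.subgroupOf T).index = p := Nat.eq_of_mul_eq_mul_left hDpos h1
    have hn' : (D.subgroupOf T).Normal := by
      apply Subgroup.normal_of_index_eq_minFac_card
      rw [hidx, hminfac T]
    exact (Subgroup.normal_subgroupOf_iff_le_normalizer hDT).mp hn'
  set D : Subgroup S := (Q : Subgroup S) ⊓ P with hD
  have hDP : D ≤ P := inf_le_right
  have hDQ : D ≤ Q := inf_le_left
  have hcardPQ : Nat.card P = Nat.card Q := card_sylow_eq p P Q
  have hPN : (P : Subgroup S) ≤ Subgroup.normalizer (D : Set S) := hnormal_of P D hDP hcardD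
  have hQN : (Q : Subgroup S) ≤ Subgroup.normalizer (D : Set S) :=
    hnormal_of Q D hDQ (by rw [← hcardPQ]; exact hcardD)
  -- D lies in every Sylow subgroup
  have hDall : ∀ T : Sylow p S, D ≤ T := by
    intro T
    set N : Subgroup S := Subgroup.normalizer (D : Set S) with hN
    have hTN : IsPGroup p (((T : Subgroup S) ⊓ N).subgroupOf N) := by
      have h1 : IsPGroup p ((T : Subgroup S) ⊓ N : Subgroup S) := T.isPGroup'.to_le inf_le_left
      exact h1.comap_of_injective N.subtype N.subtype_injective
    obtain ⟨R, hR'⟩ := hTN.exists_le_sylow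
    obtain ⟨n, hn'⟩ := MulAction.exists_smul_eq N (P.subtype hPN) R
    -- conjugating back
    have hconj : ∀ x : S, x ∈ (T : Subgroup S) → x ∈ N → (n : S)⁻¹ * x * n ∈ (P : Subgroup S) := by
      intro x hxT hxN
      have h1 : (⟨x, hxN⟩ : N) ∈ (R : Subgroup N) := hR' (show (⟨x, hxN⟩ : N) ∈ _ from ⟨hxT, hxN⟩)
      rw [← hn'] at h1
      have h2 := (mem_smul_sylow n ⟨x, hxN⟩ (P.subtype hPN)).mp h1
      exact h2
    -- T' = n⁻¹ • T meets Q inside D
    have hle : (((n : S)⁻¹ • T : Sylow p S) : Subgroup S) ⊓ Q ≤ D := by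
      intro y hy
      have hyT : (n : S) * y * (n : S)⁻¹ ∈ (T : Subgroup S) := by
        have := (mem_smul_sylow (n : S)⁻¹ y T).mp hy.1
        simpa using this
      have hyN : (n : S) * y * (n : S)⁻¹ ∈ N :=
        N.mul_mem (N.mul_mem n.2 (hQN hy.2)) (N.inv_mem n.2)
      have := hconj _ hyT hyN
      have e : (n : S)⁻¹ * ((n : S) * y * (n : S)⁻¹) * n = y := by group
      rw [e] at this
      exact ⟨hy.2, this⟩
    have hne : ((n : S)⁻¹ • T : Sylow p S) ≠ Q := by
      intro heq
      rw [heq, inf_idem] at hle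
      have hQleP : (Q : Subgroup S) ≤ P := hle.trans hDP
      exact hQP (Sylow.ext (Q.is_maximal' P.isPGroup' hQleP)).symm
    have hcard2 := card_inf_mul p hn Q ((n : S)⁻¹ • T) hne
    have heq : (((n : S)⁻¹ • T : Sylow p S) : Subgroup S) ⊓ Q = D := by
      apply Subgroup.eq_of_le_of_card_ge hle
      have : Nat.card D * p = Nat.card ((((n : S)⁻¹ • T : Sylow p S) : Subgroup S) ⊓ Q : Subgroup S) * p := by
        rw [hcard2, hcardD, hcardPQ]
      exact (Nat.eq_of_mul_eq_mul_right hpp.pos this).le
    intro d hd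
    have hd' : (n : S)⁻¹ * d * n ∈ D := by
      have hnN : (n : S)⁻¹ ∈ N := N.inv_mem n.2
      have := (Subgroup.mem_set_normalizer_iff.mp hnN d).mp hd
      simpa using this
    have h3 : (n : S)⁻¹ * d * n ∈ (((n : S)⁻¹ • T : Sylow p S) : Subgroup S) := by
      have := heq ▸ hd'
      exact this.1
    have h4 := (mem_smul_sylow (n : S)⁻¹ _ T).mp h3
    have e : ((n : S)⁻¹)⁻¹ * ((n : S)⁻¹ * d * n) * (n : S)⁻¹ = d := by group
    rw [e] at h4
    exact h4
  have hDbot : D = ⊥ := by
    rw [eq_bot_iff, ← hR]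
    exact le_iInf hDall
  rw [hDbot, Subgroup.card_bot, one_mul] at hcardD
  exact hcardD.symm

end Cfsg.Agent.S4343
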