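import Cfsg.Statements.S4344

set_option autoImplicit false
open Cfsg

namespace Cfsg.Agent.S4344

open scoped Pointwise

/-- A finite simple `p`-group is commutative. -/
theorem comm_of_simple_pgroup {S : Type*} [Group S] [Finite S] [IsSimpleGroup S]
    (p : ℕ) [Fact p.Prime] (h : IsPGroup p S) : IsMulCommutative S := by
  have hnt : Nontrivial (Subgroup.center S) := h.center_nontrivial
  have hne : Subgroup.center S ≠ ⊥ := by
    intro hb
    have : Subsingleton (Subgroup.center S) := by
      rw [hb]; infer_instance
    exact not_subsingleton _ this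
  have htop : Subgroup.center S = ⊤ :=
    (IsSimpleGroup.eq_bot_or_eq_top_of_normal (Subgroup.center S) inferInstance).resolve_left hne
  refine ⟨⟨fun a b => ?_⟩⟩
  have hb : b ∈ Subgroup.center S := htop ▸ Subgroup.mem_top b
  exact (Subgroup.mem_center_iff.mp hb a)

/-- Let S be a finite non-abelian simple group, M a maximal subgroup of S and C a cyclic normal subgroup of M. If a Sylow p-subgroup P of S (for a prime p dividing the order of S) is contained in C, then the number of Sylow p-subgroups of S equals the index of M. -/
theorem result {S : Type*} [Group S] [Finite S]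
    [IsSimpleGroup S] (hS : ¬ IsMulCommutative S) (p : ℕ) [Fact p.Prime] (hp : p ∣ Nat.card S)
    (M : Subgroup S) (hM : IsCoatom M) (C : Subgroup S) (hCM : C ≤ M) (hCn : (C.subgroupOf M).Normal)
    (hC : IsCyclic C) (P : Sylow p S) (hP : (P : Subgroup S) ≤ C) :
    Nat.card (Sylow p S) = M.index := by
  rw [Sylow.card_eq_index_normalizer P]
  have hcomm : ∀ a b : C, a * b = b * a := fun a b =>
    (IsCyclic.isMulCommutative (α := C)).is_comm.comm a b
  have hnormal : ∀ Q : Subgroup C, Q.Normal := fun Q =>
    ⟨fun n hn g => by rw [hcomm g n, mul_inv_cancel_right]; exact hn⟩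
  have hsub : Subsingleton (Sylow p C) := by
    have := Sylow.unique_of_normal (P.subtype hP) (hnormal _)
    infer_instance
  have hMle : M ≤ Subgroup.normalizer (P : Set S) := by
    intro m hm
    rw [← Sylow.smul_eq_iff_mem_normalizer]
    have hle : ((m • P : Sylow p S) : Subgroup S) ≤ C := by
      intro z hz
      rw [Sylow.coe_subgroup_smul, Subgroup.mem_pointwise_smul_iff_inv_smul_mem] at hz
      have hz' : m⁻¹ * z * m ∈ (P : Subgroup S) := by
        simpa [MulAut.smul_def] using hz
      have h1 : (⟨m⁻¹ * z * m, hCM (hP hz')⟩ : M) ∈ C.subgroupOf M := by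
        rw [Subgroup.mem_subgroupOf]; exact hP hz'
      have h2 := hCn.conj_mem _ h1 ⟨m, hm⟩
      rw [Subgroup.mem_subgroupOf] at h2
      simpa [mul_assoc] using h2
    have := Subsingleton.elim ((m • P).subtype hle) (P.subtype hP)
    exact Sylow.subtype_injective this
  have hne : Subgroup.normalizer (P : Set S) ≠ ⊤ := by
    intro htop
    have hPn : (P : Subgroup S).Normal := by
      rw [← Subgroup.normalizer_eq_top_iff, Sylow.coe_coe]; exact htop
    rcases IsSimpleGroup.eq_bot_or_eq_top_of_normal (P : Subgroup S) hPn with hb | ht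
    · exact P.ne_bot_of_dvd_card hp hb
    · apply hS
      apply comm_of_simple_pgroup p
      have := P.isPGroup'
      rw [ht] at this
      exact IsPGroup.of_equiv this Subgroup.topEquiv
  rcases eq_or_lt_of_le hMle with h | h
  · rw [← h]
  · exact absurd (hM.2 _ h) hne

end Cfsg.Agent.S4344
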