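import Cfsg.Statements.S4345
import Cfsg.Agent.Lib.Helper77.SylowFiber
import Cfsg.Agent.S0043

set_option autoImplicit false
open Cfsg

namespace Cfsg.Agent.S4345

open Cfsg.Agent.Lib.Helper77

/-- A nontrivial finite solvable group has a nontrivial normal `q`-subgroup for some prime `q`. -/
theorem exists_normal_pgroup {G : Type*} [Group G] [Finite G] [Group.IsSolvable G] [Nontrivial G] :
    ∃ (N : Subgroup G) (q : ℕ), N.Normal ∧ N ≠ ⊥ ∧ q.Prime ∧ IsPGroup q N := by
  have hfin : {N : Subgroup G | N.Normal ∧ N ≠ ⊥}.Finite := Set.toFinite _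
  have hne : {N : Subgroup G | N.Normal ∧ N ≠ ⊥}.Nonempty := ⟨⊤, inferInstance, top_ne_bot⟩
  obtain ⟨N, hNmin⟩ := hfin.exists_minimal hne
  obtain ⟨⟨hNn, hNb⟩, hmin⟩ := hNmin
  have hmin' : ∀ M : Subgroup G, M.Normal → M ≤ N → M = ⊥ ∨ M = N := by
    intro M hM hle
    by_cases hMb : M = ⊥
    · exact Or.inl hMb
    · exact Or.inr (le_antisymm hle (hmin ⟨hM, hMb⟩ hle))
  haveI := hNn
  obtain ⟨-, q, hq, hexp⟩ := Cfsg.Agent.S0043.result N hNb hmin'
  refine ⟨N, q, hNn, hNb, hq, ?_⟩
  intro x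
  refine ⟨1, ?_⟩
  apply Subtype.ext
  simpa using hexp x x.2

/-- For a normal `q`-subgroup `N`, the number of Sylow `p`-subgroups of `PN` is a power of `q`
congruent to `1` modulo `p`. -/
theorem card_sylow_sup_pgroup {G : Type*} [Group G] [Finite G] (p : ℕ) [Fact p.Prime]
    (N : Subgroup G) [N.Normal] (q : ℕ) (hq : q.Prime) (hN : IsPGroup q N) (P : Sylow p G) :
    ∃ a : ℕ, Nat.card (Sylow p ((P : Subgroup G) ⊔ N : Subgroup G)) = q ^ a ∧
      q ^ a ≡ 1 [MOD p] := by
  have hp : p.Prime := Fact.out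
  generalize hL : (P : Subgroup G) ⊔ N = L
  have hPL : (P : Subgroup G) ≤ L := hL ▸ le_sup_left
  have hNL : N ≤ L := hL ▸ le_sup_right
  have hmod : Nat.card (Sylow p L) ≡ 1 [MOD p] := card_sylow_modEq_one p L
  -- the order of L divides |N| * |P|
  have hcardL : Nat.card L ∣ Nat.card N * Nat.card (P : Subgroup G) := by
    have h1 : Nat.card (N.subgroupOf L) * (N.subgroupOf L).index = Nat.card L :=
      Subgroup.card_mul_index _
    have h2 : Nat.card (N.subgroupOf L) = Nat.card N :=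
      Nat.card_congr (Subgroup.subgroupOfEquivOfLe hNL).toEquiv
    have h3 : (N.subgroupOf L).index = N.relIndex (P : Subgroup G) := by
      change N.relIndex L = _
      rw [← hL, Subgroup.relIndex_sup_right]
    have h4 : N.relIndex (P : Subgroup G) ∣ Nat.card (P : Subgroup G) := Subgroup.relIndex_dvd_card _ _
    rw [← h1, h2, h3]
    exact Nat.mul_dvd_mul_left _ h4
  have hdvd : Nat.card (Sylow p L) ∣ Nat.card L :=
    ((P.subtype hPL).card_dvd_index).trans (Subgroup.index_dvd_card _)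
  have hpos : Nat.card (Sylow p L) ≠ 0 := Nat.card_pos.ne'
  have hnotp : ¬ p ∣ Nat.card (Sylow p L) := not_dvd_card_sylow p L
  haveI : Fact q.Prime := ⟨hq⟩
  obtain ⟨b, hb⟩ := (IsPGroup.iff_card.mp hN)
  obtain ⟨c, hc⟩ := (IsPGroup.iff_card.mp P.isPGroup')
  have huniq : ∀ {d : ℕ}, d.Prime → d ∣ Nat.card (Sylow p L) → d = q := by
    intro d hd hdd
    have h1 : d ∣ q ^ b * p ^ c := by
      rw [← hb, ← hc]; exact hdd.trans (hdvd.trans hcardL)
    rcases (Nat.Prime.dvd_mul hd).mp h1 with h2 | h2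
    · exact (Nat.prime_dvd_prime_iff_eq hd hq).mp (hd.dvd_of_dvd_pow h2)
    · have : d = p := (Nat.prime_dvd_prime_iff_eq hd hp).mp (hd.dvd_of_dvd_pow h2)
      exact absurd (this ▸ hdd) hnotp
  have hpow := Nat.eq_prime_pow_of_unique_prime_dvd hpos huniq
  refine ⟨_, hpow, ?_⟩
  rw [← hpow]; exact hmod

theorem aux.{u} (p : ℕ) [Fact p.Prime] (n : ℕ) :
    ∀ (G : Type u) [Group G] [Finite G], Group.IsSolvable G → Nat.card G = n →
      ∀ ℓ : ℕ, ℓ.Prime → ℓ ^ (Nat.card (Sylow p G)).factorization ℓ ≡ 1 [MOD p] := by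
  induction n using Nat.strong_induction_on with
  | _ n ih =>
    intro G _ _ hG hcard ℓ hℓ
    rcases subsingleton_or_nontrivial G with hsub | hnt
    · have : Nat.card (Sylow p G) = 1 := by
        haveI : Subsingleton (Sylow p G) := ⟨fun P Q => Sylow.ext (Subsingleton.elim _ _)⟩
        exact Nat.card_unique
      rw [this]
      simp [Nat.ModEq]
    · obtain ⟨N, q, hNn, hNb, hq, hNq⟩ := exists_normal_pgroup (G := G)
      haveI := hNn
      obtain ⟨P⟩ : Nonempty (Sylow p G) := inferInstance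
      have hlt : Nat.card (G ⧸ N) < n := by
        rw [← hcard, ← Subgroup.index_eq_card, ← Subgroup.card_mul_index N]
        have h1 : 1 < Nat.card N := by
          rw [Subgroup.one_lt_card_iff_ne_bot]; exact hNb
        have h2 : 0 < N.index := Nat.pos_of_ne_zero Subgroup.index_ne_zero_of_finite
        nlinarith
      have ih1 := ih _ hlt (G ⧸ N) inferInstance rfl ℓ hℓ
      obtain ⟨a, ha, hamod⟩ := card_sylow_sup_pgroup p N q hq hNq P
      rw [card_sylow_eq_quotient_mul N P, ha]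
      have hm : Nat.card (Sylow p (G ⧸ N)) ≠ 0 := Nat.card_pos.ne'
      have hqa : q ^ a ≠ 0 := pow_ne_zero _ hq.ne_zero
      rw [Nat.factorization_mul hm hqa, Finsupp.add_apply, pow_add, hq.factorization_pow]
      have h2 : ℓ ^ (Finsupp.single q a) ℓ ≡ 1 [MOD p] := by
        by_cases hql : q = ℓ
        · subst hql
          rw [Finsupp.single_eq_same]; exact hamod
        · rw [Finsupp.single_eq_of_ne (fun h => hql h.symm)]
          simp [Nat.ModEq]
      simpa using Nat.ModEq.mul ih1 h2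

/-- Let G be a finite solvable group and p, ℓ primes. Then the largest power of ℓ dividing the number of Sylow p-subgroups of G is congruent to 1 modulo p. -/
theorem result {G : Type*} [Group G] [Finite G]
    (hG : Group.IsSolvable G) (p ℓ : ℕ) [Fact p.Prime] (hℓ : ℓ.Prime) :
    ℓ ^ (Nat.card (Sylow p G)).factorization ℓ ≡ 1 [MOD p] :=
  aux p (Nat.card G) G hG rfl ℓ hℓ

end Cfsg.Agent.S4345
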