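import Cfsg.Statements.S4346
import Cfsg.Agent.S4303
import Cfsg.Agent.Lib.Helper11.Syl22Glue

set_option autoImplicit false
open Cfsg

namespace Cfsg.Agent.S4346

theorem result {G : Type*} [Group G] [Finite G] : Nat.card (Sylow 3 G) ≠ 22 := by
  intro h22
  have : Fact (Nat.Prime 3) := ⟨Nat.prime_three⟩
  obtain ⟨l, hprod, hl⟩ := Cfsg.Agent.S4303.result (G := G) 3
  rw [h22] at hprod
  have hone : ∀ m ∈ l, m = 1 := by
    intro m hm
    have hdvd : m ∣ 22 := hprod ▸ List.dvd_prod hm
    have hmem : m ∈ Nat.divisors 22 := Nat.mem_divisors.2 ⟨hdvd, by norm_num⟩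
    have hdiv : Nat.divisors 22 = {1, 2, 11, 22} := by decide
    rw [hdiv] at hmem
    simp only [Finset.mem_insert, Finset.mem_singleton] at hmem
    rcases hl m hm with ⟨hpp, hmod⟩ | ⟨S, hS1, hS2, hS3, hmS⟩
    · rcases hmem with rfl | rfl | rfl | rfl
      · exact absurd hpp not_isPrimePow_one
      · omega
      · omega
      · exfalso
        obtain ⟨p, _, huniq⟩ := isPrimePow_iff_unique_prime_dvd.1 hpp
        have h2 := huniq 2 ⟨Nat.prime_two, by norm_num⟩
        have h11 := huniq 11 ⟨by norm_num, by norm_num⟩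
        omega
    · have hmod := card_sylow_modEq_one 3 S
      rw [← hmS] at hmod
      unfold Nat.ModEq at hmod
      rcases hmem with rfl | rfl | rfl | rfl
      · rfl
      · omega
      · omega
      · exact absurd hmS.symm Cfsg.Agent.Lib.Helper11.Syl22.simple_ne_22
  rw [List.prod_eq_one hone] at hprod
  omega

end Cfsg.Agent.S4346
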