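import Cfsg.Statements.S4347

set_option autoImplicit false
open Cfsg

namespace Cfsg.Agent.S4347

open scoped Pointwise

theorem mem_smul_sylow {G : Type*} [Group G] {p : ℕ} (g x : G) (P : Sylow p G) :
    x ∈ g • P ↔ g⁻¹ * x * g ∈ P := by
  have : x ∈ ((g • P : Sylow p G) : Subgroup G) ↔ g⁻¹ * x * g ∈ (P : Subgroup G) := by
    rw [Sylow.coe_subgroup_smul, Subgroup.mem_pointwise_smul_iff_inv_smul_mem]
    simp [MulAut.smul_def]
  exact this

/-- Let G be a finite group and p a prime. Say a Sylow p-subgroup Q is redundant when every element of p-power order lies in some Sylow p-subgroup other than Q. Then G has no redundant Sylow p-subgroup if and only if some element of p-power order lies in exactly one Sylow p-subgroup. -/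
theorem result {G : Type*} [Group G] [Finite G]
    (p : ℕ) [Fact p.Prime] :
    (¬ ∃ Q : Sylow p G, ∀ x : G, (∃ k : ℕ, orderOf x = p ^ k) → ∃ P : Sylow p G, P ≠ Q ∧ x ∈ P) ↔
      ∃ x : G, (∃ k : ℕ, orderOf x = p ^ k) ∧ ∃! P : Sylow p G, x ∈ P := by
  constructor
  · intro h
    obtain ⟨Q⟩ : Nonempty (Sylow p G) := inferInstance
    have hQ : ¬ ∀ x : G, (∃ k : ℕ, orderOf x = p ^ k) → ∃ P : Sylow p G, P ≠ Q ∧ x ∈ P :=
      fun hh => h ⟨Q, hh⟩
    push Not at hQ
    obtain ⟨x, hx, hxQ⟩ := hQ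
    refine ⟨x, hx, ?_⟩
    have hpg : IsPGroup p (Subgroup.zpowers x) := by
      obtain ⟨k, hk⟩ := hx
      refine IsPGroup.of_card (n := k) ?_
      rw [Nat.card_zpowers, hk]
    obtain ⟨P, hP⟩ := hpg.exists_le_sylow
    have hxP : x ∈ P := hP (Subgroup.mem_zpowers x)
    have hPQ : P = Q := by
      by_contra hne
      exact hxQ P hne hxP
    subst hPQ
    refine ⟨P, hxP, ?_⟩
    intro P' hP'
    by_contra hne
    exact hxQ P' hne hP'
  · rintro ⟨x, ⟨k, hk⟩, P0, hxP0, huniq⟩ ⟨Q, hQ⟩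
    obtain ⟨g, hg⟩ := MulAction.exists_smul_eq G P0 Q
    have hord : orderOf (g * x * g⁻¹) = p ^ k := by
      have : g * x * g⁻¹ = MulAut.conj g x := by simp
      rw [this, MulEquiv.orderOf_eq, hk]
    obtain ⟨P, hPQ, hyP⟩ := hQ (g * x * g⁻¹) ⟨k, hord⟩
    have hx' : x ∈ g⁻¹ • P := by
      rw [mem_smul_sylow]
      simpa [mul_assoc] using hyP
    have := huniq (g⁻¹ • P) hx'
    apply hPQ
    rw [← hg, ← this, smul_inv_smul]

end Cfsg.Agent.S4347
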