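import Cfsg.Statements.S4348

set_option autoImplicit false
open Cfsg

namespace Cfsg.Agent.S4348

theorem pCore_le_sylow {G : Type*} [Group G] (p : ℕ) (Q : Sylow p G) :
    Cfsg.pCore p G ≤ Q := by
  unfold Cfsg.pCore
  refine sSup_le ?_
  rintro N ⟨hN, hpN⟩
  have := hN
  exact hpN.le_sylow_of_normal Q

/-- Let G be a finite group, p a prime and P a Sylow p-subgroup of G, and let O_p(G) be the largest normal p-subgroup of G. If P/O_p(G) is cyclic, then some element of p-power order of G lies in exactly one Sylow p-subgroup. -/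
theorem result {G : Type*} [Group G] [Finite G]
    (p : ℕ) [Fact p.Prime] (P : Sylow p G)
    [hn : ((Cfsg.pCore p G).subgroupOf (P : Subgroup G)).Normal]
    (hc : IsCyclic ((P : Subgroup G) ⧸ (Cfsg.pCore p G).subgroupOf (P : Subgroup G))) :
    ∃ x : G, (∃ k : ℕ, orderOf x = p ^ k) ∧ ∃! Q : Sylow p G, x ∈ Q := by
  obtain ⟨q, hq⟩ := hc.exists_generator
  obtain ⟨y, rfl⟩ := QuotientGroup.mk_surjective q
  refine ⟨(y : G), ?_, P, y.2, ?_⟩
  · obtain ⟨k, hk⟩ := P.isPGroup' y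
    have hk' : (y : G) ^ p ^ k = 1 := by
      have := congrArg Subtype.val hk
      simpa using this
    have hdvd : orderOf (y : G) ∣ p ^ k := orderOf_dvd_of_pow_eq_one hk'
    obtain ⟨j, _, hj⟩ := (Nat.dvd_prime_pow (Fact.out : p.Prime)).mp hdvd
    exact ⟨j, hj⟩
  · intro Q hyQ
    have hle : (P : Subgroup G) ≤ Q := by
      intro z hz
      obtain ⟨n, hn'⟩ := Subgroup.mem_zpowers_iff.mp (hq (QuotientGroup.mk ⟨z, hz⟩))
      rw [← QuotientGroup.mk_zpow, QuotientGroup.eq] at hn'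
      rw [Subgroup.mem_subgroupOf] at hn'
      have h1 : ((y ^ n)⁻¹ * ⟨z, hz⟩ : (P : Subgroup G)).1 ∈ (Q : Subgroup G) :=
        pCore_le_sylow p Q hn'
      have h2 : ((y : G) ^ n) ∈ (Q : Subgroup G) := Subgroup.zpow_mem _ hyQ n
      have h3 : z = (y : G) ^ n * ((y ^ n)⁻¹ * ⟨z, hz⟩ : (P : Subgroup G)).1 := by
        simp
      rw [h3]
      exact Subgroup.mul_mem _ h2 h1
    have := P.is_maximal' Q.isPGroup' hle
    exact Sylow.ext this

end Cfsg.Agent.S4348
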