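import Cfsg.Statements.S4354
import Cfsg.Agent.Lib.Helper77.SylowFiber
import Cfsg.Agent.Lib.Helper77.ConjUnion

set_option autoImplicit false
open Cfsg

namespace Cfsg.Agent.S4354

open Subgroup Cfsg.Agent.Lib.Helper77
open scoped Pointwise

variable {G : Type*} [Group G] [Finite G] {p : ℕ} [Fact p.Prime]

/-- The class-size condition on `p`-elements. -/
def PStar (G : Type*) [Group G] (p : ℕ) : Prop :=
  ∀ x : G, (∃ k : ℕ, orderOf x = p ^ k) → ¬ p ∣ (Subgroup.centralizer ({x} : Set G)).index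

theorem exists_sylow_le_centralizer (x : G)
    (hx : ¬ p ∣ (centralizer ({x} : Set G)).index) :
    ∃ Q : Sylow p G, (Q : Subgroup G) ≤ centralizer ({x} : Set G) := by
  obtain ⟨R⟩ : Nonempty (Sylow p (centralizer ({x} : Set G))) := Sylow.nonempty
  have hR : IsPGroup p ((R : Subgroup (centralizer ({x} : Set G))).map
      (centralizer ({x} : Set G)).subtype) := R.isPGroup'.map _
  have hidx : ¬ p ∣ ((R : Subgroup (centralizer ({x} : Set G))).map
      (centralizer ({x} : Set G)).subtype).index := by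
    rw [Subgroup.index_map_subtype]
    exact Nat.Prime.not_dvd_mul Fact.out R.not_dvd_index hx
  refine ⟨hR.toSylow hidx, ?_⟩
  change (R : Subgroup (centralizer ({x} : Set G))).map _ ≤ _
  exact Subgroup.map_subtype_le _

theorem isPElement_of_mem (P : Sylow p G) {x : G} (hx : x ∈ P) : ∃ k : ℕ, orderOf x = p ^ k := by
  obtain ⟨k, hk⟩ := P.isPGroup' ⟨x, hx⟩
  have h1 : x ^ (p ^ k) = 1 := by
    have := congrArg Subtype.val hk
    simpa using this
  have h2 : orderOf x ∣ p ^ k := orderOf_dvd_of_pow_eq_one h1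
  obtain ⟨j, _, hj⟩ := (Nat.dvd_prime_pow (Fact.out : p.Prime)).1 h2
  exact ⟨j, hj⟩

theorem mem_sylow_of_le_centralizer (Q : Sylow p G) (x : G) (hx : ∃ k : ℕ, orderOf x = p ^ k)
    (hc : (Q : Subgroup G) ≤ centralizer ({x} : Set G)) : x ∈ Q := by
  obtain ⟨k, hk⟩ := hx
  have hz : IsPGroup p (zpowers x) := by
    apply IsPGroup.of_card (n := k)
    rw [Nat.card_zpowers, hk]
  have hle : (Q : Subgroup G) ≤ normalizer ((zpowers x : Subgroup G) : Set G) := by
    intro q hq
    have hqx : q * x = x * q := by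
      have := hc hq
      rw [mem_centralizer_iff] at this
      exact (this x rfl).symm
    rw [mem_normalizer_iff]
    intro h
    have hconj : q * x * q⁻¹ = x := by rw [hqx]; group
    constructor
    · intro hh
      obtain ⟨n, rfl⟩ := mem_zpowers_iff.1 hh
      have : q * x ^ n * q⁻¹ = x ^ n := by
        have h1 : q * x ^ n * q⁻¹ = (q * x * q⁻¹) ^ n := by
          simp [conj_zpow]
        rw [h1, hconj]
      rw [this]
      exact hh
    · intro hh
      have hqx' : q⁻¹ * x * q = x := by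
        rw [mul_assoc, ← hqx, inv_mul_cancel_left]
      have h2 : h = q⁻¹ * (q * h * q⁻¹) * q := by group
      obtain ⟨n, hn⟩ := mem_zpowers_iff.1 hh
      rw [h2, ← hn]
      have h1 : q⁻¹ * x ^ n * q = (q⁻¹ * x * q) ^ n := by
        have := conj_zpow (a := q⁻¹) (b := x) (i := n)
        simpa using this.symm
      rw [h1, hqx']
      exact zpow_mem (mem_zpowers x) n
  have hsup : IsPGroup p ((Q : Subgroup G) ⊔ zpowers x : Subgroup G) :=
    IsPGroup.to_sup_of_normal_right' Q.isPGroup' hz hle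
  have := Q.is_maximal' hsup le_sup_left
  have hx' : x ∈ (Q : Subgroup G) ⊔ zpowers x := (le_sup_right : zpowers x ≤ _) (mem_zpowers x)
  rw [this] at hx'
  exact hx'

theorem star_normal (N : Subgroup G) [N.Normal] (h : PStar G p) : PStar N p := by
  intro x hx
  obtain ⟨k, hk⟩ := hx
  have hk' : orderOf (x : G) = p ^ k := by rw [Subgroup.orderOf_coe]; exact hk
  obtain ⟨Q, hQ⟩ := exists_sylow_le_centralizer (x : G) (h _ ⟨k, hk'⟩)
  obtain ⟨S, hS⟩ := exists_sylow_map_eq_inf N Q
  have hle : (S : Subgroup N) ≤ centralizer ({x} : Set N) := by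
    intro s hs
    have hs' : (s : G) ∈ (S : Subgroup N).map N.subtype := ⟨s, hs, rfl⟩
    rw [hS] at hs'
    have := hQ hs'.1
    rw [mem_centralizer_iff] at this ⊢
    intro y hy
    rw [Set.mem_singleton_iff] at hy
    subst hy
    exact Subtype.ext (this _ rfl)
  intro hdvd
  exact S.not_dvd_index (hdvd.trans (Subgroup.index_dvd_of_le hle))

theorem star_quotient (N : Subgroup G) [N.Normal] (h : PStar G p) : PStar (G ⧸ N) p := by
  intro x hx
  obtain ⟨k, hk⟩ := hx
  have hz : IsPGroup p (zpowers x) := by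
    apply IsPGroup.of_card (n := k)
    rw [Nat.card_zpowers, hk]
  obtain ⟨S, hS⟩ := hz.exists_le_sylow
  obtain ⟨P, hP⟩ := Sylow.mapSurjective_surjective (QuotientGroup.mk'_surjective N) p S
  have hxS : x ∈ (S : Subgroup (G ⧸ N)) := hS (mem_zpowers x)
  rw [← hP, Sylow.coe_mapSurjective] at hxS
  obtain ⟨y, hyP, hyx⟩ := hxS
  have hy := h y (isPElement_of_mem P hyP)
  have hle : (centralizer ({y} : Set G)).map (QuotientGroup.mk' N) ≤ centralizer ({x} : Set (G ⧸ N)) := by
    rintro _ ⟨c, hc, rfl⟩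
    have hc : c ∈ centralizer ({y} : Set G) := hc
    rw [mem_centralizer_iff] at hc ⊢
    intro t ht
    rw [Set.mem_singleton_iff] at ht
    subst ht
    rw [← hyx, ← map_mul, ← map_mul, hc y rfl]
  intro hdvd
  exact hy ((hdvd.trans (Subgroup.index_dvd_of_le hle)).trans
    (Subgroup.index_map_dvd _ (QuotientGroup.mk'_surjective N)))

theorem key (N : Subgroup G) [N.Normal] (h : PStar G p)
    (hQ : ∀ S : Sylow p (G ⧸ N), IsMulCommutative S) (P : Sylow p G) (x : G) (hx : x ∈ P) :
    ∃ z ∈ P, (∀ y ∈ P, z * y = y * z) ∧ z⁻¹ * x ∈ N := by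
  have hxp := isPElement_of_mem P hx
  obtain ⟨Q, hQc⟩ := exists_sylow_le_centralizer x (h x hxp)
  have hxQ : x ∈ Q := mem_sylow_of_le_centralizer Q x hxp hQc
  set K : Subgroup G := (centralizer ({QuotientGroup.mk' N x} : Set (G ⧸ N))).comap
    (QuotientGroup.mk' N) with hK
  have hPK : (P : Subgroup G) ≤ K := by
    intro a ha
    rw [hK, mem_comap, mem_centralizer_iff]
    intro t ht
    rw [Set.mem_singleton_iff] at ht
    subst ht
    have hcomm := hQ (P.mapSurjective (QuotientGroup.mk'_surjective N))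
    have ha' : QuotientGroup.mk' N a ∈ (P.mapSurjective (QuotientGroup.mk'_surjective N)) :=
      ⟨a, ha, rfl⟩
    have hx' : QuotientGroup.mk' N x ∈ (P.mapSurjective (QuotientGroup.mk'_surjective N)) :=
      ⟨x, hx, rfl⟩
    have := hcomm.is_comm.comm ⟨_, hx'⟩ ⟨_, ha'⟩
    exact congrArg Subtype.val this
  have hQK : (Q : Subgroup G) ≤ K := by
    intro a ha
    rw [hK, mem_comap, mem_centralizer_iff]
    intro t ht
    rw [Set.mem_singleton_iff] at ht
    subst ht
    have := hQc ha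
    rw [mem_centralizer_iff] at this
    rw [← map_mul, ← map_mul, this x rfl]
  obtain ⟨g, hg⟩ := MulAction.exists_smul_eq K (Q.subtype hQK) (P.subtype hPK)
  rw [Sylow.smul_subtype] at hg
  have hgP : g • Q = P := Sylow.subtype_injective hg
  have hgP' : (P : Subgroup G) = MulAut.conj (g : G) • (Q : Subgroup G) := by
    rw [← hgP]; rfl
  refine ⟨(g : G) * x * (g : G)⁻¹, ?_, ?_, ?_⟩
  · change _ ∈ (P : Subgroup G)
    rw [hgP', mem_conj_smul_iff]
    have : (g : G)⁻¹ * ((g : G) * x * (g : G)⁻¹) * (g : G) = x := by group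
    rw [this]; exact hxQ
  · intro y hy
    have hy' : y ∈ (P : Subgroup G) := hy
    rw [hgP', mem_conj_smul_iff] at hy'
    have := hQc hy'
    rw [mem_centralizer_iff] at this
    have h1 := this x rfl
    -- x * (g⁻¹ y g) = (g⁻¹ y g) * x
    have h2 : y = (g : G) * ((g : G)⁻¹ * y * (g : G)) * (g : G)⁻¹ := by group
    rw [h2]
    generalize (g : G)⁻¹ * y * (g : G) = w at h1
    calc (g : G) * x * (g : G)⁻¹ * ((g : G) * w * (g : G)⁻¹)
        = (g : G) * (x * w) * (g : G)⁻¹ := by group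
      _ = (g : G) * (w * x) * (g : G)⁻¹ := by rw [h1]
      _ = (g : G) * w * (g : G)⁻¹ * ((g : G) * x * (g : G)⁻¹) := by group
  · have hgK : QuotientGroup.mk' N (g : G) ∈
        centralizer ({QuotientGroup.mk' N x} : Set (G ⧸ N)) := g.2
    rw [mem_centralizer_iff] at hgK
    have h1 := hgK _ rfl
    rw [← QuotientGroup.eq_one_iff]
    have : ((((g : G) * x * (g : G)⁻¹)⁻¹ * x : G) : G ⧸ N)
        = (QuotientGroup.mk' N ((g : G) * x * (g : G)⁻¹))⁻¹ * QuotientGroup.mk' N x := by
      simp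
    rw [this]
    have h3 : QuotientGroup.mk' N ((g : G) * x * (g : G)⁻¹) = QuotientGroup.mk' N x := by
      rw [map_mul, map_mul, ← h1, map_inv]
      group
    rw [h3]; group

theorem comm_of_normal (N : Subgroup G) [N.Normal] (h : PStar G p)
    (hN : ∀ S : Sylow p N, IsMulCommutative S)
    (hQ : ∀ S : Sylow p (G ⧸ N), IsMulCommutative S) (P : Sylow p G) :
    IsMulCommutative P := by
  obtain ⟨S, hS⟩ := exists_sylow_map_eq_inf N P
  have hD : ∀ d ∈ (P : Subgroup G) ⊓ N, ∀ e ∈ (P : Subgroup G) ⊓ N, d * e = e * d := by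
    intro d hd e he
    rw [← hS] at hd he
    obtain ⟨d', hd', rfl⟩ := hd
    obtain ⟨e', he', rfl⟩ := he
    have := (hN S).is_comm.comm ⟨d', hd'⟩ ⟨e', he'⟩
    have h2 : d' * e' = e' * d' := congrArg Subtype.val this
    exact congrArg Subtype.val h2
  refine ⟨⟨fun a b => Subtype.ext ?_⟩⟩
  obtain ⟨z, hzP, hzc, hzN⟩ := key N h hQ P a a.2
  obtain ⟨w, hwP, hwc, hwN⟩ := key N h hQ P b b.2
  have hd : z⁻¹ * (a : G) ∈ (P : Subgroup G) ⊓ N :=
    ⟨(P : Subgroup G).mul_mem ((P : Subgroup G).inv_mem hzP) a.2, hzN⟩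
  have he : w⁻¹ * (b : G) ∈ (P : Subgroup G) ⊓ N :=
    ⟨(P : Subgroup G).mul_mem ((P : Subgroup G).inv_mem hwP) b.2, hwN⟩
  have ha : (a : G) = z * (z⁻¹ * a) := by group
  have hb : (b : G) = w * (w⁻¹ * b) := by group
  change (a : G) * b = b * a
  have c1 : Commute z (b : G) := hzc b b.2
  have c2 : Commute (z⁻¹ * (a : G)) w := (hwc _ hd.1).symm
  have c3 : Commute (z⁻¹ * (a : G)) (w⁻¹ * (b : G)) := hD _ hd _ he
  have c4 : Commute (z⁻¹ * (a : G)) (b : G) := by
    rw [hb]; exact c2.mul_right c3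
  have : Commute (a : G) (b : G) := by
    rw [ha]; exact c1.mul_left c4
  exact this

/-- Let G be a finite group and p a prime such that the Sylow p-subgroups of G are non-abelian while every element of p-power order has conjugacy class size prime to p, and suppose no nontrivial proper normal subgroup N of G has this property and no quotient G/N by such an N has it. Then G is simple. -/
theorem result {G : Type*} [Group G] [Finite G]
    (p : ℕ) [Fact p.Prime] (h : ((∃ P : Sylow p G, ¬ IsMulCommutative P) ∧ ∀ x : G, (∃ k : ℕ, orderOf x = p ^ k) → ¬ p ∣ (Subgroup.centralizer ({x} : Set G)).index))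
    (hmin : ∀ (N : Subgroup G) [N.Normal], N ≠ ⊥ → N ≠ ⊤ →
      ¬ ((∃ P : Sylow p N, ¬ IsMulCommutative P) ∧ ∀ x : N, (∃ k : ℕ, orderOf x = p ^ k) → ¬ p ∣ (Subgroup.centralizer ({x} : Set N)).index) ∧
      ¬ ((∃ P : Sylow p (G ⧸ N), ¬ IsMulCommutative P) ∧ ∀ x : (G ⧸ N), (∃ k : ℕ, orderOf x = p ^ k) → ¬ p ∣ (Subgroup.centralizer ({x} : Set (G ⧸ N))).index)) :
    IsSimpleGroup G := by
  obtain ⟨⟨P, hP⟩, hstar⟩ := h
  have hstar' : PStar G p := hstar
  haveI : Nontrivial G := by
    by_contra hnt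
    rw [not_nontrivial_iff_subsingleton] at hnt
    apply hP
    exact ⟨⟨fun a b => Subsingleton.elim _ _⟩⟩
  refine ⟨fun N hN => ?_⟩
  by_contra hcon
  push Not at hcon
  obtain ⟨h1, h2⟩ := hmin N hcon.1 hcon.2
  have hN' : ∀ S : Sylow p N, IsMulCommutative S := by
    intro S
    by_contra hS
    exact h1 ⟨⟨S, hS⟩, star_normal N hstar'⟩
  have hQ' : ∀ S : Sylow p (G ⧸ N), IsMulCommutative S := by
    intro S
    by_contra hS
    exact h2 ⟨⟨S, hS⟩, star_quotient N hstar'⟩
  exact hP (comm_of_normal N hstar' hN' hQ' P)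

end Cfsg.Agent.S4354
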