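import Cfsg.Statements.S4356
import Cfsg.Agent.Lib.Helper45.RedundantSL2c
import Cfsg.Agent.Lib.Helper45.RedundantQuot

set_option autoImplicit false
open Cfsg

namespace Cfsg.Agent.S4356

/-- Let F be a finite field with q elements, p a prime and G = PSL(2, F). Say a Sylow p-subgroup Q of G is redundant when every element of p-power order lies in some Sylow p-subgroup other than Q. Then G has a redundant Sylow p-subgroup if and only if p = 2 and q is not of any of the forms 2ᵏ - 1, 2ᵏ, 2ᵏ + 1. -/
theorem result {F : Type*} [Field F] [Fintype F] (p : ℕ) [Fact p.Prime] :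
    (∃ Q : Sylow p (Matrix.ProjectiveSpecialLinearGroup (Fin 2) F), ∀ x : Matrix.ProjectiveSpecialLinearGroup (Fin 2) F,
        (∃ k : ℕ, orderOf x = p ^ k) → ∃ P : Sylow p (Matrix.ProjectiveSpecialLinearGroup (Fin 2) F), P ≠ Q ∧ x ∈ P) ↔
      (p = 2 ∧ (¬ ∃ k : ℕ, Fintype.card F + 1 = 2 ^ k) ∧ (¬ ∃ k : ℕ, Fintype.card F = 2 ^ k) ∧
        ¬ ∃ k : ℕ, Fintype.card F = 2 ^ k + 1) := by
  classical
  have hsurj : Function.Surjective (QuotientGroup.mk' (Subgroup.center
      (Matrix.SpecialLinearGroup (Fin 2) F))) := QuotientGroup.mk'_surjective _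
  have hker : (QuotientGroup.mk' (Subgroup.center
      (Matrix.SpecialLinearGroup (Fin 2) F))).ker ≤
      Subgroup.center (Matrix.SpecialLinearGroup (Fin 2) F) := by
    rw [QuotientGroup.ker_mk']
  have h1 := Cfsg.Agent.Lib.Helper45.exists_isRedundantSylow_quotient_iff hsurj hker p
  have h2 := Cfsg.Agent.Lib.Helper45.exists_isRedundantSylow_SL2_iff (F := F) p
  exact h1.trans h2

end Cfsg.Agent.S4356
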