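import Mathlib
-- Template for statement S4358 (row 4358; see /opt/grader/pristine/manifest.json for weights).
-- Copy to Cfsg/Agent/S4358.lean and replace the sorry. The statement below is byte-identical to the frozen
-- statement Cfsg.CfsgFrozen.S4358 (Cfsg/Statements/S4358.lean; the theorem Cfsg.fg11_general_linear_of_prime_degree_has_redundant_sylow);
-- the grader kernel-checks Cfsg.Agent.S4358.result against that frozen type. Keep the theorem IN THIS FILE
-- (a `result` declared elsewhere and merely imported here is not credited); helpers may live anywhere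
-- under Cfsg/Agent/.
import Cfsg.Statements.S4358
-- import your own Cfsg.Agent.* helpers here

set_option autoImplicit false
open Cfsg

namespace Cfsg.Agent.S4358

section field

variable {F K : Type*} [Field F] [Fintype F] [Field K] [Algebra F K]

open Polynomial in
/-- elements fixed by the `q`-power map lie in the subfield -/
theorem mem_range_of_pow_card (x : K) (hx : x ^ Fintype.card F = x) :
    ∃ c : F, algebraMap F K c = x := by
  classical
  have hq : 1 < Fintype.card F := Fintype.one_lt_card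
  set P : K[X] := X ^ Fintype.card F - X with hP
  have hP0 : P ≠ 0 := FiniteField.X_pow_card_sub_X_ne_zero K hq
  have hdeg : P.natDegree = Fintype.card F := FiniteField.X_pow_card_sub_X_natDegree_eq K hq
  set T : Finset K := P.roots.toFinset with hT
  set S : Finset K := Finset.univ.image (algebraMap F K) with hS
  have hcS : S.card = Fintype.card F := by
    rw [hS, Finset.card_image_of_injective _ (algebraMap F K).injective, Finset.card_univ]
  have hcT : T.card ≤ Fintype.card F := by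
    calc T.card ≤ Multiset.card P.roots := Multiset.toFinset_card_le _
      _ ≤ P.natDegree := Polynomial.card_roots' P
      _ = Fintype.card F := hdeg
  have hroot : ∀ y : K, y ∈ T ↔ y ^ Fintype.card F = y := by
    intro y
    rw [hT, Multiset.mem_toFinset, Polynomial.mem_roots hP0, hP, Polynomial.IsRoot.def,
      Polynomial.eval_sub, Polynomial.eval_pow, Polynomial.eval_X, sub_eq_zero]
  have hST : S ⊆ T := by
    intro y hy
    rw [hS, Finset.mem_image] at hy
    obtain ⟨c, _, rfl⟩ := hy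
    rw [hroot, ← map_pow, FiniteField.pow_card]
  have heq : S = T := Finset.eq_of_subset_of_card_le hST (by rw [hcS]; exact hcT)
  have hxT : x ∈ T := (hroot x).mpr hx
  rw [← heq, hS, Finset.mem_image] at hxT
  obtain ⟨c, _, hc⟩ := hxT
  exact ⟨c, hc⟩

end field

section quad

variable {F : Type*} [Field F] [Fintype F]

/-- there is a quadratic `z^2+z+a` without roots -/
theorem exists_quad : ∃ a : F, ∀ z : F, z ^ 2 + z + a ≠ 0 := by
  classical
  have hni : ¬ Function.Injective (fun z : F => z ^ 2 + z) := by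
    intro hinj
    have h : (0 : F) = -1 := hinj (by simp)
    have : (1 : F) = 0 := by linear_combination h
    exact one_ne_zero this
  have hns : ¬ Function.Surjective (fun z : F => z ^ 2 + z) :=
    fun hs => hni (Finite.injective_iff_surjective.mpr hs)
  simp only [Function.Surjective, not_forall, not_exists] at hns
  obtain ⟨c, hc⟩ := hns
  refine ⟨-c, fun z hz => hc z ?_⟩
  linear_combination hz

open Polynomial in
theorem coprime_quad (p : ℕ) (hp : p.Prime) (hp2 : p ≠ 2) (h1 : p ∣ Fintype.card F - 1)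
    (h2 : ¬ p ^ 2 ∣ Fintype.card F - 1) (a : F) (hno : ∀ z : F, z ^ 2 + z + a ≠ 0) (k : ℕ) :
    IsCoprime (X ^ 2 + X + C a : F[X]) (X ^ (p ^ k) - 1) := by
  classical
  set f : F[X] := X ^ 2 + X + C a with hf
  set q := Fintype.card F with hq
  have hq1 : 1 < q := Fintype.one_lt_card
  have hdeg : f.natDegree = 2 := by
    rw [hf]; compute_degree!
  have hmonic : f.Monic := by
    rw [hf]; monicity!
  have hf0 : f ≠ 0 := hmonic.ne_zero
  have hirr : Irreducible f := by
    rw [Polynomial.Monic.irreducible_iff_roots_eq_zero_of_degree_le_three hmonic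
      (by rw [hdeg]) (by rw [hdeg]; norm_num)]
    rw [Multiset.eq_zero_iff_forall_notMem]
    intro z hz
    rw [Polynomial.mem_roots hf0, Polynomial.IsRoot.def, hf] at hz
    simp only [eval_add, eval_pow, eval_X, eval_C] at hz
    exact hno z hz
  rw [hirr.coprime_iff_not_dvd]
  intro hdvd
  have : Fact (Irreducible f) := ⟨hirr⟩
  let E := AdjoinRoot f
  let ρ : E := AdjoinRoot.root f
  have hρf : Polynomial.aeval ρ f = 0 := by
    rw [AdjoinRoot.aeval_eq, AdjoinRoot.mk_self]
  have hρk : ρ ^ (p ^ k) = 1 := by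
    have : Polynomial.aeval ρ (X ^ (p ^ k) - 1 : F[X]) = 0 := by
      rw [AdjoinRoot.aeval_eq, AdjoinRoot.mk_eq_zero]; exact hdvd
    simpa [sub_eq_zero] using this
  have hρ0 : ρ ≠ 0 := by
    intro h0
    rw [h0, zero_pow (pow_ne_zero _ hp.ne_zero)] at hρk
    exact zero_ne_one hρk
  have hfin : Module.Finite F E := (AdjoinRoot.powerBasis hf0).finite
  have : Finite E := Module.finite_of_finite F
  let _ : Fintype E := Fintype.ofFinite E
  have hcard : Fintype.card E = q ^ 2 := by
    rw [Module.card_eq_pow_finrank (K := F) (V := E), (AdjoinRoot.powerBasis hf0).finrank,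
      AdjoinRoot.powerBasis_dim, hdeg]
  have hρq : ρ ^ (q ^ 2 - 1) = 1 := by
    rw [← hcard]; exact FiniteField.pow_card_sub_one_eq_one ρ hρ0
  have ho1 : orderOf ρ ∣ p ^ k := orderOf_dvd_of_pow_eq_one hρk
  have ho2 : orderOf ρ ∣ q ^ 2 - 1 := orderOf_dvd_of_pow_eq_one hρq
  obtain ⟨e, he, hoe⟩ := (Nat.dvd_prime_pow hp).1 ho1
  have hfac : q ^ 2 - 1 = (q - 1) * (q + 1) := by
    have : 1 ≤ q ^ 2 := Nat.one_le_pow _ _ (by omega)
    zify [this, hq1.le]; ring
  have hcop : Nat.Coprime (p ^ e) (q + 1) := by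
    apply Nat.Coprime.pow_left
    rw [hp.coprime_iff_not_dvd]
    intro hd
    have h3 : p ∣ (q + 1) - (q - 1) := Nat.dvd_sub hd h1
    have h4 : (q + 1) - (q - 1) = 2 := by omega
    rw [h4] at h3
    exact hp2 ((Nat.prime_dvd_prime_iff_eq hp Nat.prime_two).1 h3)
  have hpe : p ^ e ∣ q - 1 := by
    rw [hoe, hfac] at ho2
    exact hcop.dvd_of_dvd_mul_right ho2
  have he1 : e ≤ 1 := by
    by_contra hlt
    push Not at hlt
    exact h2 (dvd_trans (pow_dvd_pow p hlt) hpe)
  have hρp : ρ ^ p = 1 := by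
    apply orderOf_dvd_iff_pow_eq_one.mp
    rw [hoe]
    calc p ^ e ∣ p ^ 1 := pow_dvd_pow p he1
      _ = p := pow_one p
  have hρq1 : ρ ^ (q - 1) = 1 := by
    obtain ⟨t, ht⟩ := h1
    rw [ht, pow_mul, hρp, one_pow]
  have hρqq : ρ ^ q = ρ := by
    have : q = (q - 1) + 1 := by omega
    rw [this, pow_succ, hρq1, one_mul]
  obtain ⟨z, hz⟩ := mem_range_of_pow_card (F := F) ρ hρqq
  rw [← hz, Polynomial.aeval_algebraMap_apply] at hρf
  have : Polynomial.eval z f = 0 := by
    have hinj := (algebraMap F E).injective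
    apply hinj
    rw [map_zero]
    simpa [Polynomial.aeval_def, Polynomial.eval₂_eq_eval_map] using hρf
  rw [hf] at this
  simp only [eval_add, eval_pow, eval_X, eval_C] at this
  exact hno z this

/-- a quadratic without roots gives units at `p`-elements of any algebra -/
theorem unit_of_pow_eq_one {A : Type*} [Ring A] [Algebra F A] (p : ℕ) (hp : p.Prime) (hp2 : p ≠ 2)
    (h1 : p ∣ Fintype.card F - 1)
    (h2 : ¬ p ^ 2 ∣ Fintype.card F - 1) (a : F) (hno : ∀ z : F, z ^ 2 + z + a ≠ 0) (k : ℕ)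
    (x : A) (hx : x ^ (p ^ k) = 1) :
    ∃ y : A, (x ^ 2 + x + algebraMap F A a) * y = 1 ∧ y * (x ^ 2 + x + algebraMap F A a) = 1 := by
  obtain ⟨u, v, huv⟩ := coprime_quad p hp hp2 h1 h2 a hno k
  have h := congrArg (Polynomial.aeval x) huv
  simp only [map_add, map_mul, map_sub, map_pow, Polynomial.aeval_X, Polynomial.aeval_C, map_one,
    hx, sub_self, mul_zero, add_zero] at h
  refine ⟨Polynomial.aeval x u, ?_, h⟩
  have hc : Commute (Polynomial.aeval x u) (x ^ 2 + x + algebraMap F A a) := by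
    have h3 : (x ^ 2 + x + algebraMap F A a) = Polynomial.aeval x (Polynomial.X ^ 2 + Polynomial.X + Polynomial.C a : Polynomial F) := by
      simp
    rw [h3]
    exact (Commute.all u _).map (Polynomial.aeval x)
  rw [← hc.eq]; exact h

end quad

section mon
variable {F : Type*} [Field F] {p : ℕ} [NeZero p]

def Mon (b : Fin p → F) (a : Fin p) : Matrix (Fin p) (Fin p) F :=
  Matrix.of fun i k => if k = i + a then b i else 0

omit [NeZero p] in
theorem Mon_apply (b : Fin p → F) (a i k : Fin p) :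
    Mon b a i k = if k = i + a then b i else 0 := rfl

theorem Mon_mul (b b' : Fin p → F) (a a' : Fin p) :
    Mon b a * Mon b' a' = Mon (fun i => b i * b' (i + a)) (a + a') := by
  ext i k
  rw [Matrix.mul_apply, Finset.sum_eq_single (i + a)]
  · simp only [Mon_apply, if_true, add_assoc]
    by_cases h : k = i + (a + a')
    · simp [h]
    · simp [h]
  · intro m _ hm
    simp [Mon_apply, hm]
  · intro h; exact absurd (Finset.mem_univ _) h

theorem Mon_one : Mon (fun _ => (1:F)) (0 : Fin p) = 1 := by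
  ext i k
  simp [Mon_apply, Matrix.one_apply, eq_comm]

theorem Mon_mul_inv (b : Fin p → F) (a : Fin p) (hb : ∀ i, b i ≠ 0) :
    Mon b a * Mon (fun i => (b (i - a))⁻¹) (-a) = 1 := by
  rw [Mon_mul, ← Mon_one]
  congr 1
  · funext i
    simp [hb i]
  · simp

theorem Mon_inv_mul (b : Fin p → F) (a : Fin p) (hb : ∀ i, b i ≠ 0) :
    Mon (fun i => (b (i - a))⁻¹) (-a) * Mon b a = 1 := by
  rw [Mon_mul, ← Mon_one]
  congr 1
  · funext i
    simp [← sub_eq_add_neg, hb (i - a)]
  · simp

/-- monomial matrices as invertible matrices -/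
def MonU (b : Fin p → F) (a : Fin p) (hb : ∀ i, b i ≠ 0) : GL (Fin p) F :=
  ⟨Mon b a, Mon (fun i => (b (i - a))⁻¹) (-a), Mon_mul_inv b a hb, Mon_inv_mul b a hb⟩

theorem MonU_val (b : Fin p → F) (a : Fin p) (hb : ∀ i, b i ≠ 0) :
    ((MonU b a hb : GL (Fin p) F) : Matrix (Fin p) (Fin p) F) = Mon b a := rfl

theorem ne_zero_of_pow (z : F) (h : z ^ p = 1) : z ≠ 0 := by
  intro h0
  rw [h0, zero_pow (NeZero.ne p)] at h
  exact zero_ne_one h

theorem Mon_inj (b b' : Fin p → F) (a a' : Fin p) (hb : ∀ i, b i ≠ 0)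
    (h : Mon b a = Mon b' a') : a = a' ∧ b = b' := by
  have ha : a = a' := by
    have h1 := congrFun (congrFun h 0) (0 + a)
    rw [Mon_apply, Mon_apply, if_pos rfl] at h1
    by_contra hne
    rw [if_neg (by simpa using hne)] at h1
    exact hb 0 h1
  subst ha
  refine ⟨rfl, ?_⟩
  funext i
  have h1 := congrFun (congrFun h i) (i + a)
  rwa [Mon_apply, Mon_apply, if_pos rfl, if_pos rfl] at h1

variable (F p) in
/-- the group of monomial matrices with `p`-th roots of unity and cyclic shifts -/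
def Qs : Subgroup (GL (Fin p) F) where
  carrier := {g | ∃ (b : Fin p → F) (a : Fin p), (∀ i, b i ^ p = 1) ∧
    (g : Matrix (Fin p) (Fin p) F) = Mon b a}
  mul_mem' := by
    rintro g h ⟨b, a, hb, hg⟩ ⟨b', a', hb', hh⟩
    refine ⟨fun i => b i * b' (i + a), a + a', fun i => ?_, ?_⟩
    · rw [mul_pow, hb, hb', one_mul]
    · rw [Matrix.GeneralLinearGroup.coe_mul, hg, hh, Mon_mul]
  one_mem' := ⟨fun _ => 1, 0, fun _ => one_pow _, by rw [Mon_one]; rfl⟩
  inv_mem' := by
    rintro g ⟨b, a, hb, hg⟩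
    refine ⟨fun i => (b (i - a))⁻¹, -a, fun i => ?_, ?_⟩
    · rw [inv_pow, hb, inv_one]
    · rw [Matrix.coe_units_inv, hg]
      exact Matrix.inv_eq_right_inv (Mon_mul_inv b a (fun i => ne_zero_of_pow _ (hb i)))

variable (F p) in
/-- the diagonal part -/
def Bs : Subgroup (GL (Fin p) F) where
  carrier := {g | ∃ (b : Fin p → F), (∀ i, b i ^ p = 1) ∧
    (g : Matrix (Fin p) (Fin p) F) = Mon b 0}
  mul_mem' := by
    rintro g h ⟨b, hb, hg⟩ ⟨b', hb', hh⟩
    refine ⟨fun i => b i * b' (i + 0), fun i => ?_, ?_⟩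
    · rw [mul_pow, hb, hb', one_mul]
    · rw [Matrix.GeneralLinearGroup.coe_mul, hg, hh, Mon_mul, add_zero]
  one_mem' := ⟨fun _ => 1, fun _ => one_pow _, by rw [Mon_one]; rfl⟩
  inv_mem' := by
    rintro g ⟨b, hb, hg⟩
    refine ⟨fun i => (b (i - 0))⁻¹, fun i => ?_, ?_⟩
    · rw [inv_pow, hb, inv_one]
    · rw [Matrix.coe_units_inv, hg]
      have := Matrix.inv_eq_right_inv (Mon_mul_inv b 0 (fun i => ne_zero_of_pow _ (hb i)))
      rwa [neg_zero] at this

theorem Bs_le_Qs : Bs F p ≤ Qs F p := by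
  rintro g ⟨b, hb, hg⟩
  exact ⟨b, 0, hb, hg⟩

theorem mem_Qs_iff (g : GL (Fin p) F) : g ∈ Qs F p ↔ ∃ (b : Fin p → F) (a : Fin p),
    (∀ i, b i ^ p = 1) ∧ (g : Matrix (Fin p) (Fin p) F) = Mon b a := Iff.rfl

theorem mem_Bs_iff (g : GL (Fin p) F) : g ∈ Bs F p ↔ ∃ (b : Fin p → F),
    (∀ i, b i ^ p = 1) ∧ (g : Matrix (Fin p) (Fin p) F) = Mon b 0 := Iff.rfl

end mon

section card

variable {F : Type*} [Field F] [Fintype F] {p : ℕ} [hp : Fact p.Prime] [NeZero p]

omit [NeZero p] in
theorem exists_unit_order (h1 : p ∣ Fintype.card F - 1) : ∃ u : Fˣ, orderOf u = p := by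
  classical
  have : p ∣ Fintype.card Fˣ := by rwa [Fintype.card_units]
  exact exists_prime_orderOf_dvd_card p this

omit [NeZero p] in
theorem exists_zeta (h1 : p ∣ Fintype.card F - 1) : ∃ ζ : F, ζ ≠ 1 ∧ ζ ^ p = 1 := by
  obtain ⟨u, hu⟩ := exists_unit_order h1
  refine ⟨(u : F), ?_, ?_⟩
  · intro h
    have : u = 1 := Units.ext h
    rw [this, orderOf_one] at hu
    exact hp.out.one_lt.ne hu
  · rw [← Units.val_pow_eq_pow_val, ← hu, pow_orderOf_eq_one, Units.val_one]

omit [NeZero p] in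
theorem card_roots (h1 : p ∣ Fintype.card F - 1) : Nat.card {z : F // z ^ p = 1} = p := by
  classical
  obtain ⟨u, hu⟩ := exists_unit_order h1
  have hprim : IsPrimitiveRoot (u : F) p := by
    rw [← hu, ← orderOf_units]
    exact IsPrimitiveRoot.orderOf (u : F)
  have h2 := hprim.card_nthRootsFinset
  rw [Nat.card_congr (Equiv.subtypeEquivRight
    (fun z => (Polynomial.mem_nthRootsFinset (x := z) hp.out.pos (1 : F)).symm)),
    Nat.card_eq_fintype_card, Fintype.card_coe, h2]

theorem card_Qs (h1 : p ∣ Fintype.card F - 1) : Nat.card (Qs F p) = p ^ (p + 1) := by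
  classical
  let Φ : (Fin p → {z : F // z ^ p = 1}) × Fin p → Qs F p := fun x =>
    ⟨MonU (fun i => (x.1 i).1) x.2 (fun i => ne_zero_of_pow _ (x.1 i).2),
      ⟨fun i => (x.1 i).1, x.2, fun i => (x.1 i).2, rfl⟩⟩
  have hinj : Function.Injective Φ := by
    rintro ⟨β, a⟩ ⟨β', a'⟩ h
    have h1 : Mon (fun i => (β i).1) a = Mon (fun i => (β' i).1) a' := by
      have := congrArg (fun g : Qs F p => ((g : GL (Fin p) F) : Matrix (Fin p) (Fin p) F)) h
      exact this
    obtain ⟨ha, hb⟩ := Mon_inj _ _ _ _ (fun i => ne_zero_of_pow _ (β i).2) h1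
    subst ha
    congr 1
    funext i
    exact Subtype.ext (congrFun hb i)
  have hsurj : Function.Surjective Φ := by
    rintro ⟨g, b, a, hb, hg⟩
    refine ⟨(fun i => ⟨b i, hb i⟩, a), ?_⟩
    apply Subtype.ext
    apply Units.ext
    exact hg.symm
  rw [← Nat.card_congr (Equiv.ofBijective Φ ⟨hinj, hsurj⟩), Nat.card_prod, Nat.card_fun,
    card_roots h1, Nat.card_fin, pow_succ]

theorem card_Bs (h1 : p ∣ Fintype.card F - 1) : Nat.card (Bs F p) = p ^ p := by
  classical
  let Φ : (Fin p → {z : F // z ^ p = 1}) → Bs F p := fun x =>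
    ⟨MonU (fun i => (x i).1) 0 (fun i => ne_zero_of_pow _ (x i).2),
      ⟨fun i => (x i).1, fun i => (x i).2, rfl⟩⟩
  have hinj : Function.Injective Φ := by
    rintro β β' h
    have h1 : Mon (fun i => (β i).1) 0 = Mon (fun i => (β' i).1) 0 := by
      have := congrArg (fun g : Bs F p => ((g : GL (Fin p) F) : Matrix (Fin p) (Fin p) F)) h
      exact this
    obtain ⟨-, hb⟩ := Mon_inj _ _ _ _ (fun i => ne_zero_of_pow _ (β i).2) h1
    funext i
    exact Subtype.ext (congrFun hb i)
  have hsurj : Function.Surjective Φ := by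
    rintro ⟨g, b, hb, hg⟩
    refine ⟨fun i => ⟨b i, hb i⟩, ?_⟩
    apply Subtype.ext
    apply Units.ext
    exact hg.symm
  rw [← Nat.card_congr (Equiv.ofBijective Φ ⟨hinj, hsurj⟩), Nat.card_fun,
    card_roots h1, Nat.card_fin]

end card

section glcard

variable {F : Type*} [Field F] [Fintype F] {p : ℕ} [hp : Fact p.Prime]

theorem factorization_card_GL (hp2 : p ≠ 2) (h1 : p ∣ Fintype.card F - 1)
    (h2 : ¬ p ^ 2 ∣ Fintype.card F - 1) :
    (Nat.card (GL (Fin p) F)).factorization p = p + 1 := by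
  classical
  set q := Fintype.card F with hq
  have hq1 : 1 < q := Fintype.one_lt_card
  have hpq : ¬ p ∣ q := by
    intro h
    have h3 : p ∣ q - (q - 1) := Nat.dvd_sub h h1
    have h4 : q - (q - 1) = 1 := by omega
    rw [h4] at h3
    exact hp.out.one_lt.ne' (Nat.dvd_one.mp h3)
  have hodd : Odd p := hp.out.odd_of_ne_two hp2
  have hv1 : padicValNat p (q - 1) = 1 := by
    have hne : q - 1 ≠ 0 := by omega
    apply le_antisymm
    · by_contra hlt
      push Not at hlt
      exact h2 ((padicValNat_dvd_iff_le hne).mpr hlt)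
    · exact one_le_padicValNat_of_dvd hne h1
  have hterm : ∀ i : Fin p, (q ^ p - q ^ (i : ℕ)).factorization p =
      1 + (if i = ⟨0, hp.out.pos⟩ then 1 else 0) := by
    intro i
    have hi : (i : ℕ) < p := i.2
    have hsplit : q ^ p - q ^ (i : ℕ) = q ^ (i : ℕ) * (q ^ (p - i) - 1) := by
      have : q ^ p = q ^ (i : ℕ) * q ^ (p - i) := by
        rw [← pow_add]; congr 1; omega
      rw [this, Nat.mul_sub, mul_one]
    have hne1 : q ^ (i : ℕ) ≠ 0 := pow_ne_zero _ (by omega)
    have hne2 : q ^ (p - i) - 1 ≠ 0 := by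
      have : 1 < q ^ (p - i) := Nat.one_lt_pow (by omega) hq1
      omega
    rw [hsplit, Nat.factorization_mul hne1 hne2, Finsupp.add_apply, Nat.factorization_pow,
      Finsupp.smul_apply, Nat.factorization_eq_zero_of_not_dvd hpq, smul_zero, zero_add,
      Nat.factorization_def _ hp.out]
    have h5 := padicValNat.pow_sub_pow (p := p) hodd (x := q) (y := 1) hq1 h1 hpq
      (n := p - i) (by omega)
    rw [one_pow] at h5
    rw [h5, hv1]
    congr 1
    by_cases h0 : i = ⟨0, hp.out.pos⟩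
    · rw [if_pos h0]
      have : (i : ℕ) = 0 := by rw [h0]
      rw [this, Nat.sub_zero, padicValNat_self]
    · rw [if_neg h0]
      have hi0 : (i : ℕ) ≠ 0 := fun h => h0 (Fin.ext h)
      apply padicValNat.eq_zero_of_not_dvd
      intro hd
      have := Nat.le_of_dvd (by omega) hd
      omega
  rw [Matrix.card_GL_field, Nat.factorization_prod, Finsupp.finsetSum_apply]
  · rw [Finset.sum_congr rfl (fun i _ => hterm i), Finset.sum_add_distrib, Finset.sum_const,
      Finset.sum_ite_eq' Finset.univ (⟨0, hp.out.pos⟩ : Fin p) (fun _ => 1)]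
    simp
  · intro i _
    have : Fintype.card F ^ (i : ℕ) < Fintype.card F ^ p := Nat.pow_lt_pow_right hq1 i.2
    omega

end glcard

section fin
variable {p : ℕ} [hp : Fact p.Prime] [NeZero p]

/-- a function on `Fin p` invariant under a nonzero shift is constant -/
theorem const_of_shift {α : Type*} (d : Fin p → α) (a : Fin p) (ha : a ≠ 0)
    (h : ∀ i, d (i + a) = d i) : ∀ i, d i = d 0 := by
  let S : AddSubgroup (Fin p) :=
    { carrier := {k | ∀ i, d (i + k) = d i}
      zero_mem' := by intro i; simp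
      add_mem' := by
        intro k k' hk hk' i
        rw [← add_assoc, hk', hk]
      neg_mem' := by
        intro k hk i
        have := hk (i + -k)
        rw [neg_add_cancel_right] at this
        exact this.symm }
  have haS : a ∈ S := h
  have hdvd : Nat.card S ∣ Nat.card (Fin p) := AddSubgroup.card_addSubgroup_dvd_card S
  rw [Nat.card_fin] at hdvd
  have htop : S = ⊤ := by
    rcases (Nat.dvd_prime hp.out).1 hdvd with h1 | h1
    · exfalso
      have hbot := AddSubgroup.eq_bot_of_card_eq S h1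
      rw [hbot, AddSubgroup.mem_bot] at haS
      exact ha haS
    · apply AddSubgroup.eq_top_of_card_eq
      rw [h1, Nat.card_fin]
  intro i
  have hi : i ∈ S := by rw [htop]; exact AddSubgroup.mem_top i
  have := hi 0
  rwa [zero_add] at this

end fin

section normalizer

variable {F : Type*} [Field F] [Fintype F] {p : ℕ} [hp : Fact p.Prime] [NeZero p]

omit [Fintype F] hp in
theorem Mon_zero_eq (d : Fin p → F) : Mon d 0 = Matrix.diagonal d := by
  ext i k
  rw [Mon_apply, add_zero, Matrix.diagonal_apply]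
  by_cases h : i = k
  · subst h; simp
  · rw [if_neg h, if_neg (fun h' => h h'.symm)]

/-- each row has at most one nonzero entry -/
def RowMono (M : Matrix (Fin p) (Fin p) F) : Prop :=
  ∀ i k k', M i k ≠ 0 → M i k' ≠ 0 → k = k'

omit [Fintype F] hp in
theorem Bs_comm (y z : GL (Fin p) F) (hy : y ∈ Bs F p) (hz : z ∈ Bs F p) : y * z = z * y := by
  obtain ⟨b, -, hb⟩ := hy
  obtain ⟨c, -, hc⟩ := hz
  apply Units.ext
  rw [Matrix.GeneralLinearGroup.coe_mul, Matrix.GeneralLinearGroup.coe_mul, hb, hc,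
    Mon_zero_eq, Mon_zero_eq, Matrix.diagonal_mul_diagonal, Matrix.diagonal_mul_diagonal]
  congr 1
  funext i
  exact mul_comm _ _

theorem conj_Bs_le (hp2 : p ≠ 2) (h1 : p ∣ Fintype.card F - 1) (g : GL (Fin p) F)
    (hg : ∀ y ∈ Qs F p, g * y * g⁻¹ ∈ Qs F p) :
    ∀ y ∈ Bs F p, g * y * g⁻¹ ∈ Bs F p := by
  classical
  set A : Subgroup (GL (Fin p) F) := (Bs F p).map (MulAut.conj g).toMonoidHom with hA
  have hAmem : ∀ z, z ∈ A ↔ ∃ y ∈ Bs F p, g * y * g⁻¹ = z := by
    intro z
    rw [hA, Subgroup.mem_map]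
    rfl
  have hAQ : A ≤ Qs F p := by
    intro z hz
    obtain ⟨y, hy, rfl⟩ := (hAmem z).1 hz
    exact hg y (Bs_le_Qs hy)
  have hAcomm : ∀ z w, z ∈ A → w ∈ A → z * w = w * z := by
    intro z w hz hw
    obtain ⟨y, hy, rfl⟩ := (hAmem z).1 hz
    obtain ⟨y', hy', rfl⟩ := (hAmem w).1 hw
    have := Bs_comm y y' hy hy'
    calc g * y * g⁻¹ * (g * y' * g⁻¹) = g * (y * y') * g⁻¹ := by group
      _ = g * (y' * y) * g⁻¹ := by rw [this]
      _ = g * y' * g⁻¹ * (g * y * g⁻¹) := by group
  have hcardA : Nat.card A = p ^ p := by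
    rw [hA, Subgroup.card_map_of_injective (MulAut.conj g).injective, card_Bs h1]
  suffices hAB : A ≤ Bs F p by
    intro y hy
    exact hAB ((hAmem _).2 ⟨y, hy, rfl⟩)
  by_contra hnot
  obtain ⟨y, hyA, hyB⟩ := SetLike.not_le_iff_exists.1 hnot
  obtain ⟨b₁, a₁, hb₁, hy⟩ := hAQ hyA
  have ha₁ : a₁ ≠ 0 := by
    intro h0
    apply hyB
    exact ⟨b₁, hb₁, by rw [hy, h0]⟩
  -- elements of `A ⊓ Bs` are scalar
  have hscal : ∀ z ∈ A ⊓ Bs F p, ∃ c : F, c ^ p = 1 ∧
      (z : Matrix (Fin p) (Fin p) F) = Mon (fun _ => c) 0 := by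
    intro z hz
    obtain ⟨hzA, d, hd, hzd⟩ := hz
    have hcomm := hAcomm z y hzA hyA
    have hcomm' : Mon d 0 * Mon b₁ a₁ = Mon b₁ a₁ * Mon d 0 := by
      have := congrArg (fun u : GL (Fin p) F => (u : Matrix (Fin p) (Fin p) F)) hcomm
      simp only [Matrix.GeneralLinearGroup.coe_mul] at this
      rwa [hzd, hy] at this
    rw [Mon_mul, Mon_mul] at hcomm'
    obtain ⟨-, hfun⟩ := Mon_inj _ _ _ _ (fun i => mul_ne_zero (ne_zero_of_pow _ (hd i))
      (ne_zero_of_pow _ (hb₁ _))) hcomm'
    have hshift : ∀ i, d (i + a₁) = d i := by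
      intro i
      have h2 := congrFun hfun i
      simp only [add_zero] at h2
      have hb0 : b₁ i ≠ 0 := ne_zero_of_pow _ (hb₁ i)
      have : b₁ i * d (i + a₁) = b₁ i * d i := by rw [← h2]; ring
      exact mul_left_cancel₀ hb0 this
    have hconst := const_of_shift d a₁ ha₁ hshift
    refine ⟨d 0, hd 0, ?_⟩
    rw [hzd]
    congr 1
    funext i
    exact hconst i
  have hcardI : Nat.card (A ⊓ Bs F p : Subgroup (GL (Fin p) F)) ≤ p := by
    have hmem : ∀ z : (A ⊓ Bs F p : Subgroup (GL (Fin p) F)),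
        ((z : GL (Fin p) F) : Matrix (Fin p) (Fin p) F) 0 0 ^ p = 1 := by
      intro z
      obtain ⟨c, hc, hz⟩ := hscal z z.2
      rw [hz, Mon_apply, add_zero, if_pos rfl, hc]
    have hle0 := Nat.card_le_card_of_injective
      (fun z : (A ⊓ Bs F p : Subgroup (GL (Fin p) F)) =>
        (⟨((z : GL (Fin p) F) : Matrix (Fin p) (Fin p) F) 0 0, hmem z⟩ : {z : F // z ^ p = 1})) ?_
    · rwa [card_roots h1] at hle0
    intro z w hzw
    have h00 : ((z : GL (Fin p) F) : Matrix (Fin p) (Fin p) F) 0 0 =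
        ((w : GL (Fin p) F) : Matrix (Fin p) (Fin p) F) 0 0 := congrArg Subtype.val hzw
    obtain ⟨c, -, hz⟩ := hscal z z.2
    obtain ⟨c', -, hw⟩ := hscal w w.2
    rw [hz, hw, Mon_apply, Mon_apply, add_zero, if_pos rfl, if_pos rfl] at h00
    apply Subtype.ext
    apply Units.ext
    rw [hz, hw, h00]
  -- index computations
  have hidx : (Bs F p).relIndex (Qs F p) = p := by
    have h3 := Subgroup.relIndex_mul_relIndex (⊥ : Subgroup (GL (Fin p) F)) (Bs F p) (Qs F p)
      bot_le Bs_le_Qs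
    rw [Subgroup.relIndex_bot_left, Subgroup.relIndex_bot_left, card_Bs h1, card_Qs h1,
      pow_succ] at h3
    exact Nat.eq_of_mul_eq_mul_left (pow_pos hp.out.pos p) h3
  have hle : (Bs F p).relIndex A ≤ p := by
    exact (Subgroup.relIndex_le_of_le_right hAQ (by rw [hidx]; exact hp.out.ne_zero)).trans hidx.le
  have h4 := Subgroup.relIndex_mul_relIndex (⊥ : Subgroup (GL (Fin p) F)) (A ⊓ Bs F p) A
      bot_le inf_le_left
  rw [Subgroup.relIndex_bot_left, Subgroup.relIndex_bot_left, Subgroup.inf_relIndex_left,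
    hcardA] at h4
  have h5 : p ^ p ≤ p * p := by
    rw [← h4]
    exact Nat.mul_le_mul hcardI hle
  have hp3 : 3 ≤ p := by
    have := hp.out.two_le
    omega
  have h6 : p ^ 3 ≤ p ^ p := Nat.pow_le_pow_right hp.out.pos hp3
  have h7 : p * p < p ^ 3 := by
    have : p ^ 3 = p * p * p := by ring
    rw [this]
    have h2 : 1 < p := hp.out.one_lt
    nlinarith
  omega

theorem norm_mono (hp2 : p ≠ 2) (h1 : p ∣ Fintype.card F - 1) (g : GL (Fin p) F)
    (hg : ∀ y ∈ Qs F p, g * y * g⁻¹ ∈ Qs F p) :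
    RowMono (g : Matrix (Fin p) (Fin p) F) := by
  classical
  obtain ⟨ζ, hζ1, hζp⟩ := exists_zeta (F := F) h1
  have hB := conj_Bs_le hp2 h1 g hg
  intro m k k' hk hk'
  by_contra hne
  set d : Fin p → F := Function.update (fun _ => (1 : F)) k ζ with hd
  have hdp : ∀ i, d i ^ p = 1 := by
    intro i
    rw [hd]
    by_cases hi : i = k
    · rw [hi, Function.update_self, hζp]
    · rw [Function.update_of_ne hi, one_pow]
  have hyB : MonU d 0 (fun i => ne_zero_of_pow _ (hdp i)) ∈ Bs F p := ⟨d, hdp, rfl⟩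
  obtain ⟨e, -, he⟩ := hB _ hyB
  have hmat : (g : Matrix (Fin p) (Fin p) F) * Mon d 0 = Mon e 0 * (g : Matrix (Fin p) (Fin p) F) := by
    have h2 : g * MonU d 0 (fun i => ne_zero_of_pow _ (hdp i)) =
        (g * MonU d 0 (fun i => ne_zero_of_pow _ (hdp i)) * g⁻¹) * g := by group
    have h3 : ((g * MonU d 0 (fun i => ne_zero_of_pow _ (hdp i)) : GL (Fin p) F) :
        Matrix (Fin p) (Fin p) F) = ((g * MonU d 0 (fun i => ne_zero_of_pow _ (hdp i)) * g⁻¹ * g :
          GL (Fin p) F) : Matrix (Fin p) (Fin p) F) := congrArg _ h2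
    rw [Matrix.GeneralLinearGroup.coe_mul g,
      Matrix.GeneralLinearGroup.coe_mul (g * MonU d 0 (fun i => ne_zero_of_pow _ (hdp i)) * g⁻¹) g,
      he, MonU_val] at h3
    exact h3
  rw [Mon_zero_eq, Mon_zero_eq] at hmat
  have e1 := congrFun (congrFun hmat m) k
  have e2 := congrFun (congrFun hmat m) k'
  rw [Matrix.mul_diagonal, Matrix.diagonal_mul] at e1 e2
  have hdk : d k = ζ := by rw [hd, Function.update_self]
  have hdk' : d k' = 1 := by rw [hd, Function.update_of_ne (fun h => hne h.symm)]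
  rw [hdk] at e1
  rw [hdk', mul_one] at e2
  have hem : e m = 1 := by
    have : e m * (g : Matrix (Fin p) (Fin p) F) m k' = 1 * (g : Matrix (Fin p) (Fin p) F) m k' := by
      rw [one_mul, ← e2]
    exact mul_right_cancel₀ hk' this
  rw [hem, one_mul] at e1
  have : (g : Matrix (Fin p) (Fin p) F) m k * ζ = (g : Matrix (Fin p) (Fin p) F) m k * 1 := by
    rw [mul_one, e1]
  exact hζ1 (mul_left_cancel₀ hk this)

end normalizer

section constructions

variable {F : Type*} [Field F] [Fintype F] {p : ℕ} [hp : Fact p.Prime] [NeZero p]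

/-- conjugating by a non-monomial matrix gives a different Sylow subgroup -/
theorem conj_sylow (hp2 : p ≠ 2) (h1 : p ∣ Fintype.card F - 1) (Q : Sylow p (GL (Fin p) F))
    (hQ : (Q : Subgroup (GL (Fin p) F)) = Qs F p) (c x : GL (Fin p) F)
    (hc : ¬ RowMono (c : Matrix (Fin p) (Fin p) F)) (hx : c⁻¹ * x * c ∈ Qs F p) :
    ∃ P : Sylow p (GL (Fin p) F), P ≠ Q ∧ x ∈ P := by
  refine ⟨c • Q, ?_, ?_⟩
  · intro hPQ
    apply hc
    apply norm_mono hp2 h1 c
    intro y hy
    have h2 : c * y * c⁻¹ ∈ ((c • Q : Sylow p (GL (Fin p) F)) : Subgroup (GL (Fin p) F)) := by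
      rw [Sylow.coe_subgroup_smul]
      have : c * y * c⁻¹ = MulAut.conj c • y := by
        rw [MulAut.smul_def, MulAut.conj_apply]
      rw [this]
      apply Subgroup.smul_mem_pointwise_smul
      rw [hQ]; exact hy
    rw [hPQ, hQ] at h2
    exact h2
  · show x ∈ ((c • Q : Sylow p (GL (Fin p) F)) : Subgroup (GL (Fin p) F))
    rw [Sylow.coe_subgroup_smul, Subgroup.mem_pointwise_smul_iff_inv_smul_mem, MulAut.smul_def,
      MulAut.conj_inv_apply, hQ]
    exact hx

omit [Fintype F] in
theorem add_self_ne (hp2 : p ≠ 2) (a : Fin p) (ha : a ≠ 0) : a + a ≠ 0 := by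
  intro h
  apply ha
  have h2 := congrArg Fin.val h
  rw [Fin.val_add, Fin.val_zero] at h2
  have h3 : p ∣ a.val + a.val := Nat.dvd_of_mod_eq_zero h2
  have h4 : p ∣ 2 * a.val := by rwa [two_mul]
  rcases (Nat.Prime.dvd_mul hp.out).1 h4 with h5 | h5
  · exact absurd ((Nat.prime_dvd_prime_iff_eq hp.out Nat.prime_two).1 h5) hp2
  · have h6 : a.val = 0 := Nat.eq_zero_of_dvd_of_lt h5 a.2
    exact Fin.ext (by rw [h6, Fin.val_zero])

/-- case of a nontrivial shift -/
theorem exists_c_shift (hp2 : p ≠ 2) (h1 : p ∣ Fintype.card F - 1)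
    (h2 : ¬ p ^ 2 ∣ Fintype.card F - 1) (x : GL (Fin p) F) (k : ℕ) (hk : orderOf x = p ^ k)
    (b : Fin p → F) (a : Fin p) (hb : ∀ i, b i ^ p = 1) (ha : a ≠ 0)
    (hx : (x : Matrix (Fin p) (Fin p) F) = Mon b a) :
    ∃ c : GL (Fin p) F, ¬ RowMono (c : Matrix (Fin p) (Fin p) F) ∧ c⁻¹ * x * c ∈ Qs F p := by
  classical
  obtain ⟨a₀, hno⟩ := exists_quad (F := F)
  have ha₀ : a₀ ≠ 0 := by
    have := hno 0
    simpa using this
  have hxk : (x : Matrix (Fin p) (Fin p) F) ^ (p ^ k) = 1 := by
    rw [← Units.val_pow_eq_pow_val, ← hk, pow_orderOf_eq_one, Units.val_one]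
  obtain ⟨N, hMN, hNM⟩ := unit_of_pow_eq_one p hp.out hp2 h1 h2 a₀ hno k
    (x : Matrix (Fin p) (Fin p) F) hxk
  set M : Matrix (Fin p) (Fin p) F := (x : Matrix (Fin p) (Fin p) F) ^ 2 +
    (x : Matrix (Fin p) (Fin p) F) + algebraMap F (Matrix (Fin p) (Fin p) F) a₀ with hM
  let c : GL (Fin p) F := ⟨M, N, hMN, hNM⟩
  have hcval : (c : Matrix (Fin p) (Fin p) F) = M := rfl
  have hcomm : c * x = x * c := by
    apply Units.ext
    rw [Matrix.GeneralLinearGroup.coe_mul, Matrix.GeneralLinearGroup.coe_mul, hcval, hM]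
    rw [add_mul, add_mul, mul_add, mul_add, Algebra.commutes a₀ (x : Matrix (Fin p) (Fin p) F)]
    congr 2
    rw [pow_two, mul_assoc]
  refine ⟨c, ?_, ?_⟩
  · intro hmono
    have haa := add_self_ne hp2 a ha
    have e1 : M 0 0 = a₀ := by
      rw [hM, hx, pow_two, Mon_mul, Matrix.add_apply, Matrix.add_apply, Mon_apply, Mon_apply,
        Matrix.algebraMap_matrix_apply]
      rw [if_neg (by rw [zero_add]; exact fun h => haa h.symm),
        if_neg (by rw [zero_add]; exact fun h => ha h.symm), if_pos rfl]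
      simp
    have e2 : M 0 (0 + a) = b 0 := by
      rw [hM, hx, pow_two, Mon_mul, Matrix.add_apply, Matrix.add_apply, Mon_apply, Mon_apply,
        Matrix.algebraMap_matrix_apply]
      rw [if_neg (by
        intro h
        have : a = 0 := by
          have h' : (0 : Fin p) + a = 0 + a + a := by rw [add_assoc]; exact h
          exact (left_eq_add.mp h')
        exact ha this), if_pos rfl, if_neg (by rw [zero_add]; exact fun h => ha h.symm)]
      simp
    have := hmono 0 0 (0 + a) (by rw [hcval, e1]; exact ha₀)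
      (by rw [hcval, e2]; exact ne_zero_of_pow _ (hb 0))
    rw [zero_add] at this
    exact ha this.symm
  · have : c⁻¹ * x * c = x := by
      rw [mul_assoc, ← hcomm, ← mul_assoc, inv_mul_cancel, one_mul]
    rw [this]
    exact ⟨b, a, hb, hx⟩

/-- diagonal case with a repeated entry -/
theorem exists_c_repeat (x : GL (Fin p) F)
    (b : Fin p → F) (hb : ∀ i, b i ^ p = 1) (i k : Fin p) (hik : i ≠ k) (hbik : b i = b k)
    (hx : (x : Matrix (Fin p) (Fin p) F) = Mon b 0) :
    ∃ c : GL (Fin p) F, ¬ RowMono (c : Matrix (Fin p) (Fin p) F) ∧ c⁻¹ * x * c ∈ Qs F p := by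
  classical
  have h1 : Matrix.transvection i k (1 : F) * Matrix.transvection i k (-1 : F) = 1 := by
    rw [Matrix.transvection_mul_transvection_same i k hik, add_neg_cancel,
      Matrix.transvection_zero]
  have h2 : Matrix.transvection i k (-1 : F) * Matrix.transvection i k (1 : F) = 1 := by
    rw [Matrix.transvection_mul_transvection_same i k hik, neg_add_cancel,
      Matrix.transvection_zero]
  let c : GL (Fin p) F := ⟨Matrix.transvection i k 1, Matrix.transvection i k (-1), h1, h2⟩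
  have hcval : (c : Matrix (Fin p) (Fin p) F) = Matrix.transvection i k 1 := rfl
  have hcomm : c * x = x * c := by
    apply Units.ext
    rw [Matrix.GeneralLinearGroup.coe_mul, Matrix.GeneralLinearGroup.coe_mul, hcval, hx,
      Mon_zero_eq, Matrix.transvection, add_mul, mul_add, one_mul, mul_one]
    congr 1
    ext m n
    rw [Matrix.mul_diagonal, Matrix.diagonal_mul, Matrix.single_apply]
    by_cases hmn : i = m ∧ k = n
    · rw [if_pos hmn, ← hmn.1, ← hmn.2, hbik]; ring
    · rw [if_neg hmn]; ring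
  refine ⟨c, ?_, ?_⟩
  · intro hmono
    have e1 : (c : Matrix (Fin p) (Fin p) F) i i ≠ 0 := by
      rw [hcval, Matrix.transvection, Matrix.add_apply, Matrix.one_apply_eq, Matrix.single_apply,
        if_neg (fun h => hik h.2.symm), add_zero]
      exact one_ne_zero
    have e2 : (c : Matrix (Fin p) (Fin p) F) i k ≠ 0 := by
      rw [hcval, Matrix.transvection, Matrix.add_apply, Matrix.one_apply_ne hik,
        Matrix.single_apply, if_pos ⟨rfl, rfl⟩, zero_add]
      exact one_ne_zero
    exact hik (hmono i i k e1 e2)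
  · have : c⁻¹ * x * c = x := by
      rw [mul_assoc, ← hcomm, ← mul_assoc, inv_mul_cancel, one_mul]
    rw [this]
    exact ⟨b, 0, hb, hx⟩

omit [Fintype F] hp in
theorem pow_mod_of_pow_eq_one (z : F) (hz : z ^ p = 1) (n : ℕ) : z ^ (n % p) = z ^ n := by
  conv_rhs => rw [← Nat.mod_add_div n p]
  rw [pow_add, pow_mul, hz, one_pow, mul_one]

omit [NeZero p] in
theorem cast_p_ne_zero (h1 : p ∣ Fintype.card F - 1) : (p : F) ≠ 0 := by
  intro h0
  have hq : 1 < Fintype.card F := Fintype.one_lt_card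
  obtain ⟨t, ht⟩ := h1
  have h2 : Fintype.card F = p * t + 1 := by omega
  have h3 : ((Fintype.card F : ℕ) : F) = 0 := FiniteField.cast_card_eq_zero F
  rw [h2] at h3
  push_cast at h3
  rw [h0, zero_mul, zero_add] at h3
  exact one_ne_zero h3

/-- diagonal case with pairwise distinct entries -/
theorem exists_c_distinct (h1 : p ∣ Fintype.card F - 1) (x : GL (Fin p) F)
    (b : Fin p → F) (hb : ∀ i, b i ^ p = 1) (hinj : Function.Injective b)
    (hx : (x : Matrix (Fin p) (Fin p) F) = Mon b 0) :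
    ∃ c : GL (Fin p) F, ¬ RowMono (c : Matrix (Fin p) (Fin p) F) ∧ c⁻¹ * x * c ∈ Qs F p := by
  classical
  have hpF : (p : F) ≠ 0 := cast_p_ne_zero h1
  have hb0 : ∀ i, b i ≠ 0 := fun i => ne_zero_of_pow _ (hb i)
  set V : Matrix (Fin p) (Fin p) F := Matrix.of fun m i => b i ^ (m : ℕ) with hV
  set W : Matrix (Fin p) (Fin p) F := Matrix.of fun i m => (p : F)⁻¹ * (b i)⁻¹ ^ (m : ℕ) with hW
  have hWV : W * V = 1 := by
    ext i i'
    rw [Matrix.mul_apply]
    simp only [hW, hV, Matrix.of_apply]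
    have hterm : ∀ m : Fin p, (p : F)⁻¹ * (b i)⁻¹ ^ (m : ℕ) * b i' ^ (m : ℕ) =
        (p : F)⁻¹ * ((b i)⁻¹ * b i') ^ (m : ℕ) := by
      intro m; rw [mul_pow]; ring
    rw [Finset.sum_congr rfl (fun m _ => hterm m), ← Finset.mul_sum,
      Fin.sum_univ_eq_sum_range (fun m => ((b i)⁻¹ * b i') ^ m) p]
    by_cases hii : i = i'
    · subst hii
      rw [inv_mul_cancel₀ (hb0 i), Matrix.one_apply_eq]
      simp [hpF]
    · rw [Matrix.one_apply_ne hii]
      have hη : (b i)⁻¹ * b i' ≠ 1 := by
        intro h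
        apply hii
        apply hinj
        have := congrArg (fun t => b i * t) h
        simp only [mul_one] at this
        rw [← mul_assoc, mul_inv_cancel₀ (hb0 i), one_mul] at this
        exact this.symm
      rw [geom_sum_eq hη, mul_pow, inv_pow, hb, hb, inv_one, one_mul, sub_self, zero_div,
        mul_zero]
  have hVW : V * W = 1 := mul_eq_one_comm.mp hWV
  let c : GL (Fin p) F := ⟨W, V, hWV, hVW⟩
  have hcval : (c : Matrix (Fin p) (Fin p) F) = W := rfl
  have hcinv : ((c⁻¹ : GL (Fin p) F) : Matrix (Fin p) (Fin p) F) = V := rfl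
  have hp1 : 1 < p := hp.out.one_lt
  have hkey : Mon (fun _ => (1 : F)) (1 : Fin p) * V = V * Mon b 0 := by
    ext m i
    rw [Mon_zero_eq, Matrix.mul_diagonal, Matrix.mul_apply, Finset.sum_eq_single (m + 1)]
    · rw [Mon_apply, if_pos rfl, one_mul]
      simp only [hV, Matrix.of_apply]
      rw [Fin.val_add, Fin.val_one', Nat.mod_eq_of_lt hp1, pow_mod_of_pow_eq_one _ (hb i),
        pow_succ]
    · intro j _ hj
      rw [Mon_apply, if_neg hj, zero_mul]
    · intro h; exact absurd (Finset.mem_univ _) h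
  refine ⟨c, ?_, ?_⟩
  · intro hmono
    have e : ∀ i m, W i m ≠ 0 := by
      intro i m
      simp only [hW, Matrix.of_apply]
      exact mul_ne_zero (inv_ne_zero hpF) (pow_ne_zero _ (inv_ne_zero (hb0 i)))
    have h01 : (0 : Fin p) ≠ 1 := by
      intro h
      have := congrArg Fin.val h
      rw [Fin.val_zero, Fin.val_one', Nat.mod_eq_of_lt hp1] at this
      exact zero_ne_one this
    exact h01 (hmono 0 0 1 (e 0 0) (e 0 1))
  · refine ⟨fun _ => 1, 1, fun _ => one_pow _, ?_⟩
    rw [Matrix.GeneralLinearGroup.coe_mul, Matrix.GeneralLinearGroup.coe_mul, hcinv, hcval, hx,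
      ← hkey, mul_assoc, hVW, mul_one]

end constructions


/-- Let p be an odd prime and F a finite field with q elements such that p divides q - 1 but p² does not. Then GL(p, F) has a Sylow p-subgroup Q such that every element of p-power order lies in some Sylow p-subgroup other than Q (a redundant Sylow p-subgroup). -/
theorem result {F : Type*} [Field F] [Fintype F] (p : ℕ) [Fact p.Prime]
    (hp : p ≠ 2) (h1 : p ∣ Fintype.card F - 1) (h2 : ¬ p ^ 2 ∣ Fintype.card F - 1) :
    ∃ Q : Sylow p (Matrix.GeneralLinearGroup (Fin p) F), ∀ x : Matrix.GeneralLinearGroup (Fin p) F,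
      (∃ k : ℕ, orderOf x = p ^ k) → ∃ P : Sylow p (Matrix.GeneralLinearGroup (Fin p) F), P ≠ Q ∧ x ∈ P := by
  classical
  haveI : NeZero p := ⟨(Fact.out : p.Prime).ne_zero⟩
  have hcardQ : Nat.card (Qs F p) =
      p ^ (Nat.card (Matrix.GeneralLinearGroup (Fin p) F)).factorization p := by
    rw [factorization_card_GL hp h1 h2, card_Qs h1]
  refine ⟨Sylow.ofCard (Qs F p) hcardQ, fun x hx => ?_⟩
  obtain ⟨k, hk⟩ := hx
  have hQ : ((Sylow.ofCard (Qs F p) hcardQ : Sylow p (Matrix.GeneralLinearGroup (Fin p) F)) :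
      Subgroup (Matrix.GeneralLinearGroup (Fin p) F)) = Qs F p := Sylow.coe_ofCard _ _
  by_cases hxQ : x ∈ Qs F p
  · obtain ⟨b, a, hb, hxm⟩ := hxQ
    have hc : ∃ c : Matrix.GeneralLinearGroup (Fin p) F,
        ¬ RowMono (c : Matrix (Fin p) (Fin p) F) ∧ c⁻¹ * x * c ∈ Qs F p := by
      by_cases ha : a = 0
      · subst ha
        by_cases hinj : Function.Injective b
        · exact exists_c_distinct h1 x b hb hinj hxm
        · rw [Function.Injective] at hinj
          push Not at hinj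
          obtain ⟨i, k', hbik, hik⟩ := hinj
          exact exists_c_repeat x b hb i k' hik hbik hxm
      · exact exists_c_shift hp h1 h2 x k hk b a hb ha hxm
    obtain ⟨c, hc1, hc2⟩ := hc
    exact conj_sylow hp h1 _ hQ c x hc1 hc2
  · have hpg : IsPGroup p (Subgroup.zpowers x) := by
      apply IsPGroup.of_card (n := k)
      rw [Nat.card_zpowers, hk]
    obtain ⟨P, hP⟩ := hpg.exists_le_sylow
    refine ⟨P, ?_, hP (Subgroup.mem_zpowers x)⟩
    intro h
    apply hxQ
    rw [← hQ, ← h]
    exact hP (Subgroup.mem_zpowers x)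

end Cfsg.Agent.S4358
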