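import Cfsg.Statements.S4370
import Cfsg.Agent.S0027
import Cfsg.Agent.Lib.Helper97.UniqueOrderP

set_option autoImplicit false
open Cfsg

namespace Cfsg.Agent.S4370

open Cfsg.Agent.Lib.Helper97

variable {G : Type*} [Group G]

theorem mem_zpowers_coe {C : Subgroup G} {g x : C} (h : x ∈ Subgroup.zpowers g) :
    (x : G) ∈ Subgroup.zpowers (g : G) := by
  obtain ⟨k, hk⟩ := Subgroup.mem_zpowers_iff.mp h
  exact Subgroup.mem_zpowers_iff.mpr ⟨k, by rw [← hk]; simp⟩

theorem exists_not_mem_center (hna : ¬ IsMulCommutative G) : ∃ x : G, x ∉ Subgroup.center G := by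
  by_contra hcon
  push Not at hcon
  apply hna
  refine ⟨⟨fun a b => ?_⟩⟩
  exact (Subgroup.mem_center_iff.mp (hcon b) a)

/-- commuting elements lie in a common cyclic subgroup. -/
theorem exists_common_cyclic (hna : ¬ IsMulCommutative G)
    (hcyc : ∀ x : G, x ∉ Subgroup.center G → IsCyclic (Subgroup.centralizer ({x} : Set G)))
    (u v : G) (huv : u * v = v * u) :
    ∃ g : G, u ∈ Subgroup.zpowers g ∧ v ∈ Subgroup.zpowers g := by
  have key : ∀ x : G, x ∉ Subgroup.center G → u * x = x * u → v * x = x * v →
      ∃ g : G, u ∈ Subgroup.zpowers g ∧ v ∈ Subgroup.zpowers g := by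
    intro x hx hux hvx
    haveI := hcyc x hx
    obtain ⟨g, hg⟩ := IsCyclic.exists_generator (α := Subgroup.centralizer ({x} : Set G))
    have hu : u ∈ Subgroup.centralizer ({x} : Set G) :=
      Subgroup.mem_centralizer_singleton_iff.mpr hux
    have hv : v ∈ Subgroup.centralizer ({x} : Set G) :=
      Subgroup.mem_centralizer_singleton_iff.mpr hvx
    exact ⟨g, mem_zpowers_coe (hg ⟨u, hu⟩), mem_zpowers_coe (hg ⟨v, hv⟩)⟩
  by_cases hu : u ∈ Subgroup.center G
  · by_cases hv : v ∈ Subgroup.center G
    · obtain ⟨x, hx⟩ := exists_not_mem_center hna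
      exact key x hx ((Subgroup.mem_center_iff.mp hu x).symm) ((Subgroup.mem_center_iff.mp hv x).symm)
    · exact key v hv huv rfl
  · exact key u hu rfl huv.symm

/-- In a finite group where commuting elements lie in a common cyclic subgroup, a commuting
element with `b ^ p = 1` is a power of any element of order `p`. -/
theorem mem_zpowers_of_commute [Finite G]
    (hcc : ∀ u v : G, u * v = v * u → ∃ g : G, u ∈ Subgroup.zpowers g ∧ v ∈ Subgroup.zpowers g)
    {p : ℕ} (hp : 0 < p) (a b : G) (hab : a * b = b * a) (ha : orderOf a = p) (hb : b ^ p = 1) :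
    b ∈ Subgroup.zpowers a := by
  obtain ⟨g, hag, hbg⟩ := hcc a b hab
  have h := mem_zpowers_of_pow_eq_one_of_isCyclic' (P := Subgroup.zpowers g) hp ⟨a, hag⟩ ⟨b, hbg⟩
    (by rw [Subgroup.orderOf_mk, ha]) (Subtype.ext (by simpa using hb))
  exact mem_zpowers_coe h

theorem uniqueOrderP_of_common_cyclic [Finite G] {p : ℕ} [hp : Fact p.Prime]
    (hcc : ∀ u v : G, u * v = v * u → ∃ g : G, u ∈ Subgroup.zpowers g ∧ v ∈ Subgroup.zpowers g)
    (P : Subgroup G) (hP : IsPGroup p P) : UniqueOrderP p P := by
  intro x y hx hy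
  haveI : Nontrivial P := by
    refine ⟨⟨x, 1, fun h => ?_⟩⟩
    rw [h, orderOf_one] at hx
    exact hp.out.one_lt.ne hx
  haveI : Nontrivial (Subgroup.center P) := hP.center_nontrivial
  have hZp : IsPGroup p (Subgroup.center P) := hP.to_subgroup _
  obtain ⟨n, hn, hcard⟩ := hZp.nontrivial_iff_card.mp inferInstance
  have hdvd : p ∣ Nat.card (Subgroup.center P) := by
    rw [hcard]; exact dvd_pow_self p hn.ne'
  obtain ⟨z₀, hz₀⟩ := exists_prime_orderOf_dvd_card' p hdvd
  have hz : orderOf ((z₀ : P) : G) = p := by
    rw [Subgroup.orderOf_coe, Subgroup.orderOf_coe, hz₀]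
  have hzc : ∀ u : P, (u : G) * ((z₀ : P) : G) = ((z₀ : P) : G) * (u : G) := by
    intro u
    have := Subgroup.mem_center_iff.mp z₀.2 u
    exact congrArg Subtype.val this
  have hxG : orderOf (x : G) = p := by rw [Subgroup.orderOf_coe, hx]
  have hyG : orderOf (y : G) = p := by rw [Subgroup.orderOf_coe, hy]
  have h1 : ((z₀ : P) : G) ∈ Subgroup.zpowers (x : G) :=
    mem_zpowers_of_commute hcc hp.out.pos _ _ (hzc x) hxG (by rw [← hz, pow_orderOf_eq_one])
  have h2 : (y : G) ∈ Subgroup.zpowers ((z₀ : P) : G) :=
    mem_zpowers_of_commute hcc hp.out.pos _ _ (hzc y).symm hz (by rw [← hyG, pow_orderOf_eq_one])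
  have h3 : (y : G) ∈ Subgroup.zpowers (x : G) :=
    (Subgroup.zpowers_le.mpr h1) h2
  obtain ⟨k, hk⟩ := Subgroup.mem_zpowers_iff.mp h3
  exact Subgroup.mem_zpowers_iff.mpr ⟨k, Subtype.ext (by simpa using hk)⟩

/-- `S0016` in element form. -/
theorem cyclic_or_quaternion_of_uniqueOrderP {P : Type*} [Group P] [Finite P] (p : ℕ)
    [hp : Fact p.Prime] (hG : IsPGroup p P) (hU : UniqueOrderP p P) :
    IsCyclic P ∨ (p = 2 ∧ ∃ n : ℕ, Nonempty (P ≃* QuaternionGroup (2 ^ n))) := by
  by_cases hc : IsCyclic P
  · exact Or.inl hc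
  · right
    by_cases hp2 : p = 2
    · subst hp2
      exact ⟨rfl, quaternion_of_uniqueOrderP_two hG hU hc⟩
    · exfalso
      obtain ⟨A, -, ⟨hAc, hAe⟩, hAcard⟩ := exists_normal_elementary_sq hp2 hG hc
      have hAcyc : IsCyclic A :=
        isCyclic_of_comm_of_uniqueOrderP (hG.to_subgroup A) (fun x y => mul_comm' x y)
          (hU.subgroup A)
      obtain ⟨x, hx⟩ := hAcyc.exists_generator
      have h1 : orderOf x = Nat.card A := orderOf_eq_card_of_forall_mem_zpowers hx
      have h2 : x ^ p = 1 := Subtype.ext (by simpa using hAe x x.2)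
      have h3 := orderOf_dvd_of_pow_eq_one h2
      rw [h1, hAcard] at h3
      have h4 := Nat.le_of_dvd hp.out.pos h3
      have h5 := hp.out.one_lt
      nlinarith

theorem exists_noncomm_sylow [Finite G] (hG : Group.IsNilpotent G) (hna : ¬ IsMulCommutative G) :
    ∃ (p : ℕ) (_ : Fact p.Prime) (P : Sylow p G), ∃ a ∈ P, ∃ b ∈ P, a * b ≠ b * a := by
  by_contra hcon
  push Not at hcon
  apply hna
  obtain ⟨e⟩ := (Group.isNilpotent_of_finite_tfae (G := G)).out 0 4 |>.mp hG
  refine ⟨⟨fun x y => ?_⟩⟩
  have h : e.symm x * e.symm y = e.symm y * e.symm x := by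
    funext p
    funext P
    haveI : Fact (Nat.Prime (p : ℕ)) := ⟨Nat.prime_of_mem_primeFactors p.2⟩
    apply Subtype.ext
    exact hcon p inferInstance P _ (e.symm x p P).2 _ (e.symm y p P).2
  have := congrArg e h
  simpa using this

theorem commutator_le_lowerCentralSeries (P H : Subgroup G) (h : ⁅⁅P, H⁆, H⁆ = ⁅P, H⁆) (n : ℕ) :
    ⁅P, H⁆ ≤ (⊤ : Subgroup G).lowerCentralSeries n := by
  induction n with
  | zero => exact le_top
  | succ n ih =>
    rw [Subgroup.lowerCentralSeries_succ, ← h]
    exact Subgroup.commutator_mono ih le_top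

theorem forward [Finite G] (hG : Group.IsNilpotent G) (hna : ¬ IsMulCommutative G)
    (hcyc : ∀ x : G, x ∉ Subgroup.center G → IsCyclic (Subgroup.centralizer ({x} : Set G))) :
    ∃ (k m : ℕ), 1 ≤ k ∧ Odd m ∧
      Nonempty (G ≃* QuaternionGroup (2 ^ k) × Multiplicative (ZMod m)) := by
  have hcc := exists_common_cyclic hna hcyc
  obtain ⟨p, hp, P, a, ha, b, hb, hab⟩ := exists_noncomm_sylow hG hna
  haveI := hp
  haveI := hG
  have hU : UniqueOrderP p (P : Subgroup G) := uniqueOrderP_of_common_cyclic hcc P P.isPGroup'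
  have hnc : ¬ IsCyclic (P : Subgroup G) := by
    intro hc
    have hcomm := hc.commGroup.mul_comm ⟨a, ha⟩ ⟨b, hb⟩
    exact hab (congrArg Subtype.val hcomm)
  rcases cyclic_or_quaternion_of_uniqueOrderP p P.isPGroup' hU with hc | ⟨rfl, n, ⟨e₁⟩⟩
  · exact absurd hc hnc
  have hn : 1 ≤ n := by
    by_contra h
    have h0 : n = 0 := by omega
    subst h0
    apply hnc
    have hq : IsCyclic (QuaternionGroup (2 ^ 0)) := by
      simpa using QuaternionGroup.quaternionGroup_one_isCyclic
    exact (e₁.isCyclic).mpr hq
  haveI : (P : Subgroup G).Normal := inferInstance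
  obtain ⟨H, hH⟩ := Subgroup.exists_right_complement'_of_coprime P.card_coprime_index
  have hHcard : Nat.card H = (P : Subgroup G).index := hH.symm.index_eq_card.symm
  have hcop : (Nat.card H).Coprime (Nat.card (P : Subgroup G)) := by
    rw [hHcard]; exact P.card_coprime_index.symm
  haveI : Group.IsNilpotent (P : Subgroup G) := P.isPGroup'.isNilpotent
  have h27 := Cfsg.Agent.S0027.result H (P : Subgroup G)
    (by rw [Subgroup.normalizer_eq_top]; exact le_top) hcop (Or.inr inferInstance)
  obtain ⟨c, hc⟩ := Subgroup.nilpotent_iff_lowerCentralSeries.mp hG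
  have hPH : ⁅(P : Subgroup G), H⁆ = ⊥ := by
    rw [eq_bot_iff, ← hc]; exact commutator_le_lowerCentralSeries _ _ h27 c
  have hPcent : (P : Subgroup G) ≤ Subgroup.centralizer H :=
    Subgroup.commutator_eq_bot_iff_le_centralizer.mp hPH
  have haZ : a ∉ Subgroup.center G := fun h => hab ((Subgroup.mem_center_iff.mp h b).symm)
  have hHa : H ≤ Subgroup.centralizer ({a} : Set G) := by
    intro h hh
    rw [Subgroup.mem_centralizer_singleton_iff]
    exact (Subgroup.mem_centralizer_iff.mp (hPcent ha) h hh)
  haveI := hcyc a haZ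
  have hHcyc : IsCyclic H := Subgroup.isCyclic_of_le hHa
  let f : ↥(P : Subgroup G) × ↥H →* G :=
    MonoidHom.noncommCoprod (P : Subgroup G).subtype H.subtype
      (fun x y => (Subgroup.mem_centralizer_iff.mp (hPcent x.2) y y.2).symm)
  have hbij : Function.Bijective f := hH
  let e : ↥(P : Subgroup G) × ↥H ≃* G := MulEquiv.ofBijective f hbij
  refine ⟨n, Nat.card H, hn, ?_,
    ⟨e.symm.trans (MulEquiv.prodCongr e₁ (zmodCyclicMulEquiv hHcyc).symm)⟩⟩
  have h2 : 2 ∣ Nat.card (P : Subgroup G) := by
    rw [Nat.card_congr e₁.toEquiv, Nat.card_eq_fintype_card, QuaternionGroup.card]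
    exact Dvd.intro _ (by ring : 2 * (2 * 2 ^ n) = 4 * 2 ^ n)
  have h3 : (Nat.card H).Coprime 2 := Nat.Coprime.coprime_dvd_right h2 hcop
  exact Nat.coprime_two_right.mp h3

section Quat

open QuaternionGroup

variable {n : ℕ} [NeZero n]

theorem two_torsion (j : ZMod (2 * n)) (h : j + j = 0) : j = 0 ∨ j = (n : ZMod (2 * n)) := by
  have hn : 0 < n := Nat.pos_of_ne_zero (NeZero.ne n)
  have h1 : (j + j).val = 0 := by rw [h, ZMod.val_zero]
  rw [ZMod.val_add] at h1
  have h2 : j.val < 2 * n := ZMod.val_lt j
  have h3 : j.val + j.val = 0 ∨ j.val + j.val = 2 * n := by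
    have hd : 2 * n ∣ j.val + j.val := Nat.dvd_of_mod_eq_zero h1
    obtain ⟨c, hc⟩ := hd
    have hc2 : c < 2 := by
      by_contra hcon
      have : 2 ≤ c := by omega
      have : 2 * n * 2 ≤ 2 * n * c := Nat.mul_le_mul_left _ this
      omega
    interval_cases c
    · left; omega
    · right; omega
  have hj : j = ((j.val : ℕ) : ZMod (2 * n)) := (ZMod.natCast_zmod_val j).symm
  rcases h3 with h3 | h3
  · left
    have : j.val = 0 := by omega
    rw [hj, this, Nat.cast_zero]
  · right
    have : j.val = n := by omega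
    rw [hj, this]

theorem n_add_n : ((n : ℕ) : ZMod (2 * n)) + (n : ZMod (2 * n)) = 0 := by
  have : ((n : ℕ) : ZMod (2 * n)) + (n : ZMod (2 * n)) = ((2 * n : ℕ) : ZMod (2 * n)) := by
    push_cast; ring
  rw [this, ZMod.natCast_self]

theorem a_mem_zpowers (j : ZMod (2 * n)) :
    (a j : QuaternionGroup n) ∈ Subgroup.zpowers (a 1 : QuaternionGroup n) := by
  have : (a j : QuaternionGroup n) = (a 1) ^ j.val := by
    rw [a_one_pow, ZMod.natCast_zmod_val]
  rw [this]
  exact Subgroup.npow_mem_zpowers _ _

theorem quat_centralizer_cyclic (q : QuaternionGroup n) (hq : q ∉ Subgroup.center (QuaternionGroup n)) :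
    IsCyclic (Subgroup.centralizer ({q} : Set (QuaternionGroup n))) := by
  cases q with
  | a i =>
    have hi : i + i ≠ 0 := by
      intro hi
      apply hq
      rw [Subgroup.mem_center_iff]
      intro g
      cases g with
      | a j => rw [a_mul_a, a_mul_a, add_comm]
      | xa j =>
        rw [xa_mul_a, a_mul_xa]
        congr 1
        have : -i = i := by
          rw [neg_eq_iff_add_eq_zero]; exact hi
        rw [sub_eq_add_neg, this]
    have hle : Subgroup.centralizer ({a i} : Set (QuaternionGroup n)) ≤
        Subgroup.zpowers (a 1 : QuaternionGroup n) := by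
      intro y hy
      rw [Subgroup.mem_centralizer_singleton_iff] at hy
      cases y with
      | a j => exact a_mem_zpowers j
      | xa j =>
        exfalso
        rw [xa_mul_a, a_mul_xa] at hy
        have h1 : j + i = j - i := by
          injection hy
        apply hi
        have : i = -i := by
          have := add_left_cancel (a := j) (by rw [h1, sub_eq_add_neg] : j + i = j + -i)
          exact this
        calc i + i = i + -i := by rw [← this]
          _ = 0 := add_neg_cancel i
    exact Subgroup.isCyclic_of_le hle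
  | xa i =>
    have hle : Subgroup.centralizer ({xa i} : Set (QuaternionGroup n)) ≤
        Subgroup.zpowers (xa i : QuaternionGroup n) := by
      intro y hy
      rw [Subgroup.mem_centralizer_singleton_iff] at hy
      cases y with
      | a j =>
        rw [a_mul_xa, xa_mul_a] at hy
        have h1 : i - j = i + j := by injection hy
        have h2 : j + j = 0 := by
          have : -j = j := by
            have := add_left_cancel (a := i) (by rw [← h1, sub_eq_add_neg] : i + -j = i + j)
            exact this
          calc j + j = j + -j := by rw [this]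
            _ = 0 := add_neg_cancel j
        rcases two_torsion j h2 with rfl | rfl
        · rw [a_zero]; exact Subgroup.one_mem _
        · rw [← xa_sq i]; exact Subgroup.npow_mem_zpowers _ _
      | xa j =>
        rw [xa_mul_xa, xa_mul_xa] at hy
        have h1 : (n : ZMod (2 * n)) + i - j = (n : ZMod (2 * n)) + j - i := by injection hy
        have h2 : (j - i) + (j - i) = 0 := by
          have h3 : i - j = j - i := by
            have := add_left_cancel (a := (n : ZMod (2 * n)))
              (by rw [← add_sub_assoc, ← add_sub_assoc]; exact h1 :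
                (n : ZMod (2 * n)) + (i - j) = (n : ZMod (2 * n)) + (j - i))
            exact this
          calc (j - i) + (j - i) = (j - i) + (i - j) := by rw [h3]
            _ = 0 := by ring
        rcases two_torsion (j - i) h2 with h | h
        · have : j = i := sub_eq_zero.mp h
          rw [this]; exact Subgroup.mem_zpowers _
        · have hj : j = i + (n : ZMod (2 * n)) := by
            rw [← h]; ring
          have h3 : (xa i : QuaternionGroup n) ^ 3 = xa j := by
            rw [pow_succ, xa_sq, a_mul_xa, hj]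
            congr 1
            have := n_add_n (n := n)
            have h4 : -(n : ZMod (2 * n)) = (n : ZMod (2 * n)) := by
              rw [neg_eq_iff_add_eq_zero]; exact this
            rw [sub_eq_add_neg, h4]
          rw [← h3]; exact Subgroup.npow_mem_zpowers _ _
    exact Subgroup.isCyclic_of_le hle

end Quat

theorem prod_centralizer_cyclic {k m : ℕ} (hm : Odd m)
    (y : QuaternionGroup (2 ^ k) × Multiplicative (ZMod m))
    (hy : y ∉ Subgroup.center (QuaternionGroup (2 ^ k) × Multiplicative (ZMod m))) :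
    IsCyclic (Subgroup.centralizer ({y} : Set (QuaternionGroup (2 ^ k) × Multiplicative (ZMod m)))) := by
  haveI : NeZero m := ⟨fun h => by rw [h] at hm; exact absurd hm (by decide)⟩
  obtain ⟨q, c⟩ := y
  have hq : q ∉ Subgroup.center (QuaternionGroup (2 ^ k)) := by
    intro hq
    apply hy
    rw [Subgroup.mem_center_iff]
    rintro ⟨q', c'⟩
    refine Prod.ext ?_ ?_
    · exact Subgroup.mem_center_iff.mp hq q'
    · exact mul_comm c' c
  haveI := quat_centralizer_cyclic q hq
  have hle : Subgroup.centralizer ({(q, c)} : Set (QuaternionGroup (2 ^ k) × Multiplicative (ZMod m)))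
      ≤ (Subgroup.centralizer ({q} : Set (QuaternionGroup (2 ^ k)))).prod ⊤ := by
    rintro ⟨q', c'⟩ h
    rw [Subgroup.mem_centralizer_singleton_iff] at h
    rw [Subgroup.mem_prod]
    refine ⟨?_, Subgroup.mem_top _⟩
    rw [Subgroup.mem_centralizer_singleton_iff]
    exact congrArg Prod.fst h
  have hcyc : IsCyclic ((Subgroup.centralizer ({q} : Set (QuaternionGroup (2 ^ k)))).prod
      (⊤ : Subgroup (Multiplicative (ZMod m)))) := by
    rw [(Subgroup.prodEquiv _ _).isCyclic, Group.isCyclic_prod_iff]
    refine ⟨inferInstance, inferInstance, ?_⟩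
    have h1 : Nat.card (Subgroup.centralizer ({q} : Set (QuaternionGroup (2 ^ k)))) ∣ 2 ^ (k + 2) := by
      have := Subgroup.card_subgroup_dvd_card (Subgroup.centralizer ({q} : Set (QuaternionGroup (2 ^ k))))
      rw [Nat.card_eq_fintype_card (α := QuaternionGroup (2 ^ k)), QuaternionGroup.card] at this
      rw [pow_add, mul_comm]; exact this
    have h2 : Nat.card (⊤ : Subgroup (Multiplicative (ZMod m))) = m := by
      rw [Subgroup.card_top, Nat.card_eq_fintype_card, Fintype.card_multiplicative, ZMod.card]
    rw [h2]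
    apply Nat.Coprime.coprime_dvd_left h1
    apply Nat.Coprime.pow_left
    exact Nat.coprime_two_left.mpr hm
  exact Subgroup.isCyclic_of_le hle

theorem backward {k m : ℕ} (hm : Odd m)
    (e : G ≃* QuaternionGroup (2 ^ k) × Multiplicative (ZMod m)) (x : G)
    (hx : x ∉ Subgroup.center G) : IsCyclic (Subgroup.centralizer ({x} : Set G)) := by
  have hex : e x ∉ Subgroup.center (QuaternionGroup (2 ^ k) × Multiplicative (ZMod m)) := by
    intro h
    apply hx
    rw [Subgroup.mem_center_iff] at h ⊢
    intro g
    apply e.injective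
    rw [map_mul, map_mul]
    exact h (e g)
  haveI := prod_centralizer_cyclic hm (e x) hex
  let f : Subgroup.centralizer ({x} : Set G) →*
      Subgroup.centralizer ({e x} : Set (QuaternionGroup (2 ^ k) × Multiplicative (ZMod m))) :=
    { toFun := fun y => ⟨e y, by
        have := Subgroup.mem_centralizer_singleton_iff.mp y.2
        rw [Subgroup.mem_centralizer_singleton_iff, ← map_mul, ← map_mul, this]⟩
      map_one' := by ext <;> simp
      map_mul' := fun y z => by ext <;> simp }
  have hf : Function.Injective f := by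
    intro y z hyz
    have := congrArg Subtype.val hyz
    exact Subtype.ext (e.injective this)
  exact isCyclic_of_injective f hf

/-- Let G be a finite non-abelian nilpotent group. Then the centralizer of every non-central element of G is cyclic if and only if G is isomorphic to the direct product of a generalized quaternion group and a cyclic group of odd order. -/
theorem result {G : Type*} [Group G] [Finite G] (hG : Group.IsNilpotent G)
    (hna : ¬ IsMulCommutative G) :
    (∀ x : G, x ∉ Subgroup.center G → IsCyclic (Subgroup.centralizer ({x} : Set G))) ↔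
      ∃ (k m : ℕ), 1 ≤ k ∧ Odd m ∧ Nonempty (G ≃* QuaternionGroup (2 ^ k) × Multiplicative (ZMod m)) := by
  constructor
  · intro h
    exact forward hG hna h
  · rintro ⟨k, m, -, hm, ⟨e⟩⟩ x hx
    exact backward hm e x hx

end Cfsg.Agent.S4370
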