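import Cfsg.Statements.S4377

set_option autoImplicit false
open Pointwise
open Cfsg

namespace Cfsg.Agent.S4377

section aux
variable {G : Type*} [Group G] [Finite G]

theorem card_pow_eq_sum (n : ℕ) (hn : n ≠ 0) :
    Nat.card {g : G // g ^ n = 1} = ∑ d ∈ n.divisors, Nat.card {g : G // orderOf g = d} := by
  classical
  letI : Fintype G := Fintype.ofFinite G
  have h1 := sum_card_orderOf_eq_card_pow_eq_one (G := G) hn
  rw [Nat.card_eq_fintype_card, Fintype.card_subtype]
  rw [← h1]
  refine Finset.sum_congr rfl (fun d _ => ?_)
  rw [Nat.card_eq_fintype_card, Fintype.card_subtype]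

theorem card_order_eq_sub (n : ℕ) (hn : n ≠ 0) :
    Nat.card {g : G // orderOf g = n} =
      Nat.card {g : G // g ^ n = 1} - ∑ d ∈ n.properDivisors, Nat.card {g : G // orderOf g = d} := by
  rw [card_pow_eq_sum n hn, ← Nat.insert_self_properDivisors hn,
    Finset.sum_insert Nat.self_notMem_properDivisors]
  omega

theorem card_order_zero : Nat.card {g : G // orderOf g = 0} = 0 := by
  have : IsEmpty {g : G // orderOf g = 0} := ⟨fun ⟨g, hg⟩ => (orderOf_pos g).ne' hg⟩
  exact Nat.card_of_isEmpty

omit [Finite G] in
theorem card_pow_card_mul (m : ℕ) :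
    Nat.card {g : G // g ^ (Nat.card G * m) = 1} = Nat.card G := by
  have : ∀ g : G, g ^ (Nat.card G * m) = 1 := fun g => by
    rw [pow_mul, pow_card_eq_one', one_pow]
  exact Nat.card_congr (Equiv.subtypeUnivEquiv this)

end aux

/-- Two finite groups have the same number of elements of each order if and only if, for every n, they have the same number of elements g with gⁿ = 1. -/
theorem result {G H : Type*} [Group G] [Finite G] [Group H] [Finite H] :
    (∀ n : ℕ, Nat.card {g : G // orderOf g = n} = Nat.card {h : H // orderOf h = n}) ↔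
      ∀ n : ℕ, Nat.card {g : G // g ^ n = 1} = Nat.card {h : H // h ^ n = 1} := by
  constructor
  · intro h
    have hpos : ∀ n : ℕ, n ≠ 0 →
        Nat.card {g : G // g ^ n = 1} = Nat.card {h : H // h ^ n = 1} := fun n hn => by
      rw [card_pow_eq_sum n hn, card_pow_eq_sum n hn]
      exact Finset.sum_congr rfl (fun d _ => h d)
    intro n
    rcases Nat.eq_zero_or_pos n with rfl | hn
    · have hG : Nat.card G ≠ 0 := Nat.card_pos.ne'
      have hH : Nat.card H ≠ 0 := Nat.card_pos.ne'
      have h1 := hpos (Nat.card G * Nat.card H) (Nat.mul_ne_zero hG hH)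
      rw [card_pow_card_mul, Nat.mul_comm, card_pow_card_mul] at h1
      have e1 : Nat.card {g : G // g ^ 0 = 1} = Nat.card G :=
        Nat.card_congr (Equiv.subtypeUnivEquiv (fun g => pow_zero g))
      have e2 : Nat.card {g : H // g ^ 0 = 1} = Nat.card H :=
        Nat.card_congr (Equiv.subtypeUnivEquiv (fun g => pow_zero g))
      rw [e1, e2, h1]
    · exact hpos n hn.ne'
  · intro h n
    induction n using Nat.strong_induction_on with
    | _ n ih =>
      rcases Nat.eq_zero_or_pos n with rfl | hn
      · rw [card_order_zero, card_order_zero]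
      · rw [card_order_eq_sub n hn.ne', card_order_eq_sub n hn.ne', h n]
        congr 1
        exact Finset.sum_congr rfl (fun d hd => ih d (Nat.mem_properDivisors.mp hd).2)

end Cfsg.Agent.S4377
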