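import Cfsg.Statements.S4381
import Cfsg.Agent.Lib.Helper77.CoprimeInv
import Cfsg.Agent.Lib.Helper77.ConjUnion
import Cfsg.Agent.Lib.Helper75.PGroupFrattini

set_option autoImplicit false
open Pointwise
open Cfsg

namespace Cfsg.Agent.S4381

open Cfsg.Agent.Lib.Helper77 Cfsg.Agent.Lib.Helper75
open scoped commutatorElement

variable {A G : Type*} [Group A] [Group G] [MulDistribMulAction A G]

/-- `L` is `A`-invariant. -/
def Inv (A : Type*) {G : Type*} [Group A] [Group G] [MulDistribMulAction A G]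
    (L : Subgroup G) : Prop := ∀ a : A, ∀ x ∈ L, a • x ∈ L

/-- `M` is a maximal `A`-invariant subgroup. -/
def MaxInv (A : Type*) {G : Type*} [Group A] [Group G] [MulDistribMulAction A G]
    (M : Subgroup G) : Prop :=
  M ≠ ⊤ ∧ (∀ a : A, ∀ x ∈ M, a • x ∈ M) ∧
    ∀ L : Subgroup G, M < L → (∀ a : A, ∀ x ∈ L, a • x ∈ L) → L = ⊤

theorem inv_iff_map_le (L : Subgroup G) :
    Inv A L ↔ ∀ a : A, L.map (MulDistribMulAction.toMonoidHom G a) ≤ L := by
  constructor
  · intro h a y hy
    obtain ⟨x, hx, rfl⟩ := Subgroup.mem_map.mp hy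
    exact h a x hx
  · intro h a x hx
    exact h a (Subgroup.mem_map_of_mem _ hx)

theorem inv_sup {L₁ L₂ : Subgroup G} (h₁ : Inv A L₁) (h₂ : Inv A L₂) : Inv A (L₁ ⊔ L₂) := by
  rw [inv_iff_map_le] at *
  intro a
  rw [Subgroup.map_sup]
  exact sup_le_sup (h₁ a) (h₂ a)

theorem inv_frattini : Inv A (frattini G) := by
  intro a x hx
  have hchar : (frattini G).Characteristic := frattini_characteristic
  have := Subgroup.characteristic_iff_map_eq.mp hchar (MulDistribMulAction.toMulEquiv G a)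
  rw [← this]
  exact Subgroup.mem_map_of_mem _ hx

theorem inv_bot : Inv A (⊥ : Subgroup G) := by
  intro a x hx
  rw [Subgroup.mem_bot] at hx ⊢
  rw [hx, smul_one]

theorem exists_maxInv_ge [Finite G] {L : Subgroup G} (hL : L ≠ ⊤) (hI : Inv A L) :
    ∃ M : Subgroup G, L ≤ M ∧ MaxInv A M := by
  let S : Set (Subgroup G) := {M | L ≤ M ∧ M ≠ ⊤ ∧ Inv A M}
  have hne : S.Nonempty := ⟨L, le_refl L, hL, hI⟩
  obtain ⟨M, ⟨hLM, hMt, hMI⟩, hmax⟩ := (wellFounded_gt (α := Subgroup G)).has_min S hne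
  refine ⟨M, hLM, hMt, hMI, ?_⟩
  intro L' hML' hL'I
  by_contra hL't
  exact hmax L' ⟨hLM.trans hML'.le, hL't, hL'I⟩ hML'

theorem card_conj_smul [Finite G] (c : G) (M : Subgroup G) :
    Nat.card (MulAut.conj c • M : Subgroup G) = Nat.card M :=
  (Nat.card_congr (Subgroup.equivSMul (MulAut.conj c) M).toEquiv).symm

/-- (B): conjugacy of all maximal invariant subgroups forces a `p`-group. -/
theorem isPGroup_of_conj [Finite A] [Finite G] (hcop : (Nat.card A).Coprime (Nat.card G))
    (hsol : Group.IsSolvable A ∨ Group.IsSolvable G)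
    (hconj : ∀ M N : Subgroup G, MaxInv A M → MaxInv A N →
      ∃ c : G, (∀ a : A, a • c = c) ∧ N = MulAut.conj c • M) :
    ∃ p : ℕ, p.Prime ∧ IsPGroup p G := by
  by_contra hnot
  push Not at hnot
  have hbt : (⊥ : Subgroup G) ≠ ⊤ := by
    intro h
    apply hnot 2 Nat.prime_two
    have : Nat.card G = 2 ^ 0 := by
      rw [pow_zero, ← Subgroup.card_top (G := G), ← h, Subgroup.card_bot]
    exact IsPGroup.of_card this
  obtain ⟨M₀, -, hM₀⟩ := exists_maxInv_ge (A := A) hbt inv_bot
  have hdvd : Nat.card G ∣ Nat.card M₀ := by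
    rw [Nat.dvd_iff_prime_pow_dvd_dvd]
    intro r k hr hrk
    haveI : Fact r.Prime := ⟨hr⟩
    obtain ⟨R, hR⟩ := exists_invariant_sylow_of_coprime hcop hsol r
    have hRt : (R : Subgroup G) ≠ ⊤ := by
      intro h
      apply hnot r hr
      intro g
      have hg : g ∈ (R : Subgroup G) := by rw [h]; exact Subgroup.mem_top g
      obtain ⟨k, hk⟩ := R.isPGroup' ⟨g, hg⟩
      exact ⟨k, congrArg Subtype.val hk⟩
    obtain ⟨M, hRM, hM⟩ := exists_maxInv_ge (A := A) hRt hR
    obtain ⟨c, -, hc⟩ := hconj M₀ M hM₀ hM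
    have h1 : r ^ k ∣ Nat.card (R : Subgroup G) := R.pow_dvd_card_of_pow_dvd_card hrk
    have h2 : Nat.card (R : Subgroup G) ∣ Nat.card M := Subgroup.card_dvd_of_le hRM
    have h3 : Nat.card M = Nat.card M₀ := by rw [hc, card_conj_smul]
    rw [← h3]
    exact h1.trans h2
  have hle : Nat.card M₀ ≤ Nat.card G := Subgroup.card_le_card_group M₀
  have heq : Nat.card M₀ = Nat.card G := le_antisymm hle (Nat.le_of_dvd Nat.card_pos hdvd)
  exact hM₀.1 (M₀.eq_top_of_card_eq heq)

/-- the action of automorphisms on the Frattini quotient -/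
noncomputable def rho (P : Type*) [Group P] : MulAut P →* MulAut (P ⧸ frattini P) where
  toFun α := QuotientGroup.congr (frattini P) (frattini P) α
    (Subgroup.characteristic_iff_map_eq.1 inferInstance α)
  map_one' := by
    ext x
    obtain ⟨y, rfl⟩ := QuotientGroup.mk_surjective x
    rfl
  map_mul' α β := by
    ext x
    obtain ⟨y, rfl⟩ := QuotientGroup.mk_surjective x
    rfl

theorem normal_of_frattini_le [Finite G] {p : ℕ} [Fact p.Prime] (hPG : IsPGroup p G)
    {M : Subgroup G} (hM : frattini G ≤ M) : M.Normal := by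
  constructor
  intro x hx g
  have h1 : g * x * g⁻¹ = ⁅g, x⁆ * x := by rw [commutatorElement_def]; group
  rw [h1]
  refine M.mul_mem (hM (commutator_le_frattini_of_isPGroup' hPG ?_)) hx
  rw [commutator_def]
  exact Subgroup.commutator_mem_commutator (Subgroup.mem_top _) (Subgroup.mem_top _)

/-- (C): conjugacy of all maximal invariant subgroups forces irreducibility on the
Frattini quotient. -/
theorem eq_top_of_conj [Finite A] [Finite G] (hcop : (Nat.card A).Coprime (Nat.card G))
    {p : ℕ} [Fact p.Prime] (hPG : IsPGroup p G)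
    (hconj : ∀ M N : Subgroup G, MaxInv A M → MaxInv A N →
      ∃ c : G, (∀ a : A, a • c = c) ∧ N = MulAut.conj c • M)
    (L : Subgroup G) (hL : frattini G < L) (hLI : Inv A L) : L = ⊤ := by
  by_contra hLt
  letI : CommGroup (G ⧸ frattini G) :=
    { (inferInstance : Group (G ⧸ frattini G)) with mul_comm := frattini_quotient_comm hPG }
  letI : MulDistribMulAction A (G ⧸ frattini G) :=
    MulDistribMulAction.compHom _ ((rho G).comp (MulDistribMulAction.toMulAut A G))
  have hmk : ∀ (a : A) (x : G),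
      a • (QuotientGroup.mk x : G ⧸ frattini G) = QuotientGroup.mk (a • x) := fun a x => rfl
  have hcopV : (Nat.card A).Coprime (Nat.card (G ⧸ frattini G)) :=
    Nat.Coprime.coprime_dvd_right (Subgroup.card_quotient_dvd_card _) hcop
  let U : Subgroup (G ⧸ frattini G) := L.map (QuotientGroup.mk' (frattini G))
  have hU : ∀ a : A, ∀ u ∈ U, a • u ∈ U := by
    intro a u hu
    obtain ⟨x, hx, rfl⟩ := Subgroup.mem_map.mp hu
    exact Subgroup.mem_map.mpr ⟨a • x, hLI a x hx, (hmk a x).symm⟩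
  obtain ⟨W', hW'I, hUW', hUW't⟩ :=
    exists_invariant_compl (frattini_quotient_pow hPG) hcopV U hU
  let W : Subgroup G := W'.comap (QuotientGroup.mk' (frattini G))
  have hWI : Inv A W := by
    intro a x hx
    have hx' : (QuotientGroup.mk x : G ⧸ frattini G) ∈ W' := hx
    show (QuotientGroup.mk (a • x) : G ⧸ frattini G) ∈ W'
    rw [← hmk]
    exact hW'I a _ hx'
  have hWt : W ≠ ⊤ := by
    intro h
    apply lt_irrefl (frattini G)
    refine lt_of_lt_of_le hL ?_
    intro x hx
    have h1 : (QuotientGroup.mk x : G ⧸ frattini G) ∈ U := Subgroup.mem_map_of_mem _ hx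
    have h2 : (QuotientGroup.mk x : G ⧸ frattini G) ∈ W' := by
      have : x ∈ W := by rw [h]; exact Subgroup.mem_top x
      exact this
    have h3 : (QuotientGroup.mk x : G ⧸ frattini G) ∈ U ⊓ W' := Subgroup.mem_inf.mpr ⟨h1, h2⟩
    rw [hUW', Subgroup.mem_bot] at h3
    exact (QuotientGroup.eq_one_iff x).mp h3
  have hLW : L ⊔ W = ⊤ := by
    rw [eq_top_iff]
    intro g _
    have hg : (QuotientGroup.mk g : G ⧸ frattini G) ∈ U ⊔ W' := by
      rw [hUW't]; exact Subgroup.mem_top _
    obtain ⟨u, hu, w, hw, huw⟩ := Subgroup.mem_sup.mp hg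
    obtain ⟨l, hl, rfl⟩ := Subgroup.mem_map.mp hu
    have h1 : g = l * (l⁻¹ * g) := by group
    rw [h1]
    refine Subgroup.mul_mem_sup hl ?_
    show (QuotientGroup.mk (l⁻¹ * g) : G ⧸ frattini G) ∈ W'
    have h2 : (QuotientGroup.mk (l⁻¹ * g) : G ⧸ frattini G) = w := by
      rw [QuotientGroup.mk_mul, QuotientGroup.mk_inv, ← huw]
      show (QuotientGroup.mk l : G ⧸ frattini G)⁻¹ * (QuotientGroup.mk l * w) = w
      group
    rw [h2]; exact hw
  obtain ⟨M₁, hLM₁, hM₁⟩ := exists_maxInv_ge (A := A) hLt hLI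
  obtain ⟨M₂, hWM₂, hM₂⟩ := exists_maxInv_ge (A := A) hWt hWI
  obtain ⟨c, -, hc⟩ := hconj M₁ M₂ hM₁ hM₂
  haveI : M₁.Normal := normal_of_frattini_le hPG (hL.le.trans hLM₁)
  have h12 : M₂ = M₁ := by
    rw [hc]
    ext x
    rw [mem_conj_smul_iff]
    constructor
    · intro h
      have := ‹M₁.Normal›.conj_mem _ h c
      simpa [mul_assoc] using this
    · intro h
      have := ‹M₁.Normal›.conj_mem _ h c⁻¹
      simpa [mul_assoc] using this
  apply hM₁.1
  rw [eq_top_iff, ← hLW]
  exact sup_le hLM₁ (h12 ▸ hWM₂)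

/-- Let the finite group A act by automorphisms on the finite group G with the orders of A and G coprime, and assume that A or G is solvable. Call a proper A-invariant subgroup of G maximal A-invariant when no A-invariant subgroup lies strictly between it and G. Then all maximal A-invariant subgroups of G are conjugate under elements of the fixed-point subgroup C_G(A) if and only if G is a p-group for some prime p and A leaves invariant no subgroup strictly between the Frattini subgroup of G and G. In that case, if G is nontrivial, the Frattini subgroup is the only maximal A-invariant subgroup (a trivial G has none). -/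
theorem result {A G : Type*} [Group A] [Finite A]
    [Group G] [Finite G] [MulDistribMulAction A G] (hcop : (Nat.card A).Coprime (Nat.card G)) (hsol : Group.IsSolvable A ∨ Group.IsSolvable G) :
    ((∀ M N : Subgroup G, (M ≠ ⊤ ∧ (∀ a : A, ∀ x ∈ M, a • x ∈ M) ∧ ∀ L : Subgroup G, M < L → (∀ a : A, ∀ x ∈ L, a • x ∈ L) → L = ⊤) → (N ≠ ⊤ ∧ (∀ a : A, ∀ x ∈ N, a • x ∈ N) ∧ ∀ L : Subgroup G, N < L → (∀ a : A, ∀ x ∈ L, a • x ∈ L) → L = ⊤) →
        ∃ c : G, (∀ a : A, a • c = c) ∧ N = MulAut.conj c • M) ↔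
      ((∃ p : ℕ, p.Prime ∧ IsPGroup p G) ∧ ∀ L : Subgroup G, frattini G < L → (∀ a : A, ∀ x ∈ L, a • x ∈ L) → L = ⊤)) ∧
    (((∃ p : ℕ, p.Prime ∧ IsPGroup p G) ∧ ∀ L : Subgroup G, frattini G < L → (∀ a : A, ∀ x ∈ L, a • x ∈ L) → L = ⊤) →
      ∀ M : Subgroup G, (M ≠ ⊤ ∧ (∀ a : A, ∀ x ∈ M, a • x ∈ M) ∧ ∀ L : Subgroup G, M < L → (∀ a : A, ∀ x ∈ L, a • x ∈ L) → L = ⊤) ↔ (M = frattini G ∧ M ≠ ⊤)) := by
  have part2 : ((∃ p : ℕ, p.Prime ∧ IsPGroup p G) ∧ ∀ L : Subgroup G, frattini G < L → (∀ a : A, ∀ x ∈ L, a • x ∈ L) → L = ⊤) →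
      ∀ M : Subgroup G, MaxInv A M ↔ (M = frattini G ∧ M ≠ ⊤) := by
    rintro ⟨-, hirr⟩ M
    constructor
    · intro hM
      refine ⟨?_, hM.1⟩
      have hsupI : Inv A (M ⊔ frattini G) := inv_sup hM.2.1 inv_frattini
      have hsupt : M ⊔ frattini G ≠ ⊤ := by
        intro h
        apply hM.1
        exact frattini_nongenerating (G := G) (K := M) h
      have hle : frattini G ≤ M := by
        by_contra hnle
        have hlt : M < M ⊔ frattini G := by
          refine lt_of_le_of_ne le_sup_left ?_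
          intro h
          apply hnle
          rw [h]; exact le_sup_right
        exact hsupt (hM.2.2 _ hlt hsupI)
      by_contra hne
      have hlt : frattini G < M := lt_of_le_of_ne hle (fun h => hne h.symm)
      exact hM.1 (hirr M hlt hM.2.1)
    · rintro ⟨rfl, hne⟩
      exact ⟨hne, inv_frattini, fun L hL hLI => hirr L hL hLI⟩
  refine ⟨⟨?_, ?_⟩, part2⟩
  · intro hconj
    obtain ⟨p, hp, hPG⟩ := isPGroup_of_conj hcop hsol hconj
    haveI : Fact p.Prime := ⟨hp⟩
    exact ⟨⟨p, hp, hPG⟩, fun L hL hLI => eq_top_of_conj hcop hPG hconj L hL hLI⟩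
  · intro hR M N hM hN
    have h1 := ((part2 hR) M).mp hM
    have h2 := ((part2 hR) N).mp hN
    refine ⟨1, fun a => smul_one a, ?_⟩
    rw [h2.1, h1.1, map_one, one_smul]

end Cfsg.Agent.S4381
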