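import Cfsg.Statements.S4387
import Cfsg.Agent.Lib.Helper77.ConjUnion

set_option autoImplicit false
open Pointwise
open Cfsg

namespace Cfsg.Agent.S4387

open Cfsg.Agent.Lib.Helper77

/-- Let G be a non-trivial finite group in which any two maximal subgroups are conjugate. Then G is cyclic of prime-power order. -/
theorem result {G : Type*} [Group G] [Finite G] [Nontrivial G]
    (h : ∀ M N : Subgroup G, IsCoatom M → IsCoatom N → ∃ g : G, N = MulAut.conj g • M) :
    IsCyclic G ∧ IsPrimePow (Nat.card G) := by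
  -- a maximal subgroup exists
  have hbt : (⊥ : Subgroup G) ≠ ⊤ := bot_ne_top
  obtain ⟨M, hM, -⟩ := (IsCoatomic.eq_top_or_exists_le_coatom (⊥ : Subgroup G)).resolve_left hbt
  -- an element outside all conjugates of M
  obtain ⟨x, hx⟩ := exists_not_mem_conj M hM.1
  have hxtop : Subgroup.zpowers x = ⊤ := by
    rcases IsCoatomic.eq_top_or_exists_le_coatom (Subgroup.zpowers x) with h1 | ⟨N, hN, hxN⟩
    · exact h1
    · obtain ⟨g, hg⟩ := h M N hM hN
      exact absurd (hg ▸ hxN (Subgroup.mem_zpowers x)) (hx g)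
  have hgen : ∀ y : G, y ∈ Subgroup.zpowers x := fun y => hxtop ▸ Subgroup.mem_top y
  have hcyc : IsCyclic G := ⟨⟨x, hgen⟩⟩
  refine ⟨hcyc, ?_⟩
  -- commutativity
  have hcomm : ∀ a b : G, a * b = b * a := fun a b =>
    (IsCyclic.isMulCommutative (α := G)).is_comm.comm a b
  -- M is the unique maximal subgroup
  have huniq : ∀ N : Subgroup G, IsCoatom N → N = M := by
    intro N hN
    obtain ⟨g, hg⟩ := h M N hM hN
    rw [hg]
    ext z
    rw [mem_conj_smul_iff, hcomm g⁻¹ z, mul_assoc, inv_mul_cancel, mul_one]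
  have hle : ∀ K : Subgroup G, K ≠ ⊤ → K ≤ M := by
    intro K hK
    obtain ⟨N, hN, hKN⟩ := (IsCoatomic.eq_top_or_exists_le_coatom K).resolve_left hK
    rw [← huniq N hN]; exact hKN
  have hord : orderOf x = Nat.card G := by
    rw [← Nat.card_zpowers, hxtop, Subgroup.card_top]
  have hproper : ∀ p : ℕ, p.Prime → p ∣ Nat.card G → Subgroup.zpowers (x ^ p) ≤ M := by
    intro p hp hpd
    apply hle
    intro htop
    have h1 : Nat.card (Subgroup.zpowers (x ^ p)) = Nat.card G := by
      rw [htop, Subgroup.card_top]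
    rw [Nat.card_zpowers, orderOf_pow_of_dvd hp.ne_zero (hord ▸ hpd), hord] at h1
    have hpos : 0 < Nat.card G := Nat.card_pos
    have := Nat.div_lt_self hpos hp.one_lt
    omega
  rw [isPrimePow_iff_unique_prime_dvd]
  have hcard : Nat.card G ≠ 1 := by
    have := Finite.one_lt_card (α := G)
    omega
  obtain ⟨p, hp, hpd⟩ := Nat.exists_prime_and_dvd hcard
  refine ⟨p, ⟨hp, hpd⟩, ?_⟩
  rintro q ⟨hq, hqd⟩
  by_contra hne
  have hcop : Nat.Coprime p q := (Nat.coprime_primes hp hq).mpr (fun h => hne h.symm)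
  have hxM : x ∈ M := by
    have hb := Nat.gcd_eq_gcd_ab p q
    rw [hcop.gcd_eq_one] at hb
    have hx1 : x = (x ^ p) ^ (Nat.gcdA p q) * (x ^ q) ^ (Nat.gcdB p q) := by
      rw [← zpow_natCast x p, ← zpow_natCast x q, ← zpow_mul, ← zpow_mul, ← zpow_add, ← hb]
      simp
    rw [hx1]
    exact M.mul_mem (hproper p hp hpd (Subgroup.zpow_mem_zpowers _ _))
      (hproper q hq hqd (Subgroup.zpow_mem_zpowers _ _))
  apply hM.1
  rw [eq_top_iff, ← hxtop]
  exact (Subgroup.zpowers_le).mpr hxM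

end Cfsg.Agent.S4387
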