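import Cfsg.Statements.S4396
import Cfsg.Agent.Lib.Helper83.FrobF

set_option autoImplicit false
open Cfsg

namespace Cfsg.Agent.S4396

open scoped Pointwise in
/-- Fixed-point-freeness of the complement on the kernel. -/
theorem fpf_of_frobenius {A : Type*} [Group A] (Fk Hc : Subgroup A)
    (hHc : Cfsg.IsFrobeniusComplement Hc) (hker : Cfsg.frobeniusKernel Hc = (Fk : Set A)) :
    ∀ h ∈ Hc, h ≠ 1 → ∀ f ∈ Fk, h * f * h⁻¹ = f → f = 1 := by
  intro h hh hne f hf hcomm
  by_contra hf1
  have hfK : f ∈ Cfsg.frobeniusKernel Hc := by
    rw [hker]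
    exact hf
  rcases hfK with h1 | h1
  · exact hf1 h1
  · have hfH : f ∉ Hc := by
      have := h1 1
      rwa [map_one, one_smul] at this
    have hbot := hHc.2.2 f hfH
    have hmem : h ∈ Hc ⊓ (MulAut.conj f • Hc) := by
      refine ⟨hh, ?_⟩
      have h2 : h = MulAut.conj f • h := by
        rw [MulAut.smul_def, MulAut.conj_apply]
        calc h = h * f * h⁻¹ * h * f⁻¹ := by group
          _ = f * h * f⁻¹ := by rw [hcomm]
      rw [h2]
      exact Subgroup.smul_mem_pointwise_smul h (MulAut.conj f) Hc hh
    rw [hbot] at hmem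
    exact hne (Subgroup.mem_bot.1 hmem)

/-- Let the finite group A act faithfully and linearly on a finite-dimensional vector space V over a field k, and suppose A is a Frobenius group with nilpotent kernel F (every Frobenius kernel is nilpotent) and complement H such that F fixes no nonzero vector. Then V is free as a module for H: there is a subspace W with V the direct sum of the translates hW, h ∈ H. (No assumption on the characteristic of k.) -/
theorem result {k V A : Type*} [Field k] [AddCommGroup V] [Module k V] [FiniteDimensional k V] [Group A] [Finite A] [DecidableEq A]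
    (ρ : Representation k A V) (hρ : Function.Injective ρ)
    (Fk Hc : Subgroup A) [Fk.Normal] (hHc : Cfsg.IsFrobeniusComplement Hc) (hker : Cfsg.frobeniusKernel Hc = (Fk : Set A)) (hnil : Group.IsNilpotent ↥Fk)
    (hCF : ∀ v : V, (∀ f ∈ Fk, ρ f v = v) → v = 0) :
    ∃ W : Submodule k V, DirectSum.IsInternal (fun h : ↥Hc => W.map (ρ (h : A))) := by
  have hfpf := fpf_of_frobenius Fk Hc hHc hker
  exact (Cfsg.Agent.Lib.Helper83.Frob.frobenius_free ρ Fk Hc hnil hfpf hCF).isInternal

end Cfsg.Agent.S4396
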