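import Cfsg.Statements.S4397
import Cfsg.Agent.Lib.Helper68.BlackburnB
import Cfsg.Agent.Lib.Helper75.Generators
import Cfsg.Agent.Lib.Helper75.PGroupFrattini

set_option autoImplicit false
open Cfsg

namespace Cfsg.Agent.S4397


open Subgroup
open Cfsg.Agent.Lib.Helper68

/-- sectional `2`-rank at most two forces every subgroup to be generated by two elements -/
theorem twoGen_of_sectional {S : Type*} [Group S] [Finite S] (h2 : IsPGroup 2 S)
    (hr : Cfsg.SectionalPRankLE 2 2 S) : BB.TwoGen S := by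
  have : Fact (Nat.Prime 2) := ⟨Nat.prime_two⟩
  intro H
  have hH2 : IsPGroup 2 ↥H := h2.to_subgroup H
  have hrank := hr H (frattini ↥H)
  have hcomm : IsMulCommutative ↥(⊤ : Subgroup (↥H ⧸ frattini ↥H)) :=
    ⟨⟨fun a b => Subtype.ext (Cfsg.Agent.Lib.Helper75.frattini_quotient_comm hH2 a.1 b.1)⟩⟩
  have hcard := hrank ⊤ hcomm
    (fun a _ => Cfsg.Agent.Lib.Helper75.frattini_quotient_pow hH2 a)
  rw [Subgroup.card_top] at hcard
  have hidx : (frattini ↥H).index ≤ 4 := by
    rw [Subgroup.index_eq_card]; exact hcard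
  obtain ⟨r, hr'⟩ := hH2.index (frattini ↥H)
  have hr2 : r ≤ 2 := by
    by_contra hlt
    have h3 : 3 ≤ r := by omega
    have : 2 ^ 3 ≤ 2 ^ r := Nat.pow_le_pow_right (by norm_num) h3
    rw [hr'] at hidx
    omega
  obtain ⟨x, hx⟩ := Cfsg.Agent.Lib.Helper75.exists_generators_of_frattini_index Nat.prime_two hr'
  obtain ⟨y0, hy0⟩ : ∃ y0 : ↥H, y0 = if h : 0 < r then x ⟨0, h⟩ else 1 := ⟨_, rfl⟩
  obtain ⟨y1, hy1⟩ : ∃ y1 : ↥H, y1 = if h : 1 < r then x ⟨1, h⟩ else 1 := ⟨_, rfl⟩
  have hrange : Set.range x ⊆ ({y0, y1} : Set ↥H) := by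
    rintro _ ⟨i, rfl⟩
    have hi := i.2
    have hcases : i.1 = 0 ∨ i.1 = 1 := by omega
    rcases hcases with h | h
    · left
      have h0 : 0 < r := by omega
      rw [hy0, dif_pos h0]
      congr 1
      exact Fin.ext h
    · right
      have h1 : 1 < r := by omega
      rw [Set.mem_singleton_iff, hy1, dif_pos h1]
      congr 1
      exact Fin.ext h
  have htop : closure ({y0, y1} : Set ↥H) = ⊤ := by
    rw [eq_top_iff, ← hx]
    exact closure_mono hrange
  refine ⟨(y0 : S), (y1 : S), ?_⟩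
  have h1 : (⊤ : Subgroup ↥H).map H.subtype = H := by
    rw [← MonoidHom.range_eq_map, Subgroup.range_subtype]
  have h3 : (closure ({y0, y1} : Set ↥H)).map H.subtype = closure {(y0 : S), (y1 : S)} := by
    rw [MonoidHom.map_closure, Set.image_pair]
    rfl
  rw [← h3, htop, h1]

/-- A finite 2-group of sectional 2-rank at most 2 (every section has no elementary abelian subgroup of order 8) is metacyclic: it has a cyclic normal subgroup with cyclic quotient. -/
theorem result {S : Type*} [Group S] [Finite S] (h2 : IsPGroup 2 S) (hr : Cfsg.SectionalPRankLE 2 2 S) : Cfsg.IsMetacyclic S := by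
  exact BB.isMetacyclic_of_twoGen h2 (twoGen_of_sectional h2 hr)

end Cfsg.Agent.S4397
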