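import Mathlib
import Cfsg.Statements.S4398
import Cfsg.Agent.S3224
import Cfsg.Agent.Lib.Helper78.MaxClass2Recognition
import Cfsg.Agent.Lib.Helper78.AbelianIndexTwo

set_option autoImplicit false

namespace Cfsg.Agent.S4398

open Cfsg.Agent.Lib.Helper78
open scoped commutatorElement

universe u

/-- every elementary abelian section `K / N` has order at most 4 -/
def R2 (S : Type*) [Group S] : Prop :=
  ∀ K N : Subgroup S, N ≤ K → (∀ x ∈ K, ∀ n ∈ N, x * n * x⁻¹ ∈ N) → (∀ x ∈ K, x * x ∈ N) →
    N.relIndex K ≤ 4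

lemma r2_of_sectional {S : Type*} [Group S] (hr : Cfsg.SectionalPRankLE 2 2 S) : R2 S := by
  intro K N _ hnorm hsq
  have hN : (N.subgroupOf K).Normal := by
    constructor
    intro n hn g
    rw [Subgroup.mem_subgroupOf] at hn ⊢
    simpa using hnorm g.1 g.2 n.1 hn
  have hsq' : ∀ q : K ⧸ N.subgroupOf K, q * q = 1 := by
    intro q
    induction q using QuotientGroup.induction_on with
    | H x =>
      rw [← QuotientGroup.mk_mul, QuotientGroup.eq_one_iff, Subgroup.mem_subgroupOf]
      simpa using hsq x.1 x.2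
  have hcomm : ∀ p q : K ⧸ N.subgroupOf K, p * q = q * p := by
    intro p q
    have hinv : ∀ y : K ⧸ N.subgroupOf K, y⁻¹ = y := fun y => inv_eq_of_mul_eq_one_left (hsq' y)
    calc p * q = (p * q)⁻¹ := (hinv _).symm
      _ = q⁻¹ * p⁻¹ := mul_inv_rev _ _
      _ = q * p := by rw [hinv, hinv]
  have h := hr K (N.subgroupOf K) (⊤ : Subgroup (K ⧸ N.subgroupOf K))
    ⟨⟨fun a b => Subtype.ext (hcomm a.1 b.1)⟩⟩ (fun a _ => by rw [pow_two]; exact hsq' a)
  rw [Subgroup.card_top] at h
  have : N.relIndex K = Nat.card (K ⧸ N.subgroupOf K) := rfl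
  rw [this]
  norm_num at h
  exact h

lemma r2_subgroup {S : Type*} [Group S] (hR : R2 S) (M : Subgroup S) : R2 M := by
  intro K N hNK hnorm hsq
  have := hR (K.map M.subtype) (N.map M.subtype) (Subgroup.map_mono hNK) ?_ ?_
  · rwa [Subgroup.relIndex_map_map_of_injective _ _ M.subtype_injective] at this
  · rintro _ ⟨x, hx, rfl⟩ _ ⟨n, hn, rfl⟩
    exact ⟨x * n * x⁻¹, hnorm x hx n hn, by simp⟩
  · rintro _ ⟨x, hx, rfl⟩
    exact ⟨x * x, hsq x hx, by simp⟩

/-- a nonabelian group of order 8 has `|S : S'| = 4`. -/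
lemma index_commutator_of_card_eight {S : Type*} [Group S] [Finite S] (h8 : Nat.card S = 8)
    (hna : ∃ x y : S, x * y ≠ y * x) : (commutator S).index = 4 := by
  have : Fact (Nat.Prime 2) := ⟨Nat.prime_two⟩
  have hS : IsPGroup 2 S := IsPGroup.of_card (n := 3) (by rw [h8]; norm_num)
  have hnt : Nontrivial S := by
    rw [← Finite.one_lt_card_iff_nontrivial, h8]; norm_num
  obtain ⟨x, y, hxy⟩ := hna
  -- the centre has order 2
  have hZdvd : Nat.card (Subgroup.center S) ∣ 8 := h8 ▸ Subgroup.card_subgroup_dvd_card _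
  have hZnt : Nontrivial (Subgroup.center S) := hS.center_nontrivial
  have hZ1 : 1 < Nat.card (Subgroup.center S) := Finite.one_lt_card_iff_nontrivial.mpr hZnt
  have hZmul : Nat.card (Subgroup.center S) * (Subgroup.center S).index = 8 := by
    rw [← h8]; exact Subgroup.card_mul_index _
  have hcomm_of_cyc : IsCyclic (S ⧸ Subgroup.center S) → False := by
    intro hc
    have := MonoidHom.isMulCommutative_of_isCyclic_of_ker_le_center
      (QuotientGroup.mk' (Subgroup.center S)) (by rw [QuotientGroup.ker_mk'])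
    exact hxy (this.is_comm.comm x y)
  have hidx : (Subgroup.center S).index = 4 := by
    have hdiv : (Subgroup.center S).index ∣ 8 := ⟨_, by rw [mul_comm]; exact hZmul.symm⟩
    have hle : (Subgroup.center S).index ≤ 8 := Nat.le_of_dvd (by norm_num) hdiv
    have hne8 : (Subgroup.center S).index ≠ 8 := by
      intro h; rw [h] at hZmul; omega
    have hcardq : Nat.card (S ⧸ Subgroup.center S) = (Subgroup.center S).index := rfl
    have hne1 : (Subgroup.center S).index ≠ 1 := by
      intro h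
      apply hcomm_of_cyc
      have : Subsingleton (S ⧸ Subgroup.center S) := by
        rw [← Finite.card_le_one_iff_subsingleton, hcardq, h]
      exact isCyclic_of_subsingleton
    have hne2 : (Subgroup.center S).index ≠ 2 := by
      intro h
      apply hcomm_of_cyc
      exact isCyclic_of_prime_card (p := 2) (by rw [hcardq, h])
    interval_cases hi : (Subgroup.center S).index <;> simp_all
  have hZ2 : Nat.card (Subgroup.center S) = 2 := by rw [hidx] at hZmul; omega
  -- S / Z(S) is abelian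
  have hq4 : Nat.card (S ⧸ Subgroup.center S) = 2 ^ 2 := by
    have : Nat.card (S ⧸ Subgroup.center S) = (Subgroup.center S).index := rfl
    rw [this, hidx]; norm_num
  have hqc : IsMulCommutative (S ⧸ Subgroup.center S) :=
    IsPGroup.isMulCommutative_of_card_eq_prime_sq hq4
  have hle : commutator S ≤ Subgroup.center S := by
    rw [commutator_def, Subgroup.commutator_le]
    intro g _ h _
    rw [← QuotientGroup.eq_one_iff, commutatorElement_def]
    simp only [QuotientGroup.mk_mul, QuotientGroup.mk_inv]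
    have := hqc.is_comm.comm (g : S ⧸ Subgroup.center S) (h : S ⧸ Subgroup.center S)
    rw [this]; group
  have hne : commutator S ≠ ⊥ := by
    intro h
    have : IsMulCommutative S := (commutator_eq_bot_iff S).mp h
    exact hxy (this.is_comm.comm x y)
  have hcc : Nat.card (commutator S) = 2 := by
    have hd : Nat.card (commutator S) ∣ 2 := hZ2 ▸ Subgroup.card_dvd_of_le hle
    have h1 : Nat.card (commutator S) ≠ 1 := by
      intro h; exact hne (Subgroup.card_eq_one.mp h)
    rcases (Nat.dvd_prime Nat.prime_two).mp hd with h | h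
    · exact absurd h h1
    · exact h
  have := Subgroup.card_mul_index (commutator S)
  rw [hcc, h8] at this
  omega

lemma step {S : Type u} [Group S] [Finite S] (m : ℕ) (hm : 1 ≤ m)
    (hcard : Nat.card S = 2 ^ (m + 3))
    (hR : ∀ N : Subgroup S, N.Normal → (∀ x, x * x ∈ N) → N.index ≤ 4)
    (M : Subgroup S) (hM : M.index = 2) (a b z : S)
    (hMmem : ∀ x ∈ M, x ∈ Subgroup.zpowers a ∨ b⁻¹ * x ∈ Subgroup.zpowers a)
    (ha : orderOf a = 2 ^ (m + 1)) (hz : z = a ^ (2 ^ m))
    (hconj : b * a * b⁻¹ = a⁻¹ ∨ (2 ≤ m ∧ b * a * b⁻¹ = a⁻¹ * z))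
    (hbb : b * b = 1 ∨ b * b = z) : (commutator S).index = 4 := by
  have : Fact (Nat.Prime 2) := ⟨Nat.prime_two⟩
  have hS : IsPGroup 2 S := IsPGroup.of_card hcard
  obtain ⟨m', rfl⟩ : ∃ m', m = m' + 1 := ⟨m - 1, by omega⟩
  have hordZ : (orderOf a : ℤ) = 2 ^ (m' + 2) := by rw [ha]; push_cast; ring
  have h4dvd : (4 : ℤ) ∣ 2 ^ (m' + 2) := ⟨2 ^ m', by ring⟩
  have hbacomm : ⁅b, a⁆ ∈ commutator S :=
    Subgroup.commutator_mem_commutator (Subgroup.mem_top b) (Subgroup.mem_top a)
  obtain ⟨e, he, he4, ha2⟩ : ∃ e : ℤ, b * a * b⁻¹ = a ^ e ∧ (4 : ℤ) ∣ e + 1 ∧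
      a ^ (2 : ℤ) ∈ commutator S := by
    rcases hconj with h | ⟨hm2, h⟩
    · refine ⟨-1, by rw [h, zpow_neg_one], by norm_num, ?_⟩
      have : ⁅b, a⁆ = (a ^ (2 : ℤ))⁻¹ := by
        rw [commutatorElement_def, h]; group
      rw [this] at hbacomm
      exact (Subgroup.inv_mem_iff _).mp hbacomm
    · obtain ⟨m'', rfl⟩ : ∃ m'', m' = m'' + 1 := ⟨m' - 1, by omega⟩
      have hzZ : z = a ^ ((2 : ℤ) ^ (m'' + 1 + 1)) := by rw [hz]; norm_cast
      refine ⟨-1 + 2 ^ (m'' + 1 + 1), ?_, ?_, ?_⟩
      · rw [h, hzZ, zpow_add, zpow_neg_one]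
      · exact ⟨2 ^ m'', by ring⟩
      · have hw : ⁅b, a⁆ = a ^ ((-2 : ℤ) + 2 ^ (m'' + 1 + 1)) := by
          rw [commutatorElement_def, h, hzZ, zpow_add]
          have : a ^ (-2 : ℤ) = a⁻¹ * a⁻¹ := by group
          rw [this]
          have hc : a ^ ((2 : ℤ) ^ (m'' + 1 + 1)) * a⁻¹ = a⁻¹ * a ^ ((2 : ℤ) ^ (m'' + 1 + 1)) := by
            rw [← zpow_neg_one, ← zpow_add, ← zpow_add, add_comm]
          rw [mul_assoc, hc, mul_assoc]
        have h2 : a ^ (2 : ℤ) = (a ^ ((-2 : ℤ) + 2 ^ (m'' + 1 + 1))) ^ ((-1 : ℤ) - 2 ^ (m'' + 1)) := by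
          rw [← zpow_mul, zpow_eq_zpow_iff_modEq, hordZ, Int.modEq_iff_dvd]
          exact ⟨-2 ^ m'', by ring⟩
        rw [h2, ← hw]
        exact Subgroup.zpow_mem _ hbacomm _
  have hconjk : ∀ k : ℤ, b * a ^ k * b⁻¹ = a ^ (e * k) := fun k => by
    rw [← conj_zpow, he, ← zpow_mul]
  obtain ⟨D, hDdef⟩ : ∃ D : Subgroup S, D = Subgroup.zpowers (a ^ (2 : ℤ)) := ⟨_, rfl⟩
  have hDmem : ∀ x, x ∈ D ↔ ∃ k : ℤ, x = a ^ (2 * k) := by
    intro x
    rw [hDdef, Subgroup.mem_zpowers_iff]
    constructor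
    · rintro ⟨k, rfl⟩; exact ⟨k, by rw [← zpow_mul]⟩
    · rintro ⟨k, rfl⟩; exact ⟨k, by rw [← zpow_mul]⟩
  have hDle : D ≤ commutator S := by
    rw [hDdef, Subgroup.zpowers_le]; exact ha2
  have hDA : D ≤ Subgroup.zpowers a := by
    rw [hDdef, Subgroup.zpowers_le]; exact Subgroup.zpow_mem_zpowers a 2
  have hDcard : Nat.card D = 2 ^ (m' + 1) := by
    rw [hDdef, Nat.card_zpowers]
    have h1 : a ^ (2 : ℤ) = a ^ (2 : ℕ) := by norm_cast
    rw [h1, orderOf_pow_of_dvd (by norm_num) (by rw [ha]; exact ⟨2 ^ (m' + 1), by ring⟩), ha]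
    rw [pow_succ]; simp
  have hDidx : D.index = 8 := by
    have h1 := Subgroup.card_mul_index D
    rw [hDcard, hcard] at h1
    have h2 : 2 ^ (m' + 1 + 3) = 2 ^ (m' + 1) * 8 := by ring
    rw [h2] at h1
    exact Nat.eq_of_mul_eq_mul_left (by positivity) h1
  by_cases hSD : commutator S = D
  swap
  · have hdvd : (commutator S).index ∣ 2 ^ 3 := by
      have := Subgroup.index_dvd_of_le hDle
      rw [hDidx] at this; exact this
    obtain ⟨k, hk3, hk⟩ := (Nat.dvd_prime_pow Nat.prime_two).mp hdvd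
    have hne8 : (commutator S).index ≠ 8 := by
      intro h
      apply hSD
      symm
      apply Subgroup.eq_of_le_of_card_ge hDle
      have h1 := Subgroup.card_mul_index (commutator S)
      have h2 := Subgroup.card_mul_index D
      rw [h] at h1; rw [hDidx] at h2
      omega
    have hgt2 : ¬ (commutator S).index ≤ 2 := by
      intro hle
      have hab := Cfsg.Agent.S3224.comm_of_index_commutator_le_two hS hle
      have h1 : b * a * b⁻¹ = a := by rw [hab b a]; group
      rw [he] at h1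
      have h2 : a ^ e = a ^ (1 : ℤ) := by rw [h1, zpow_one]
      rw [zpow_eq_zpow_iff_modEq, hordZ, Int.modEq_iff_dvd] at h2
      have h3 := dvd_trans h4dvd h2
      omega
    interval_cases k
    · rw [hk] at hgt2; omega
    · rw [hk] at hgt2; omega
    · rw [hk]; norm_num
    · rw [hk] at hne8; omega
  exfalso
  have hDn : D.Normal := hSD ▸ (inferInstance : (commutator S).Normal)
  have hcommD : ∀ x y : S, x * y * x⁻¹ * y⁻¹ ∈ D := by
    intro x y
    rw [← hSD, ← commutatorElement_def]
    exact Subgroup.commutator_mem_commutator (Subgroup.mem_top x) (Subgroup.mem_top y)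
  have hnsq : ¬ ∀ x : S, x * x ∈ D := by
    intro h
    have := hR D hDn h
    omega
  push Not at hnsq
  obtain ⟨s, hs⟩ := hnsq
  have hzD : ∀ k : ℤ, Even k → a ^ k ∈ D := by
    rintro k ⟨k', rfl⟩
    rw [hDmem]; exact ⟨k', by rw [two_mul]⟩
  have hbb' : ∃ d : ℤ, Even d ∧ b * b = a ^ d := by
    rcases hbb with h | h
    · exact ⟨0, by simp, by simpa using h⟩
    · refine ⟨2 ^ (m' + 1), ⟨2 ^ m', by ring⟩, ?_⟩
      rw [h, hz]; norm_cast
  have hsM : s ∉ M := by
    intro hsM
    apply hs
    rcases hMmem s hsM with h | h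
    · obtain ⟨k, rfl⟩ := Subgroup.mem_zpowers_iff.mp h
      rw [← zpow_add]
      exact hzD _ ⟨k, rfl⟩
    · obtain ⟨k, hk⟩ := Subgroup.mem_zpowers_iff.mp h
      have hsk : s = b * a ^ k := by rw [hk]; group
      obtain ⟨d, hd, hbd⟩ := hbb'
      have : s * s = a ^ (e * k + d + k) := by
        calc s * s = (b * a ^ k * b⁻¹) * (b * b) * a ^ k := by rw [hsk]; group
          _ = a ^ (e * k + d + k) := by rw [hconjk, hbd, ← zpow_add, ← zpow_add]
      rw [this]
      apply hzD
      obtain ⟨q, hq⟩ := he4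
      obtain ⟨d', rfl⟩ := hd
      exact ⟨2 * q * k + d', by linear_combination k * hq⟩
  have hssM : s * s ∈ M := sq_mem_of_index_two M hM s
  obtain ⟨r, hr⟩ : ∃ r : ℤ, s * a * s⁻¹ = a ^ r := by
    have h1 : s * a * s⁻¹ * a⁻¹ ∈ Subgroup.zpowers a := hDA (hcommD s a)
    have h2 : s * a * s⁻¹ = (s * a * s⁻¹ * a⁻¹) * a := by group
    have h3 : s * a * s⁻¹ ∈ Subgroup.zpowers a := by
      rw [h2]; exact Subgroup.mul_mem _ h1 (Subgroup.mem_zpowers a)
    obtain ⟨r, hr⟩ := Subgroup.mem_zpowers_iff.mp h3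
    exact ⟨r, hr.symm⟩
  have hsk : ∀ k : ℤ, s * a ^ k * s⁻¹ = a ^ (r * k) := fun k => by
    rw [← conj_zpow, hr, ← zpow_mul]
  rcases hMmem (s * s) hssM with h | h
  · obtain ⟨j, hj⟩ := Subgroup.mem_zpowers_iff.mp h
    have hjodd : ¬ Even j := by
      intro hev
      apply hs; rw [← hj]; exact hzD j hev
    obtain ⟨j', hj'⟩ := Int.not_even_iff_odd.mp hjodd
    have h1 : a ^ (r * j) = a ^ j := by
      rw [← hsk, hj]; group
    rw [zpow_eq_zpow_iff_modEq, hordZ] at h1
    have h2 : (2 ^ (m' + 2) : ℤ) ∣ (r - 1) * j := by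
      have := h1.symm.dvd
      convert this using 1; ring
    have hcop : IsCoprime ((2 : ℤ) ^ (m' + 2)) j := by
      apply IsCoprime.pow_left
      exact ⟨-j', 1, by rw [hj']; ring⟩
    have h3 : (2 ^ (m' + 2) : ℤ) ∣ r - 1 := hcop.dvd_of_dvd_mul_right h2
    have hsa1 : s * a * s⁻¹ = a := by
      rw [hr]
      have : a ^ r = a ^ (1 : ℤ) := by
        rw [zpow_eq_zpow_iff_modEq, hordZ]
        exact (Int.modEq_iff_dvd.mpr h3).symm
      rw [this, zpow_one]
    have hsc : ∀ k : ℤ, s * a ^ k = a ^ k * s := by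
      intro k
      have : s * a ^ k * s⁻¹ = a ^ k := by rw [← conj_zpow, hsa1]
      calc s * a ^ k = (s * a ^ k * s⁻¹) * s := by group
        _ = a ^ k * s := by rw [this]
    obtain ⟨i, hi⟩ := (hDmem _).mp (hcommD b s)
    have h5 : b * (s * s) * b⁻¹ = a ^ (2 * i + 2 * i + j) := by
      calc b * (s * s) * b⁻¹ = (b * s * b⁻¹ * s⁻¹ * s) * (b * s * b⁻¹ * s⁻¹ * s) := by group
        _ = a ^ (2 * i) * (s * a ^ (2 * i)) * s := by rw [hi]; group
        _ = a ^ (2 * i) * a ^ (2 * i) * (s * s) := by rw [hsc]; group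
        _ = a ^ (2 * i + 2 * i + j) := by rw [← hj, ← zpow_add, ← zpow_add]
    rw [← hj, hconjk, zpow_eq_zpow_iff_modEq, hordZ, Int.modEq_iff_dvd] at h5
    obtain ⟨t, ht⟩ := dvd_trans h4dvd h5
    obtain ⟨q, hq⟩ := he4
    have key : 4 * i + 2 * j - 4 * (q * j) = 4 * t := by linear_combination ht + j * hq
    generalize q * j = qj at key
    omega
  · obtain ⟨k, hk⟩ := Subgroup.mem_zpowers_iff.mp h
    have hss : s * s = b * a ^ k := by rw [hk]; group
    have hak : a ^ k * a * (a ^ k)⁻¹ = a := by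
      rw [mul_inv_eq_iff_eq_mul, ← zpow_add_one, ← zpow_one_add, add_comm]
    have h1 : (s * s) * a * (s * s)⁻¹ = a ^ e := by
      calc (s * s) * a * (s * s)⁻¹ = b * (a ^ k * a * (a ^ k)⁻¹) * b⁻¹ := by rw [hss]; group
        _ = a ^ e := by rw [hak, he]
    have h2 : (s * s) * a * (s * s)⁻¹ = a ^ (r * r) := by
      calc (s * s) * a * (s * s)⁻¹ = s * (s * a * s⁻¹) * s⁻¹ := by group
        _ = a ^ (r * r) := by rw [hr, hsk]
    rw [h1, zpow_eq_zpow_iff_modEq, hordZ, Int.modEq_iff_dvd] at h2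
    obtain ⟨t, ht⟩ := dvd_trans h4dvd h2
    obtain ⟨q, hq⟩ := he4
    obtain ⟨u, hu⟩ : ∃ u, r = 2 * u ∨ r = 2 * u + 1 := ⟨r / 2, by omega⟩
    rcases hu with rfl | rfl
    · have key : 4 * (u * u) + 1 = 4 * (q + t) := by linear_combination ht + hq
      generalize u * u = uu at key
      omega
    · have key : 4 * (u * u) + 4 * u + 2 = 4 * (q + t) := by linear_combination ht + hq
      generalize u * u = uu at key
      omega

theorem main_aux : ∀ (n : ℕ) (S : Type u) [Group S] [Finite S], Nat.card S = 2 ^ n → R2 S →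
    (∃ B : Subgroup S, Nat.card B = 8 ∧ ∃ x ∈ B, ∃ y ∈ B, x * y ≠ y * x) →
    (commutator S).index = 4 := by
  intro n
  induction n with
  | zero =>
    intro S _ _ hcard _ ⟨B, hB, _⟩
    have := Subgroup.card_le_card_group B
    rw [hB, hcard] at this
    omega
  | succ n ih =>
    intro S _ _ hcard hR ⟨B, hB, x, hx, y, hy, hxy⟩
    have : Fact (Nat.Prime 2) := ⟨Nat.prime_two⟩
    have hn3 : 3 ≤ n + 1 := by
      have h1 : Nat.card B ∣ Nat.card S := Subgroup.card_subgroup_dvd_card B
      rw [hB, hcard] at h1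
      have h8 : (8 : ℕ) = 2 ^ 3 := by norm_num
      rw [h8] at h1
      exact (Nat.pow_dvd_pow_iff_le_right (by norm_num)).mp h1
    by_cases hn : n + 1 = 3
    · rw [hn] at hcard
      exact index_commutator_of_card_eight (by rw [hcard]; norm_num) ⟨x, y, hxy⟩
    · have hn4 : 3 ≤ n := by omega
      obtain ⟨M, hMcard, hBM⟩ := Sylow.exists_subgroup_card_pow_prime_le 2 (n := 3) (m := n)
        (by rw [hcard]; exact pow_dvd_pow 2 (Nat.le_succ n)) B (by rw [hB]; norm_num) hn4
      have hMidx : M.index = 2 := by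
        have := Subgroup.card_mul_index M
        rw [hMcard, hcard, pow_succ] at this
        exact Nat.eq_of_mul_eq_mul_left (by positivity) this
      have h4M : (commutator M).index = 4 := by
        apply ih M hMcard (r2_subgroup hR M)
        refine ⟨B.subgroupOf M, ?_, ⟨x, hBM hx⟩, ?_, ⟨y, hBM hy⟩, ?_, ?_⟩
        · rw [Nat.card_congr (Subgroup.subgroupOfEquivOfLe hBM).toEquiv, hB]
        · exact Subgroup.mem_subgroupOf.mpr hx
        · exact Subgroup.mem_subgroupOf.mpr hy
        · intro h; apply hxy; exact congrArg Subtype.val h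
      have hMp : IsPGroup 2 M := IsPGroup.of_card hMcard
      obtain ⟨a, b, z, horda, hb, hidx, hzdef, hordz, hcenter, hconj, hsq⟩ :=
        structure_of_index_four hMp h4M n hn4 hMcard
      obtain ⟨m, rfl⟩ : ∃ m, n = m + 3 := ⟨n - 3, by omega⟩
      have e1 : m + 3 - 1 = m + 1 + 1 := by omega
      have e2 : m + 3 - 2 = m + 1 := by omega
      rw [e1] at horda
      rw [e2] at hzdef
      have hmemA : ∀ w : M, w ∈ Subgroup.zpowers a → (w : S) ∈ Subgroup.zpowers (a : S) := by
        intro w hw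
        obtain ⟨k, rfl⟩ := Subgroup.mem_zpowers_iff.mp hw
        rw [Subgroup.coe_zpow]
        exact Subgroup.zpow_mem_zpowers _ k
      apply step (m + 1) (by omega) (by rw [hcard]) ?_ M hMidx (a : S) (b : S) (z : S) ?_ ?_ ?_ ?_ ?_
      · intro N hN hsqN
        have := hR ⊤ N le_top (fun x _ n hn => hN.conj_mem n hn x) (fun x _ => hsqN x)
        rwa [Subgroup.relIndex_top_right] at this
      · intro w hw
        rcases mem_or_inv_mul_mem (Subgroup.zpowers a) hidx b hb ⟨w, hw⟩ with h | h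
        · left; exact hmemA _ h
        · right
          have := hmemA _ h
          simpa using this
      · rw [Subgroup.orderOf_coe, horda]
      · rw [hzdef]; simp
      · rcases hconj with h | h
        · left
          have := congrArg Subtype.val h
          simpa using this
        · right
          constructor
          · by_contra hlt
            have hm0 : m = 0 := by omega
            subst hm0
            have hz2 : z = a ^ 2 := by rw [hzdef]; norm_num
            have hbab : b * a * b⁻¹ = a := by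
              rw [h, hz2, pow_two]; group
            have hac : a ∈ Subgroup.center M := by
              apply mem_center_of_comm (Subgroup.zpowers a) hidx b hb
              · intro c hc
                obtain ⟨k, rfl⟩ := Subgroup.mem_zpowers_iff.mp hc
                rw [← zpow_add_one, ← zpow_one_add, add_comm]
              · calc b * a = (b * a * b⁻¹) * b := by group
                  _ = a * b := by rw [hbab]
            rcases (hcenter a).mp hac with h' | h'
            · rw [h', orderOf_one] at horda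
              norm_num at horda
            · rw [h', hordz] at horda
              norm_num at horda
          · have := congrArg Subtype.val h
            simpa using this
      · rcases hsq with h | h
        · left
          have := congrArg Subtype.val h
          simpa using this
        · right
          have := congrArg Subtype.val h
          simpa using this

theorem result {S : Type*} [Group S] [Finite S] (h2 : IsPGroup 2 S) (hr : Cfsg.SectionalPRankLE 2 2 S)
    (hsub : ∃ H : Subgroup S, Nonempty (↥H ≃* DihedralGroup 4) ∨ Nonempty (↥H ≃* QuaternionGroup 2)) :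
    ((∃ k : ℕ, Nonempty (S ≃* DihedralGroup (2 ^ (k + 2)))) ∨
      (∃ k : ℕ, Nat.card S = 2 ^ (k + 4) ∧ ∃ a b : S, orderOf a = 2 ^ (k + 3) ∧ orderOf b = 2 ∧ b * a * b⁻¹ = a ^ (2 ^ (k + 2) - 1)) ∨
      (∃ k : ℕ, Nonempty (S ≃* QuaternionGroup (2 ^ (k + 1))))) := by
  obtain ⟨n, hn⟩ := h2.exists_card_eq
  have hB : ∃ B : Subgroup S, Nat.card B = 8 ∧ ∃ x ∈ B, ∃ y ∈ B, x * y ≠ y * x := by
    obtain ⟨H, hH | hH⟩ := hsub
    · obtain ⟨f⟩ := hH
      refine ⟨H, ?_, (f.symm (DihedralGroup.r 1)).1, (f.symm (DihedralGroup.r 1)).2,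
        (f.symm (DihedralGroup.sr 0)).1, (f.symm (DihedralGroup.sr 0)).2, ?_⟩
      · rw [Nat.card_congr f.toEquiv, DihedralGroup.nat_card]
      · intro h
        have h1 : f.symm (DihedralGroup.r 1) * f.symm (DihedralGroup.sr 0) =
            f.symm (DihedralGroup.sr 0) * f.symm (DihedralGroup.r 1) := Subtype.ext h
        rw [← map_mul, ← map_mul] at h1
        have h2 := f.symm.injective h1
        revert h2
        decide
    · obtain ⟨f⟩ := hH
      refine ⟨H, ?_, (f.symm (QuaternionGroup.a 1)).1, (f.symm (QuaternionGroup.a 1)).2,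
        (f.symm (QuaternionGroup.xa 0)).1, (f.symm (QuaternionGroup.xa 0)).2, ?_⟩
      · rw [Nat.card_congr f.toEquiv, Nat.card_eq_fintype_card, QuaternionGroup.card]
      · intro h
        have h1 : f.symm (QuaternionGroup.a 1) * f.symm (QuaternionGroup.xa 0) =
            f.symm (QuaternionGroup.xa 0) * f.symm (QuaternionGroup.a 1) := Subtype.ext h
        rw [← map_mul, ← map_mul] at h1
        have h2 := f.symm.injective h1
        revert h2
        decide
  have h4 := main_aux n S hn (r2_of_sectional hr) hB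
  have hn3 : 3 ≤ n := by
    obtain ⟨B, hB8, _⟩ := hB
    have h1 : Nat.card B ∣ Nat.card S := Subgroup.card_subgroup_dvd_card B
    rw [hB8, hn] at h1
    have h8 : (8 : ℕ) = 2 ^ 3 := by norm_num
    rw [h8] at h1
    exact (Nat.pow_dvd_pow_iff_le_right (by norm_num)).mp h1
  rcases classification_of_index_four h2 h4 n hn3 hn with h | h | ⟨hn4, a, b, ha, hb, hab⟩
  · left
    refine ⟨n - 3, ?_⟩
    have : n - 3 + 2 = n - 1 := by omega
    rw [this]; exact h
  · right; right
    refine ⟨n - 3, ?_⟩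
    have : n - 3 + 1 = n - 2 := by omega
    rw [this]; exact h
  · right; left
    refine ⟨n - 4, ?_, a, b, ?_, hb, ?_⟩
    · have : n - 4 + 4 = n := by omega
      rw [this]; exact hn
    · have : n - 4 + 3 = n - 1 := by omega
      rw [this]; exact ha
    · have : n - 4 + 2 = n - 2 := by omega
      rw [this]; exact hab

end Cfsg.Agent.S4398
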