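import Cfsg.Statements.S4399
import Cfsg.Agent.Lib.Helper78.MaxClass2Recognition
import Mathlib

set_option autoImplicit false
open Cfsg

namespace Cfsg.Agent.S4399

theorem result {S : Type*} [Group S] [Finite S] (h2 : IsPGroup 2 S) (hab : Nat.card (Abelianization S) = 4)
    (hexp : ∀ x : Abelianization S, x ^ 2 = 1) :
    Nat.card S = 4 ∨
    ((∃ k : ℕ, Nonempty (S ≃* DihedralGroup (2 ^ (k + 2)))) ∨
      (∃ k : ℕ, Nat.card S = 2 ^ (k + 4) ∧ ∃ a b : S, orderOf a = 2 ^ (k + 3) ∧ orderOf b = 2 ∧ b * a * b⁻¹ = a ^ (2 ^ (k + 2) - 1)) ∨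
      (∃ k : ℕ, Nonempty (S ≃* QuaternionGroup (2 ^ (k + 1))))) := by
  have : Fact (Nat.Prime 2) := ⟨Nat.prime_two⟩
  have h4 : (commutator S).index = 4 := by
    rw [Subgroup.index_eq_card]; exact hab
  obtain ⟨n, hn⟩ := IsPGroup.iff_card.mp h2
  have hdvd : 4 ∣ Nat.card S := by
    rw [← h4]; exact Subgroup.index_dvd_card _
  have hn2 : 2 ≤ n := by
    by_contra hlt
    have hn1 : n ≤ 1 := by omega
    have : 2 ^ n ≤ 2 ^ 1 := Nat.pow_le_pow_right two_pos hn1
    rw [hn] at hdvd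
    have := Nat.le_of_dvd (pow_pos two_pos n) hdvd
    omega
  by_cases hn3 : 3 ≤ n
  · right
    rcases Cfsg.Agent.Lib.Helper78.classification_of_index_four h2 h4 n hn3 hn with h | h | h
    · left
      refine ⟨n - 3, ?_⟩
      have : n - 3 + 2 = n - 1 := by omega
      rw [this]; exact h
    · right; right
      refine ⟨n - 3, ?_⟩
      have : n - 3 + 1 = n - 2 := by omega
      rw [this]; exact h
    · right; left
      obtain ⟨hn4, a, b, ha, hb, hbab⟩ := h
      refine ⟨n - 4, ?_, a, b, ?_, hb, ?_⟩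
      · rw [hn]; congr 1; omega
      · rw [ha]; congr 1; omega
      · rw [hbab]; congr 2; congr 1; omega
  · left
    have : n = 2 := by omega
    rw [hn, this]; norm_num

end Cfsg.Agent.S4399
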