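import Cfsg.Statements.S4400
import Cfsg.Agent.Lib.Helper38.PGroup
import Cfsg.Agent.Lib.Helper38.Extraspecial
import Cfsg.Agent.Lib.Helper75.PGroupFrattini
import Cfsg.Agent.Lib.Helper06.NormalRankTwo

set_option autoImplicit false
open Cfsg

namespace Cfsg.Agent.S4400

open scoped commutatorElement

/-- every elementary abelian section `K / N` has order at most 16 -/
def R4 (S : Type*) [Group S] : Prop :=
  ∀ K N : Subgroup S, N ≤ K → (∀ x ∈ K, ∀ n ∈ N, x * n * x⁻¹ ∈ N) → (∀ x ∈ K, x * x ∈ N) →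
    N.relIndex K ≤ 16

lemma r4_of_sectional {S : Type*} [Group S] (hr : Cfsg.SectionalPRankLE 2 4 S) : R4 S := by
  intro K N _ hnorm hsq
  have hN : (N.subgroupOf K).Normal := by
    constructor
    intro n hn g
    rw [Subgroup.mem_subgroupOf] at hn ⊢
    simpa using hnorm g.1 g.2 n.1 hn
  have hsq' : ∀ q : K ⧸ N.subgroupOf K, q * q = 1 := by
    intro q
    induction q using QuotientGroup.induction_on with
    | H x =>
      rw [← QuotientGroup.mk_mul, QuotientGroup.eq_one_iff, Subgroup.mem_subgroupOf]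
      simpa using hsq x.1 x.2
  have hcomm : ∀ p q : K ⧸ N.subgroupOf K, p * q = q * p := by
    intro p q
    have hinv : ∀ y : K ⧸ N.subgroupOf K, y⁻¹ = y := fun y => inv_eq_of_mul_eq_one_left (hsq' y)
    calc p * q = (p * q)⁻¹ := (hinv _).symm
      _ = q⁻¹ * p⁻¹ := mul_inv_rev _ _
      _ = q * p := by rw [hinv, hinv]
  have h := hr K (N.subgroupOf K) (⊤ : Subgroup (K ⧸ N.subgroupOf K))
    ⟨⟨fun a b => Subtype.ext (hcomm a.1 b.1)⟩⟩ (fun a _ => by rw [pow_two]; exact hsq' a)
  rw [Subgroup.card_top] at h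
  have : N.relIndex K = Nat.card (K ⧸ N.subgroupOf K) := rfl
  rw [this]
  norm_num at h
  exact h

theorem isCyclic_of_frattini_quotient {G : Type*} [Group G] [Finite G]
    (h : IsCyclic (G ⧸ frattini G)) : IsCyclic G := by
  obtain ⟨q, hq⟩ := h.exists_generator
  obtain ⟨g, rfl⟩ := QuotientGroup.mk_surjective q
  have htop : Subgroup.zpowers g ⊔ frattini G = ⊤ := by
    rw [eq_top_iff]
    intro x _
    obtain ⟨k, hk⟩ := Subgroup.mem_zpowers_iff.mp (hq (x : G ⧸ frattini G))
    rw [← QuotientGroup.mk_zpow, QuotientGroup.eq] at hk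
    have : x = g ^ k * ((g ^ k)⁻¹ * x) := by group
    rw [this]
    exact Subgroup.mul_mem_sup (Subgroup.zpow_mem_zpowers g k) hk
  have := frattini_nongenerating htop
  exact isCyclic_iff_exists_zpowers_eq_top.mpr ⟨g, this⟩

section
variable {S : Type*} [Group S]

/-- the centre of a subgroup, as a subgroup of the ambient group -/
theorem mem_center_map (P : Subgroup S) (x : S) :
    x ∈ (Subgroup.center ↥P).map P.subtype ↔ x ∈ P ∧ ∀ y ∈ P, y * x = x * y := by
  constructor
  · rintro ⟨z, hz, rfl⟩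
    refine ⟨z.2, fun y hy => ?_⟩
    have := Subgroup.mem_center_iff.mp hz ⟨y, hy⟩
    exact congrArg Subtype.val this
  · rintro ⟨hx, hc⟩
    refine ⟨⟨x, hx⟩, Subgroup.mem_center_iff.mpr (fun g => Subtype.ext (hc g g.2)), rfl⟩

theorem conj_mem_frattini_map (P : Subgroup S) [P.Normal] (g : S) {x : S}
    (hx : x ∈ (frattini ↥P).map P.subtype) : g * x * g⁻¹ ∈ (frattini ↥P).map P.subtype := by
  obtain ⟨y, hy, rfl⟩ := hx
  have h1 : (MulAut.conjNormal g : MulAut ↥P) y ∈ frattini ↥P :=
    (Subgroup.characteristic_iff_map_le.mp (frattini_characteristic (G := ↥P))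
      (MulAut.conjNormal g : MulAut ↥P)) (Subgroup.mem_map_of_mem _ hy)
  refine ⟨_, h1, ?_⟩
  simp [MulAut.conjNormal_apply]

theorem sup_frattini_conj (P Q : Subgroup S) [P.Normal] [Q.Normal] (g : S) {n : S}
    (hn : n ∈ (frattini ↥P).map P.subtype ⊔ (frattini ↥Q).map Q.subtype) :
    g * n * g⁻¹ ∈ (frattini ↥P).map P.subtype ⊔ (frattini ↥Q).map Q.subtype := by
  haveI h1 : ((frattini ↥P).map P.subtype).Normal :=
    ⟨fun x hx g => conj_mem_frattini_map P g hx⟩
  haveI h2 : ((frattini ↥Q).map Q.subtype).Normal :=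
    ⟨fun x hx g => conj_mem_frattini_map Q g hx⟩
  exact (inferInstance :
    ((frattini ↥P).map P.subtype ⊔ (frattini ↥Q).map Q.subtype).Normal).conj_mem n hn g

/-- data on a nonabelian `2`-subgroup with centre of order two -/
theorem frattini_facts [Finite S] (h2 : IsPGroup 2 S) (P : Subgroup S)
    (hP : ¬ IsMulCommutative ↥P) (hZP : Nat.card ↥(Subgroup.center ↥P) = 2) :
    (Subgroup.center ↥P).map P.subtype ≤ (frattini ↥P).map P.subtype ∧
      (∀ x ∈ P, x * x ∈ (frattini ↥P).map P.subtype) ∧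
      4 * Nat.card ↥((frattini ↥P).map P.subtype) ≤ Nat.card ↥P := by
  haveI : Fact (Nat.Prime 2) := ⟨Nat.prime_two⟩
  have hPp : IsPGroup 2 ↥P := h2.to_subgroup P
  have hcomm_ne : commutator ↥P ≠ ⊥ := by
    intro h
    apply hP
    refine ⟨⟨fun a b => ?_⟩⟩
    have : ⁅a, b⁆ ∈ commutator ↥P := by
      rw [commutator_def]
      exact Subgroup.commutator_mem_commutator (Subgroup.mem_top _) (Subgroup.mem_top _)
    rw [h, Subgroup.mem_bot, commutatorElement_def] at this
    calc a * b = (a * b * a⁻¹ * b⁻¹) * (b * a) := by group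
      _ = b * a := by rw [this, one_mul]
  obtain ⟨x, hxc, hxz, hx1⟩ :=
    Cfsg.Agent.Lib.Helper38.normal_inf_center_ne_bot 2 hPp (commutator ↥P) hcomm_ne
  have hle := Cfsg.Agent.Lib.Helper75.commutator_le_frattini_of_isPGroup' hPp
  refine ⟨?_, ?_, ?_⟩
  · rintro _ ⟨z, hz, rfl⟩
    refine ⟨z, ?_, rfl⟩
    by_cases hz1 : z = 1
    · rw [hz1]; exact Subgroup.one_mem _
    · have := Cfsg.Agent.Lib.Helper38.eq_of_ne_one_of_card_two hZP ⟨z, hz⟩ ⟨x, hxz⟩
        (fun h => hz1 (congrArg Subtype.val h)) (fun h => hx1 (congrArg Subtype.val h))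
      have hzx : z = x := congrArg Subtype.val this
      rw [hzx]; exact hle hxc
  · intro x hx
    refine ⟨⟨x, hx⟩ * ⟨x, hx⟩, ?_, rfl⟩
    have := Cfsg.Agent.Lib.Helper75.pow_mem_frattini_of_isPGroup' hPp (⟨x, hx⟩ : ↥P)
    rwa [pow_two] at this
  · rw [Subgroup.card_map_of_injective P.subtype_injective]
    have hidx := Subgroup.card_mul_index (frattini ↥P)
    have h4 : 4 ≤ (frattini ↥P).index := by
      by_contra hlt
      apply hP
      have hcyc : IsCyclic (↥P ⧸ frattini ↥P) := by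
        have hcard : Nat.card (↥P ⧸ frattini ↥P) = (frattini ↥P).index :=
          (Subgroup.index_eq_card _).symm
        obtain ⟨k, hk⟩ := hPp.exists_card_eq
        have hdvd : (frattini ↥P).index ∣ 2 ^ k := hk ▸ Subgroup.index_dvd_card _
        obtain ⟨j, _, hj⟩ := (Nat.dvd_prime_pow Nat.prime_two).mp hdvd
        rw [hj] at hlt hcard
        rcases j with _ | _ | j
        · rw [pow_zero] at hcard
          haveI : Subsingleton (↥P ⧸ frattini ↥P) := (Nat.card_eq_one_iff_unique.mp hcard).1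
          infer_instance
        · rw [zero_add, pow_one] at hcard
          exact isCyclic_of_prime_card hcard
        · exfalso
          have : 2 ^ 2 ≤ 2 ^ (j + 1 + 1) := Nat.pow_le_pow_right (by norm_num) (by omega)
          omega
      haveI := isCyclic_of_frattini_quotient hcyc
      exact ⟨⟨fun a b => by
        obtain ⟨g, hg⟩ := IsCyclic.exists_generator (α := ↥P)
        obtain ⟨i, rfl⟩ := Subgroup.mem_zpowers_iff.mp (hg a)
        obtain ⟨j, rfl⟩ := Subgroup.mem_zpowers_iff.mp (hg b)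
        rw [← zpow_add, ← zpow_add, add_comm]⟩⟩
    nlinarith

end

/-- Let S be a finite 2-group of sectional 2-rank at most 4, and let P and Q be normal non-abelian subgroups of S whose centres have order 2 and are different. Then P and Q commute elementwise and intersect trivially, and PQ contains its own centralizer in S. -/
theorem result {S : Type*} [Group S] [Finite S] (h2 : IsPGroup 2 S) (hr : Cfsg.SectionalPRankLE 2 4 S)
    (P Q : Subgroup S) [P.Normal] [Q.Normal] (hP : ¬ IsMulCommutative ↥P) (hQ : ¬ IsMulCommutative ↥Q)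
    (hZP : Nat.card ↥(Subgroup.center ↥P) = 2) (hZQ : Nat.card ↥(Subgroup.center ↥Q) = 2)
    (hne : (Subgroup.center ↥P).map P.subtype ≠ (Subgroup.center ↥Q).map Q.subtype) :
    ⁅P, Q⁆ = ⊥ ∧ P ⊓ Q = ⊥ ∧ Subgroup.centralizer ((P ⊔ Q : Subgroup S) : Set S) ≤ P ⊔ Q := by
  classical
  haveI : Fact (Nat.Prime 2) := ⟨Nat.prime_two⟩
  have hR4 := r4_of_sectional hr
  set ZP := (Subgroup.center ↥P).map P.subtype with hZPdef
  set ZQ := (Subgroup.center ↥Q).map Q.subtype with hZQdef
  have hZPc : Nat.card ZP = 2 := by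
    rw [hZPdef, Subgroup.card_map_of_injective P.subtype_injective]; exact hZP
  have hZQc : Nat.card ZQ = 2 := by
    rw [hZQdef, Subgroup.card_map_of_injective Q.subtype_injective]; exact hZQ
  -- P ∩ Q = 1
  have hinf : P ⊓ Q = ⊥ := by
    by_contra hne'
    obtain ⟨x, hxI, hxz, hx1⟩ :=
      Cfsg.Agent.Lib.Helper38.normal_inf_center_ne_bot 2 h2 (P ⊓ Q) hne'
    have hxc : ∀ y : S, y * x = x * y := fun y => Subgroup.mem_center_iff.mp hxz y
    have hxP : x ∈ ZP := (mem_center_map P x).2 ⟨hxI.1, fun y _ => hxc y⟩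
    have hxQ : x ∈ ZQ := (mem_center_map Q x).2 ⟨hxI.2, fun y _ => hxc y⟩
    apply hne
    have hle : ZP ≤ ZQ := by
      intro a ha
      by_cases ha1 : a = 1
      · rw [ha1]; exact Subgroup.one_mem _
      · have := Cfsg.Agent.Lib.Helper38.eq_of_ne_one_of_card_two hZPc ⟨a, ha⟩ ⟨x, hxP⟩
          (fun h => ha1 (congrArg Subtype.val h)) (fun h => hx1 (congrArg Subtype.val h))
        have hax : a = x := congrArg Subtype.val this
        rw [hax]; exact hxQ
    exact Subgroup.eq_of_le_of_card_ge hle (by rw [hZPc, hZQc])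
  have hcomm0 : ⁅P, Q⁆ = ⊥ := by
    rw [eq_bot_iff, ← hinf]
    exact Subgroup.commutator_le_inf P Q
  have hc : ∀ x ∈ P, ∀ y ∈ Q, x * y = y * x := by
    intro x hx y hy
    have h := hcomm0
    rw [Subgroup.commutator_eq_bot_iff_le_centralizer] at h
    have := h hx
    rw [Subgroup.mem_centralizer_iff] at this
    exact (this y hy).symm
  refine ⟨hcomm0, hinf, ?_⟩
  -- the centralizer
  by_contra hnot
  obtain ⟨c₀, hc₀C, hc₀T⟩ := SetLike.not_le_iff_exists.mp hnot
  set T₀ := P ⊔ Q with hT₀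
  -- an element c of the centralizer outside T₀ with square inside
  obtain ⟨c, hcC, hcT, hccT⟩ : ∃ c ∈ Subgroup.centralizer ((T₀ : Subgroup S) : Set S), c ∉ T₀ ∧
      c * c ∈ T₀ := by
    obtain ⟨k, hk⟩ := h2 c₀
    have hex : ∃ j : ℕ, c₀ ^ (2 ^ j) ∈ T₀ := ⟨k, by rw [hk]; exact T₀.one_mem⟩
    have hj0 : Nat.find hex ≠ 0 := by
      intro h0
      have := Nat.find_spec hex
      rw [h0, pow_zero, pow_one] at this
      exact hc₀T this
    obtain ⟨j, hj⟩ := Nat.exists_eq_succ_of_ne_zero hj0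
    refine ⟨c₀ ^ (2 ^ j), Subgroup.pow_mem _ hc₀C _, ?_, ?_⟩
    · exact Nat.find_min hex (by rw [hj]; exact Nat.lt_succ_self j)
    · have := Nat.find_spec hex
      rw [hj, pow_succ, pow_mul, pow_two] at this
      exact this
  have hcc : ∀ t ∈ T₀, t * c = c * t := fun t ht => Subgroup.mem_centralizer_iff.mp hcC t ht
  have hPT : P ≤ T₀ := le_sup_left
  have hQT : Q ≤ T₀ := le_sup_right
  obtain ⟨hZΦP, hsqP, hcardP⟩ := frattini_facts h2 P hP hZP
  obtain ⟨hZΦQ, hsqQ, hcardQ⟩ := frattini_facts h2 Q hQ hZQ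
  set ΦP := (frattini ↥P).map P.subtype with hΦP
  set ΦQ := (frattini ↥Q).map Q.subtype with hΦQ
  have hΦPP : ΦP ≤ P := Subgroup.map_subtype_le _
  have hΦQQ : ΦQ ≤ Q := Subgroup.map_subtype_le _
  set N₀ := ΦP ⊔ ΦQ with hN₀
  set K := Subgroup.zpowers c ⊔ T₀ with hK
  -- c * c ∈ N₀
  have hccN : c * c ∈ N₀ := by
    obtain ⟨x, hx, y, hy, hxy⟩ := Subgroup.mem_sup_of_normal_right.mp hccT
    have hccC : ∀ t ∈ T₀, t * (c * c) = (c * c) * t := by
      intro t ht
      rw [← mul_assoc, hcc t ht, mul_assoc, hcc t ht, mul_assoc]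
    have hxZ : x ∈ ZP := by
      rw [mem_center_map]
      refine ⟨hx, fun p hp => ?_⟩
      have h1 := hccC p (hPT hp)
      rw [← hxy] at h1
      have h2' := hc p hp y hy
      -- p * (x * y) = x * y * p, y p = p y
      have : p * x * y = x * p * y := by
        calc p * x * y = p * (x * y) := by group
          _ = x * y * p := h1
          _ = x * (y * p) := by group
          _ = x * (p * y) := by rw [h2']
          _ = x * p * y := by group
      exact mul_right_cancel this
    have hyZ : y ∈ ZQ := by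
      rw [mem_center_map]
      refine ⟨hy, fun q hq => ?_⟩
      have h1 := hccC q (hQT hq)
      rw [← hxy] at h1
      have h2' := hc x hx q hq
      have : x * (q * y) = x * (y * q) := by
        calc x * (q * y) = (x * q) * y := by group
          _ = (q * x) * y := by rw [h2']
          _ = q * (x * y) := by group
          _ = x * y * q := h1
          _ = x * (y * q) := by group
      exact mul_left_cancel this
    rw [← hxy]
    exact Subgroup.mul_mem _ (Subgroup.mem_sup_left (hZΦP hxZ)) (Subgroup.mem_sup_right (hZΦQ hyZ))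
  have hN₀n : ∀ g : S, ∀ n ∈ N₀, g * n * g⁻¹ ∈ N₀ := by
    intro g n hn
    exact sup_frattini_conj P Q g hn
  have hN₀K : N₀ ≤ K :=
    (sup_le (hΦPP.trans hPT) (hΦQQ.trans hQT)).trans le_sup_right
  have hsqK : ∀ k ∈ K, k * k ∈ N₀ := by
    intro k hk
    obtain ⟨u, hu, t, ht, rfl⟩ := Subgroup.mem_sup_of_normal_right.mp hk
    obtain ⟨i, rfl⟩ := Subgroup.mem_zpowers_iff.mp hu
    obtain ⟨x, hx, y, hy, rfl⟩ := Subgroup.mem_sup_of_normal_right.mp ht
    have hcx : Commute c x := (hcc x (hPT hx)).symm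
    have hcy : Commute c y := (hcc y (hQT hy)).symm
    have hxy : Commute x y := hc x hx y hy
    have hcix : Commute (c ^ i) x := hcx.zpow_left i
    have hciy : Commute (c ^ i) y := hcy.zpow_left i
    have h1 : c ^ i * (x * y) * (c ^ i * (x * y)) = (c * c) ^ i * ((x * x) * (y * y)) := by
      have e1 : (c * c) ^ i = c ^ i * c ^ i := by
        rw [← pow_two, ← zpow_natCast, ← zpow_mul, mul_comm, zpow_mul, zpow_natCast, pow_two]
      rw [e1]
      calc c ^ i * (x * y) * (c ^ i * (x * y))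
          = c ^ i * ((x * y) * c ^ i) * (x * y) := by group
        _ = c ^ i * (c ^ i * (x * y)) * (x * y) := by rw [(hcix.mul_right hciy).eq]
        _ = c ^ i * c ^ i * (x * (y * x) * y) := by group
        _ = c ^ i * c ^ i * (x * (x * y) * y) := by rw [hxy.eq]
        _ = c ^ i * c ^ i * (x * x * (y * y)) := by group
    rw [h1]
    refine Subgroup.mul_mem _ (Subgroup.zpow_mem _ hccN i) (Subgroup.mul_mem _ ?_ ?_)
    · exact Subgroup.mem_sup_left (hsqP x hx)
    · exact Subgroup.mem_sup_right (hsqQ y hy)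
  have hle16 : N₀.relIndex K ≤ 16 := hR4 K N₀ hN₀K (fun x _ n hn => hN₀n x n hn) hsqK
  -- orders
  have hcardT : Nat.card T₀ = Nat.card P * Nat.card Q :=
    Cfsg.Agent.Lib.Helper06.card_sup_of_commute_of_disjoint P Q hc hinf
  have hcardN : Nat.card N₀ = Nat.card ΦP * Nat.card ΦQ := by
    apply Cfsg.Agent.Lib.Helper06.card_sup_of_commute_of_disjoint ΦP ΦQ
    · intro x hx y hy
      exact hc x (hΦPP hx) y (hΦQQ hy)
    · rw [eq_bot_iff, ← hinf]
      exact inf_le_inf hΦPP hΦQQ
  have hTK : T₀ ≤ K := le_sup_right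
  have hcK : c ∈ K := (le_sup_left : Subgroup.zpowers c ≤ K) (Subgroup.mem_zpowers c)
  have hcardK : 2 * Nat.card T₀ ≤ Nat.card K := by
    have hdvd : Nat.card T₀ ∣ Nat.card K := Subgroup.card_dvd_of_le hTK
    obtain ⟨m, hm⟩ := hdvd
    have hm0 : m ≠ 0 := by
      rintro rfl
      rw [mul_zero] at hm
      exact Nat.card_pos.ne' hm
    have hm1 : m ≠ 1 := by
      rintro rfl
      rw [mul_one] at hm
      have := Subgroup.eq_of_le_of_card_ge hTK (le_of_eq hm)
      exact hcT (this ▸ hcK)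
    rw [hm]
    have : 2 ≤ m := by omega
    nlinarith
  have hrel : N₀.relIndex K * Nat.card N₀ = Nat.card K := by
    have h1 : (⊥ : Subgroup S).relIndex N₀ * N₀.relIndex K = (⊥ : Subgroup S).relIndex K :=
      Subgroup.relIndex_mul_relIndex _ _ _ bot_le hN₀K
    rw [Subgroup.relIndex_bot_left, Subgroup.relIndex_bot_left] at h1
    rw [mul_comm]; exact h1
  have hNpos : 0 < Nat.card N₀ := Nat.card_pos
  have hΦPpos : 0 < Nat.card ΦP := Nat.card_pos
  have hΦQpos : 0 < Nat.card ΦQ := Nat.card_pos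
  have h32 : 32 * Nat.card N₀ ≤ Nat.card K := by
    calc 32 * Nat.card N₀ = 2 * ((4 * Nat.card ΦP) * (4 * Nat.card ΦQ)) := by rw [hcardN]; ring
      _ ≤ 2 * (Nat.card P * Nat.card Q) := by
        apply Nat.mul_le_mul_left
        exact Nat.mul_le_mul hcardP hcardQ
      _ = 2 * Nat.card T₀ := by rw [hcardT]
      _ ≤ Nat.card K := hcardK
  rw [← hrel] at h32
  have : 32 ≤ N₀.relIndex K := Nat.le_of_mul_le_mul_right h32 hNpos
  omega

end Cfsg.Agent.S4400
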