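import Cfsg.Statements.S4401
import Cfsg.Agent.S4400
import Cfsg.Agent.Lib.Helper78.RankFourCore
import Cfsg.Agent.Lib.Helper78.RankFourAux
import Cfsg.Agent.Lib.Helper01.Coprime

set_option autoImplicit false
set_option linter.style.haveILetI false
open Cfsg

namespace Cfsg.Agent.S4401

open Cfsg.Agent.Lib.Helper78.SectionRank Cfsg.Agent.Lib.Helper78.RankFourCore
  Cfsg.Agent.Lib.Helper78.RankFourAux

/-- Let S be a finite 2-group of sectional 2-rank at most 4 and P a proper non-abelian subgroup whose centre has order 2. Let S₀ be the centralizer in S of Z(P) and suppose P is normal in S₀. Then either S₀ = S, or P has sectional 2-rank at most 2 and S₀ has index 2 in S. -/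
theorem result {S : Type*} [Group S] [Finite S] (h2 : IsPGroup 2 S) (hr : Cfsg.SectionalPRankLE 2 4 S)
    (P : Subgroup S) (hPlt : P ≠ ⊤) (hP : ¬ IsMulCommutative ↥P) (hZP : Nat.card ↥(Subgroup.center ↥P) = 2)
    (S₀ : Subgroup S) (hS₀ : S₀ = Subgroup.centralizer (((Subgroup.center ↥P).map P.subtype : Subgroup S) : Set S))
    (hPn : ∀ s ∈ S₀, ∀ x ∈ P, s * x * s⁻¹ ∈ P) :
    S₀ = ⊤ ∨ (Cfsg.SectionalPRankLE 2 2 ↥P ∧ S₀.index = 2) := by
  classical
  by_cases htop : S₀ = ⊤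
  · left; exact htop
  right
  haveI : Fact (Nat.Prime 2) := ⟨Nat.prime_two⟩
  haveI : Group.IsNilpotent S := h2.isNilpotent
  -- the nonidentity element of Z(P)
  have hZPcard : Nat.card ((Subgroup.center ↥P).map P.subtype : Subgroup S) = 2 := by
    rw [Subgroup.card_map_of_injective P.subtype_injective]; exact hZP
  obtain ⟨z, hzZ, hz1⟩ : ∃ z ∈ (Subgroup.center ↥P).map P.subtype, z ≠ 1 := by
    by_contra hcon
    push Not at hcon
    have : ((Subgroup.center ↥P).map P.subtype : Subgroup S) = ⊥ :=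
      (Subgroup.eq_bot_iff_forall _).2 hcon
    rw [this, Subgroup.card_bot] at hZPcard
    omega
  have hZP2 := eq_one_or_eq_of_card_two _ hZPcard hzZ hz1
  have hzP : z ∈ P := Subgroup.map_subtype_le _ hzZ
  have hzc : ∀ p ∈ P, (∀ p' ∈ P, p * p' = p' * p) → (p = 1 ∨ p = z) := by
    intro p hp hpc
    apply hZP2
    refine ⟨⟨p, hp⟩, ?_, rfl⟩
    rw [SetLike.mem_coe, Subgroup.mem_center_iff]
    intro g
    exact Subtype.ext (hpc g.1 g.2).symm
  have hzc' : ∀ p' ∈ P, z * p' = p' * z := by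
    intro p' hp'
    obtain ⟨c, hc, rfl⟩ := hzZ
    have := Subgroup.mem_center_iff.1 hc ⟨p', hp'⟩
    exact (congrArg Subtype.val this).symm
  have hS₀' : ∀ g, g ∈ S₀ ↔ g * z = z * g := by
    intro g
    rw [hS₀, Subgroup.mem_centralizer_iff]
    constructor
    · intro h
      exact (h z hzZ).symm
    · intro h x hx
      rcases hZP2 x hx with rfl | rfl
      · simp
      · exact h.symm
  obtain ⟨s, hsN, hsS₀⟩ : ∃ s ∈ Subgroup.normalizer (S₀ : Set S), s ∉ S₀ := by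
    have hlt : S₀ < Subgroup.normalizer (S₀ : Set S) :=
      Group.normalizerCondition_of_isNilpotent S₀ (lt_top_iff_ne_top.2 htop)
    obtain ⟨s, hs1, hs2⟩ := SetLike.exists_of_lt hlt
    exact ⟨s, hs1, hs2⟩
  have hPS₀ : P ≤ S₀ := fun p hp => (hS₀' p).2 (hzc' p hp).symm
  -- the conjugate Q
  set c : S →* S := (MulAut.conj s).toMonoidHom with hc
  have hcinj : Function.Injective c := (MulAut.conj s).injective
  have hcapp : ∀ x, c x = s * x * s⁻¹ := fun x => rfl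
  set Q := P.map c with hQ
  have hsinv : s⁻¹ ∈ Subgroup.normalizer (S₀ : Set S) := Subgroup.inv_mem _ hsN
  have hQS₀ : Q ≤ S₀ := by
    rintro _ ⟨p, hp, rfl⟩
    rw [hcapp]
    exact (Subgroup.mem_normalizer_iff.1 hsN p).1 (hPS₀ hp)
  have hQn : ∀ t ∈ S₀, ∀ x ∈ Q, t * x * t⁻¹ ∈ Q := by
    rintro t ht _ ⟨p, hp, rfl⟩
    have ht' : s⁻¹ * t * s⁻¹⁻¹ ∈ S₀ := (Subgroup.mem_normalizer_iff.1 hsinv t).1 ht
    rw [inv_inv] at ht'
    refine ⟨(s⁻¹ * t * s) * p * (s⁻¹ * t * s)⁻¹, hPn _ ht' p hp, ?_⟩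
    rw [hcapp, hcapp]
    group
  -- S4400 inside S₀
  set P₀ := P.subgroupOf S₀ with hP₀
  set Q₀ := Q.subgroupOf S₀ with hQ₀
  haveI hP₀n : P₀.Normal := by
    constructor
    intro n hn g
    rw [hP₀, Subgroup.mem_subgroupOf] at hn ⊢
    simpa using hPn g.1 g.2 n.1 hn
  haveI hQ₀n : Q₀.Normal := by
    constructor
    intro n hn g
    rw [hQ₀, Subgroup.mem_subgroupOf] at hn ⊢
    simpa using hQn g.1 g.2 n.1 hn
  let eP : ↥P₀ ≃* ↥P := Subgroup.subgroupOfEquivOfLe hPS₀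
  let eQ : ↥Q₀ ≃* ↥Q := Subgroup.subgroupOfEquivOfLe hQS₀
  let eQP : ↥P ≃* ↥Q := P.equivMapOfInjective c hcinj
  have hP₀na : ¬ IsMulCommutative ↥P₀ := fun h => hP (isMulCommutative_of_equiv eP h)
  have hQ₀na : ¬ IsMulCommutative ↥Q₀ := fun h =>
    hP (isMulCommutative_of_equiv (eQ.trans eQP.symm) h)
  have hZP₀ : Nat.card (Subgroup.center ↥P₀) = 2 := by
    rw [card_center_congr eP]; exact hZP
  have hZQ₀ : Nat.card (Subgroup.center ↥Q₀) = 2 := by
    rw [card_center_congr (eQ.trans eQP.symm)]; exact hZP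
  have hne : (Subgroup.center ↥P₀).map P₀.subtype ≠ (Subgroup.center ↥Q₀).map Q₀.subtype := by
    intro heq
    have hzS₀ : z ∈ S₀ := hPS₀ hzP
    have h1 : (⟨z, hzS₀⟩ : S₀) ∈ (Subgroup.center ↥P₀).map P₀.subtype := by
      refine ⟨⟨⟨z, hzS₀⟩, ?_⟩, ?_, rfl⟩
      · rw [hP₀, Subgroup.mem_subgroupOf]; exact hzP
      · rw [SetLike.mem_coe, Subgroup.mem_center_iff]
        intro g
        have hg : (g : S₀).1 ∈ P := Subgroup.mem_subgroupOf.1 g.2
        apply Subtype.ext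
        apply Subtype.ext
        exact (hzc' _ hg).symm
    rw [heq] at h1
    obtain ⟨⟨q, hq⟩, hqc, hqz⟩ := h1
    have hqz' : (q : S) = z := congrArg Subtype.val hqz
    have hqQ : (q : S) ∈ Q := by
      rw [hQ₀, Subgroup.mem_subgroupOf] at hq; exact hq
    rw [hqz'] at hqQ
    obtain ⟨p, hp, hpz⟩ := hqQ
    rw [hcapp] at hpz
    -- p is central in P
    have hpc : ∀ p' ∈ P, p * p' = p' * p := by
      intro p' hp'
      have hmem : s * p' * s⁻¹ ∈ S₀ := hQS₀ ⟨p', hp', rfl⟩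
      have hmemQ : (⟨s * p' * s⁻¹, hmem⟩ : S₀) ∈ Q₀ := by
        rw [hQ₀, Subgroup.mem_subgroupOf]; exact ⟨p', hp', rfl⟩
      have := Subgroup.mem_center_iff.1 hqc ⟨⟨s * p' * s⁻¹, hmem⟩, hmemQ⟩
      have h3 : (s * p' * s⁻¹) * (q : S) = (q : S) * (s * p' * s⁻¹) :=
        congrArg (fun x : ↥Q₀ => ((x : S₀) : S)) this
      rw [hqz', ← hpz] at h3
      have h4 : s * (p' * p) * s⁻¹ = s * (p * p') * s⁻¹ := by
        calc s * (p' * p) * s⁻¹ = s * p' * s⁻¹ * (s * p * s⁻¹) := by group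
          _ = s * p * s⁻¹ * (s * p' * s⁻¹) := h3
          _ = s * (p * p') * s⁻¹ := by group
      exact (mul_left_cancel (mul_right_cancel h4)).symm
    rcases hzc p hp hpc with rfl | rfl
    · apply hz1
      rw [← hpz]; group
    · apply hsS₀
      rw [hS₀']
      calc s * p = (s * p * s⁻¹) * s := by group
        _ = p * s := by rw [hpz]
  obtain ⟨hA, hB, hC⟩ := Cfsg.Agent.S4400.result (h2.to_subgroup S₀) (sectional_subgroup hr S₀)
    P₀ Q₀ hP₀na hQ₀na hZP₀ hZQ₀ hne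
  -- translate back
  have hcomm : ∀ p ∈ P, ∀ p' ∈ P, p * (s * p' * s⁻¹) = (s * p' * s⁻¹) * p := by
    intro p hp p' hp'
    have hq : s * p' * s⁻¹ ∈ Q := ⟨p', hp', rfl⟩
    have h1 : (⟨p, hPS₀ hp⟩ : S₀) ∈ P₀ := by rw [hP₀, Subgroup.mem_subgroupOf]; exact hp
    have h2' : (⟨s * p' * s⁻¹, hQS₀ hq⟩ : S₀) ∈ Q₀ := by
      rw [hQ₀, Subgroup.mem_subgroupOf]; exact hq
    have h3 := Subgroup.commutator_mem_commutator h1 h2'
    rw [hA, Subgroup.mem_bot, commutatorElement_eq_one_iff_mul_comm] at h3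
    exact congrArg Subtype.val h3
  have hint : ∀ p ∈ P, ∀ p' ∈ P, p = s * p' * s⁻¹ → p = 1 := by
    intro p hp p' hp' he
    have h1 : (⟨p, hPS₀ hp⟩ : S₀) ∈ P₀ ⊓ Q₀ := by
      refine ⟨?_, ?_⟩
      · rw [hP₀]; exact Subgroup.mem_subgroupOf.2 hp
      · rw [hQ₀]; exact Subgroup.mem_subgroupOf.2 ⟨p', hp', he.symm⟩
    rw [hB, Subgroup.mem_bot] at h1
    exact congrArg Subtype.val h1
  have hcent : ∀ x ∈ S₀, (∀ p ∈ P, x * p = p * x) →
      (∀ p ∈ P, x * (s * p * s⁻¹) = (s * p * s⁻¹) * x) →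
      ∃ p ∈ P, ∃ p' ∈ P, x = p * (s * p' * s⁻¹) := by
    intro x hx hxP hxQ
    have hle : P₀ ⊔ Q₀ ≤ Subgroup.centralizer {(⟨x, hx⟩ : S₀)} := by
      apply sup_le
      · intro g hg
        rw [Subgroup.mem_centralizer_singleton_iff]
        rw [hP₀, Subgroup.mem_subgroupOf] at hg
        exact Subtype.ext (hxP _ hg).symm
      · intro g hg
        rw [Subgroup.mem_centralizer_singleton_iff]
        rw [hQ₀, Subgroup.mem_subgroupOf] at hg
        obtain ⟨p, hp, hpg⟩ := hg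
        apply Subtype.ext
        show (g : S) * x = x * (g : S)
        rw [← hpg, hcapp]
        exact (hxQ p hp).symm
    have hxc : (⟨x, hx⟩ : S₀) ∈ Subgroup.centralizer ((P₀ ⊔ Q₀ : Subgroup S₀) : Set S₀) := by
      rw [Subgroup.mem_centralizer_iff]
      intro h hh
      exact Subgroup.mem_centralizer_singleton_iff.1 (hle hh)
    have hxm := hC hxc
    have hPQn : P₀ ≤ Subgroup.normalizer (Q₀ : Set S₀) := by
      rw [Subgroup.normalizer_eq_top_iff.2 hQ₀n]; exact le_top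
    obtain ⟨a, ha, n, hn, hxan⟩ := Cfsg.Agent.Lib.Helper01.exists_mul_of_mem_sup hPQn hxm
    rw [hP₀, Subgroup.mem_subgroupOf] at ha
    rw [hQ₀, Subgroup.mem_subgroupOf] at hn
    obtain ⟨p', hp', hpn⟩ := hn
    refine ⟨a, ha, p', hp', ?_⟩
    have h5 : x = (a : S) * (n : S) := congrArg Subtype.val hxan
    rw [h5, ← hpn, hcapp]
  refine ⟨?_, ?_⟩
  · exact sectional_of_rk (rk_double (rk_of_sectional hr) P s hcomm hint)
  · exact core h2 P S₀ z s hz1 hzP hzc hzc' hP hS₀' hPn hsN hsS₀ hcomm hint hcent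

end Cfsg.Agent.S4401
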