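import Cfsg.Statements.S4405
import Cfsg.Agent.Lib.Helper32.Ord320C
import Cfsg.Agent.Lib.Helper01.PCore
import Cfsg.Agent.S0044
import Cfsg.Agent.S0144

set_option autoImplicit false
open Cfsg

namespace Cfsg.Agent.S4405

/-- Let G be a finite group of order 320 = 64·5 whose largest normal 2-subgroup H = O₂(G) equals the Fitting subgroup F(G) and is extraspecial of order 32 containing no elementary abelian subgroup of order 8 (so H is the central product of a quaternion group and a dihedral group of order 8). If T is an involution of G outside H whose centralizer in H contains an elementary abelian subgroup of order 4, then C_H(T) itself is elementary abelian of order 4. -/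
theorem result {G : Type*} [Group G] [Finite G]
    (hG : Nat.card G = 320) (hHF : Cfsg.pCore 2 G = Cfsg.fittingSubgroup G)
    (hex : Cfsg.IsExtraspecial 2 ↥(Cfsg.pCore 2 G)) (h32 : Nat.card ↥(Cfsg.pCore 2 G) = 32)
    (hminus : ∀ A : Subgroup G, A ≤ Cfsg.pCore 2 G → Cfsg.IsElementaryAbelian 2 A → Nat.card ↥A ≤ 4)
    (T : G) (hT : orderOf T = 2) (hTH : T ∉ Cfsg.pCore 2 G)
    (V : Subgroup G) (hV : V ≤ Cfsg.pCore 2 G ⊓ Subgroup.centralizer ({T} : Set G)) (hV4 : Nat.card ↥V = 4) (hVe : Cfsg.IsElementaryAbelian 2 V) :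
    Nat.card ↥(Cfsg.pCore 2 G ⊓ Subgroup.centralizer ({T} : Set G)) = 4 ∧
      Cfsg.IsElementaryAbelian 2 (Cfsg.pCore 2 G ⊓ Subgroup.centralizer ({T} : Set G)) := by
  have : Fact (Nat.Prime 2) := ⟨Nat.prime_two⟩
  have hsolv : Group.IsSolvable G :=
    Cfsg.Agent.S0144.result 2 5 6 1 Nat.prime_two (by norm_num) (by rw [hG]; norm_num)
  have hfin : Finite ↥(Cfsg.pCore 2 G) := inferInstance
  obtain ⟨z0, hz0⟩ := Cfsg.Agent.Lib.Helper32.exists_isXS_top hex
  have hcent : Subgroup.centralizer (Cfsg.pCore 2 G : Set G) ≤ Cfsg.pCore 2 G := by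
    have := Cfsg.Agent.S0044.result (G := G)
    rwa [← hHF] at this
  have S : Cfsg.Agent.Lib.Helper32.Ord320.Setup (Cfsg.pCore 2 G) (z0 : G) :=
    { xs := Cfsg.Agent.Lib.Helper32.Ord320.isXS_of_top hz0
      nrm := Cfsg.Agent.Lib.Helper01.pCore_normal 2
      cardG := hG
      cardH := h32
      cent := hcent }
  have hm : ∀ A : Subgroup G, A ≤ Cfsg.pCore 2 G → (∀ a ∈ A, ∀ b ∈ A, a * b = b * a) →
      (∀ a ∈ A, a * a = 1) → Nat.card A ≤ 4 := by
    intro A hA hAc hAs
    exact hminus A hA ⟨⟨⟨fun a b => Subtype.ext (hAc a a.2 b b.2)⟩⟩,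
      fun a ha => by rw [pow_two]; exact hAs a ha⟩
  have hVK := S.main hm hT hTH hV hV4
  rw [← hVK]
  exact ⟨hV4, hVe⟩

end Cfsg.Agent.S4405
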