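import Cfsg.Statements.S4406

set_option autoImplicit false
open Cfsg

namespace Cfsg.Agent.S4406

abbrev A4 : Type := ↥(alternatingGroup (Fin 4))

set_option maxRecDepth 100000 in
theorem fact0 : ∀ g : A4, g ^ 4 = 1 → g ^ 2 = 1 := by
  decide

set_option maxRecDepth 100000 in
theorem fact1 : ∀ a u : A4, a ≠ 1 → a ^ 3 = 1 → u ≠ 1 → u ^ 2 = 1 →
    (a * u * a⁻¹ ≠ u ∧ a * (a * u * a⁻¹) * a⁻¹ = u * (a * u * a⁻¹)) := by
  decide

set_option maxRecDepth 100000 in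
set_option synthInstance.maxSize 1000 in
set_option synthInstance.maxHeartbeats 4000000 in
theorem fact3 : ∀ b v v' : A4, b ≠ 1 → b ^ 3 = 1 → v ≠ 1 → v ^ 2 = 1 → v' ≠ 1 → v' ^ 2 = 1 → v' ≠ v →
    v' = b * v * b⁻¹ ∨ v' = b⁻¹ * v * b := by
  decide

set_option maxRecDepth 100000 in
set_option synthInstance.maxSize 1000 in
set_option synthInstance.maxHeartbeats 4000000 in
theorem fact2 : ∀ u u' h : A4, u ≠ 1 → u ^ 2 = 1 → u' ≠ 1 → u' ^ 2 = 1 → u ≠ u' → h ^ 2 = 1 →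
    h = 1 ∨ h = u ∨ h = u' ∨ h = u * u' := by
  decide

set_option maxRecDepth 100000 in
theorem fact4 : ∃ c : A4, c ≠ 1 ∧ c ^ 3 = 1 := by
  decide

theorem exists_in_sylow (Q : Sylow 3 (A4 × A4)) :
    ∃ a b : A4, a ≠ 1 ∧ a ^ 3 = 1 ∧ b ≠ 1 ∧ b ^ 3 = 1 ∧
      ((a, b) : A4 × A4) ∈ (Q : Subgroup (A4 × A4)) ∧ ((a, b⁻¹) : A4 × A4) ∈ (Q : Subgroup (A4 × A4)) := by
  obtain ⟨c, hc1, hc3⟩ := fact4
  have : Fact (Nat.Prime 3) := ⟨Nat.prime_three⟩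
  let Q0 : Subgroup (A4 × A4) := Subgroup.prod (Subgroup.zpowers c) (Subgroup.zpowers c)
  have hQ0 : IsPGroup 3 Q0 := by
    rintro ⟨⟨x, y⟩, hxy⟩
    refine ⟨1, ?_⟩
    obtain ⟨hx, hy⟩ := Subgroup.mem_prod.mp hxy
    obtain ⟨i, hi⟩ := Subgroup.mem_zpowers_iff.mp hx
    obtain ⟨j, hj⟩ := Subgroup.mem_zpowers_iff.mp hy
    simp only at hi hj
    apply Subtype.ext
    simp only [pow_one, Subgroup.coe_pow, Subgroup.coe_one, Prod.pow_mk]
    rw [← hi, ← hj, ← zpow_natCast, ← zpow_natCast, ← zpow_mul, ← zpow_mul, mul_comm i, mul_comm j,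
      zpow_mul, zpow_mul, zpow_natCast, hc3, one_zpow]
    simp
  obtain ⟨Q', hQ'⟩ := hQ0.exists_le_sylow
  obtain ⟨g, hg⟩ := MulAction.exists_smul_eq (A4 × A4) Q' Q
  have hmem : ∀ x ∈ Q0, g * x * g⁻¹ ∈ (Q : Subgroup (A4 × A4)) := by
    intro x hx
    rw [← hg, Sylow.coe_subgroup_smul]
    have := Subgroup.smul_mem_pointwise_smul x (MulAut.conj g) _ (hQ' hx)
    simpa [MulAut.smul_def] using this
  have hcc : ((c, c) : A4 × A4) ∈ Q0 :=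
    Subgroup.mem_prod.mpr ⟨Subgroup.mem_zpowers c, Subgroup.mem_zpowers c⟩
  have hcc' : ((c, c⁻¹) : A4 × A4) ∈ Q0 :=
    Subgroup.mem_prod.mpr ⟨Subgroup.mem_zpowers c, Subgroup.inv_mem _ (Subgroup.mem_zpowers c)⟩
  refine ⟨g.1 * c * g.1⁻¹, g.2 * c * g.2⁻¹, ?_, ?_, ?_, ?_, ?_, ?_⟩
  · intro h
    apply hc1
    have : c = g.1⁻¹ * (g.1 * c * g.1⁻¹) * g.1 := by group
    rw [this, h]; group
  · rw [conj_pow, hc3]; group
  · intro h
    apply hc1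
    have : c = g.2⁻¹ * (g.2 * c * g.2⁻¹) * g.2 := by group
    rw [this, h]; group
  · rw [conj_pow, hc3]; group
  · exact hmem _ hcc
  · have := hmem _ hcc'
    have e : (g.2 * c * g.2⁻¹)⁻¹ = g.2 * c⁻¹ * g.2⁻¹ := by group
    rw [e]
    exact this

theorem norm_aux (B : Subgroup (A4 × A4))
    (hB2 : ∀ x ∈ B, x.1 = 1 → x = 1) (hB1 : ∀ x ∈ B, x.2 = 1 → x = 1)
    (hBsq : ∀ x ∈ B, x.1 ^ 2 = 1 ∧ x.2 ^ 2 = 1)
    (p : A4 × A4) (hp : p ∈ B) (hp1 : p ≠ 1) (a b : A4) (ha1 : a ≠ 1) (ha3 : a ^ 3 = 1)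
    (hb1 : b ≠ 1) (hb3 : b ^ 3 = 1) (hr : ((a, b) : A4 × A4) * p * ((a, b) : A4 × A4)⁻¹ ∈ B) :
    ((a, b) : A4 × A4) ∈ Subgroup.normalizer (B : Set (A4 × A4)) := by
  obtain ⟨u, v⟩ := p
  have hu1 : u ≠ 1 := by
    intro h
    exact hp1 (hB2 _ hp h)
  have hv1 : v ≠ 1 := by
    intro h
    exact hp1 (hB1 _ hp h)
  obtain ⟨hu2, hv2⟩ := hBsq _ hp
  simp only at hu2 hv2
  have hinj : ∀ h ∈ B, ∀ k ∈ B, h.1 = k.1 → h = k := by
    intro h hh k hk hhk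
    have h1 : (h⁻¹ * k).1 = 1 := by
      simp [hhk]
    have := hB2 _ (B.mul_mem (B.inv_mem hh) hk) h1
    exact inv_mul_eq_one.mp this
  obtain ⟨hau, hau2⟩ := fact1 a u ha1 ha3 hu1 hu2
  obtain ⟨hbv, hbv2⟩ := fact1 b v hb1 hb3 hv1 hv2
  have hr' : ((a * u * a⁻¹, b * v * b⁻¹) : A4 × A4) ∈ B := by
    simpa using hr
  have hu'1 : a * u * a⁻¹ ≠ 1 := by
    intro h
    apply hu1
    have : u = a⁻¹ * (a * u * a⁻¹) * a := by group
    rw [this, h]; group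
  have hu'2 : (a * u * a⁻¹) ^ 2 = 1 := by rw [conj_pow, hu2]; group
  apply Subgroup.mem_normalizer_fintype
  intro h hh
  have hh : h ∈ B := hh
  show (a, b) * h * (a, b)⁻¹ ∈ B
  have hcase := fact2 u (a * u * a⁻¹) h.1 hu1 hu2 hu'1 hu'2 (Ne.symm hau) (hBsq h hh).1
  have hr2 : ((a, b) : A4 × A4) * (a * u * a⁻¹, b * v * b⁻¹) * ((a, b) : A4 × A4)⁻¹ ∈ B := by
    have : ((a, b) : A4 × A4) * (a * u * a⁻¹, b * v * b⁻¹) * ((a, b) : A4 × A4)⁻¹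
        = (u, v) * (a * u * a⁻¹, b * v * b⁻¹) := by
      simp only [Prod.inv_mk, Prod.mk_mul_mk]
      rw [hau2, hbv2]
    rw [this]
    exact B.mul_mem hp hr'
  rcases hcase with h1 | h1 | h1 | h1
  · have : h = 1 := hinj h hh 1 B.one_mem (by simpa using h1)
    rw [this]
    have e : ((a, b) : A4 × A4) * 1 * ((a, b) : A4 × A4)⁻¹ = 1 := by group
    rw [e]
    exact B.one_mem
  · have : h = (u, v) := hinj h hh _ hp (by simpa using h1)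
    rw [this]
    exact hr
  · have : h = (a * u * a⁻¹, b * v * b⁻¹) := hinj h hh _ hr' (by simpa using h1)
    rw [this]
    exact hr2
  · have : h = (u, v) * (a * u * a⁻¹, b * v * b⁻¹) := hinj h hh _ (B.mul_mem hp hr') (by simpa using h1)
    rw [this]
    have e : ((a, b) : A4 × A4) * ((u, v) * (a * u * a⁻¹, b * v * b⁻¹)) * ((a, b) : A4 × A4)⁻¹
        = (((a, b) : A4 × A4) * (u, v) * ((a, b) : A4 × A4)⁻¹) *
          (((a, b) : A4 × A4) * (a * u * a⁻¹, b * v * b⁻¹) * ((a, b) : A4 × A4)⁻¹) := by group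
    rw [e]
    exact B.mul_mem hr hr2

theorem finish (Q : Sylow 3 (A4 × A4)) (B : Subgroup (A4 × A4)) (a b : A4)
    (ha1 : a ≠ 1) (ha3 : a ^ 3 = 1) (hb1 : b ≠ 1) (hb3 : b ^ 3 = 1)
    (hab : ((a, b) : A4 × A4) ∈ (Q : Subgroup (A4 × A4)))
    (hN : ((a, b) : A4 × A4) ∈ Subgroup.normalizer (B : Set (A4 × A4))) :
    ∃ R : Subgroup (A4 × A4), R ≤ (Q : Subgroup _) ∧ Nat.card ↥R = 3 ∧
        R ≠ (Q : Subgroup _) ⊓ Subgroup.prod ⊤ ⊥ ∧ R ≠ (Q : Subgroup _) ⊓ Subgroup.prod ⊥ ⊤ ∧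
        R ≤ Subgroup.normalizer (B : Set _) := by
  refine ⟨Subgroup.zpowers ((a, b) : A4 × A4), (Subgroup.zpowers_le).mpr hab, ?_, ?_, ?_,
    (Subgroup.zpowers_le).mpr hN⟩
  · rw [Nat.card_zpowers]
    have : Fact (Nat.Prime 3) := ⟨Nat.prime_three⟩
    apply orderOf_eq_prime
    · simp [ha3, hb3]
    · intro h
      apply ha1
      have := congrArg Prod.fst h
      simpa using this
  · intro h
    have hm : ((a, b) : A4 × A4) ∈ Subgroup.zpowers ((a, b) : A4 × A4) := Subgroup.mem_zpowers _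
    rw [h] at hm
    have := (Subgroup.mem_prod.mp hm.2).2
    exact hb1 (Subgroup.mem_bot.mp this)
  · intro h
    have hm : ((a, b) : A4 × A4) ∈ Subgroup.zpowers ((a, b) : A4 × A4) := Subgroup.mem_zpowers _
    rw [h] at hm
    have := (Subgroup.mem_prod.mp hm.2).1
    exact ha1 (Subgroup.mem_bot.mp this)

theorem result
    (X : Sylow 2 (↥(alternatingGroup (Fin 4)) × ↥(alternatingGroup (Fin 4))))
    (Q : Sylow 3 (↥(alternatingGroup (Fin 4)) × ↥(alternatingGroup (Fin 4))))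
    (B : Subgroup (↥(alternatingGroup (Fin 4)) × ↥(alternatingGroup (Fin 4)))) (hBX : B ≤ (X : Subgroup _)) (hB4 : Nat.card ↥B = 4) :
    B ⊓ ((X : Subgroup _) ⊓ Subgroup.prod ⊤ ⊥) ≠ ⊥ ∨ B ⊓ ((X : Subgroup _) ⊓ Subgroup.prod ⊥ ⊤) ≠ ⊥ ∨
      ∃ R : Subgroup (↥(alternatingGroup (Fin 4)) × ↥(alternatingGroup (Fin 4))), R ≤ (Q : Subgroup _) ∧ Nat.card ↥R = 3 ∧
        R ≠ (Q : Subgroup _) ⊓ Subgroup.prod ⊤ ⊥ ∧ R ≠ (Q : Subgroup _) ⊓ Subgroup.prod ⊥ ⊤ ∧ R ≤ Subgroup.normalizer (B : Set _) := by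
  by_cases h1 : B ⊓ ((X : Subgroup _) ⊓ Subgroup.prod ⊤ ⊥) = ⊥
  swap
  · exact Or.inl h1
  by_cases h2 : B ⊓ ((X : Subgroup _) ⊓ Subgroup.prod ⊥ ⊤) = ⊥
  swap
  · exact Or.inr (Or.inl h2)
  right; right
  have hB1 : ∀ x ∈ B, x.2 = 1 → x = 1 := by
    intro x hx hx2
    have : x ∈ B ⊓ ((X : Subgroup _) ⊓ Subgroup.prod ⊤ ⊥) :=
      ⟨hx, hBX hx, Subgroup.mem_prod.mpr ⟨Subgroup.mem_top _, Subgroup.mem_bot.mpr hx2⟩⟩
    rw [h1] at this
    exact Subgroup.mem_bot.mp this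
  have hB2 : ∀ x ∈ B, x.1 = 1 → x = 1 := by
    intro x hx hx1
    have : x ∈ B ⊓ ((X : Subgroup _) ⊓ Subgroup.prod ⊥ ⊤) :=
      ⟨hx, hBX hx, Subgroup.mem_prod.mpr ⟨Subgroup.mem_bot.mpr hx1, Subgroup.mem_top _⟩⟩
    rw [h2] at this
    exact Subgroup.mem_bot.mp this
  have hBsq : ∀ x ∈ B, x.1 ^ 2 = 1 ∧ x.2 ^ 2 = 1 := by
    intro x hx
    have h4 : (⟨x, hx⟩ : B) ^ Nat.card B = 1 := pow_card_eq_one'
    rw [hB4] at h4
    have h4' : x ^ 4 = 1 := by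
      have := congrArg Subtype.val h4
      simpa using this
    have h41 : x.1 ^ 4 = 1 := by
      have := congrArg Prod.fst h4'
      simpa using this
    have h42 : x.2 ^ 4 = 1 := by
      have := congrArg Prod.snd h4'
      simpa using this
    exact ⟨fact0 _ h41, fact0 _ h42⟩
  -- pick a nonidentity element of B
  obtain ⟨p, hp, hp1⟩ : ∃ p ∈ B, p ≠ 1 := by
    by_contra hcon
    push Not at hcon
    have : B = ⊥ := (Subgroup.eq_bot_iff_forall B).mpr hcon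
    rw [this] at hB4
    simp at hB4
  obtain ⟨a, b, ha1, ha3, hb1, hb3, hab, hab'⟩ := exists_in_sylow Q
  obtain ⟨u, v⟩ := p
  have hu1 : u ≠ 1 := by
    intro h
    exact hp1 (hB2 _ hp h)
  have hv1 : v ≠ 1 := by
    intro h
    exact hp1 (hB1 _ hp h)
  obtain ⟨hu2, hv2⟩ := hBsq _ hp
  simp only at hu2 hv2
  have hinj : ∀ h ∈ B, ∀ k ∈ B, h.1 = k.1 → h = k := by
    intro h hh k hk hhk
    have h1 : (h⁻¹ * k).1 = 1 := by
      simp [hhk]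
    have := hB2 _ (B.mul_mem (B.inv_mem hh) hk) h1
    exact inv_mul_eq_one.mp this
  have hinj2 : ∀ h ∈ B, ∀ k ∈ B, h.2 = k.2 → h = k := by
    intro h hh k hk hhk
    have h1 : (h⁻¹ * k).2 = 1 := by
      simp [hhk]
    have := hB1 _ (B.mul_mem (B.inv_mem hh) hk) h1
    exact inv_mul_eq_one.mp this
  -- a third element
  obtain ⟨p', hp', hp'1, hp'p⟩ : ∃ p' ∈ B, p' ≠ 1 ∧ p' ≠ (u, v) := by
    let _ : Fintype B := Fintype.ofFinite B
    have h3 : 2 < Fintype.card B := by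
      rw [← Nat.card_eq_fintype_card, hB4]; norm_num
    obtain ⟨x, y, z, hxy, hxz, hyz⟩ := Fintype.two_lt_card_iff.mp h3
    by_contra hcon
    push Not at hcon
    have hx := hcon x x.2
    have hy := hcon y y.2
    have hz := hcon z z.2
    have ex : ∀ w : B, (w : A4 × A4) = 1 ∨ (w : A4 × A4) = (u, v) := by
      intro w
      by_cases hw : (w : A4 × A4) = 1
      · exact Or.inl hw
      · exact Or.inr (hcon w w.2 hw)
    rcases ex x with h | h <;> rcases ex y with h' | h' <;> rcases ex z with h'' | h''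
    all_goals first
      | exact hxy (Subtype.ext (h.trans h'.symm))
      | exact hxz (Subtype.ext (h.trans h''.symm))
      | exact hyz (Subtype.ext (h'.trans h''.symm))
  obtain ⟨u', v'⟩ := p'
  have hu'1 : u' ≠ 1 := by
    intro h
    exact hp'1 (hB2 _ hp' h)
  have hu'u : u ≠ u' := by
    intro h
    exact hp'p (hinj _ hp' _ hp h.symm)
  obtain ⟨hu'2, hv'2⟩ := hBsq _ hp'
  simp only at hu'2 hv'2
  obtain ⟨hau, hau2⟩ := fact1 a u ha1 ha3 hu1 hu2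
  have hau1 : a * u * a⁻¹ ≠ 1 := by
    intro h
    apply hu1
    have : u = a⁻¹ * (a * u * a⁻¹) * a := by group
    rw [this, h]; group
  have hausq : (a * u * a⁻¹) ^ 2 = 1 := by rw [conj_pow, hu2]; group
  obtain ⟨w, hw, hw1⟩ : ∃ w ∈ B, w.1 = a * u * a⁻¹ := by
    rcases fact2 u u' (a * u * a⁻¹) hu1 hu2 hu'1 hu'2 hu'u hausq with h | h | h | h
    · exact absurd h hau1
    · exact absurd h hau
    · exact ⟨_, hp', h.symm⟩
    · exact ⟨_, B.mul_mem hp hp', h.symm⟩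
  obtain ⟨w1, w2⟩ := w
  simp only at hw1
  subst hw1
  have hw21 : w2 ≠ 1 := by
    intro h
    have := hB1 _ hw h
    exact hau1 (congrArg Prod.fst this)
  have hw2v : w2 ≠ v := by
    intro h
    have := hinj2 _ hw _ hp h
    exact hau (congrArg Prod.fst this)
  have hw2sq : w2 ^ 2 = 1 := (hBsq _ hw).2
  rcases fact3 b v w2 hb1 hb3 hv1 hv2 hw21 hw2sq hw2v with h | h
  · subst h
    apply finish Q B a b ha1 ha3 hb1 hb3 hab
    apply norm_aux B hB2 hB1 hBsq (u, v) hp hp1 a b ha1 ha3 hb1 hb3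
    exact hw
  · subst h
    have hb1' : b⁻¹ ≠ 1 := by simpa using hb1
    have hb3' : b⁻¹ ^ 3 = 1 := by rw [inv_pow, hb3, inv_one]
    apply finish Q B a b⁻¹ ha1 ha3 hb1' hb3' hab'
    apply norm_aux B hB2 hB1 hBsq (u, v) hp hp1 a b⁻¹ ha1 ha3 hb1' hb3'
    simpa using hw

end Cfsg.Agent.S4406
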