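import Cfsg.Statements.S4407
import Cfsg.Agent.Lib.Helper83.NineD8c

set_option autoImplicit false
open Cfsg

namespace Cfsg.Agent.S4407

open Cfsg.Agent.Lib.Helper83.NineD8

/-- Let S be a finite group with a normal elementary abelian subgroup A of order 9 that is self-centralizing (C_S(A) = A), and a dihedral subgroup X of order 8 with S = AX. Let M be a finite-dimensional module for S over the field with two elements that is faithful and irreducible. Then M has 16 elements, and X contains exactly one subgroup B of order 4 and exponent 2 whose fixed points on M form a subspace with exactly 2 elements (equivalently, M is free of rank one over the group algebra of B). -/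
theorem result {S : Type*} [Group S] [Finite S]
    (A : Subgroup S) [A.Normal] (hA : Cfsg.IsElementaryAbelian 3 A) (hA9 : Nat.card ↥A = 9)
    (hAC : Subgroup.centralizer (A : Set S) = A) (X : Subgroup S) (hX : Nonempty (↥X ≃* DihedralGroup 4)) (hAX : A ⊔ X = ⊤)
    {M : Type*} [AddCommGroup M] [Module (ZMod 2) M] [Finite M] (ρ : Representation (ZMod 2) S M)
    (hfaith : Function.Injective ρ)
    (hirr : ∀ N : Submodule (ZMod 2) M, (∀ s : S, ∀ m ∈ N, ρ s m ∈ N) → N = ⊥ ∨ N = ⊤) (hM : Nontrivial M) :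
    Nat.card M = 16 ∧
      ∃! B : Subgroup S, B ≤ X ∧ Nat.card ↥B = 4 ∧ (∀ b ∈ B, b ^ 2 = 1) ∧
        Nat.card {m : M // ∀ b ∈ B, ρ b m = m} = 2 := by
  classical
  obtain ⟨e⟩ := hX
  have hcomm : ∀ x ∈ A, ∀ y ∈ A, x * y = y * x := by
    intro x hx y hy
    have := hA.1.is_comm.comm ⟨x, hx⟩ ⟨y, hy⟩
    exact congrArg Subtype.val this
  have hexp : ∀ x ∈ A, x ^ 3 = 1 := hA.2
  have hconj : ∀ g x, x ∈ A → g * x * g⁻¹ ∈ A := fun g x hx => ‹A.Normal›.conj_mem x hx g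
  -- the embedding of the dihedral group
  let ψ : DihedralGroup 4 →* S := X.subtype.comp e.symm.toMonoidHom
  have hψ : Function.Injective ψ := by
    intro x y hxy
    exact e.symm.injective (Subtype.ext hxy)
  have hψX : ∀ d, ψ d ∈ X := fun d => (e.symm d).2
  have hXψ : ∀ x ∈ X, ∃ d, ψ d = x := fun x hx => ⟨e ⟨x, hx⟩, by simp [ψ]⟩
  have hrange : ψ.range = X := by
    ext x
    constructor
    · rintro ⟨d, rfl⟩
      exact hψX d
    · intro hx
      obtain ⟨d, hd⟩ := hXψ x hx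
      exact ⟨d, hd⟩
  obtain ⟨d1, d2, d3, d4, d5, d6, d7, d8, d9⟩ := d4_rel
  obtain ⟨r, hr⟩ : ∃ r : S, r = ψ (DihedralGroup.r 1) := ⟨_, rfl⟩
  obtain ⟨t, ht⟩ : ∃ t : S, t = ψ (DihedralGroup.sr 0) := ⟨_, rfl⟩
  have hr4 : r ^ 4 = 1 := by rw [hr, ← map_pow, d1, map_one]
  have ht2 : t ^ 2 = 1 := by rw [ht, ← map_pow, d2, map_one]
  have htr : t * r * t⁻¹ = r⁻¹ := by
    rw [hr, ht, ← map_inv, ← map_mul, ← map_mul, d3, map_inv]
  have hz1 : r ^ 2 ≠ 1 := by
    intro h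
    apply d4
    apply hψ
    rw [map_pow, map_one, ← hr]
    exact h
  have htz1 : t * r ^ 2 ≠ 1 := by
    intro h
    apply d5
    apply hψ
    rw [map_mul, map_pow, map_one, ← hr, ← ht]
    exact h
  have hrX : r ∈ X := hr ▸ hψX _
  have htX : t ∈ X := ht ▸ hψX _
  have hzX : r ^ 2 ∈ X := X.pow_mem hrX 2
  have hz2 : (r ^ 2) ^ 2 = 1 := by
    rw [← pow_mul]
    exact hr4
  -- `X ∩ A = 1`
  have hXA : ∀ x, x ∈ A → x ∈ X → x = 1 := by
    intro x hxA hxX
    obtain ⟨d, rfl⟩ := hXψ x hxX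
    have h8 : (ψ d) ^ 8 = 1 := by rw [← map_pow, pow8, map_one]
    have h3 : (ψ d) ^ 3 = 1 := hexp _ hxA
    have h9 : (ψ d) ^ 9 = 1 := by rw [show 9 = 3 * 3 from rfl, pow_mul, h3, one_pow]
    rw [pow_succ, h8, one_mul] at h9
    exact h9
  have hcent : ∀ g, g ∈ X → (∀ x ∈ A, g * x * g⁻¹ = x) → g = 1 := by
    intro g hgX hg
    apply hXA g _ hgX
    rw [← hAC, Subgroup.mem_centralizer_iff]
    intro x hx
    have := hg x hx
    rw [mul_inv_eq_iff_eq_mul] at this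
    exact this.symm
  -- the central involution inverts `A`
  have hzinv : ∀ x ∈ A, r ^ 2 * x * (r ^ 2)⁻¹ = x⁻¹ := by
    by_contra hne
    push Not at hne
    obtain ⟨a₀, ha₀, hne⟩ := hne
    obtain ⟨z, hz⟩ : ∃ z : S, z = r ^ 2 := ⟨_, rfl⟩
    rw [← hz] at hne hz2 hzX hz1
    have hu1 : a₀ * (z * a₀ * z⁻¹) ≠ 1 := by
      intro h
      exact hne (eq_inv_of_mul_eq_one_right h)
    have huA : a₀ * (z * a₀ * z⁻¹) ∈ A := A.mul_mem ha₀ (hconj _ _ ha₀)
    have hzu : z * (a₀ * (z * a₀ * z⁻¹)) * z⁻¹ = a₀ * (z * a₀ * z⁻¹) :=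
      conj_fix hz2 (hcomm _ (hconj _ _ ha₀) _ ha₀)
    have hnc : ¬ ∀ x ∈ A, z * x * z⁻¹ = x := fun h => hz1 (hcent z hzX h)
    push Not at hnc
    obtain ⟨a₁, ha₁, hne1⟩ := hnc
    have hcA : a₁ * (z * a₁ * z⁻¹)⁻¹ ∈ A := A.mul_mem ha₁ (A.inv_mem (hconj _ _ ha₁))
    have hc1 : a₁ * (z * a₁ * z⁻¹)⁻¹ ≠ 1 := by
      intro h
      exact hne1 (mul_inv_eq_one.1 h).symm
    have hzc := conj_inv (g := z) (a₁ := a₁) hz2
    obtain ⟨c, hc⟩ : ∃ c, c = a₁ * (z * a₁ * z⁻¹)⁻¹ := ⟨_, rfl⟩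
    rw [← hc] at hcA hc1 hzc
    have hc'A : r * c * r⁻¹ ∈ A := hconj _ _ hcA
    have hzc' : z * (r * c * r⁻¹) * z⁻¹ = (r * c * r⁻¹)⁻¹ := by
      calc z * (r * c * r⁻¹) * z⁻¹ = r * (z * c * z⁻¹) * r⁻¹ := by rw [hz]; group
        _ = r * c⁻¹ * r⁻¹ := by rw [hzc]
        _ = (r * c * r⁻¹)⁻¹ := by group
    have hzc_alt : z * c * z⁻¹ = r * (r * c * r⁻¹) * r⁻¹ := by
      rw [hz, pow_two]
      group
    by_cases hcc : r * c * r⁻¹ ∈ Subgroup.zpowers c
    · rcases mem_zpowers_order3 (hexp c hcA) hcc with h | h | h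
      · exact hc1 (conj_eq_one_iff.1 h)
      · have h' : z * c * z⁻¹ = c := by rw [hzc_alt, h, h]
        rw [hzc] at h'
        exact hc1 (eq_one_of_inv_eq (hexp c hcA) h')
      · have h' : z * c * z⁻¹ = c := by
          rw [hzc_alt, h]
          calc r * c⁻¹ * r⁻¹ = (r * c * r⁻¹)⁻¹ := by group
            _ = c := by rw [h, inv_inv]
        rw [hzc] at h'
        exact hc1 (eq_one_of_inv_eq (hexp c hcA) h')
    · have hcl := le_closure_pair A hA9 c (r * c * r⁻¹) hcA hc'A hc1 (hexp c hcA) hcc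
      have hI : Subgroup.closure {c, r * c * r⁻¹} ≤ invSub A hcomm z :=
        (Subgroup.closure_le _).2 (by
          intro y hy
          rcases hy with rfl | rfl
          · exact ⟨hcA, hzc⟩
          · exact ⟨hc'A, hzc'⟩)
      have h' := (hI (hcl huA)).2
      rw [hzu] at h'
      exact hu1 (eq_one_of_inv_eq (hexp _ huA) h'.symm)
  -- a nontrivial element of `A` centralised by `t`
  have hnt : ¬ ∀ x ∈ A, t * x * t⁻¹ = x⁻¹ := by
    intro h
    apply htz1
    apply hcent _ (X.mul_mem htX hzX)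
    intro x hx
    calc t * r ^ 2 * x * (t * r ^ 2)⁻¹ = t * (r ^ 2 * x * (r ^ 2)⁻¹) * t⁻¹ := by group
      _ = t * x⁻¹ * t⁻¹ := by rw [hzinv x hx]
      _ = (t * x * t⁻¹)⁻¹ := by group
      _ = x := by rw [h x hx, inv_inv]
  push Not at hnt
  obtain ⟨a₀, ha₀, hne⟩ := hnt
  obtain ⟨a, ha⟩ : ∃ a, a = a₀ * (t * a₀ * t⁻¹) := ⟨_, rfl⟩
  have haA : a ∈ A := by
    rw [ha]
    exact A.mul_mem ha₀ (hconj _ _ ha₀)
  have ha1 : a ≠ 1 := by
    rw [ha]
    intro h
    exact hne (eq_inv_of_mul_eq_one_right h)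
  have hta : t * a * t⁻¹ = a := by
    rw [ha]
    exact conj_fix ht2 (hcomm _ (hconj _ _ ha₀) _ ha₀)
  -- `C_M(A) = 0`
  have hCA : ∀ m, (∀ x ∈ A, ρ x m = m) → m = 0 := by
    let CM : Submodule (ZMod 2) M :=
      { carrier := {m | ∀ x ∈ A, ρ x m = m}
        add_mem' := by
          intro u v hu hv x hx
          rw [map_add, hu x hx, hv x hx]
        zero_mem' := by
          intro x hx
          simp
        smul_mem' := by
          intro c u hu x hx
          rw [map_smul, hu x hx] }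
    have hinv : ∀ s : S, ∀ m ∈ CM, ρ s m ∈ CM := by
      intro s m hm x hx
      have h1 : x * s = s * (s⁻¹ * x * s) := by group
      rw [← act_mul, h1, act_mul, hm _ (‹A.Normal›.conj_mem' x hx s)]
    rcases hirr CM hinv with h | h
    · intro m hm
      have : m ∈ CM := hm
      rw [h] at this
      simpa using this
    · exfalso
      apply ha1
      apply hfaith
      ext m
      have : m ∈ CM := by
        rw [h]
        trivial
      rw [this a haA, map_one]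
      rfl
  -- irreducibility in terms of generators
  have hgen1 : ∀ N : Submodule (ZMod 2) M, (∀ x ∈ A, ∀ m ∈ N, ρ x m ∈ N) →
      (∀ m ∈ N, ρ r m ∈ N) → (∀ m ∈ N, ρ t m ∈ N) → N = ⊥ ∨ N = ⊤ := by
    intro N hNA hNr hNt
    apply hirr
    have hXs : X ≤ stab ρ N := by
      intro x hx
      obtain ⟨d, rfl⟩ := hXψ x hx
      have h1 : Subgroup.closure
          ({DihedralGroup.r 1, DihedralGroup.sr 0} : Set (DihedralGroup 4)) ≤
          (stab ρ N).comap ψ := (Subgroup.closure_le _).2 (by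
        intro y hy
        rcases hy with rfl | rfl
        · show ψ (DihedralGroup.r 1) ∈ stab ρ N
          rw [← hr]
          exact mem_stab_of_forall ρ hNr
        · show ψ (DihedralGroup.sr 0) ∈ stab ρ N
          rw [← ht]
          exact mem_stab_of_forall ρ hNt)
      exact h1 (d4_gen d)
    have hAs : A ≤ stab ρ N := fun x hx => mem_stab_of_forall ρ (hNA x hx)
    have htop : (⊤ : Subgroup S) ≤ stab ρ N := hAX ▸ sup_le hAs hXs
    intro s m hm
    exact ((mem_stab ρ).1 (htop (Subgroup.mem_top s)) m).2 hm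
  have hrrr : r * r * r * r = 1 := by rw [← hr4, pow_succ, pow_succ, pow_two]
  have hgen2 : ∀ N : Submodule (ZMod 2) M, (∀ x ∈ A, ∀ m ∈ N, ρ x m ∈ N) →
      (∀ m ∈ N, ρ r m ∈ N) → (∀ m ∈ N, ρ (t * r) m ∈ N) → N = ⊥ ∨ N = ⊤ := by
    intro N hNA hNr hNtr
    apply hgen1 N hNA hNr
    intro m hm
    have h1 : ρ t m = ρ (t * r) (ρ r (ρ r (ρ r m))) := by
      rw [← act_mul, ← act_mul, ← act_mul]
      have : t * r * r * r * r = t := by
        rw [mul_assoc t, mul_assoc t, mul_assoc t, hrrr, mul_one]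
      rw [this]
    rw [h1]
    exact hNtr _ (hNr _ (hNr _ (hNr _ hm)))
  -- the two four-groups
  have hB1X : T1.map ψ ≤ X := by
    rw [← hrange]
    exact Subgroup.map_le_range ψ T1
  have hB2X : T2.map ψ ≤ X := by
    rw [← hrange]
    exact Subgroup.map_le_range ψ T2
  have hB1c : Nat.card (T1.map ψ) = 4 := by rw [Subgroup.card_map_of_injective hψ, card_T1]
  have hB2c : Nat.card (T2.map ψ) = 4 := by rw [Subgroup.card_map_of_injective hψ, card_T2]
  have hcls : ∀ B : Subgroup S, B ≤ X → Nat.card B = 4 → (∀ b ∈ B, b ^ 2 = 1) →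
      B = T1.map ψ ∨ B = T2.map ψ := fun B hBX h4 h2 =>
    classify_push ψ hψ B (hrange ▸ hBX) h4 h2
  have hf1 : ∀ m, (∀ b ∈ T1.map ψ, ρ b m = m) ↔ (ρ (r ^ 2) m = m ∧ ρ t m = m) := by
    intro m
    rw [hr, ht]
    exact fix_T1 ψ ρ m
  have hf2 : ∀ m, (∀ b ∈ T2.map ψ, ρ b m = m) ↔ (ρ (r ^ 2) m = m ∧ ρ (t * r) m = m) := by
    intro m
    rw [hr, ht]
    exact fix_T2 ψ ρ m
  have hc1 : Nat.card {m : M // ∀ b ∈ T1.map ψ, ρ b m = m} =
      Nat.card {m : M // ρ (r ^ 2) m = m ∧ ρ t m = m} :=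
    Nat.card_congr (Equiv.subtypeEquivRight hf1)
  have hc2 : Nat.card {m : M // ∀ b ∈ T2.map ψ, ρ b m = m} =
      Nat.card {m : M // ρ (r ^ 2) m = m ∧ ρ (t * r) m = m} :=
    Nat.card_congr (Equiv.subtypeEquivRight hf2)
  -- first attempt
  rcases mid A hcomm hexp hA9 ρ r t a hr4 ht2 htr hzinv haA ha1 hta hgen1 hCA with
    ⟨hFa, hFb⟩ | ⟨h16, h4, h2⟩
  · -- second tuple
    obtain ⟨b, hb⟩ : ∃ b, b = r * a * r⁻¹ := ⟨_, rfl⟩
    rw [← hb] at hFb
    have hbA : b ∈ A := by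
      rw [hb]
      exact hconj _ _ haA
    have hrb : r * b * r⁻¹ = a⁻¹ := by
      rw [← hzinv a haA, hb, pow_two]
      group
    have hz' : ∀ x ∈ A, (r ^ 2)⁻¹ * x * r ^ 2 = x⁻¹ := by
      intro x hx
      have h := hzinv x⁻¹ (A.inv_mem hx)
      rw [inv_inv] at h
      calc (r ^ 2)⁻¹ * x * r ^ 2 = (r ^ 2)⁻¹ * (r ^ 2 * x⁻¹ * (r ^ 2)⁻¹) * r ^ 2 := by rw [h]
        _ = x⁻¹ := by group
    have htb : t * b * t⁻¹ = b⁻¹ := by
      calc t * b * t⁻¹ = (t * r * t⁻¹) * (t * a * t⁻¹) * (t * r * t⁻¹)⁻¹ := by rw [hb]; group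
        _ = r⁻¹ * a * r⁻¹⁻¹ := by rw [htr, hta]
        _ = (r ^ 2)⁻¹ * (r * a * r⁻¹) * r ^ 2 := by group
        _ = (r * a * r⁻¹)⁻¹ := hz' _ (hb ▸ hbA)
        _ = b⁻¹ := by rw [hb]
    have hab_ne : a ≠ b := by
      intro h
      have h1 : t * b * t⁻¹ = b := by rw [← h]; exact hta
      rw [htb] at h1
      exact ha1 (h ▸ eq_one_of_inv_eq (hexp b hbA) h1)
    have ht'2 : (t * r) ^ 2 = 1 := by
      rw [pow_two]
      calc t * r * (t * r) = t * (r * t * r) := by simp only [mul_assoc]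
        _ = t * t := by rw [conj_inv_rel htr]
        _ = 1 := by rw [← pow_two, ht2]
    have ht'r : t * r * r * (t * r)⁻¹ = r⁻¹ := by
      calc t * r * r * (t * r)⁻¹ = t * r * t⁻¹ := by group
        _ = r⁻¹ := htr
    have ha'A : a * b⁻¹ ∈ A := A.mul_mem haA (A.inv_mem hbA)
    have ha'1 : a * b⁻¹ ≠ 1 := by
      intro h
      exact hab_ne (mul_inv_eq_one.1 h)
    have hta' : t * r * (a * b⁻¹) * (t * r)⁻¹ = a * b⁻¹ := by
      have h1 : t * a⁻¹ * t⁻¹ = a⁻¹ := by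
        calc t * a⁻¹ * t⁻¹ = (t * a * t⁻¹)⁻¹ := by group
          _ = a⁻¹ := by rw [hta]
      calc t * r * (a * b⁻¹) * (t * r)⁻¹
          = (t * (r * a * r⁻¹) * t⁻¹) * (t * (r * b * r⁻¹) * t⁻¹)⁻¹ := by group
        _ = b⁻¹ * (a⁻¹)⁻¹ := by rw [← hb, hrb, htb, h1]
        _ = b⁻¹ * a := by rw [inv_inv]
        _ = a * b⁻¹ := hcomm _ (A.inv_mem hbA) _ haA
    have hrab : r * (a * b⁻¹) * r⁻¹ = a * b := by
      calc r * (a * b⁻¹) * r⁻¹ = (r * a * r⁻¹) * (r * b * r⁻¹)⁻¹ := by group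
        _ = b * a := by rw [← hb, hrb, inv_inv]
        _ = a * b := hcomm _ hbA _ haA
    rcases mid A hcomm hexp hA9 ρ r (t * r) (a * b⁻¹) hr4 ht'2 ht'r hzinv ha'A ha'1 hta' hgen2
        hCA with ⟨-, hFab⟩ | ⟨h16, h4, h2⟩
    · exfalso
      rw [hrab] at hFab
      have ha3 : ∀ m, ρ a (ρ a (ρ a m)) = m := by
        intro m
        rw [← act_mul, ← act_mul]
        have : a * a * a = 1 := by rw [← hexp a haA, pow_succ, pow_two]
        rw [this, act_one]
      have hb3 : ∀ m, ρ b (ρ b (ρ b m)) = m := by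
        intro m
        rw [← act_mul, ← act_mul]
        have : b * b * b = 1 := by rw [← hexp b hbA, pow_succ, pow_two]
        rw [this, act_one]
      have hab : ∀ m, ρ a (ρ b m) = ρ b (ρ a m) := by
        intro m
        rw [← act_mul, ← act_mul, hcomm a haA b hbA]
      have heq := eq_of_three_fix_trivial (ρ a) (ρ b) hab ha3 hb3 hFa hFb
        (fun m hm => hFab m (by rw [act_mul]; exact hm))
      apply hab_ne
      apply hfaith
      ext m
      exact heq m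
    · have hiff : ∀ m, (ρ (r ^ 2) m = m ∧ ρ t m = m) ↔
          (ρ (r ^ 2) m = m ∧ ρ (t * r * r) m = m) := by
        intro m
        constructor
        · rintro ⟨hz, ht⟩
          refine ⟨hz, ?_⟩
          rw [mul_assoc, ← pow_two, act_mul, hz, ht]
        · rintro ⟨hz, htrr⟩
          refine ⟨hz, ?_⟩
          rw [mul_assoc, ← pow_two, act_mul, hz] at htrr
          exact htrr
      have h2' : Nat.card {m : M // ρ (r ^ 2) m = m ∧ ρ t m = m} = 2 := by
        rw [Nat.card_congr (Equiv.subtypeEquivRight hiff)]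
        exact h2
      refine ⟨h16, T1.map ψ, ⟨hB1X, hB1c, sq_map_T1 ψ, by rw [hc1]; exact h2'⟩, ?_⟩
      rintro B ⟨hBX, hB4, hBe, hBf⟩
      rcases hcls B hBX hB4 hBe with rfl | rfl
      · rfl
      · exfalso
        rw [hc2, h4] at hBf
        norm_num at hBf
  · refine ⟨h16, T2.map ψ, ⟨hB2X, hB2c, sq_map_T2 ψ, by rw [hc2]; exact h2⟩, ?_⟩
    rintro B ⟨hBX, hB4, hBe, hBf⟩
    rcases hcls B hBX hB4 hBe with rfl | rfl
    · exfalso
      rw [hc1, h4] at hBf
      norm_num at hBf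
    · rfl

end Cfsg.Agent.S4407
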