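import Cfsg.Statements.S4408
import Cfsg.Agent.Lib.Helper39.EigenInv
import Cfsg.Agent.Lib.Helper28.FittingCent
import Cfsg.Agent.Lib.Helper58.ProductFormula

set_option autoImplicit false
open Cfsg

namespace Cfsg.Agent.S4408

open Cfsg.Agent.Lib
open Cfsg.Agent.Lib.Helper39

theorem relIndex_mul_card_of_le' {G : Type*} [Group G] {H K : Subgroup G} (h : H ≤ K) :
    H.relIndex K * Nat.card H = Nat.card K := by
  have h1 := Subgroup.card_mul_index (H.subgroupOf K)
  rw [Nat.card_congr (Subgroup.subgroupOfEquivOfLe h).toEquiv] at h1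
  rw [Subgroup.relIndex, mul_comm]
  exact h1

theorem centralizer_sup_eq {G : Type*} [Group G] (B A : Subgroup G) :
    Subgroup.centralizer ((B ⊔ A : Subgroup G) : Set G) =
      Subgroup.centralizer (B : Set G) ⊓ Subgroup.centralizer (A : Set G) := by
  apply le_antisymm
  · exact le_inf (Subgroup.centralizer_le (by exact_mod_cast (le_sup_left : B ≤ B ⊔ A)))
      (Subgroup.centralizer_le (by exact_mod_cast (le_sup_right : A ≤ B ⊔ A)))
  · intro x hx
    obtain ⟨hxB, hxA⟩ := Subgroup.mem_inf.1 hx
    have h1 : Subgroup.zpowers x ≤ Subgroup.centralizer (B : Set G) :=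
      (Subgroup.zpowers_le).2 hxB
    have h2 : Subgroup.zpowers x ≤ Subgroup.centralizer (A : Set G) :=
      (Subgroup.zpowers_le).2 hxA
    have h3 : B ⊔ A ≤ Subgroup.centralizer ((Subgroup.zpowers x : Subgroup G) : Set G) :=
      sup_le (Subgroup.le_centralizer_iff.1 h1) (Subgroup.le_centralizer_iff.1 h2)
    exact (Subgroup.le_centralizer_iff.1 h3) (Subgroup.mem_zpowers x)

theorem iSup_fin_succ_eq {G : Type*} [Group G] (g : ℕ → Subgroup G) (j : ℕ) :
    (⨆ i : Fin (j + 1), g i) = (⨆ i : Fin j, g i) ⊔ g j := by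
  apply le_antisymm
  · apply iSup_le
    intro i
    rcases Nat.lt_succ_iff_lt_or_eq.1 i.2 with h | h
    · exact le_sup_of_le_left (le_iSup (fun i : Fin j => g i) ⟨i.1, h⟩)
    · rw [h]; exact le_sup_right
  · apply sup_le
    · apply iSup_le
      intro i
      exact le_iSup (fun i : Fin (j + 1) => g i) i.castSucc
    · exact le_iSup (fun i : Fin (j + 1) => g i) (Fin.last j)

section

variable {S : Type*} [Group S] [Finite S]

/-- Inductive choice of the `I`-invariant subgroups of prime order. -/
theorem exists_lines (I M : Subgroup S) (n : ℕ)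
    (hodd : Odd (Nat.card ↥M)) (hMab : M ≤ Subgroup.centralizer (M : Set S))
    (hIc : ∀ s ∈ I, ∀ t ∈ I, s * t = t * s) (hI2 : ∀ t ∈ I, t * t = 1)
    (hIM : I ≤ Subgroup.normalizer (M : Set S))
    (hfaith : I ⊓ Subgroup.centralizer (M : Set S) = ⊥) (hIn : Nat.card ↥I = 2 ^ n) :
    ∀ j : ℕ, j ≤ n → ∃ g : ℕ → Subgroup S,
      (∀ i < j, g i ≤ M ∧ (Nat.card ↥(g i)).Prime ∧
        (∀ t ∈ I, (∀ a ∈ g i, t * a * t⁻¹ = a) ∨ (∀ a ∈ g i, t * a * t⁻¹ = a⁻¹))) ∧
      Nat.card ↥(⨆ i : Fin j, g i) = ∏ i : Fin j, Nat.card ↥(g i) ∧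
      Nat.card ↥(I ⊓ Subgroup.centralizer ((⨆ i : Fin j, g i : Subgroup S) : Set S)) * 2 ^ j
        = 2 ^ n := by
  have hMc : ∀ a ∈ M, ∀ b ∈ M, a * b = b * a := by
    intro a ha b hb
    exact (Subgroup.mem_centralizer_iff.1 (hMab hb) a ha)
  intro j
  induction j with
  | zero =>
    intro _
    refine ⟨fun _ => ⊥, fun i hi => absurd hi (Nat.not_lt_zero i), ?_, ?_⟩
    · simp
    · have h1 : I ⊓ Subgroup.centralizer ((⨆ i : Fin 0, (⊥ : Subgroup S) : Subgroup S) : Set S)
          = I := by
        apply le_antisymm inf_le_left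
        refine le_inf le_rfl ?_
        intro x _
        rw [Subgroup.mem_centralizer_iff]
        intro h hh
        have : h = 1 := by
          have h2 : (⨆ i : Fin 0, (⊥ : Subgroup S)) = ⊥ := by simp
          rw [SetLike.mem_coe, h2, Subgroup.mem_bot] at hh
          exact hh
        rw [this]; simp
      rw [h1, hIn, pow_zero, mul_one]
  | succ j ih =>
    intro hj
    obtain ⟨g, hg, hcard, hK⟩ := ih (Nat.le_of_succ_le hj)
    set B := ⨆ i : Fin j, g i with hB
    have hBM : B ≤ M := iSup_le fun i => (hg i i.2).1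
    set K := I ⊓ Subgroup.centralizer (B : Set S) with hKdef
    -- K ≠ ⊥
    have hKcard : 2 ≤ Nat.card ↥K := by
      by_contra hlt
      push Not at hlt
      have hpos : 0 < Nat.card ↥K := Nat.card_pos
      have h1 : Nat.card ↥K = 1 := by omega
      rw [h1, one_mul] at hK
      have : j = n := Nat.pow_right_injective (le_refl 2) hK
      omega
    obtain ⟨k, hkK, hk1⟩ : ∃ k ∈ K, k ≠ 1 := by
      by_contra hall
      push Not at hall
      have : K = ⊥ := (Subgroup.eq_bot_iff_forall K).2 hall
      rw [this, Subgroup.card_bot] at hKcard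
      omega
    obtain ⟨hkI, hkB⟩ := Subgroup.mem_inf.1 hkK
    have hkM : k ∉ Subgroup.centralizer (M : Set S) := by
      intro h
      have : k ∈ I ⊓ Subgroup.centralizer (M : Set S) := ⟨hkI, h⟩
      rw [hfaith, Subgroup.mem_bot] at this
      exact hk1 this
    obtain ⟨A, hAM, hAprime, hAeig, hAk⟩ :=
      exists_inverted_prime_subgroup I M hMab hIc hI2 hIM k hkI hkM
    -- B ∩ A = 1
    have hBA : B ⊓ A = ⊥ := by
      rw [eq_bot_iff]
      intro x hx
      obtain ⟨hxB, hxA⟩ := Subgroup.mem_inf.1 hx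
      rw [Subgroup.mem_bot]
      have h1 : x * k = k * x := Subgroup.mem_centralizer_iff.1 hkB x hxB
      have h2 : k * x * k⁻¹ = x⁻¹ := hAk x hxA
      have h3 : k * x * k⁻¹ = x := by rw [← h1]; group
      have h4 : x * x = 1 := by
        have : x = x⁻¹ := h3.symm.trans h2
        have e : x * x = x * x⁻¹ := congrArg (fun y => x * y) this
        rw [e, mul_inv_cancel]
      exact eq_one_of_mul_self_of_odd hodd (hAM hxA) h4
    have hBnA : B ≤ Subgroup.normalizer (A : Set S) := by
      intro b hb
      apply mem_normalizer_of_conj_mem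
      intro a ha
      have : b * a * b⁻¹ = a := by
        rw [hMc b (hBM hb) a (hAM ha)]; group
      rw [this]; exact ha
    have hcardBA : Nat.card ↥(B ⊔ A) = Nat.card ↥B * Nat.card ↥A := by
      have := Helper58.card_sup_mul_card_inf B A hBnA
      rw [hBA, Subgroup.card_bot, mul_one] at this
      exact this
    -- the new family
    set g' : ℕ → Subgroup S := Function.update g j A with hg'
    have hg'j : g' j = A := Function.update_self ..
    have hg'i : ∀ i, i ≠ j → g' i = g i := fun i hi => Function.update_of_ne hi ..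
    have hB' : (⨆ i : Fin (j + 1), g' i) = B ⊔ A := by
      rw [iSup_fin_succ_eq g' j, hg'j]
      congr 1
      apply iSup_congr
      intro i
      exact hg'i i (ne_of_lt i.2)
    refine ⟨g', ?_, ?_, ?_⟩
    · intro i hi
      rcases Nat.lt_succ_iff_lt_or_eq.1 hi with h | h
      · rw [hg'i i (ne_of_lt h)]; exact hg i h
      · rw [h, hg'j]; exact ⟨hAM, hAprime, hAeig⟩
    · rw [hB', hcardBA, Fin.prod_univ_castSucc, hcard]
      congr 1
      · apply Finset.prod_congr rfl
        intro i _
        show Nat.card ↥(g i) = Nat.card ↥(g' (i.castSucc : Fin (j + 1)))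
        rw [Fin.val_castSucc, hg'i i (ne_of_lt i.2)]
      · show Nat.card ↥A = Nat.card ↥(g' ((Fin.last j : Fin (j + 1)) : ℕ))
        rw [Fin.val_last, hg'j]
    · rw [hB', centralizer_sup_eq]
      set K' := I ⊓ (Subgroup.centralizer (B : Set S) ⊓ Subgroup.centralizer (A : Set S))
        with hK'def
      have hK'K : K' ≤ K := fun x hx => ⟨hx.1, hx.2.1⟩
      -- an element of A different from its inverse
      obtain ⟨a₀, ha₀, ha₀1⟩ : ∃ a ∈ A, a ≠ 1 := by
        by_contra hall
        push Not at hall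
        have : A = ⊥ := (Subgroup.eq_bot_iff_forall A).2 hall
        rw [this, Subgroup.card_bot] at hAprime
        exact Nat.not_prime_one hAprime
      have ha₀inv : a₀⁻¹ ≠ a₀ := by
        intro h
        apply ha₀1
        apply eq_one_of_mul_self_of_odd hodd (hAM ha₀)
        calc a₀ * a₀ = a₀ * a₀⁻¹ := by rw [h]
          _ = 1 := mul_inv_cancel a₀
      have hcentA : ∀ x : S, (∀ a ∈ A, x * a * x⁻¹ = a) → x ∈ Subgroup.centralizer (A : Set S) := by
        intro x hx
        rw [Subgroup.mem_centralizer_iff]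
        intro a ha
        have := hx a ha
        calc a * x = (x * a * x⁻¹) * x := by rw [this]
          _ = x * a := by group
      have hnotcentA : ∀ x : S, (∀ a ∈ A, x * a * x⁻¹ = a⁻¹) →
          x ∉ Subgroup.centralizer (A : Set S) := by
        intro x hx hmem
        rw [Subgroup.mem_centralizer_iff] at hmem
        have h1 := hmem a₀ ha₀
        have h2 := hx a₀ ha₀
        apply ha₀inv
        rw [← h2, ← h1]; group
      have hrel : K'.relIndex K = 2 := by
        rw [Subgroup.relIndex_eq_two_iff]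
        refine ⟨k, hkK, ?_⟩
        intro b hb
        obtain ⟨hbI, hbB⟩ := Subgroup.mem_inf.1 hb
        have hbkK : b * k ∈ K := mul_mem hb hkK
        rcases hAeig b hbI with h | h
        · -- b centralizes A
          right
          refine ⟨⟨hbI, hbB, hcentA b h⟩, ?_⟩
          intro hmem
          have : b * k ∈ Subgroup.centralizer (A : Set S) := hmem.2.2
          apply hnotcentA (b * k) _ this
          intro a ha
          calc b * k * a * (b * k)⁻¹ = b * (k * a * k⁻¹) * b⁻¹ := by group
            _ = b * a⁻¹ * b⁻¹ := by rw [hAk a ha]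
            _ = a⁻¹ := h a⁻¹ (inv_mem ha)
        · -- b inverts A
          left
          refine ⟨⟨hbkK.1, hbkK.2, ?_⟩, ?_⟩
          · apply hcentA
            intro a ha
            calc b * k * a * (b * k)⁻¹ = b * (k * a * k⁻¹) * b⁻¹ := by group
              _ = b * a⁻¹ * b⁻¹ := by rw [hAk a ha]
              _ = a⁻¹⁻¹ := h a⁻¹ (inv_mem ha)
              _ = a := inv_inv a
          · intro hmem
            exact hnotcentA b h hmem.2.2
      have hmul := relIndex_mul_card_of_le' hK'K
      rw [hrel] at hmul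
      calc Nat.card ↥K' * 2 ^ (j + 1) = (2 * Nat.card ↥K') * 2 ^ j := by ring
        _ = Nat.card ↥K * 2 ^ j := by rw [hmul]
        _ = 2 ^ n := hK

end

/-- Let S be a finite solvable group whose Fitting subgroup F(S) has odd order, and let I be an elementary abelian 2-subgroup of S of order 2ⁿ with n ≥ 1. Then F(S) contains subgroups A₁, …, Aₙ of prime order, each normalized by I, pairwise commuting and generating a subgroup A of order |A₁|⋯|Aₙ| (their internal direct product), such that no non-identity element of I centralizes A. -/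
theorem result {S : Type*} [Group S] [Finite S]
    [Group.IsSolvable S] (hF : Odd (Nat.card ↥(Cfsg.fittingSubgroup S)))
    (I : Subgroup S) (hI : Cfsg.IsElementaryAbelian 2 I) (n : ℕ) (hn : 1 ≤ n) (hIn : Nat.card ↥I = 2 ^ n) :
    ∃ f : Fin n → Subgroup S, (∀ i, (Nat.card ↥(f i)).Prime) ∧ (∀ i, f i ≤ Cfsg.fittingSubgroup S) ∧
      (∀ i, I ≤ Subgroup.normalizer ((f i) : Set S)) ∧ (∀ i j, i ≠ j → ∀ a ∈ f i, ∀ b ∈ f j, a * b = b * a) ∧
      Nat.card ↥(⨆ i, f i) = ∏ i, Nat.card ↥(f i) ∧ I ⊓ Subgroup.centralizer ((⨆ i, f i : Subgroup S) : Set S) = ⊥ := by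
  have hFn : (fittingSubgroup S).Normal := Helper30.fitting_normal
  have hFnil : Group.IsNilpotent ↥(fittingSubgroup S) := Helper30.fitting_isNilpotent
  have hIc : ∀ s ∈ I, ∀ t ∈ I, s * t = t * s := by
    intro a ha b hb
    have := hI.1.is_comm.comm ⟨a, ha⟩ ⟨b, hb⟩
    exact congrArg Subtype.val this
  have hI2 : ∀ t ∈ I, t * t = 1 := by
    intro t ht
    have := hI.2 t ht
    rwa [pow_two] at this
  have hIF : I ≤ Subgroup.normalizer (fittingSubgroup S : Set S) :=
    Subgroup.le_normalizer_of_normal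
  have hCF : Subgroup.centralizer (fittingSubgroup S : Set S) ≤ fittingSubgroup S := by
    apply Helper28.solvable_le_fitting_of_le_centralizer _ le_rfl Subgroup.le_normalizer
    infer_instance
  obtain ⟨M, hMF, hMab, hFM, hIM, hself⟩ :=
    exists_abelian_self_centralizing (fittingSubgroup S) I hFnil hIc hI2 hIF
  have hfaith := inf_centralizer_eq_bot_of_self_centralizing (fittingSubgroup S) I M hF hI2 hIF
    hCF hFM hself
  have hModd : Odd (Nat.card ↥M) := Odd.of_dvd_nat hF (Subgroup.card_dvd_of_le hMF)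
  obtain ⟨g, hg, hcard, hK⟩ := exists_lines I M n hModd hMab hIc hI2 hIM hfaith hIn n le_rfl
  refine ⟨fun i => g i, ?_, ?_, ?_, ?_, hcard, ?_⟩
  · intro i
    exact (hg i i.2).2.1
  · intro i
    exact (hg i i.2).1.trans hMF
  · intro i t ht
    apply mem_normalizer_of_conj_mem
    intro a ha
    rcases (hg i i.2).2.2 t ht with h | h
    · rw [h a ha]; exact ha
    · rw [h a ha]; exact inv_mem ha
  · intro i j _ a ha b hb
    have haM : a ∈ M := (hg i i.2).1 ha
    have hbM : b ∈ M := (hg j j.2).1 hb
    exact (Subgroup.mem_centralizer_iff.1 (hMab hbM) a haM)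
  · have h1 : Nat.card ↥(I ⊓ Subgroup.centralizer ((⨆ i : Fin n, g i : Subgroup S) : Set S)) = 1 := by
      have hpos : 0 < 2 ^ n := by positivity
      exact Nat.eq_of_mul_eq_mul_right hpos (by rw [hK, one_mul])
    exact Subgroup.card_eq_one.1 h1

end Cfsg.Agent.S4408
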