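import Cfsg.Statements.S4409
import Cfsg.Agent.Lib.Helper78.E8Min2
import Cfsg.Agent.Lib.Helper78.E8Case2
import Cfsg.Agent.Lib.Helper01.Hall
import Cfsg.Agent.Lib.Helper01.HallHigman
import Cfsg.Agent.Lib.Helper01.PCore

set_option autoImplicit false
set_option linter.style.haveILetI false
set_option linter.unusedVariables false
set_option maxHeartbeats 1000000
open Cfsg

namespace Cfsg.Agent.S4409

open Cfsg.Agent.Lib.Helper78.E8Basic Cfsg.Agent.Lib.Helper78.E8Q8 Cfsg.Agent.Lib.Helper78.E8Act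
open Cfsg.Agent.Lib.Helper78.E8Min Cfsg.Agent.Lib.Helper78.E8Case2
open scoped commutatorElement

/-- Let S be a finite solvable group with O_{2'}(S) = 1 that contains a non-cyclic abelian subgroup of order 8, while no proper subgroup of S of 2-power index contains one. Then a Sylow 2-subgroup X of S is normal in S, and one of the following holds: X is abelian; X is extraspecial of order at least 32; X has a generalized quaternion subgroup X₀ of index 2 with X = X₀·C_X(X₀); or X is special with centre of order 4. -/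
theorem result {S : Type*} [Group S] [Finite S]
    [Group.IsSolvable S] (hO : Cfsg.pPrimeCore 2 S = ⊥)
    (h8 : ∃ A : Subgroup S, IsMulCommutative ↥A ∧ ¬ IsCyclic ↥A ∧ Nat.card ↥A = 8)
    (hmin : ∀ R : Subgroup S, R ≠ ⊤ → (∃ k : ℕ, R.index = 2 ^ k) →
      ¬ ∃ A : Subgroup S, A ≤ R ∧ IsMulCommutative ↥A ∧ ¬ IsCyclic ↥A ∧ Nat.card ↥A = 8)
    (X : Sylow 2 S) :
    (X : Subgroup S).Normal ∧
      (IsMulCommutative ↥X ∨
        (Cfsg.IsExtraspecial 2 ↥X ∧ 32 ≤ Nat.card ↥X) ∨
        (∃ (X₀ : Subgroup S) (k : ℕ), X₀ ≤ (X : Subgroup S) ∧ X₀.relIndex (X : Subgroup S) = 2 ∧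
          Nonempty (↥X₀ ≃* QuaternionGroup (2 ^ (k + 1))) ∧ X₀ ⊔ ((X : Subgroup S) ⊓ Subgroup.centralizer (X₀ : Set S)) = (X : Subgroup S)) ∨
        (Cfsg.IsSpecial 2 ↥X ∧ Nat.card ↥(Subgroup.center ↥X) = 4)) := by
  haveI : Fact (Nat.Prime 2) := ⟨Nat.prime_two⟩
  -- the `2`-core
  haveI hTn : (Cfsg.pCore 2 S).Normal := Cfsg.Agent.Lib.Helper01.pCore_normal 2
  have hTp : IsPGroup 2 ↥(Cfsg.pCore 2 S) := Cfsg.Agent.Lib.Helper01.pCore_isPGroup 2
  have hTX : Cfsg.pCore 2 S ≤ (X : Subgroup S) := Cfsg.Agent.Lib.Helper01.pCore_le_sylow X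
  have hCT : Subgroup.centralizer (Cfsg.pCore 2 S : Set S) ≤ Cfsg.pCore 2 S :=
    Cfsg.Agent.Lib.Helper01.centralizer_pCore_le 2 hO
  -- a Hall `2'`-subgroup
  obtain ⟨a, ha⟩ := IsPGroup.iff_card.mp X.isPGroup'
  have hidx : ¬ 2 ∣ (X : Subgroup S).index := X.not_dvd_index
  have hcard : Nat.card S = (X : Subgroup S).index * Nat.card ↥(X : Subgroup S) := by
    rw [mul_comm]; exact ((X : Subgroup S).card_mul_index).symm
  have hcop2 : ((X : Subgroup S).index).Coprime 2 :=
    ((Nat.Prime.coprime_iff_not_dvd Nat.prime_two).mpr hidx).symm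
  have hcopm : ((X : Subgroup S).index).Coprime (Nat.card ↥(X : Subgroup S)) := by
    rw [ha]
    exact Nat.Coprime.pow_right a hcop2
  obtain ⟨H, hH⟩ := (Cfsg.Agent.Lib.Helper01.hallProp (G := S) _ _ hcard hcopm).1
  have hHcop : (Nat.card ↥H).Coprime 2 := by rw [hH]; exact hcop2
  -- minimality, for `H`-invariant proper subgroups of `X`
  have hmin' : ∀ Y : Subgroup S, Y ≤ (X : Subgroup S) → Y ≠ (X : Subgroup S) →
      H ≤ Subgroup.normalizer (Y : Set S) → Free Y := by
    intro Y hYX hYne hHY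
    obtain ⟨b, hb, hYb⟩ := card_sub_pow hYX ha
    have hcopY : (Nat.card ↥Y).Coprime (Nat.card ↥H) := by
      rw [hYb]
      exact Nat.Coprime.pow_left b hHcop.symm
    have hRcard := Cfsg.Agent.Lib.Helper01.card_sup_of_coprime_of_le_normalizer Y H hHY hcopY
    have hblt : b < a := by
      rcases Nat.lt_or_ge b a with h | h
      · exact h
      · exfalso
        apply hYne
        apply Subgroup.eq_of_le_of_card_ge hYX
        rw [ha, hYb]
        have : b = a := le_antisymm hb h
        rw [this]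
    have hRidx := (H ⊔ Y).card_mul_index
    rw [hRcard, hcard, hH, ha, hYb] at hRidx
    have hipos : 0 < (X : Subgroup S).index := Nat.pos_of_ne_zero (by
      intro h0; rw [h0] at hidx; exact hidx (dvd_zero 2))
    have hidxR : (H ⊔ Y).index = 2 ^ (a - b) := by
      have h1 : 2 ^ a = 2 ^ b * 2 ^ (a - b) := by
        rw [← pow_add]; congr 1; omega
      have h2 : (2 ^ b * (X : Subgroup S).index) * (H ⊔ Y).index =
          (2 ^ b * (X : Subgroup S).index) * 2 ^ (a - b) := by
        rw [hRidx, h1]; ring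
      exact Nat.eq_of_mul_eq_mul_left (Nat.mul_pos (Nat.pow_pos (by norm_num)) hipos) h2
    have hRtop : H ⊔ Y ≠ ⊤ := by
      intro e
      rw [e, Subgroup.index_top] at hidxR
      have : a - b = 0 := by
        by_contra hne
        have : 2 ≤ 2 ^ (a - b) := by
          calc 2 = 2 ^ 1 := by norm_num
            _ ≤ 2 ^ (a - b) := Nat.pow_le_pow_right (by norm_num) (by omega)
        omega
      omega
    have := hmin (H ⊔ Y) hRtop ⟨a - b, hidxR⟩
    rintro ⟨A, hAY, h1, h2, h3⟩
    exact this ⟨A, hAY.trans le_sup_right, h1, h2, h3⟩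
  obtain ⟨A, hAcomm, hAnc, hA8⟩ := h8
  have hAc : ∀ x ∈ A, ∀ y ∈ A, x * y = y * x := comm_of_isMulCommutative hAcomm
  -- the Sylow subgroup is the `2`-core
  have hXT : (X : Subgroup S) = Cfsg.pCore 2 S := by
    by_contra hne
    have hTne : Cfsg.pCore 2 S ≠ (X : Subgroup S) := fun e => hne e.symm
    have hHT : H ≤ Subgroup.normalizer (Cfsg.pCore 2 S : Set S) := by
      rw [Subgroup.normalizer_eq_top]; exact le_top
    have hFT := hmin' _ hTX hTne hHT
    have hcomm : ⁅Cfsg.pCore 2 S, H⁆ ≠ ⊥ := by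
      intro hb
      rw [Subgroup.commutator_eq_bot_iff_le_centralizer, Subgroup.le_centralizer_iff] at hb
      have hHT' : H ≤ Cfsg.pCore 2 S := hb.trans hCT
      have hH1 : Nat.card ↥H = 1 := by
        obtain ⟨c, hc⟩ := IsPGroup.iff_card.mp hTp
        have hd := Subgroup.card_dvd_of_le hHT'
        rw [hc] at hd
        have : (Nat.card ↥H).Coprime (2 ^ c) := Nat.Coprime.pow_right c hHcop
        exact Nat.Coprime.eq_one_of_dvd this hd
      rw [hH] at hH1
      have hXtop : (X : Subgroup S) = ⊤ := Subgroup.index_eq_one.mp hH1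
      apply hne
      apply le_antisymm _ hTX
      rw [hXtop]
      apply Cfsg.Agent.Lib.Helper01.le_pCore inferInstance
      rw [← hXtop]
      exact X.isPGroup'
    obtain ⟨_, hT⟩ := lemmaA hTp hHT hHcop hFT hcomm
    rcases hT with hV | ⟨z, hQ⟩
    · exact v4_contra hV hCT hAc hA8
    · exact q8_contra hQ hCT hAc hAnc hA8
  have hXn : (X : Subgroup S).Normal := by rw [hXT]; exact hTn
  refine ⟨hXn, ?_⟩
  -- the minimal setting
  have hAX : A ≤ (X : Subgroup S) := by
    have hAp : IsPGroup 2 ↥A := IsPGroup.of_card (n := 3) (by rw [hA8]; rfl)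
    haveI := hXn
    have hsup : IsPGroup 2 ↥(A ⊔ (X : Subgroup S)) := hAp.to_sup_of_normal_right X.isPGroup'
    have := X.is_maximal' hsup le_sup_right
    rw [← this]
    exact le_sup_left
  have hset : MinSetting (X : Subgroup S) H A :=
    { hXp := X.isPGroup'
      hHX := by rw [Subgroup.normalizer_eq_top]; exact le_top
      hcop := hHcop
      hmin := hmin'
      hAX := hAX
      hAc := hAc
      hAnc := hAnc
      hA8 := hA8 }
  by_cases hb : ⁅(X : Subgroup S), H⁆ = ⊥
  · exact Or.inl (hset.case_bot hb)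
  by_cases ht : ⁅(X : Subgroup S), H⁆ = (X : Subgroup S)
  · rcases hset.case_top ht with h1 | h1 | h1
    · exact Or.inl h1
    · exact Or.inr (Or.inl h1)
    · exact Or.inr (Or.inr (Or.inr h1))
  · rcases hset.case_mid hb ht with h1 | h1
    · exact Or.inl h1
    · exact Or.inr (Or.inr (Or.inl h1))

end Cfsg.Agent.S4409
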