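import Cfsg.Statements.S4410
import Cfsg.Agent.Lib.Helper52.LinAct

set_option autoImplicit false
open Cfsg

namespace Cfsg.Agent.S4410

/-- Let V be a finite-dimensional vector space over the field with two elements and S a solvable group of linear automorphisms of V with O₂(S) = 1. If P ∈ S has order 4 and (P − 1)³ = 0 on V, then the image of (P − 1)² has at least 4 elements; equivalently, in the decomposition of V into indecomposable modules for the cyclic group generated by P, at least two summands have dimension 3. -/
theorem result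
    {V : Type*} [AddCommGroup V] [Module (ZMod 2) V] [Finite V]
    (S : Subgroup (V ≃ₗ[ZMod 2] V)) (hS : Group.IsSolvable ↥S) (hO2 : Cfsg.pCore 2 ↥S = ⊥)
    (P : V ≃ₗ[ZMod 2] V) (hPS : P ∈ S) (hP4 : orderOf P = 4)
    (hcub : ((P : V →ₗ[ZMod 2] V) - LinearMap.id) ^ 3 = 0) :
    4 ≤ Nat.card ↥(LinearMap.range (((P : V →ₗ[ZMod 2] V) - LinearMap.id) ^ 2)) := by
  by_contra hlt
  rw [not_le] at hlt
  obtain ⟨f, hfdef⟩ : ∃ f : V →ₗ[ZMod 2] V,
      f = ((P : V →ₗ[ZMod 2] V) - LinearMap.id) ^ 2 := ⟨_, rfl⟩
  rw [← hfdef] at hlt
  have hf : ∀ v, f v = (P ^ 2) v - v := by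
    intro v
    rw [hfdef, pow_two]
    show P (P v - v) - (P v - v) = P (P v) - v
    rw [map_sub, ZModModule.sub_eq_add, ZModModule.sub_eq_add, ZModModule.sub_eq_add,
      ZModModule.sub_eq_add]
    have := ZModModule.add_self (P v)
    calc P (P v) + P v + (P v + v) = P (P v) + (P v + P v) + v := by abel
      _ = P (P v) + v := by rw [this, add_zero]
  -- the cardinality of the range is a power of two
  have hpow : Nat.card ↥(LinearMap.range f) =
      2 ^ Module.finrank (ZMod 2) ↥(LinearMap.range f) := by
    rw [Module.natCard_eq_pow_finrank (K := ZMod 2), Nat.card_zmod]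
  have hr : Nat.card ↥(LinearMap.range f) = 2 := by
    rcases Nat.lt_or_ge (Module.finrank (ZMod 2) ↥(LinearMap.range f)) 1 with h0 | h1
    · exfalso
      have h0' : Module.finrank (ZMod 2) ↥(LinearMap.range f) = 0 := by omega
      rw [h0', pow_zero] at hpow
      have hbot : LinearMap.range f = ⊥ := by
        haveI : Subsingleton ↥(LinearMap.range f) := (Nat.card_eq_one_iff_unique.mp hpow).1
        exact Submodule.eq_bot_of_subsingleton
      have hP2 : P ^ 2 = 1 := by
        ext v
        have : f v = 0 := by
          have : f v ∈ LinearMap.range f := ⟨v, rfl⟩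
          rw [hbot] at this
          exact this
        rw [hf, sub_eq_zero] at this
        exact this
      have := orderOf_dvd_of_pow_eq_one hP2
      rw [hP4] at this
      omega
    · rcases Nat.lt_or_ge (Module.finrank (ZMod 2) ↥(LinearMap.range f)) 2 with h2 | h2
      · have : Module.finrank (ZMod 2) ↥(LinearMap.range f) = 1 := by omega
        rw [hpow, this, pow_one]
      · exfalso
        have : 2 ^ 2 ≤ 2 ^ Module.finrank (ZMod 2) ↥(LinearMap.range f) :=
          Nat.pow_le_pow_right (by norm_num) h2
        omega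
  exact Cfsg.Agent.Lib.Helper52.lin_no_square S hS hO2 P hPS hP4 f hf hr

end Cfsg.Agent.S4410
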