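import Cfsg.Statements.S4413
import Cfsg.Agent.Lib.Helper32.Aut32B

set_option autoImplicit false
open Cfsg

namespace Cfsg.Agent.S4413

/-- Let P be an extraspecial 2-group of order 32 with no elementary abelian subgroup of order 8 (the central product of a dihedral and a quaternion group of order 8). Then the inner automorphism group of P has order 16 and the outer automorphism group Aut(P)/Inn(P) is isomorphic to the symmetric group of degree 5; in particular Aut(P) has order 1920. -/
theorem result {P : Type*} [Group P] [Finite P]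
    (hex : Cfsg.IsExtraspecial 2 P) (h32 : Nat.card P = 32)
    (hminus : ∀ A : Subgroup P, Cfsg.IsElementaryAbelian 2 A → Nat.card ↥A ≤ 4)
    [(MulAut.conj : P →* MulAut P).range.Normal] :
    Nat.card ↥(MulAut.conj : P →* MulAut P).range = 16 ∧ Nat.card (MulAut P) = 1920 ∧
      Nonempty ((MulAut P ⧸ (MulAut.conj : P →* MulAut P).range) ≃* Equiv.Perm (Fin 5)) := by
  have : Fact (Nat.Prime 2) := ⟨Nat.prime_two⟩
  obtain ⟨z, hz⟩ := Cfsg.Agent.Lib.Helper32.exists_isXS_top hex
  have S : Cfsg.Agent.Lib.Helper32.Aut32.M32 P z :=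
    { xs := hz
      card := h32
      minus := fun A hAc hAs => hminus A ⟨⟨⟨fun a b => Subtype.ext (hAc a a.2 b b.2)⟩⟩,
        fun a ha => by rw [pow_two]; exact hAs a ha⟩ }
  have hfinA : Finite (MulAut P) := Finite.of_injective (fun f : MulAut P => (f : P → P))
    (fun f g h => MulEquiv.ext (congrFun h))
  have hfinO : Finite S.omSub := Finite.of_injective (fun s : S.omSub => (s : Set P))
    Subtype.val_injective
  have hker := S.inn_eq_ker
  have hsurj := S.psi_surjective
  have hom := S.card_om
  refine ⟨S.card_inn, ?_, ?_⟩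
  · have h1 := S.psi.ker.card_mul_index
    rw [Subgroup.index_ker, MonoidHom.range_eq_top.mpr hsurj, Subgroup.card_top, Nat.card_perm, hom,
      ← hker, S.card_inn] at h1
    rw [← h1]
    rfl
  · have e1 : MulAut P ⧸ (MulAut.conj : P →* MulAut P).range ≃* MulAut P ⧸ S.psi.ker :=
      QuotientGroup.quotientMulEquivOfEq hker
    have e2 : MulAut P ⧸ S.psi.ker ≃* Equiv.Perm S.omSub :=
      QuotientGroup.quotientKerEquivOfSurjective S.psi hsurj
    have e3 : S.omSub ≃ Fin 5 := Finite.equivFinOfCardEq hom
    exact ⟨(e1.trans e2).trans e3.permCongrHom⟩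

end Cfsg.Agent.S4413
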