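import Cfsg.Statements.S4417
import Mathlib
import Cfsg.Agent.Lib.Helper71.LinPGroupFrob

set_option autoImplicit false
open Cfsg

namespace Cfsg.Agent.S4417

/-- Let F be a field with q elements, p a prime not dividing q, and e the multiplicative order of q modulo p; assume e ≤ n. Then every p-subgroup of GL_n(F) has derived length at most ⌊log₂(n/e)⌋ + 1: that term of its derived series is trivial (n/e is the integer quotient). -/
theorem result {F : Type*} [Field F] [Fintype F] (q : ℕ) (hF : Fintype.card F = q) (p : ℕ) [Fact p.Prime] (hpq : ¬ p ∣ q) (n e : ℕ) (he : e = orderOf (q : ZMod p)) (hen : e ≤ n) (P : Subgroup (GL (Fin n) F)) (hP : IsPGroup p P) : derivedSeries ↥P (Nat.log 2 (n / e) + 1) = ⊥ := by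
  classical
  have hp : p.Prime := Fact.out
  obtain ⟨ℓ, hℓ⟩ := CharP.exists F
  have : Fact ℓ.Prime := ⟨CharP.char_is_prime F ℓ⟩
  obtain ⟨a, hℓp, hcard⟩ := FiniteField.card F ℓ
  have hqa : q = ℓ ^ (a : ℕ) := by rw [← hF, hcard]
  let K := AlgebraicClosure F
  have hinj : Function.Injective (algebraMap F K) := (algebraMap F K).injective
  have : CharP K ℓ := charP_of_injective_algebraMap hinj ℓ
  have hσ : ∀ x : K, iterateFrobenius K ℓ (a : ℕ) x = x ^ q := by
    intro x
    rw [iterateFrobenius_def, hqa]
  have hqpos : 0 < q := by rw [hqa]; exact pow_pos hℓp.pos _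
  have hQbij : Function.Bijective (fun c : K => c ^ q) := by
    constructor
    · intro x y hxy
      have h1 : iterateFrobenius K ℓ (a : ℕ) x = iterateFrobenius K ℓ (a : ℕ) y := by
        rw [hσ, hσ]; exact hxy
      exact (iterateFrobenius K ℓ (a : ℕ)).injective h1
    · intro x
      exact IsAlgClosed.exists_pow_nat_eq x hqpos
  have hpℓ : p ≠ ℓ := by
    rintro rfl
    apply hpq
    rw [hqa]
    exact dvd_pow_self p a.pos.ne'
  have hpK : (p : K) ≠ 0 := by
    intro h
    rw [CharP.cast_eq_zero_iff K ℓ p] at h
    exact hpℓ ((Nat.prime_dvd_prime_iff_eq hℓp hp).mp h).symm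
  have hpQ : q.Coprime p := ((Nat.Prime.coprime_iff_not_dvd hp).mpr hpq).symm
  let r : Representation K P (Fin n → K) :=
    { toFun := fun g => Matrix.toLin' ((g.1 : Matrix (Fin n) (Fin n) F).map (algebraMap F K))
      map_one' := by simp; rfl
      map_mul' := fun x y => by
        simp [Matrix.toLin'_mul, Module.End.mul_eq_comp, Matrix.map_mul] }
  have hr : Function.Injective r := by
    intro x y hxy
    apply Subtype.ext
    apply Units.ext
    have h1 : ((x.1 : Matrix (Fin n) (Fin n) F).map (algebraMap F K)) =
        ((y.1 : Matrix (Fin n) (Fin n) F).map (algebraMap F K)) :=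
      Matrix.toLin'.injective hxy
    exact Matrix.map_injective hinj h1
  have hfrob : Cfsg.Agent.Lib.Helper71.HasFrob q r := by
    let σe : K ≃ K := Equiv.ofBijective _ hQbij
    have hσe : ∀ x, σe x = x ^ q := fun x => rfl
    refine ⟨{ toFun := fun v i => (v i) ^ q
              invFun := fun v i => σe.symm (v i)
              left_inv := fun v => by
                funext i
                change σe.symm (σe (v i)) = v i
                simp
              right_inv := fun v => by
                funext i
                change σe (σe.symm (v i)) = v i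
                simp
              map_add' := fun v w => by
                funext i
                change (v i + w i) ^ q = (v i) ^ q + (w i) ^ q
                rw [← hσ, ← hσ, ← hσ, map_add] }, ?_, ?_⟩
    · intro c v
      funext i
      change (c * v i) ^ q = c ^ q * (v i) ^ q
      rw [mul_pow]
    · intro g v
      funext i
      change (Matrix.toLin' ((g.1 : Matrix (Fin n) (Fin n) F).map (algebraMap F K)) v i) ^ q =
        Matrix.toLin' ((g.1 : Matrix (Fin n) (Fin n) F).map (algebraMap F K))
          (fun j => (v j) ^ q) i
      rw [Matrix.toLin'_apply, Matrix.toLin'_apply]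
      simp only [Matrix.mulVec, dotProduct, Matrix.map_apply]
      rw [← hσ, map_sum]
      apply Finset.sum_congr rfl
      intro j _
      rw [map_mul, hσ, hσ, ← map_pow, ← hF, FiniteField.pow_card]
  have h := Cfsg.Agent.Lib.Helper71.derivedSeries_log_div_eq_bot_of_frob hpK hQbij hpQ hP r hr
    hfrob
  rwa [Module.finrank_fin_fun, ← he] at h

end Cfsg.Agent.S4417
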