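import Cfsg.Statements.S4419
import Cfsg.Agent.Lib.Helper40.OmegaLemma
import Cfsg.Agent.Lib.Helper03.NormalPComplement
import Cfsg.Agent.S0071

set_option autoImplicit false
open Cfsg

namespace Cfsg.Agent.S4419

open Cfsg.Agent.Lib.Helper40

/-- Every subgroup of a metacyclic group is "doubly cyclic": `Q = {b^k a^l}`. -/
theorem gens_of_metacyclic {G : Type*} [Group G] (S : Subgroup G) (hS : Cfsg.IsMetacyclic ↥S)
    (Q : Subgroup G) (hQ : Q ≤ S) :
    ∃ a ∈ Q, ∃ b ∈ Q, ∀ x ∈ Q, ∃ k l : ℤ, x = b ^ k * a ^ l := by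
  obtain ⟨M, hMn, hMc, hSMc⟩ := hS
  -- Q' = Q inside S
  set Q' : Subgroup ↥S := Q.subgroupOf S with hQ'
  -- Q' ⊓ M cyclic
  haveI : IsCyclic ↥(Q' ⊓ M) :=
    isCyclic_of_injective (Subgroup.inclusion (inf_le_right : Q' ⊓ M ≤ M))
      (Subgroup.inclusion_injective _)
  obtain ⟨⟨a', ha'⟩, hgen_a⟩ := IsCyclic.exists_generator (α := ↥(Q' ⊓ M))
  -- image of Q' in S/M cyclic
  haveI : IsCyclic ↥(Q'.map (QuotientGroup.mk' M)) := Subgroup.isCyclic _
  obtain ⟨⟨c, hc⟩, hgen_c⟩ := IsCyclic.exists_generator (α := ↥(Q'.map (QuotientGroup.mk' M)))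
  obtain ⟨b', hb'Q, rfl⟩ := hc
  refine ⟨(a' : G), Subgroup.mem_subgroupOf.mp ha'.1, (b' : G), Subgroup.mem_subgroupOf.mp hb'Q, ?_⟩
  intro x hx
  have hxQ' : (⟨x, hQ hx⟩ : ↥S) ∈ Q' := Subgroup.mem_subgroupOf.mpr hx
  have hmk : (⟨QuotientGroup.mk' M ⟨x, hQ hx⟩, Subgroup.mem_map_of_mem _ hxQ'⟩ :
      ↥(Q'.map (QuotientGroup.mk' M))) ∈ Subgroup.zpowers _ := hgen_c _
  obtain ⟨k, hk⟩ := Subgroup.mem_zpowers_iff.mp hmk
  have hk' : (QuotientGroup.mk' M b') ^ k = QuotientGroup.mk' M ⟨x, hQ hx⟩ := by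
    have := congrArg Subtype.val hk
    simpa using this
  -- b'^(-k) * x ∈ M ⊓ Q'
  have hmem : (b' ^ k)⁻¹ * ⟨x, hQ hx⟩ ∈ Q' ⊓ M := by
    refine Subgroup.mem_inf.mpr ⟨mul_mem (inv_mem (zpow_mem hb'Q k)) hxQ', ?_⟩
    rw [← QuotientGroup.eq_one_iff, QuotientGroup.mk_mul, QuotientGroup.mk_inv, QuotientGroup.mk_zpow]
    have : ((b' : ↥S) : ↥S ⧸ M) ^ k = ((⟨x, hQ hx⟩ : ↥S) : ↥S ⧸ M) := hk'
    rw [this, inv_mul_cancel]
  have hz : (⟨(b' ^ k)⁻¹ * ⟨x, hQ hx⟩, hmem⟩ : ↥(Q' ⊓ M)) ∈ Subgroup.zpowers _ := hgen_a _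
  obtain ⟨l, hl⟩ := Subgroup.mem_zpowers_iff.mp hz
  refine ⟨k, l, ?_⟩
  have h1 := congrArg (fun t : ↥(Q' ⊓ M) => ((t : ↥S) : G)) hl
  simp only [Subgroup.coe_zpow, Subgroup.coe_mul, Subgroup.coe_inv] at h1
  rw [h1]
  group

theorem phiSub_subgroupOf_normal {G : Type*} [Group G] (p : ℕ) (Q : Subgroup G) :
    ((phiSub p Q).subgroupOf Q).Normal := by
  constructor
  intro n hn g
  rw [Subgroup.mem_subgroupOf] at hn ⊢
  have hg : (g : G) ∈ Subgroup.normalizer (Q : Set G) := Subgroup.le_normalizer g.2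
  have := phiSub_conj_mem p hg _ hn
  simpa using this

/-- index of the Frattini-like subgroup of a doubly cyclic `p`-group divides `p ^ 2`. -/
theorem index_phiSub_dvd {G : Type*} [Group G] [Finite G] {p : ℕ} [Fact p.Prime] (Q : Subgroup G)
    (hQ : IsPGroup p Q)
    (hgen : ∃ a ∈ Q, ∃ b ∈ Q, ∀ x ∈ Q, ∃ k l : ℤ, x = b ^ k * a ^ l) :
    ((phiSub p Q).subgroupOf Q).index ∣ p ^ 2 := by
  have hp : p.Prime := Fact.out
  haveI := phiSub_subgroupOf_normal p Q
  obtain ⟨a, ha, b, hb, hx⟩ := hgen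
  set Φ' := (phiSub p Q).subgroupOf Q with hΦ'
  -- images
  let A : ↥Q ⧸ Φ' := QuotientGroup.mk (⟨a, ha⟩ : ↥Q)
  let B : ↥Q ⧸ Φ' := QuotientGroup.mk (⟨b, hb⟩ : ↥Q)
  have hA : A ^ p = 1 := by
    show (QuotientGroup.mk (⟨a, ha⟩ : ↥Q) : ↥Q ⧸ Φ') ^ p = 1
    rw [← QuotientGroup.mk_pow, QuotientGroup.eq_one_iff, Subgroup.mem_subgroupOf]
    simpa using pow_mem_phiSub p ha
  have hB : B ^ p = 1 := by
    show (QuotientGroup.mk (⟨b, hb⟩ : ↥Q) : ↥Q ⧸ Φ') ^ p = 1
    rw [← QuotientGroup.mk_pow, QuotientGroup.eq_one_iff, Subgroup.mem_subgroupOf]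
    simpa using pow_mem_phiSub p hb
  -- surjection from Fin p × Fin p
  let f : Fin p × Fin p → ↥Q ⧸ Φ' := fun ij => B ^ (ij.1 : ℕ) * A ^ (ij.2 : ℕ)
  have hf : Function.Surjective f := by
    intro v
    obtain ⟨⟨x, hxQ⟩, rfl⟩ := QuotientGroup.mk_surjective v
    obtain ⟨k, l, hkl⟩ := hx x hxQ
    have h1 : (QuotientGroup.mk (⟨x, hxQ⟩ : ↥Q) : ↥Q ⧸ Φ') = B ^ k * A ^ l := by
      have : (⟨x, hxQ⟩ : ↥Q) = (⟨b, hb⟩ : ↥Q) ^ k * (⟨a, ha⟩ : ↥Q) ^ l := by
        apply Subtype.ext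
        simp [hkl]
      rw [this, QuotientGroup.mk_mul, QuotientGroup.mk_zpow, QuotientGroup.mk_zpow]
    have hppos : (0 : ℤ) < p := by exact_mod_cast hp.pos
    have hk1 : 0 ≤ k % (p : ℤ) := Int.emod_nonneg _ hppos.ne'
    have hk2 : k % (p : ℤ) < p := Int.emod_lt_of_pos _ hppos
    have hl1 : 0 ≤ l % (p : ℤ) := Int.emod_nonneg _ hppos.ne'
    have hl2 : l % (p : ℤ) < p := Int.emod_lt_of_pos _ hppos
    refine ⟨(⟨(k % (p : ℤ)).toNat, by omega⟩, ⟨(l % (p : ℤ)).toNat, by omega⟩), ?_⟩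
    show B ^ ((k % (p : ℤ)).toNat) * A ^ ((l % (p : ℤ)).toNat) = _
    rw [h1, zpow_eq_zpow_emod' k hB, zpow_eq_zpow_emod' l hA]
    rw [← zpow_natCast B, ← zpow_natCast A, Int.toNat_of_nonneg hk1, Int.toNat_of_nonneg hl1]
  have hcard : Nat.card (↥Q ⧸ Φ') ≤ p ^ 2 := by
    have := Nat.card_le_card_of_surjective f hf
    simpa [Nat.card_prod, sq] using this
  -- index is a power of p
  have hidx : Φ'.index = Nat.card (↥Q ⧸ Φ') := rfl
  obtain ⟨n, hn⟩ := IsPGroup.iff_card.mp hQ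
  have hdvd : Φ'.index ∣ p ^ n := by rw [← hn]; exact Subgroup.index_dvd_card _
  obtain ⟨j, _, hj⟩ := (Nat.dvd_prime_pow hp).mp hdvd
  rw [hj]
  apply pow_dvd_pow
  by_contra hcon
  push Not at hcon
  have : p ^ 3 ≤ p ^ j := Nat.pow_le_pow_right hp.pos hcon
  rw [← hj, hidx] at this
  have h3 : p ^ 2 < p ^ 3 := Nat.pow_lt_pow_right hp.one_lt (by norm_num)
  omega

theorem aut_eq_one_of_fix {Q : Type*} [Group Q] [Finite Q] {p r : ℕ} [Fact p.Prime] [Fact r.Prime]
    (hQ : IsPGroup p Q) (hrp : r ≠ p) (hr : ¬ r ∣ p ^ 2 - 1) (β : MulAut Q) (hβ : β ^ r = 1)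
    (Φ' : Subgroup Q) (hΦ : Φ'.index ∣ p ^ 2) (hfix : ∀ x ∈ Φ', β x = x) : β = 1 := by
  have hp : p.Prime := Fact.out
  have hrP : r.Prime := Fact.out
  -- fixed subgroup
  let F : Subgroup Q := (β.toMonoidHom).eqLocus (MonoidHom.id Q)
  have hF : ∀ x, x ∈ F ↔ β x = x := fun x => Iff.rfl
  have hΦF : Φ' ≤ F := fun x hx => (hF x).mpr (hfix x hx)
  have hidx : F.index ∣ p ^ 2 := (Subgroup.index_dvd_of_le hΦF).trans hΦ
  -- the acting r-group
  let A : Subgroup (MulAut Q) := Subgroup.zpowers β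
  have hA : IsPGroup r A := by
    rintro ⟨a, ha⟩
    obtain ⟨i, rfl⟩ := Subgroup.mem_zpowers_iff.mp ha
    refine ⟨1, ?_⟩
    apply Subtype.ext
    simp only [pow_one, Subgroup.coe_pow, Subgroup.coe_one]
    rw [← zpow_natCast, ← zpow_mul, mul_comm, zpow_mul, zpow_natCast, hβ, one_zpow]
  have hfp : (MulAction.fixedPoints A Q) = (F : Set Q) := by
    ext x
    simp only [MulAction.mem_fixedPoints, SetLike.mem_coe]
    constructor
    · intro h
      exact (hF x).mpr (h ⟨β, Subgroup.mem_zpowers β⟩)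
    · intro h
      rintro ⟨a, ha⟩
      obtain ⟨i, rfl⟩ := Subgroup.mem_zpowers_iff.mp ha
      show (β ^ i) x = x
      have hc : ∀ n : ℕ, (β ^ n) x = x := by
        intro n
        induction n with
        | zero => simp
        | succ n ih => rw [pow_succ, MulAut.mul_apply, (hF x).mp h, ih]
      have hc' : ∀ n : ℕ, (β ^ n)⁻¹ x = x := by
        intro n
        have := hc n
        rw [MulAut.inv_apply]
        exact (MulEquiv.symm_apply_eq _).mpr this.symm
      cases i with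
      | ofNat n => simpa using hc n
      | negSucc n => simpa [zpow_negSucc] using hc' (n + 1)
  have hmod : Nat.card Q ≡ Nat.card (MulAction.fixedPoints A Q) [MOD r] :=
    hA.card_modEq_card_fixedPoints Q
  rw [hfp] at hmod
  have hcardF : Nat.card (F : Set Q) = Nat.card F := rfl
  rw [hcardF] at hmod
  have hmul : Nat.card F * F.index = Nat.card Q := F.card_mul_index
  -- r ∣ card F * (index - 1)
  have hpos : 0 < F.index := Nat.pos_of_ne_zero Subgroup.index_ne_zero_of_finite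
  have hdiv : r ∣ Nat.card F * (F.index - 1) := by
    have h1 : Nat.card F * F.index = Nat.card F * (F.index - 1) + Nat.card F := by
      rw [← Nat.mul_succ]; congr 1; omega
    rw [← hmul, h1] at hmod
    have := (Nat.modEq_iff_dvd' (by omega)).mp hmod.symm
    simpa using this
  have hcop : Nat.Coprime r (Nat.card F) := by
    obtain ⟨n, hn⟩ := IsPGroup.iff_card.mp (hQ.to_subgroup F)
    rw [hn]
    exact Nat.Coprime.pow_right n ((Nat.coprime_primes hrP hp).mpr hrp)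
  have hdiv2 : r ∣ F.index - 1 := hcop.dvd_of_dvd_mul_left hdiv
  obtain ⟨j, hj2, hj⟩ := (Nat.dvd_prime_pow hp).mp hidx
  have hj0 : j = 0 := by
    by_contra hne
    apply hr
    have hj12 : j = 1 ∨ j = 2 := by omega
    rcases hj12 with rfl | rfl
    · rw [hj, pow_one] at hdiv2
      have : p ^ 2 - 1 = (p - 1) * (p + 1) := by
        have h1 : 1 ≤ p := hp.one_lt.le
        zify [h1, Nat.one_le_pow 2 p hp.pos]
        ring
      rw [this]
      exact dvd_mul_of_dvd_left hdiv2 _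
    · rwa [hj] at hdiv2
  rw [hj0, pow_zero, Subgroup.index_eq_one] at hj
  ext x
  have : x ∈ F := by rw [hj]; exact Subgroup.mem_top x
  exact (hF x).mp this


open Cfsg in
/-- A `p'`-element of `O_{p',p}(G)` lies in `O_{p'}(G)`. -/
theorem mem_pPrimeCore_of_mem_pPrimePCore {G : Type*} [Group G] [Finite G] {p : ℕ} [Fact p.Prime]
    {x : G} (hx : x ∈ pPrimePCore p G) (hxo : (orderOf x).Coprime p) : x ∈ pPrimeCore p G := by
  unfold pPrimePCore at hx
  rw [Subgroup.mem_comap] at hx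
  obtain ⟨k, hk⟩ := (pCore_isPGroup' p (G ⧸ pPrimeCore p G)) ⟨_, hx⟩
  have hk' : (QuotientGroup.mk' (pPrimeCore p G) x) ^ p ^ k = 1 := by
    have := congrArg Subtype.val hk
    simpa using this
  have h2 : (QuotientGroup.mk' (pPrimeCore p G) x) ^ orderOf x = 1 := by
    rw [← map_pow, pow_orderOf_eq_one, map_one]
  have h3 : orderOf (QuotientGroup.mk' (pPrimeCore p G) x) = 1 :=
    Nat.eq_one_of_dvd_coprimes (Nat.Coprime.pow_right k hxo)
      (orderOf_dvd_of_pow_eq_one h2) (orderOf_dvd_of_pow_eq_one hk')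
  rw [orderOf_eq_one_iff] at h3
  exact (QuotientGroup.eq_one_iff x).mp h3

open Cfsg in
/-- Elements of `O_{p'}(G)` normalizing a `p`-subgroup centralize it. -/
theorem commute_of_mem_pPrimeCore {G : Type*} [Group G] [Finite G] {p : ℕ} [Fact p.Prime]
    {Q : Subgroup G} (hQ : IsPGroup p Q) {n : G} (hn : n ∈ pPrimeCore p G)
    (hnQ : n ∈ Subgroup.normalizer (Q : Set G)) : ∀ q ∈ Q, n * q = q * n := by
  intro q hq
  haveI := pPrimeCore_characteristic p G
  haveI : (pPrimeCore p G).Normal := Subgroup.normal_of_characteristic _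
  have h1 : q⁻¹ * (n * q * n⁻¹) ∈ Q :=
    mul_mem (inv_mem hq) ((Subgroup.mem_normalizer_iff.mp hnQ q).mp hq)
  have h2 : q⁻¹ * (n * q * n⁻¹) ∈ pPrimeCore p G := by
    have h3 : q⁻¹ * (n * q * n⁻¹) = (q⁻¹ * n * q⁻¹⁻¹) * n⁻¹ := by group
    rw [h3]
    exact mul_mem (Subgroup.Normal.conj_mem inferInstance n hn _) (inv_mem hn)
  have h4 : q⁻¹ * (n * q * n⁻¹) ∈ Q ⊓ pPrimeCore p G := ⟨h1, h2⟩
  rw [isPGroup_inf_coprime_eq_bot Q _ hQ (pPrimeCore_card_coprime' p G), Subgroup.mem_bot] at h4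
  calc n * q = q * (q⁻¹ * (n * q * n⁻¹)) * n := by group
    _ = q * n := by rw [h4, mul_one]

open Cfsg in
theorem main_aux {G : Type*} [Group G] [Finite G] (p : ℕ) [Fact p.Prime] (S : Sylow p G)
    (hS : Cfsg.IsMetacyclic ↥(S : Subgroup G))
    (hcop : Nat.Coprime (Nat.card (G ⧸ Cfsg.pPrimePCore p G)) (p ^ 2 - 1)) :
    ∀ n : ℕ, ∀ Q : Subgroup G, Q ≤ (S : Subgroup G) → Nat.card Q = n →
      ∀ g ∈ Subgroup.normalizer (Q : Set G), (orderOf g).Coprime p → ∀ q ∈ Q, g * q = q * g := by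
  have hp : p.Prime := Fact.out
  intro n
  induction n using Nat.strong_induction_on with
  | _ n ih =>
  intro Q hQS hn g hgQ hg
  by_contra hcon
  push Not at hcon
  obtain ⟨q₀, hq₀, hq₀g⟩ := hcon
  have hQp : IsPGroup p Q := S.2.to_le hQS
  have hQb : Q ≠ ⊥ := by
    rintro rfl
    rw [Subgroup.mem_bot] at hq₀
    apply hq₀g; rw [hq₀]; simp
  -- the automorphism induced by g
  set α : MulAut ↥Q := Q.normalizerMonoidHom ⟨g, hgQ⟩ with hα
  have hα1 : α ≠ 1 := by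
    intro h1
    have : (⟨g, hgQ⟩ : ↥(Subgroup.normalizer (Q : Set G))) ∈ Q.normalizerMonoidHom.ker := h1
    rw [Subgroup.normalizerMonoidHom_ker, Subgroup.mem_subgroupOf, Subgroup.mem_centralizer_iff] at this
    exact hq₀g (this q₀ hq₀).symm
  have ho1 : orderOf α ≠ 1 := fun h => hα1 (orderOf_eq_one_iff.mp h)
  have hopos : 0 < orderOf α := orderOf_pos α
  set r := (orderOf α).minFac with hr
  have hrP : r.Prime := Nat.minFac_prime ho1
  haveI : Fact r.Prime := ⟨hrP⟩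
  have hro : r ∣ orderOf α := Nat.minFac_dvd _
  obtain ⟨j, hj⟩ := hro
  have hj0 : j ≠ 0 := by rintro rfl; omega
  -- β = α ^ j has order r
  have hβo : orderOf (α ^ j) = r := by
    rw [orderOf_pow_of_dvd hj0 ⟨r, by rw [hj, mul_comm]⟩, hj, Nat.mul_div_cancel _ (Nat.pos_of_ne_zero hj0)]
  have hβr : (α ^ j) ^ r = 1 := by rw [← hβo]; exact pow_orderOf_eq_one _
  have hβ1 : α ^ j ≠ 1 := by
    intro h
    rw [h, orderOf_one] at hβo
    exact hrP.one_lt.ne' hβo.symm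
  -- the element h = g ^ j
  have hhN : g ^ j ∈ Subgroup.normalizer (Q : Set G) := pow_mem hgQ j
  have hβ : α ^ j = Q.normalizerMonoidHom ⟨g ^ j, hhN⟩ := by
    rw [hα, ← map_pow]; rfl
  have hho : (orderOf (g ^ j)).Coprime p :=
    Nat.Coprime.coprime_dvd_left (orderOf_pow_dvd j) hg
  -- order of α divides order of g
  have hαg : orderOf α ∣ orderOf g := by
    have h1 : orderOf α ∣ orderOf (⟨g, hgQ⟩ : ↥(Subgroup.normalizer (Q : Set G))) :=
      orderOf_map_dvd _ _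
    rwa [Subgroup.orderOf_mk] at h1
  have hrp : r ≠ p := by
    intro h
    have h1 : p ∣ orderOf g := by rw [← h]; exact (Nat.minFac_dvd _).trans hαg
    exact hp.one_lt.ne' (Nat.Coprime.eq_one_of_dvd hg.symm h1)
  -- r does not divide p ^ 2 - 1
  have hr2 : ¬ r ∣ p ^ 2 - 1 := by
    intro hdvd
    set m := Nat.card (G ⧸ Cfsg.pPrimePCore p G) with hm
    -- (g ^ j) ^ m ∈ O_{p',p}
    have hmem : (g ^ j) ^ m ∈ pPrimePCore p G := by
      rw [← QuotientGroup.eq_one_iff, QuotientGroup.mk_pow, hm]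
      exact pow_card_eq_one'
    have hmo : (orderOf ((g ^ j) ^ m)).Coprime p :=
      Nat.Coprime.coprime_dvd_left (orderOf_pow_dvd m) hho
    have hmem2 := mem_pPrimeCore_of_mem_pPrimePCore hmem hmo
    have hmN : (g ^ j) ^ m ∈ Subgroup.normalizer (Q : Set G) := pow_mem hhN m
    have hcomm := commute_of_mem_pPrimeCore hQp hmem2 hmN
    have hβm : (α ^ j) ^ m = 1 := by
      rw [hβ, ← map_pow]
      have : (⟨g ^ j, hhN⟩ : ↥(Subgroup.normalizer (Q : Set G))) ^ m ∈ Q.normalizerMonoidHom.ker := by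
        rw [Subgroup.normalizerMonoidHom_ker, Subgroup.mem_subgroupOf, Subgroup.mem_centralizer_iff]
        intro q hq
        simp only [Subgroup.coe_pow]
        exact (hcomm q hq).symm
      exact this
    have hrm : r ∣ m := by rw [← hβo]; exact orderOf_dvd_of_pow_eq_one hβm
    have := Nat.eq_one_of_dvd_coprimes hcop hrm hdvd
    exact hrP.one_lt.ne' this
  -- Φ
  have hΦidx := index_phiSub_dvd Q hQp (gens_of_metacyclic _ hS Q hQS)
  have hΦle := phiSub_le p Q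
  have hΦne := phiSub_ne hQp hQb
  have hΦN : g ^ j ∈ Subgroup.normalizer ((phiSub p Q : Subgroup G) : Set G) :=
    Subgroup.mem_normalizer_fintype (fun x hx => phiSub_conj_mem p hhN x hx)
  have hlt : Nat.card (phiSub p Q) < n := by
    rw [← hn]
    rcases lt_or_ge (Nat.card (phiSub p Q)) (Nat.card Q) with h | h
    · exact h
    · exact absurd (Subgroup.eq_of_le_of_card_ge hΦle h) hΦne
  have hΦc := ih _ hlt (phiSub p Q) (hΦle.trans hQS) rfl (g ^ j) hΦN hho
  have hfix : ∀ x ∈ (phiSub p Q).subgroupOf Q, (α ^ j) x = x := by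
    intro x hx
    rw [hβ]
    apply Subtype.ext
    rw [Subgroup.mem_subgroupOf] at hx
    show g ^ j * (x : G) * (g ^ j)⁻¹ = x
    rw [hΦc _ hx, mul_assoc, mul_inv_cancel, mul_one]
  exact hβ1 (aut_eq_one_of_fix hQp hrp hr2 (α ^ j) hβr _ hΦidx hfix)

/-- Let p be a prime and G a finite group whose Sylow p-subgroups are metacyclic (a cyclic normal subgroup with cyclic quotient). Then G has a normal p-complement if and only if the order of G/O_{p′,p}(G) is coprime to p² − 1. -/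
theorem result {G : Type*} [Group G] [Finite G] (p : ℕ) [Fact p.Prime] (S : Sylow p G) (hS : Cfsg.IsMetacyclic ↥(S : Subgroup G)) : Cfsg.HasNormalPComplement p G ↔ Nat.Coprime (Nat.card (G ⧸ Cfsg.pPrimePCore p G)) (p ^ 2 - 1) := by
  rw [Cfsg.Agent.Lib.Helper03.hasNormalPComplement_iff S]
  constructor
  · rintro ⟨N', hN'n, hc⟩
    have hK : Cfsg.pPrimePCore p G = ⊤ := by
      have hcard : (Nat.card N').Coprime p := by
        have h1 : (S : Subgroup G).index = Nat.card N' := hc.index_eq_card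
        rw [← h1]
        exact ((Nat.Prime.coprime_iff_not_dvd Fact.out).mpr S.not_dvd_index).symm
      have hle : N' ≤ Cfsg.pPrimeCore p G := le_pPrimeCore' N' hN'n hcard
      have hsurj : Function.Surjective
          ((QuotientGroup.mk' (Cfsg.pPrimeCore p G)).comp (S : Subgroup G).subtype) := by
        intro v
        obtain ⟨g, rfl⟩ := QuotientGroup.mk_surjective v
        obtain ⟨⟨⟨n, hn⟩, ⟨s, hs⟩⟩, hns, -⟩ := (Subgroup.isComplement'_def.mp hc).existsUnique g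
        simp only at hns
        refine ⟨⟨s, hs⟩, ?_⟩
        simp only [MonoidHom.coe_comp, Function.comp_apply, Subgroup.coe_subtype, QuotientGroup.mk'_apply]
        rw [← hns, QuotientGroup.mk_mul, (QuotientGroup.eq_one_iff n).mpr (hle hn), one_mul]
      have hPG : IsPGroup p (G ⧸ Cfsg.pPrimeCore p G) := S.2.of_surjective _ hsurj
      have htop : (⊤ : Subgroup (G ⧸ Cfsg.pPrimeCore p G)) ≤ Cfsg.pCore p (G ⧸ Cfsg.pPrimeCore p G) :=
        le_pCore' inferInstance (hPG.to_subgroup _)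
      rw [eq_top_iff]
      intro x _
      unfold Cfsg.pPrimePCore
      rw [Subgroup.mem_comap]
      exact htop (Subgroup.mem_top _)
    have h1 : Nat.card (G ⧸ Cfsg.pPrimePCore p G) = 1 := by
      show (Cfsg.pPrimePCore p G).index = 1
      rw [hK, Subgroup.index_top]
    rw [h1]
    exact Nat.coprime_one_left _
  · intro hcop
    rw [Cfsg.Agent.S0071.result S]
    intro Q hQ g hgQ hg
    rw [Subgroup.mem_centralizer_iff]
    intro q hq
    exact (main_aux p S hS hcop _ Q hQ rfl g hgQ hg q hq).symm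

end Cfsg.Agent.S4419
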