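import Cfsg.Statements.S4420

set_option autoImplicit false
open Cfsg

namespace Cfsg.Agent.S4420

theorem inv_of_sq {H : Type*} [Group H] (x : H) (hx : x ^ 2 = 1) : x⁻¹ = x := by
  have : x * x = 1 := by rwa [pow_two] at hx
  exact inv_eq_of_mul_eq_one_left this

theorem conj_of_sq {H : Type*} [Group H] (x a : H) (hx : x ^ 2 = 1) (hxa : (x * a) ^ 2 = 1) :
    x * a * x⁻¹ = a⁻¹ := by
  rw [inv_of_sq x hx]
  have h : x * a * (x * a) = 1 := by rwa [pow_two] at hxa
  have h2 : x * a * x * a = 1 := by rw [← h]; group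
  exact eq_inv_of_mul_eq_one_left h2

/-- the elementary abelian case -/
theorem case_exp_two {H : Type*} [Group H] [Finite H] (hnt : Nontrivial H)
    (h2 : ∀ x : H, x ^ 2 = 1) :
    ∃ B : Subgroup H, B.Normal ∧ IsMulCommutative ↥B ∧ B.index = 2 ∧
      (∀ x : H, x ∉ B → x ^ 2 = 1 ∧ ∀ b ∈ B, x * b * x⁻¹ = b⁻¹) := by
  have hcomm : ∀ a b : H, a * b = b * a := by
    intro a b
    have h1 := inv_of_sq (a * b) (h2 _)
    rw [mul_inv_rev, inv_of_sq a (h2 a), inv_of_sq b (h2 b)] at h1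
    exact h1.symm
  have hp : IsPGroup 2 H := fun g => ⟨1, by simpa using h2 g⟩
  have : Fact (Nat.Prime 2) := ⟨Nat.prime_two⟩
  obtain ⟨n, hn⟩ := (IsPGroup.iff_card).mp hp
  have hn0 : n ≠ 0 := by
    rintro rfl
    have h1 : Nat.card H = 1 := by simpa using hn
    have : Subsingleton H := (Nat.card_eq_one_iff_unique.mp h1).1
    exact not_subsingleton H this
  obtain ⟨k, rfl⟩ : ∃ k, n = k + 1 := ⟨n - 1, by omega⟩
  have hdvd : 2 ^ k ∣ Nat.card H := by rw [hn]; exact pow_dvd_pow 2 (by omega)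
  obtain ⟨B, hB⟩ := Sylow.exists_subgroup_card_pow_prime 2 hdvd
  have hidx : B.index = 2 := by
    have h1 := B.card_mul_index
    rw [hB, hn, pow_succ] at h1
    have hpos : 0 < 2 ^ k := by positivity
    exact Nat.eq_of_mul_eq_mul_left hpos h1
  refine ⟨B, Subgroup.normal_of_index_eq_two hidx, ⟨⟨fun a b => Subtype.ext (hcomm a b)⟩⟩, hidx, ?_⟩
  intro x _
  refine ⟨h2 x, fun b _ => ?_⟩
  rw [hcomm x b, mul_inv_cancel_right, inv_of_sq b (h2 b)]

theorem result {H : Type*} [Group H] [Finite H] (A : Subgroup H) (hA : A ≠ ⊤) (hD : ∀ x : H, x ∉ A → x ^ 2 = 1) :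
    ∃ B : Subgroup H, B.Normal ∧ IsMulCommutative ↥B ∧ B.index = 2 ∧
      (∀ x : H, x ∉ B → x ^ 2 = 1 ∧ ∀ b ∈ B, x * b * x⁻¹ = b⁻¹) ∧
      (¬ (IsMulCommutative H ∧ ∀ x : H, x ^ 2 = 1) →
        ∀ B' : Subgroup H, B'.Normal → IsMulCommutative ↥B' → B'.index = 2 →
          (∀ x : H, x ∉ B' → x ^ 2 = 1 ∧ ∀ b ∈ B', x * b * x⁻¹ = b⁻¹) → B' = B) := by
  obtain ⟨x0, hx0⟩ : ∃ x0 : H, x0 ∉ A := by
    by_contra hcon
    push Not at hcon
    exact hA (Subgroup.eq_top_iff' A |>.mpr hcon)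
  by_cases hall : ∀ x : H, x ^ 2 = 1
  · -- elementary abelian case
    have hnt : Nontrivial H := by
      refine ⟨⟨x0, 1, ?_⟩⟩
      rintro rfl
      exact hx0 A.one_mem
    obtain ⟨B, hBn, hBc, hBi, hBx⟩ := case_exp_two hnt hall
    refine ⟨B, hBn, hBc, hBi, hBx, ?_⟩
    intro hne
    exfalso
    apply hne
    refine ⟨⟨⟨fun a b => ?_⟩⟩, hall⟩
    have h1 := inv_of_sq (a * b) (hall _)
    rw [mul_inv_rev, inv_of_sq a (hall a), inv_of_sq b (hall b)] at h1
    exact h1.symm
  · push Not at hall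
    obtain ⟨h, hh⟩ := hall
    set T : Set H := {g | g ^ 2 ≠ 1} with hT
    set B : Subgroup H := Subgroup.closure T with hB
    have hTA : T ⊆ (A : Set H) := by
      intro g hg
      by_contra hgA
      exact hg (hD g hgA)
    have hBA : B ≤ A := (Subgroup.closure_le A).mpr hTA
    have hx0sq : x0 ^ 2 = 1 := hD x0 hx0
    have hx0inv : ∀ a ∈ A, x0 * a * x0⁻¹ = a⁻¹ := by
      intro a ha
      apply conj_of_sq x0 a hx0sq
      apply hD
      intro hcon
      apply hx0
      have := A.mul_mem hcon (A.inv_mem ha)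
      simpa using this
    have hAcomm : ∀ a ∈ A, ∀ b ∈ A, a * b = b * a := by
      intro a ha b hb
      have h1 := hx0inv (a * b) (A.mul_mem ha hb)
      have h2 : x0 * (a * b) * x0⁻¹ = (x0 * a * x0⁻¹) * (x0 * b * x0⁻¹) := by group
      rw [h2, hx0inv a ha, hx0inv b hb, ← mul_inv_rev] at h1
      exact (inv_injective h1).symm
    have hTB : T ⊆ (B : Set H) := Subgroup.subset_closure
    have hhB : h ∈ B := hTB hh
    have hBsq : ∀ x : H, x ∉ B → x ^ 2 = 1 := by
      intro x hx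
      by_contra hcon
      exact hx (hTB hcon)
    have hBinv : ∀ x : H, x ∉ B → ∀ b ∈ B, x * b * x⁻¹ = b⁻¹ := by
      intro x hx b hb
      have hgen : ∀ t ∈ T, x * t * x⁻¹ = t⁻¹ := by
        intro t ht
        apply conj_of_sq x t (hBsq x hx)
        by_contra hcon
        have hxt : x * t ∈ B := hTB hcon
        apply hx
        have := B.mul_mem hxt (B.inv_mem (hTB ht))
        simpa using this
      induction hb using Subgroup.closure_induction with
      | mem t ht => exact hgen t ht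
      | one => simp
      | mul a b ha hb iha ihb =>
        have h2 : x * (a * b) * x⁻¹ = (x * a * x⁻¹) * (x * b * x⁻¹) := by group
        rw [h2, iha, ihb, ← mul_inv_rev, hAcomm a (hBA ha) b (hBA hb)]
      | inv a ha iha =>
        have h2 : x * a⁻¹ * x⁻¹ = (x * a * x⁻¹)⁻¹ := by group
        rw [h2, iha]
    have hx0B : x0 ∉ B := fun hcon => hx0 (hBA hcon)
    have hprod : ∀ x y : H, x ∉ B → y ∉ B → x * y ∈ B := by
      intro x y hx hy
      by_contra hxy
      have h1 := hBinv (x * y) hxy h hhB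
      have h2 : x * y * h * (x * y)⁻¹ = x * (y * h * y⁻¹) * x⁻¹ := by group
      rw [h2, hBinv y hy h hhB] at h1
      have h3 : x * h⁻¹ * x⁻¹ = (x * h * x⁻¹)⁻¹ := by group
      rw [h3, hBinv x hx h hhB, inv_inv] at h1
      apply hh
      rw [pow_two]
      calc h * h = h * h⁻¹ := by rw [← h1]
        _ = 1 := mul_inv_cancel h
    have hidx : B.index = 2 := by
      rw [Subgroup.index_eq_two_iff]
      refine ⟨x0, fun b => ?_⟩
      by_cases hb : b ∈ B
      · right
        refine ⟨hb, fun hcon => hx0B ?_⟩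
        have := B.mul_mem (B.inv_mem hb) hcon
        simpa using this
      · left
        exact ⟨hprod b x0 hb hx0B, hb⟩
    refine ⟨B, Subgroup.normal_of_index_eq_two hidx,
      ⟨⟨fun a b => Subtype.ext (hAcomm a (hBA a.2) b (hBA b.2))⟩⟩, hidx,
      fun x hx => ⟨hBsq x hx, hBinv x hx⟩, ?_⟩
    intro _ B' _ _ hB'i hB'x
    have hTB' : T ⊆ (B' : Set H) := by
      intro t ht
      by_contra hcon
      exact ht (hB'x t hcon).1
    have hle : B ≤ B' := (Subgroup.closure_le B').mpr hTB'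
    have h1 := Subgroup.relIndex_mul_index hle
    rw [hidx, hB'i] at h1
    have h2 : B.relIndex B' = 1 := by omega
    exact le_antisymm (Subgroup.relIndex_eq_one.mp h2) hle

end Cfsg.Agent.S4420
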