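import Cfsg.Statements.S4421

set_option autoImplicit false
open Cfsg

namespace Cfsg.Agent.S4421

theorem mem_map_conj {G : Type*} [Group G] (K : Subgroup G) (g x : G) :
    x ∈ K.map (MulAut.conj g).toMonoidHom ↔ g⁻¹ * x * g ∈ K := by
  constructor
  · rintro ⟨k, hk, rfl⟩
    simp only [MulEquiv.coe_toMonoidHom, MulAut.conj_apply]
    have : g⁻¹ * (g * k * g⁻¹) * g = k := by group
    rw [this]; exact hk
  · intro h
    refine ⟨g⁻¹ * x * g, h, ?_⟩
    simp only [MulEquiv.coe_toMonoidHom, MulAut.conj_apply]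
    group

/-- A factorization of a normalizer from two-step control of fusion. -/
theorem result {G : Type*} [Group G] [Finite G] (A S H : Subgroup G)
    (hAS : A ≤ S) (hSH : S ≤ H)
    (h1 : ∀ g : G, A.map (MulAut.conj g).toMonoidHom ≤ S → ∃ s ∈ S, A.map (MulAut.conj g).toMonoidHom = A.map (MulAut.conj s).toMonoidHom)
    (h2 : ∀ g : G, S.map (MulAut.conj g).toMonoidHom ≤ H → ∃ y ∈ H, S.map (MulAut.conj g).toMonoidHom = S.map (MulAut.conj y).toMonoidHom)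
    (h3 : ∀ x ∈ Subgroup.normalizer (A : Set G), S.map (MulAut.conj x).toMonoidHom ≤ H) :
    ∀ x ∈ Subgroup.normalizer (A : Set G), ∃ y ∈ H ⊓ Subgroup.normalizer (A : Set G),
      ∃ z ∈ Subgroup.normalizer (S : Set G) ⊓ Subgroup.normalizer (A : Set G), x = y * z := by
  intro x hx
  obtain ⟨y, hyH, hy⟩ := h2 x (h3 x hx)
  -- y⁻¹ x normalizes S
  have hxA : ∀ a, a ∈ A ↔ x * a * x⁻¹ ∈ A := fun a => (Subgroup.mem_normalizer_iff.mp hx) a
  have hS : ∀ t, x⁻¹ * t * x ∈ S ↔ y⁻¹ * t * y ∈ S := by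
    intro t
    rw [← mem_map_conj, ← mem_map_conj, hy]
  -- conjugate of A by y⁻¹ lies in S
  have hAyS : A.map (MulAut.conj y⁻¹).toMonoidHom ≤ S := by
    intro t ht
    rw [mem_map_conj] at ht
    simp only [inv_inv] at ht
    -- t = y⁻¹ a y with a ∈ A; a = x a' x⁻¹
    have h1' : x⁻¹ * (y * t * y⁻¹) * x ∈ A := by
      have := (hxA (x⁻¹ * (y * t * y⁻¹) * x))
      rw [this]
      have e : x * (x⁻¹ * (y * t * y⁻¹) * x) * x⁻¹ = y * t * y⁻¹ := by group
      rw [e]; exact ht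
    have h2' : x⁻¹ * (y * t * y⁻¹) * x ∈ S := hAS h1'
    rw [hS] at h2'
    have e : y⁻¹ * (y * t * y⁻¹) * y = t := by group
    rwa [e] at h2'
  obtain ⟨s, hsS, hs⟩ := h1 y⁻¹ hAyS
  -- y * s normalizes A
  have hysA : y * s ∈ Subgroup.normalizer (A : Set G) := by
    rw [Subgroup.mem_normalizer_iff]
    intro a
    have key : ∀ t, y * t * y⁻¹ ∈ A ↔ s⁻¹ * t * s ∈ A := by
      intro t
      have := mem_map_conj A y⁻¹ t
      simp only [inv_inv] at this
      rw [← this, hs, mem_map_conj]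
    have e1 : y * s * a * (y * s)⁻¹ = y * (s * a * s⁻¹) * y⁻¹ := by group
    rw [e1, key]
    have e2 : s⁻¹ * (s * a * s⁻¹) * s = a := by group
    rw [e2]
  have hysH : y * s ∈ H := H.mul_mem hyH (hSH hsS)
  refine ⟨y * s, ⟨hysH, hysA⟩, (y * s)⁻¹ * x, ⟨?_, ?_⟩, by group⟩
  · -- normalizes S
    show (y * s)⁻¹ * x ∈ Subgroup.normalizer (S : Set G)
    rw [Subgroup.mem_normalizer_iff]
    intro t
    have e1 : (y * s)⁻¹ * x * t * ((y * s)⁻¹ * x)⁻¹ = s⁻¹ * (y⁻¹ * (x * t * x⁻¹) * y) * s := by group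
    rw [e1]
    have hiff : s⁻¹ * (y⁻¹ * (x * t * x⁻¹) * y) * s ∈ S ↔ y⁻¹ * (x * t * x⁻¹) * y ∈ S := by
      constructor
      · intro h
        have := S.mul_mem (S.mul_mem hsS h) (S.inv_mem hsS)
        have e : s * (s⁻¹ * (y⁻¹ * (x * t * x⁻¹) * y) * s) * s⁻¹ = y⁻¹ * (x * t * x⁻¹) * y := by group
        rwa [e] at this
      · intro h
        exact S.mul_mem (S.mul_mem (S.inv_mem hsS) h) hsS
    rw [hiff, ← hS]
    have e : x⁻¹ * (x * t * x⁻¹) * x = t := by group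
    rw [e]
  · show (y * s)⁻¹ * x ∈ Subgroup.normalizer (A : Set G)
    exact Subgroup.mul_mem _ (Subgroup.inv_mem _ hysA) hx

end Cfsg.Agent.S4421
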