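import Cfsg.Statements.S4422

set_option autoImplicit false
open Cfsg

namespace Cfsg.Agent.S4422

theorem list_prod_modEq_one (e : ℕ) (l : List ℕ) (h : ∀ x ∈ l, x ≡ 1 [MOD e]) :
    l.prod ≡ 1 [MOD e] := by
  induction l with
  | nil => simp [Nat.ModEq]
  | cons a t ih =>
    rw [List.prod_cons]
    have := (h a (by simp)).mul (ih (fun x hx => h x (by simp [hx])))
    simpa using this

theorem prime_case (q e p : ℕ) (he : 1 ≤ e) (hp : p.Prime)
    (hm : p ∣ q ^ e - 1) (hcop : ∀ i : ℕ, 1 ≤ i → i < e → ¬ p ∣ (q ^ i - 1)) (hq : 1 ≤ q) :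
    p ≡ 1 [MOD e] := by
  have : Fact p.Prime := ⟨hp⟩
  have hpow : ∀ i : ℕ, p ∣ q ^ i - 1 ↔ ((q : ZMod p)) ^ i = 1 := by
    intro i
    have h1 : 1 ≤ q ^ i := Nat.one_le_pow _ _ hq
    rw [← (Nat.modEq_iff_dvd' h1), ← ZMod.natCast_eq_natCast_iff]
    push_cast
    exact eq_comm
  have hqe : (q : ZMod p) ^ e = 1 := (hpow e).mp hm
  have hd : orderOf (q : ZMod p) ∣ e := orderOf_dvd_of_pow_eq_one hqe
  have hdpos : 0 < orderOf (q : ZMod p) := by
    apply Nat.pos_of_ne_zero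
    intro h0
    rw [h0] at hd
    have := Nat.eq_zero_of_zero_dvd hd
    omega
  have hde : orderOf (q : ZMod p) = e := by
    by_contra hne
    have hlt : orderOf (q : ZMod p) < e := lt_of_le_of_ne (Nat.le_of_dvd (by omega) hd) hne
    exact hcop _ hdpos hlt ((hpow _).mpr (pow_orderOf_eq_one _))
  have hq0 : (q : ZMod p) ≠ 0 := by
    intro h0
    rw [h0, zero_pow (by omega)] at hqe
    exact zero_ne_one hqe
  have hdvd : e ∣ p - 1 := by
    rw [← hde]
    exact ZMod.orderOf_dvd_card_sub_one hq0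
  have hp1 : 1 ≤ p := hp.one_lt.le
  exact ((Nat.modEq_iff_dvd' hp1).mpr hdvd).symm

/-- Primitive divisors of `q^e - 1` are congruent to 1 modulo `e`. -/
theorem result (q e m : ℕ) (hq : 2 ≤ q) (he : 1 ≤ e)
    (hm : m ∣ q ^ e - 1) (hcop : ∀ i : ℕ, 1 ≤ i → i < e → Nat.Coprime m (q ^ i - 1)) :
    m % e = 1 % e := by
  have hpos : 0 < q ^ e - 1 := by
    have : 2 ^ e ≤ q ^ e := Nat.pow_le_pow_left hq e
    have h2 : 2 ≤ 2 ^ e := by
      calc 2 = 2 ^ 1 := by norm_num
        _ ≤ 2 ^ e := Nat.pow_le_pow_right (by norm_num) he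
    omega
  have hm0 : m ≠ 0 := by
    rintro rfl
    have := Nat.eq_zero_of_zero_dvd hm
    omega
  have key : m.primeFactorsList.prod ≡ 1 [MOD e] := by
    apply list_prod_modEq_one
    intro p hp
    have hpp : p.Prime := Nat.prime_of_mem_primeFactorsList hp
    have hpm : p ∣ m := Nat.dvd_of_mem_primeFactorsList hp
    apply prime_case q e p he hpp (hpm.trans hm) _ (by omega)
    intro i hi hie hpi
    have hc := hcop i hi hie
    have : p ∣ Nat.gcd m (q ^ i - 1) := Nat.dvd_gcd hpm hpi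
    rw [hc] at this
    exact hpp.one_lt.ne' (Nat.dvd_one.mp this)
  rw [Nat.prod_primeFactorsList hm0] at key
  exact key

end Cfsg.Agent.S4422
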