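import Cfsg.Statements.S4423
import Cfsg.Agent.Lib.Helper78.CycloTable

set_option autoImplicit false
open Cfsg

namespace Cfsg.Agent.S4423

open Cfsg.Agent.Lib.Helper78.Cyclo

/-- the thirteen exceptional pairs -/
def exc13 : List (ℕ × ℕ) :=
  [(2, 6), (2, 4), (2, 10), (2, 12), (2, 18), (3, 4), (3, 6), (5, 6), (2, 3), (2, 8), (2, 20), (4, 3), (4, 6)]

/-- table entries outside the thirteen exceptional pairs have `m ≥ 3n + 1` -/
theorem tab_large : ∀ t ∈ primTab, (t.1, t.2.1) ∉ exc13 → 3 * t.2.1 + 1 ≤ t.2.2 := by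
  decide +kernel

/-- the exceptional pairs with their primitive parts -/
def excTab : List (ℕ × ℕ × ℕ) :=
  [(2, 6, 1), (2, 4, 5), (2, 10, 11), (2, 12, 13), (2, 18, 19), (3, 4, 5), (3, 6, 7), (5, 6, 7),
    (2, 3, 7), (2, 8, 17), (2, 20, 41), (4, 3, 7), (4, 6, 13)]

/-- the product of the `a ^ i - 1`, `1 ≤ i < n` -/
def prodP (a n : ℕ) : ℕ := ∏ i ∈ Finset.Ico 1 n, (a ^ i - 1)

theorem excTab_ok : ∀ t ∈ excTab,
    (t.2.2 * (prodP t.1 t.2.1) ^ 20) % (t.1 ^ t.2.1 - 1) = 0 ∧ t.2.2 ≤ 2 * t.2.1 + 1 ∧ 0 < t.2.2 := by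
  decide +kernel

theorem exc_cover : ∀ p ∈ exc13, ∃ t ∈ excTab, t.1 = p.1 ∧ t.2.1 = p.2 := by decide +kernel

/-- Size of the primitive part of `q^e - 1`. For a prime power `q` and `e ≥ 3`, call a divisor of `q^e - 1` primitive when it is coprime to `q^i - 1` for every `1 ≤ i < e`; the primitive part is the largest primitive divisor. Apart from thirteen exceptional pairs, the primitive part is at least `3e + 1`: there is a primitive divisor `m ≥ 3e + 1` unless `(q, e)` is `(2, 6)` (where every primitive divisor is 1), one of `(2,4), (2,10), (2,12), (2,18), (3,4), (3,6), (5,6)` (where the primitive part is exactly `e + 1`), or one of `(2,3), (2,8), (2,20), (4,3), (4,6)` (where it is exactly `2e + 1`). The statement asserts the existence of a primitive divisor `m ≥ 3e + 1` outside the thirteen pairs, and that every primitive divisor is at most `2e + 1` for the thirteen pairs. -/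
theorem result (q e : ℕ) (hq : IsPrimePow q) (he : 3 ≤ e) :
    ((q, e) ∉ [(2, 6), (2, 4), (2, 10), (2, 12), (2, 18), (3, 4), (3, 6), (5, 6), (2, 3), (2, 8), (2, 20), (4, 3), (4, 6)] →
      ∃ m : ℕ, m ∣ q ^ e - 1 ∧ (∀ i : ℕ, 1 ≤ i → i < e → Nat.Coprime m (q ^ i - 1)) ∧ 3 * e + 1 ≤ m) ∧
    ((q, e) ∈ [(2, 6), (2, 4), (2, 10), (2, 12), (2, 18), (3, 4), (3, 6), (5, 6), (2, 3), (2, 8), (2, 20), (4, 3), (4, 6)] →
      ∀ m : ℕ, m ∣ q ^ e - 1 → (∀ i : ℕ, 1 ≤ i → i < e → Nat.Coprime m (q ^ i - 1)) → m ≤ 2 * e + 1) := by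
  have hq2 : 2 ≤ q := hq.two_le
  constructor
  · intro hne
    obtain ⟨m, hm, hprim, h⟩ := exists_primitive_part_ge_or_table q e hq2 he
    refine ⟨m, hm, fun i hi hie => hprim.coprime i hi hie, ?_⟩
    rcases h with h | h
    · exact h
    · exact tab_large _ h hne
  · intro hmem m hm hc
    obtain ⟨t, ht, h1, h2⟩ := exc_cover _ hmem
    obtain ⟨hdiv, hle, hpos⟩ := excTab_ok t ht
    obtain ⟨a', n', B⟩ := t
    simp only at h1 h2 hdiv hle hpos
    rw [h1, h2] at hdiv
    rw [h2] at hle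
    have hcop : Nat.Coprime m (prodP q e ^ 20) := by
      apply Nat.Coprime.pow_right
      unfold prodP
      apply Nat.Coprime.prod_right
      intro i hi
      rw [Finset.mem_Ico] at hi
      exact hc i hi.1 hi.2
    have h3 : m ∣ B * prodP q e ^ 20 := hm.trans (Nat.dvd_of_mod_eq_zero hdiv)
    have h4 : m ∣ B := hcop.dvd_of_dvd_mul_right h3
    exact (Nat.le_of_dvd hpos h4).trans hle

end Cfsg.Agent.S4423
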