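import Cfsg.Statements.S4424
import Cfsg.Agent.Lib.Helper21.RegularGenChar
import Cfsg.Agent.Lib.Helper21.RegularPart

set_option autoImplicit false
open Cfsg

namespace Cfsg.Agent.S4424

open Cfsg.Agent.Lib.Helper21 Cfsg.Agent.Lib.Helper82 Cfsg.Agent.Lib.Helper83 Cfsg.Agent.Lib.Helper34
open scoped ComplexConjugate

/-- Let χ be an irreducible character of the finite group G lying in the p-block B (relative to a maximal ideal M of the algebraic integers containing p), and let p^a be the p-part of the order of G. Then the class function that equals p^a · χ on the p-regular elements and vanishes on the p-singular elements is an integer combination of the irreducible characters in B: there are integers a_ψ, zero for ψ outside B, with that function equal to Σ a_ψ ψ. -/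
theorem result {G : Type*} [Group G] [Finite G] (p : ℕ) [Fact p.Prime] (M : Ideal Cfsg.AlgInt) (hM : Cfsg.IsPModular p M) (B : Set (Cfsg.IrrCharacter G)) (hB : Cfsg.IsPBlock M B) (χ : Cfsg.IrrCharacter G) (hχ : χ ∈ B) : ∃ a : Cfsg.IrrCharacter G → ℤ, (∀ ψ, ψ ∉ B → a ψ = 0) ∧ (fun x : G => if p ∣ orderOf x then (0 : ℂ) else ((p ^ (Nat.card G).factorization p : ℕ) : ℂ) * (χ : G → ℂ) x) = fun x => ∑ᶠ ψ : Cfsg.IrrCharacter G, (a ψ : ℂ) * (ψ : G → ℂ) x := by
  classical
  have := Fintype.ofFinite G
  have := Fintype.ofFinite (Cfsg.IrrCharacter G)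
  have hprime : M.IsPrime := hM.2.1.isPrime
  have hBχ : B = blockOf M (χ : G → ℂ) := IsPBlock.eq_blockOf hprime hB hχ
  have hgc := isGeneralizedCharacter_regPart (G := G) p (IrrCharacter_isCharacter χ)
  obtain ⟨z, hz⟩ := exists_int_coeff hgc
  refine ⟨z, ?_, ?_⟩
  · intro ψ hψ
    have h1 := congrArg (fun f => Cfsg.classInner f (ψ : G → ℂ)) hz
    simp only [classInner_sum_irr_left] at h1
    have hns : ¬ SameBlock M (χ : G → ℂ) (ψ : G → ℂ) := by
      intro hs
      apply hψ
      rw [hBχ, mem_blockOf_iff]
      exact hs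
    have h0 := sum_regular_mul_conj_eq_zero hM χ ψ hns
    have h2 : Cfsg.classInner (fun g : G => if p ∣ orderOf g then (0 : ℂ) else
        ((p ^ (Nat.card G).factorization p : ℕ) : ℂ) * (χ : G → ℂ) g) (ψ : G → ℂ) = 0 := by
      rw [Cfsg.Agent.Lib.Helper83.classInner_def]
      have : ∑ g : G, (if p ∣ orderOf g then (0 : ℂ) else
          ((p ^ (Nat.card G).factorization p : ℕ) : ℂ) * (χ : G → ℂ) g) * conj ((ψ : G → ℂ) g)
          = ((p ^ (Nat.card G).factorization p : ℕ) : ℂ) * ∑ x : G, (if p ∣ orderOf x then 0 else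
            (χ : G → ℂ) x * conj ((ψ : G → ℂ) x)) := by
        rw [Finset.mul_sum]
        apply Finset.sum_congr rfl
        intro g _
        split_ifs
        · simp
        · ring
      rw [this, h0, mul_zero, mul_zero]
    rw [h2] at h1
    exact_mod_cast h1.symm
  · rw [hz]
    funext x
    rw [finsum_eq_sum_of_fintype, Finset.sum_apply]
    apply Finset.sum_congr rfl
    intro ψ _
    rw [Pi.smul_apply, smul_eq_mul]

end Cfsg.Agent.S4424
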