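import Cfsg.Statements.S4428
import Cfsg.Agent.Lib.Helper21.BrouePuig

set_option autoImplicit false
open Cfsg

namespace Cfsg.Agent.S4428

open Cfsg.Agent.Lib.Helper21 Cfsg.Agent.Lib.Helper82 Cfsg.Agent.Lib.Helper83

/-- Let χ be an irreducible character of height zero in the p-block B of the finite group G (relative to a maximal ideal M of the algebraic integers containing p). Let x be a p-element of G with centralizer C, and let b be a block of C that induces B. Form the class function ϑ(c) = χ(x c) on C and its b-part (the sum over ψ ∈ b of the inner product of ϑ with ψ, times ψ). Then the b-part of ϑ does not vanish identically on the p-regular elements of C. (Compare the second main Theorem, which gives vanishing when b does not induce B.) -/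
theorem result {G : Type*} [Group G] [Finite G] (p : ℕ) [Fact p.Prime] (M : Ideal Cfsg.AlgInt) (hM : Cfsg.IsPModular p M) (B : Set (Cfsg.IrrCharacter G)) (hB : Cfsg.IsPBlock M B) (χ : Cfsg.IrrCharacter G) (hχ : χ ∈ B) (h0 : Cfsg.blockHeight p B (χ : G → ℂ) = 0) (x : G) (hx : ∃ k : ℕ, orderOf x = p ^ k) (b : Set (Cfsg.IrrCharacter (Subgroup.centralizer ({x} : Set G)))) (hb : Cfsg.IsInducedBlock M (Subgroup.centralizer ({x} : Set G)) b B) : ∃ y : Subgroup.centralizer ({x} : Set G), ¬ p ∣ orderOf y ∧ Cfsg.blockPart b (fun c : Subgroup.centralizer ({x} : Set G) => (χ : G → ℂ) (x * (c : G))) y ≠ 0 := by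
  classical
  have := Fintype.ofFinite G
  have := Fintype.ofFinite (Cfsg.IrrCharacter G)
  have := Fintype.ofFinite (Subgroup.centralizer ({x} : Set G))
  have hprime : M.IsPrime := hM.2.1.isPrime
  have hBχ : B = blockOf M (χ : G → ℂ) := IsPBlock.eq_blockOf hprime hB hχ
  obtain ⟨k, hk⟩ := hx
  have hxk : x ^ (p ^ k) = 1 := by rw [← hk]; exact pow_orderOf_eq_one x
  have hxC : x ∈ Subgroup.centralizer ({x} : Set G) := by
    rw [Subgroup.mem_centralizer_iff]
    intro y hy
    rw [Set.mem_singleton_iff] at hy
    rw [hy]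
  have hxc : ∀ h ∈ Subgroup.centralizer ({x} : Set G), h * x = x * h := by
    intro h hh
    rw [Subgroup.mem_centralizer_iff] at hh
    exact (hh x (Set.mem_singleton x)).symm
  have hmin : ∀ χ' : Cfsg.IrrCharacter G, SameBlock M (χ : G → ℂ) (χ' : G → ℂ) →
      (Cfsg.charDegree (χ : G → ℂ)).factorization p ≤
        (Cfsg.charDegree (χ' : G → ℂ)).factorization p := by
    intro χ' hs
    have hχ'B : χ' ∈ B := by
      rw [hBχ, mem_blockOf_iff]
      exact hs
    unfold Cfsg.blockHeight at h0
    have hle := Nat.sub_eq_zero_iff_le.1 h0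
    exact le_trans hle (Nat.sInf_le ⟨χ', hχ'B, rfl⟩)
  have := exists_regular_blockPart_ne_zero hM (Subgroup.centralizer ({x} : Set G)) x hxC hxc k hxk
    b B hb χ hχ hmin
  convert this

end Cfsg.Agent.S4428
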