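import Cfsg.Statements.S4430
import Cfsg.Agent.Lib.Helper21.BlockPartVal
import Cfsg.Agent.Lib.Helper04.IndFun
import Cfsg.Agent.Lib.Helper83.Decompose
import Cfsg.Agent.S0148

set_option autoImplicit false
open Cfsg

namespace Cfsg.Agent.S4430

open Cfsg.Agent.Lib.Helper21 Cfsg.Agent.Lib.Helper82 Cfsg.Agent.Lib.Helper83
open scoped ComplexConjugate

theorem blockPart_eq {G : Type*} [Group G] [Fintype G] (B : Set (Cfsg.IrrCharacter G))
    (ϑ : G → ℂ) (g : G) :
    Cfsg.blockPart B ϑ g = ∑ᶠ χ ∈ B, Cfsg.classInner ϑ (χ : G → ℂ) * (χ : G → ℂ) g := by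
  unfold Cfsg.blockPart
  apply finsum_congr
  intro χ
  apply finsum_congr
  intro _
  congr 2
  exact Subsingleton.elim _ _

theorem indFun_one {G : Type*} [Group G] [Fintype G] (H : Subgroup G) (ξ : H → ℂ) :
    Cfsg.indFun H ξ 1 = (H.index : ℂ) * ξ 1 := by
  have hH : (Nat.card H : ℂ) ≠ 0 := by
    have : Nat.card H ≠ 0 := Nat.card_pos.ne'
    exact_mod_cast this
  have hidx : (H.index : ℂ) = (Nat.card G : ℂ) / (Nat.card H : ℂ) := by
    rw [eq_div_iff hH]
    have := H.index_mul_card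
    exact_mod_cast this
  rw [Cfsg.indFun]
  have : ∀ x : G, Cfsg.extendByZero H ξ (x⁻¹ * 1 * x) = ξ 1 := by
    intro x
    have h1 : x⁻¹ * 1 * x = ((1 : H) : G) := by simp
    rw [h1, Cfsg.Agent.Lib.Helper04.extendByZero_apply_mem]
  rw [Finset.sum_congr rfl (fun x _ => this x), Finset.sum_const, Finset.card_univ, nsmul_eq_mul,
    hidx, ← Nat.card_eq_fintype_card]
  field_simp

/-- The value at `1` of the `B`-part of the induced character, for `B` a block. -/
theorem blockPart_indFun_one {G : Type*} [Group G] [Fintype G] (p : ℕ) [Fact p.Prime]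
    (M : Ideal Cfsg.AlgInt) (hM : Cfsg.IsPModular p M) (H : Subgroup G) [Fintype H]
    (ξ : Cfsg.IrrCharacter H) (χ' : Cfsg.IrrCharacter G) :
    ∃ n : ℕ, Cfsg.blockPart (blockOf M (χ' : G → ℂ)) (Cfsg.indFun H (ξ : H → ℂ)) 1 = (n : ℂ) ∧
      (n : ℂ) = (Cfsg.charDegree (Cfsg.indFun H (ξ : H → ℂ)) : ℂ) *
        omega (fun h : H => blockCoeff (blockOf M (χ' : G → ℂ)) (h : G)) (ξ : H → ℂ) ∧
      Cfsg.charDegree (Cfsg.indFun H (ξ : H → ℂ)) ≠ 0 := by
  classical
  have := Fintype.ofFinite (Cfsg.IrrCharacter G)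
  have := Fintype.ofFinite (Cfsg.IrrCharacter H)
  have hθchar : Cfsg.IsCharacter G (Cfsg.indFun H (ξ : H → ℂ)) :=
    Cfsg.Agent.S0148.result H _ (IsIrrCharacter.isCharacter ξ.2)
  have hdeg : (Cfsg.charDegree (Cfsg.indFun H (ξ : H → ℂ)) : ℂ) = (H.index : ℂ) * (ξ : H → ℂ) 1 := by
    rw [Cfsg.Agent.Lib.Helper83.charDegree_cast hθchar, indFun_one]
  have hnat : ∀ χ : Cfsg.IrrCharacter G, ∃ k : ℕ,
      Cfsg.classInner (Cfsg.indFun H (ξ : H → ℂ)) (χ : G → ℂ) = k := fun χ =>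
    classInner_char_nat hθchar (IsIrrCharacter.isCharacter χ.2)
  choose k hk using hnat
  refine ⟨∑ χ : Cfsg.IrrCharacter G, if χ ∈ blockOf M (χ' : G → ℂ) then
    k χ * Cfsg.charDegree (χ : G → ℂ) else 0, ?_, ?_, ?_⟩
  · rw [blockPart_eq, finsum_mem_eq_sum_ite]
    push_cast
    apply Finset.sum_congr rfl
    intro χ _
    split_ifs
    · rw [hk χ, Cfsg.Agent.Lib.Helper83.charDegree_cast (IsIrrCharacter.isCharacter χ.2)]
    · rfl
  · rw [hdeg, ← sum_block_inner_restrict_mul_degree H (blockOf M (χ' : G → ℂ)) ξ]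
    push_cast
    apply Finset.sum_congr rfl
    intro χ _
    split_ifs
    · rw [← hk χ, Cfsg.Agent.Lib.Helper04.frobenius_reciprocity H _ _ (isClassFunction_irr χ),
        Cfsg.Agent.Lib.Helper83.charDegree_cast (IsIrrCharacter.isCharacter χ.2)]
    · rfl
  · intro h0
    rw [h0] at hdeg
    have hξ1 : (ξ : H → ℂ) 1 ≠ 0 := IsIrrCharacter.apply_one_ne_zero ξ.2
    have hidx : H.index ≠ 0 := Subgroup.index_ne_zero_of_finite
    simp at hdeg
    rcases hdeg with h | h
    · exact hidx h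
    · exact hξ1 h

/-- Let H be a subgroup of the finite group G, b a block of H whose induced block B₀ in G is defined (relative to a maximal ideal M of the algebraic integers containing p), and ξ ∈ b. For a block B of G let n_B be the value at 1 of the B-part of the induced character ξ^G (a natural number: the sum over χ ∈ B of the multiplicity of χ in ξ^G times χ(1)). Then for B = B₀ the exact power of p dividing n_B equals the exact power of p dividing ξ^G(1), while for every other block B either n_B = 0 or n_B is divisible by a strictly higher power of p than ξ^G(1). -/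
theorem result {G : Type*} [Group G] [Fintype G] (p : ℕ) [Fact p.Prime] (M : Ideal Cfsg.AlgInt) (hM : Cfsg.IsPModular p M) (H : Subgroup G) [Fintype H] (b : Set (Cfsg.IrrCharacter H)) (B₀ : Set (Cfsg.IrrCharacter G)) (hind : Cfsg.IsInducedBlock M H b B₀) (ξ : Cfsg.IrrCharacter H) (hξ : ξ ∈ b) : (∃ n : ℕ, Cfsg.blockPart B₀ (Cfsg.indFun H (ξ : H → ℂ)) 1 = (n : ℂ) ∧ n ≠ 0 ∧ n.factorization p = (Cfsg.charDegree (Cfsg.indFun H (ξ : H → ℂ))).factorization p) ∧ ∀ B : Set (Cfsg.IrrCharacter G), Cfsg.IsPBlock M B → B ≠ B₀ → ∃ n : ℕ, Cfsg.blockPart B (Cfsg.indFun H (ξ : H → ℂ)) 1 = (n : ℂ) ∧ (n = 0 ∨ (Cfsg.charDegree (Cfsg.indFun H (ξ : H → ℂ))).factorization p < n.factorization p) := by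
  classical
  have := Fintype.ofFinite (Cfsg.IrrCharacter G)
  have := Fintype.ofFinite (Cfsg.IrrCharacter H)
  have hprime : M.IsPrime := hM.2.1.isPrime
  obtain ⟨χ₀, hχ₀⟩ := Cfsg.Agent.Lib.Helper82.IsPBlock.nonempty hprime hind.2.1
  have hB₀ : B₀ = blockOf M (χ₀ : G → ℂ) := IsPBlock.eq_blockOf hprime hind.2.1 hχ₀
  constructor
  · obtain ⟨n, hn1, hn2, hm⟩ := blockPart_indFun_one p M hM H ξ χ₀
    have ht := omega_restrict_blockCoeff_sub_ite H hprime hind hξ hχ₀ χ₀
    rw [if_pos (mem_blockOf_self hprime χ₀)] at ht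
    obtain ⟨h1, h2⟩ := factorization_eq_of_mul_unit hM hn2 hm ht
    refine ⟨n, ?_, h1, h2⟩
    rw [hB₀]; exact hn1
  · intro B hB hne
    obtain ⟨χ', rfl⟩ := hB
    obtain ⟨n, hn1, hn2, hm⟩ := blockPart_indFun_one p M hM H ξ χ'
    have ht := omega_restrict_blockCoeff_sub_ite H hprime hind hξ hχ₀ χ'
    have hnot : χ₀ ∉ blockOf M (χ' : G → ℂ) := by
      intro hmem
      apply hne
      rw [hB₀]
      rw [mem_blockOf_iff] at hmem
      exact blockOf_eq_of_sameBlock hprime hmem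
    rw [if_neg hnot, sub_zero] at ht
    exact ⟨n, hn1, factorization_lt_of_mul_ideal hM hn2 hm ht⟩

end Cfsg.Agent.S4430
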