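import Cfsg.Statements.S4443
import Cfsg.Agent.S4741
import Cfsg.Agent.S0907
import Cfsg.Agent.S0911
import Cfsg.Agent.Lib.Helper21.Osima
import Cfsg.Agent.Lib.Helper21.OsimaApps
import Cfsg.Agent.Lib.Helper21.InducedBlock
import Cfsg.Agent.Lib.Helper82.WeakOrth
import Cfsg.Agent.Lib.Helper82.ResidueField
import Cfsg.Agent.Lib.Helper81.DefectBasic
import Cfsg.Agent.Lib.Helper82.VanishOffDefect
import Cfsg.Agent.Lib.Helper06.ConjCount
import Cfsg.Agent.Lib.Helper04.Basis

set_option autoImplicit false
open Cfsg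

namespace Cfsg.Agent.S4443

open scoped ComplexConjugate
open Cfsg.Agent.Lib.Helper82

/-- The rank of a square matrix over a field does not change under a field extension. -/
theorem rank_map_of_field {K L : Type*} [Field K] [Field L] (f : K →+* L) {n : Type*} [Fintype n]
    [DecidableEq n] (A : Matrix n n K) : (A.map f).rank = A.rank := by
  classical
  obtain ⟨L₁, L₂, D, hA⟩ := Matrix.Pivot.exists_list_transvec_mul_diagonal_mul_list_transvec A
  set P := (L₁.map Matrix.TransvectionStruct.toMatrix).prod with hP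
  set Q := (L₂.map Matrix.TransvectionStruct.toMatrix).prod with hQ
  have hPdet : P.det = 1 := Matrix.TransvectionStruct.det_toMatrix_prod L₁
  have hQdet : Q.det = 1 := Matrix.TransvectionStruct.det_toMatrix_prod L₂
  have h1 : A.rank = (Matrix.diagonal D).rank := by
    rw [hA, Matrix.rank_mul_eq_left_of_isUnit_det Q _ (by rw [hQdet]; exact isUnit_one),
      Matrix.rank_mul_eq_right_of_isUnit_det P _ (by rw [hPdet]; exact isUnit_one)]
  have hmap : A.map f = P.map f * Matrix.diagonal (fun i => f (D i)) * Q.map f := by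
    rw [hA, Matrix.map_mul, Matrix.map_mul, Matrix.diagonal_map (map_zero f)]
  have hPdet' : (P.map f).det = 1 := by
    have := RingHom.map_det f P
    rw [RingHom.mapMatrix_apply] at this
    rw [← this, hPdet, map_one]
  have hQdet' : (Q.map f).det = 1 := by
    have := RingHom.map_det f Q
    rw [RingHom.mapMatrix_apply] at this
    rw [← this, hQdet, map_one]
  have h2 : (A.map f).rank = (Matrix.diagonal (fun i => f (D i))).rank := by
    rw [hmap, Matrix.rank_mul_eq_left_of_isUnit_det (Q.map f) _ (by rw [hQdet']; exact isUnit_one),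
      Matrix.rank_mul_eq_right_of_isUnit_det (P.map f) _ (by rw [hPdet']; exact isUnit_one)]
  rw [h1, h2, Matrix.rank_diagonal, Matrix.rank_diagonal]
  refine Fintype.card_congr (Equiv.subtypeEquivRight fun i => ?_)
  exact map_ne_zero f

/-- Two rectangular matrices `U`, `V` with `U Vᵀ = c • 1`, `c ≠ 0`: the product `Uᵀ V` has rank
the number of rows. -/
theorem rank_transpose_mul_of_mul_transpose {F : Type*} [Field F] {β ι : Type*} [Fintype β]
    [DecidableEq β] [Fintype ι] [DecidableEq ι] (U V : Matrix β ι F) (c : F) (hc : c ≠ 0)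
    (h : U * V.transpose = c • (1 : Matrix β β F)) :
    (U.transpose * V).rank = Fintype.card β := by
  apply le_antisymm
  · calc (U.transpose * V).rank ≤ U.transpose.rank := Matrix.rank_mul_le_left _ _
      _ ≤ Fintype.card β := Matrix.rank_le_card_width _
  · have h1 : U * (U.transpose * V).transpose * V.transpose = (c * c) • (1 : Matrix β β F) := by
      rw [Matrix.transpose_mul, Matrix.transpose_transpose, ← Matrix.mul_assoc, h,
        Matrix.mul_assoc, h]
      simp [smul_smul]
    have h2 : ((c * c) • (1 : Matrix β β F)).rank = Fintype.card β := by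
      apply Matrix.rank_of_det_ne_zero
      rw [Matrix.det_smul, Matrix.det_one, mul_one]
      exact pow_ne_zero _ (mul_ne_zero hc hc)
    calc Fintype.card β = (U * (U.transpose * V).transpose * V.transpose).rank := by rw [h1, h2]
      _ ≤ (U * (U.transpose * V).transpose).rank := Matrix.rank_mul_le_left _ _
      _ ≤ ((U.transpose * V).transpose).rank := Matrix.rank_mul_le_right _ _
      _ = (U.transpose * V).rank := Matrix.rank_transpose _

section Div

variable {p : ℕ} [Fact p.Prime] {M : Ideal AlgInt}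

/-- A natural number whose quotient by `p ^ k` is a local integer is divisible by `p ^ k`. -/
theorem pow_dvd_of_memLocalRing (hM : IsPModular p M) (k : ℕ) :
    ∀ n : ℕ, MemLocalRing M ((n : ℂ) / (p : ℂ) ^ k) → p ^ k ∣ n := by
  have hprime : M.IsPrime := hM.2.1.isPrime
  have hp0 : (p : ℂ) ≠ 0 := by exact_mod_cast (Fact.out : p.Prime).ne_zero
  induction k with
  | zero => intro n _; simp
  | succ k ih =>
    intro n hn
    have h1 : MemLocalIdeal M ((n : ℂ) / (p : ℂ) ^ k) := by
      have h2 : (n : ℂ) / (p : ℂ) ^ k = (p : ℂ) * ((n : ℂ) / (p : ℂ) ^ (k + 1)) := by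
        rw [pow_succ]; field_simp
      rw [h2]
      exact memLocalIdeal_mul_right hprime ((memLocalIdeal_natCast_iff hM p).2 dvd_rfl) hn
    obtain ⟨n₁, rfl⟩ := ih n (memLocalIdeal_memLocalRing h1)
    have h3 : MemLocalIdeal M ((n₁ : ℕ) : ℂ) := by
      have h4 : ((p ^ k * n₁ : ℕ) : ℂ) / (p : ℂ) ^ k = (n₁ : ℂ) := by
        push_cast; field_simp
      rwa [h4] at h1
    obtain ⟨n₂, rfl⟩ := (memLocalIdeal_natCast_iff hM n₁).1 h3
    exact ⟨n₂, by ring⟩

end Div

section Count

universe u
variable {G : Type u} [Group G] [Fintype G]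

open Classical in
/-- Summing over conjugators is the centralizer order times the sum over the class. -/
theorem sum_conj_eq (b : G) (F : G → ℂ) :
    ∑ g : G, F (g * b * g⁻¹) = (Nat.card (Subgroup.centralizer ({b} : Set G)) : ℂ) *
      ∑ z : G, if IsConj b z then F z else 0 := by
  classical
  have h1 : ∀ g : G, F (g * b * g⁻¹) = ∑ z : G, if g * b * g⁻¹ = z then F z else 0 := by
    intro g
    rw [Finset.sum_ite_eq]
    simp
  simp only [h1]
  rw [Finset.sum_comm, Finset.mul_sum]
  refine Finset.sum_congr rfl fun z _ => ?_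
  rw [← Finset.sum_filter, Finset.sum_const, nsmul_eq_mul]
  by_cases hz : IsConj b z
  · rw [if_pos hz]
    have := Cfsg.Agent.Lib.Helper06.card_conjugators b z hz
    rw [← this, Nat.card_eq_fintype_card, Fintype.card_subtype]
  · rw [if_neg hz, mul_zero]
    have : Finset.univ.filter (fun g : G => g * b * g⁻¹ = z) = ∅ := by
      rw [Finset.filter_eq_empty_iff]
      intro g _ hg
      exact hz (isConj_iff.2 ⟨g, hg⟩)
    rw [this]
    simp

open Classical in
/-- The number of pairs of conjugates of `a` and `b` whose quotient lies in `S`, as a sum. -/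
theorem card_pairs_eq_sum (S : Subgroup G) [Fintype S] (a b : G) :
    (Nat.card {yz : G × G // IsConj a yz.1 ∧ IsConj b yz.2 ∧ yz.2 * yz.1⁻¹ ∈ S} : ℂ) =
      ∑ s : S, ∑ z : G, if IsConj b z then (if IsConj a ((s : G) * z) then (1 : ℂ) else 0) else 0 := by
  classical
  have e : {yz : G × G // IsConj a yz.1 ∧ IsConj b yz.2 ∧ yz.2 * yz.1⁻¹ ∈ S} ≃
      {sz : S × G // IsConj b sz.2 ∧ IsConj a ((sz.1 : G) * sz.2)} :=
    { toFun := fun t => ⟨(⟨t.1.1 * t.1.2⁻¹, by
          have := S.inv_mem t.2.2.2
          simpa [mul_inv_rev] using this⟩, t.1.2), t.2.2.1, by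
          show IsConj a (t.1.1 * t.1.2⁻¹ * t.1.2)
          rw [inv_mul_cancel_right]
          exact t.2.1⟩
      invFun := fun t => ⟨((t.1.1 : G) * t.1.2, t.1.2), t.2.2, t.2.1, by
          show t.1.2 * ((t.1.1 : G) * t.1.2)⁻¹ ∈ S
          rw [mul_inv_rev, mul_inv_cancel_left]
          exact S.inv_mem t.1.1.2⟩
      left_inv := fun t => Subtype.ext (Prod.ext (by simp) rfl)
      right_inv := fun t => Subtype.ext (Prod.ext (Subtype.ext (by simp)) rfl) }
  rw [Nat.card_congr e, Nat.card_eq_fintype_card, Fintype.card_subtype, Finset.card_filter,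
    Nat.cast_sum, Fintype.sum_prod_type]
  refine Finset.sum_congr rfl fun s _ => Finset.sum_congr rfl fun z _ => ?_
  by_cases h1 : IsConj b z <;> by_cases h2 : IsConj a ((s : G) * z) <;>
    simp only [h1, h2, if_true, if_false, and_true, and_false, and_self,
      Nat.cast_one, Nat.cast_zero]

variable [Fintype (IrrCharacter G)]

open Classical in
/-- The character-theoretic count of pairs of conjugates of `a` and `b` with quotient in `S`. -/
theorem count_identity (S : Subgroup G) [Fintype S] (a b : G) :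
    ∑ χ : IrrCharacter G, (∑ s : S, conj ((χ : G → ℂ) s)) * (χ : G → ℂ) a *
        conj ((χ : G → ℂ) b) / (χ : G → ℂ) 1 =
      (Fintype.card G : ℂ)⁻¹ * ((Nat.card (Subgroup.centralizer ({a} : Set G)) : ℂ) *
        ((Nat.card (Subgroup.centralizer ({b} : Set G)) : ℂ) *
        (Nat.card {yz : G × G // IsConj a yz.1 ∧ IsConj b yz.2 ∧ yz.2 * yz.1⁻¹ ∈ S} : ℂ))) := by
  classical
  have hG0 : (Fintype.card G : ℂ) ≠ 0 := by
    exact_mod_cast Fintype.card_ne_zero
  have hterm : ∀ χ : IrrCharacter G, (∑ s : S, conj ((χ : G → ℂ) s)) * (χ : G → ℂ) a *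
        conj ((χ : G → ℂ) b) / (χ : G → ℂ) 1 =
      (Fintype.card G : ℂ)⁻¹ * ∑ s : S, ∑ g : G, (χ : G → ℂ) a *
        conj ((χ : G → ℂ) ((s : G) * (g * b * g⁻¹))) := by
    intro χ
    have h1 : ∀ s : S, ∑ g : G, (χ : G → ℂ) a * conj ((χ : G → ℂ) ((s : G) * (g * b * g⁻¹))) =
        (Fintype.card G : ℂ) * (conj ((χ : G → ℂ) s) * (χ : G → ℂ) a *
        conj ((χ : G → ℂ) b) / (χ : G → ℂ) 1) := by
      intro s
      rw [← Finset.mul_sum, ← map_sum, IsIrrCharacter.sum_mul_conj χ.2 (s : G) b]
      rw [map_div₀, map_mul, map_mul, Complex.conj_natCast,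
        Cfsg.Agent.Lib.Helper83.char_one_conj (IsIrrCharacter.isCharacter χ.2)]
      ring
    simp only [h1]
    rw [← Finset.mul_sum, ← mul_assoc, inv_mul_cancel₀ hG0, one_mul, Finset.sum_mul,
      Finset.sum_mul, Finset.sum_div]
  simp only [hterm]
  rw [← Finset.mul_sum]
  have hswap : ∑ χ : IrrCharacter G, ∑ s : S, ∑ g : G, (χ : G → ℂ) a *
        conj ((χ : G → ℂ) ((s : G) * (g * b * g⁻¹))) =
      ∑ s : S, ∑ g : G, ∑ χ : IrrCharacter G, (χ : G → ℂ) a *
        conj ((χ : G → ℂ) ((s : G) * (g * b * g⁻¹))) := by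
    rw [Finset.sum_comm]
    refine Finset.sum_congr rfl fun s _ => ?_
    rw [Finset.sum_comm]
  rw [hswap]
  simp only [Cfsg.Agent.S4741.second_orth']
  congr 1
  rw [card_pairs_eq_sum, Finset.mul_sum, Finset.mul_sum]
  refine Finset.sum_congr rfl fun s _ => ?_
  rw [sum_conj_eq b (fun z => if IsConj a ((s : G) * z) then
    (Nat.card (Subgroup.centralizer ({a} : Set G)) : ℂ) else 0), Finset.mul_sum, Finset.mul_sum,
    Finset.mul_sum]
  refine Finset.sum_congr rfl fun z _ => ?_
  by_cases h1 : IsConj b z <;> by_cases h2 : IsConj a ((s : G) * z) <;>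
    simp only [h1, h2, if_true, if_false, mul_zero, mul_one]
  exact mul_comm _ _

end Count

section BlockLemmas

variable {G : Type*} [Group G] [Finite G] {p : ℕ} [Fact p.Prime] {M : Ideal AlgInt}

/-- The part of the permutation character on the cosets of a `p`-subgroup `S` lying in a block,
at a `p`-regular element, is the block idempotent coefficient up to the factor `|G| / |S|`. -/
theorem sum_mult_conj_eq [Fintype G] [Fintype (IrrCharacter G)] (hM : IsPModular p M)
    (B : Set (IrrCharacter G)) [DecidablePred (· ∈ B)] (hB : IsPBlock M B)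
    (S : Subgroup G) [Fintype S] (hS : IsPGroup p S) (m : IrrCharacter G → ℕ)
    (hm : ∀ χ : IrrCharacter G, ∑ u : S, (χ : G → ℂ) u = (Fintype.card S : ℂ) * m χ)
    (x : G) (hx : ¬ p ∣ orderOf x) :
    (Fintype.card S : ℂ) * ∑ χ : IrrCharacter G,
        (if χ ∈ B then (m χ : ℂ) * conj ((χ : G → ℂ) x) else 0) =
      (Nat.card G : ℂ) * blockCoeff B x := by
  classical
  have hp : p.Prime := Fact.out
  have h1 : (Fintype.card S : ℂ) * ∑ χ : IrrCharacter G,
        (if χ ∈ B then (m χ : ℂ) * conj ((χ : G → ℂ) x) else 0) =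
      ∑ u : S, ∑ χ : IrrCharacter G,
        (if χ ∈ B then (χ : G → ℂ) u * conj ((χ : G → ℂ) x) else 0) := by
    rw [Finset.sum_comm, Finset.mul_sum]
    refine Finset.sum_congr rfl fun χ _ => ?_
    by_cases hχ : χ ∈ B
    · simp only [if_pos hχ]
      rw [← Finset.sum_mul, hm χ]
      ring
    · simp only [if_neg hχ, mul_zero, Finset.sum_const_zero]
  have h2 : ∀ u : S, u ≠ 1 → ∑ χ : IrrCharacter G,
        (if χ ∈ B then (χ : G → ℂ) u * conj ((χ : G → ℂ) x) else 0) = 0 := by
    intro u hu
    have hu' : p ∣ orderOf (u : G) := by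
      obtain ⟨k, hk⟩ := (IsPGroup.iff_orderOf.1 hS) u
      rw [Subgroup.orderOf_coe, hk]
      rcases Nat.eq_zero_or_pos k with h0 | h0
      · exfalso
        rw [h0, pow_zero, orderOf_eq_one_iff] at hk
        exact hu hk
      · exact dvd_pow_self p h0.ne'
    have h3 := Cfsg.Agent.S0907.result p M hM B hB x (u : G) hx hu'
    rw [Cfsg.Agent.Lib.Helper21.finsum_mem_eq_sum_ite] at h3
    have h4 := congrArg conj h3
    rw [map_sum, map_zero] at h4
    refine Eq.trans ?_ h4
    refine Finset.sum_congr rfl fun χ _ => ?_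
    by_cases hχ : χ ∈ B
    · simp only [if_pos hχ, map_mul, Complex.conj_conj]
      ring
    · simp only [if_neg hχ, map_zero]
  rw [h1, Finset.sum_eq_single (1 : S) (fun u _ hu => h2 u hu)
    (fun h => absurd (Finset.mem_univ _) h), Cfsg.Agent.Lib.Helper21.blockCoeff_eq_sum,
    ← mul_assoc, Nat.card_eq_fintype_card, mul_inv_cancel₀, one_mul]
  · rfl
  · exact_mod_cast Fintype.card_ne_zero

omit [Finite G] in
/-- Conjugating a normal subgroup does nothing. -/
theorem map_conj_of_normal (D : Subgroup G) [D.Normal] (x : G) :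
    D.map (MulAut.conj x).toMonoidHom = D := by
  ext y
  simp only [Subgroup.mem_map, MulEquiv.coe_toMonoidHom, MulAut.conj_apply]
  constructor
  · rintro ⟨z, hz, rfl⟩
    exact Subgroup.Normal.conj_mem inferInstance z hz x
  · intro hy
    refine ⟨x⁻¹ * y * x, ?_, by group⟩
    have := Subgroup.Normal.conj_mem (inferInstance : D.Normal) y hy x⁻¹
    simpa using this

/-- For two blocks with the normal defect group `D`: a class on which the idempotent of the first
and the central character of the second are both nonzero modulo the local ideal consists of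
`p`-regular elements whose centralizers have `D` as a Sylow subgroup. -/
theorem sylow_centralizer_eq (hM : IsPModular p M) (D : Subgroup G) [D.Normal]
    {B B' : Set (IrrCharacter G)} (hB : IsPBlock M B) (hBD : IsDefectGroup p M B D)
    (hB' : IsPBlock M B') (hBD' : IsDefectGroup p M B' D) (g : G)
    (h1 : ¬ MemLocalIdeal M (blockCoeff B g))
    (h2 : ∃ χ ∈ B', ¬ MemLocalIdeal M (centralChar (χ : G → ℂ) g)) :
    ¬ p ∣ orderOf g ∧ ∃ Q : Sylow p (Subgroup.centralizer ({g} : Set G)),
      (Q : Subgroup (Subgroup.centralizer ({g} : Set G))).map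
        (Subgroup.centralizer ({g} : Set G)).subtype = D := by
  classical
  letI := Fintype.ofFinite G
  letI := Fintype.ofFinite (IrrCharacter G)
  have hprime : M.IsPrime := hM.2.1.isPrime
  obtain ⟨χ₀, rfl⟩ := hB
  refine ⟨fun hdvd => h1 ?_, ?_⟩
  · rw [blockCoeff_eq_zero_of_singular hM χ₀ g hdvd]
    exact memLocalIdeal_zero hprime
  · obtain ⟨g₀, hg₀, P, hP⟩ := hBD
    obtain ⟨g₀', hg₀', P', hP'⟩ := hBD'
    have hmem := Cfsg.Agent.Lib.Helper21.memLocalRing_blockCoeff_blockOf hprime χ₀ g
    obtain ⟨x, Q, hQ⟩ := (Cfsg.Agent.S0911.result p M hM _ ⟨χ₀, rfl⟩ g₀ hg₀ P g).1 hmem h1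
    obtain ⟨x', Q', hQ'⟩ := (Cfsg.Agent.S0911.result p M hM B' hB' g₀' hg₀' P' g).2 h2
    rw [← hP, map_conj_of_normal] at hQ
    rw [← hP', map_conj_of_normal] at hQ'
    refine ⟨Q', ?_⟩
    have hc1 := Cfsg.Agent.S4741.card_sylow_map Q
    have hc2 := Cfsg.Agent.S4741.card_sylow_map Q'
    have hle : Nat.card ((Q' : Subgroup (Subgroup.centralizer ({g} : Set G))).map
        (Subgroup.centralizer ({g} : Set G)).subtype) ≤ Nat.card D := by
      rw [hc2, ← hc1]
      exact Subgroup.card_le_of_le hQ
    exact (Subgroup.eq_of_le_of_card_ge hQ' hle).symm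

end BlockLemmas

/-- Let D be a normal p-subgroup of the finite group G, of order p^d, let p^a be the p-part of the order of G, and fix a Sylow p-subgroup S and a maximal ideal M of the algebraic integers containing p. Index by a finite type ι (via an injective map K) exactly the conjugacy classes of p-regular elements x of G for which D is a Sylow p-subgroup of C_G(x). For classes K_i, K_j let ω(i, j) be the number of pairs (y, z) ∈ K_i × K_j with z y⁻¹ ∈ S; this number is divisible by p^(a−d). Then the number of p-blocks of G having D as a defect group equals the rank over ℤ/pℤ of the matrix with (i, j) entry ω(i, j)/p^(a−d) reduced modulo p. -/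
theorem result {G : Type*} [Group G] [Finite G] (p : ℕ) [Fact p.Prime] (M : Ideal Cfsg.AlgInt) (hM : Cfsg.IsPModular p M) (D : Subgroup G) [D.Normal] (hD : IsPGroup p D) (S : Sylow p G) {ι : Type*} [Fintype ι] [DecidableEq ι] (K : ι → ConjClasses G) (hKinj : Function.Injective K) (hK : ∀ C : ConjClasses G, (∃ i, K i = C) ↔ ∃ x ∈ C.carrier, ¬ p ∣ orderOf x ∧ ∃ Q : Sylow p (Subgroup.centralizer ({x} : Set G)), (Q : Subgroup (Subgroup.centralizer ({x} : Set G))).map (Subgroup.centralizer ({x} : Set G)).subtype = D) : Nat.card {B : Set (Cfsg.IrrCharacter G) // Cfsg.IsPBlock M B ∧ Cfsg.IsDefectGroup p M B D} = (Matrix.of fun i j : ι => ((Nat.card {yz : G × G // yz.1 ∈ (K i).carrier ∧ yz.2 ∈ (K j).carrier ∧ yz.2 * yz.1⁻¹ ∈ (S : Subgroup G)} / p ^ ((Nat.card G).factorization p - (Nat.card D).factorization p) : ℕ) : ZMod p)).rank := by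
  classical
  letI := Fintype.ofFinite G
  letI := Fintype.ofFinite (IrrCharacter G)
  have hprime : M.IsPrime := hM.2.1.isPrime
  have hp : p.Prime := Fact.out
  have hp0 : (p : ℂ) ≠ 0 := by exact_mod_cast hp.ne_zero
  -- representatives of the classes
  have hrep : ∀ i : ι, ∃ x ∈ (K i).carrier, ¬ p ∣ orderOf x ∧
      ∃ Q : Sylow p (Subgroup.centralizer ({x} : Set G)),
        (Q : Subgroup (Subgroup.centralizer ({x} : Set G))).map
          (Subgroup.centralizer ({x} : Set G)).subtype = D := fun i => (hK (K i)).1 ⟨i, rfl⟩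
  choose x hxmem hxreg hxD using hrep
  have hconj_iff : ∀ (i : ι) (y : G), y ∈ (K i).carrier ↔ IsConj (x i) y := by
    intro i y
    rw [ConjClasses.mem_carrier_iff_mk_eq, ← ConjClasses.mem_carrier_iff_mk_eq.1 (hxmem i),
      ConjClasses.mk_eq_mk_iff_isConj]
    exact ⟨IsConj.symm, IsConj.symm⟩
  set a := (Nat.card G).factorization p with ha
  set d := (Nat.card D).factorization p with hd
  have hCcard : ∀ j : ι,
      (Nat.card (Subgroup.centralizer ({x j} : Set G))).factorization p = d := by
    intro j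
    obtain ⟨Q, hQ⟩ := hxD j
    have h1 := Cfsg.Agent.S4741.card_sylow_map Q
    rw [hQ] at h1
    rw [hd, h1, hp.factorization_pow]
    simp
  have hda : d ≤ a :=
    (Nat.factorization_le_iff_dvd Nat.card_pos.ne' Nat.card_pos.ne').2
      (Subgroup.card_subgroup_dvd_card D) p
  let c : ι → ℕ := fun j => Nat.card (Subgroup.centralizer ({x j} : Set G)) / p ^ d
  have hc_mul : ∀ j, p ^ d * c j = Nat.card (Subgroup.centralizer ({x j} : Set G)) := by
    intro j
    have := Nat.ordProj_mul_ordCompl_eq_self (Nat.card (Subgroup.centralizer ({x j} : Set G))) p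
    rw [hCcard j] at this
    exact this
  have hc_ndvd : ∀ j, ¬ p ∣ c j := by
    intro j
    have := Nat.not_dvd_ordCompl hp
      (Nat.card_pos.ne' : Nat.card (Subgroup.centralizer ({x j} : Set G)) ≠ 0)
    rw [hCcard j] at this
    exact this
  let N : ι → ι → ℕ := fun i j => Nat.card {yz : G × G //
    IsConj (x i) yz.1 ∧ IsConj (x j) yz.2 ∧ yz.2 * yz.1⁻¹ ∈ (S : Subgroup G)}
  have hN : ∀ i j, Nat.card {yz : G × G // yz.1 ∈ (K i).carrier ∧ yz.2 ∈ (K j).carrier ∧
      yz.2 * yz.1⁻¹ ∈ (S : Subgroup G)} = N i j := by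
    intro i j
    exact Nat.card_congr (Equiv.subtypeEquivRight fun yz => by rw [hconj_iff, hconj_iff])
  -- multiplicities of the trivial character of `S`
  have hm : ∀ χ : IrrCharacter G, ∃ m : ℕ, ∑ u : (S : Subgroup G), (χ : G → ℂ) u =
      (Fintype.card (S : Subgroup G) : ℂ) * m :=
    fun χ => IsCharacter.sum_subgroup (IsIrrCharacter.isCharacter χ.2) (S : Subgroup G)
  choose m hm using hm
  have hchar : ∀ χ : IrrCharacter G, IsCharacter G (χ : G → ℂ) :=
    fun χ => IsIrrCharacter.isCharacter χ.2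
  have hScard : Fintype.card (S : Subgroup G) = p ^ a := by
    rw [← Nat.card_eq_fintype_card]
    exact S.card_eq_multiplicity
  -- the key identity in `ℂ`
  have hkey : ∀ i j : ι, ∑ χ : IrrCharacter G, centralChar (χ : G → ℂ) (x i) *
      ((m χ : ℂ) * conj ((χ : G → ℂ) (x j))) =
      ((c j * N i j : ℕ) : ℂ) / (p : ℂ) ^ (a - d) := by
    intro i j
    have h1 := count_identity (S : Subgroup G) (x i) (x j)
    have hScard0 : (Fintype.card (S : Subgroup G) : ℂ) ≠ 0 := by
      exact_mod_cast Fintype.card_ne_zero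
    have hterm : ∀ χ : IrrCharacter G, centralChar (χ : G → ℂ) (x i) *
        ((m χ : ℂ) * conj ((χ : G → ℂ) (x j))) =
        (((Subgroup.centralizer ({x i} : Set G)).index : ℂ) / (Fintype.card (S : Subgroup G) : ℂ)) *
        ((∑ s : (S : Subgroup G), conj ((χ : G → ℂ) s)) * (χ : G → ℂ) (x i) *
          conj ((χ : G → ℂ) (x j)) / (χ : G → ℂ) 1) := by
      intro χ
      have h2 : ∑ s : (S : Subgroup G), conj ((χ : G → ℂ) s) =
          (Fintype.card (S : Subgroup G) : ℂ) * m χ := by
        rw [← map_sum, hm χ, map_mul, Complex.conj_natCast, Complex.conj_natCast]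
      rw [h2]
      unfold centralChar
      field_simp
    simp only [hterm]
    rw [← Finset.mul_sum, h1]
    have h3 := Subgroup.card_mul_index (Subgroup.centralizer ({x i} : Set G))
    have hG : (Fintype.card G : ℂ) = (Nat.card (Subgroup.centralizer ({x i} : Set G)) : ℂ) *
        ((Subgroup.centralizer ({x i} : Set G)).index : ℂ) := by
      rw [← Nat.card_eq_fintype_card]
      exact_mod_cast h3.symm
    have hCj : (Nat.card (Subgroup.centralizer ({x j} : Set G)) : ℂ) = (p : ℂ) ^ d * (c j : ℂ) := by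
      exact_mod_cast (hc_mul j).symm
    have hS' : (Fintype.card (S : Subgroup G) : ℂ) = (p : ℂ) ^ d * (p : ℂ) ^ (a - d) := by
      rw [hScard, ← pow_add, Nat.add_sub_cancel' hda]
      push_cast
      rfl
    have hCi0 : (Nat.card (Subgroup.centralizer ({x i} : Set G)) : ℂ) ≠ 0 := by
      exact_mod_cast Nat.card_pos.ne'
    have hidx0 : ((Subgroup.centralizer ({x i} : Set G)).index : ℂ) ≠ 0 := by
      exact_mod_cast Subgroup.index_ne_zero_of_finite
    rw [hG, hCj, hS']
    push_cast
    field_simp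
    rfl
  -- elements of the local ring
  set R := localSubring M hprime with hR
  set res := residueMap M hprime with hres
  have hAmem : ∀ (χ : IrrCharacter G) (g : G), MemLocalRing M (centralChar (χ : G → ℂ) g) :=
    fun χ g => memLocalRing_of_isIntegral hprime (IsIrrCharacter.isIntegral_centralChar χ.2 g)
  have hbmem : ∀ (χ : IrrCharacter G) (j : ι),
      MemLocalRing M ((m χ : ℂ) * conj ((χ : G → ℂ) (x j))) := by
    intro χ j
    refine memLocalRing_mul hprime (memLocalRing_natCast hprime _) ?_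
    rw [← Cfsg.Agent.Lib.Helper83.char_inv (hchar χ)]
    exact memLocalRing_of_isIntegral hprime (IsCharacter.isIntegral (hchar χ) _)
  -- divisibility of the counts
  have hWmem : ∀ i j, MemLocalRing M (((c j * N i j : ℕ) : ℂ) / (p : ℂ) ^ (a - d)) := by
    intro i j
    rw [← hkey i j]
    exact memLocalRing_sum hprime _ _ fun χ _ =>
      memLocalRing_mul hprime (hAmem χ (x i)) (hbmem χ j)
  have hdvd : ∀ i j, p ^ (a - d) ∣ N i j := by
    intro i j
    have h1 := pow_dvd_of_memLocalRing hM (a - d) _ (hWmem i j)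
    exact (Nat.Coprime.pow_left _
      ((Nat.Prime.coprime_iff_not_dvd hp).2 (hc_ndvd j))).dvd_of_dvd_mul_left h1
  let q : ι → ι → ℕ := fun i j => N i j / p ^ (a - d)
  have hq : ∀ i j, N i j = p ^ (a - d) * q i j := fun i j => (Nat.mul_div_cancel' (hdvd i j)).symm
  have hkey' : ∀ i j : ι, ∑ χ : IrrCharacter G, centralChar (χ : G → ℂ) (x i) *
      ((m χ : ℂ) * conj ((χ : G → ℂ) (x j))) = ((c j * q i j : ℕ) : ℂ) := by
    intro i j
    rw [hkey i j, hq i j]
    push_cast
    field_simp
  let A : IrrCharacter G → ι → R := fun χ i => ⟨centralChar (χ : G → ℂ) (x i), hAmem χ (x i)⟩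
  let b : IrrCharacter G → ι → R := fun χ j =>
    ⟨(m χ : ℂ) * conj ((χ : G → ℂ) (x j)), hbmem χ j⟩
  have hkeyR : ∀ i j : ι, ∑ χ : IrrCharacter G, A χ i * b χ j = ((c j * q i j : ℕ) : R) := by
    intro i j
    apply Subtype.ext
    rw [AddSubmonoidClass.coe_finsetSum]
    have := hkey' i j
    simpa [A, b] using this
  -- blocks
  let blk : IrrCharacter G → Set (IrrCharacter G) := fun χ => blockOf M (χ : G → ℂ)
  have hresA : ∀ (χ ψ : IrrCharacter G), blk χ = blk ψ → ∀ i, res (A χ i) = res (A ψ i) := by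
    intro χ ψ hb i
    have h1 : ψ ∈ blk χ := by rw [hb]; exact mem_blockOf_self hprime ψ
    have h2 : MemLocalIdeal M (((A χ i - A ψ i : R) : ℂ)) := h1 (x i)
    have h3 := (residueMap_eq_zero_iff M hprime (A χ i - A ψ i)).2 h2
    rw [map_sub, sub_eq_zero] at h3
    exact h3
  let v : Set (IrrCharacter G) → ι → LocalResidue M hprime := fun Bs j =>
    ∑ χ ∈ Finset.univ.filter (fun χ => blk χ = Bs), res (b χ j)
  let u : Set (IrrCharacter G) → ι → LocalResidue M hprime := fun Bs i =>
    if h : ∃ χ, blk χ = Bs then res (A h.choose i) else 0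
  have hu : ∀ (χ : IrrCharacter G) (i : ι), u (blk χ) i = res (A χ i) := by
    intro χ i
    have h : ∃ ψ, blk ψ = blk χ := ⟨χ, rfl⟩
    show (if h : ∃ ψ, blk ψ = blk χ then res (A h.choose i) else 0) = _
    rw [dif_pos h]
    exact hresA _ _ h.choose_spec i
  have hsum : ∀ i j : ι, ∑ Bs : Set (IrrCharacter G), u Bs i * v Bs j =
      ((c j * q i j : ℕ) : LocalResidue M hprime) := by
    intro i j
    have h1 : ∀ Bs : Set (IrrCharacter G), u Bs i * v Bs j =
        ∑ χ ∈ Finset.univ.filter (fun χ => blk χ = Bs), res (A χ i * b χ j) := by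
      intro Bs
      show u Bs i * (∑ χ ∈ Finset.univ.filter (fun χ => blk χ = Bs), res (b χ j)) = _
      rw [Finset.mul_sum]
      refine Finset.sum_congr rfl fun χ hχ => ?_
      rw [Finset.mem_filter] at hχ
      rw [← hχ.2, hu, map_mul]
    simp only [h1]
    rw [Finset.sum_fiberwise, ← map_sum, hkeyR, map_natCast]
  -- only blocks with defect group `D` contribute
  have hvanish : ∀ (Bs : Set (IrrCharacter G)) (i j : ι), u Bs i * v Bs j ≠ 0 →
      IsPBlock M Bs ∧ IsDefectGroup p M Bs D := by
    intro Bs i j hne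
    have hui : u Bs i ≠ 0 := left_ne_zero_of_mul hne
    have hvj : v Bs j ≠ 0 := right_ne_zero_of_mul hne
    obtain ⟨χ₁, hχ₁, hne1⟩ := Finset.exists_ne_zero_of_sum_ne_zero hvj
    rw [Finset.mem_filter] at hχ₁
    have hblk : blk χ₁ = Bs := hχ₁.2
    rw [← hblk, hu] at hui
    obtain ⟨Si, hSi⟩ := hxD i
    obtain ⟨Sj, hSj⟩ := hxD j
    have h0 : ¬ MemLocalIdeal M (centralChar (χ₁ : G → ℂ) (x i)) := fun h =>
      hui ((residueMap_eq_zero_iff M hprime (A χ₁ i)).2 h)
    have h1 : ¬ MemLocalIdeal M ((χ₁ : G → ℂ) (x j)⁻¹) := by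
      intro h
      apply hne1
      rw [residueMap_eq_zero_iff]
      show MemLocalIdeal M ((m χ₁ : ℂ) * conj ((χ₁ : G → ℂ) (x j)))
      rw [← Cfsg.Agent.Lib.Helper83.char_inv (hchar χ₁)]
      exact memLocalIdeal_mul_left hprime (memLocalRing_natCast hprime _) h
    have := Cfsg.Agent.S4741.isDefectGroup_of hM D χ₁ χ₁ (mem_blockOf_self hprime _) (x i) (x j)
      Si hSi Sj hSj h0 h1
    rw [← hblk]
    exact ⟨⟨χ₁, rfl⟩, this⟩
  let P : Set (IrrCharacter G) → Prop := fun Bs => IsPBlock M Bs ∧ IsDefectGroup p M Bs D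
  let U : Matrix {Bs // P Bs} ι (LocalResidue M hprime) := Matrix.of fun B i => u B.1 i
  let V : Matrix {Bs // P Bs} ι (LocalResidue M hprime) := Matrix.of fun B j => v B.1 j
  have hUV : U.transpose * V =
      Matrix.of fun i j => ((c j * q i j : ℕ) : LocalResidue M hprime) := by
    ext i j
    rw [Matrix.mul_apply]
    simp only [Matrix.transpose_apply, Matrix.of_apply, U, V]
    rw [← hsum i j, ← Finset.sum_subtype (Finset.univ.filter P) (by simp)
      (fun Bs => u Bs i * v Bs j)]
    exact Finset.sum_filter_of_ne fun Bs _ hne => hvanish Bs i j hne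
  -- the constant
  have hcS : res (((S : Subgroup G).index : ℕ) : R) ≠ 0 := by
    intro h
    rw [residueMap_eq_zero_iff] at h
    have h2 : MemLocalIdeal M (((S : Subgroup G).index : ℕ) : ℂ) := by simpa using h
    exact S.not_dvd_index ((memLocalIdeal_natCast_iff hM _).1 h2)
  set cS := res (((S : Subgroup G).index : ℕ) : R) with hcSdef
  have haBmem : ∀ (B : {Bs // P Bs}) (g : G), MemLocalRing M (blockCoeff B.1 g) := by
    intro B g
    obtain ⟨χ₀, h⟩ := B.2.1
    rw [h]
    exact Cfsg.Agent.Lib.Helper21.memLocalRing_blockCoeff_blockOf hprime χ₀ g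
  have hScard0 : (Fintype.card (S : Subgroup G) : ℂ) ≠ 0 := by
    exact_mod_cast Fintype.card_ne_zero
  have hv : ∀ (B : {Bs // P Bs}) (j : ι),
      v B.1 j = cS * res ⟨blockCoeff B.1 (x j), haBmem B (x j)⟩ := by
    intro B j
    show ∑ χ ∈ Finset.univ.filter (fun χ => blk χ = B.1), res (b χ j) = _
    rw [← map_sum, hcSdef, ← map_mul]
    congr 1
    apply Subtype.ext
    rw [AddSubmonoidClass.coe_finsetSum]
    have h1 := sum_mult_conj_eq hM B.1 B.2.1 (S : Subgroup G) S.isPGroup' m hm (x j) (hxreg j)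
    have hmem : ∀ χ : IrrCharacter G, blk χ = B.1 ↔ χ ∈ B.1 := by
      intro χ
      obtain ⟨χ₀, h⟩ := B.2.1
      constructor
      · intro hb
        rw [← hb]
        exact mem_blockOf_self hprime χ
      · intro hχ
        rw [h] at hχ ⊢
        exact blockOf_eq_of_mem hprime hχ
    rw [Finset.sum_filter]
    simp only [hmem]
    have hidx : (Nat.card G : ℂ) = (Fintype.card (S : Subgroup G) : ℂ) *
        (((S : Subgroup G).index : ℕ) : ℂ) := by
      rw [← Nat.card_eq_fintype_card]
      exact_mod_cast (Subgroup.card_mul_index (S : Subgroup G)).symm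
    apply mul_left_cancel₀ hScard0
    show (Fintype.card (S : Subgroup G) : ℂ) * (∑ χ : IrrCharacter G,
      if χ ∈ B.1 then (m χ : ℂ) * conj ((χ : G → ℂ) (x j)) else 0) =
      (Fintype.card (S : Subgroup G) : ℂ) * ((((((S : Subgroup G).index : ℕ) : R)) : ℂ) *
        blockCoeff B.1 (x j))
    rw [h1, hidx, Subring.coe_natCast, mul_assoc]
  have hortho : U * V.transpose =
      cS • (1 : Matrix {Bs // P Bs} {Bs // P Bs} (LocalResidue M hprime)) := by
    ext B' B
    rw [Matrix.mul_apply]
    simp only [Matrix.transpose_apply, Matrix.of_apply, U, V, Matrix.smul_apply, Matrix.one_apply,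
      smul_eq_mul]
    obtain ⟨ψ, hψ⟩ := B'.2.1
    have hu' : ∀ i, u B'.1 i = res (A ψ i) := by
      intro i
      rw [hψ]
      exact hu ψ i
    simp only [hu', hv]
    have hψB' : ψ ∈ B'.1 := by
      rw [hψ]
      exact mem_blockOf_self hprime ψ
    have hcl1 := Cfsg.Agent.Lib.Helper21.blockCoeff_isClassFunction B.1
    have hcl2 : IsClassFunction G (ψ : G → ℂ) :=
      Cfsg.Agent.Lib.Helper04.isClassFunction_of_isIrrCharacter ψ.2
    have hcore : ∑ i : ι, res ⟨blockCoeff B.1 (x i), haBmem B (x i)⟩ * res (A ψ i) =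
        if ψ ∈ B.1 then 1 else 0 := by
      have h1 := Cfsg.Agent.Lib.Helper21.omega_eq_sum_classes hcl1 hcl2
      rw [Cfsg.Agent.Lib.Helper21.omega_blockCoeff] at h1
      let tR : ConjClasses G → R := fun C =>
        ⟨blockCoeff B.1 (Quotient.out C), haBmem B _⟩ *
          ⟨centralChar (ψ : G → ℂ) (Quotient.out C), hAmem ψ _⟩
      have h2 : ∑ C : ConjClasses G, tR C = if ψ ∈ B.1 then 1 else 0 := by
        apply Subtype.ext
        rw [AddSubmonoidClass.coe_finsetSum]
        have h2' : (((if ψ ∈ B.1 then 1 else 0 : R)) : ℂ) = if ψ ∈ B.1 then 1 else 0 := by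
          split_ifs <;> simp
        rw [h2', h1]
        rfl
      have h3 := congrArg res h2
      rw [map_sum] at h3
      have h4 : res (if ψ ∈ B.1 then (1 : R) else 0) = if ψ ∈ B.1 then 1 else 0 := by
        split_ifs <;> simp
      rw [h4] at h3
      rw [← h3]
      have h5 : ∑ C : ConjClasses G, res (tR C) = ∑ C ∈ Finset.univ.image K, res (tR C) := by
        symm
        apply Finset.sum_subset (Finset.subset_univ _)
        intro C _ hC
        by_contra hne
        apply hC
        rw [Finset.mem_image]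
        have hne' : res ⟨blockCoeff B.1 (Quotient.out C), haBmem B _⟩ *
            res ⟨centralChar (ψ : G → ℂ) (Quotient.out C), hAmem ψ _⟩ ≠ 0 := by
          rw [← map_mul]
          exact hne
        have hb1 : ¬ MemLocalIdeal M (blockCoeff B.1 (Quotient.out C)) := fun h =>
          left_ne_zero_of_mul hne' ((residueMap_eq_zero_iff M hprime _).2 h)
        have hb2 : ¬ MemLocalIdeal M (centralChar (ψ : G → ℂ) (Quotient.out C)) := fun h =>
          right_ne_zero_of_mul hne' ((residueMap_eq_zero_iff M hprime _).2 h)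
        obtain ⟨hreg, Q, hQ⟩ := sylow_centralizer_eq hM D B.2.1 B.2.2 B'.2.1 B'.2.2
          (Quotient.out C) hb1 ⟨ψ, hψB', hb2⟩
        obtain ⟨i, hi⟩ := (hK C).2 ⟨Quotient.out C,
          ConjClasses.mem_carrier_iff_mk_eq.2 (Quotient.out_eq C), hreg, Q, hQ⟩
        exact ⟨i, Finset.mem_univ _, hi⟩
      rw [h5, Finset.sum_image (fun i _ j _ h => hKinj h)]
      refine Finset.sum_congr rfl fun i _ => ?_
      have hc : IsConj (x i) (Quotient.out (K i)) :=
        (hconj_iff i _).1 (ConjClasses.mem_carrier_iff_mk_eq.2 (Quotient.out_eq (K i)))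
      show _ = res (⟨blockCoeff B.1 (Quotient.out (K i)), haBmem B _⟩ *
          ⟨centralChar (ψ : G → ℂ) (Quotient.out (K i)), hAmem ψ _⟩)
      rw [map_mul]
      congr 2 <;> apply Subtype.ext
      · exact (Cfsg.Agent.Lib.Helper21.blockCoeff_of_isConj B.1 hc).symm
      · exact (Cfsg.Agent.Lib.Helper21.centralChar_of_isConj hcl2 hc).symm
    have hiff : ψ ∈ B.1 ↔ B' = B := by
      constructor
      · intro h
        apply Subtype.ext
        obtain ⟨χ₀, hχ₀⟩ := B.2.1
        rw [hψ, hχ₀]
        rw [hχ₀] at h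
        exact blockOf_eq_of_mem hprime h
      · intro h
        rw [← h]
        exact hψB'
    calc ∑ i : ι, res (A ψ i) * (cS * res ⟨blockCoeff B.1 (x i), haBmem B (x i)⟩)
        = cS * ∑ i : ι, res ⟨blockCoeff B.1 (x i), haBmem B (x i)⟩ * res (A ψ i) := by
          rw [Finset.mul_sum]
          refine Finset.sum_congr rfl fun i _ => ?_
          ring
      _ = cS * (if ψ ∈ B.1 then 1 else 0) := by rw [hcore]
      _ = cS * (if B' = B then 1 else 0) := by simp only [hiff]
  -- rank computation
  have hrank1 : (U.transpose * V).rank = Fintype.card {Bs // P Bs} :=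
    rank_transpose_mul_of_mul_transpose U V cS hcS hortho
  haveI := localResidue_charP hM
  let φ : ZMod p →+* LocalResidue M hprime := ZMod.castHom (dvd_refl p) (LocalResidue M hprime)
  let E : Matrix ι ι (ZMod p) := Matrix.of fun i j => ((q i j : ℕ) : ZMod p)
  have hE : (Matrix.of fun i j : ι => ((Nat.card {yz : G × G // yz.1 ∈ (K i).carrier ∧
      yz.2 ∈ (K j).carrier ∧ yz.2 * yz.1⁻¹ ∈ (S : Subgroup G)} / p ^ (a - d) : ℕ) : ZMod p)) = E := by
    ext i j
    simp only [Matrix.of_apply, E]
    rw [hN i j]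
  have hEmap : E.map φ * Matrix.diagonal (fun j => ((c j : ℕ) : LocalResidue M hprime)) =
      U.transpose * V := by
    rw [hUV]
    ext i j
    rw [Matrix.mul_diagonal]
    simp only [Matrix.map_apply, Matrix.of_apply, E, map_natCast]
    push_cast
    ring
  have hdiag : IsUnit (Matrix.diagonal (fun j => ((c j : ℕ) : LocalResidue M hprime))).det := by
    rw [Matrix.det_diagonal, isUnit_iff_ne_zero]
    refine Finset.prod_ne_zero_iff.2 fun j _ => ?_
    intro h0
    exact hc_ndvd j ((CharP.cast_eq_zero_iff (LocalResidue M hprime) p (c j)).1 h0)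
  rw [Nat.card_eq_fintype_card, hE, ← rank_map_of_field φ E,
    ← Matrix.rank_mul_eq_left_of_isUnit_det _ (E.map φ) hdiag, hEmap, hrank1]

end Cfsg.Agent.S4443
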