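import Cfsg.Statements.S4446
import Cfsg.Agent.Lib.Helper04.GlaubFinal

set_option autoImplicit false
open Cfsg

namespace Cfsg.Agent.S4446

/-- Let the finite group Γ be generated by a normal subgroup G and a cyclic subgroup S of coprime orders, C = G ⊓ C(S), and let χ be an S-invariant irreducible character of G with canonical extension χ̂ to Γ (the extension whose determinantal order is coprime to the order of S). Then there are exactly one irreducible character β of C and one sign ε such that χ̂(c s) = ε β(c) for every c ∈ C and every generator s of S; this β is a constituent of the restriction of χ to C; distinct S-invariant χ give distinct β; and every irreducible character of C arises in this way. -/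
theorem result {Γ : Type*} [Group Γ] [Fintype Γ] (G S : Subgroup Γ) [Fintype G] (hnorm : ∀ s ∈ S, ∀ g ∈ G, s * g * s⁻¹ ∈ G) (hcop : (Nat.card G).Coprime (Nat.card S)) (htop : G ⊔ S = ⊤) (hcyc : IsCyclic S) (C : Subgroup Γ) [Fintype C] (hC : C = G ⊓ Subgroup.centralizer (S : Set Γ)) (hCG : C ≤ G) : (∀ (χ : Cfsg.IrrCharacter G) (χh : Cfsg.IrrCharacter Γ), (∀ s ∈ S, ∀ g g' : G, (g' : Γ) = s * g * s⁻¹ → (χ : G → ℂ) g' = (χ : G → ℂ) g) → (∀ g : G, (χh : Γ → ℂ) g = (χ : G → ℂ) g) → (Cfsg.detOrder (χh : Γ → ℂ)).Coprime (Nat.card S) → (∃! βε : Cfsg.IrrCharacter C × ℤ, (βε.2 = 1 ∨ βε.2 = -1) ∧ ∀ c : C, ∀ s : Γ, Subgroup.zpowers s = S → (χh : Γ → ℂ) ((c : Γ) * s) = (βε.2 : ℂ) * (βε.1 : C → ℂ) c) ∧ ∀ β : Cfsg.IrrCharacter C, ∀ ε : ℤ, (ε = 1 ∨ ε = -1) → (∀ c : C, ∀ s : Γ, Subgroup.zpowers s = S → (χh : Γ → ℂ) ((c : Γ) * s) = (ε : ℂ) * (β : C → ℂ) c) → Cfsg.classInner (fun c : C => (χ : G → ℂ) ⟨c, hCG c.2⟩) (β : C → ℂ) ≠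 0) ∧ (∀ (χ χ' : Cfsg.IrrCharacter G) (χh χh' : Cfsg.IrrCharacter Γ), (∀ s ∈ S, ∀ g g' : G, (g' : Γ) = s * g * s⁻¹ → (χ : G → ℂ) g' = (χ : G → ℂ) g) → (∀ s ∈ S, ∀ g g' : G, (g' : Γ) = s * g * s⁻¹ → (χ' : G → ℂ) g' = (χ' : G → ℂ) g) → (∀ g : G, (χh : Γ → ℂ) g = (χ : G → ℂ) g) → (∀ g : G, (χh' : Γ → ℂ) g = (χ' : G → ℂ) g) → (Cfsg.detOrder (χh : Γ → ℂ)).Coprime (Nat.card S) → (Cfsg.detOrder (χh' : Γ → ℂ)).Coprime (Nat.card S) → ∀ β : Cfsg.IrrCharacter C, ∀ ε ε' : ℤ, (ε = 1 ∨ ε = -1) → (ε' = 1 ∨ ε' = -1) → (∀ c : C, ∀ s : Γ, Subgroup.zpowers s = S → (χh : Γ → ℂ) ((c : Γ) * s) = (ε : ℂ) * (β : C → ℂ) c) → (∀ c : C, ∀ s : Γ, Subgroup.zpowers s = S → (χh' : Γ → ℂ) ((c : Γ) * s) = (ε' : ℂ) * (β : C → ℂ) c) → χ = χ') ∧ (∀ β : Cfsg.IrrCharacter C, ∃ (χ : Cfsg.IrrCharacter G) (χh : Cfsg.IrrCharacter Γ) (ε : ℤ), (∀ s ∈ S, ∀ g g' : G, (g' : Γ) = s * g * s⁻¹ → (χ : G → ℂ) g' = (χ : G → ℂ) g) ∧ (∀ g : G, (χh : Γ → ℂ) g = (χ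 : G → ℂ) g) ∧ (Cfsg.detOrder (χh : Γ → ℂ)).Coprime (Nat.card S) ∧ (ε = 1 ∨ ε = -1) ∧ ∀ c : C, ∀ s : Γ, Subgroup.zpowers s = S → (χh : Γ → ℂ) ((c : Γ) * s) = (ε : ℂ) * (β : C → ℂ) c) := by
  classical
  -- normality of G
  have hGn : G.Normal := by
    have hN : Subgroup.normalizer (G : Set Γ) = ⊤ := by
      apply top_le_iff.mp
      rw [← htop]
      apply sup_le Subgroup.le_normalizer
      intro s hs
      rw [Subgroup.mem_normalizer_iff]
      intro g
      constructor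
      · intro hg; exact hnorm s hs g hg
      · intro hg
        have := hnorm s⁻¹ (S.inv_mem hs) _ hg
        simpa [mul_assoc] using this
    exact Subgroup.normalizer_eq_top_iff.mp hN
  -- generator
  obtain ⟨⟨s₀, hs₀S⟩, hs₀⟩ := hcyc.exists_generator
  have hS : Subgroup.zpowers s₀ = S := by
    apply le_antisymm
    · rw [Subgroup.zpowers_le]; exact hs₀S
    · intro x hx
      obtain ⟨k, hk⟩ := Subgroup.mem_zpowers_iff.mp (hs₀ ⟨x, hx⟩)
      rw [Subgroup.mem_zpowers_iff]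
      refine ⟨k, ?_⟩
      have := congrArg Subtype.val hk
      simpa using this
  have hord : Nat.card S = orderOf s₀ := by rw [← hS, Nat.card_zpowers]
  have hcop' : (Nat.card G).Coprime (orderOf s₀) := hord ▸ hcop
  have hgen : G ⊔ Subgroup.zpowers s₀ = ⊤ := by rw [hS]; exact htop
  have hC' : C = Cfsg.Agent.Lib.Helper04.fixC G s₀ := by
    rw [hC, Cfsg.Agent.Lib.Helper04.fixC]
    congr 1
    ext x
    rw [Subgroup.mem_centralizer_iff, Subgroup.mem_centralizer_singleton_iff]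
    constructor
    · intro h
      exact (h s₀ hs₀S).symm
    · intro h y hy
      have hy' : y ∈ Subgroup.zpowers s₀ := by rw [hS]; exact hy
      obtain ⟨k, rfl⟩ := Subgroup.mem_zpowers_iff.mp hy'
      exact ((Commute.zpow_right (show Commute x s₀ from h) k).eq).symm
  subst hC'
  -- independence of the generator
  have hgenr : ∀ (χh : Γ → ℂ), IsIrrCharacter Γ χh → IsIrrCharacter G (fun g : G => χh g) →
      (detOrder χh).Coprime (orderOf s₀) → ∀ (c : Cfsg.Agent.Lib.Helper04.fixC G s₀) (s : Γ),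
      Subgroup.zpowers s = S → χh ((c : Γ) * s) = χh ((c : Γ) * s₀) := by
    intro χh h1 h2 h3 c s hs
    obtain ⟨k, hk, rfl⟩ := Cfsg.Agent.Lib.Helper04.eq_pow_of_zpowers_eq (hs.trans hS.symm)
    exact Cfsg.Agent.Lib.Helper04.canonical_pow_invariant G s₀ hcop' hgen h1 h2 h3 k hk c.2
  refine ⟨?_, ?_, ?_⟩
  · -- existence and uniqueness of (β, ε), constituent
    intro χ χh _ hres hcan
    rw [hord] at hcan
    have hχG : IsIrrCharacter G (fun g : G => (χh : Γ → ℂ) g) := by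
      have : (fun g : G => (χh : Γ → ℂ) g) = (χ : G → ℂ) := funext hres
      rw [this]; exact χ.2
    have hχhc : IsCharacter Γ (χh : Γ → ℂ) := Cfsg.Agent.Lib.Helper83.isCharacter_of_irr χh.2
    obtain ⟨β, ε, hε, hβ⟩ := Cfsg.Agent.Lib.Helper04.exists_sign_irr hcop' hgen χh.2 hχG hcan
    have hcons : ∀ β' : Cfsg.IrrCharacter (Cfsg.Agent.Lib.Helper04.fixC G s₀), ∀ ε' : ℤ,
        (ε' = 1 ∨ ε' = -1) →
        (∀ c : Cfsg.Agent.Lib.Helper04.fixC G s₀,
          (χh : Γ → ℂ) ((c : Γ) * s₀) = (ε' : ℂ) * (β' : _ → ℂ) c) →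
        Cfsg.classInner (fun c : Cfsg.Agent.Lib.Helper04.fixC G s₀ => (χ : G → ℂ) ⟨c, hCG c.2⟩)
          (β' : _ → ℂ) ≠ 0 := by
      intro β' ε' hε' hβ'
      have h1 : (fun c : Cfsg.Agent.Lib.Helper04.fixC G s₀ => (χ : G → ℂ) ⟨c, hCG c.2⟩) =
          fun c : Cfsg.Agent.Lib.Helper04.fixC G s₀ => (χh : Γ → ℂ) (c : Γ) :=
        funext fun c => (hres ⟨c, hCG c.2⟩).symm
      rw [h1]
      apply Cfsg.Agent.Lib.Helper04.res_ne_zero_of_coset_ne_zero G s₀ hχhc β'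
      have h2 : (fun c : Cfsg.Agent.Lib.Helper04.fixC G s₀ => (χh : Γ → ℂ) ((c : Γ) * s₀)) =
          (ε' : ℂ) • (β' : _ → ℂ) := funext fun c => hβ' c
      rw [h2, Cfsg.Agent.Lib.Helper04.classInner_smul_left,
        Cfsg.Agent.Lib.Helper83.irr_orthonormal, if_pos rfl, mul_one]
      rcases hε' with rfl | rfl <;> simp
    refine ⟨⟨(β, ε), ⟨hε, fun c s hs => by rw [hgenr _ χh.2 hχG hcan c s hs]; exact hβ c⟩, ?_⟩,
      fun β' ε' hε' hβ' => hcons β' ε' hε' (fun c => hβ' c s₀ hS)⟩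
    rintro ⟨β', ε'⟩ ⟨hε', hβ'⟩
    have heq : ∀ c : Cfsg.Agent.Lib.Helper04.fixC G s₀,
        (ε' : ℂ) * (β' : _ → ℂ) c = (ε : ℂ) * (β : _ → ℂ) c := by
      intro c
      rw [← hβ' c s₀ hS, hβ c]
    obtain ⟨d, hd0, hd1, _⟩ := Cfsg.Agent.Lib.Helper05.exists_degree_dvd β.2
    obtain ⟨d', hd'0, hd'1, _⟩ := Cfsg.Agent.Lib.Helper05.exists_degree_dvd β'.2
    have h1 := heq 1
    rw [hd1, hd'1] at h1
    have hεε' : ε' = ε := by
      simp only at hε'
      rcases hε with rfl | rfl <;> rcases hε' with rfl | rfl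
      · rfl
      · exfalso
        have : ((d' + d : ℕ) : ℂ) = 0 := by push_cast at h1 ⊢; linear_combination -h1
        have : d' + d = 0 := by exact_mod_cast this
        omega
      · exfalso
        have : ((d' + d : ℕ) : ℂ) = 0 := by push_cast at h1 ⊢; linear_combination h1
        have : d' + d = 0 := by exact_mod_cast this
        omega
      · rfl
    have hββ' : β' = β := by
      apply Subtype.ext
      funext c
      have h2 := heq c
      rw [hεε'] at h2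
      have hne : (ε : ℂ) ≠ 0 := by rcases hε with rfl | rfl <;> simp
      exact mul_left_cancel₀ hne h2
    rw [Prod.mk.injEq]
    exact ⟨hββ', hεε'⟩
  · -- injectivity
    intro χ χ' χh χh' _ _ hres hres' hcan hcan' β ε ε' hε hε' h1 h2
    rw [hord] at hcan hcan'
    have hχG : IsIrrCharacter G (fun g : G => (χh : Γ → ℂ) g) := by
      have : (fun g : G => (χh : Γ → ℂ) g) = (χ : G → ℂ) := funext hres
      rw [this]; exact χ.2
    have h3 := Cfsg.Agent.Lib.Helper04.coset_irr_ne hcop' hgen χh.2 hχG χh'.2 β ε ε' hε hε'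
      (fun c => h1 c s₀ hS) (fun c => h2 c s₀ hS)
    apply Subtype.ext
    funext g
    rw [← hres g, ← hres' g]
    exact congrFun h3 g
  · -- surjectivity
    intro β
    obtain ⟨χ, χh, ε, hinv, hirr, hres, hcan, hε, hβ⟩ :=
      Cfsg.Agent.Lib.Helper04.exists_inv_of_irr hcop' hgen β
    have hχG : IsIrrCharacter G (fun g : G => χh g) := by
      have : (fun g : G => χh g) = (χ : G → ℂ) := funext hres
      rw [this]; exact χ.2
    refine ⟨χ, ⟨χh, hirr⟩, ε, ?_, hres, ?_, hε, ?_⟩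
    · intro s _ g g' hg'
      have h1 := Cfsg.Agent.Lib.Helper04.SInv.all hgen
        (Cfsg.Agent.Lib.Helper83.IrrCharacter_isCharacter χ) hinv s g
      have h2 : g' = ⟨s * g * s⁻¹, hGn.conj_mem (g : Γ) g.2 s⟩ := Subtype.ext hg'
      rw [h2]; exact h1
    · rw [hord]; exact hcan
    · intro c s hs
      show χh ((c : Γ) * s) = (ε : ℂ) * (β : _ → ℂ) c
      rw [hgenr χh hirr hχG hcan c s hs]
      exact hβ c

end Cfsg.Agent.S4446
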