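import Cfsg.Statements.S4455
import Cfsg.Agent.Lib.Helper80.DetCanon
import Cfsg.Agent.Lib.Helper80.CharMisc
import Cfsg.Agent.Lib.Helper02.PResidual
import Cfsg.Agent.Lib.Helper42.TwistAction
import Cfsg.Agent.Lib.Helper83.Abelian

set_option autoImplicit false
set_option linter.style.haveILetI false
open Cfsg

namespace Cfsg.Agent.S4455

/-- `O^p(O^p(G)) = O^p(G)`. -/
theorem pResidual_pResidual_top (p : ℕ) (G : Type*) [Group G] :
    Cfsg.pResidual p ↥(Cfsg.pResidual p G) = ⊤ := by
  have h := Subgroup.closure_closure_coe_preimage (k := {g : G | Nat.Coprime (orderOf g) p})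
  have h2 : ((↑) : Subgroup.closure {g : G | Nat.Coprime (orderOf g) p} → G) ⁻¹'
      {g : G | Nat.Coprime (orderOf g) p} = {y | Nat.Coprime (orderOf y) p} := by
    ext y
    simp
  rw [h2] at h
  exact h

/-- A group generated by its `p'`-elements has no linear character of order divisible by `p`. -/
theorem not_dvd_orderOf_hom {H : Type*} [Group H] [Finite H] (p : ℕ) (hp : p.Prime)
    (hH : Cfsg.pResidual p H = ⊤) (lam : H →* ℂˣ) : ¬ p ∣ orderOf lam := by
  intro hdvd
  have hfin : IsOfFinOrder lam := Cfsg.Agent.Lib.Helper20.isOfFinOrder_hom lam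
  have ho : 0 < orderOf lam := hfin.orderOf_pos
  obtain ⟨k, hk⟩ := hdvd
  have hk0 : 0 < k := by
    rcases Nat.eq_zero_or_pos k with h | h
    · rw [h, mul_zero] at hk; omega
    · exact h
  have hklt : k < orderOf lam := by
    rw [hk]; nlinarith [hp.two_le]
  have hν : lam ^ k ≠ 1 := pow_ne_one_of_lt_orderOf hk0.ne' hklt
  apply hν
  have hker : (⊤ : Subgroup H) ≤ (lam ^ k).ker := by
    rw [← hH]
    unfold Cfsg.pResidual
    rw [Subgroup.closure_le]
    intro y hy
    rw [SetLike.mem_coe, MonoidHom.mem_ker]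
    have h1 : ((lam ^ k) y) ^ p = 1 := by
      have h0 : (lam y) ^ orderOf lam = 1 := by
        have := DFunLike.congr_fun (pow_orderOf_eq_one lam) y
        rw [MonoidHom.pow_apply] at this
        exact this
      rw [MonoidHom.pow_apply, ← pow_mul, mul_comm, ← hk]
      exact h0
    have h2 : ((lam ^ k) y) ^ orderOf y = 1 := by
      rw [← map_pow, pow_orderOf_eq_one, map_one]
    have h3 : orderOf ((lam ^ k) y) ∣ Nat.gcd p (orderOf y) :=
      Nat.dvd_gcd (orderOf_dvd_of_pow_eq_one h1) (orderOf_dvd_of_pow_eq_one h2)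
    have hy' : Nat.Coprime (orderOf y) p := hy
    rw [Nat.Coprime.gcd_eq_one hy'.symm] at h3
    exact orderOf_eq_one_iff.mp (Nat.dvd_one.mp h3)
  apply MonoidHom.ext
  intro y
  exact MonoidHom.mem_ker.mp (hker (Subgroup.mem_top y))

/-- Fix a prime p and a finite group G. Let s be the sum of χ(1)² over the irreducible characters χ of G whose degree is not divisible by p and whose determinantal order o(χ) is not divisible by p. Then the order of O^p(G), the subgroup generated by the elements of order prime to p, is congruent to s modulo p. -/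
theorem result {G : Type*} [Group G] [Finite G] (p : ℕ) (hp : p.Prime) : (Nat.card (Cfsg.pResidual p G) : ℤ) ≡ (∑ᶠ χ ∈ {χ : Cfsg.IrrCharacter G | ¬ p ∣ Cfsg.charDegree (χ : G → ℂ) ∧ ¬ p ∣ Cfsg.detOrder (χ : G → ℂ)}, (Cfsg.charDegree (χ : G → ℂ) : ℤ) ^ 2) [ZMOD p] := by
  classical
  haveI := Fact.mk hp
  haveI := Fintype.ofFinite G
  set N : Subgroup G := Cfsg.pResidual p G with hNdef
  haveI hNn : N.Normal := Cfsg.Agent.Lib.Helper02.pResidual_normal p
  have hquot : IsPGroup p (G ⧸ N) := Cfsg.Agent.Lib.Helper02.isPGroup_quotient_pResidual p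
  obtain ⟨a, ha⟩ : ∃ a, N.index = p ^ a := by
    rw [Subgroup.index_eq_card]; exact hquot.exists_card_eq
  haveI : Fintype N := Fintype.ofFinite _
  haveI : Fintype (IrrCharacter N) := Fintype.ofFinite _
  haveI : Fintype (IrrCharacter G) := Fintype.ofFinite _
  have hNtop : Cfsg.pResidual p ↥N = ⊤ := pResidual_pResidual_top p G
  let Inv : IrrCharacter N → Prop := fun θ =>
    ∀ (g : G) (n : N), θ.1 ⟨g * n * g⁻¹, hNn.conj_mem (n : G) n.2 g⟩ = θ.1 n
  set S : Finset (IrrCharacter G) :=
    Finset.univ.filter (fun χ => ¬ p ∣ charDegree χ.1 ∧ ¬ p ∣ detOrder χ.1) with hS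
  set T : Finset (IrrCharacter N) :=
    Finset.univ.filter (fun θ => Inv θ ∧ ¬ p ∣ charDegree θ.1) with hT
  have hA : (∑ᶠ χ ∈ {χ : Cfsg.IrrCharacter G | ¬ p ∣ Cfsg.charDegree (χ : G → ℂ) ∧
      ¬ p ∣ Cfsg.detOrder (χ : G → ℂ)}, (Cfsg.charDegree (χ : G → ℂ) : ℤ) ^ 2) =
      ∑ χ ∈ S, (charDegree χ.1 : ℤ) ^ 2 := by
    have : {χ : Cfsg.IrrCharacter G | ¬ p ∣ Cfsg.charDegree (χ : G → ℂ) ∧
      ¬ p ∣ Cfsg.detOrder (χ : G → ℂ)} = ↑S := by
      ext χ; simp [hS]
    rw [this, finsum_mem_coe_finset]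
  rw [hA]
  -- coprimality helper
  have hcopN : ∀ x : ℕ, ¬ p ∣ x → Nat.Coprime N.index x := by
    intro x hx
    rw [ha]
    exact Nat.Coprime.pow_left a ((Nat.Prime.coprime_iff_not_dvd hp).mpr hx)
  have hdetN : ∀ θ : N → ℂ, ¬ p ∣ detOrder θ := by
    intro θ
    rw [Cfsg.Agent.Lib.Helper80.detOrder_eq]
    exact not_dvd_orderOf_hom p hp hNtop _
  have hdeg : ∀ χ : IrrCharacter G, χ.1 1 = (charDegree χ.1 : ℂ) := fun χ =>
    (Cfsg.Agent.Lib.Helper83.charDegree_cast (Cfsg.Agent.Lib.Helper83.IrrCharacter_isCharacter χ)).symm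
  have hdegN : ∀ θ : IrrCharacter N, θ.1 1 = (charDegree θ.1 : ℂ) := fun θ =>
    (Cfsg.Agent.Lib.Helper83.charDegree_cast (Cfsg.Agent.Lib.Helper83.IrrCharacter_isCharacter θ)).symm
  have hresirr : ∀ χ : IrrCharacter G, ¬ p ∣ charDegree χ.1 →
      IsIrrCharacter N (fun n : N => χ.1 n) := fun χ hχ =>
    Cfsg.Agent.Lib.Helper80.restrict_irr_of_ppow_index N p a hp ha χ.2 _ (hdeg χ) hχ
  have hresInv : ∀ (χ : IrrCharacter G) (h : IsIrrCharacter N (fun n : N => χ.1 n)),
      Inv ⟨fun n : N => χ.1 n, h⟩ := by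
    intro χ h g n
    exact Cfsg.Agent.Lib.Helper83.char_conj_eq
      (Cfsg.Agent.Lib.Helper83.IrrCharacter_isCharacter χ) _ _
  have hcopθ : ∀ θ : IrrCharacter N, ¬ p ∣ charDegree θ.1 →
      Nat.Coprime N.index (detOrder θ.1 * charDegree θ.1) := by
    intro θ hθ
    apply hcopN
    intro h
    rcases (Nat.Prime.dvd_mul hp).mp h with h | h
    · exact hdetN _ h
    · exact hθ h
  have hC : ∑ χ ∈ S, (charDegree χ.1 : ℤ) ^ 2 = ∑ θ ∈ T, (charDegree θ.1 : ℤ) ^ 2 := by
    refine Finset.sum_bij (fun χ hχ => ⟨fun n : N => χ.1 n,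
      hresirr χ (Finset.mem_filter.mp hχ).2.1⟩) ?_ ?_ ?_ ?_
    · intro χ hχ
      rw [hT, Finset.mem_filter]
      refine ⟨Finset.mem_univ _, hresInv χ _, ?_⟩
      exact (Finset.mem_filter.mp hχ).2.1
    · intro χ₁ h₁ χ₂ h₂ heq
      have h₁' := (Finset.mem_filter.mp h₁).2
      have h₂' := (Finset.mem_filter.mp h₂).2
      have hθ := hresirr χ₁ h₁'.1
      have hfun : (fun n : N => χ₂.1 n) = fun n : N => χ₁.1 n :=
        (congrArg Subtype.val heq).symm
      obtain ⟨χ₀, -, huniq⟩ := Cfsg.Agent.Lib.Helper80.exists_canonical_ext N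
        (fun n : N => χ₁.1 n) hθ (hresInv χ₁ hθ) (charDegree χ₁.1) (hdeg χ₁)
        (hcopθ ⟨_, hθ⟩ h₁'.1)
      have e1 := huniq χ₁.1 χ₁.2 (fun n => rfl) (hcopN _ h₁'.2)
      have e2 := huniq χ₂.1 χ₂.2 (fun n => congrFun hfun n) (hcopN _ h₂'.2)
      exact Subtype.ext (e1.trans e2.symm)
    · intro θ hθ
      have hθ' := (Finset.mem_filter.mp hθ).2
      obtain ⟨χ, ⟨hχ, hχres, hχord⟩, -⟩ := Cfsg.Agent.Lib.Helper80.exists_canonical_ext N
        θ.1 θ.2 hθ'.1 (charDegree θ.1) (hdegN θ) (hcopθ θ hθ'.2)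
      have hdeq : charDegree χ = charDegree θ.1 := by
        unfold charDegree
        rw [← hχres 1]
        rfl
      refine ⟨⟨χ, hχ⟩, ?_, ?_⟩
      · rw [hS, Finset.mem_filter]
        refine ⟨Finset.mem_univ _, ?_, ?_⟩
        · show ¬ p ∣ charDegree χ
          rw [hdeq]; exact hθ'.2
        · show ¬ p ∣ detOrder χ
          rw [hχord]; exact hdetN _
      · apply Subtype.ext
        funext n
        exact hχres n
    · intro χ hχ
      rfl
  rw [hC]
  -- the orbit count
  letI act : MulAction G (IrrCharacter N) := Cfsg.Agent.Lib.Helper84.irrAction N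
  have hact : ∀ (g : G) (θ : IrrCharacter N) (k : N),
      (g • θ : IrrCharacter N).1 k = θ.1 ((MulAut.conjNormal g⁻¹ : MulAut N) k) :=
    fun g θ k => rfl
  have hInv_iff : ∀ θ : IrrCharacter N, Inv θ ↔ ∀ g : G, g • θ = θ := by
    intro θ
    constructor
    · intro h g
      apply Subtype.ext
      funext k
      rw [hact]
      have := h g⁻¹ k
      rw [← this]
      rfl
    · intro h g n
      have h1 : (g⁻¹ • θ : IrrCharacter N).1 n = θ.1 n := by rw [h g⁻¹]
      rw [hact, inv_inv] at h1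
      rw [← h1]
      rfl
  set f : IrrCharacter N → ℤ := fun θ => if θ ∈ T then 0 else (charDegree θ.1 : ℤ) ^ 2 with hf
  have hdeg_smul : ∀ (g : G) (θ : IrrCharacter N), charDegree (g • θ : IrrCharacter N).1 =
      charDegree θ.1 := by
    intro g θ
    unfold charDegree
    rw [hact, map_one]
  have hf_inv : ∀ (g : G) (θ : IrrCharacter N), f (g • θ) = f θ := by
    intro g θ
    by_cases hI : Inv θ
    · rw [(hInv_iff θ).mp hI g]
    · have hI' : ¬ Inv (g • θ) := by
        intro h
        apply hI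
        have h1 := (hInv_iff _).mp h g⁻¹
        rw [inv_smul_smul] at h1
        rw [h1]; exact h
      have h1 : θ ∉ T := by
        rw [hT, Finset.mem_filter]; intro h; exact hI h.2.1
      have h2 : g • θ ∉ T := by
        rw [hT, Finset.mem_filter]; intro h; exact hI' h.2.1
      simp only [hf, if_neg h1, if_neg h2, hdeg_smul]
  have hdiv : ∀ θ : IrrCharacter N,
      (p : ℤ) ∣ ((MulAction.stabilizer G θ).index : ℤ) * f θ := by
    intro θ
    by_cases hθT : θ ∈ T
    · simp only [hf, if_pos hθT, mul_zero, dvd_zero]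
    · simp only [hf, if_neg hθT]
      by_cases hI : Inv θ
      · have hpd : p ∣ charDegree θ.1 := by
          by_contra h
          apply hθT
          rw [hT, Finset.mem_filter]
          exact ⟨Finset.mem_univ _, hI, h⟩
        apply Dvd.dvd.mul_left
        apply Dvd.dvd.pow _ (by norm_num)
        exact_mod_cast hpd
      · apply Dvd.dvd.mul_right
        have hNle : N ≤ MulAction.stabilizer G θ := by
          intro n hn
          rw [MulAction.mem_stabilizer_iff]
          apply Subtype.ext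
          funext k
          rw [hact]
          have := Cfsg.Agent.Lib.Helper83.char_conj_eq
            (Cfsg.Agent.Lib.Helper83.IrrCharacter_isCharacter θ) k (⟨n⁻¹, N.inv_mem hn⟩ : N)
          rw [← this]
          apply congrArg
          apply Subtype.ext
          rfl
        have hdvd : (MulAction.stabilizer G θ).index ∣ p ^ a := by
          rw [← ha]; exact Subgroup.index_dvd_of_le hNle
        obtain ⟨j, _, hj⟩ := (Nat.dvd_prime_pow hp).mp hdvd
        have hj0 : j ≠ 0 := by
          intro h0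
          rw [h0, pow_zero] at hj
          apply hI
          rw [hInv_iff]
          intro g
          have : g ∈ MulAction.stabilizer G θ := by
            rw [Subgroup.index_eq_one.mp hj]; trivial
          exact MulAction.mem_stabilizer_iff.mp this
        rw [hj]
        exact_mod_cast dvd_pow_self p hj0
  have hsumf := Cfsg.Agent.Lib.Helper42.dvd_sum_of_invariant (L := G) f hf_inv (p : ℤ) hdiv
  have hsq := Cfsg.Agent.Lib.Helper83.sum_charDegree_sq (G := N)
  have hsplit : (Nat.card N : ℤ) = ∑ θ ∈ T, (charDegree θ.1 : ℤ) ^ 2 + ∑ θ, f θ := by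
    rw [← hsq]
    push_cast
    rw [← Finset.sum_filter_add_sum_filter_not Finset.univ (fun θ => θ ∈ T)]
    congr 1
    · rw [Finset.filter_mem_eq_inter, Finset.univ_inter]
    · rw [← Finset.sum_filter_add_sum_filter_not Finset.univ (fun θ => θ ∈ T) f]
      have h1 : ∑ θ ∈ Finset.univ.filter (fun θ => θ ∈ T), f θ = 0 := by
        apply Finset.sum_eq_zero
        intro θ hθ
        simp only [hf, if_pos (Finset.mem_filter.mp hθ).2]
      rw [h1, zero_add]
      apply Finset.sum_congr rfl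
      intro θ hθ
      simp only [hf, if_neg (Finset.mem_filter.mp hθ).2]
  rw [hsplit]
  obtain ⟨c, hc⟩ := hsumf
  rw [hc]
  exact (Int.modEq_iff_dvd.mpr ⟨c, by ring⟩).symm

end Cfsg.Agent.S4455
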