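import Cfsg.Statements.S4459
import Cfsg.Agent.Lib.Helper97.TwoDegPrime

set_option autoImplicit false
open Cfsg

namespace Cfsg.Agent.S4459

/-- Let G be a non-abelian finite group and p a prime. Then the irreducible character degrees of G are exactly 1 and p if and only if either G has an abelian normal subgroup of index p or the centre of G has index p³. -/
theorem result {G : Type*} [Group G] [Finite G] (hG : ∃ a b : G, a * b ≠ b * a) (p : ℕ) (hp : p.Prime) : ((∀ χ : Cfsg.IrrCharacter G, Cfsg.charDegree (χ : G → ℂ) = 1 ∨ Cfsg.charDegree (χ : G → ℂ) = p) ∧ ∃ χ : Cfsg.IrrCharacter G, Cfsg.charDegree (χ : G → ℂ) = p) ↔ ((∃ A : Subgroup G, A.Normal ∧ (∀ a ∈ A, ∀ b ∈ A, a * b = b * a) ∧ A.index = p) ∨ (Subgroup.center G).index = p ^ 3) := by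
  classical
  constructor
  · rintro ⟨hcd, χ₀, hχ₀⟩
    exact Cfsg.Agent.Lib.Helper97.TwoDeg.prime_structure hp hcd χ₀ hχ₀ hG
  · intro h
    have hex : (∀ χ : Cfsg.IrrCharacter G, Cfsg.charDegree (χ : G → ℂ) = 1 ∨
        Cfsg.charDegree (χ : G → ℂ) = p) →
        ∃ χ : Cfsg.IrrCharacter G, Cfsg.charDegree (χ : G → ℂ) = p := by
      intro hall
      by_contra hcon
      push Not at hcon
      have hlin : ∀ χ : Cfsg.IrrCharacter G, Cfsg.charDegree (χ : G → ℂ) = 1 :=
        fun χ => (hall χ).resolve_right (hcon χ)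
      obtain ⟨a, b, hab⟩ := hG
      exact hab (Cfsg.Agent.Lib.Helper79.comm_of_all_linear hlin a b)
    rcases h with ⟨A, hAn, hAab, hAidx⟩ | hZ
    · have hall : ∀ χ : Cfsg.IrrCharacter G, Cfsg.charDegree (χ : G → ℂ) = 1 ∨
          Cfsg.charDegree (χ : G → ℂ) = p := by
        intro χ
        have h1 := Cfsg.Agent.Lib.Helper83.ito_charDegree χ A hAab
        rw [hAidx] at h1
        exact (Nat.dvd_prime hp).1 h1
      exact ⟨hall, hex hall⟩
    · have hall : ∀ χ : Cfsg.IrrCharacter G, Cfsg.charDegree (χ : G → ℂ) = 1 ∨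
          Cfsg.charDegree (χ : G → ℂ) = p := by
        intro χ
        have hcen : ∀ a ∈ Subgroup.center G, ∀ b ∈ Subgroup.center G, a * b = b * a :=
          fun a ha b _ => ((Subgroup.mem_center_iff.1 ha) b).symm
        have hdvd := Cfsg.Agent.Lib.Helper83.ito_charDegree χ (Subgroup.center G) hcen
        rw [hZ] at hdvd
        obtain ⟨j, hj3, hj⟩ := (Nat.dvd_prime_pow hp).1 hdvd
        have hle := Cfsg.Agent.Lib.Helper97.irr_degree_sq_mul_card_center_le χ
        have hcard : Nat.card G = Nat.card (Subgroup.center G) * p ^ 3 := by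
          rw [← hZ]; exact (Subgroup.card_mul_index _).symm
        have hZpos : 0 < Nat.card (Subgroup.center G) := Nat.card_pos
        have hd2 : Cfsg.charDegree (χ : G → ℂ) ^ 2 ≤ p ^ 3 := by
          rw [hcard, mul_comm (Nat.card (Subgroup.center G))] at hle
          exact Nat.le_of_mul_le_mul_right hle hZpos
        rw [hj] at hd2 ⊢
        have hj1 : j ≤ 1 := by
          by_contra hc
          have h2 : 2 ≤ j := by omega
          have h4 : p ^ 2 ≤ p ^ j := Nat.pow_le_pow_right hp.pos h2
          have h5 : (p ^ 2) ^ 2 ≤ (p ^ j) ^ 2 := Nat.pow_le_pow_left h4 2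
          have h6 : p ^ 3 < (p ^ 2) ^ 2 := by
            rw [← pow_mul]; exact Nat.pow_lt_pow_right hp.one_lt (by norm_num)
          omega
        interval_cases j
        · left; simp
        · right; simp
      exact ⟨hall, hex hall⟩

end Cfsg.Agent.S4459
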