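import Cfsg.Statements.S4470
import Cfsg.Agent.Lib.Helper80.JordanMain

set_option autoImplicit false
open Cfsg

namespace Cfsg.Agent.S4470

/-- Let the finite group G have a faithful character of degree n. Then G has an abelian normal subgroup A such that every abelian subgroup H of G satisfies [H : H ⊓ A] ≤ 12^n. -/
theorem result {G : Type*} [Group G] [Finite G] (χ : G → ℂ) (hχ : Cfsg.IsCharacter G χ) (hfaith : ∀ g : G, χ g = χ 1 → g = 1) (n : ℕ) (hn : Cfsg.charDegree χ = n) : ∃ A : Subgroup G, A.Normal ∧ (∀ x ∈ A, ∀ y ∈ A, x * y = y * x) ∧ ∀ H : Subgroup G, (∀ x ∈ H, ∀ y ∈ H, x * y = y * x) → (A.subgroupOf H).index ≤ 12 ^ n := by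
  obtain ⟨m, ρ, hρ⟩ := hχ
  -- the matrix form of ρ
  let M : G →* Matrix (Fin m) (Fin m) ℂ :=
    (LinearMap.toMatrixAlgEquiv' (R := ℂ) (n := Fin m)).toAlgHom.toRingHom.toMonoidHom.comp ρ
  have hM : ∀ g, (M g).trace = χ g := by
    intro g
    rw [← hρ]
    change (LinearMap.toMatrix' (ρ g)).trace = LinearMap.trace ℂ _ (ρ g)
    rw [LinearMap.trace_eq_matrix_trace ℂ (Pi.basisFun ℂ (Fin m)), LinearMap.toMatrix_eq_toMatrix']
  have hχ1 : χ 1 = (m : ℂ) := by
    rw [← hM 1, map_one, Matrix.trace_one, Fintype.card_fin]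
  have hnm : n = m := by
    rw [← hn, Cfsg.charDegree, hχ1]
    simp
  subst hnm
  obtain ⟨U, hU, hUtr⟩ := Cfsg.Agent.Lib.Helper80.Jordan.exists_unitary_hom M
  have hinj : Function.Injective U := by
    intro g h hgh
    have h1 : U (g * h⁻¹) = 1 := by
      rw [map_mul, hgh, ← map_mul, mul_inv_cancel, map_one]
    have h2 : χ (g * h⁻¹) = χ 1 := by
      rw [← hM, ← hUtr, h1, Matrix.trace_one, Fintype.card_fin, hχ1]
    have h3 := hfaith _ h2
    exact mul_inv_eq_one.mp h3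
  exact Cfsg.Agent.Lib.Helper80.Jordan.jordan_unitary U hU hinj

end Cfsg.Agent.S4470
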