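import Cfsg.Statements.S4473
import Cfsg.Agent.Lib.Helper97.Deg2Part
import Cfsg.Agent.Lib.Helper97.Deg2Char
import Cfsg.Agent.Lib.Helper79.InvForm

set_option autoImplicit false
open Cfsg

namespace Cfsg.Agent.S4473

/-- Let the finite group G have a faithful irreducible character χ of degree 2 that is primitive: χ is not induced from a character of any proper subgroup. Then the centre of G has index 12, 24 or 60. -/
theorem result {G : Type*} [Group G] [Fintype G] (χ : Cfsg.IrrCharacter G) (hfaith : ∀ g : G, (χ : G → ℂ) g = (χ : G → ℂ) 1 → g = 1) (h2 : Cfsg.charDegree (χ : G → ℂ) = 2) (hprim : ∀ H : Subgroup G, H ≠ ⊤ → ∀ θ : H → ℂ, Cfsg.IsCharacter H θ → (χ : G → ℂ) ≠ Cfsg.indFun H θ) : (Subgroup.center G).index = 12 ∨ (Subgroup.center G).index = 24 ∨ (Subgroup.center G).index = 60 := by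
  classical
  obtain ⟨n, ρ, hirr, hchar⟩ := χ.2
  have hdim : (χ : G → ℂ) 1 = (n : ℂ) := by
    rw [← hchar, ← Cfsg.Agent.Lib.Helper79.trace_repMat, Cfsg.Agent.Lib.Helper79.repMat_one,
      Matrix.trace_one, Fintype.card_fin]
  have hn2 : n = 2 := by
    unfold Cfsg.charDegree at h2
    rw [hdim] at h2
    simpa using h2
  subst hn2
  have hχ1 : (χ : G → ℂ) 1 = 2 := by rw [hdim]; norm_num
  have hinj : Function.Injective (Cfsg.Agent.Lib.Helper79.repMat ρ) := by
    intro g h hgh
    have h1 : Cfsg.Agent.Lib.Helper79.repMat ρ (g * h⁻¹) = 1 := by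
      rw [Cfsg.Agent.Lib.Helper79.repMat_mul, hgh, Cfsg.Agent.Lib.Helper79.repMat_mul_inv]
    have h2' : (χ : G → ℂ) (g * h⁻¹) = (χ : G → ℂ) 1 := by
      rw [hχ1, ← hchar, ← Cfsg.Agent.Lib.Helper79.trace_repMat, h1, Matrix.trace_one,
        Fintype.card_fin]
      norm_num
    have := hfaith _ h2'
    exact mul_inv_eq_one.mp this
  let F : Cfsg.Agent.Lib.Helper97.Deg2.FaithfulRep G :=
    { R := Cfsg.Agent.Lib.Helper79.repMat ρ
      map_mul := Cfsg.Agent.Lib.Helper79.repMat_mul ρ
      map_one := Cfsg.Agent.Lib.Helper79.repMat_one ρ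
      inj := hinj }
  have hnab : ∃ g : G, g ∉ Subgroup.center G := by
    by_contra hcon
    push Not at hcon
    have hab : ∀ a b : G, a * b = b * a := fun a b =>
      (Subgroup.mem_center_iff.mp (hcon b) a)
    have := Cfsg.Agent.Lib.Helper85.irr_apply_one_of_comm hab χ.2
    rw [hχ1] at this
    norm_num at this
  rcases F.main hnab with h | h | h | ⟨g, hg, hN, hidx⟩
  · exact Or.inl h
  · exact Or.inr (Or.inl h)
  · exact Or.inr (Or.inr h)
  · exfalso
    refine Cfsg.Agent.Lib.Helper97.Deg2.no_normal_abelian_index_two χ hχ1 hprim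
      (Subgroup.centralizer ({g} : Set G)) hN ?_ hidx
    intro a b
    apply Subtype.ext
    exact F.centralizer_comm hg a.2 b.2

end Cfsg.Agent.S4473
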