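import Cfsg.Statements.S4477
import Cfsg.Agent.Lib.Helper72.AFT
import Cfsg.Agent.S4058

set_option autoImplicit false
open Cfsg

namespace Cfsg.Agent.S4477

set_option linter.style.haveILetI false

theorem zmod_two_aux (a b : ℤ) (ha : a = 0 ∨ a = 1 ∨ a = -1) (hb : b = 0 ∨ b = 1 ∨ b = -1)
    (h : a ≠ 0 ↔ b ≠ 0) : ((a : ℤ) : ZMod 2) + ((b : ℤ) : ZMod 2) = 0 := by
  rcases ha with rfl | rfl | rfl <;> rcases hb with rfl | rfl | rfl <;> simp at h ⊢ <;> decide

open Cfsg.Agent.Lib.Helper42 Cfsg.Agent.Lib.Helper72 in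
/-- Let G be a finite 2-group whose number of involutions is congruent to 1 modulo 4. Then G is cyclic or its commutator subgroup has index 4. -/
theorem result {G : Type*} [Group G] [Finite G] (hG : IsPGroup 2 G) (ht : Nat.card {x : G // orderOf x = 2} % 4 = 1) : IsCyclic G ∨ (commutator G).index = 4 := by
  classical
  letI : Fintype G := Fintype.ofFinite G
  haveI : Fact (Nat.Prime 2) := ⟨Nat.prime_two⟩
  haveI : Finite (IrrCharacter G) := Cfsg.Agent.Lib.Helper83.irr_finite
  letI : Fintype (IrrCharacter G) := Fintype.ofFinite _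
  have hcardL : Nat.card (Lam G) = Nat.card (G ⧸ frattini G) := by
    letI : CommGroup (G ⧸ frattini G) :=
      { (inferInstance : Group (G ⧸ frattini G)) with
        mul_comm := Cfsg.Agent.Lib.Helper75.frattini_quotient_comm hG }
    exact CommGroup.card_monoidHom_of_hasEnoughRootsOfUnity (G ⧸ frattini G) ℂ
  haveI : Finite (Lam G) :=
    Nat.finite_of_card_ne_zero (by rw [hcardL]; exact Nat.card_pos.ne')
  obtain ⟨d, hd⟩ := (hG.to_quotient (frattini G)).exists_card_eq
  by_cases hd1 : d ≤ 1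
  · left
    apply isCyclic_of_isCyclic_frattini_quotient
    interval_cases d
    · haveI : Subsingleton (G ⧸ frattini G) :=
        (Nat.card_eq_one_iff_unique.mp (by simpa using hd)).1
      exact isCyclic_of_subsingleton
    · exact isCyclic_of_prime_card (p := 2) (by simpa using hd)
  right
  have hd2 : 2 ≤ d := by omega
  obtain ⟨n, hn⟩ := hG.exists_card_eq
  -- the count
  have hcount := Cfsg.Agent.Lib.Helper79.one_add_card_involutions (G := G)
  rw [← Cfsg.Agent.Lib.Helper79.card_sq_eq_one] at hcount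
  choose ν hν using Cfsg.Agent.Lib.Helper79.exists_int_fsInd (G := G)
  choose deg hdeg using fun χ : IrrCharacter G => Cfsg.Agent.Lib.Helper05.exists_degree_dvd χ.2
  have hZ : (Nat.card {u : G // u * u = 1} : ℤ) = ∑ χ : IrrCharacter G, ν χ * deg χ := by
    have : ((Nat.card {u : G // u * u = 1} : ℤ) : ℂ) =
        ((∑ χ : IrrCharacter G, ν χ * deg χ : ℤ) : ℂ) := by
      push_cast
      rw [hcount]
      refine Finset.sum_congr rfl fun χ _ => ?_
      rw [(hν χ).2.1, (hdeg χ).2.1]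
    exact_mod_cast this
  -- invariance
  have hdeginv : ∀ (l : Lam G) (χ : IrrCharacter G), deg (l • χ) = deg χ := by
    intro l χ
    have h1 : ((deg (l • χ) : ℕ) : ℂ) = deg χ := by
      rw [← (hdeg (l • χ)).2.1, ← (hdeg χ).2.1, smul_coe, Pi.mul_apply,
        (tw_char l).2, mul_one]
    exact_mod_cast h1
  have hνinv : ∀ (l : Lam G) (χ : IrrCharacter G), ν (l • χ) = ν χ := by
    intro l χ
    have h1 : ((ν (l • χ) : ℤ) : ℂ) = ν χ := by
      rw [(hν (l • χ)).2.1, (hν χ).2.1]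
      unfold Cfsg.Agent.Lib.Helper79.fsInd
      congr 1
      refine Finset.sum_congr rfl fun u _ => ?_
      rw [smul_coe, Pi.mul_apply, Cfsg.Agent.S4058.tw_sq hG, mul_one]
    exact_mod_cast h1
  -- the fixed characters
  set Fset : Finset (IrrCharacter G) :=
    Finset.univ.filter (fun χ => ∀ l : Lam G, l • χ = χ) with hFset
  have hFmem : ∀ χ, χ ∈ Fset ↔ ∀ l : Lam G, l • χ = χ := by
    intro χ
    rw [hFset, Finset.mem_filter]
    exact ⟨fun h => h.2, fun h => ⟨Finset.mem_univ _, h⟩⟩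
  have hFinv : ∀ (l : Lam G) (χ : IrrCharacter G), l • χ ∈ Fset ↔ χ ∈ Fset := by
    intro l χ
    rw [hFmem, hFmem]
    constructor
    · intro h m
      have h1 := h m
      rw [smul_smul, mul_comm m l, ← smul_smul] at h1
      exact MulAction.injective l h1
    · intro h m
      rw [h l]
      exact h m
  -- degrees of 2-power
  have hdegpow : ∀ χ : IrrCharacter G, ∃ a, a ≤ n ∧ deg χ = 2 ^ a := fun χ =>
    (Nat.dvd_prime_pow Nat.prime_two).mp (hn ▸ (hdeg χ).2.2)
  -- stabilizer sizes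
  have hstab : ∀ χ : IrrCharacter G, ∃ s i a, s + i = d ∧ s ≤ a * 2 ∧ deg χ = 2 ^ a ∧
      (MulAction.stabilizer (Lam G) χ).index = 2 ^ i ∧ (i = 0 → χ ∈ Fset) ∧
      (χ ∈ Fset → i = 0) := by
    intro χ
    set S := MulAction.stabilizer (Lam G) χ with hS
    have hmul : Nat.card S * S.index = 2 ^ d := by
      rw [Subgroup.card_mul_index, hcardL, hd]
    obtain ⟨s, hs, hs'⟩ := (Nat.dvd_prime_pow Nat.prime_two).mp (Dvd.intro _ hmul)
    obtain ⟨i, hi, hi'⟩ := (Nat.dvd_prime_pow Nat.prime_two).mp (Dvd.intro_left _ hmul)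
    have hsi : s + i = d := by
      rw [hs', hi', ← pow_add] at hmul
      exact Nat.pow_right_injective (le_refl 2) hmul
    obtain ⟨a, ha, ha'⟩ := hdegpow χ
    have hle := card_stabilizer_le χ (deg χ) (hdeg χ).2.1
    rw [← hS, hs', ha', ← pow_mul] at hle
    have hs2a : s ≤ a * 2 := (Nat.pow_le_pow_iff_right (by norm_num)).mp hle
    refine ⟨s, i, a, hsi, hs2a, ha', hi', ?_, ?_⟩
    · intro hi0
      rw [hi0, pow_zero, Subgroup.index_eq_one] at hi'
      rw [hFmem]
      intro l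
      have : l ∈ S := by rw [hi']; exact Subgroup.mem_top _
      exact MulAction.mem_stabilizer_iff.mp this
    · intro hχ
      rw [hFmem] at hχ
      have : S = ⊤ := by
        rw [eq_top_iff]
        intro l _
        exact MulAction.mem_stabilizer_iff.mpr (hχ l)
      rw [this, Subgroup.index_top] at hi'
      by_contra hi0
      have : 2 ≤ 2 ^ i := by
        calc 2 = 2 ^ 1 := (pow_one 2).symm
          _ ≤ 2 ^ i := Nat.pow_le_pow_right (by norm_num) (by omega)
      omega
  -- the non-fixed part is divisible by 4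
  have h4 : (4 : ℤ) ∣ ∑ χ : IrrCharacter G, (if χ ∈ Fset then 0 else ν χ * deg χ) := by
    apply dvd_sum_of_invariant (L := Lam G)
    · intro l χ
      by_cases hχ : χ ∈ Fset
      · rw [if_pos hχ, if_pos ((hFinv l χ).mpr hχ)]
      · rw [if_neg hχ, if_neg (fun h => hχ ((hFinv l χ).mp h)), hdeginv, hνinv]
    · intro χ
      by_cases hχ : χ ∈ Fset
      · rw [if_pos hχ, mul_zero]; exact dvd_zero _
      · rw [if_neg hχ]
        obtain ⟨s, i, a, hsi, hs2a, ha', hi', hi0, -⟩ := hstab χ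
        have hi1 : i ≠ 0 := fun h => hχ (hi0 h)
        have hk : 2 ≤ i + a := by omega
        rw [hi', ha']
        have : ((2 ^ 2 : ℕ) : ℤ) ∣ ((2 ^ i : ℕ) : ℤ) * ((2 ^ a : ℕ) : ℤ) := by
          rw [← Nat.cast_mul, ← pow_add]
          exact Int.natCast_dvd_natCast.mpr (pow_dvd_pow 2 hk)
        calc (4 : ℤ) = ((2 ^ 2 : ℕ) : ℤ) := by norm_num
          _ ∣ ((2 ^ i : ℕ) : ℤ) * ((2 ^ a : ℕ) : ℤ) := this
          _ ∣ ((2 ^ i : ℕ) : ℤ) * (ν χ * ((2 ^ a : ℕ) : ℤ)) :=
            Dvd.intro (ν χ) (by ring)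
  -- fixed characters have degree at least 2
  have hFdeg : ∀ χ ∈ Fset, ∃ a, 1 ≤ a ∧ d ≤ a * 2 ∧ deg χ = 2 ^ a := by
    intro χ hχ
    obtain ⟨s, i, a, hsi, hs2a, ha', hi', -, hi0⟩ := hstab χ
    have := hi0 hχ
    exact ⟨a, by omega, by omega, ha'⟩
  have hsplit : ∑ χ : IrrCharacter G, ν χ * deg χ =
      ∑ χ : IrrCharacter G, (if χ ∈ Fset then 0 else ν χ * deg χ) +
        ∑ χ : IrrCharacter G, (if χ ∈ Fset then ν χ * deg χ else 0) := by
    rw [← Finset.sum_add_distrib]
    refine Finset.sum_congr rfl fun χ _ => ?_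
    split_ifs <;> ring
  have h4F : (4 : ℤ) ∣ ∑ χ : IrrCharacter G, (if χ ∈ Fset then ν χ * deg χ else 0) -
      2 * ∑ χ : IrrCharacter G, (if χ ∈ Fset ∧ deg χ = 2 then ν χ else 0) := by
    rw [Finset.mul_sum, ← Finset.sum_sub_distrib]
    apply Finset.dvd_sum
    intro χ _
    by_cases hχ : χ ∈ Fset
    · obtain ⟨a, ha1, hda, ha'⟩ := hFdeg χ hχ
      by_cases h2 : deg χ = 2
      · rw [if_pos hχ, if_pos ⟨hχ, h2⟩, h2]
        exact ⟨0, by push_cast; ring⟩
      · rw [if_pos hχ, if_neg (fun h => h2 h.2), mul_zero, sub_zero]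
        have ha2 : 2 ≤ a := by
          rcases Nat.lt_or_ge a 2 with h | h
          · exfalso
            apply h2
            have : a = 1 := by omega
            rw [ha', this, pow_one]
          · exact h
        rw [ha']
        have : ((2 ^ 2 : ℕ) : ℤ) ∣ ((2 ^ a : ℕ) : ℤ) :=
          Int.natCast_dvd_natCast.mpr (pow_dvd_pow 2 ha2)
        calc (4 : ℤ) = ((2 ^ 2 : ℕ) : ℤ) := by norm_num
          _ ∣ ((2 ^ a : ℕ) : ℤ) := this
          _ ∣ ν χ * ((2 ^ a : ℕ) : ℤ) := Dvd.intro_left _ rfl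
    · rw [if_neg hχ, if_neg (fun h => hχ h.1), mul_zero, sub_zero]
      exact dvd_zero _
  set T : ℤ := ∑ χ : IrrCharacter G, (if χ ∈ Fset ∧ deg χ = 2 then ν χ else 0) with hT
  have hTodd : T % 2 = 1 := by
    have h1 : (Nat.card {u : G // u * u = 1} : ℤ) =
        1 + (Nat.card {x : G // orderOf x = 2} : ℤ) := by
      rw [Cfsg.Agent.Lib.Helper79.card_sq_eq_one]; push_cast; rfl
    rw [h1, hsplit] at hZ
    have ht' : (Nat.card {x : G // orderOf x = 2} : ℤ) % 4 = 1 := by exact_mod_cast ht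
    omega
  -- a fixed character of degree 2
  have hTne : T ≠ 0 := by
    intro h
    rw [h] at hTodd
    omega
  obtain ⟨χ₀, -, hχ₀⟩ := Finset.exists_ne_zero_of_sum_ne_zero hTne
  have hχ₀' : χ₀ ∈ Fset ∧ deg χ₀ = 2 := by
    by_contra h
    exact hχ₀ (if_neg h)
  have hd2' : d = 2 := by
    obtain ⟨a, ha1, hda, ha'⟩ := hFdeg χ₀ hχ₀'.1
    rw [hχ₀'.2] at ha'
    have : 1 = a :=
      Nat.pow_right_injective (le_refl 2) (show 2 ^ 1 = 2 ^ a by rw [pow_one]; exact ha')
    omega
  have hidx : (frattini G).index = 4 := by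
    rw [Subgroup.index_eq_card, hd, hd2']
    norm_num
  by_contra hne
  have hnle : ¬ frattini G ≤ commutator G := by
    intro hle
    apply hne
    have : commutator G = frattini G :=
      le_antisymm (Cfsg.Agent.Lib.Helper75.commutator_le_frattini_of_isPGroup' hG) hle
    rw [this]
    exact hidx
  obtain ⟨φ, hφ2, b, hbΦ, hb⟩ := exists_hom_order_four hG hnle
  -- the element of `Lam G` given by the square of `φ`
  have hker : frattini G ≤ (φ * φ).ker := by
    intro x hx
    rw [MonoidHom.mem_ker, MonoidHom.mul_apply]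
    exact hφ2 x hx
  set l₀ : Lam G := QuotientGroup.lift (frattini G) (φ * φ) hker with hl₀def
  have hl₀ : ∀ g : G, tw l₀ g = ((φ g : ℂˣ) : ℂ) * ((φ g : ℂˣ) : ℂ) := by
    intro g
    rw [tw_apply, hl₀def, QuotientGroup.lift_mk, MonoidHom.mul_apply, Units.val_mul]
  have hσσ : ∀ χ ∈ Fset, twistBy φ (twistBy φ χ) = χ := by
    intro χ hχ
    have h1 : twistBy φ (twistBy φ χ) = l₀ • χ := by
      apply Subtype.ext
      funext g
      rw [twistBy_apply, twistBy_apply, smul_coe, Pi.mul_apply, hl₀, mul_assoc]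
    rw [h1]
    exact (hFmem χ).mp hχ l₀
  have hσF : ∀ χ ∈ Fset, twistBy φ χ ∈ Fset := by
    intro χ hχ
    rw [hFmem] at hχ ⊢
    intro l
    apply Subtype.ext
    funext g
    have := congrArg (fun ψ : IrrCharacter G => (ψ : G → ℂ) g) (hχ l)
    simp only [smul_coe, Pi.mul_apply] at this
    rw [smul_coe, Pi.mul_apply, twistBy_apply, mul_right_comm, this]
  have hσdeg : ∀ χ, deg (twistBy φ χ) = deg χ := by
    intro χ
    have h1 : ((deg (twistBy φ χ) : ℕ) : ℂ) = deg χ := by
      rw [← (hdeg (twistBy φ χ)).2.1, ← (hdeg χ).2.1, twistBy_apply, map_one, Units.val_one,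
        mul_one]
    exact_mod_cast h1
  have hσν : ∀ χ ∈ Fset, ν χ ≠ 0 → ν (twistBy φ χ) ≠ 0 := by
    intro χ hχ h0
    have hreal := (hν χ).2.2 h0
    have hreal' := real_twistBy hG φ hφ2 χ ((hFmem χ).mp hχ) hreal
    have := fsInd_ne_zero_of_real (twistBy φ χ) hreal'
    rw [← (hν (twistBy φ χ)).2.1] at this
    exact_mod_cast this
  -- parity
  have hTeven : ((T : ℤ) : ZMod 2) = 0 := by
    rw [hT, ← Finset.sum_filter, Int.cast_sum]
    apply Finset.sum_involution (fun χ _ => twistBy φ χ)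
    · intro χ hχ
      rw [Finset.mem_filter] at hχ
      apply zmod_two_aux _ _ (hν χ).1 (hν _).1
      constructor
      · exact hσν χ hχ.2.1
      · intro h
        have := hσν _ (hσF χ hχ.2.1) h
        rwa [hσσ χ hχ.2.1] at this
    · intro χ hχ _ heq
      rw [Finset.mem_filter] at hχ
      have h1 := congrArg (fun ψ : IrrCharacter G => (ψ : G → ℂ) b) heq
      simp only [twistBy_apply] at h1
      have hnz := nonvanish_on_frattini hG χ ((hFmem χ).mp hχ.2.1)
        (by rw [(hdeg χ).2.1, hχ.2.2]; norm_num) hidx b hbΦ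
      apply hb
      apply Units.ext
      apply mul_left_cancel₀ hnz
      rw [h1, Units.val_one, mul_one]
    · intro χ hχ
      rw [Finset.mem_filter] at hχ ⊢
      exact ⟨Finset.mem_univ _, hσF χ hχ.2.1, by rw [hσdeg]; exact hχ.2.2⟩
    · intro χ hχ
      rw [Finset.mem_filter] at hχ
      exact hσσ χ hχ.2.1
  have h2T : (2 : ℤ) ∣ T := (ZMod.intCast_zmod_eq_zero_iff_dvd T 2).mp hTeven
  omega

end Cfsg.Agent.S4477
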