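import Cfsg.Statements.S4478
import Cfsg.Agent.Lib.Helper82.FullPartVanish
import Cfsg.Agent.Lib.Helper79.FrobSchurCount

set_option autoImplicit false
set_option linter.style.haveILetI false
set_option linter.unusedSectionVars false
open Cfsg

namespace Cfsg.Agent.S4478


open Cfsg.Agent.Lib.Helper82 in
/-- Under the hypotheses, `χ (g * g) = 0` for `g` of even order other than `2`. -/
theorem char_sq_eq_zero {G : Type*} [Group G] [Fintype G] (χ : Cfsg.IrrCharacter G)
    (h2 : 2 ^ (Nat.card G).factorization 2 ∣ Cfsg.charDegree (χ : G → ℂ))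
    (hp : ∀ p : ℕ, p.Prime → p ≠ 2 → (∃ g : G, orderOf g = 2 * p) →
      p ^ (Nat.card G).factorization p ∣ Cfsg.charDegree (χ : G → ℂ))
    (g : G) (hne : orderOf g ≠ 2) (hev : Even (orderOf g)) : (χ : G → ℂ) (g * g) = 0 := by
  obtain ⟨m, hm⟩ := hev
  have hm' : orderOf g = 2 * m := by rw [hm]; ring
  have hpos : 0 < orderOf g := orderOf_pos g
  have hm2 : 2 ≤ m := by
    rcases Nat.lt_or_ge m 2 with h | h
    · interval_cases m
      · omega
      · omega
    · exact h
  have hord : orderOf (g * g) = m := by
    rw [← pow_two, orderOf_pow' g two_ne_zero, hm']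
    have : Nat.gcd (2 * m) 2 = 2 := Nat.gcd_eq_right (dvd_mul_right 2 m)
    rw [this, Nat.mul_div_cancel_left _ (by norm_num)]
  rcases Nat.even_or_odd m with hme | hmo
  · exact eq_zero_of_full_part χ Nat.prime_two h2 _ (by rw [hord]; exact even_iff_two_dvd.1 hme)
  · obtain ⟨p, hpp, hpm⟩ := Nat.exists_prime_and_dvd (show m ≠ 1 by omega)
    have hp2 : p ≠ 2 := by
      intro h
      rw [h] at hpm
      exact (Nat.not_even_iff_odd.2 hmo) (even_iff_two_dvd.2 hpm)
    obtain ⟨k, hk⟩ := hpm
    have hk0 : k ≠ 0 := by
      intro h0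
      rw [h0, mul_zero] at hk
      omega
    have hel : orderOf (g ^ k) = 2 * p := by
      rw [orderOf_pow_of_dvd hk0 ⟨2 * p, by rw [hm', hk]; ring⟩, hm', hk]
      rw [show 2 * (p * k) = 2 * p * k by ring, Nat.mul_div_cancel _ (Nat.pos_of_ne_zero hk0)]
    exact eq_zero_of_full_part χ hpp (hp p hpp hp2 ⟨g ^ k, hel⟩) _
      (by rw [hord, hk]; exact dvd_mul_right p k)

open Cfsg.Agent.Lib.Helper82 Cfsg.Agent.Lib.Helper83 in
/-- The sum of `χ (g * g)` is the number of involutions times the degree. -/
theorem sum_char_sq {G : Type*} [Group G] [Fintype G] (heven : Even (Nat.card G))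
    (χ : Cfsg.IrrCharacter G)
    (h2 : 2 ^ (Nat.card G).factorization 2 ∣ Cfsg.charDegree (χ : G → ℂ))
    (hp : ∀ p : ℕ, p.Prime → p ≠ 2 → (∃ g : G, orderOf g = 2 * p) →
      p ^ (Nat.card G).factorization p ∣ Cfsg.charDegree (χ : G → ℂ)) [DecidableEq G] :
    ∑ g : G, (χ : G → ℂ) (g * g) =
      ((Finset.univ.filter fun g : G => orderOf g = 2).card : ℂ) * (χ : G → ℂ) 1 := by
  classical
  have hχc := IsIrrCharacter.isCharacter χ.2
  have hV2 : ∀ y : G, 2 ∣ orderOf y → (χ : G → ℂ) y = 0 :=
    fun y hy => eq_zero_of_full_part χ Nat.prime_two h2 y hy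
  -- `χ` is not the trivial character
  have hχτ : χ ≠ trivChar G := by
    intro h
    have h1 : Cfsg.charDegree ((trivChar G : Cfsg.IrrCharacter G) : G → ℂ) = 1 := by
      have := IsCharacter.charDegree_cast (IsIrrCharacter.isCharacter (trivChar G).2)
      rw [trivChar_apply] at this
      exact_mod_cast this
    rw [h, h1, Nat.dvd_one] at h2
    have h3 : (Nat.card G).factorization 2 = 0 := by
      by_contra hne
      have := Nat.one_lt_pow hne (show 1 < 2 by norm_num)
      omega
    have h4 : 2 ∣ Nat.card G := even_iff_two_dvd.1 heven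
    have h5 := Nat.Prime.factorization_pos_of_dvd Nat.prime_two Nat.card_pos.ne' h4
    omega
  have hsum0 : ∑ g : G, (χ : G → ℂ) g = 0 := by
    have := sum_irr_mul_conj χ (trivChar G)
    rw [if_neg hχτ] at this
    simpa [trivChar_apply] using this
  -- pointwise decomposition
  have hpt : ∀ g : G, (χ : G → ℂ) (g * g) =
      (if orderOf g = 2 then (χ : G → ℂ) 1 else 0) +
      (if Odd (orderOf g) then (χ : G → ℂ) (g * g) else 0) := by
    intro g
    by_cases h1 : orderOf g = 2
    · rw [if_pos h1, if_neg (by rw [h1]; decide), add_zero]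
      have : g * g = 1 := by rw [← pow_two, ← h1, pow_orderOf_eq_one]
      rw [this]
    · rw [if_neg h1, zero_add]
      by_cases h3 : Odd (orderOf g)
      · rw [if_pos h3]
      · rw [if_neg h3]
        exact char_sq_eq_zero χ h2 hp g h1 (Nat.not_odd_iff_even.1 h3)
  rw [Finset.sum_congr rfl fun g _ => hpt g, Finset.sum_add_distrib, sum_odd_order_sq]
  have hodd : ∑ g : G, (if Odd (orderOf g) then (χ : G → ℂ) g else 0) = 0 := by
    have hodd' : ∑ g : G, (if Odd (orderOf g) then (χ : G → ℂ) g else 0) =
        ∑ g : G, (χ : G → ℂ) g := by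
      refine Finset.sum_congr rfl fun g _ => ?_
      split_ifs with h3
      · rfl
      · exact (hV2 g (even_iff_two_dvd.1 (Nat.not_odd_iff_even.1 h3))).symm
    rw [hodd', hsum0]
  rw [hodd, add_zero, ← Finset.sum_filter, Finset.sum_const, nsmul_eq_mul]

/-- Let G be a finite group of even order and χ an irreducible character of G whose degree x is divisible by the full power of 2 dividing the order of G and, for every odd prime p such that G has an element of order 2p, by the full power of p dividing the order of G. Then all involutions of G are conjugate, the centralizer of every involution has order exactly x with x coprime to its index, and the Frobenius–Schur indicator of χ equals 1. -/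
theorem result {G : Type*} [Group G] [Fintype G] (heven : Even (Nat.card G)) (χ : Cfsg.IrrCharacter G) (h2 : 2 ^ (Nat.card G).factorization 2 ∣ Cfsg.charDegree (χ : G → ℂ)) (hp : ∀ p : ℕ, p.Prime → p ≠ 2 → (∃ g : G, orderOf g = 2 * p) → p ^ (Nat.card G).factorization p ∣ Cfsg.charDegree (χ : G → ℂ)) : (∀ s t : G, orderOf s = 2 → orderOf t = 2 → IsConj s t) ∧ (∀ s : G, orderOf s = 2 → Nat.card (Subgroup.centralizer ({s} : Set G)) = Cfsg.charDegree (χ : G → ℂ) ∧ (Nat.card (Subgroup.centralizer ({s} : Set G))).Coprime (Subgroup.centralizer ({s} : Set G)).index) ∧ (Nat.card G : ℂ)⁻¹ * ∑ g : G, (χ : G → ℂ) (g * g) = 1 := by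
  classical
  open Cfsg.Agent.Lib.Helper82 Cfsg.Agent.Lib.Helper83 Cfsg.Agent.Lib.Helper79 in
  have hχc := IsIrrCharacter.isCharacter χ.2
  have hxpos : 0 < Cfsg.charDegree (χ : G → ℂ) := IsIrrCharacter.charDegree_pos χ.2
  have hxcast : (Cfsg.charDegree (χ : G → ℂ) : ℂ) = (χ : G → ℂ) 1 :=
    IsCharacter.charDegree_cast hχc
  have hnpos : 0 < Nat.card G := Nat.card_pos
  have h2n : 2 ∣ Nat.card G := even_iff_two_dvd.1 heven
  have hsum := sum_char_sq heven χ h2 hp
  -- there is an involution
  obtain ⟨s₀, hs₀⟩ := exists_prime_orderOf_dvd_card' (G := G) 2 h2n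
  have htpos : 0 < (Finset.univ.filter fun g : G => orderOf g = 2).card :=
    Finset.card_pos.2 ⟨s₀, Finset.mem_filter.2 ⟨Finset.mem_univ _, hs₀⟩⟩
  -- the Frobenius–Schur indicator
  have hfs : Cfsg.Agent.Lib.Helper79.fsInd (χ : G → ℂ) = (Nat.card G : ℂ)⁻¹ *
      (((Finset.univ.filter fun g : G => orderOf g = 2).card : ℂ) *
        (Cfsg.charDegree (χ : G → ℂ) : ℂ)) := by
    unfold Cfsg.Agent.Lib.Helper79.fsInd
    rw [hsum, hxcast]
  have hnC : (Nat.card G : ℂ) ≠ 0 := Nat.cast_ne_zero.2 hnpos.ne'
  have htx : (Finset.univ.filter fun g : G => orderOf g = 2).card *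
      Cfsg.charDegree (χ : G → ℂ) = Nat.card G := by
    rcases (Cfsg.Agent.Lib.Helper79.fsInd_irr_cases χ).1 with h | h | h
    · exfalso
      rw [hfs] at h
      have h' := (mul_eq_zero.1 h).resolve_left (inv_ne_zero hnC)
      have : ((Finset.univ.filter fun g : G => orderOf g = 2).card *
          Cfsg.charDegree (χ : G → ℂ) : ℕ) = 0 := by exact_mod_cast h'
      exact (Nat.mul_pos htpos hxpos).ne' this
    · rw [hfs] at h
      have h' : ((Finset.univ.filter fun g : G => orderOf g = 2).card : ℂ) *
          (Cfsg.charDegree (χ : G → ℂ) : ℂ) = (Nat.card G : ℂ) := by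
        field_simp at h
        exact h
      exact_mod_cast h'
    · exfalso
      rw [hfs] at h
      have h' : ((Finset.univ.filter fun g : G => orderOf g = 2).card : ℂ) *
          (Cfsg.charDegree (χ : G → ℂ) : ℂ) = -(Nat.card G : ℂ) := by
        field_simp at h
        exact h
      have h'' : (((Finset.univ.filter fun g : G => orderOf g = 2).card *
          Cfsg.charDegree (χ : G → ℂ) + Nat.card G : ℕ) : ℂ) = 0 := by
        push_cast
        rw [h']
        ring
      have : (Finset.univ.filter fun g : G => orderOf g = 2).card *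
          Cfsg.charDegree (χ : G → ℂ) + Nat.card G = 0 := by exact_mod_cast h''
      omega
  -- full `r`-part of the degree for the primes dividing an involution centralizer
  have hfull : ∀ s : G, orderOf s = 2 → ∀ r : ℕ, r.Prime →
      r ∣ Nat.card (Subgroup.centralizer ({s} : Set G)) →
      (Nat.card G).factorization r ≤ (Cfsg.charDegree (χ : G → ℂ)).factorization r := by
    intro s hs r hr hrc
    by_cases hr2 : r = 2
    · subst hr2
      exact (Nat.prime_two.pow_dvd_iff_le_factorization hxpos.ne').1 h2
    · haveI : Fact r.Prime := ⟨hr⟩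
      obtain ⟨z, hz⟩ := exists_prime_orderOf_dvd_card' (G := Subgroup.centralizer ({s} : Set G)) r hrc
      have hz' : orderOf (z : G) = r := by rw [Subgroup.orderOf_coe, hz]
      have hcomm : Commute s (z : G) := by
        have := z.2
        rw [Subgroup.mem_centralizer_iff] at this
        exact (this s rfl)
      have hcop : Nat.Coprime (orderOf s) (orderOf (z : G)) := by
        rw [hs, hz']
        exact (Nat.coprime_primes Nat.prime_two hr).2 (Ne.symm hr2)
      have hord : orderOf (s * (z : G)) = 2 * r := by
        rw [hcomm.orderOf_mul_eq_mul_orderOf_of_coprime hcop, hs, hz']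
      exact (hr.pow_dvd_iff_le_factorization hxpos.ne').1 (hp r hr hr2 ⟨_, hord⟩)
  have hcdvd : ∀ s : G, orderOf s = 2 →
      Nat.card (Subgroup.centralizer ({s} : Set G)) ∣ Cfsg.charDegree (χ : G → ℂ) := by
    intro s hs
    have hcpos : Nat.card (Subgroup.centralizer ({s} : Set G)) ≠ 0 := Nat.card_pos.ne'
    rw [← Nat.factorization_prime_le_iff_dvd hcpos hxpos.ne']
    intro r hr
    by_cases hrc : r ∣ Nat.card (Subgroup.centralizer ({s} : Set G))
    · have h1 : (Nat.card (Subgroup.centralizer ({s} : Set G))).factorization r ≤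
          (Nat.card G).factorization r :=
        (Nat.factorization_le_iff_dvd hcpos hnpos.ne').2
          (Subgroup.card_subgroup_dvd_card _) r
      exact h1.trans (hfull s hs r hr hrc)
    · rw [Nat.factorization_eq_zero_of_not_dvd hrc]
      exact Nat.zero_le _
  -- class of an involution
  have hclass : ∀ s : G, orderOf s = 2 →
      Nat.card (Subgroup.centralizer ({s} : Set G)) = Cfsg.charDegree (χ : G → ℂ) ∧
      (Finset.univ.filter fun g : G => IsConj s g) =
        (Finset.univ.filter fun g : G => orderOf g = 2) := by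
    intro s hs
    have hsub : (Finset.univ.filter fun g : G => IsConj s g) ⊆
        (Finset.univ.filter fun g : G => orderOf g = 2) := by
      intro g hg
      rw [Finset.mem_filter] at hg ⊢
      obtain ⟨c, hc⟩ := isConj_iff.1 hg.2
      refine ⟨Finset.mem_univ _, ?_⟩
      rw [← hc, ← hs]
      have := (MulAut.conj c).orderOf_eq s
      rwa [MulAut.conj_apply] at this
    have hidx : (Finset.univ.filter fun g : G => IsConj s g).card =
        (Subgroup.centralizer ({s} : Set G)).index := by
      rw [Cfsg.Agent.Lib.Helper82.index_centralizer_eq_card_conj, Nat.card_eq_fintype_card,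
        Fintype.card_subtype]
    have hmul := Subgroup.card_mul_index (Subgroup.centralizer ({s} : Set G))
    have hle := Finset.card_le_card hsub
    rw [hidx] at hle
    obtain ⟨k, hk⟩ := hcdvd s hs
    have hcpos : 0 < Nat.card (Subgroup.centralizer ({s} : Set G)) := Nat.card_pos
    have hipos : 0 < (Subgroup.centralizer ({s} : Set G)).index := by
      rcases Nat.eq_zero_or_pos (Subgroup.centralizer ({s} : Set G)).index with h0 | h0
      · rw [h0, mul_zero] at hmul; omega
      · exact h0
    have hkpos : 0 < k := by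
      rcases Nat.eq_zero_or_pos k with h0 | h0
      · rw [h0, mul_zero] at hk; omega
      · exact h0
    -- c * idx = n = t * x = t * c * k, so idx = t * k ≥ t ≥ idx forces k = 1
    have h4 : (Subgroup.centralizer ({s} : Set G)).index =
        (Finset.univ.filter fun g : G => orderOf g = 2).card * k := by
      have : Nat.card (Subgroup.centralizer ({s} : Set G)) *
          (Subgroup.centralizer ({s} : Set G)).index =
          Nat.card (Subgroup.centralizer ({s} : Set G)) *
          ((Finset.univ.filter fun g : G => orderOf g = 2).card * k) := by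
        rw [hmul, ← htx, hk]; ring
      exact Nat.eq_of_mul_eq_mul_left hcpos this
    have hk1 : k = 1 := by
      by_contra hne
      have hk2 : 2 ≤ k := by omega
      have : (Finset.univ.filter fun g : G => orderOf g = 2).card * 2 ≤
          (Finset.univ.filter fun g : G => orderOf g = 2).card * k :=
        Nat.mul_le_mul_left _ hk2
      omega
    refine ⟨by rw [hk, hk1, mul_one], ?_⟩
    apply Finset.eq_of_subset_of_card_le hsub
    rw [hidx, h4, hk1, mul_one]
  refine ⟨?_, ?_, ?_⟩
  · intro s t hs ht
    have h1 := (hclass s hs).2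
    have h2 : t ∈ (Finset.univ.filter fun g : G => IsConj s g) := by
      rw [h1]
      exact Finset.mem_filter.2 ⟨Finset.mem_univ _, ht⟩
    exact (Finset.mem_filter.1 h2).2
  · intro s hs
    refine ⟨(hclass s hs).1, ?_⟩
    apply Nat.Coprime.symm
    apply Nat.coprime_of_dvd
    intro r hr hri hrc
    have hmul := Subgroup.card_mul_index (Subgroup.centralizer ({s} : Set G))
    have h1 := hfull s hs r hr hrc
    rw [← (hclass s hs).1] at h1
    have hcpos : Nat.card (Subgroup.centralizer ({s} : Set G)) ≠ 0 := Nat.card_pos.ne'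
    have hipos : (Subgroup.centralizer ({s} : Set G)).index ≠ 0 := by
      intro h0
      rw [h0, mul_zero] at hmul
      omega
    rw [← hmul, Nat.factorization_mul hcpos hipos, Finsupp.add_apply] at h1
    have := hr.factorization_pos_of_dvd hipos hri
    omega
  · rw [hsum, ← hxcast]
    have h' : ((Finset.univ.filter fun g : G => orderOf g = 2).card : ℂ) *
        (Cfsg.charDegree (χ : G → ℂ) : ℂ) = (Nat.card G : ℂ) := by exact_mod_cast htx
    rw [h', inv_mul_cancel₀ hnC]

end Cfsg.Agent.S4478
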