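import Cfsg.Statements.S4480
import Cfsg.Agent.S4479
import Cfsg.Agent.Lib.Helper79.KleinFourReal
import Cfsg.Agent.Lib.Helper22.KleinFourBlock
import Cfsg.Agent.Lib.Helper04.Basis
import Cfsg.Agent.Lib.Helper83.Linear

set_option autoImplicit false
open Cfsg

namespace Cfsg.Agent.S4480

/-- Same setting as the Klein-four order formula: G of order 4·g₀ (g₀ odd) with no normal 2-complement, P a Sylow 2-subgroup, J an involution of P, M over 2, principal 2-block {1, χ₁, χ₂, χ₃} with χ_i(J) = ε_i = ±1. Suppose ε₁ε₂ε₃ = −1 and ε₃ = −1, and put q = x₃ = χ₃(1). Then there is a natural number m with 4·c(J) = m·c(P)·(q + 1), and the order of G equals (m³·c(P)/4)·(q³ − q)/2, that is 8·#G = m³·c(P)·(q³ − q). -/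
theorem result {G : Type*} [Group G] [Finite G] (M : Ideal Cfsg.AlgInt) (hM : Cfsg.IsPModular 2 M) (g₀ : ℕ) (hg₀ : Odd g₀) (hG : Nat.card G = 4 * g₀) (hnc : ¬ ∃ N : Subgroup G, N.Normal ∧ Nat.card N = g₀) (P : Sylow 2 G) (J : G) (hJ : J ∈ (P : Subgroup G)) (hJ2 : orderOf J = 2) (χ₁ χ₂ χ₃ : Cfsg.IrrCharacter G) (ε₁ ε₂ ε₃ : ℤ) (hB : Cfsg.principalBlock M G = {χ : Cfsg.IrrCharacter G | (χ : G → ℂ) = (fun _ => 1) ∨ χ = χ₁ ∨ χ = χ₂ ∨ χ = χ₃}) (hdist : (χ₁ : G → ℂ) ≠ (fun _ => 1) ∧ (χ₂ : G → ℂ) ≠ (fun _ => 1) ∧ (χ₃ : G → ℂ) ≠ (fun _ => 1) ∧ χ₁ ≠ χ₂ ∧ χ₁ ≠ χ₃ ∧ χ₂ ≠ χ₃) (hε : (ε₁ = 1 ∨ ε₁ = -1) ∧ (ε₂ = 1 ∨ ε₂ = -1) ∧ (ε₃ = 1 ∨ ε₃ = -1)) (hval : (χ₁ : G → ℂ) J = ε₁ ∧ (χ₂ : G → ℂ) J = ε₂ ∧ (χ₃ : G → ℂ) J = ε₃) (hprod : ε₁ * ε₂ * ε₃ = -1) (hε₃ : ε₃ = -1) : ∃ m : ℕ, 4 * Nat.card (Subgroup.centralizer ({J} : Set G)) = m * Nat.card (Subgroup.centralizer ((P : Subgroup G) : Set G)) *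 (Cfsg.charDegree (χ₃ : G → ℂ) + 1) ∧ 8 * Nat.card G = m ^ 3 * Nat.card (Subgroup.centralizer ((P : Subgroup G) : Set G)) * (Cfsg.charDegree (χ₃ : G → ℂ) ^ 3 - Cfsg.charDegree (χ₃ : G → ℂ)) := by
  classical
  haveI : Fintype G := Fintype.ofFinite G
  haveI : Fact (Nat.Prime 2) := ⟨Nat.prime_two⟩
  have hS := Cfsg.Agent.S4479.result M hM g₀ hg₀ hG hnc P J hJ hJ2 χ₁ χ₂ χ₃ ε₁ ε₂ ε₃ hB hdist hε hval
  obtain ⟨hε₁, hε₂, -⟩ := hε
  obtain ⟨hv1, hv2, hv3⟩ := hval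
  obtain ⟨hP, hone⟩ := Cfsg.Agent.Lib.Helper79.kleinFour_of_no_complement g₀ hg₀ hG hnc P
  -- characters are constant on involutions
  have hinv : ∀ (χ : Cfsg.IrrCharacter G) (t : G), t ∈ (P : Subgroup G) → t ≠ 1 →
      (χ : G → ℂ) t = (χ : G → ℂ) J := by
    intro χ t ht ht1
    have htt : t * t = 1 := by
      have := IsKleinFour.mul_self (⟨t, ht⟩ : (P : Subgroup G))
      exact congrArg Subtype.val this
    have hto : orderOf t = 2 := orderOf_eq_prime (by rw [pow_two]; exact htt) ht1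
    obtain ⟨c, hc⟩ := isConj_iff.1 (hone J t hJ2 hto)
    rw [← hc]
    exact Cfsg.Agent.Lib.Helper04.isClassFunction_of_isIrrCharacter χ.2 J c
  -- degree congruences
  have hc1 : (4 : ℤ) ∣ (Cfsg.charDegree (χ₁ : G → ℂ) : ℤ) - ε₁ :=
    Cfsg.Agent.Lib.Helper22.kleinFour_degree_congr P hP
      (Cfsg.Agent.Lib.Helper83.IrrCharacter_isCharacter χ₁) ε₁
      (fun t ht ht1 => by rw [hinv χ₁ t ht ht1, hv1])
  have hc2 : (4 : ℤ) ∣ (Cfsg.charDegree (χ₂ : G → ℂ) : ℤ) - ε₂ :=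
    Cfsg.Agent.Lib.Helper22.kleinFour_degree_congr P hP
      (Cfsg.Agent.Lib.Helper83.IrrCharacter_isCharacter χ₂) ε₂
      (fun t ht ht1 => by rw [hinv χ₂ t ht ht1, hv2])
  have hc3 : (4 : ℤ) ∣ (Cfsg.charDegree (χ₃ : G → ℂ) : ℤ) - ε₃ :=
    Cfsg.Agent.Lib.Helper22.kleinFour_degree_congr P hP
      (Cfsg.Agent.Lib.Helper83.IrrCharacter_isCharacter χ₃) ε₃
      (fun t ht ht1 => by rw [hinv χ₃ t ht ht1, hv3])
  set x₁ := Cfsg.charDegree (χ₁ : G → ℂ) with hx₁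
  set x₂ := Cfsg.charDegree (χ₂ : G → ℂ) with hx₂
  set q := Cfsg.charDegree (χ₃ : G → ℂ) with hq
  have hx₁pos : 0 < x₁ := Cfsg.Agent.Lib.Helper83.irr_charDegree_pos χ₁
  have hx₂pos : 0 < x₂ := Cfsg.Agent.Lib.Helper83.irr_charDegree_pos χ₂
  have hqpos : 0 < q := Cfsg.Agent.Lib.Helper83.irr_charDegree_pos χ₃
  have hd1 : (χ₁ : G → ℂ) 1 = (x₁ : ℂ) :=
    (Cfsg.Agent.Lib.Helper83.charDegree_cast
      (Cfsg.Agent.Lib.Helper83.IrrCharacter_isCharacter χ₁)).symm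
  have hd2 : (χ₂ : G → ℂ) 1 = (x₂ : ℂ) :=
    (Cfsg.Agent.Lib.Helper83.charDegree_cast
      (Cfsg.Agent.Lib.Helper83.IrrCharacter_isCharacter χ₂)).symm
  have hd3 : (χ₃ : G → ℂ) 1 = (q : ℂ) :=
    (Cfsg.Agent.Lib.Helper83.charDegree_cast
      (Cfsg.Agent.Lib.Helper83.IrrCharacter_isCharacter χ₃)).symm
  -- the degree relation
  have hrel := Cfsg.Agent.Lib.Helper79.degree_relation_four M hM J hJ2 χ₁ χ₂ χ₃ hB hdist
  rw [hd1, hd2, hd3, hv1, hv2, hv3] at hrel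
  have hrelZ : (1 : ℤ) + x₁ * ε₁ + x₂ * ε₂ + q * ε₃ = 0 := by
    have : (((1 : ℤ) + x₁ * ε₁ + x₂ * ε₂ + q * ε₃ : ℤ) : ℂ) = 0 := by
      push_cast
      exact hrel
    exact_mod_cast this
  -- the signs
  have hε12 : ε₁ = 1 ∧ ε₂ = 1 := by
    rw [hε₃] at hprod hrelZ
    rcases hε₁ with h1 | h1 <;> rcases hε₂ with h2 | h2 <;> rw [h1, h2] at hprod hrelZ
    · exact ⟨h1, h2⟩
    · norm_num at hprod
    · norm_num at hprod
    · exfalso
      have : (0 : ℤ) < x₁ := by exact_mod_cast hx₁pos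
      have : (0 : ℤ) < x₂ := by exact_mod_cast hx₂pos
      have : (0 : ℤ) < q := by exact_mod_cast hqpos
      linarith
  obtain ⟨he1, he2⟩ := hε12
  rw [he1] at hc1 hv1
  rw [he2] at hc2 hv2
  rw [hε₃] at hc3 hv3
  rw [he1, he2, hε₃] at hrelZ
  have hqrel : q = x₁ + x₂ + 1 := by
    have : (q : ℤ) = x₁ + x₂ + 1 := by linarith
    exact_mod_cast this
  -- degrees are odd
  have hodd1 : Odd x₁ := by
    obtain ⟨c, hc⟩ := hc1
    have : (x₁ : ℤ) = 2 * (2 * c) + 1 := by linarith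
    have h : Odd (x₁ : ℤ) := ⟨2 * c, this⟩
    exact_mod_cast h
  have hodd2 : Odd x₂ := by
    obtain ⟨c, hc⟩ := hc2
    have : (x₂ : ℤ) = 2 * (2 * c) + 1 := by linarith
    have h : Odd (x₂ : ℤ) := ⟨2 * c, this⟩
    exact_mod_cast h
  have hodd3 : Odd q := by
    obtain ⟨c, hc⟩ := hc3
    have : (q : ℤ) = 2 * (2 * c - 1) + 1 := by linarith
    have h : Odd (q : ℤ) := ⟨2 * c - 1, this⟩
    exact_mod_cast h
  -- the indicators
  have hind : ∀ χ : Cfsg.IrrCharacter G, Odd (Cfsg.charDegree (χ : G → ℂ)) →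
      ∃ ν : ℤ, (ν = 0 ∨ ν = 1) ∧ (ν : ℂ) = Cfsg.Agent.Lib.Helper79.fsInd (χ : G → ℂ) := by
    intro χ hodd
    obtain ⟨ν, hν, hνc, hreal⟩ := Cfsg.Agent.Lib.Helper79.exists_int_fsInd χ
    rcases hν with h | h | h
    · exact ⟨ν, Or.inl h, hνc⟩
    · exact ⟨ν, Or.inr h, hνc⟩
    · exfalso
      have hr := hreal (by rw [h]; norm_num)
      have := Cfsg.Agent.Lib.Helper79.fsInd_eq_one_of_real_of_odd χ hr hodd
      rw [this, h] at hνc
      norm_num at hνc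
  obtain ⟨ν₁, hν₁, hν₁c⟩ := hind χ₁ hodd1
  obtain ⟨ν₂, hν₂, hν₂c⟩ := hind χ₂ hodd2
  obtain ⟨ν₃, hν₃, hν₃c⟩ := hind χ₃ hodd3
  have hfs := Cfsg.Agent.Lib.Helper79.sum_fsInd_principal_four M hM P hP J hJ2 χ₁ χ₂ χ₃ hB hdist
  rw [← hν₁c, ← hν₂c, ← hν₃c, hv1, hv2, hv3] at hfs
  have hfsZ : (1 : ℤ) + ν₁ * 1 + ν₂ * 1 + ν₃ * (-1) = 0 := by
    have : (((1 : ℤ) + ν₁ * 1 + ν₂ * 1 + ν₃ * (-1) : ℤ) : ℂ) = 0 := by
      push_cast at hfs ⊢
      exact hfs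
    exact_mod_cast this
  have hν₁0 : ν₁ = 0 := by
    rcases hν₁ with h | h <;> rcases hν₂ with h' | h' <;> rcases hν₃ with h'' | h'' <;>
      rw [h, h', h''] at hfsZ <;> first | exact h | (norm_num at hfsZ)
  -- χ₁ is not real, hence its conjugate is χ₂
  have hx12 : x₁ = x₂ := by
    have hmem : χ₁ ∈ Cfsg.principalBlock M G := by
      rw [hB]; right; left; rfl
    have hc := Cfsg.Agent.Lib.Helper79.conjIrr_mem_principalBlock M χ₁ hmem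
    rw [hB] at hc
    have hdeg : Cfsg.charDegree (Cfsg.Agent.Lib.Helper79.conjIrr χ₁ : G → ℂ) = x₁ := by
      simp [Cfsg.charDegree, Cfsg.Agent.Lib.Helper79.conjIrr_apply, hx₁]
    rcases hc with h | h | h | h
    · exfalso
      apply hdist.1
      funext g
      have := congrFun h g
      rw [Cfsg.Agent.Lib.Helper79.conjIrr_apply] at this
      have h2 := congrArg (starRingEnd ℂ) this
      rw [Complex.conj_conj] at h2
      rw [h2]; simp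
    · exfalso
      have hreal : ∀ g : G, ((χ₁ : G → ℂ) g).im = 0 := by
        intro g
        have := congrArg (fun ψ : Cfsg.IrrCharacter G => (ψ : G → ℂ) g) h
        simp only [Cfsg.Agent.Lib.Helper79.conjIrr_apply] at this
        exact Complex.conj_eq_iff_im.1 this
      have := Cfsg.Agent.Lib.Helper79.fsInd_eq_one_of_real_of_odd χ₁ hreal hodd1
      rw [this, hν₁0] at hν₁c
      norm_num at hν₁c
    · rw [← hdeg, h]
    · exfalso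
      have := congrArg (fun ψ : Cfsg.IrrCharacter G => (ψ : G → ℂ) J) h
      simp only [Cfsg.Agent.Lib.Helper79.conjIrr_apply] at this
      rw [hv1, hv3] at this
      norm_num at this
  -- arithmetic
  have hq2 : q = 2 * x₁ + 1 := by omega
  have h4 : 4 ∣ q + 1 := by
    obtain ⟨c, hc⟩ := hc3
    have : ((q + 1 : ℕ) : ℤ) = 4 * c := by push_cast; linarith
    have h' : (4 : ℤ) ∣ ((q + 1 : ℕ) : ℤ) := ⟨c, this⟩
    exact_mod_cast h'
  set a := Nat.card (Subgroup.centralizer ({J} : Set G)) with ha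
  set b := Nat.card (Subgroup.centralizer ((P : Subgroup G) : Set G)) with hb
  have hba : b ∣ a := by
    apply Subgroup.card_dvd_of_le
    apply Subgroup.centralizer_le
    intro y hy
    rw [Set.mem_singleton_iff] at hy
    rw [hy]; exact hJ
  have han : a ∣ Nat.card G := Subgroup.card_subgroup_dvd_card _
  have hnpos : 0 < Nat.card G := Nat.card_pos
  have hapos : 0 < a := Nat.card_pos
  have hbpos : 0 < b := Nat.card_pos
  have hE : Nat.card G * ((x₁ + 1) ^ 2 * b ^ 2) = 4 * x₁ * q * a ^ 3 := by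
    rw [← hx12, he1, he2, hε₃] at hS
    have hxQ : (x₁ : ℚ) ≠ 0 := by exact_mod_cast hx₁pos.ne'
    have hbQ : (b : ℚ) ≠ 0 := by exact_mod_cast hbpos.ne'
    have hx1Q : (x₁ : ℚ) + 1 ≠ 0 := by positivity
    have hqQ : (q : ℚ) = 2 * x₁ + 1 := by exact_mod_cast hq2
    have hden : (q : ℚ) + ((-1 : ℤ) : ℚ) = 2 * x₁ := by rw [hqQ]; push_cast; ring
    have hone' : (x₁ : ℚ) + ((1 : ℤ) : ℚ) = x₁ + 1 := by push_cast; ring
    rw [hden, hone'] at hS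
    have : (Nat.card G : ℚ) * (((x₁ : ℚ) + 1) ^ 2 * (b : ℚ) ^ 2) = 4 * x₁ * q * (a : ℚ) ^ 3 := by
      rw [hS]
      field_simp
      ring
    exact_mod_cast this
  exact Cfsg.Agent.Lib.Helper79.order_formula_arith (Nat.card G) a b x₁ q hba han hnpos hq2 h4 hE

end Cfsg.Agent.S4480
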