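import Cfsg.Statements.S4483
import Cfsg.Agent.Lib.Helper79.RealOdd
import Cfsg.Agent.Lib.Helper79.RealOdd2
import Cfsg.Agent.Lib.Helper82.BlockRank
import Cfsg.Agent.Lib.Helper83.Decompose

set_option autoImplicit false
open Cfsg

namespace Cfsg.Agent.S4483

/-- Let G be a finite group of order 2^n·g₀ with g₀ odd, and M a maximal ideal of the algebraic integers containing 2. Every real-valued irreducible character of G of odd degree lies in the principal 2-block; consequently G has at most 2^(2n) real-valued irreducible characters of odd degree. -/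
theorem result {G : Type*} [Group G] [Finite G] (M : Ideal Cfsg.AlgInt) (hM : Cfsg.IsPModular 2 M) : (∀ χ : Cfsg.IrrCharacter G, (∀ g : G, ((χ : G → ℂ) g).im = 0) → Odd (Cfsg.charDegree (χ : G → ℂ)) → χ ∈ Cfsg.principalBlock M G) ∧ Nat.card {χ : Cfsg.IrrCharacter G // (∀ g : G, ((χ : G → ℂ) g).im = 0) ∧ Odd (Cfsg.charDegree (χ : G → ℂ))} ≤ 2 ^ (2 * (Nat.card G).factorization 2) := by
  classical
  let _ : Fintype G := Fintype.ofFinite G
  let _ : Fintype (IrrCharacter G) := Fintype.ofFinite _
  have hMp : M.IsPrime := hM.2.1.isPrime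
  have hG0 : (Nat.card G : ℂ) ≠ 0 := Nat.cast_ne_zero.2 Nat.card_pos.ne'
  -- the key sum
  have hN : ∀ χ : IrrCharacter G, (∀ g : G, ((χ : G → ℂ) g).im = 0) →
      Odd (charDegree (χ : G → ℂ)) →
      (∑ x : G, if 2 ∣ orderOf x then 0 else (χ : G → ℂ) x) ≠ 0 := by
    intro χ hreal hodd h0
    have := Cfsg.Agent.Lib.Helper79.sum_odd_not_memLocalIdeal hM
      (Cfsg.Agent.Lib.Helper82.IsIrrCharacter.isCharacter χ.2) hreal hodd
    rw [h0] at this
    exact this (Cfsg.Agent.Lib.Helper82.memLocalIdeal_zero hMp)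
  have hconj : ∀ χ : IrrCharacter G, (∀ g : G, ((χ : G → ℂ) g).im = 0) →
      ∀ x : G, (starRingEnd ℂ) ((χ : G → ℂ) x) = (χ : G → ℂ) x := by
    intro χ hreal x
    rw [Complex.conj_eq_iff_im]
    exact hreal x
  constructor
  · intro χ hreal hodd
    by_contra hnot
    set τ : IrrCharacter G := Cfsg.Agent.Lib.Helper83.trivChar G with hτ
    have hnot' : ¬ SameBlock M (τ : G → ℂ) (χ : G → ℂ) := hnot
    have h1 := Cfsg.Agent.Lib.Helper82.classInner_pRegularPart_eq_zero hM τ χ hnot'
    rw [Cfsg.Agent.Lib.Helper82.classInner_pRegularPart_left] at h1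
    have h2 : (∑ x : G, if 2 ∣ orderOf x then 0 else (τ : G → ℂ) x *
        (starRingEnd ℂ) ((χ : G → ℂ) x)) =
        ∑ x : G, if 2 ∣ orderOf x then 0 else (χ : G → ℂ) x := by
      apply Finset.sum_congr rfl
      intro x _
      split_ifs
      · rfl
      · rw [hconj χ hreal x]
        show (1 : ℂ) * _ = _
        rw [one_mul]
    rw [h2] at h1
    rcases mul_eq_zero.mp h1 with h | h
    · exact inv_ne_zero hG0 h
    · exact hN χ hreal hodd h
  · -- the counting
    set a := (Nat.card G).factorization 2 with ha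
    set f : G → ℂ := fun x => if 2 ∣ orderOf x then 0 else ((2 ^ a : ℕ) : ℂ) with hf
    have hfcf : IsClassFunction G f := by
      intro g h
      have hord : orderOf (h * g * h⁻¹) = orderOf g := by
        have := (MulAut.conj h).orderOf_eq g
        rwa [MulAut.conj_apply] at this
      simp only [hf, hord]
    -- inner products with real odd characters are nonzero integers
    have hint : ∀ χ : IrrCharacter G, (∀ g : G, ((χ : G → ℂ) g).im = 0) →
        Odd (charDegree (χ : G → ℂ)) → 1 ≤ Complex.normSq (classInner f (χ : G → ℂ)) := by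
      intro χ hreal hodd
      have hχc := Cfsg.Agent.Lib.Helper82.IsIrrCharacter.isCharacter χ.2
      have h1 : IsIntegral ℤ (classInner f (χ : G → ℂ)) :=
        Cfsg.Agent.Lib.Helper79.pRegular_sum_isIntegral 2 Nat.prime_two hχc
      have h2 : classInner f (χ : G → ℂ) = (Nat.card G : ℂ)⁻¹ * ((2 ^ a : ℕ) : ℂ) *
          ∑ x : G, if 2 ∣ orderOf x then 0 else (χ : G → ℂ) x := by
        rw [Cfsg.Agent.Lib.Helper83.classInner_def, mul_assoc]
        congr 1
        rw [Finset.mul_sum]
        apply Finset.sum_congr rfl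
        intro x _
        simp only [hf]
        split_ifs
        · simp
        · rw [hconj χ hreal x]
      obtain ⟨q, hq⟩ := Cfsg.Agent.Lib.Helper79.sum_pow_stable_rat hχc
        (fun x : G => ¬ 2 ∣ orderOf x) (by
          intro m hm x
          have hcop : (orderOf x).Coprime m :=
            Nat.Coprime.coprime_dvd_left (orderOf_dvd_natCard x) hm.symm
          rw [hcop.orderOf_pow])
      have h3 : (∑ x : G, if 2 ∣ orderOf x then 0 else (χ : G → ℂ) x) = (q : ℂ) := by
        rw [← hq]
        apply Finset.sum_congr rfl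
        intro x _
        by_cases hx : 2 ∣ orderOf x
        · rw [if_pos hx, if_neg (not_not.mpr hx)]
        · rw [if_neg hx, if_pos hx]
      have h4 : classInner f (χ : G → ℂ) = (((Nat.card G : ℚ)⁻¹ * ((2 ^ a : ℕ) : ℚ) * q : ℚ) : ℂ) := by
        rw [h2, h3]
        push_cast
        rfl
      obtain ⟨z, hz⟩ := Cfsg.Agent.Lib.Helper79.exists_int_of_rat_of_isIntegral h1 _ h4
      have hz0 : z ≠ 0 := by
        intro h0
        rw [h0, Int.cast_zero] at hz
        rw [hz] at h2
        have hne := hN χ hreal hodd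
        have h5 : (Nat.card G : ℂ)⁻¹ * ((2 ^ a : ℕ) : ℂ) ≠ 0 := by
          apply mul_ne_zero (inv_ne_zero hG0)
          exact_mod_cast (pow_pos (by norm_num : 0 < 2) a).ne'
        exact (mul_ne_zero h5 hne) h2.symm
      rw [hz, Complex.normSq_intCast]
      have h6 : (1 : ℤ) ≤ z * z := by
        have : 0 < z * z := mul_self_pos.mpr hz0
        omega
      exact_mod_cast h6
    -- Parseval
    have hpars := Cfsg.Agent.Lib.Helper79.classInner_self_eq_sum hfcf
    have hpars' : ((∑ χ : IrrCharacter G, Complex.normSq (classInner f (χ : G → ℂ)) : ℝ) : ℂ) =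
        classInner f f := by
      rw [hpars]
      push_cast
      apply Finset.sum_congr rfl
      intro χ _
      rw [Complex.mul_conj]
    have hff : classInner f f = (((Nat.card G : ℝ)⁻¹ *
        ((Finset.univ.filter (fun x : G => ¬ 2 ∣ orderOf x)).card : ℝ) *
        ((2 : ℝ) ^ a) ^ 2 : ℝ) : ℂ) := by
      rw [Cfsg.Agent.Lib.Helper83.classInner_def]
      have : ∑ x : G, f x * (starRingEnd ℂ) (f x) =
          ∑ x ∈ Finset.univ.filter (fun x : G => ¬ 2 ∣ orderOf x), (((2 : ℂ) ^ a) ^ 2) := by
        rw [Finset.sum_filter]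
        apply Finset.sum_congr rfl
        intro x _
        simp only [hf]
        by_cases hx : 2 ∣ orderOf x
        · rw [if_pos hx, if_neg (not_not.mpr hx), zero_mul]
        · rw [if_neg hx, if_pos hx, Complex.conj_natCast]
          push_cast
          ring
      rw [this, Finset.sum_const, nsmul_eq_mul]
      push_cast
      ring
    rw [hff] at hpars'
    have hpars'' : (∑ χ : IrrCharacter G, Complex.normSq (classInner f (χ : G → ℂ))) =
        (Nat.card G : ℝ)⁻¹ * ((Finset.univ.filter (fun x : G => ¬ 2 ∣ orderOf x)).card : ℝ) *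
        ((2 : ℝ) ^ a) ^ 2 := Complex.ofReal_injective hpars'
    have hle : (∑ χ : IrrCharacter G, Complex.normSq (classInner f (χ : G → ℂ))) ≤
        ((2 : ℝ) ^ a) ^ 2 := by
      rw [hpars'']
      have h1 : ((Finset.univ.filter (fun x : G => ¬ 2 ∣ orderOf x)).card : ℝ) ≤
          (Nat.card G : ℝ) := by
        rw [Nat.card_eq_fintype_card]
        exact_mod_cast Finset.card_le_univ _
      have h2 : (0 : ℝ) < (Nat.card G : ℝ) := by exact_mod_cast Nat.card_pos
      have h3 : (Nat.card G : ℝ)⁻¹ *
          ((Finset.univ.filter (fun x : G => ¬ 2 ∣ orderOf x)).card : ℝ) ≤ 1 := by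
        rw [inv_mul_le_iff₀ h2, mul_one]
        exact h1
      have h4 : (0 : ℝ) ≤ ((2 : ℝ) ^ a) ^ 2 := by positivity
      calc (Nat.card G : ℝ)⁻¹ * ((Finset.univ.filter (fun x : G => ¬ 2 ∣ orderOf x)).card : ℝ) *
          ((2 : ℝ) ^ a) ^ 2 ≤ 1 * ((2 : ℝ) ^ a) ^ 2 := mul_le_mul_of_nonneg_right h3 h4
        _ = ((2 : ℝ) ^ a) ^ 2 := one_mul _
    -- count
    rw [Nat.card_eq_fintype_card, Fintype.card_subtype]
    have hcount : ((Finset.univ.filter (fun χ : IrrCharacter G =>
        (∀ g : G, ((χ : G → ℂ) g).im = 0) ∧ Odd (charDegree (χ : G → ℂ)))).card : ℝ) ≤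
        ∑ χ : IrrCharacter G, Complex.normSq (classInner f (χ : G → ℂ)) := by
      rw [Finset.card_eq_sum_ones, Finset.sum_filter]
      push_cast
      apply Finset.sum_le_sum
      intro χ _
      split_ifs with h
      · exact hint χ h.1 h.2
      · exact Complex.normSq_nonneg _
    have hfin := le_trans hcount hle
    have hpow : ((2 : ℝ) ^ a) ^ 2 = ((2 ^ (2 * a) : ℕ) : ℝ) := by
      push_cast
      rw [← pow_mul, mul_comm]
    rw [hpow] at hfin
    exact_mod_cast hfin


end Cfsg.Agent.S4483
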