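import Cfsg.Statements.S4487
import Cfsg.Agent.Lib.Helper21.PGroupBlock
import Cfsg.Agent.Lib.Helper21.BrauerCorr
import Cfsg.Agent.S0971
import Cfsg.Agent.Lib.Helper85.CliffordAbelian
import Cfsg.Agent.Lib.Helper05.CharBasic

set_option autoImplicit false
open Cfsg

namespace Cfsg.Agent.S4487

open Cfsg.Agent.Lib.Helper21 Cfsg.Agent.Lib.Helper82 Cfsg.Agent.Lib.Helper83

/-- A group with a self-centralizing normal `p`-subgroup has a single block. -/
theorem single_block_aux {G : Type*} [Group G] [Fintype G] (p : ℕ) [Fact p.Prime]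
    (M : Ideal Cfsg.AlgInt) (hM : Cfsg.IsPModular p M) (Q : Subgroup G) [Q.Normal]
    (hQp : IsPGroup p Q) (hconstr : Subgroup.centralizer (Q : Set G) ≤ Q)
    (N' : Subgroup G) (hN' : N' = Q ⊔ Subgroup.centralizer (Q : Set G))
    (χ ψ : Cfsg.IrrCharacter G) : Cfsg.SameBlock M (χ : G → ℂ) (ψ : G → ℂ) := by
  classical
  subst hN'
  have := Fintype.ofFinite (Cfsg.IrrCharacter G)
  have hprime : M.IsPrime := hM.2.1.isPrime
  have := Fintype.ofFinite ↥(Q ⊔ Subgroup.centralizer (Q : Set G))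
  have := Fintype.ofFinite (Cfsg.IrrCharacter ↥(Q ⊔ Subgroup.centralizer (Q : Set G)))
  have hNp : IsPGroup p ↥(Q ⊔ Subgroup.centralizer (Q : Set G)) :=
    hQp.to_le (sup_le le_rfl hconstr)
  -- constituents on `N'`
  have hcons : ∀ φ : Cfsg.IrrCharacter G, ∃ θ : Cfsg.IrrCharacter
      ↥(Q ⊔ Subgroup.centralizer (Q : Set G)),
      Cfsg.classInner (fun n : ↥(Q ⊔ Subgroup.centralizer (Q : Set G)) =>
        (φ : G → ℂ) n) (θ : ↥(Q ⊔ Subgroup.centralizer (Q : Set G)) → ℂ) ≠ 0 := by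
    intro φ
    have hch := Cfsg.Agent.Lib.Helper05.isCharacter_restrict
      (Q ⊔ Subgroup.centralizer (Q : Set G))
      (IsIrrCharacter.isCharacter φ.2)
    obtain ⟨θ, hθ, hne⟩ := Cfsg.Agent.Lib.Helper85.exists_irr_constituent hch (by
      show (φ : G → ℂ) ((1 : ↥(Q ⊔ Subgroup.centralizer (Q : Set G))) : G) ≠ 0
      rw [Subgroup.coe_one]
      exact IsIrrCharacter.apply_one_ne_zero φ.2)
    exact ⟨⟨θ, hθ⟩, hne⟩
  obtain ⟨θ, hθ⟩ := hcons χ
  obtain ⟨θ', hθ'⟩ := hcons ψ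
  have hb : Cfsg.IsPBlock M (blockOf M (θ : ↥(Q ⊔ Subgroup.centralizer (Q : Set G)) → ℂ)) :=
    ⟨θ, rfl⟩
  have hθ'b : θ' ∈ blockOf M (θ : ↥(Q ⊔ Subgroup.centralizer (Q : Set G)) → ℂ) := by
    rw [mem_blockOf_iff]
    exact sameBlock_of_isPGroup hM hNp θ θ'
  have hS := (Cfsg.Agent.S0971.result p M hM Q hQp
    (blockOf M (θ : ↥(Q ⊔ Subgroup.centralizer (Q : Set G)) → ℂ)) hb).2
  have h1 := hS (blockOf M (χ : G → ℂ)) ⟨χ, rfl⟩
    ⟨χ, mem_blockOf_self hprime χ, θ, mem_blockOf_self hprime θ, hθ⟩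
  have h2 := hS (blockOf M (ψ : G → ℂ)) ⟨ψ, rfl⟩
    ⟨ψ, mem_blockOf_self hprime ψ, θ', hθ'b, hθ'⟩
  have heq := isInducedBlock_unique hprime _ h1 h2
  have : ψ ∈ blockOf M (χ : G → ℂ) := by
    rw [heq]; exact mem_blockOf_self hprime ψ
  exact this

/-- Let G be a finite group and p a prime such that G has no non-trivial normal subgroup of order prime to p and C_G(O_p(G)) ≤ O_p(G). Then G has a single p-block: any two irreducible characters lie in the same block relative to every maximal ideal M of the algebraic integers containing p. -/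
theorem result {G : Type*} [Group G] [Finite G] (p : ℕ) [Fact p.Prime] (M : Ideal Cfsg.AlgInt) (hM : Cfsg.IsPModular p M) (hcore : Cfsg.pPrimeCore p G = ⊥) (hconstr : Subgroup.centralizer ((Cfsg.pCore p G) : Set G) ≤ Cfsg.pCore p G) (χ ψ : Cfsg.IrrCharacter G) : Cfsg.SameBlock M (χ : G → ℂ) (ψ : G → ℂ) := by
  classical
  have := Fintype.ofFinite G
  have hQn : (Cfsg.pCore p G).Normal := Subgroup.sSup_normal _ (fun _ h => h.1)
  have hQp : IsPGroup p (Cfsg.pCore p G) := Sylow.sSup_of_normal _ (fun _ h => h.2) (fun _ h => h.1)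
  exact single_block_aux p M hM (Cfsg.pCore p G) hQp hconstr _ rfl χ ψ

end Cfsg.Agent.S4487
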