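import Cfsg.Statements.S4493
import Cfsg.Agent.S0169
import Cfsg.Agent.Lib.Helper79.ItoSolvable

set_option autoImplicit false
open Cfsg

namespace Cfsg.Agent.S4493

/-- Let G be a finite solvable group and p a prime. Then G has a normal abelian Sylow p-subgroup if and only if no irreducible character degree of G is divisible by p. -/
theorem result {G : Type*} [Group G] [Finite G] (hsolv : Group.IsSolvable G) (p : ℕ) (hp : p.Prime) : (∃ P : Subgroup G, P.Normal ∧ (∀ x ∈ P, ∀ y ∈ P, x * y = y * x) ∧ IsPGroup p P ∧ ¬ p ∣ P.index) ↔ ∀ χ : Cfsg.IrrCharacter G, ¬ p ∣ Cfsg.charDegree (χ : G → ℂ) := by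
  haveI : Fact p.Prime := ⟨hp⟩
  constructor
  · rintro ⟨P, hPn, hPab, hPp, hPidx⟩ χ hd
    haveI := hPn
    obtain ⟨n, ρ, hirr, hρ⟩ := χ.2
    haveI := hirr
    have h1 : Module.finrank ℂ (Fin n → ℂ) ∣ P.index := Cfsg.Agent.S0169.result ρ P hPab
    have h2 : Cfsg.charDegree (χ : G → ℂ) = n := by
      have h3 : ((Cfsg.charDegree (χ : G → ℂ) : ℕ) : ℂ) = (χ : G → ℂ) 1 :=
        Cfsg.Agent.Lib.Helper83.charDegree_cast (Cfsg.Agent.Lib.Helper83.IrrCharacter_isCharacter χ)
      have h4 : (χ : G → ℂ) 1 = (n : ℂ) := by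
        rw [← hρ, Cfsg.Agent.Lib.Helper83.rep_char_one]
      rw [h4] at h3
      exact_mod_cast h3
    rw [Module.finrank_fin_fun] at h1
    rw [h2] at hd
    exact hPidx (dvd_trans hd h1)
  · intro hdeg
    exact Cfsg.Agent.Lib.Helper79.ito_solvable_aux p (Nat.card G) G rfl hsolv hdeg


end Cfsg.Agent.S4493
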