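import Cfsg.Statements.S4495
import Cfsg.Agent.Lib.Helper79.SelfCentCount

set_option autoImplicit false
open Cfsg

namespace Cfsg.Agent.S4495

/-- Let the finite group G contain an element x of prime order p with C_G(x) = ⟨x⟩, and let t be the number of conjugacy classes of elements of order p. If t ≠ p − 1 then the commutator subgroup has index at most (p − 1)/t; if t = p − 1 it has index exactly p. -/
theorem result {G : Type*} [Group G] [Finite G] (p : ℕ) (hp : p.Prime) (x : G) (hx : orderOf x = p) (hC : Subgroup.centralizer ({x} : Set G) = Subgroup.zpowers x) (t : ℕ) (ht : Nat.card {C : ConjClasses G // ∃ g ∈ C.carrier, orderOf g = p} = t) : (t ≠ p - 1 → (commutator G).index * t ≤ p - 1) ∧ (t = p - 1 → (commutator G).index = p) := by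
  have hcount := Cfsg.Agent.Lib.Helper79.card_classes_mul_card_normalizer hp hx hC
  rw [ht] at hcount
  have hp1 : 0 < p - 1 := Nat.sub_pos_of_lt hp.one_lt
  constructor
  · intro hne
    by_cases hxG : x ∈ commutator G
    · obtain ⟨c, hc⟩ := Cfsg.Agent.Lib.Helper79.index_commutator_mul_dvd hp hx hC hxG
      rw [hc] at hcount
      have h1 : p * ((commutator G).index * t * c) = p * (p - 1) := by
        rw [← hcount]; ring
      have h2 : (commutator G).index * t * c = p - 1 := Nat.eq_of_mul_eq_mul_left hp.pos h1
      have hc0 : 0 < c := by
        rcases Nat.eq_zero_or_pos c with h | h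
        · rw [h, mul_zero] at h2; omega
        · exact h
      calc (commutator G).index * t ≤ (commutator G).index * t * c := Nat.le_mul_of_pos_right _ hc0
        _ = p - 1 := h2
    · exfalso
      have h := (Cfsg.Agent.Lib.Helper79.index_commutator_of_not_mem hp hx hC hxG).2
      rw [h] at hcount
      apply hne
      have h1 : p * t = p * (p - 1) := by rw [← hcount]; ring
      exact Nat.eq_of_mul_eq_mul_left hp.pos h1
  · intro heq
    rw [heq] at hcount
    have h1 : (p - 1) * Nat.card (Subgroup.normalizer (Subgroup.zpowers x : Set G)) = (p - 1) * p := by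
      rw [hcount]; ring
    have hN : Nat.card (Subgroup.normalizer (Subgroup.zpowers x : Set G)) = p :=
      Nat.eq_of_mul_eq_mul_left hp1 h1
    have hxG := Cfsg.Agent.Lib.Helper79.not_mem_commutator_of_card_normalizer hp hx hC hN
    exact (Cfsg.Agent.Lib.Helper79.index_commutator_of_not_mem hp hx hC hxG).1

end Cfsg.Agent.S4495
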