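import Cfsg.Statements.S4498
import Cfsg.Agent.Lib.Helper82.DoubleOrth
import Cfsg.Agent.Lib.Helper83.Decompose

set_option autoImplicit false
set_option linter.style.haveILetI false
open Cfsg

namespace Cfsg.Agent.S4498

/-- Let p and q be distinct primes dividing the order of the finite group G, and suppose G has no element of order p·q. Fix maximal ideals M_p over p and M_q over q of the algebraic integers. Then the principal p-block and the principal q-block of G have a non-principal irreducible character in common. -/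
theorem result {G : Type*} [Group G] [Finite G] (p q : ℕ) [Fact p.Prime] [Fact q.Prime] (hpq : p ≠ q) (hp : p ∣ Nat.card G) (hq : q ∣ Nat.card G) (hno : ∀ g : G, orderOf g ≠ p * q) (Mp Mq : Ideal Cfsg.AlgInt) (hMp : Cfsg.IsPModular p Mp) (hMq : Cfsg.IsPModular q Mq) : ∃ χ : Cfsg.IrrCharacter G, (χ : G → ℂ) ≠ (fun _ => 1) ∧ χ ∈ Cfsg.principalBlock Mp G ∧ χ ∈ Cfsg.principalBlock Mq G := by
  classical
  letI : Fintype G := Fintype.ofFinite G
  letI : Fintype (Cfsg.IrrCharacter G) := Fintype.ofFinite _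
  have hpp : p.Prime := hMp.1
  have hqp : q.Prime := hMq.1
  -- no element is both `p`-singular and `q`-singular
  have hno' : ∀ w : G, p ∣ orderOf w → ¬ q ∣ orderOf w := by
    intro w hpw hqw
    have hcop : Nat.Coprime p q := (Nat.coprime_primes hpp hqp).2 hpq
    have hdvd : p * q ∣ orderOf w := hcop.mul_dvd_of_dvd_of_dvd hpw hqw
    obtain ⟨k, hk⟩ := hdvd
    have hk0 : k ≠ 0 := by
      intro h0
      rw [h0, mul_zero] at hk
      exact (orderOf_pos w).ne' hk
    have h1 : orderOf (w ^ k) = orderOf w / k :=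
      orderOf_pow_of_dvd hk0 ⟨p * q, by rw [hk, mul_comm]⟩
    rw [hk, Nat.mul_div_cancel _ (Nat.pos_of_ne_zero hk0)] at h1
    exact hno _ h1
  obtain ⟨u, hu⟩ := exists_prime_orderOf_dvd_card' (G := G) p hp
  obtain ⟨v, hv⟩ := exists_prime_orderOf_dvd_card' (G := G) q hq
  set τ := Cfsg.Agent.Lib.Helper83.trivChar G with hτ
  have key := Cfsg.Agent.Lib.Helper82.sum_inter_blocks_eq_zero hMp hMq hno' τ τ u v
    (by rw [hu]) (by rw [hv])
  by_contra hcon
  push Not at hcon
  have hτp : τ ∈ Cfsg.blockOf Mp (τ : G → ℂ) :=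
    Cfsg.Agent.Lib.Helper82.mem_blockOf_self hMp.2.1.isPrime τ
  have hτq : τ ∈ Cfsg.blockOf Mq (τ : G → ℂ) :=
    Cfsg.Agent.Lib.Helper82.mem_blockOf_self hMq.2.1.isPrime τ
  rw [Finset.sum_eq_single τ] at key
  · rw [if_pos ⟨hτp, hτq⟩] at key
    simp [hτ, Cfsg.Agent.Lib.Helper83.trivChar_apply] at key
  · intro χ _ hne
    rw [if_neg]
    rintro ⟨h1, h2⟩
    by_cases hχ1 : (χ : G → ℂ) = fun _ => 1
    · exact hne (Subtype.ext hχ1)
    · exact hcon χ hχ1 h1 h2
  · intro h0
    exact absurd (Finset.mem_univ _) h0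

end Cfsg.Agent.S4498
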