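import Cfsg.Statements.S4499
import Cfsg.Agent.Lib.Helper21.HeightBound
import Cfsg.Agent.Lib.Helper21.BrauerFeit

set_option autoImplicit false
open Cfsg

namespace Cfsg.Agent.S4499

/-- Let G be a finite group whose order has p-part p^a (a ≥ 1), and fix a maximal ideal M of the algebraic integers containing p. If the degree of one irreducible character of a p-block B is divisible by p^(a−1), then the degree of every irreducible character in B is divisible by p^(a−1) (so B has defect at most 1). -/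
theorem result {G : Type*} [Group G] [Finite G] (p : ℕ) [Fact p.Prime] (M : Ideal Cfsg.AlgInt) (hM : Cfsg.IsPModular p M) (hpa : p ∣ Nat.card G) (B : Set (Cfsg.IrrCharacter G)) (hB : Cfsg.IsPBlock M B) (χ : Cfsg.IrrCharacter G) (hχ : χ ∈ B) (hdiv : p ^ ((Nat.card G).factorization p - 1) ∣ Cfsg.charDegree (χ : G → ℂ)) (ψ : Cfsg.IrrCharacter G) (hψ : ψ ∈ B) : p ^ ((Nat.card G).factorization p - 1) ∣ Cfsg.charDegree (ψ : G → ℂ) := by
  classical
  have := Fintype.ofFinite G
  have := Fintype.ofFinite (Cfsg.IrrCharacter G)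
  have hp : p.Prime := Fact.out
  have hprime : M.IsPrime := hM.2.1.isPrime
  obtain ⟨χ₀, hχ₀, hχ₀s⟩ := Cfsg.Agent.Lib.Helper21.exists_min_degree (p := p) hprime hB
  have hmin : ∀ χ' ∈ B, (Cfsg.charDegree (χ₀ : G → ℂ)).factorization p ≤
      (Cfsg.charDegree (χ' : G → ℂ)).factorization p := by
    intro χ' hχ'
    rw [hχ₀s]
    exact Nat.sInf_le ⟨χ', hχ', rfl⟩
  have hdegχ := Cfsg.Agent.Lib.Helper21.charDegree_ne_zero hM χ
  have hdegψ := Cfsg.Agent.Lib.Helper21.charDegree_ne_zero hM ψ
  rw [hp.pow_dvd_iff_le_factorization hdegχ] at hdiv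
  rw [hp.pow_dvd_iff_le_factorization hdegψ]
  by_contra hcon
  push Not at hcon
  have h0 := hmin ψ hψ
  have hlt : (Cfsg.charDegree (χ₀ : G → ℂ)).factorization p <
      (Cfsg.charDegree (χ : G → ℂ)).factorization p := by omega
  have := Cfsg.Agent.Lib.Helper21.factorization_add_two_le_of_not_min hM hB χ χ₀ hχ hχ₀ hmin hlt
  omega

end Cfsg.Agent.S4499
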