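import Cfsg.Statements.S4500
import Cfsg.Agent.S0144
import Cfsg.Agent.Lib.Helper65.PrincipalDvd
import Cfsg.Agent.Lib.Helper21.HeightBound
import Cfsg.Agent.Lib.Helper83.CharMisc

set_option autoImplicit false
open Cfsg

namespace Cfsg.Agent.S4500

open Cfsg.Agent.Lib.Helper83 in
/-- one half of the statement, symmetric in `q` and `r` -/
theorem half {G : Type*} [Group G] [Finite G] [Nontrivial G] (p q r a b c : ℕ) (hp : p.Prime)
    (hq : q.Prime) (hr : r.Prime) (hpq : p ≠ q) (hpr : p ≠ r) (hqr : q ≠ r) (ha : a ≤ 2)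
    (hG : Nat.card G = p ^ a * q ^ b * r ^ c) :
    ∃ χ : Cfsg.IrrCharacter G, (χ : G → ℂ) ≠ (fun _ => 1) ∧
      ∃ k : ℕ, Cfsg.charDegree (χ : G → ℂ) = q ^ k := by
  classical
  have : Fintype G := Fintype.ofFinite G
  have : Fintype (IrrCharacter G) := Fintype.ofFinite _
  by_cases ha0 : a = 0
  · -- `G` is solvable and nontrivial, so it has a nontrivial linear character
    have hsolv : Group.IsSolvable G :=
      Cfsg.Agent.S0144.result q r b c hq hr (by rw [hG, ha0]; ring)
    have hlt : commutator G < ⊤ := Group.IsSolvable.commutator_lt_top_of_nontrivial G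
    obtain ⟨lam, hlam1, hlamne⟩ := exists_nontrivial_linear (G := G) hlt.ne
    refine ⟨lam, ?_, 0, ?_⟩
    · intro h
      apply hlamne
      apply Subtype.ext
      rw [h]; rfl
    · have := Cfsg.Agent.Lib.Helper82.IsCharacter.charDegree_cast
        (Cfsg.Agent.Lib.Helper82.IsIrrCharacter.isCharacter lam.2)
      rw [hlam1] at this
      rw [pow_zero]
      exact_mod_cast this
  · have hapos : 0 < a := Nat.pos_of_ne_zero ha0
    have : Fact p.Prime := ⟨hp⟩
    obtain ⟨M, hM⟩ := Cfsg.Agent.Lib.Helper82.exists_isPModular p hp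
    have hMprime : M.IsPrime := hM.2.1.isPrime
    have hpG : p ∣ Nat.card G := by
      rw [hG]
      exact Dvd.dvd.mul_right (Dvd.dvd.mul_right (dvd_pow_self p ha0) _) _
    obtain ⟨g, hg⟩ := exists_prime_orderOf_dvd_card' p hpG
    by_contra hcon
    push Not at hcon
    have hfact : (Nat.card G).factorization p = a := by
      rw [hG]
      have h1 : p ^ a ≠ 0 := pow_ne_zero _ hp.ne_zero
      have h2 : q ^ b ≠ 0 := pow_ne_zero _ hq.ne_zero
      have h3 : r ^ c ≠ 0 := pow_ne_zero _ hr.ne_zero
      rw [Nat.factorization_mul (mul_ne_zero h1 h2) h3, Nat.factorization_mul h1 h2]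
      simp only [Finsupp.add_apply, Nat.factorization_pow, Finsupp.smul_apply, smul_eq_mul]
      rw [hp.factorization, hq.factorization, hr.factorization]
      simp [hpq.symm, hpr.symm]
    have hB : IsPBlock M (principalBlock M G) :=
      Cfsg.Agent.Lib.Helper22.isPBlock_principalBlock M G
    have htrivmem : trivChar G ∈ principalBlock M G :=
      Cfsg.Agent.Lib.Helper81.trivChar_mem_principalBlock hMprime
    have htrivdeg : charDegree (trivChar G : G → ℂ) = 1 := by
      have := Cfsg.Agent.Lib.Helper82.IsCharacter.charDegree_cast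
        (Cfsg.Agent.Lib.Helper82.IsIrrCharacter.isCharacter (trivChar G).2)
      rw [trivChar_apply] at this
      exact_mod_cast this
    apply Cfsg.Agent.Lib.Helper65.principal_block_not_all_dvd p r hp hr M hM g
      (by rw [hg])
    intro χ hχB hne
    obtain ⟨d, hd0, hd1, hddvd, hdeg⟩ := Cfsg.Agent.Lib.Helper04.exists_nat_degree χ
    rw [hdeg]
    -- `p` does not divide `d`
    have hpd : ¬ p ∣ d := by
      intro hpd
      have hpos : 0 < d.factorization p :=
        (hp.factorization_pos_of_dvd hd0.ne' hpd)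
      have := Cfsg.Agent.Lib.Helper21.factorization_add_two_le_of_not_min hM hB χ (trivChar G)
        hχB htrivmem (by intro χ' _; rw [htrivdeg]; simp) (by rw [htrivdeg, hdeg]; simpa using hpos)
      rw [hdeg, hfact] at this
      omega
    have hcop : Nat.Coprime d p := (Nat.Coprime.symm ((Nat.Prime.coprime_iff_not_dvd hp).mpr hpd))
    have hd' : d ∣ q ^ b * r ^ c := by
      rw [hG, mul_assoc] at hddvd
      exact (Nat.Coprime.pow_right a hcop).dvd_of_dvd_mul_left hddvd
    by_contra hrd
    have hcr : Nat.Coprime d r := (Nat.Coprime.symm ((Nat.Prime.coprime_iff_not_dvd hr).mpr hrd))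
    have hd'' : d ∣ q ^ b := (Nat.Coprime.pow_right c hcr).dvd_of_dvd_mul_right hd'
    obtain ⟨k, _, hk⟩ := (Nat.dvd_prime_pow hq).mp hd''
    have hχne : (χ : G → ℂ) ≠ fun _ => 1 := by
      intro h
      apply hne
      apply Subtype.ext
      rw [h]; rfl
    exact hcon χ hχne k (by rw [hdeg, hk])

/-- Let G be a non-trivial finite group of order p^a · q^b · r^c with p, q, r distinct primes and a ≤ 2. Then G has a non-principal irreducible character whose degree is a power of q, and a non-principal irreducible character whose degree is a power of r; the power may be the zeroth, so a non-principal linear character serves for both. -/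
theorem result {G : Type*} [Group G] [Finite G] [Nontrivial G] (p q r a b c : ℕ) (hp : p.Prime) (hq : q.Prime) (hr : r.Prime) (hpq : p ≠ q) (hpr : p ≠ r) (hqr : q ≠ r) (ha : a ≤ 2) (hG : Nat.card G = p ^ a * q ^ b * r ^ c) : (∃ χ : Cfsg.IrrCharacter G, (χ : G → ℂ) ≠ (fun _ => 1) ∧ ∃ k : ℕ, Cfsg.charDegree (χ : G → ℂ) = q ^ k) ∧ ∃ χ : Cfsg.IrrCharacter G, (χ : G → ℂ) ≠ (fun _ => 1) ∧ ∃ k : ℕ, Cfsg.charDegree (χ : G → ℂ) = r ^ k := by
  refine ⟨half p q r a b c hp hq hr hpq hpr hqr ha hG, ?_⟩
  exact half p r q a c b hp hr hq hpr hpq hqr.symm ha (by rw [hG]; ring)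

end Cfsg.Agent.S4500
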