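import Cfsg.Statements.S4505
import Cfsg.Agent.Lib.Helper79.DefectSep
import Cfsg.Agent.Lib.Helper82.ResidueField

set_option autoImplicit false
open Cfsg

namespace Cfsg.Agent.S4505

/-- Let G be a finite group, p a prime and M a maximal ideal of the algebraic integers containing p. For every σ, the number of p-blocks of defect exactly σ is at most the number of conjugacy classes of p-regular elements whose centralizer has order divisible by p^σ but not by p^(σ+1). -/
theorem result {G : Type*} [Group G] [Finite G] (p : ℕ) [Fact p.Prime] (M : Ideal Cfsg.AlgInt) (hM : Cfsg.IsPModular p M) (σ : ℕ) : Nat.card {B : Set (Cfsg.IrrCharacter G) // Cfsg.IsPBlock M B ∧ Cfsg.blockDefect p B = σ} ≤ Nat.card {C : ConjClasses G // ∃ g : G, ConjClasses.mk g = C ∧ ¬ p ∣ orderOf g ∧ (Nat.card (Subgroup.centralizer ({g} : Set G))).factorization p = σ} := by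
  classical
  let _ : Fintype G := Fintype.ofFinite G
  let _ : Fintype (IrrCharacter G) := Fintype.ofFinite _
  have hMp : M.IsPrime := hM.2.1.isPrime
  let _ : Fintype (ConjClasses G) := Fintype.ofFinite _
  set P : ConjClasses G → Prop := fun C => ∃ g : G, ConjClasses.mk g = C ∧ ¬ p ∣ orderOf g ∧
      (Nat.card (Subgroup.centralizer ({g} : Set G))).factorization p = σ with hP
  set Q : Set (Cfsg.IrrCharacter G) → Prop := fun B => Cfsg.IsPBlock M B ∧
      Cfsg.blockDefect p B = σ with hQ
  change Nat.card (Subtype Q) ≤ Nat.card (Subtype P)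
  let _ : Fintype (Subtype Q) := Fintype.ofFinite _
  let _ : Fintype (Subtype P) := Fintype.ofFinite _
  rw [Nat.card_eq_fintype_card, Nat.card_eq_fintype_card]
  -- representatives of blocks
  have hrep : ∀ B : Subtype Q, ∃ χ : IrrCharacter G, χ ∈ B.1 :=
    fun B => Cfsg.Agent.Lib.Helper82.IsPBlock.nonempty hMp B.2.1
  choose rep hrepmem using hrep
  have hBeq : ∀ B : Subtype Q, B.1 = blockOf M (rep B : G → ℂ) :=
    fun B => Cfsg.Agent.Lib.Helper82.IsPBlock.eq_blockOf hMp B.2.1 (hrepmem B)
  have hRa : ∀ (B : Subtype Q) (g : G), MemLocalRing M (blockCoeff B.1 g) := by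
    intro B g
    rw [hBeq B]
    exact Cfsg.Agent.Lib.Helper21.memLocalRing_blockCoeff_blockOf hMp (rep B) g
  have hRw : ∀ (χ : IrrCharacter G) (g : G), MemLocalRing M (centralChar (χ : G → ℂ) g) :=
    fun χ g => Cfsg.Agent.Lib.Helper21.memLocalRing_centralChar hMp χ g
  let W : Matrix (Subtype Q) (Subtype P) (Cfsg.Agent.Lib.Helper82.LocalResidue M hMp) :=
    fun B K => Cfsg.Agent.Lib.Helper82.residueMap M hMp
      ⟨blockCoeff B.1 (Quotient.out K.1), hRa B _⟩
  let V : Matrix (Subtype P) (Subtype Q) (Cfsg.Agent.Lib.Helper82.LocalResidue M hMp) :=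
    fun K B => Cfsg.Agent.Lib.Helper82.residueMap M hMp
      ⟨centralChar (rep B : G → ℂ) (Quotient.out K.1), hRw _ _⟩
  have hWV : W * V = 1 := by
    ext B B'
    rw [Matrix.mul_apply, Matrix.one_apply]
    simp only [W, V]
    simp_rw [← map_mul]
    rw [← map_sum]
    -- the identity over all classes
    have hcf := Cfsg.Agent.Lib.Helper21.blockCoeff_isClassFunction B.1
    have h1 := Cfsg.Agent.Lib.Helper21.omega_blockCoeff B.1 (rep B')
    rw [Cfsg.Agent.Lib.Helper21.omega_eq_sum_classes hcf
      (Cfsg.Agent.Lib.Helper83.isClassFunction_irr (rep B'))] at h1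
    have hδ : (rep B' ∈ B.1) ↔ B = B' := by
      constructor
      · intro h
        apply Subtype.ext
        rw [Cfsg.Agent.Lib.Helper82.IsPBlock.eq_blockOf hMp B.2.1 h, ← hBeq B']
      · intro h
        rw [h]
        exact hrepmem B'
    -- split the sum
    set f : ConjClasses G → ℂ := fun K => blockCoeff B.1 (Quotient.out K) *
        centralChar (rep B' : G → ℂ) (Quotient.out K) with hf
    have h1' : (∑ K : ConjClasses G, f K) = if rep B' ∈ B.1 then 1 else 0 := h1
    rw [← Finset.sum_filter_add_sum_filter_not Finset.univ P] at h1'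
    have hbad : MemLocalIdeal M (∑ K ∈ Finset.univ.filter (fun C => ¬ P C), f K) := by
      apply Cfsg.Agent.Lib.Helper82.memLocalIdeal_sum hMp
      intro K hK
      rw [Finset.mem_filter] at hK
      have hK2 : ¬ P K := hK.2
      rw [hP] at hK2
      push Not at hK2
      have hK3 := hK2 (Quotient.out K) (Quotient.out_eq K)
      rw [hf]
      by_cases hreg : p ∣ orderOf (Quotient.out K)
      · show MemLocalIdeal M (blockCoeff B.1 (Quotient.out K) * _)
        rw [hBeq B, Cfsg.Agent.Lib.Helper82.blockCoeff_eq_zero_of_singular hM (rep B) _ hreg,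
          zero_mul]
        exact Cfsg.Agent.Lib.Helper82.memLocalIdeal_zero hMp
      have hne := hK3 hreg
      rcases lt_or_gt_of_ne hne with hlt | hgt
      · apply Cfsg.Agent.Lib.Helper82.memLocalIdeal_mul_left hMp (hRa B _)
        apply Cfsg.Agent.Lib.Helper79.memLocalIdeal_centralChar_of_lt_defect hM (rep B')
        rw [← hBeq B', B'.2.2]
        exact hlt
      · apply Cfsg.Agent.Lib.Helper82.memLocalIdeal_mul_right hMp _ (hRw _ _)
        rw [hBeq B]
        apply Cfsg.Agent.Lib.Helper79.memLocalIdeal_blockCoeff_of_defect_lt hM (rep B)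
        rw [← hBeq B, B.2.2]
        exact hgt
    have hsub : ∑ K ∈ Finset.univ.filter P, f K = ∑ K : Subtype P, f K.1 :=
      Finset.sum_subtype _
        (fun x => by rw [Finset.mem_filter]; exact ⟨fun h => h.2, fun h => ⟨Finset.mem_univ _, h⟩⟩) _
    rw [hsub] at h1'
    -- now in the residue field
    have hval : ((∑ K : Subtype P,
        (⟨blockCoeff B.1 (Quotient.out K.1), hRa B _⟩ : Cfsg.Agent.Lib.Helper82.localSubring M hMp) *
          ⟨centralChar (rep B' : G → ℂ) (Quotient.out K.1), hRw _ _⟩ :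
        Cfsg.Agent.Lib.Helper82.localSubring M hMp) : ℂ) = ∑ K : Subtype P, f K.1 := by
      push_cast
      rfl
    by_cases hBB : B = B'
    · rw [if_pos hBB]
      rw [if_pos (hδ.mpr hBB)] at h1'
      rw [← map_one (Cfsg.Agent.Lib.Helper82.residueMap M hMp), ← sub_eq_zero, ← map_sub,
        Cfsg.Agent.Lib.Helper82.residueMap_eq_zero_iff]
      have hco : (((∑ K : Subtype P,
        (⟨blockCoeff B.1 (Quotient.out K.1), hRa B _⟩ : Cfsg.Agent.Lib.Helper82.localSubring M hMp) *
          ⟨centralChar (rep B' : G → ℂ) (Quotient.out K.1), hRw _ _⟩) - 1 :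
        Cfsg.Agent.Lib.Helper82.localSubring M hMp) : ℂ) = (∑ K : Subtype P, f K.1) - 1 := by
        rw [← hval]
        push_cast
        rfl
      rw [hco]
      have : (∑ K : Subtype P, f K.1) - 1 =
          - (∑ K ∈ Finset.univ.filter (fun C => ¬ P C), f K) := by
        rw [← h1']; ring
      rw [this]
      exact Cfsg.Agent.Lib.Helper82.memLocalIdeal_neg hbad
    · rw [if_neg hBB]
      rw [if_neg (fun h => hBB (hδ.mp h))] at h1'
      rw [Cfsg.Agent.Lib.Helper82.residueMap_eq_zero_iff, hval]
      have : (∑ K : Subtype P, f K.1) =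
          - (∑ K ∈ Finset.univ.filter (fun C => ¬ P C), f K) := by
        rw [eq_neg_iff_add_eq_zero]; exact h1'
      rw [this]
      exact Cfsg.Agent.Lib.Helper82.memLocalIdeal_neg hbad
  calc Fintype.card (Subtype Q)
      = (1 : Matrix (Subtype Q) (Subtype Q) (Cfsg.Agent.Lib.Helper82.LocalResidue M hMp)).rank :=
        Matrix.rank_one.symm
    _ = (W * V).rank := by rw [hWV]
    _ ≤ W.rank := Matrix.rank_mul_le_left W V
    _ ≤ Fintype.card (Subtype P) := Matrix.rank_le_card_width W


end Cfsg.Agent.S4505
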