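import Cfsg.Statements.S4508
import Cfsg.Agent.Lib.Helper23.PMinusOne
import Cfsg.Agent.Lib.Helper23.DetAdd
import Cfsg.Agent.Lib.Helper79.SelfCentCount

set_option autoImplicit false
set_option linter.style.haveILetI false
open Cfsg

namespace Cfsg.Agent.S4508

/-- a subgroup of `N_G(⟨x⟩)` meeting `⟨x⟩` trivially is cyclic (`x` of prime order,
self-centralizing) -/
theorem isCyclic_of_le_normalizer {G : Type*} [Group G] [Finite G] (p : ℕ) [hp : Fact p.Prime]
    (x : G) (hx : orderOf x = p)
    (hC : Subgroup.centralizer ({x} : Set G) = Subgroup.zpowers x) (S : Subgroup G)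
    (hSN : S ≤ Subgroup.normalizer (Subgroup.zpowers x : Set G))
    (hSP : ∀ s ∈ S, s ∈ Subgroup.zpowers x → s = 1) : IsCyclic S := by
  have hex : ∀ s : S, ∃ k : ℤ, x ^ k = (s : G) * x * (s : G)⁻¹ := by
    intro s
    have := (Subgroup.mem_normalizer_iff.mp (hSN s.2) x).mp (Subgroup.mem_zpowers x)
    exact Subgroup.mem_zpowers_iff.mp this
  choose k hk using hex
  have hkey : ∀ a b : ℤ, x ^ a = x ^ b ↔ (a : ZMod p) = (b : ZMod p) := by
    intro a b
    rw [ZMod.intCast_eq_intCast_iff, zpow_eq_zpow_iff_modEq, hx]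
  let f : S →* ZMod p :=
    { toFun := fun s => (k s : ZMod p)
      map_one' := by
        have h1 : x ^ (k 1) = x ^ (1 : ℤ) := by
          rw [hk 1]
          simp
        have := (hkey _ _).mp h1
        simpa using this
      map_mul' := by
        intro s s'
        have h1 : x ^ (k (s * s')) = x ^ (k s * k s') := by
          rw [hk (s * s'), zpow_mul, hk s, conj_zpow, hk s']
          simp [mul_assoc]
        have := (hkey _ _).mp h1
        simpa using this }
  have hinj : Function.Injective f := by
    intro s s' h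
    have h1 : (k s : ZMod p) = (k s' : ZMod p) := h
    have h2 := (hkey _ _).mpr h1
    rw [hk s, hk s'] at h2
    have h3 : ((s' : G)⁻¹ * (s : G)) ∈ Subgroup.centralizer ({x} : Set G) := by
      rw [Subgroup.mem_centralizer_iff]
      intro z hz
      rw [Set.mem_singleton_iff.mp hz]
      have h4 : (s' : G)⁻¹ * ((s : G) * x * (s : G)⁻¹) * (s : G) = (s' : G)⁻¹ * ((s' : G) * x * (s' : G)⁻¹) * (s : G) := by
        rw [h2]
      simp only [mul_assoc, inv_mul_cancel_left, inv_mul_cancel, mul_one] at h4
      rw [mul_assoc, h4]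
    rw [hC] at h3
    have h5 := hSP _ (S.mul_mem (S.inv_mem s'.2) s.2) h3
    apply Subtype.ext
    have : (s : G) = (s' : G) * ((s' : G)⁻¹ * (s : G)) := by simp
    rw [this, h5, mul_one]
  exact isCyclic_of_injective_ringHom f hinj

/-- Let the finite group G contain an element x of prime order p with C_G(x) = ⟨x⟩, and let t be the number of conjugacy classes of elements of order p. If G has an irreducible character of degree p − 1, then t is even or the commutator subgroup has even index. -/
theorem result {G : Type*} [Group G] [Finite G] (p : ℕ) (hp : p.Prime) (x : G) (hx : orderOf x = p) (hC : Subgroup.centralizer ({x} : Set G) = Subgroup.zpowers x) (t : ℕ) (ht : Nat.card {C : ConjClasses G // ∃ g ∈ C.carrier, orderOf g = p} = t) (χ : Cfsg.IrrCharacter G) (hχ : Cfsg.charDegree (χ : G → ℂ) + 1 = p) : Even t ∨ Even (commutator G).index := by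
  classical
  haveI : Fact p.Prime := ⟨hp⟩
  letI : Fintype G := Fintype.ofFinite G
  haveI : Finite (IrrCharacter G) := Cfsg.Agent.Lib.Helper05.finite_irrCharacter
  letI : Fintype (IrrCharacter G) := Fintype.ofFinite _
  have h1 := Cfsg.Agent.Lib.Helper79.card_classes_mul_card_normalizer hp hx hC
  rw [ht] at h1
  have h2 := Cfsg.Agent.Lib.Helper79.card_zpowers_mul_relIndex_normalizer (G := G) hx
  set e := (Subgroup.zpowers x).relIndex (Subgroup.normalizer (Subgroup.zpowers x : Set G)) with he
  have hte : t * e = p - 1 := by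
    have : p * (t * e) = p * (p - 1) := by
      rw [← h1, ← h2]
      ring
    exact Nat.eq_of_mul_eq_mul_left hp.pos this
  have hp2 := hp.two_le
  by_cases ht2 : Even t
  · exact Or.inl ht2
  right
  rw [Nat.not_even_iff_odd] at ht2
  by_cases he1 : e = 1
  · have hN : Nat.card (Subgroup.normalizer (Subgroup.zpowers x : Set G)) = p := by
      rw [← h2, he1, mul_one]
    have hx' := Cfsg.Agent.Lib.Helper79.not_mem_commutator_of_card_normalizer hp hx hC hN
    have h3 := (Cfsg.Agent.Lib.Helper79.index_commutator_of_not_mem hp hx hC hx').1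
    rw [h3]
    rw [he1, mul_one] at hte
    obtain ⟨r, hr⟩ := ht2
    exact ⟨r + 1, by omega⟩
  have he0 : e ≠ 0 := by
    intro h
    rw [h, mul_zero] at hte
    omega
  have he2 : 1 < e := by omega
  have hpne2 : p ≠ 2 := by
    intro h
    rw [h] at hte
    have : e ∣ 1 := ⟨t, by rw [mul_comm]; exact hte.symm⟩
    have := Nat.le_of_dvd one_pos this
    omega
  have hpodd : Odd p := hp.odd_of_ne_two hpne2
  have hp1 : p - 1 ≠ 0 := by omega
  have h2p1 : 2 ∣ p - 1 := by
    obtain ⟨r, hr⟩ := hpodd
    exact ⟨r, by omega⟩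
  set v := (p - 1).factorization 2 with hv
  set q := 2 ^ v with hq
  set m := (p - 1) / q with hm
  have hqm : q * m = p - 1 := Nat.ordProj_mul_ordCompl_eq_self (p - 1) 2
  have hmodd : Odd m := by
    rw [← Nat.not_even_iff_odd, even_iff_two_dvd]
    exact Nat.not_dvd_ordCompl Nat.prime_two hp1
  have hvpos : 0 < v := Nat.Prime.factorization_pos_of_dvd Nat.prime_two hp1 h2p1
  have hqeven : Even q := by
    rw [hq]
    exact (Nat.even_pow' hvpos.ne').mpr even_two
  -- the Sylow 2-subgroup of the normalizer
  set N := Subgroup.normalizer (Subgroup.zpowers x : Set G) with hNdef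
  let S0 : Sylow 2 N := default
  have hS0card : Nat.card S0 = q := by
    rw [Sylow.card_eq_multiplicity, ← h2, hq, hv, ← hte]
    congr 1
    have ht0 : t ≠ 0 := by
      intro h
      rw [h, zero_mul] at hte
      omega
    rw [Nat.factorization_mul hp.ne_zero he0, Nat.factorization_mul ht0 he0, Finsupp.add_apply,
      Finsupp.add_apply]
    have h3 : p.factorization 2 = 0 := by
      apply Nat.factorization_eq_zero_of_not_dvd
      rw [← even_iff_two_dvd, Nat.not_even_iff_odd]
      exact hpodd
    have h4 : t.factorization 2 = 0 := by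
      apply Nat.factorization_eq_zero_of_not_dvd
      rw [← even_iff_two_dvd, Nat.not_even_iff_odd]
      exact ht2
    rw [h3, h4]
  set S : Subgroup G := (S0 : Subgroup N).map N.subtype with hS
  have hScard : Nat.card S = q := by
    rw [hS, Subgroup.card_map_of_injective N.subtype_injective, hS0card]
  have hSN : S ≤ N := Subgroup.map_subtype_le _
  have hS2 : IsPGroup 2 S := S0.isPGroup'.map N.subtype
  have hPp : IsPGroup p (Subgroup.zpowers x) := by
    apply IsPGroup.of_card (n := 1)
    rw [Nat.card_zpowers, hx, pow_one]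
  have hdisj : Disjoint S (Subgroup.zpowers x) := IsPGroup.disjoint_of_ne 2 p hpne2.symm S _ hS2 hPp
  have hSP : ∀ s ∈ S, s ∈ Subgroup.zpowers x → s = 1 := fun s hs hsP =>
    Subgroup.disjoint_def.mp hdisj hs hsP
  haveI hcyc : IsCyclic S := isCyclic_of_le_normalizer p x hx hC S hSN hSP
  obtain ⟨g, hg⟩ := IsCyclic.exists_generator (α := S)
  have hgord : orderOf g = q := by
    rw [orderOf_eq_card_of_forall_mem_zpowers hg, hScard]
  set y : G := (g : G) with hy
  have hyord : orderOf y = q := by rw [hy, Subgroup.orderOf_coe, hgord]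
  -- the character
  have hCP : Subgroup.centralizer ((Subgroup.zpowers x : Subgroup G) : Set G) = Subgroup.zpowers x := by
    apply le_antisymm
    · intro a ha
      rw [← hC]
      refine Subgroup.mem_centralizer_iff.mpr (fun z hz => ?_)
      rw [Set.mem_singleton_iff.mp hz]
      exact Subgroup.mem_centralizer_iff.mp ha x (Subgroup.mem_zpowers x)
    · intro a ha
      rw [Subgroup.mem_centralizer_iff]
      intro z hz
      obtain ⟨i, rfl⟩ := Subgroup.mem_zpowers_iff.mp ha
      obtain ⟨j, rfl⟩ := Subgroup.mem_zpowers_iff.mp hz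
      rw [← zpow_add, ← zpow_add, add_comm]
  obtain ⟨d, hdpos, hd1, -, hdd⟩ := Cfsg.Agent.Lib.Helper04.exists_nat_degree χ
  have hdp : d + 1 = p := by rw [← hdd]; exact hχ
  have hχ1 : (χ : G → ℂ) 1 + 1 = (p : ℂ) := by
    rw [hd1, ← hdp]
    push_cast
    ring
  have hvan := Cfsg.Agent.Lib.Helper23.Exceptional.restrict_vanish (Subgroup.zpowers x) p hp
    (by rw [Nat.card_zpowers, hx]) hCP e rfl he2 χ hχ1
  have hvan' : ∀ c ∈ Subgroup.zpowers y, c ≠ 1 → (χ : G → ℂ) c = 0 := by
    intro c hc hc1
    have hcS : c ∈ S := by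
      have : Subgroup.zpowers y ≤ S := Subgroup.zpowers_le.mpr g.2
      exact this hc
    exact hvan c (hSN hcS) (fun h => hc1 (hSP c hcS h))
  have hdet := Cfsg.Agent.Lib.Helper23.DetAdd.detChar_eq_neg_one
    (Cfsg.Agent.Lib.Helper83.IrrCharacter_isCharacter χ) y q m hyord hqeven hmodd
    (by rw [hd1]; congr 1; rw [mul_comm, hqm]; omega) hvan'
  -- the determinant gives a subgroup of even index
  set lam := Cfsg.Agent.Lib.Helper80.detHom (χ : G → ℂ) with hlam
  have hker : commutator G ≤ lam.ker := Abelianization.commutator_subset_ker lam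
  have hly : ((lam y : ℂˣ) : ℂ) = -1 := by
    rw [hlam, Cfsg.Agent.Lib.Helper80.detHom_apply, hdet]
  have hord : orderOf (lam y) = 2 := by
    apply orderOf_eq_prime
    · apply Units.ext
      rw [Units.val_pow_eq_pow_val, hly]
      norm_num
    · intro h
      rw [h] at hly
      norm_num at hly
  have h2dvd : 2 ∣ lam.ker.index := by
    rw [Subgroup.index_ker]
    have h3 := orderOf_dvd_natCard (⟨lam y, ⟨y, rfl⟩⟩ : lam.range)
    have h4 : orderOf (⟨lam y, ⟨y, rfl⟩⟩ : lam.range) = 2 := by
      rw [← hord]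
      exact (Subgroup.orderOf_coe (⟨lam y, ⟨y, rfl⟩⟩ : lam.range)).symm
    rw [h4] at h3
    exact h3
  rw [← Subgroup.relIndex_mul_index hker]
  exact (even_iff_two_dvd.mpr h2dvd).mul_left _

end Cfsg.Agent.S4508
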