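import Cfsg.Statements.S4509
import Cfsg.Agent.Lib.Helper79.SelfCentDerived

set_option autoImplicit false
open Cfsg

namespace Cfsg.Agent.S4509

/-- Let the finite group G contain an element x of prime order p with C_G(x) = ⟨x⟩; let t be the number of conjugacy classes of elements of order p and 1 + n·p the number of subgroups of order p. Then G has a normal subgroup of order 1 + n·p if and only if either t = p − 1, or t < p − 1 and G″ ≠ G′. Moreover, if t = p − 1 then G′ has order 1 + n·p and G/G′ is cyclic of order p; and if t < p − 1 and G″ ≠ G′ then G″ has order 1 + n·p and G′ has order p·(1 + n·p). -/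
theorem result {G : Type*} [Group G] [Finite G] (p : ℕ) (hp : p.Prime) (x : G) (hx : orderOf x = p) (hC : Subgroup.centralizer ({x} : Set G) = Subgroup.zpowers x) (t : ℕ) (ht : Nat.card {C : ConjClasses G // ∃ g ∈ C.carrier, orderOf g = p} = t) (n : ℕ) (hn : Nat.card {H : Subgroup G // Nat.card H = p} = 1 + n * p) : ((∃ S : Subgroup G, S.Normal ∧ Nat.card S = 1 + n * p) ↔ (t = p - 1 ∨ (t < p - 1 ∧ derivedSeries G 2 ≠ derivedSeries G 1))) ∧ (t = p - 1 → Nat.card (commutator G) = 1 + n * p ∧ IsCyclic (G ⧸ commutator G) ∧ (commutator G).index = p) ∧ (t < p - 1 → derivedSeries G 2 ≠ derivedSeries G 1 → Nat.card (derivedSeries G 2) = 1 + n * p ∧ Nat.card (commutator G) = p * (1 + n * p)) := by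
  have hcount := Cfsg.Agent.Lib.Helper79.card_classes_mul_card_normalizer hp hx hC
  rw [ht] at hcount
  have hG := Cfsg.Agent.Lib.Helper79.card_eq_card_subgroups_mul hp hx hC
  rw [hn] at hG
  have hp1 : 0 < p - 1 := Nat.sub_pos_of_lt hp.one_lt
  have hpN := Cfsg.Agent.Lib.Helper79.card_zpowers_mul_relIndex_normalizer (G := G) hx
  have hd1 : derivedSeries G 1 = commutator G := derivedSeries_one G
  -- x ∈ G' unless t = p - 1
  have hmem : t ≠ p - 1 → x ∈ commutator G := by
    intro hne
    by_contra hxG
    have h' := (Cfsg.Agent.Lib.Helper79.index_commutator_of_not_mem hp hx hC hxG).2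
    rw [h'] at hcount
    apply hne
    have h1 : p * t = p * (p - 1) := by rw [← hcount]; ring
    exact Nat.eq_of_mul_eq_mul_left hp.pos h1
  -- part (ii)
  have part2 : t = p - 1 → Nat.card (commutator G) = 1 + n * p ∧ IsCyclic (G ⧸ commutator G) ∧
      (commutator G).index = p := by
    intro heq
    rw [heq] at hcount
    have h1 : (p - 1) * Nat.card (Subgroup.normalizer (Subgroup.zpowers x : Set G)) =
        (p - 1) * p := by rw [hcount]; ring
    have hN : Nat.card (Subgroup.normalizer (Subgroup.zpowers x : Set G)) = p :=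
      Nat.eq_of_mul_eq_mul_left hp1 h1
    have hxG := Cfsg.Agent.Lib.Helper79.not_mem_commutator_of_card_normalizer hp hx hC hN
    have hidx := (Cfsg.Agent.Lib.Helper79.index_commutator_of_not_mem hp hx hC hxG).1
    refine ⟨?_, ?_, hidx⟩
    · have h2 := (commutator G).card_mul_index
      rw [hidx, hG, hN] at h2
      exact Nat.eq_of_mul_eq_mul_right hp.pos h2
    · haveI : Fact p.Prime := ⟨hp⟩
      apply isCyclic_of_prime_card (p := p)
      rw [← Subgroup.index_eq_card, hidx]
  -- part (iii)
  have part3 : t < p - 1 → derivedSeries G 2 ≠ derivedSeries G 1 →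
      Nat.card (derivedSeries G 2) = 1 + n * p ∧ Nat.card (commutator G) = p * (1 + n * p) := by
    intro hlt hne
    have hxG := hmem hlt.ne
    haveI := derivedSeries_normal G 2
    have hle : derivedSeries G 2 ≤ commutator G := by
      rw [derivedSeries_succ, derivedSeries_one]
      exact Subgroup.commutator_le_left _ _
    have hnd : ¬ p ∣ Nat.card (derivedSeries G 2) := by
      intro hdvd
      apply hne
      rw [hd1]
      exact le_antisymm hle
        (Cfsg.Agent.Lib.Helper79.commutator_le_of_dvd_card hp hx hC _ hdvd)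
    have hxG2 : x ∉ derivedSeries G 2 :=
      Cfsg.Agent.Lib.Helper79.not_mem_of_not_dvd_card hx _ hnd
    have hc1 := Cfsg.Agent.Lib.Helper79.card_commutator_eq hp hx hC hxG hxG2
    obtain ⟨c, hc⟩ := Cfsg.Agent.Lib.Helper79.index_commutator_mul_dvd hp hx hC hxG
    have hdvd := Cfsg.Agent.Lib.Helper79.card_dvd_card_subgroups hp hx hC _ hxG2
    rw [hn] at hdvd
    have h2 := (commutator G).card_mul_index
    rw [hc1, hG, hc] at h2
    have hidx : 0 < (commutator G).index := Nat.pos_of_ne_zero Subgroup.index_ne_zero_of_finite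
    have h3 : ((commutator G).index * p) * Nat.card (derivedSeries G 2) =
        ((commutator G).index * p) * ((1 + n * p) * c) := by
      calc ((commutator G).index * p) * Nat.card (derivedSeries G 2)
          = p * Nat.card (derivedSeries G 2) * (commutator G).index := by ring
        _ = (1 + n * p) * ((commutator G).index * p * c) := h2
        _ = ((commutator G).index * p) * ((1 + n * p) * c) := by ring
    have h4 : Nat.card (derivedSeries G 2) = (1 + n * p) * c :=
      Nat.eq_of_mul_eq_mul_left (Nat.mul_pos hidx hp.pos) h3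
    have hm : 0 < 1 + n * p := by omega
    have hc1' : c = 1 := by
      rw [h4] at hdvd
      have : (1 + n * p) * c ∣ (1 + n * p) * 1 := by rw [mul_one]; exact hdvd
      have := Nat.dvd_of_mul_dvd_mul_left hm this
      exact Nat.dvd_one.mp this
    rw [hc1', mul_one] at h4
    exact ⟨h4, by rw [hc1, h4]⟩
  refine ⟨⟨?_, ?_⟩, part2, part3⟩
  · rintro ⟨S, hS, hcard⟩
    haveI := hS
    have hcop : ¬ p ∣ Nat.card S := by
      rw [hcard]
      intro h
      have : p ∣ 1 := by
        have h2 : p ∣ n * p := Dvd.intro_left n rfl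
        exact (Nat.dvd_add_left h2).mp h
      exact hp.one_lt.ne' (Nat.dvd_one.mp this)
    have hxS := Cfsg.Agent.Lib.Helper79.not_mem_of_not_dvd_card hx S hcop
    have hfr := Cfsg.Agent.Lib.Helper79.normalizer_sup_eq_top_of_card hp hx hC S hxS
      (by rw [hcard, hn])
    have h1 := Cfsg.Agent.Lib.Helper79.commutator_le_zpowers_sup hC S hfr
    have h2 := Cfsg.Agent.Lib.Helper79.derivedSeries_two_le S h1
    have hle : t ≤ p - 1 := by
      have h3 : t * p ≤ t * Nat.card (Subgroup.normalizer (Subgroup.zpowers x : Set G)) := by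
        apply Nat.mul_le_mul_left
        rw [← hpN]
        exact Nat.le_mul_of_pos_right _
          (Nat.pos_of_ne_zero (fun h0 => by
            rw [h0, mul_zero] at hpN
            exact (Nat.card_pos (α := Subgroup.normalizer (Subgroup.zpowers x : Set G))).ne hpN))
      rw [hcount] at h3
      have h4 : p * t ≤ p * (p - 1) := by rw [mul_comm]; exact h3
      exact Nat.le_of_mul_le_mul_left h4 hp.pos
    rcases Nat.eq_or_lt_of_le hle with h | h
    · exact Or.inl h
    · right
      refine ⟨h, ?_⟩
      intro heq
      have hxG := hmem h.ne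
      rw [← hd1, ← heq] at hxG
      exact hxS (h2 hxG)
  · rintro (h | ⟨h, h'⟩)
    · exact ⟨commutator G, inferInstance, (part2 h).1⟩
    · exact ⟨derivedSeries G 2, derivedSeries_normal G 2, (part3 h h').1⟩

end Cfsg.Agent.S4509
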