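import Cfsg.Statements.S4510
import Cfsg.Agent.Lib.Helper79.DefectSep

set_option autoImplicit false
open Cfsg

namespace Cfsg.Agent.S4510

/-- Let G be a finite group, p a prime, M a maximal ideal of the algebraic integers containing p, and call the defect of a conjugacy class the exponent of p in the order of the centralizer of its elements. Two irreducible characters lying in p-blocks of defect exactly d lie in the same block if and only if their central characters (class size times χ(x)/χ(1)) agree modulo the local ideal at M at every p-regular element x whose class has defect exactly d. -/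
theorem result {G : Type*} [Group G] [Finite G] (p : ℕ) [Fact p.Prime] (M : Ideal Cfsg.AlgInt) (hM : Cfsg.IsPModular p M) (d : ℕ) (χ ψ : Cfsg.IrrCharacter G) (hχ : Cfsg.blockDefect p (Cfsg.blockOf M (χ : G → ℂ)) = d) (hψ : Cfsg.blockDefect p (Cfsg.blockOf M (ψ : G → ℂ)) = d) : Cfsg.SameBlock M (χ : G → ℂ) (ψ : G → ℂ) ↔ ∀ x : G, ¬ p ∣ orderOf x → (Nat.card (Subgroup.centralizer ({x} : Set G))).factorization p = d → Cfsg.MemLocalIdeal M (Cfsg.centralChar (χ : G → ℂ) x - Cfsg.centralChar (ψ : G → ℂ) x) := by
  classical
  let _ : Fintype G := Fintype.ofFinite G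
  let _ : Fintype (IrrCharacter G) := Fintype.ofFinite _
  have hMp : M.IsPrime := hM.2.1.isPrime
  constructor
  · intro h x _ _
    exact h x
  · intro h
    set B := blockOf M (χ : G → ℂ) with hB
    have hR : ∀ g, MemLocalRing M (blockCoeff B g) :=
      Cfsg.Agent.Lib.Helper21.memLocalRing_blockCoeff_blockOf hMp χ
    have hcf := Cfsg.Agent.Lib.Helper21.blockCoeff_isClassFunction B
    have h1 : Cfsg.Agent.Lib.Helper21.omega (blockCoeff B) (χ : G → ℂ) = 1 := by
      rw [Cfsg.Agent.Lib.Helper21.omega_blockCoeff,
        if_pos (Cfsg.Agent.Lib.Helper82.mem_blockOf_self hMp χ)]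
    have h2 := Cfsg.Agent.Lib.Helper21.omega_blockCoeff B ψ
    have hdiff : MemLocalIdeal M (Cfsg.Agent.Lib.Helper21.omega (blockCoeff B) (χ : G → ℂ) -
        Cfsg.Agent.Lib.Helper21.omega (blockCoeff B) (ψ : G → ℂ)) := by
      rw [Cfsg.Agent.Lib.Helper21.omega_eq_sum_classes hcf
          (Cfsg.Agent.Lib.Helper83.isClassFunction_irr χ),
        Cfsg.Agent.Lib.Helper21.omega_eq_sum_classes hcf
          (Cfsg.Agent.Lib.Helper83.isClassFunction_irr ψ), ← Finset.sum_sub_distrib]
      apply Cfsg.Agent.Lib.Helper82.memLocalIdeal_sum hMp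
      intro K _
      rw [← mul_sub]
      set g := Quotient.out K with hg
      by_cases hreg : p ∣ orderOf g
      · rw [hB, Cfsg.Agent.Lib.Helper82.blockCoeff_eq_zero_of_singular hM χ g hreg, zero_mul]
        exact Cfsg.Agent.Lib.Helper82.memLocalIdeal_zero hMp
      rcases lt_trichotomy ((Nat.card (Subgroup.centralizer ({g} : Set G))).factorization p) d
        with hlt | heq | hgt
      · -- small defect: both central characters vanish mod the ideal
        apply Cfsg.Agent.Lib.Helper82.memLocalIdeal_mul_left hMp (hR g)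
        apply Cfsg.Agent.Lib.Helper82.memLocalIdeal_sub hMp
        · exact Cfsg.Agent.Lib.Helper79.memLocalIdeal_centralChar_of_lt_defect hM χ g
            (by rw [hχ]; exact hlt)
        · exact Cfsg.Agent.Lib.Helper79.memLocalIdeal_centralChar_of_lt_defect hM ψ g
            (by rw [hψ]; exact hlt)
      · exact Cfsg.Agent.Lib.Helper82.memLocalIdeal_mul_left hMp (hR g) (h g hreg heq)
      · apply Cfsg.Agent.Lib.Helper82.memLocalIdeal_mul_right hMp
        · exact Cfsg.Agent.Lib.Helper79.memLocalIdeal_blockCoeff_of_defect_lt hM χ g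
            (by rw [hχ]; exact hgt)
        · exact Cfsg.Agent.Lib.Helper82.memLocalRing_sub hMp
            (Cfsg.Agent.Lib.Helper21.memLocalRing_centralChar hMp χ g)
            (Cfsg.Agent.Lib.Helper21.memLocalRing_centralChar hMp ψ g)
    rw [h1, h2] at hdiff
    by_cases hψB : ψ ∈ B
    · exact hψB
    · rw [if_neg hψB, sub_zero] at hdiff
      exact absurd hdiff (Cfsg.Agent.Lib.Helper82.not_memLocalIdeal_one hMp)


end Cfsg.Agent.S4510
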