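import Cfsg.Statements.S4517
import Cfsg.Agent.Lib.Helper82.WeakOrth
import Cfsg.Agent.Lib.Helper82.BlockBasic
import Cfsg.Agent.Lib.Helper82.ResidueField
import Cfsg.Agent.Lib.Helper22.DefectClass
import Cfsg.Agent.Lib.Helper21.BlockDegreeSum
import Cfsg.Agent.Lib.Helper21.Osima
import Cfsg.Agent.Lib.Helper80.GaloisChar
import Cfsg.Agent.Lib.Helper82.LocalRing
import Cfsg.Agent.Lib.Helper05.CharBasic
import Cfsg.Agent.Lib.Helper05.CharDecomp

set_option autoImplicit false
set_option linter.style.haveILetI false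
set_option linter.unusedSectionVars false
open Cfsg

namespace Cfsg.Agent.S4517

open Cfsg.Agent.Lib.Helper82 Cfsg.Agent.Lib.Helper05 Cfsg.Agent.Lib.Helper21
open scoped ComplexConjugate

universe u
variable {G : Type u} [Group G] [Fintype G] [Fintype (IrrCharacter G)]

/-- The twist of an irreducible character by the `k`-th power map. -/
noncomputable def twist (k : ℕ) (hk : k.Coprime (Nat.card G)) (χ : IrrCharacter G) : IrrCharacter G :=
  ⟨fun g => (χ : G → ℂ) (g ^ k), Cfsg.Agent.Lib.Helper80.isIrrCharacter_pow_coprime χ.2 k hk⟩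

theorem twist_apply (k : ℕ) (hk : k.Coprime (Nat.card G)) (χ : IrrCharacter G) (g : G) :
    ((twist k hk χ : IrrCharacter G) : G → ℂ) g = (χ : G → ℂ) (g ^ k) := rfl

theorem twist_injective (k : ℕ) (hk : k.Coprime (Nat.card G)) :
    Function.Injective (twist (G := G) k hk) := by
  intro χ ψ h
  apply Subtype.ext
  funext g
  have hk' : k.Coprime (orderOf g) := hk.coprime_dvd_right (orderOf_dvd_natCard g)
  obtain ⟨m, hm⟩ := exists_pow_eq_self_of_coprime hk'
  have h1 := congrArg (fun φ : IrrCharacter G => (φ : G → ℂ) (g ^ m)) h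
  simp only [twist_apply] at h1
  rw [← pow_mul, mul_comm, pow_mul, hm] at h1
  exact h1

/-- a stable set of characters is mapped bijectively to itself -/
theorem twist_bijOn (k : ℕ) (hk : k.Coprime (Nat.card G)) (B : Set (IrrCharacter G))
    (hstab : ∀ χ ∈ B, ∃ ψ ∈ B, ∀ g : G, (ψ : G → ℂ) g = (χ : G → ℂ) (g ^ k)) :
    Set.BijOn (twist k hk) B B := by
  have hmaps : Set.MapsTo (twist k hk) B B := by
    intro χ hχ
    obtain ⟨ψ, hψ, h⟩ := hstab χ hχ
    have : twist k hk χ = ψ := by
      apply Subtype.ext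
      funext g
      rw [twist_apply, h]
    rw [this]; exact hψ
  exact (Set.Finite.injOn_iff_bijOn_of_mapsTo (Set.toFinite B) hmaps).mp
    ((twist_injective k hk).injOn)

/-- the idempotent coefficients of a stable set are invariant under inversion on odd order
elements -/
theorem blockCoeff_inv (k : ℕ) (hk : k.Coprime (Nat.card G))
    (hk₂ : ∀ g : G, Odd (orderOf g) → g ^ k = g⁻¹) (B : Set (IrrCharacter G))
    (hstab : ∀ χ ∈ B, ∃ ψ ∈ B, ∀ g : G, (ψ : G → ℂ) g = (χ : G → ℂ) (g ^ k))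
    (g : G) (hg : Odd (orderOf g)) : blockCoeff B g⁻¹ = blockCoeff B g := by
  have hbij := twist_bijOn k hk B hstab
  unfold blockCoeff
  congr 1
  -- reindex the right hand side along the twist
  have h1 : ∑ᶠ χ ∈ B, (χ : G → ℂ) 1 * conj ((χ : G → ℂ) g⁻¹)
      = ∑ᶠ χ ∈ B, ((twist k hk χ : IrrCharacter G) : G → ℂ) 1 *
          conj (((twist k hk χ : IrrCharacter G) : G → ℂ) g⁻¹) :=
    (finsum_mem_eq_of_bijOn (twist k hk) hbij (fun _ _ => rfl)).symm
  rw [h1]
  refine finsum_mem_congr rfl fun χ _ => ?_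
  rw [twist_apply, twist_apply, one_pow]
  have hginv : Odd (orderOf g⁻¹) := by rwa [orderOf_inv]
  rw [hk₂ g⁻¹ hginv, inv_inv]

/-- a quotient of natural numbers with the same `p`-part is a unit of the local ring -/
theorem not_memLocalIdeal_div {p : ℕ} {M : Ideal AlgInt} (hM : IsPModular p M) (m d : ℕ)
    (hm : m ≠ 0) (hd : d ≠ 0) (h : m.factorization p = d.factorization p) :
    ¬ MemLocalIdeal M ((m : ℂ) / (d : ℂ)) := by
  intro hmem
  have hMp : M.IsPrime := hM.2.1.isPrime
  have h1 := Cfsg.Agent.Lib.Helper22.memLocalRing_div_of_factorization_le hM d m hm h.le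
  have h2 := memLocalIdeal_mul_right hMp hmem h1
  have hm' : (m : ℂ) ≠ 0 := by exact_mod_cast hm
  have hd' : (d : ℂ) ≠ 0 := by exact_mod_cast hd
  have h3 : (m : ℂ) / (d : ℂ) * ((d : ℂ) / (m : ℂ)) = 1 := by field_simp
  rw [h3] at h2
  exact not_memLocalIdeal_one hMp h2

end Cfsg.Agent.S4517

namespace Cfsg.Agent.S4517

open Cfsg.Agent.Lib.Helper82 Cfsg.Agent.Lib.Helper05 Cfsg.Agent.Lib.Helper21
open scoped ComplexConjugate

theorem result {G : Type*} [Group G] [Finite G] (M : Ideal Cfsg.AlgInt) (hM : Cfsg.IsPModular 2 M) (k : ℕ) (hk : Nat.Coprime k (Nat.card G)) (hk₂ : ∀ g : G, Odd (orderOf g) → g ^ k = g⁻¹) (B : Set (Cfsg.IrrCharacter G)) (hB : Cfsg.IsPBlock M B) (hdef : Cfsg.blockDefect 2 B = (Nat.card G).factorization 2) (hstab : ∀ χ ∈ B, ∃ ψ ∈ B, ∀ g : G, (ψ : G → ℂ) g = (χ : G → ℂ) (g ^ k)) : B = Cfsg.principalBlock M G := by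
  classical
  haveI : Fintype G := Fintype.ofFinite G
  haveI : Finite (IrrCharacter G) := finite_irrCharacter
  haveI : Fintype (IrrCharacter G) := Fintype.ofFinite _
  haveI : Fact (Nat.Prime 2) := ⟨Nat.prime_two⟩
  have hMp : M.IsPrime := hM.2.1.isPrime
  obtain ⟨χ₁, hBeq⟩ := hB
  let χ₀ : IrrCharacter G := ⟨fun _ => (1 : ℂ), isIrrCharacter_one⟩
  suffices h0 : χ₀ ∈ B by
    rw [hBeq] at h0 ⊢
    have h1 : SameBlock M (χ₁ : G → ℂ) (χ₀ : G → ℂ) := mem_blockOf_iff.mp h0
    exact blockOf_eq_of_sameBlock hMp h1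
  by_contra h0
  have hχ₁B : χ₁ ∈ B := by rw [hBeq]; exact mem_blockOf_iff.mpr (sameBlock_refl hMp _)
  -- the idempotent coefficients
  have haR : ∀ g, MemLocalRing M (blockCoeff B g) := fun g => by
    rw [hBeq]; exact memLocalRing_blockCoeff_blockOf hMp χ₁ g
  have hasing : ∀ g : G, 2 ∣ orderOf g → blockCoeff B g = 0 := fun g hg => by
    rw [hBeq]; exact blockCoeff_eq_zero_of_singular hM χ₁ g hg
  have hainv : ∀ g : G, Odd (orderOf g) → blockCoeff B g⁻¹ = blockCoeff B g :=
    fun g hg => blockCoeff_inv k hk hk₂ B hstab g hg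
  have hsum : ∑ g : G, blockCoeff B g = 0 := by
    have := omega_blockCoeff B χ₀
    rw [if_neg h0] at this
    simpa [omega, χ₀] using this
  -- pass to the residue field
  let A : G → localSubring M hMp := fun g => ⟨blockCoeff B g, haR g⟩
  haveI : CharP (LocalResidue M hMp) 2 := localResidue_charP hM
  have hS : ∑ g ∈ (Finset.univ.erase (1 : G)), residueMap M hMp (A g) = 0 := by
    apply Finset.sum_involution (fun g _ => g⁻¹)
    · intro g _
      by_cases h2 : 2 ∣ orderOf g
      · have e1 : A g = 0 := Subtype.ext (hasing g h2)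
        have e2 : A g⁻¹ = 0 := Subtype.ext (hasing g⁻¹ (by rwa [orderOf_inv]))
        rw [e1, e2]; simp
      · have hodd : Odd (orderOf g) := Nat.odd_iff.mpr (Nat.two_dvd_ne_zero.mp h2)
        have e : A g⁻¹ = A g := Subtype.ext (hainv g hodd)
        rw [e]; exact CharTwo.add_self_eq_zero _
    · intro g hg hne hinv
      have hg1 : g ≠ 1 := Finset.ne_of_mem_erase hg
      have hsq : g ^ 2 = 1 := by
        rw [pow_two]
        calc g * g = g⁻¹ * g := by rw [hinv]
          _ = 1 := inv_mul_cancel g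
      have h2 : orderOf g = 2 := orderOf_eq_prime hsq hg1
      have e1 : A g = 0 := Subtype.ext (hasing g (by rw [h2]))
      rw [e1] at hne
      exact hne (map_zero _)
    · intro g _
      exact inv_inv g
    · intro g hg
      have hg1 : g ≠ 1 := Finset.ne_of_mem_erase hg
      exact Finset.mem_erase.mpr ⟨inv_ne_one.mpr hg1, Finset.mem_univ _⟩
  have hA0 : ∑ g : G, A g = 0 := by
    apply Subtype.ext
    have h1 := map_sum (localSubring M hMp).subtype A Finset.univ
    rw [Subring.coe_subtype] at h1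
    rw [h1]
    exact hsum
  have hres : residueMap M hMp (A 1) = 0 := by
    have h1 := congrArg (residueMap M hMp) hA0
    rw [map_sum, map_zero, ← Finset.add_sum_erase _ _ (Finset.mem_univ (1 : G)), hS, add_zero] at h1
    exact h1
  have hmem : MemLocalIdeal M (blockCoeff B 1) := (residueMap_eq_zero_iff M hMp (A 1)).mp hres
  -- a character of odd degree in `B`
  set S := (fun χ : IrrCharacter G => (charDegree (χ : G → ℂ)).factorization 2) '' B with hSdef
  have hSne : S.Nonempty := ⟨_, χ₁, hχ₁B, rfl⟩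
  obtain ⟨χ', hχ'B, hχ'⟩ := Nat.sInf_mem hSne
  have hχ'0 : (charDegree (χ' : G → ℂ)).factorization 2 = 0 := by
    have h1 : (charDegree (χ' : G → ℂ)).factorization 2 ≤ (Nat.card G).factorization 2 :=
      Cfsg.Agent.Lib.Helper22.factorization_charDegree_le_card χ'
    unfold blockDefect at hdef
    rw [← hSdef] at hdef
    simp only at hχ'
    omega
  have hBχ' : blockOf M (χ' : G → ℂ) = B := by
    rw [hBeq] at hχ'B ⊢
    exact (blockOf_eq_of_sameBlock hMp (mem_blockOf_iff.mp hχ'B)).symm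
  have hfac := factorization_sum_degree_sq hM χ' (fun χ'' _ => by rw [hχ'0]; exact Nat.zero_le _)
  rw [hχ'0, add_zero] at hfac
  simp_rw [hBχ'] at hfac
  set N := ∑ ψ : IrrCharacter G, if ψ ∈ B then charDegree (ψ : G → ℂ) ^ 2 else 0 with hN
  have hNpos : N ≠ 0 := by
    have h1 : charDegree (χ' : G → ℂ) ^ 2 ≤ N := by
      have := Finset.single_le_sum (f := fun ψ : IrrCharacter G =>
        if ψ ∈ B then charDegree (ψ : G → ℂ) ^ 2 else 0) (fun _ _ => Nat.zero_le _)
        (Finset.mem_univ χ')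
      simpa [hχ'B] using this
    have h2 : 0 < charDegree (χ' : G → ℂ) := IsIrrCharacter.charDegree_pos χ'.2
    have h3 : 0 < charDegree (χ' : G → ℂ) ^ 2 := by positivity
    omega
  have hcoeff : blockCoeff B 1 = (N : ℂ) / (Nat.card G : ℂ) := by
    rw [blockCoeff_eq_sum B 1, hN]
    push_cast
    rw [div_eq_inv_mul]
    congr 1
    refine Finset.sum_congr rfl fun ψ _ => ?_
    split_ifs with h
    · have hψc : IsCharacter G (ψ : G → ℂ) := Cfsg.Agent.Lib.Helper05.IsIrrCharacter.isCharacter ψ.2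
      rw [← Cfsg.Agent.Lib.Helper83.charDegree_cast hψc]
      simp [pow_two]
    · rfl
  rw [hcoeff] at hmem
  exact not_memLocalIdeal_div hM N (Nat.card G) hNpos Nat.card_pos.ne' hfac hmem

end Cfsg.Agent.S4517
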