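import Cfsg.Statements.S4518
import Cfsg.Agent.S4566
import Cfsg.Agent.Lib.Helper80.GaloisChar
import Cfsg.Agent.Lib.Helper84.Clifford

set_option autoImplicit false
open Cfsg

namespace Cfsg.Agent.S4518

open scoped ComplexConjugate

local notation "cF" => Cfsg.Agent.Lib.Helper84.conjFun

/-- The (left) conjugation action of `G` on functions on a normal subgroup. -/
@[reducible] def conjAct {G : Type*} [Group G] (N : Subgroup G) [N.Normal] :
    MulAction G (N → ℂ) where
  smul g f := cF N g⁻¹ f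
  one_smul f := by
    show cF N (1 : G)⁻¹ f = f
    rw [inv_one, Cfsg.Agent.Lib.Helper84.conjFun_one]
  mul_smul g h f := by
    show cF N (g * h)⁻¹ f = cF N g⁻¹ (cF N h⁻¹ f)
    rw [mul_inv_rev, Cfsg.Agent.Lib.Helper84.conjFun_mul]

/-- the power twist -/
def powFun {N : Type*} [Group N] (k : ℕ) (f : N → ℂ) : N → ℂ := fun n => f (n ^ k)

theorem powFun_conjFun {G : Type*} [Group G] (N : Subgroup G) [hN : N.Normal] (k : ℕ) (a : G)
    (f : N → ℂ) : powFun k (cF N a f) = cF N a (powFun k f) := by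
  funext n
  simp only [powFun, Cfsg.Agent.Lib.Helper84.conjFun_apply]
  congr 1
  apply Subtype.ext
  simp [conj_pow]

/-- Let N be a normal subgroup of the finite group G whose index is not divisible by the prime p, and let k be coprime to the order of G with k ^ (p ^ e) ≡ 1 modulo the order of G for some e (so g ↦ g ^ k induces a field automorphism of p-power order on character values). If an irreducible character χ of G satisfies χ (g ^ k) = χ g for all g, then every irreducible constituent θ of the restriction of χ to N satisfies θ (n ^ k) = θ n for all n. -/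
theorem result {G : Type*} [Group G] [Fintype G] (p : ℕ) [Fact p.Prime] (N : Subgroup G) [N.Normal] [Fintype N] (hidx : ¬ p ∣ N.index) (k e : ℕ) (hk : Nat.Coprime k (Nat.card G)) (hke : k ^ (p ^ e) ≡ 1 [MOD Nat.card G]) (χ : Cfsg.IrrCharacter G) (hχ : ∀ g : G, (χ : G → ℂ) (g ^ k) = (χ : G → ℂ) g) (θ : Cfsg.IrrCharacter N) (hθ : Cfsg.classInner (fun n : N => (χ : G → ℂ) n) (θ : N → ℂ) ≠ 0) : ∀ n : N, (θ : N → ℂ) (n ^ k) = (θ : N → ℂ) n := by
  classical
  have hkN : k.Coprime (Nat.card N) := Nat.Coprime.coprime_dvd_right (Subgroup.card_subgroup_dvd_card N) hk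
  -- the twisted character is irreducible and a constituent
  have hσirr : IsIrrCharacter N (powFun k θ.1) :=
    Cfsg.Agent.Lib.Helper80.isIrrCharacter_pow_coprime θ.2 k hkN
  have hσcon : Cfsg.classInner (fun n : N => (χ : G → ℂ) n) (powFun k θ.1) ≠ 0 := by
    have : Cfsg.classInner (fun n : N => (χ : G → ℂ) n) (powFun k θ.1) =
        Cfsg.classInner (fun n : N => (χ : G → ℂ) n) (θ : N → ℂ) := by
      unfold Cfsg.classInner
      congr 1
      rw [← Equiv.sum_comp (powCoprime hkN.symm)
        (fun n : N => (χ : G → ℂ) n * conj ((θ : N → ℂ) n))]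
      apply Finset.sum_congr rfl
      intro n _
      simp only [powFun, powCoprime_apply, Subgroup.coe_pow, hχ]
    rw [this]; exact hθ
  obtain ⟨h, hh⟩ := Cfsg.Agent.Lib.Helper84.clifford_exists_conj N χ.2 θ.2 hσirr hθ hσcon
  -- the orbit
  letI := conjAct N
  let Ω : Set (N → ℂ) := MulAction.orbit G (θ : N → ℂ)
  haveI : Finite Ω := Set.finite_range _
  letI : Fintype Ω := Fintype.ofFinite _
  have hmem : ∀ φ : N → ℂ, φ ∈ Ω → powFun k φ ∈ Ω := by
    rintro φ ⟨g, rfl⟩
    show powFun k (cF N g⁻¹ θ.1) ∈ Ω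
    rw [powFun_conjFun, ← hh, ← Cfsg.Agent.Lib.Helper84.conjFun_mul]
    refine ⟨(h * g⁻¹)⁻¹, ?_⟩
    show cF N ((h * g⁻¹)⁻¹)⁻¹ θ.1 = _
    rw [inv_inv]
  let f : Function.End Ω := fun x => ⟨powFun k x.1, hmem x.1 x.2⟩
  have hfpow : ∀ (j : ℕ) (x : Ω), ((f ^ j) x).1 = powFun (k ^ j) x.1 := by
    intro j
    induction j with
    | zero =>
      intro x
      simp only [pow_zero]
      funext n
      show x.1 n = powFun 1 x.1 n
      simp [powFun]
    | succ j ih =>
      intro x
      rw [pow_succ]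
      show ((f ^ j) (f x)).1 = _
      rw [ih]
      funext n
      simp only [powFun, f, pow_succ, pow_mul]
  have hf1 : f ^ p ^ e = 1 := by
    funext x
    apply Subtype.ext
    rw [hfpow]
    show powFun (k ^ p ^ e) x.1 = x.1
    funext n
    simp only [powFun]
    have h1 : n ^ (k ^ p ^ e) = n ^ 1 := by
      rw [pow_eq_pow_iff_modEq]
      have h2 : orderOf n ∣ Nat.card G :=
        dvd_trans (orderOf_dvd_natCard n) (Subgroup.card_subgroup_dvd_card N)
      exact hke.of_dvd h2
    rw [h1, pow_one]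
  have hcard := Equiv.Perm.card_fixedPoints_modEq (p := p) (n := e) hf1
  -- the orbit has size prime to p
  have hΩ : ¬ p ∣ Fintype.card Ω := by
    have h1 : (MulAction.stabilizer G (θ : N → ℂ)).index = Fintype.card Ω := by
      rw [MulAction.index_stabilizer, ← Nat.card_coe_set_eq, Nat.card_eq_fintype_card]
    have h2 : N ≤ MulAction.stabilizer G (θ : N → ℂ) := by
      intro n hn
      rw [MulAction.mem_stabilizer_iff]
      show cF N n⁻¹ θ.1 = θ.1
      funext m
      rw [Cfsg.Agent.Lib.Helper84.conjFun_apply]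
      have h3 := Cfsg.Agent.S4566.irr_char_conj θ.1 θ.2 m (⟨n, hn⟩⁻¹ : N)
      rw [← h3]
      congr 1
    intro hdvd
    apply hidx
    rw [← h1] at hdvd
    exact dvd_trans hdvd (Subgroup.index_dvd_of_le h2)
  -- a fixed point exists
  have hfix : 0 < Fintype.card (Function.fixedPoints f) := by
    by_contra h0
    have h00 : Fintype.card (Function.fixedPoints f) = 0 := by omega
    rw [h00] at hcard
    exact hΩ ((Nat.modEq_zero_iff_dvd).1 hcard)
  obtain ⟨⟨x, hx⟩⟩ := Fintype.card_pos_iff.1 hfix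
  obtain ⟨φ, g, rfl⟩ := x
  have h5 : powFun k (cF N g⁻¹ θ.1) = cF N g⁻¹ θ.1 := congrArg Subtype.val hx
  rw [powFun_conjFun] at h5
  have h6 := congrArg (cF N g⁻¹⁻¹) h5
  rw [Cfsg.Agent.Lib.Helper84.conjFun_inv_conjFun,
    Cfsg.Agent.Lib.Helper84.conjFun_inv_conjFun] at h6
  intro n
  exact congrFun h6 n

end Cfsg.Agent.S4518
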