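import Cfsg.Statements.S4520
import Cfsg.Agent.S4517
import Cfsg.Agent.S4438
import Cfsg.Agent.Lib.Helper85.PrincipalNormal
import Cfsg.Agent.Lib.Helper82.Fong
import Cfsg.Agent.Lib.Helper82.BlockBasic
import Cfsg.Agent.Lib.Helper80.GaloisChar
import Cfsg.Agent.Lib.Helper79.BlockIndep
import Cfsg.Agent.Lib.Helper81.DefectBasic
import Cfsg.Agent.Lib.Helper81.ThirdMain
import Cfsg.Agent.Lib.Helper22.DefectConj
import Cfsg.Agent.Lib.Helper22.PrincipalSection

set_option autoImplicit false
open Cfsg

namespace Cfsg.Agent.S4520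

/-- Let N be a normal subgroup of odd index in the finite group G, M a maximal ideal of the algebraic integers containing 2, and k coprime to the order of G with k ^ (2 ^ e) ≡ 1 modulo the order of G for some e and g ^ k = g⁻¹ for every element g of odd order. Let θ be an irreducible character of N and χ an irreducible character of G over θ, both unchanged by composing with g ↦ g ^ k. Then χ lies in the principal 2-block of G if and only if θ lies in the principal 2-block of N. -/
theorem result {G : Type*} [Group G] [Fintype G] (M : Ideal Cfsg.AlgInt) (hM : Cfsg.IsPModular 2 M) (N : Subgroup G) [N.Normal] [Fintype N] (hidx : Odd N.index) (k e : ℕ) (hk : Nat.Coprime k (Nat.card G)) (hke : k ^ (2 ^ e) ≡ 1 [MOD Nat.card G]) (hk₂ : ∀ g : G, Odd (orderOf g) → g ^ k = g⁻¹) (θ : Cfsg.IrrCharacter N) (hθ : ∀ n : N, (θ : N → ℂ) (n ^ k) = (θ : N → ℂ) n) (χ : Cfsg.IrrCharacter G) (hχ : ∀ g : G, (χ : G → ℂ) (g ^ k) = (χ : G → ℂ) g) (hover : Cfsg.classInner (fun n : N => (χ : G → ℂ) n) (θ : N → ℂ) ≠ 0)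 : χ ∈ Cfsg.principalBlock M G ↔ θ ∈ Cfsg.principalBlock M N := by
  classical
  have : Fact (Nat.Prime 2) := ⟨Nat.prime_two⟩
  have hMp : M.IsPrime := hM.2.1.isPrime
  have hb : Cfsg.IsPBlock M (Cfsg.principalBlock M N) :=
    Cfsg.Agent.Lib.Helper22.isPBlock_principalBlock M N
  have hinv : Cfsg.Agent.Lib.Helper82.IsInvariantSet N (Cfsg.principalBlock M N) :=
    Cfsg.Agent.Lib.Helper85.PrincipalNormal.isInvariantSet_principalBlock N
  constructor
  · intro hχB
    have h1 : χ ∈ Cfsg.Agent.Lib.Helper82.overSet N (Cfsg.principalBlock M N) :=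
      Cfsg.Agent.Lib.Helper85.PrincipalNormal.principalBlock_subset_overSet N hM hχB
    exact Cfsg.Agent.Lib.Helper82.mem_of_overSet N hM hb hinv h1
      (Cfsg.Agent.Lib.Helper82.mem_blockOf_self hMp χ) hover
  · intro hθb
    -- the block of χ
    have hB : Cfsg.IsPBlock M (Cfsg.blockOf M (χ : G → ℂ)) :=
      Cfsg.Agent.Lib.Helper82.isPBlock_blockOf χ
    have hχB : χ ∈ Cfsg.blockOf M (χ : G → ℂ) := Cfsg.Agent.Lib.Helper82.mem_blockOf_self hMp χ
    -- (1) stability
    have hcc : ∀ (ψ : G → ℂ) (g : G), Cfsg.centralChar (fun x => ψ (x ^ k)) g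
        = Cfsg.centralChar ψ (g ^ k) := by
      intro ψ g
      unfold Cfsg.centralChar
      rw [Cfsg.Agent.Lib.Helper79.centralizer_pow_coprime g k hk]
      simp only [one_pow]
    have hχfun : (fun x => (χ : G → ℂ) (x ^ k)) = (χ : G → ℂ) := funext hχ
    have hstab : ∀ ψ ∈ Cfsg.blockOf M (χ : G → ℂ), ∃ ψ' ∈ Cfsg.blockOf M (χ : G → ℂ),
        ∀ g : G, (ψ' : G → ℂ) g = (ψ : G → ℂ) (g ^ k) := by
      intro ψ hψ
      refine ⟨⟨fun g => (ψ : G → ℂ) (g ^ k),
        Cfsg.Agent.Lib.Helper80.isIrrCharacter_pow_coprime ψ.2 k hk⟩, ?_, fun g => rfl⟩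
      intro g
      show Cfsg.MemLocalIdeal M (Cfsg.centralChar (χ : G → ℂ) g
        - Cfsg.centralChar (fun x => (ψ : G → ℂ) (x ^ k)) g)
      rw [hcc, ← hχfun, hcc]
      exact hψ (g ^ k)
    -- (2) full defect
    have hdef : Cfsg.blockDefect 2 (Cfsg.blockOf M (χ : G → ℂ)) = (Nat.card G).factorization 2 := by
      obtain ⟨Q', hQ'⟩ := Cfsg.Agent.Lib.Helper81.exists_isDefectGroup' hM hb
      have hQ'card : Nat.card Q' = 2 ^ Cfsg.blockDefect 2 (Cfsg.principalBlock M N) :=
        Cfsg.Agent.Lib.Helper22.IsDefectGroup.card_eq hM hb hQ'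
      have hbdef : Cfsg.blockDefect 2 (Cfsg.principalBlock M N) = (Nat.card N).factorization 2 := by
        unfold Cfsg.blockDefect
        have h0 : sInf ((fun χ : Cfsg.IrrCharacter N =>
            (Cfsg.charDegree (χ : N → ℂ)).factorization 2) '' Cfsg.principalBlock M N) = 0 := by
          rw [Nat.sInf_eq_zero]
          left
          refine ⟨Cfsg.Agent.Lib.Helper83.trivChar N,
            Cfsg.Agent.Lib.Helper81.trivChar_mem_principalBlock hMp, ?_⟩
          have : Cfsg.charDegree ((Cfsg.Agent.Lib.Helper83.trivChar N : Cfsg.IrrCharacter N) : N → ℂ)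
              = 1 := by
            unfold Cfsg.charDegree
            rw [Cfsg.Agent.Lib.Helper83.trivChar_apply]
            simp
          show (Cfsg.charDegree ((Cfsg.Agent.Lib.Helper83.trivChar N : Cfsg.IrrCharacter N) : N → ℂ)).factorization 2 = 0
          rw [this]
          simp
        rw [h0, Nat.sub_zero]
      set Q : Subgroup G := Q'.map N.subtype with hQdef
      have hQN : Q ≤ N := by
        rintro x ⟨y, _, rfl⟩
        exact y.2
      have hQsub : Q.subgroupOf N = Q' := by
        rw [hQdef]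
        exact Subgroup.comap_map_eq_self_of_injective N.subtype_injective Q'
      have hQcard : Nat.card Q = Nat.card Q' := by
        rw [hQdef]
        exact Nat.card_congr (Q'.equivMapOfInjective N.subtype N.subtype_injective).symm.toEquiv
      obtain ⟨P, hP, hPN⟩ := Cfsg.Agent.S4438.result 2 M hM N (Cfsg.principalBlock M N) hb Q hQN
        (by rw [hQsub]; exact hQ') (Cfsg.blockOf M (χ : G → ℂ)) hB ⟨χ, hχB, θ, hθb, hover⟩
      have hPcard : Nat.card P = 2 ^ Cfsg.blockDefect 2 (Cfsg.blockOf M (χ : G → ℂ)) :=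
        Cfsg.Agent.Lib.Helper22.IsDefectGroup.card_eq hM hB hP
      have hQP : Q ≤ P := by rw [← hPN]; exact inf_le_left
      have hdvd : Nat.card Q ∣ Nat.card P := Subgroup.card_dvd_of_le hQP
      rw [hQcard, hQ'card, hPcard, hbdef] at hdvd
      have hle1 : (Nat.card N).factorization 2 ≤ Cfsg.blockDefect 2 (Cfsg.blockOf M (χ : G → ℂ)) :=
        (Nat.pow_dvd_pow_iff_le_right (by norm_num)).1 hdvd
      have hle2 : Cfsg.blockDefect 2 (Cfsg.blockOf M (χ : G → ℂ)) ≤ (Nat.card G).factorization 2 := by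
        unfold Cfsg.blockDefect
        exact Nat.sub_le _ _
      have hNG : (Nat.card G).factorization 2 = (Nat.card N).factorization 2 := by
        rw [← Subgroup.card_mul_index N]
        have hN0 : Nat.card N ≠ 0 := Nat.card_pos.ne'
        have hi0 : N.index ≠ 0 := by
          intro h0
          rw [h0] at hidx
          exact (Nat.not_odd_iff_even.2 ⟨0, rfl⟩) hidx
        rw [Nat.factorization_mul hN0 hi0]
        have : N.index.factorization 2 = 0 := by
          apply Nat.factorization_eq_zero_of_not_dvd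
          intro h2
          exact (Nat.not_even_iff_odd.2 hidx) (even_iff_two_dvd.2 h2)
        simp [this]
      omega
    have hfin := Cfsg.Agent.S4517.result M hM k hk hk₂ (Cfsg.blockOf M (χ : G → ℂ)) hB hdef hstab
    rw [← hfin]
    exact hχB

end Cfsg.Agent.S4520
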