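import Cfsg.Statements.S4521
import Mathlib
import Cfsg.Agent.S0941
import Cfsg.Agent.S0188
import Cfsg.Agent.Lib.Helper85.Ramification
import Cfsg.Agent.Lib.Helper85.CliffordRel
import Cfsg.Agent.Lib.Helper22.Covering
import Cfsg.Agent.Lib.Helper21.Osima
import Cfsg.Agent.Lib.Helper82.LocalRing
import Cfsg.Agent.Lib.Helper82.BlockBasic
import Cfsg.Agent.Lib.Helper83.Decompose
import Cfsg.Agent.Lib.Helper83.Linear
import Cfsg.Agent.Lib.Helper84.NormalAction
import Cfsg.Agent.Lib.Helper83.Orthogonality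

set_option autoImplicit false
open Cfsg

namespace Cfsg.Agent.S4521

/-- The centralizer of a pair in a product group has index the product of the indices. -/
theorem index_centralizer_pair {A B : Type*} [Group A] [Group B] (a : A) (b : B) :
    (Subgroup.centralizer ({(a, b)} : Set (A × B))).index =
      (Subgroup.centralizer ({a} : Set A)).index * (Subgroup.centralizer ({b} : Set B)).index := by
  have h : Subgroup.centralizer ({(a, b)} : Set (A × B)) =
      (Subgroup.centralizer ({a} : Set A)).prod (Subgroup.centralizer ({b} : Set B)) := by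
    ext ⟨x, y⟩
    simp only [Subgroup.mem_centralizer_iff, Set.mem_singleton_iff, forall_eq, Subgroup.mem_prod,
      Prod.mk_mul_mk, Prod.mk.injEq]
  rw [h, Subgroup.index_prod]

/-- Central characters of product functions are products of central characters. -/
theorem centralChar_pair {A B : Type*} [Group A] [Group B] (f : A → ℂ) (g : B → ℂ) (a : A)
    (b : B) : Cfsg.centralChar (fun x : A × B => f x.1 * g x.2) (a, b) =
      Cfsg.centralChar f a * Cfsg.centralChar g b := by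
  unfold Cfsg.centralChar
  rw [index_centralizer_pair, div_mul_div_comm]
  push_cast
  show _ * (f a * g b) / (f 1 * g 1) = _
  congr 1
  ring

/-- Central character of the constant function `1` on a product. -/
theorem centralChar_one_pair {A B : Type*} [Group A] [Group B] (a : A) (b : B) :
    Cfsg.centralChar (fun _ : A × B => (1 : ℂ)) (a, b) =
      Cfsg.centralChar (fun _ : A => (1 : ℂ)) a * Cfsg.centralChar (fun _ : B => (1 : ℂ)) b := by
  have h := centralChar_pair (fun _ : A => (1 : ℂ)) (fun _ : B => (1 : ℂ)) a b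
  simp only [mul_one] at h
  exact h

/-- The central character at the identity of a function not vanishing there. -/
theorem centralChar_at_one {A : Type*} [Group A] (f : A → ℂ) (hf : f 1 ≠ 0) :
    Cfsg.centralChar f 1 = 1 := by
  unfold Cfsg.centralChar
  have h : Subgroup.centralizer ({(1 : A)} : Set A) = ⊤ := by
    ext x
    simp [Subgroup.mem_centralizer_iff]
  rw [h, Subgroup.index_top, Nat.cast_one, one_mul, div_self hf]

/-- Principal block membership in a direct product. -/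
theorem sameBlock_one_pair_iff {A B : Type*} [Group A] [Group B] [Finite A] [Finite B]
    {M : Ideal Cfsg.AlgInt} (hMp : M.IsPrime) (α : Cfsg.IrrCharacter A) (β : Cfsg.IrrCharacter B) :
    Cfsg.SameBlock M (fun _ : A × B => (1 : ℂ)) (fun x : A × B => (α : A → ℂ) x.1 * (β : B → ℂ) x.2) ↔
      Cfsg.SameBlock M (fun _ : A => (1 : ℂ)) (α : A → ℂ) ∧
        Cfsg.SameBlock M (fun _ : B => (1 : ℂ)) (β : B → ℂ) := by
  classical
  let _ : Fintype A := Fintype.ofFinite A
  let _ : Fintype B := Fintype.ofFinite B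
  let _ : Fintype (Cfsg.IrrCharacter B) := Fintype.ofFinite _
  have hα1 : (α : A → ℂ) 1 ≠ 0 := Cfsg.Agent.Lib.Helper83.irr_degree_ne_zero α
  have hβ1 : (β : B → ℂ) 1 ≠ 0 := Cfsg.Agent.Lib.Helper83.irr_degree_ne_zero β
  constructor
  · intro h
    constructor
    · intro a
      have := h (a, 1)
      rw [centralChar_one_pair, centralChar_pair, centralChar_at_one _ hβ1,
        centralChar_at_one (fun _ : B => (1 : ℂ)) one_ne_zero, mul_one, mul_one] at this
      exact this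
    · intro b
      have := h (1, b)
      rw [centralChar_one_pair, centralChar_pair, centralChar_at_one _ hα1,
        centralChar_at_one (fun _ : A => (1 : ℂ)) one_ne_zero, one_mul, one_mul] at this
      exact this
  · rintro ⟨hA, hB⟩ ⟨a, b⟩
    rw [centralChar_one_pair, centralChar_pair]
    have e : Cfsg.centralChar (fun _ : A => (1 : ℂ)) a * Cfsg.centralChar (fun _ : B => (1 : ℂ)) b -
        Cfsg.centralChar (α : A → ℂ) a * Cfsg.centralChar (β : B → ℂ) b =
        Cfsg.centralChar (fun _ : A => (1 : ℂ)) a *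
          (Cfsg.centralChar (fun _ : B => (1 : ℂ)) b - Cfsg.centralChar (β : B → ℂ) b) +
        (Cfsg.centralChar (fun _ : A => (1 : ℂ)) a - Cfsg.centralChar (α : A → ℂ) a) *
          Cfsg.centralChar (β : B → ℂ) b := by ring
    rw [e]
    apply Cfsg.Agent.Lib.Helper82.memLocalIdeal_add hMp
    · apply Cfsg.Agent.Lib.Helper82.memLocalIdeal_mul_left hMp _ (hB b)
      unfold Cfsg.centralChar
      rw [mul_one, div_one]
      exact Cfsg.Agent.Lib.Helper82.memLocalRing_natCast hMp _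
    · exact Cfsg.Agent.Lib.Helper82.memLocalIdeal_mul_right hMp (hA a)
        (Cfsg.Agent.Lib.Helper21.memLocalRing_centralChar hMp β b)

/-- Let the finite group G be generated by subgroups U₁ and U₂ that commute elementwise and whose intersection is a p-group, and let M be a maximal ideal of the algebraic integers containing the prime p. If the irreducible character χ of G has the irreducible constituents ψ₁ on U₁ and ψ₂ on U₂, then χ lies in the principal block of G if and only if ψ₁ and ψ₂ lie in the principal blocks of U₁ and U₂. -/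
theorem result {G : Type*} [Group G] [Fintype G] (p : ℕ) [Fact p.Prime] (M : Ideal Cfsg.AlgInt) (hM : Cfsg.IsPModular p M) (U₁ U₂ : Subgroup G) [Fintype U₁] [Fintype U₂] (hcomm : ∀ u ∈ U₁, ∀ v ∈ U₂, u * v = v * u) (hgen : U₁ ⊔ U₂ = ⊤) (hZ : IsPGroup p ↥(U₁ ⊓ U₂)) (χ : Cfsg.IrrCharacter G) (ψ₁ : Cfsg.IrrCharacter U₁) (ψ₂ : Cfsg.IrrCharacter U₂) (h₁ : Cfsg.classInner (fun u : U₁ => (χ : G → ℂ) u) (ψ₁ : U₁ → ℂ) ≠ 0) (h₂ : Cfsg.classInner (fun u : U₂ => (χ : G → ℂ) u) (ψ₂ : U₂ → ℂ) ≠ 0) : χ ∈ Cfsg.principalBlock M G ↔ (ψ₁ ∈ Cfsg.principalBlock M U₁ ∧ ψ₂ ∈ Cfsg.principalBlock M U₂) := by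
  classical
  have hMp : M.IsPrime := hM.2.1.isPrime
  let φ : ↥U₁ × ↥U₂ →* G := MonoidHom.noncommCoprod U₁.subtype U₂.subtype
    (fun u v => hcomm u u.2 v v.2)
  have hφ : ∀ x : ↥U₁ × ↥U₂, φ x = (x.1 : G) * (x.2 : G) := fun x => rfl
  have hsurj : Function.Surjective φ := by
    have hr : φ.range = U₁.subtype.range ⊔ U₂.subtype.range :=
      MonoidHom.noncommCoprod_range _ _ _
    rw [← MonoidHom.range_eq_top, hr, Subgroup.range_subtype, Subgroup.range_subtype]
    exact hgen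
  -- the kernel is a central `p`-subgroup
  set Q : Subgroup (↥U₁ × ↥U₂) := φ.ker with hQ
  have hker : ∀ x : ↥U₁ × ↥U₂, x ∈ Q →
      ((x.1 : G) ∈ U₁ ⊓ U₂) ∧ (x.2 : G) = (x.1 : G)⁻¹ := by
    intro x hx
    have h1 : (x.1 : G) * (x.2 : G) = 1 := MonoidHom.mem_ker.1 hx
    have h2 : (x.2 : G) = (x.1 : G)⁻¹ := eq_inv_of_mul_eq_one_right h1
    refine ⟨⟨x.1.2, ?_⟩, h2⟩
    have h3 : (x.1 : G) = (x.2 : G)⁻¹ := by rw [h2, inv_inv]
    rw [h3]
    exact U₂.inv_mem x.2.2
  have hQp : IsPGroup p Q := by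
    rintro ⟨x, hx⟩
    obtain ⟨h1, h2⟩ := hker x hx
    obtain ⟨k, hk⟩ := hZ ⟨(x.1 : G), h1⟩
    refine ⟨k, ?_⟩
    have e1 : (x.1 : G) ^ p ^ k = 1 := by
      have := congrArg Subtype.val hk
      simpa using this
    apply Subtype.ext
    apply Prod.ext
    · apply Subtype.ext
      simp [e1]
    · apply Subtype.ext
      simp [h2, e1]
  have hQc : Subgroup.centralizer (Q : Set (↥U₁ × ↥U₂)) = ⊤ := by
    rw [eq_top_iff]
    intro y _
    rw [Subgroup.mem_centralizer_iff]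
    intro x hx
    obtain ⟨h1, h2⟩ := hker x hx
    apply Prod.ext
    · apply Subtype.ext
      show (x.1 : G) * (y.1 : G) = (y.1 : G) * (x.1 : G)
      exact (hcomm y.1 y.1.2 x.1 h1.2).symm
    · apply Subtype.ext
      show (x.2 : G) * (y.2 : G) = (y.2 : G) * (x.2 : G)
      have h3 : (x.2 : G) ∈ U₁ := by rw [h2]; exact U₁.inv_mem h1.1
      exact hcomm x.2 h3 y.2 y.2.2
  have hidx : ∃ k : ℕ, (Subgroup.centralizer (Q : Set (↥U₁ × ↥U₂))).index = p ^ k :=
    ⟨0, by rw [hQc, Subgroup.index_top, pow_zero]⟩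
  obtain ⟨hdom, _⟩ := Cfsg.Agent.S0941.result p M hM Q hQp hidx
  -- the isomorphism with the quotient
  let e : (↥U₁ × ↥U₂) ⧸ Q ≃* G := QuotientGroup.quotientKerEquivOfSurjective φ hsurj
  have he : ∀ x : ↥U₁ × ↥U₂, e (QuotientGroup.mk x) = φ x := fun x => rfl
  let χq : Cfsg.IrrCharacter ((↥U₁ × ↥U₂) ⧸ Q) :=
    ⟨fun q => (χ : G → ℂ) (e q), Cfsg.Agent.Lib.Helper84.isIrrCharacter_comp_mulEquiv e χ.2⟩
  let oneq : Cfsg.IrrCharacter ((↥U₁ × ↥U₂) ⧸ Q) :=
    ⟨fun _ => 1, Cfsg.Agent.Lib.Helper83.isIrrCharacter_one⟩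
  have hstep1 : χ ∈ Cfsg.principalBlock M G ↔
      Cfsg.SameBlock M (oneq : (↥U₁ × ↥U₂) ⧸ Q → ℂ) (χq : (↥U₁ × ↥U₂) ⧸ Q → ℂ) := by
    constructor
    · intro h q
      have h1 : Cfsg.MemLocalIdeal M (Cfsg.centralChar (fun _ : G => (1 : ℂ)) (e q) -
          Cfsg.centralChar (χ : G → ℂ) (e q)) := h (e q)
      rw [← Cfsg.Agent.Lib.Helper22.centralChar_comp_mulEquiv e (χ : G → ℂ) q,
        ← Cfsg.Agent.Lib.Helper22.centralChar_comp_mulEquiv e (fun _ : G => (1 : ℂ)) q] at h1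
      exact h1
    · intro h g
      obtain ⟨q, rfl⟩ := e.surjective g
      have h1 : Cfsg.MemLocalIdeal M
          (Cfsg.centralChar (fun x : (↥U₁ × ↥U₂) ⧸ Q => (fun _ : G => (1 : ℂ)) (e x)) q -
          Cfsg.centralChar (fun x : (↥U₁ × ↥U₂) ⧸ Q => (χ : G → ℂ) (e x)) q) := h q
      rw [Cfsg.Agent.Lib.Helper22.centralChar_comp_mulEquiv e (χ : G → ℂ) q,
        Cfsg.Agent.Lib.Helper22.centralChar_comp_mulEquiv e (fun _ : G => (1 : ℂ)) q] at h1
      exact h1
  have hstep2 := hdom oneq χq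
  -- the character of the product group
  have hΘ : Cfsg.IsIrrCharacter (↥U₁ × ↥U₂) (fun x => (χ : G → ℂ) (φ x)) :=
    Cfsg.Agent.Lib.Helper85.isIrrCharacter_comp_surjective φ hsurj χ.2
  obtain ⟨α₁, α₂, hα₁, hα₂, hΘeq⟩ := (Cfsg.Agent.S0188.result _).1 hΘ
  have hval : ∀ (u : U₁) (v : U₂), (χ : G → ℂ) ((u : G) * (v : G)) = α₁ u * α₂ v :=
    fun u v => congrFun hΘeq (u, v)
  have hα₁1 : α₁ 1 ≠ 0 := Cfsg.Agent.Lib.Helper83.irr_degree_ne_zero ⟨α₁, hα₁⟩
  have hα₂1 : α₂ 1 ≠ 0 := Cfsg.Agent.Lib.Helper83.irr_degree_ne_zero ⟨α₂, hα₂⟩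
  have e₁ : α₁ = (ψ₁ : U₁ → ℂ) := by
    by_contra hne
    apply h₁
    have hres : (fun u : U₁ => (χ : G → ℂ) u) = α₂ 1 • α₁ := by
      funext u
      have := hval u 1
      rw [Subgroup.coe_one, mul_one] at this
      rw [this, Pi.smul_apply, smul_eq_mul, mul_comm]
    rw [hres, Cfsg.Agent.Lib.Helper83.classInner_smul_left,
      Cfsg.Agent.Lib.Helper85.irr_inner_eq_ite hα₁ ψ₁.2, if_neg hne, mul_zero]
  have e₂ : α₂ = (ψ₂ : U₂ → ℂ) := by
    by_contra hne
    apply h₂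
    have hres : (fun u : U₂ => (χ : G → ℂ) u) = α₁ 1 • α₂ := by
      funext u
      have := hval 1 u
      rw [Subgroup.coe_one, one_mul] at this
      rw [this, Pi.smul_apply, smul_eq_mul]
    rw [hres, Cfsg.Agent.Lib.Helper83.classInner_smul_left,
      Cfsg.Agent.Lib.Helper85.irr_inner_eq_ite hα₂ ψ₂.2, if_neg hne, mul_zero]
  rw [hstep1, hstep2]
  have hA : ((oneq : (↥U₁ × ↥U₂) ⧸ Q → ℂ) ∘ (QuotientGroup.mk : ↥U₁ × ↥U₂ → (↥U₁ × ↥U₂) ⧸ Q)) =
      fun _ => (1 : ℂ) := rfl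
  have hB : ((χq : (↥U₁ × ↥U₂) ⧸ Q → ℂ) ∘ (QuotientGroup.mk : ↥U₁ × ↥U₂ → (↥U₁ × ↥U₂) ⧸ Q)) =
      fun x : ↥U₁ × ↥U₂ => (ψ₁ : U₁ → ℂ) x.1 * (ψ₂ : U₂ → ℂ) x.2 := by
    funext x
    show (χ : G → ℂ) (e (QuotientGroup.mk x)) = _
    rw [he, hφ, ← e₁, ← e₂]
    exact hval x.1 x.2
  rw [hA, hB]
  exact sameBlock_one_pair_iff hMp ψ₁ ψ₂

end Cfsg.Agent.S4521
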