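import Cfsg.Statements.S4539
import Cfsg.Agent.Lib.Helper85.MajorTwo
import Cfsg.Agent.Lib.Helper22.DefectConj

set_option autoImplicit false
open Cfsg

namespace Cfsg.Agent.S4539

/-- Let B be a p-block of the finite group G (relative to a maximal ideal M of the algebraic integers containing p) of defect d with defect group D. Let z be an element of D commuting with every element of D, and let b be a block of the centralizer C of z with defect group D that induces B (a major subsection (z, b)). If b has p-regular rank at most two, then B contains at most p ^ d irreducible characters. -/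
theorem result {G : Type*} [Group G] [Finite G] (p : ℕ) [Fact p.Prime] (M : Ideal Cfsg.AlgInt) (hM : Cfsg.IsPModular p M) (B : Set (Cfsg.IrrCharacter G)) (hB : Cfsg.IsPBlock M B) (D : Subgroup G) (hD : Cfsg.IsDefectGroup p M B D) (z : G) (hzD : z ∈ D) (hzc : ∀ d ∈ D, d * z = z * d) (b : Set (Cfsg.IrrCharacter ↥(Subgroup.centralizer ({z} : Set G)))) (hb : Cfsg.IsInducedBlock M (Subgroup.centralizer ({z} : Set G)) b B) (hbD : Cfsg.IsDefectGroup p M b (D.subgroupOf (Subgroup.centralizer ({z} : Set G)))) (hl : Cfsg.blockRank p b ≤ 2) : Nat.card B ≤ p ^ Cfsg.blockDefect p B := by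
  classical
  haveI : Fintype G := Fintype.ofFinite G
  haveI : Fintype (Subgroup.centralizer ({z} : Set G)) := Fintype.ofFinite _
  have hp : p.Prime := Fact.out
  -- `D` lies in the centralizer of `z`
  have hDC : D ≤ Subgroup.centralizer ({z} : Set G) := by
    intro x hx
    rw [Subgroup.mem_centralizer_singleton_iff]
    exact hzc x hx
  -- the orders of the defect groups
  have hcD : Nat.card D = p ^ Cfsg.blockDefect p B :=
    Cfsg.Agent.Lib.Helper22.IsDefectGroup.card_eq hM hB hD
  have hcD' : Nat.card (D.subgroupOf (Subgroup.centralizer ({z} : Set G))) =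
      p ^ Cfsg.blockDefect p b :=
    Cfsg.Agent.Lib.Helper22.IsDefectGroup.card_eq hM hb.1 hbD
  have hcard : Nat.card (D.subgroupOf (Subgroup.centralizer ({z} : Set G))) = Nat.card D :=
    Nat.card_congr (Subgroup.subgroupOfEquivOfLe hDC).toEquiv
  have hdef : Cfsg.blockDefect p b = Cfsg.blockDefect p B := by
    apply Nat.pow_right_injective hp.two_le
    show p ^ Cfsg.blockDefect p b = p ^ Cfsg.blockDefect p B
    rw [← hcD', ← hcD, hcard]
  -- `z` is a `p`-element
  have hz : z ^ (p ^ Cfsg.blockDefect p B) = 1 := by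
    have h1 : (⟨z, hzD⟩ : D) ^ Nat.card D = 1 := pow_card_eq_one'
    rw [hcD] at h1
    have h2 := congrArg (fun x : D => (x : G)) h1
    simpa using h2
  obtain ⟨χ₀, rfl⟩ := hB
  obtain ⟨ψ₀, rfl⟩ := hb.1
  exact Cfsg.Agent.Lib.Helper85.MajorTwo.card_le_pow_of_blockRank_le_two hM z _ hz ψ₀ χ₀ hb hdef hl

end Cfsg.Agent.S4539
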