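import Cfsg.Statements.S4540
import Cfsg.Agent.Lib.Helper85.MajorThree
import Cfsg.Agent.Lib.Helper22.DefectConj

set_option autoImplicit false
open Cfsg

namespace Cfsg.Agent.S4540

/-- Let B be a 2-block of the finite group G (relative to a maximal ideal M of the algebraic integers containing 2) of defect d with defect group D. Let z be an element of D commuting with every element of D, and let b be a block of the centralizer C of z with defect group D that induces B (a major subsection (z, b)). If b has 2-regular rank at most three, then 3·k(B) ≤ 3·k₀(B) + 2·Σ 2 ^ h(χ), where k(B) is the number of members of B, k₀(B) the number of members of height zero, and the sum runs over the members χ of B of positive height h(χ); this bound is at most 3·2 ^ d, so in particular B contains at most 2 ^ d irreducible characters. -/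
theorem result {G : Type*} [Group G] [Finite G] (M : Ideal Cfsg.AlgInt) (hM : Cfsg.IsPModular 2 M) (B : Set (Cfsg.IrrCharacter G)) (hB : Cfsg.IsPBlock M B) (D : Subgroup G) (hD : Cfsg.IsDefectGroup 2 M B D) (z : G) (hzD : z ∈ D) (hzc : ∀ d ∈ D, d * z = z * d) (b : Set (Cfsg.IrrCharacter ↥(Subgroup.centralizer ({z} : Set G)))) (hb : Cfsg.IsInducedBlock M (Subgroup.centralizer ({z} : Set G)) b B) (hbD : Cfsg.IsDefectGroup 2 M b (D.subgroupOf (Subgroup.centralizer ({z} : Set G)))) (hl : Cfsg.blockRank 2 b ≤ 3) : 3 * Nat.card B ≤ 3 * Nat.card {χ : Cfsg.IrrCharacter G // χ ∈ B ∧ Cfsg.blockHeight 2 B (χ : G → ℂ) = 0} + 2 * (∑ᶠ χ ∈ {χ : Cfsg.IrrCharacter G | χ ∈ B ∧ 1 ≤ Cfsg.blockHeight 2 B (χ : G → ℂ)}, 2 ^ Cfsg.blockHeight 2 B (χ : G → ℂ)) ∧ 3 * Nat.card {χ : Cfsg.IrrCharacter G // χ ∈ B ∧ Cfsg.blockHeight 2 B (χ : G → ℂ) = 0} + 2 * (∑ᶠ χ ∈ {χ : Cfsg.IrrCharacter G | χ ∈ B ∧ 1 ≤ Cfsg.blockHeight 2 B (χ : G → ℂ)}, 2 ^ Cfsg.blockHeight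 2 B (χ : G → ℂ)) ≤ 3 * 2 ^ Cfsg.blockDefect 2 B := by
  classical
  haveI : Fintype G := Fintype.ofFinite G
  haveI : Fintype (Subgroup.centralizer ({z} : Set G)) := Fintype.ofFinite _
  haveI : Fintype (Cfsg.IrrCharacter G) := Fintype.ofFinite _
  have hp : (2 : ℕ).Prime := Nat.prime_two
  -- `D` lies in the centralizer of `z`
  have hDC : D ≤ Subgroup.centralizer ({z} : Set G) := by
    intro x hx
    rw [Subgroup.mem_centralizer_singleton_iff]
    exact hzc x hx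
  -- the orders of the defect groups
  have hcD : Nat.card D = 2 ^ Cfsg.blockDefect 2 B :=
    Cfsg.Agent.Lib.Helper22.IsDefectGroup.card_eq hM hB hD
  have hcD' : Nat.card (D.subgroupOf (Subgroup.centralizer ({z} : Set G))) =
      2 ^ Cfsg.blockDefect 2 b :=
    Cfsg.Agent.Lib.Helper22.IsDefectGroup.card_eq hM hb.1 hbD
  have hcard : Nat.card (D.subgroupOf (Subgroup.centralizer ({z} : Set G))) = Nat.card D :=
    Nat.card_congr (Subgroup.subgroupOfEquivOfLe hDC).toEquiv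
  have hdef : Cfsg.blockDefect 2 b = Cfsg.blockDefect 2 B := by
    apply Nat.pow_right_injective (le_refl 2)
    show 2 ^ Cfsg.blockDefect 2 b = 2 ^ Cfsg.blockDefect 2 B
    rw [← hcD', ← hcD, hcard]
  -- `z` is a `2`-element
  have hz : z ^ (2 ^ Cfsg.blockDefect 2 B) = 1 := by
    have h1 : (⟨z, hzD⟩ : D) ^ Nat.card D = 1 := pow_card_eq_one'
    rw [hcD] at h1
    have h2 := congrArg (fun x : D => (x : G)) h1
    simpa using h2
  obtain ⟨χ₀, rfl⟩ := hB
  obtain ⟨ψ₀, rfl⟩ := hb.1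
  set B := Cfsg.blockOf M (χ₀ : G → ℂ) with hBdef
  set ht : Cfsg.IrrCharacter G → ℕ := fun χ => Cfsg.blockHeight 2 B (χ : G → ℂ) with hht
  set K0 : Finset (Cfsg.IrrCharacter G) := Finset.univ.filter (fun χ => χ ∈ B ∧ ht χ = 0)
    with hK0
  set K1 : Finset (Cfsg.IrrCharacter G) := Finset.univ.filter (fun χ => χ ∈ B ∧ 1 ≤ ht χ)
    with hK1
  set s : Finset (Cfsg.IrrCharacter G) := Finset.univ.filter (fun χ => χ ∈ B) with hs
  have hmain := Cfsg.Agent.Lib.Helper85.MajorThree.sum_wt_le hM z _ hz ψ₀ χ₀ hb hdef hl s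
    (fun χ hχ => (Finset.mem_filter.1 hχ).2)
  -- the cardinalities
  have hcard0 : Nat.card {χ : Cfsg.IrrCharacter G // χ ∈ B ∧ ht χ = 0} = K0.card := by
    rw [Nat.card_eq_fintype_card, Fintype.card_subtype]
  have hcardB : Nat.card B = s.card := by
    rw [Nat.card_eq_fintype_card, Fintype.card_subtype]
  have hfin : (∑ᶠ χ ∈ {χ : Cfsg.IrrCharacter G | χ ∈ B ∧ 1 ≤ ht χ}, 2 ^ ht χ) =
      ∑ χ ∈ K1, 2 ^ ht χ := by
    have hset : {χ : Cfsg.IrrCharacter G | χ ∈ B ∧ 1 ≤ ht χ} = (K1 : Set (Cfsg.IrrCharacter G)) := by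
      ext χ
      simp [hK1]
    rw [hset, finsum_mem_coe_finset]
  have hs0 : s.filter (fun χ => ht χ = 0) = K0 := by
    rw [hs, hK0, Finset.filter_filter]
  have hs1 : s.filter (fun χ => ¬ ht χ = 0) = K1 := by
    rw [hs, hK1, Finset.filter_filter]
    apply Finset.filter_congr
    intro χ _
    constructor
    · rintro ⟨h1, h2⟩
      exact ⟨h1, by omega⟩
    · rintro ⟨h1, h2⟩
      exact ⟨h1, by omega⟩
  have hscard : s.card = K0.card + K1.card := by
    rw [← hs0, ← hs1]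
    exact (Finset.card_filter_add_card_filter_not _).symm
  have hwt : ∑ χ ∈ s, Cfsg.Agent.Lib.Helper85.MajorThree.wt (ht χ) =
      ((3 * K0.card + 2 * ∑ χ ∈ K1, 2 ^ ht χ : ℕ) : ℝ) := by
    unfold Cfsg.Agent.Lib.Helper85.MajorThree.wt
    rw [Finset.sum_ite, hs0, hs1, Finset.sum_const, nsmul_eq_mul]
    push_cast
    rw [Finset.mul_sum]
    have : ∀ χ ∈ K1, (2 : ℝ) ^ (ht χ + 1) = 2 * 2 ^ ht χ := fun χ _ => by rw [pow_succ]; ring
    rw [Finset.sum_congr rfl this]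
    ring
  show 3 * Nat.card B ≤ 3 * Nat.card {χ : Cfsg.IrrCharacter G // χ ∈ B ∧ ht χ = 0} +
      2 * (∑ᶠ χ ∈ {χ : Cfsg.IrrCharacter G | χ ∈ B ∧ 1 ≤ ht χ}, 2 ^ ht χ) ∧
    3 * Nat.card {χ : Cfsg.IrrCharacter G // χ ∈ B ∧ ht χ = 0} +
      2 * (∑ᶠ χ ∈ {χ : Cfsg.IrrCharacter G | χ ∈ B ∧ 1 ≤ ht χ}, 2 ^ ht χ) ≤
      3 * 2 ^ Cfsg.blockDefect 2 B
  rw [hcard0, hcardB, hfin, hscard]
  constructor
  · have h1 : 3 * K1.card ≤ 2 * ∑ χ ∈ K1, 2 ^ ht χ := by
      rw [Finset.mul_sum]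
      calc 3 * K1.card = ∑ _χ ∈ K1, 3 := by rw [Finset.sum_const, smul_eq_mul, mul_comm]
        _ ≤ ∑ χ ∈ K1, 2 * 2 ^ ht χ := by
          apply Finset.sum_le_sum
          intro χ hχ
          have h2 : 1 ≤ ht χ := (Finset.mem_filter.1 hχ).2.2
          have h3 : 2 ^ 1 ≤ 2 ^ ht χ := Nat.pow_le_pow_right (by norm_num) h2
          omega
    omega
  · rw [hwt] at hmain
    have h2 : ((3 * K0.card + 2 * ∑ χ ∈ K1, 2 ^ ht χ : ℕ) : ℝ) ≤
        ((3 * 2 ^ Cfsg.blockDefect 2 B : ℕ) : ℝ) := by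
      refine hmain.trans (le_of_eq ?_)
      push_cast
      rfl
    exact_mod_cast h2

end Cfsg.Agent.S4540
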