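import Cfsg.Statements.S4541
import Cfsg.Agent.Lib.Helper82.ContribInt
import Cfsg.Agent.Lib.Helper82.ContribExtra
import Cfsg.Agent.Lib.Helper82.ContribTwo
import Cfsg.Agent.Lib.Helper17.CycAMGM
import Cfsg.Agent.Lib.Helper31.TwoPowAvg

set_option autoImplicit false
set_option linter.style.haveILetI false
open Cfsg

namespace Cfsg.Agent.S4541

open Cfsg.Agent.Lib.Helper82 Cfsg.Agent.Lib.Helper21 Cfsg.Agent.Lib.Helper83
open scoped ComplexConjugate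

/-- The case `l ≤ 3` of the arithmetic. -/
theorem le_of_rank_le_three (k Q l : ℕ) (h1 : Odd (Nat.sqrt l) → k ≤ Nat.sqrt l * Q)
    (h2 : ¬ Odd (Nat.sqrt l) → (Nat.sqrt l + 1) * k ≤ l * Q) (hl : l ≤ 3) : k ≤ Q := by
  have hs0 : Nat.sqrt 0 = 0 := (Nat.eq_sqrt.2 ⟨by norm_num, by norm_num⟩).symm
  have hs1 : Nat.sqrt 1 = 1 := (Nat.eq_sqrt.2 ⟨by norm_num, by norm_num⟩).symm
  have hs2 : Nat.sqrt 2 = 1 := (Nat.eq_sqrt.2 ⟨by norm_num, by norm_num⟩).symm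
  have hs3 : Nat.sqrt 3 = 1 := (Nat.eq_sqrt.2 ⟨by norm_num, by norm_num⟩).symm
  interval_cases l
  · rw [hs0] at h2
    have := h2 (by decide)
    omega
  · rw [hs1] at h1
    have := h1 (by decide)
    omega
  · rw [hs2] at h1
    have := h1 (by decide)
    omega
  · rw [hs3] at h1
    have := h1 (by decide)
    omega

/-- Let B be a 2-block of the finite group G (relative to a maximal ideal M of the algebraic integers containing 2), u a 2-element, and b a block of the centralizer of u inducing B (a subsection (u, b)), of defect q and 2-regular rank l; write s for the integer square root of l and k₀(B) for the number of members of B of height zero. If s is odd then k₀(B) ≤ s·2 ^ q, and otherwise (s + 1)·k₀(B) ≤ l·2 ^ q; in particular k₀(B) ≤ 2 ^ q when l ≤ 3. -/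
theorem result {G : Type*} [Group G] [Finite G] (M : Ideal Cfsg.AlgInt) (hM : Cfsg.IsPModular 2 M) (B : Set (Cfsg.IrrCharacter G)) (hB : Cfsg.IsPBlock M B) (u : G) (hu : ∃ j : ℕ, orderOf u = 2 ^ j) (b : Set (Cfsg.IrrCharacter ↥(Subgroup.centralizer ({u} : Set G)))) (hb : Cfsg.IsInducedBlock M (Subgroup.centralizer ({u} : Set G)) b B) : (Odd (Nat.sqrt (Cfsg.blockRank 2 b)) → Nat.card {χ : Cfsg.IrrCharacter G // χ ∈ B ∧ Cfsg.blockHeight 2 B (χ : G → ℂ) = 0} ≤ Nat.sqrt (Cfsg.blockRank 2 b) * 2 ^ Cfsg.blockDefect 2 b) ∧ (¬ Odd (Nat.sqrt (Cfsg.blockRank 2 b)) → (Nat.sqrt (Cfsg.blockRank 2 b) + 1) * Nat.card {χ : Cfsg.IrrCharacter G // χ ∈ B ∧ Cfsg.blockHeight 2 B (χ : G → ℂ) = 0} ≤ Cfsg.blockRank 2 b * 2 ^ Cfsg.blockDefect 2 b) ∧ (Cfsg.blockRank 2 b ≤ 3 → Nat.card {χ : Cfsg.IrrCharacter G // χ ∈ B ∧ Cfsg.blockHeight 2 B (χ : G → ℂ) = 0} ≤ 2 ^ Cfsg.blockDefect 2 b) := by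
  classical
  haveI : Fintype G := Fintype.ofFinite G
  haveI : Fintype (IrrCharacter G) := Fintype.ofFinite _
  haveI : Fintype (Subgroup.centralizer ({u} : Set G)) := Fintype.ofFinite _
  haveI : Fintype (IrrCharacter (Subgroup.centralizer ({u} : Set G))) := Fintype.ofFinite _
  haveI : Fact (Nat.Prime 2) := ⟨Nat.prime_two⟩
  have hMp : M.IsPrime := hM.2.1.isPrime
  obtain ⟨χ₀, rfl⟩ := hB
  obtain ⟨n, hn⟩ := hu
  -- the data
  set T : (ZMod (2 ^ n))ˣ → IrrCharacter G → IrrCharacter G → ℂ :=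
    fun j χ χ' => ((2 ^ blockDefect 2 b : ℕ) : ℂ) *
      contrib 2 b (u ^ (j : ZMod (2 ^ n)).val) (χ : G → ℂ) (χ' : G → ℂ) with hT
  have hTsum : ∀ (j : (ZMod (2 ^ n))ˣ) (χ χ' : IrrCharacter G), T j χ χ' =
      ∑ i, ((contribCoeff 2 u b χ χ' i : ℤ) : ℂ) * cenMu u i ^ (j : ZMod (2 ^ n)).val := by
    intro j χ χ'
    rw [hT]
    exact contrib_pow_eq_sum_coeff 2 u b χ χ' _
  have hμ : ∀ i, cenMu u i ^ (2 ^ n) = 1 := by
    intro i
    rw [← hn]
    exact cenMu_pow_orderOf u i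
  set A : IrrCharacter G → ℤ := fun χ =>
    (∑ i ∈ Finset.univ.filter (fun i => cenMu u i = 1), contribCoeff 2 u b χ χ i) -
      (∑ i ∈ Finset.univ.filter (fun i => cenMu u i = -1), contribCoeff 2 u b χ χ i) with hA
  have hcop : ∀ j : (ZMod (2 ^ n))ˣ, Nat.Coprime (j : ZMod (2 ^ n)).val (orderOf u) := by
    intro j
    rw [hn]
    exact ZMod.val_coe_unit_coprime j
  have hx : ∀ j : (ZMod (2 ^ n))ˣ, ∃ k : ℕ, orderOf (u ^ (j : ZMod (2 ^ n)).val) = 2 ^ k :=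
    fun j => ⟨n, by rw [Nat.Coprime.orderOf_pow (hcop j).symm, hn]⟩
  have hC : ∀ j : (ZMod (2 ^ n))ˣ, Subgroup.centralizer ({u} : Set G) =
      Subgroup.centralizer ({u ^ (j : ZMod (2 ^ n)).val} : Set G) :=
    fun j => (centralizer_pow_eq_of_coprime u _ (hcop j)).symm
  -- row idempotency
  have ha : ∀ (j : (ZMod (2 ^ n))ˣ) (χ : IrrCharacter G),
      ∑ χ' : IrrCharacter G, (if χ' ∈ blockOf M (χ₀ : G → ℂ) then
        ((Complex.normSq (T j χ χ') : ℝ) : ℂ) else 0) =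
      ((2 ^ blockDefect 2 b : ℕ) : ℂ) * T j χ χ := by
    intro j χ
    have h := sum_contrib_mul_conj' hM (hx j) (Subgroup.centralizer ({u} : Set G)) (hC j) χ₀ b hb χ
    have h2 : ((2 ^ blockDefect 2 b : ℕ) : ℂ) * T j χ χ =
        ((2 ^ blockDefect 2 b : ℕ) : ℂ) * ((2 ^ blockDefect 2 b : ℕ) : ℂ) *
          contrib 2 b (u ^ (j : ZMod (2 ^ n)).val) (χ : G → ℂ) (χ : G → ℂ) := by
      rw [hT]
      ring
    rw [h2, ← h, Finset.mul_sum]
    refine Finset.sum_congr rfl fun χ' _ => ?_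
    split_ifs
    · rw [← Complex.mul_conj, hT]
      simp only
      rw [map_mul, Complex.conj_natCast]
      ring
    · rw [mul_zero]
  -- the trace
  have hb' : ∀ j : (ZMod (2 ^ n))ˣ,
      ∑ χ : IrrCharacter G, (if χ ∈ blockOf M (χ₀ : G → ℂ) then T j χ χ else 0) =
      ((2 ^ blockDefect 2 b : ℕ) : ℂ) * ((blockRank 2 b : ℕ) : ℂ) := by
    intro j
    have h := sum_contrib_self' hM (hx j) (Subgroup.centralizer ({u} : Set G)) (hC j) χ₀ b hb
    rw [← h, Finset.mul_sum]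
    refine Finset.sum_congr rfl fun χ _ => ?_
    split_ifs
    · rfl
    · rw [mul_zero]
  -- the Galois averages
  have hc : ∀ χ : IrrCharacter G, ∑ j : (ZMod (2 ^ n))ˣ, T j χ χ =
      (Fintype.card (ZMod (2 ^ n))ˣ : ℂ) * ((A χ : ℤ) : ℂ) := by
    intro χ
    rw [Finset.sum_congr rfl fun j _ => hTsum j χ χ, hA]
    convert Cfsg.Agent.Lib.Helper31.TwoPowAvg.sum_units_two_pow_conj n (contribCoeff 2 u b χ χ)
      (cenMu u) hμ
  -- the cyclotomic arithmetic-geometric mean inequality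
  have hd : ∀ χ χ' : IrrCharacter G,
      (χ ∈ blockOf M (χ₀ : G → ℂ) ∧ blockHeight 2 (blockOf M (χ₀ : G → ℂ)) (χ : G → ℂ) = 0) →
      (χ' ∈ blockOf M (χ₀ : G → ℂ) ∧ blockHeight 2 (blockOf M (χ₀ : G → ℂ)) (χ' : G → ℂ) = 0) →
      (Fintype.card (ZMod (2 ^ n))ˣ : ℝ) ≤
        ∑ j : (ZMod (2 ^ n))ˣ, Complex.normSq (T j χ χ') := by
    intro χ χ' hχ hχ'
    have hnd := not_dvd_sum_contribCoeff 2 hM u b (blockOf M (χ₀ : G → ℂ)) hb χ χ' hχ.1 hχ'.1
      hχ.2 hχ'.2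
    have hne : ∀ j : (ZMod (2 ^ n))ˣ,
        ∑ i, ((contribCoeff 2 u b χ χ' i : ℤ) : ℂ) * cenMu u i ^ (j : ZMod (2 ^ n)).val ≠ 0 :=
      fun j => sum_mul_pow_ne_zero_of_not_dvd hM _ _ n hμ hnd _
    have hK := Cfsg.Agent.Lib.Helper17.CycAMGM.card_units_le_sum_normSq_conj (2 ^ n)
      (contribCoeff 2 u b χ χ') (cenMu u) hμ hne
    refine le_trans hK (le_of_eq ?_)
    refine Finset.sum_congr rfl fun j _ => ?_
    rw [hTsum j χ χ']
  -- parity
  have he : ∀ χ : IrrCharacter G,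
      (χ ∈ blockOf M (χ₀ : G → ℂ) ∧ blockHeight 2 (blockOf M (χ₀ : G → ℂ)) (χ : G → ℂ) = 0) →
      Odd (A χ) := by
    intro χ hχ
    have hnd := not_dvd_sum_contribCoeff 2 hM u b (blockOf M (χ₀ : G → ℂ)) hb χ χ hχ.1 hχ.1
      hχ.2 hχ.2
    have hnd' : ¬ (2 : ℤ) ∣ ∑ i, contribCoeff 2 u b χ χ i := by
      intro h
      apply hnd
      exact_mod_cast h
    rw [hA]
    apply odd_sum_filter_sub_sum_filter Prod.swap (fun i => Prod.swap_swap i)
      (contribCoeff 2 u b χ χ) (cenMu u) (contribCoeff_swap 2 u b χ) (cenMu_swap u) _ hnd'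
    intro i hi
    obtain ⟨ψ, ψ'⟩ := i
    have h1 : ψ' = ψ := congrArg Prod.fst hi
    rw [h1]
    exact cenMu_diag u ψ
  -- conclusion
  have hcore := card_height_zero_le_core (X := IrrCharacter G) (J := (ZMod (2 ^ n))ˣ)
    (fun χ => χ ∈ blockOf M (χ₀ : G → ℂ))
    (fun χ => χ ∈ blockOf M (χ₀ : G → ℂ) ∧
      blockHeight 2 (blockOf M (χ₀ : G → ℂ)) (χ : G → ℂ) = 0)
    (fun χ h => h.1) (2 ^ blockDefect 2 b) (blockRank 2 b) (pow_pos two_pos _) T A ha hb' hc hd he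
  have hcard : Nat.card {χ : IrrCharacter G // χ ∈ blockOf M (χ₀ : G → ℂ) ∧
      blockHeight 2 (blockOf M (χ₀ : G → ℂ)) (χ : G → ℂ) = 0} =
      Fintype.card {χ : IrrCharacter G // χ ∈ blockOf M (χ₀ : G → ℂ) ∧
        blockHeight 2 (blockOf M (χ₀ : G → ℂ)) (χ : G → ℂ) = 0} := Nat.card_eq_fintype_card
  rw [hcard]
  exact ⟨hcore.1, hcore.2, le_of_rank_le_three _ _ _ hcore.1 hcore.2⟩

end Cfsg.Agent.S4541
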