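import Cfsg.Statements.S4550
import Cfsg.Agent.Lib.Helper82.WeakOrth
import Cfsg.Agent.Lib.Helper22.DefectClass
import Cfsg.Agent.Lib.Helper80.GaloisChar
import Cfsg.Agent.Lib.Helper82.LocalRing
import Cfsg.Agent.Lib.Helper05.CharBasic
import Cfsg.Agent.Lib.Helper05.CharDecomp
import Cfsg.Agent.Lib.Helper05.PiSection

set_option autoImplicit false
set_option linter.style.haveILetI false
open Cfsg

namespace Cfsg.Agent.S4550

open Cfsg.Agent.Lib.Helper82 Cfsg.Agent.Lib.Helper05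

universe u

/-- `3 ^ (2 ^ n) ≡ 1 (mod 2 ^ (n + 1))`. -/
theorem three_pow_two_pow (n : ℕ) : 3 ^ (2 ^ n) ≡ 1 [MOD 2 ^ (n + 1)] := by
  induction n with
  | zero => decide
  | succ n ih =>
    have h1 : (2 ^ (n + 1) : ℤ) ∣ (3 : ℤ) ^ (2 ^ n) - 1 := by
      have := (Nat.modEq_iff_dvd.mp ih.symm)
      push_cast at this
      exact this
    have h2 : (2 : ℤ) ∣ (3 : ℤ) ^ (2 ^ n) + 1 := by
      have h3 : Odd ((3 : ℤ) ^ (2 ^ n)) := Odd.pow (by decide)
      have := h3.add_odd odd_one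
      exact even_iff_two_dvd.mp this
    have h4 : (2 ^ (n + 1 + 1) : ℤ) ∣ (3 : ℤ) ^ (2 ^ (n + 1)) - 1 := by
      have e : (3 : ℤ) ^ (2 ^ (n + 1)) - 1 = ((3 : ℤ) ^ (2 ^ n) - 1) * ((3 : ℤ) ^ (2 ^ n) + 1) := by
        rw [pow_succ 2 n, pow_mul]; ring
      rw [e, pow_succ (2 : ℤ) (n + 1)]
      exact mul_dvd_mul h1 h2
    apply Nat.ModEq.symm
    apply Nat.modEq_iff_dvd.mpr
    push_cast
    exact h4

variable {G : Type u} [Group G]

/-- iterating the power map on `2`-elements -/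
theorem pow_pow_two_elt (k : ℕ) (hk₁ : ∀ g : G, (∃ j : ℕ, orderOf g = 2 ^ j) → g ^ k = g ^ 3)
    (u : G) (hu : ∃ j : ℕ, orderOf u = 2 ^ j) (m : ℕ) : u ^ (k ^ m) = u ^ (3 ^ m) := by
  induction m with
  | zero => simp
  | succ m ih =>
    calc u ^ (k ^ (m + 1)) = (u ^ k) ^ (k ^ m) := by rw [pow_succ, mul_comm, pow_mul]
      _ = (u ^ 3) ^ (k ^ m) := by rw [hk₁ u hu]
      _ = (u ^ (k ^ m)) ^ 3 := by rw [← pow_mul, mul_comm, pow_mul]
      _ = (u ^ (3 ^ m)) ^ 3 := by rw [ih]
      _ = u ^ (3 ^ (m + 1)) := by rw [← pow_mul, pow_succ]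

/-- iterating the power map on odd order elements -/
theorem pow_pow_odd_elt (k : ℕ) (hk₂ : ∀ g : G, Odd (orderOf g) → g ^ k = g)
    (w : G) (hw : Odd (orderOf w)) (m : ℕ) : w ^ (k ^ m) = w := by
  induction m with
  | zero => simp
  | succ m ih =>
    calc w ^ (k ^ (m + 1)) = (w ^ k) ^ (k ^ m) := by rw [pow_succ, mul_comm, pow_mul]
      _ = w ^ (k ^ m) := by rw [hk₂ w hw]
      _ = w := ih

variable [Finite G]

/-- the power map `g ↦ g ^ k` has `2`-power order -/
theorem pow_pow_eq_self (hev : Even (Nat.card G)) (k : ℕ)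
    (hk₁ : ∀ g : G, (∃ j : ℕ, orderOf g = 2 ^ j) → g ^ k = g ^ 3)
    (hk₂ : ∀ g : G, Odd (orderOf g) → g ^ k = g) (g : G) :
    g ^ (k ^ (2 ^ Nat.card G)) = g := by
  classical
  have hpos : 0 < Nat.card G := Nat.card_pos
  obtain ⟨a, n, hn, hcard⟩ := Nat.exists_eq_two_pow_mul_odd (Nat.card_pos (α := G)).ne'
  have hcop : (2 ^ a).Coprime n := (Nat.coprime_pow_left_iff (by
    rcases Nat.eq_zero_or_pos a with h | h
    · subst h
      rw [pow_zero, one_mul] at hcard
      rw [hcard] at hev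
      exact absurd hev (Nat.not_even_iff_odd.mpr hn)
    · exact h) 2 n).mpr (Nat.coprime_two_left.mpr hn)
  have ha : 0 < a := by
    rcases Nat.eq_zero_or_pos a with h | h
    · subst h
      rw [pow_zero, one_mul] at hcard
      rw [hcard] at hev
      exact absurd hev (Nat.not_even_iff_odd.mpr hn)
    · exact h
  obtain ⟨t, ht0, ht1⟩ := exists_crt_exp hcop
  obtain ⟨u, hgu, hcomm, hu, hw⟩ := exists_decomp_pow_crt hcard ht0 ht1 hcop g
  set w := g ^ t with hwdef
  -- `u` is a 2-element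
  have hu2 : ∃ j : ℕ, orderOf u = 2 ^ j := by
    have h1 : orderOf u ∣ 2 ^ a * n := hcard ▸ orderOf_dvd_natCard u
    have h2 : orderOf u ∣ 2 ^ a := hu.dvd_of_dvd_mul_right h1
    obtain ⟨j, _, hj⟩ := (Nat.dvd_prime_pow Nat.prime_two).mp h2
    exact ⟨j, hj⟩
  -- `w` has odd order
  have hwodd : Odd (orderOf w) := by
    have h1 : (orderOf w).Coprime 2 := Nat.Coprime.coprime_dvd_right (dvd_pow_self 2 ha.ne') hw
    exact Nat.coprime_two_right.mp h1
  set K := k ^ (2 ^ Nat.card G) with hK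
  have e1 : u ^ K = u := by
    rw [hK, pow_pow_two_elt k hk₁ u hu2]
    obtain ⟨j, hj⟩ := hu2
    have h3 : 3 ^ (2 ^ Nat.card G) ≡ 1 [MOD orderOf u] := by
      refine (three_pow_two_pow (Nat.card G)).of_dvd ?_
      rw [hj]
      apply pow_dvd_pow
      have h4 : 2 ^ j ≤ Nat.card G := hj ▸ Nat.le_of_dvd hpos (orderOf_dvd_natCard u)
      have h5 : j < 2 ^ j := Nat.lt_two_pow_self
      omega
    have := pow_eq_pow_iff_modEq.mpr h3
    rwa [pow_one] at this
  have e2 : w ^ K = w := pow_pow_odd_elt k hk₂ w hwodd _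
  calc g ^ K = (u * w) ^ K := by rw [← hgu]
    _ = u ^ K * w ^ K := hcomm.mul_pow K
    _ = u * w := by rw [e1, e2]
    _ = g := hgu.symm

/-- `k` is coprime to the group order -/
theorem coprime_k (hev : Even (Nat.card G)) (k : ℕ)
    (hk₁ : ∀ g : G, (∃ j : ℕ, orderOf g = 2 ^ j) → g ^ k = g ^ 3)
    (hk₂ : ∀ g : G, Odd (orderOf g) → g ^ k = g) : k.Coprime (Nat.card G) := by
  apply Nat.Coprime.symm
  apply Nat.coprime_of_dvd
  intro q hq hqG hqk
  haveI : Fact q.Prime := ⟨hq⟩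
  obtain ⟨g, hg⟩ := exists_prime_orderOf_dvd_card' q hqG
  have h1 : g ^ (k ^ (2 ^ Nat.card G)) = g := pow_pow_eq_self hev k hk₁ hk₂ g
  have h2 : g ^ (k ^ (2 ^ Nat.card G)) = 1 := by
    apply orderOf_dvd_iff_pow_eq_one.mp
    rw [hg]
    exact hqk.trans (dvd_pow_self k (by positivity))
  rw [h1] at h2
  rw [h2, orderOf_one] at hg
  exact hq.one_lt.ne hg

omit [Finite G] in
/-- centralizers of `g` and `g ^ k` agree for `k` coprime to the group order -/
theorem centralizer_pow_eq (k : ℕ) (hk : k.Coprime (Nat.card G)) (g : G) :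
    Subgroup.centralizer ({g ^ k} : Set G) = Subgroup.centralizer ({g} : Set G) := by
  have hk' : k.Coprime (orderOf g) := hk.coprime_dvd_right (orderOf_dvd_natCard g)
  obtain ⟨m, hm⟩ := exists_pow_eq_self_of_coprime hk'
  ext c
  simp only [Subgroup.mem_centralizer_iff, Set.mem_singleton_iff, forall_eq]
  constructor
  · intro h
    have h1 : Commute (g ^ k) c := h
    have := h1.pow_left m
    rw [hm] at this
    exact this
  · intro h
    have h1 : Commute g c := h
    exact h1.pow_left k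

omit [Finite G] in
/-- the principal block is stable under Galois twists by power maps -/
theorem twist_mem_principalBlock (M : Ideal Cfsg.AlgInt) (k : ℕ) (hk : k.Coprime (Nat.card G))
    (χ : G → ℂ) (h : SameBlock M (fun _ : G => (1 : ℂ)) χ) :
    SameBlock M (fun _ : G => (1 : ℂ)) (fun g => χ (g ^ k)) := by
  intro g
  have := h (g ^ k)
  simp only [centralChar, one_pow] at this ⊢
  rw [centralizer_pow_eq k hk g] at this
  exact this

/-- a natural number square modulo two -/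
theorem sq_cast_zmod_two (d : ℕ) : ((d ^ 2 : ℕ) : ZMod 2) = if Odd d then 1 else 0 := by
  rcases Nat.even_or_odd d with h | h
  · rw [if_neg (Nat.not_odd_iff_even.mpr h)]
    obtain ⟨c, rfl⟩ := h
    have : (c + c) ^ 2 = 2 * (2 * c ^ 2) := by ring
    rw [this]; push_cast
    have h2 : (2 : ZMod 2) = 0 := by decide
    rw [h2, zero_mul]
  · rw [if_pos h]
    obtain ⟨c, rfl⟩ := h
    have : (2 * c + 1) ^ 2 = 2 * (2 * c ^ 2 + 2 * c) + 1 := by ring
    rw [this]; push_cast
    have h2 : (2 : ZMod 2) = 0 := by decide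
    rw [h2, zero_mul, zero_add]

/-- The number of odd-degree characters in the principal `2`-block of a group of even order is
even. -/
theorem even_card_odd_principal [Fintype (IrrCharacter G)] (M : Ideal Cfsg.AlgInt)
    (hM : Cfsg.IsPModular 2 M) (hev : Even (Nat.card G)) [DecidablePred (· ∈ principalBlock M G)] :
    Even ((Finset.univ.filter (fun χ : IrrCharacter G => χ ∈ principalBlock M G)).filter
      (fun χ : IrrCharacter G => Odd (charDegree (χ : G → ℂ)))).card := by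
  classical
  haveI : Fintype G := Fintype.ofFinite G
  have hMp : M.IsPrime := hM.2.1.isPrime
  obtain ⟨t, ht⟩ := exists_prime_orderOf_dvd_card' (G := G) 2 (even_iff_two_dvd.mp hev)
  let χ₀ : IrrCharacter G := ⟨fun _ => (1 : ℂ), isIrrCharacter_one⟩
  have hsum := sum_block_mul_eq_zero hM χ₀ (1 : G) t (by simp) (by rw [ht])
  have hB : blockOf M (χ₀ : G → ℂ) = principalBlock M G := rfl
  rw [hB, Cfsg.Agent.Lib.Helper21.finsum_mem_eq_sum_ite, ← Finset.sum_filter] at hsum
  set S := Finset.univ.filter (fun χ : IrrCharacter G => χ ∈ principalBlock M G) with hS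
  -- the sum of squares of degrees lies in the local ideal
  have hN : MemLocalIdeal M ((∑ χ ∈ S, charDegree (χ : G → ℂ) ^ 2 : ℕ) : ℂ) := by
    have e : ((∑ χ ∈ S, charDegree (χ : G → ℂ) ^ 2 : ℕ) : ℂ) =
        ∑ χ ∈ S, (χ : G → ℂ) 1 * ((χ : G → ℂ) 1 - (χ : G → ℂ) t) := by
      have e2 : ∑ χ ∈ S, (χ : G → ℂ) 1 * ((χ : G → ℂ) 1 - (χ : G → ℂ) t) =
          ∑ χ ∈ S, (χ : G → ℂ) 1 * (χ : G → ℂ) 1 - ∑ χ ∈ S, (χ : G → ℂ) 1 * (χ : G → ℂ) t := by
        rw [← Finset.sum_sub_distrib]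
        exact Finset.sum_congr rfl fun χ _ => by ring
      rw [e2, hsum, sub_zero]
      push_cast
      refine Finset.sum_congr rfl fun χ _ => ?_
      rw [Cfsg.Agent.Lib.Helper83.charDegree_cast (Cfsg.Agent.Lib.Helper05.IsIrrCharacter.isCharacter χ.2)]
      ring
    rw [e]
    refine memLocalIdeal_sum hMp _ _ fun χ _ => ?_
    have hχc : IsCharacter G (χ : G → ℂ) := (Cfsg.Agent.Lib.Helper05.IsIrrCharacter.isCharacter χ.2)
    have h1 : MemLocalRing M ((χ : G → ℂ) 1) := by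
      rw [← Cfsg.Agent.Lib.Helper83.charDegree_cast hχc]
      exact memLocalRing_natCast hMp _
    have h2 := Cfsg.Agent.Lib.Helper22.char_mul_sub_memLocalIdeal hM hχc t 1 (by simp) 1
      (by rw [ht, pow_one])
    rw [mul_one] at h2
    have h3 := memLocalIdeal_neg h2
    rw [neg_sub] at h3
    exact memLocalIdeal_mul_left hMp h1 h3
  have h2 : 2 ∣ ∑ χ ∈ S, charDegree (χ : G → ℂ) ^ 2 := (memLocalIdeal_natCast_iff hM _).mp hN
  have h3 : ((∑ χ ∈ S, charDegree (χ : G → ℂ) ^ 2 : ℕ) : ZMod 2) = 0 :=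
    (ZMod.natCast_eq_zero_iff _ 2).mpr h2
  rw [Nat.cast_sum] at h3
  simp_rw [sq_cast_zmod_two] at h3
  rw [Finset.sum_boole] at h3
  have h4 : 2 ∣ (S.filter (fun χ : IrrCharacter G => Odd (charDegree (χ : G → ℂ)))).card :=
    (ZMod.natCast_eq_zero_iff _ 2).mp h3
  exact even_iff_two_dvd.mpr h4

theorem result {G : Type*} [Group G] [Finite G] (M : Ideal Cfsg.AlgInt) (hM : Cfsg.IsPModular 2 M) (hev : Even (Nat.card G)) (k : ℕ) (hk₁ : ∀ g : G, (∃ j : ℕ, orderOf g = 2 ^ j) → g ^ k = g ^ 3) (hk₂ : ∀ g : G, Odd (orderOf g) → g ^ k = g) : Even (Nat.card {χ : Cfsg.IrrCharacter G // χ ∈ Cfsg.principalBlock M G ∧ Odd (Cfsg.charDegree (χ : G → ℂ)) ∧ ∀ g : G, (χ : G → ℂ) (g ^ k) = (χ : G → ℂ) g}) := by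
  classical
  haveI : Fintype G := Fintype.ofFinite G
  haveI : Finite (IrrCharacter G) := finite_irrCharacter
  haveI : Fintype (IrrCharacter G) := Fintype.ofFinite _
  have hcop := coprime_k hev k hk₁ hk₂
  -- the twist
  let τ : IrrCharacter G → IrrCharacter G := fun χ =>
    ⟨fun g => (χ : G → ℂ) (g ^ k),
      Cfsg.Agent.Lib.Helper80.isIrrCharacter_pow_coprime χ.2 k hcop⟩
  have hτ : ∀ (χ : IrrCharacter G) (g : G), ((τ χ : IrrCharacter G) : G → ℂ) g = (χ : G → ℂ) (g ^ k) :=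
    fun _ _ => rfl
  have hdeg : ∀ χ : IrrCharacter G,
      charDegree ((τ χ : IrrCharacter G) : G → ℂ) = charDegree (χ : G → ℂ) := by
    intro χ
    simp only [charDegree, hτ, one_pow]
  let X := {χ : IrrCharacter G // χ ∈ principalBlock M G ∧ Odd (charDegree (χ : G → ℂ))}
  let f : X → X := fun χ =>
    ⟨τ χ.1, twist_mem_principalBlock M k hcop _ χ.2.1, by rw [hdeg]; exact χ.2.2⟩
  have hfiter : ∀ (m : ℕ) (χ : X) (g : G),
      (((f^[m] χ : X) : IrrCharacter G) : G → ℂ) g = ((χ : IrrCharacter G) : G → ℂ) (g ^ (k ^ m)) := by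
    intro m
    induction m with
    | zero => intro χ g; simp
    | succ m ih =>
      intro χ g
      rw [Function.iterate_succ_apply']
      show (((f^[m] χ : X) : IrrCharacter G) : G → ℂ) (g ^ k) = _
      rw [ih, ← pow_mul, pow_succ, mul_comm]
  let F : Function.End X := f
  have hFpow : ∀ m : ℕ, (F ^ m : Function.End X) = (f^[m] : X → X) := by
    intro m
    induction m with
    | zero => rfl
    | succ m ih => rw [pow_succ', ih, Function.iterate_succ']; rfl
  have hf : F ^ 2 ^ (Nat.card G) = 1 := by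
    rw [hFpow]
    funext χ
    show f^[2 ^ Nat.card G] χ = χ
    apply Subtype.ext
    apply Subtype.ext
    funext g
    rw [hfiter, pow_pow_eq_self hev k hk₁ hk₂]
  haveI : Fact (Nat.Prime 2) := ⟨Nat.prime_two⟩
  have hmod := Equiv.Perm.card_fixedPoints_modEq (f := F) (p := 2)
    (n := Nat.card G) hf
  -- `|X|` is even
  have hXeven : Even (Fintype.card X) := by
    have := even_card_odd_principal M hM hev
    rw [Finset.filter_filter] at this
    rwa [Fintype.card_subtype]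
  -- identify the fixed points
  have hequiv : {χ : Cfsg.IrrCharacter G // χ ∈ Cfsg.principalBlock M G ∧
      Odd (Cfsg.charDegree (χ : G → ℂ)) ∧ ∀ g : G, (χ : G → ℂ) (g ^ k) = (χ : G → ℂ) g} ≃
      ↥(Function.fixedPoints (f : X → X)) :=
    { toFun := fun χ => ⟨⟨χ.1, χ.2.1, χ.2.2.1⟩, by
        show f _ = _
        apply Subtype.ext
        apply Subtype.ext
        funext g
        exact χ.2.2.2 g⟩
      invFun := fun x => ⟨x.1.1, x.1.2.1, x.1.2.2, fun g => by
        have h1 : f x.1 = x.1 := x.2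
        have h2 := congrArg (fun y : X => ((y : IrrCharacter G) : G → ℂ) g) h1
        exact h2⟩
      left_inv := fun χ => rfl
      right_inv := fun x => rfl }
  rw [Nat.card_congr hequiv, Nat.card_eq_fintype_card]
  have h5 : Fintype.card ↥(Function.fixedPoints (f : X → X)) % 2 = Fintype.card X % 2 := hmod.symm
  rw [Nat.even_iff] at hXeven ⊢
  omega

end Cfsg.Agent.S4550
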