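import Cfsg.Statements.S4551
import Cfsg.Agent.Lib.Helper05.ADTower
import Cfsg.Agent.Lib.Helper05.ADUnique
import Cfsg.Agent.Lib.Helper85.PrincipalNormal

set_option autoImplicit false
open Cfsg

namespace Cfsg.Agent.S4551

open Cfsg.Agent.Lib.Helper05.ADTower

theorem sylow_le_of_normal {G : Type*} [Group G] [Finite G] {p : ℕ} [hp : Fact p.Prime]
    (N : Subgroup G) [N.Normal] (hidx : ¬ p ∣ N.index) (P : Sylow p G) : (P : Subgroup G) ≤ N := by
  intro x hx
  rw [← QuotientGroup.eq_one_iff]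
  obtain ⟨k, hk⟩ := (P.2 : IsPGroup p P) ⟨x, hx⟩
  have hxk : x ^ p ^ k = 1 := by simpa using congrArg Subtype.val hk
  have h1 : orderOf (x : G ⧸ N) ∣ p ^ k :=
    orderOf_dvd_of_pow_eq_one (by rw [← QuotientGroup.mk_pow, hxk]; rfl)
  have h2 : orderOf (x : G ⧸ N) ∣ N.index := by
    rw [Subgroup.index_eq_card]; exact orderOf_dvd_natCard _
  have hcop : Nat.Coprime (p ^ k) N.index :=
    Nat.Coprime.pow_left k ((Nat.Prime.coprime_iff_not_dvd hp.out).mpr hidx)
  have := (Nat.Coprime.coprime_dvd_left h1 hcop).eq_one_of_dvd h2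
  exact orderOf_eq_one_iff.mp this

/-- Let N be a normal subgroup of the finite group G of index prime to p, P a Sylow p-subgroup of G with G = N·C_G(P), and M a maximal ideal of the algebraic integers containing p. Then restriction to N is a bijection from the principal p-block of G onto the principal p-block of N: every member of the principal block of G restricts to a member of the principal block of N, and every member of the principal block of N is the restriction of exactly one member of the principal block of G. -/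
theorem result {G : Type*} [Group G] [Finite G] (p : ℕ) [Fact p.Prime] (M : Ideal Cfsg.AlgInt) (hM : Cfsg.IsPModular p M) (N : Subgroup G) [N.Normal] (hidx : ¬ p ∣ N.index) (P : Sylow p G) (hsup : N ⊔ Subgroup.centralizer ((P : Subgroup G) : Set G) = ⊤) : (∀ χ ∈ Cfsg.principalBlock M G, ∃ θ ∈ Cfsg.principalBlock M ↥N, ∀ n : N, (χ : G → ℂ) n = (θ : N → ℂ) n) ∧ ∀ θ ∈ Cfsg.principalBlock M ↥N, ∃! χ : Cfsg.IrrCharacter G, χ ∈ Cfsg.principalBlock M G ∧ ∀ n : N, (χ : G → ℂ) n = (θ : N → ℂ) n := by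
  classical
  haveI : Fintype G := Fintype.ofFinite G
  haveI : Fintype N := Fintype.ofFinite N
  have h : Hyp p N (P : Subgroup G) := ⟨sylow_le_of_normal N hidx P, P.not_dvd_index, hsup⟩
  have hE : ExtProp M N := extProp_of_hyp p M hM N (P : Subgroup G) h
  -- the uniqueness tool
  have huniq : ∀ (χ₀ χ : IrrCharacter G) (θ : IrrCharacter N), χ₀ ∈ principalBlock M G →
      χ ∈ principalBlock M G → (∀ n : N, (χ₀ : G → ℂ) n = (θ : N → ℂ) n) →
      classInner (fun n : N => (χ : G → ℂ) n) (θ : N → ℂ) ≠ 0 → χ = χ₀ := by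
    intro χ₀ χ θ hχ₀ hχ hχ₀N hover
    have hres : (fun n : N => (χ₀ : G → ℂ) n) = (θ : N → ℂ) := funext hχ₀N
    apply Subtype.ext
    exact Cfsg.Agent.Lib.Helper05.ADUnique.eq_of_principal_over p M hM N hidx
      (Subgroup.centralizer ((P : Subgroup G) : Set G)) hsup (fun g hg => h.not_dvd_class hg)
      (χ₀ : G → ℂ) (χ : G → ℂ) χ₀.2 χ.2 (by rw [hres]; exact θ.2) hχ₀ hχ (by rw [hres]; exact hover)
  constructor
  · intro χ hχ
    obtain ⟨θ, hθ, hover⟩ :=
      Cfsg.Agent.Lib.Helper85.PrincipalNormal.principalBlock_subset_overSet N hM hχ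
    obtain ⟨χ₀, hχ₀, hχ₀N⟩ := hE θ hθ
    have := huniq χ₀ χ θ hχ₀ hχ hχ₀N hover
    exact ⟨θ, hθ, fun n => by rw [this]; exact hχ₀N n⟩
  · intro θ hθ
    obtain ⟨χ₀, hχ₀, hχ₀N⟩ := hE θ hθ
    refine ⟨χ₀, ⟨hχ₀, hχ₀N⟩, ?_⟩
    rintro χ ⟨hχ, hχN⟩
    apply huniq χ₀ χ θ hχ₀ hχ hχ₀N
    have hres : (fun n : N => (χ : G → ℂ) n) = (θ : N → ℂ) := funext hχN
    rw [hres, Cfsg.Agent.Lib.Helper05.classInner_irr_self θ.2]
    exact one_ne_zero

end Cfsg.Agent.S4551
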