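import Cfsg.Statements.S4563
import Cfsg.Agent.Lib.Helper83.FRInduced
import Cfsg.Agent.Lib.Helper83.HallConverse

set_option autoImplicit false
open Cfsg

namespace Cfsg.Agent.S4563

open Cfsg.Agent.Lib.Helper83

theorem card_map_mk'_eq_relIndex {H : Type*} [Group H] [Finite H] (K M' : Subgroup H) [K.Normal]
    (hKM : K ≤ M') : Nat.card (M'.map (QuotientGroup.mk' K)) = K.relIndex M' := by
  have hsurj : Function.Surjective (QuotientGroup.mk' K) := QuotientGroup.mk'_surjective K
  have hidx : (M'.map (QuotientGroup.mk' K)).index = M'.index :=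
    Subgroup.index_map_eq _ hsurj (by rw [QuotientGroup.ker_mk']; exact hKM)
  have h1 := (M'.map (QuotientGroup.mk' K)).card_mul_index
  rw [hidx] at h1
  have h2 := Subgroup.relIndex_mul_index hKM
  have hcardQ : Nat.card (H ⧸ K) = K.index := rfl
  have hpos : 0 < M'.index := Nat.pos_of_ne_zero Subgroup.index_ne_zero_of_finite
  apply Nat.eq_of_mul_eq_mul_right hpos
  rw [h1, h2, hcardQ]

/-- Let χ be an irreducible character of the finite group H that is fully ramified over the normal subgroup Z: the restriction of χ to Z is e times an irreducible character of Z with e ^ 2 equal to the index of Z. If K is a proper normal subgroup of H containing Z and χ is induced from a character of K, then H/K is solvable; in particular, if K is solvable then so is H. -/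
theorem result {H : Type*} [Group H] [Fintype H] (Z : Subgroup H) [Z.Normal] (χ : Cfsg.IrrCharacter H) (hfr : ∃ (θ : Cfsg.IrrCharacter ↥Z) (e : ℕ), e ^ 2 = Z.index ∧ ∀ z : ↥Z, (χ : H → ℂ) z = (e : ℂ) * (θ : ↥Z → ℂ) z) (K : Subgroup H) [K.Normal] [Fintype K] (hZK : Z ≤ K) (hK : K ≠ ⊤) (φ : ↥K → ℂ) (hφ : Cfsg.IsCharacter ↥K φ) (hind : Cfsg.indFun K φ = (χ : H → ℂ)) : Group.IsSolvable (H ⧸ K) ∧ (Group.IsSolvable ↥K → Group.IsSolvable H) := by
  classical
  obtain ⟨θ, e, he, hχ⟩ := hfr
  have hQ : Group.IsSolvable (H ⧸ K) := by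
    apply isSolvable_of_hasPComplements
    intro p hp
    have : Fact p.Prime := ⟨hp⟩
    obtain ⟨M', hKM, ⟨j, hj⟩, hcop⟩ := fr_exists_sup_index Z χ θ e K hZK he hχ p
      (by
        intro S_H S₀ I₀ _ _ hS₀I₀ hinf _ φ₀ hfix
        exact hyp5_of_induced χ K φ hφ hind S₀ I₀ hS₀I₀ hinf φ₀ hfix)
    refine ⟨M'.map (QuotientGroup.mk' K), ⟨j, ?_⟩, ?_⟩
    · rw [Subgroup.index_map_eq _ (QuotientGroup.mk'_surjective K)
        (by rw [QuotientGroup.ker_mk']; exact hKM), hj]
    · rw [card_map_mk'_eq_relIndex K M' hKM]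
      exact hcop
  refine ⟨hQ, fun hKs => ?_⟩
  exact Group.isSolvable_of_ker_le_range K.subtype (QuotientGroup.mk' K) (by simp)

end Cfsg.Agent.S4563
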