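import Cfsg.Statements.S4564
import Cfsg.Agent.Lib.Helper83.FullyRamified2
import Cfsg.Agent.S0886

set_option autoImplicit false
open Cfsg

namespace Cfsg.Agent.S4564

open scoped ComplexConjugate
open Cfsg.Agent.Lib.Helper83

/-- The divisibility hypothesis of `fr_exists_sup_index` when the relevant section is cyclic:
extension of invariant characters to cyclic extensions. -/
theorem hyp5_of_cyclic {H : Type*} [Group H] [Fintype H] (Z : Subgroup H) [Z.Normal]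
    (χ : Cfsg.IrrCharacter H) (θ : Cfsg.IrrCharacter ↥Z) (e : ℕ) (he : e ^ 2 = Z.index)
    (hχ : ∀ z : ↥Z, (χ : H → ℂ) z = (e : ℂ) * (θ : ↥Z → ℂ) z)
    (K : Subgroup H) [K.Normal] (S₀ I₀ : Subgroup H) [Fintype ↥S₀]
    (hS₀I₀ : S₀ ≤ I₀) (hinf : I₀ ⊓ K = S₀) (hZS₀ : Z ≤ S₀)
    (hcyc : ∃ C : Subgroup (H ⧸ K), IsCyclic C ∧ I₀.map (QuotientGroup.mk' K) ≤ C)
    (φ₀ : Cfsg.IrrCharacter ↥S₀)
    (hfix : ∀ x ∈ I₀, ∀ (s : ↥S₀) (hx : x * s * x⁻¹ ∈ S₀),
        (φ₀ : ↥S₀ → ℂ) ⟨x * s * x⁻¹, hx⟩ = (φ₀ : ↥S₀ → ℂ) s) :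
    ∃ k : ℕ, Cfsg.classInner (fun s : ↥S₀ => (χ : H → ℂ) s) (φ₀ : ↥S₀ → ℂ)
        = ((S₀.relIndex I₀ * k : ℕ) : ℂ) := by
  classical
  have : Fintype ↥I₀ := Fintype.ofFinite _
  obtain ⟨C, hC, hIC⟩ := hcyc
  -- the homomorphism `I₀ → H/K`
  set ψ : ↥I₀ →* H ⧸ K := (QuotientGroup.mk' K).comp I₀.subtype with hψ
  have hmemker : ∀ n : ↥I₀, n ∈ ψ.ker ↔ (n : H) ∈ S₀ := by
    intro n
    rw [MonoidHom.mem_ker, hψ, MonoidHom.comp_apply, QuotientGroup.mk'_apply,
      QuotientGroup.eq_one_iff, ← hinf]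
    exact ⟨fun h => ⟨n.2, h⟩, fun h => h.2⟩
  have hcycQ : IsCyclic (↥I₀ ⧸ ψ.ker) := by
    have := hC
    have hrange : ∀ x : ↥I₀ ⧸ ψ.ker, QuotientGroup.kerLift ψ x ∈ C := by
      intro x
      induction x using QuotientGroup.induction_on with
      | H y =>
        rw [QuotientGroup.kerLift_mk]
        exact hIC ⟨y, y.2, rfl⟩
    exact isCyclic_of_injective ((QuotientGroup.kerLift ψ).codRestrict C hrange)
      (by
        intro a b hab
        apply QuotientGroup.kerLift_injective ψ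
        exact congrArg Subtype.val hab)
  -- the character on the kernel
  let E : ↥ψ.ker ≃* ↥S₀ :=
    { toFun := fun n => ⟨(n : ↥I₀), (hmemker n).1 n.2⟩
      invFun := fun s => ⟨⟨s, hS₀I₀ s.2⟩, (hmemker _).2 s.2⟩
      left_inv := fun n => by rfl
      right_inv := fun s => by rfl
      map_mul' := fun a b => by rfl }
  set ϑ : ↥ψ.ker → ℂ := fun n => (φ₀ : ↥S₀ → ℂ) (E n) with hϑ
  have hϑirr : Cfsg.IsIrrCharacter ↥ψ.ker ϑ :=
    Cfsg.Agent.Lib.Helper84.isIrrCharacter_comp_mulEquiv E φ₀.2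
  have hN : (ψ.ker).Normal := inferInstance
  obtain ⟨ξ, hξirr, hξ⟩ := Cfsg.Agent.S0886.result (G := ↥I₀) ψ.ker hcycQ ϑ hϑirr
    (by
      intro g n
      have hx : (g : H) * ((E n : ↥S₀) : H) * (g : H)⁻¹ ∈ S₀ := by
        have := (hmemker _).1 (hN.conj_mem (n : ↥I₀) n.2 g)
        exact this
      exact hfix g g.2 (E n) hx)
  -- multiplicities
  have hχI : Cfsg.IsCharacter ↥I₀ (fun x : ↥I₀ => (χ : H → ℂ) x) :=
    isCharacter_restrict I₀ (IrrCharacter_isCharacter χ)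
  obtain ⟨k, hk⟩ := classInner_char_nat hχI (isCharacter_of_irr hξirr)
  have hχS : Cfsg.IsCharacter ↥S₀ (fun s : ↥S₀ => (χ : H → ℂ) s) :=
    isCharacter_restrict S₀ (IrrCharacter_isCharacter χ)
  obtain ⟨a, ha⟩ := classInner_char_nat hχS (IrrCharacter_isCharacter φ₀)
  refine ⟨k, ?_⟩
  rw [ha]
  have hsum : ∑ x : ↥I₀, (χ : H → ℂ) x * conj (ξ x)
      = ∑ s : ↥S₀, (χ : H → ℂ) s * conj ((φ₀ : ↥S₀ → ℂ) s) := by
    rw [sum_subgroup_of_support hS₀I₀ (fun x : ↥I₀ => (χ : H → ℂ) x * conj (ξ x))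
      (by
        intro x hx
        rw [fr_vanish Z χ θ e he hχ x (fun hxZ => hx (hZS₀ hxZ)), zero_mul])]
    apply Finset.sum_congr rfl
    intro s _
    have h1 := hξ ⟨⟨s, hS₀I₀ s.2⟩, (hmemker _).2 s.2⟩
    simp only at h1
    rw [h1]
    rfl
  rw [classInner_def] at hk ha
  rw [hsum] at hk
  have hI0 : (Nat.card ↥I₀ : ℂ) ≠ 0 := card_ne_zero_complex
  have hS0 : (Nat.card ↥S₀ : ℂ) ≠ 0 := card_ne_zero_complex
  have hcard := Cfsg.Agent.Lib.Helper20.relIndex_mul_card_of_le hS₀I₀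
  have h2 : (a : ℂ) * (Nat.card ↥S₀ : ℂ) = (k : ℂ) * (Nat.card ↥I₀ : ℂ) := by
    rw [← hk, ← ha]
    field_simp
  have h3 : a * Nat.card ↥S₀ = (S₀.relIndex I₀ * k) * Nat.card ↥S₀ := by
    have : ((a * Nat.card ↥S₀ : ℕ) : ℂ) = ((k * Nat.card ↥I₀ : ℕ) : ℂ) := by
      push_cast
      exact h2
    have h4 : a * Nat.card ↥S₀ = k * Nat.card ↥I₀ := by exact_mod_cast this
    rw [h4, ← hcard]
    ring
  have hpos : 0 < Nat.card ↥S₀ := Nat.card_pos
  have h5 := Nat.eq_of_mul_eq_mul_right hpos h3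
  rw [h5]

/-- Let χ be an irreducible character of the finite group H that is fully ramified over the normal subgroup Z: the restriction of χ to Z is e times an irreducible character of Z with e ^ 2 equal to the index of Z. Let K be a normal subgroup of H containing Z and P a cyclic Sylow p-subgroup of H/K. Then P has a complement in H/K: a subgroup meeting P trivially whose product with P is the whole group. -/
theorem result {H : Type*} [Group H] [Finite H] (Z : Subgroup H) [Z.Normal] (χ : Cfsg.IrrCharacter H) (hfr : ∃ (θ : Cfsg.IrrCharacter ↥Z) (e : ℕ), e ^ 2 = Z.index ∧ ∀ z : ↥Z, (χ : H → ℂ) z = (e : ℂ) * (θ : ↥Z → ℂ) z) (K : Subgroup H) [K.Normal] (hZK : Z ≤ K) (p : ℕ) [Fact p.Prime] (P : Sylow p (H ⧸ K)) (hcyc : IsCyclic P) : ∃ M : Subgroup (H ⧸ K), M.IsComplement' (P : Subgroup (H ⧸ K)) := by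
  classical
  obtain ⟨θ, e, he, hχ⟩ := hfr
  have : Fintype H := Fintype.ofFinite H
  have hp : p.Prime := Fact.out
  obtain ⟨M', hKM, ⟨j, hj⟩, hcop⟩ := fr_exists_sup_index Z χ θ e K hZK he hχ p
    (by
      intro S_H S₀ I₀ _ hI₀S hS₀I₀ hinf hZS₀ φ₀ hfix
      refine hyp5_of_cyclic Z χ θ e he hχ K S₀ I₀ hS₀I₀ hinf hZS₀ ?_ φ₀ hfix
      -- the image of `I₀` in `H/K` lies in a cyclic Sylow subgroup
      have hpg : IsPGroup p (((S_H : Subgroup H) ⊔ Z).map (QuotientGroup.mk' K)) := by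
        rw [Subgroup.map_sup]
        have hZbot : Z.map (QuotientGroup.mk' K) = ⊥ := by
          rw [eq_bot_iff]
          rintro _ ⟨z, hz, rfl⟩
          rw [Subgroup.mem_bot, QuotientGroup.mk'_apply, QuotientGroup.eq_one_iff]
          exact hZK hz
        rw [hZbot, sup_bot_eq]
        exact S_H.2.map _
      obtain ⟨P', hP'⟩ := hpg.exists_le_sylow
      obtain ⟨g, hg⟩ := MulAction.exists_smul_eq (H ⧸ K) P P'
      refine ⟨(P' : Subgroup (H ⧸ K)), ?_, (Subgroup.map_mono hI₀S).trans hP'⟩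
      have := hcyc
      have E := Sylow.equivSMul P g
      rw [hg] at E
      exact isCyclic_of_surjective E E.surjective)
  -- the complement
  refine ⟨M'.map (QuotientGroup.mk' K), ?_⟩
  have hsurj : Function.Surjective (QuotientGroup.mk' K) := QuotientGroup.mk'_surjective K
  have hidx : (M'.map (QuotientGroup.mk' K)).index = p ^ j := by
    rw [Subgroup.index_map_eq _ hsurj (by rw [QuotientGroup.ker_mk']; exact hKM), hj]
  have hcardQ : Nat.card (H ⧸ K) = K.index := rfl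
  have h1 := (M'.map (QuotientGroup.mk' K)).card_mul_index
  rw [hidx] at h1
  have h2 := Subgroup.relIndex_mul_index hKM
  rw [hj] at h2
  have hpj : 0 < p ^ j := pow_pos hp.pos j
  have hcardM : Nat.card (M'.map (QuotientGroup.mk' K)) = K.relIndex M' := by
    apply Nat.eq_of_mul_eq_mul_right hpj
    rw [h1, h2, hcardQ]
  have hcopM : Nat.Coprime (Nat.card (M'.map (QuotientGroup.mk' K))) p := by
    rw [hcardM]
    exact ((Nat.Prime.coprime_iff_not_dvd hp).2 hcop).symm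
  have hcardP : Nat.card (P : Subgroup (H ⧸ K)) = p ^ j := by
    obtain ⟨t, ht⟩ := (IsPGroup.iff_card).1 P.2
    have hdvd1 : p ^ j ∣ Nat.card (P : Subgroup (H ⧸ K)) :=
      P.pow_dvd_card_of_pow_dvd_card ⟨_, h1.symm.trans (mul_comm _ _)⟩
    have hdvd2 : Nat.card (P : Subgroup (H ⧸ K)) ∣ p ^ j := by
      have h3 : Nat.card (P : Subgroup (H ⧸ K)) ∣ Nat.card (H ⧸ K) := Subgroup.card_subgroup_dvd_card _
      rw [← h1] at h3
      have hc : Nat.Coprime (Nat.card (P : Subgroup (H ⧸ K)))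
          (Nat.card (M'.map (QuotientGroup.mk' K))) := by
        rw [ht]
        exact Nat.Coprime.pow_left t hcopM.symm
      exact hc.dvd_of_dvd_mul_left h3
    exact Nat.dvd_antisymm hdvd2 hdvd1
  apply Subgroup.isComplement'_of_coprime
  · rw [hcardP]
    exact h1
  · rw [hcardP]
    exact Nat.Coprime.pow_right j hcopM

end Cfsg.Agent.S4564
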