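import Cfsg.Statements.S4565
import Cfsg.Agent.Lib.Helper83.FullyRamified

set_option autoImplicit false
open Cfsg

namespace Cfsg.Agent.S4565

/-- Let χ be an irreducible character of the finite group H that is fully ramified over the normal subgroup Z: the restriction of χ to Z is e times an irreducible character of Z with e ^ 2 equal to the index of Z. If Z ≠ H, then H/Z has no cyclic subgroup that is its own centralizer. -/
theorem result {H : Type*} [Group H] [Finite H] (Z : Subgroup H) [Z.Normal] (χ : Cfsg.IrrCharacter H) (hfr : ∃ (θ : Cfsg.IrrCharacter ↥Z) (e : ℕ), e ^ 2 = Z.index ∧ ∀ z : ↥Z, (χ : H → ℂ) z = (e : ℂ) * (θ : ↥Z → ℂ) z) (hZ : Z ≠ ⊤) (C : Subgroup (H ⧸ Z)) (hC : IsCyclic C) : Subgroup.centralizer (C : Set (H ⧸ Z)) ≠ C := by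
  classical
  obtain ⟨θ, e, he, hχ⟩ := hfr
  have : Fintype H := Fintype.ofFinite H
  intro hcent
  obtain ⟨g, hg⟩ := hC.exists_generator
  obtain ⟨c, hc⟩ := QuotientGroup.mk_surjective (g : H ⧸ Z)
  have hCz : C = Subgroup.zpowers (c : H ⧸ Z) := by
    ext x
    constructor
    · intro hx
      obtain ⟨i, hi⟩ := Subgroup.mem_zpowers_iff.1 (hg ⟨x, hx⟩)
      rw [Subgroup.mem_zpowers_iff]
      refine ⟨i, ?_⟩
      rw [hc]
      have := congrArg Subtype.val hi
      simpa using this
    · intro hx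
      obtain ⟨i, rfl⟩ := Subgroup.mem_zpowers_iff.1 hx
      rw [hc]
      exact C.zpow_mem g.2 i
  by_cases hcZ : c ∈ Z
  · have h1 : (c : H ⧸ Z) = 1 := (QuotientGroup.eq_one_iff c).2 hcZ
    rw [hCz, h1, Subgroup.zpowers_one_eq_bot] at hcent
    apply hZ
    rw [Subgroup.eq_top_iff']
    intro h
    have h2 : (h : H ⧸ Z) ∈ Subgroup.centralizer (((⊥ : Subgroup (H ⧸ Z)) : Subgroup (H ⧸ Z)) : Set (H ⧸ Z)) := by
      rw [Subgroup.mem_centralizer_iff]
      intro y hy
      rw [Subgroup.coe_bot, Set.mem_singleton_iff] at hy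
      subst hy
      simp
    rw [hcent, Subgroup.mem_bot] at h2
    exact (QuotientGroup.eq_one_iff h).1 h2
  · subst hCz
    exact Cfsg.Agent.Lib.Helper83.fr_no_self_centralizing Z χ θ e he hχ c hcZ hcent

end Cfsg.Agent.S4565
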