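import Cfsg.Statements.S4567
import Cfsg.Agent.S4566
import Cfsg.Agent.S0860
import Cfsg.Agent.Lib.Helper83.SecondOrth
import Cfsg.Agent.Lib.Helper83.Quotient

set_option autoImplicit false
open Cfsg

namespace Cfsg.Agent.S4567

open scoped ComplexConjugate

theorem mulfun_norm {N : Type*} [Group N] [Fintype N] (a : N → ℂ) (h1 : a 1 = 1)
    (hm : ∀ n m, a (n * m) = a n * a m) (n : N) : ‖a n‖ = 1 := by
  have hpow : ∀ k : ℕ, a (n ^ k) = a n ^ k := by
    intro k
    induction k with
    | zero => simp [h1]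
    | succ k ih => rw [pow_succ, hm, ih, pow_succ]
  have : a n ^ (orderOf n) = 1 := by rw [← hpow, pow_orderOf_eq_one, h1]
  exact Complex.norm_eq_one_of_pow_eq_one this (orderOf_pos n).ne'

theorem mulfun_conj {N : Type*} [Group N] [Fintype N] (a : N → ℂ) (h1 : a 1 = 1)
    (hm : ∀ n m, a (n * m) = a n * a m) (n : N) : conj (a n) = (a n)⁻¹ :=
  (Complex.inv_eq_conj (mulfun_norm a h1 hm n)).symm

theorem mulfun_orth {N : Type*} [Group N] [Fintype N] (a b : N → ℂ) (ha1 : a 1 = 1)
    (ham : ∀ n m, a (n * m) = a n * a m) (hb1 : b 1 = 1)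
    (hbm : ∀ n m, b (n * m) = b n * b m) :
    ∑ n : N, a n * conj (b n) = if a = b then (Nat.card N : ℂ) else 0 := by
  split_ifs with hab
  · subst hab
    have : ∀ n : N, a n * conj (a n) = 1 := by
      intro n
      rw [mulfun_conj a ha1 ham n]
      have : a n ≠ 0 := by
        intro h
        have := mulfun_norm a ha1 ham n
        rw [h, norm_zero] at this
        exact zero_ne_one this
      exact mul_inv_cancel₀ this
    rw [Finset.sum_congr rfl fun n _ => this n]
    simp [Nat.card_eq_fintype_card]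
  · have : ∃ m, a m ≠ b m := by
      by_contra h
      push Not at h
      exact hab (funext h)
    obtain ⟨m, hm⟩ := this
    have hbm0 : b m ≠ 0 := by
      intro h
      have := mulfun_norm b hb1 hbm m
      rw [h, norm_zero] at this
      exact zero_ne_one this
    have hf : a m * conj (b m) ≠ 1 := by
      rw [mulfun_conj b hb1 hbm m]
      intro h
      apply hm
      field_simp at h
      exact h
    have hS : ∑ n : N, a n * conj (b n) = (a m * conj (b m)) * ∑ n : N, a n * conj (b n) := by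
      conv_lhs => rw [← Equiv.sum_comp (Equiv.mulRight m)]
      rw [Finset.mul_sum]
      apply Finset.sum_congr rfl
      intro n _
      simp only [Equiv.coe_mulRight]
      rw [ham, hbm, map_mul]
      ring
    have : (1 - a m * conj (b m)) * ∑ n : N, a n * conj (b n) = 0 := by
      rw [sub_mul, one_mul, ← hS, sub_self]
    rcases mul_eq_zero.1 this with h | h
    · exact absurd (sub_eq_zero.1 h).symm hf
    · exact h

theorem irr_comm_mul {N : Type*} [Group N] (hcomm : ∀ a b : N, a * b = b * a) (ψ : N → ℂ)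
    (hψ : Cfsg.IsIrrCharacter N ψ) : ψ 1 = 1 ∧ ∀ n m, ψ (n * m) = ψ n * ψ m := by
  have h1 : ψ 1 = 1 := by
    obtain ⟨k, ρ, hirr, rfl⟩ := hψ
    have := hirr
    haveI : IsMulCommutative N := ⟨⟨hcomm⟩⟩
    have hr := Representation.IsIrreducible.finrank_eq_one_of_isMulCommutative ρ
    rw [Representation.char_one, hr]
    simp
  refine ⟨h1, fun n m => ?_⟩
  have hz : m ∈ Subgroup.center N := by
    rw [Subgroup.mem_center_iff]
    intro g
    exact hcomm g m
  obtain ⟨c, hc⟩ := Cfsg.Agent.S4566.char_mul_central ψ hψ m hz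
  have := hc 1
  rw [one_mul, h1, mul_one] at this
  rw [hc n, this, mul_comm]

theorem central_mult {G : Type*} [Group G] (N : Subgroup G) (hN : N ≤ Subgroup.center G)
    (χ : G → ℂ) (hχ : Cfsg.IsIrrCharacter G χ) :
    ∃ c : N → ℂ, c 1 = 1 ∧ (∀ n m, c (n * m) = c n * c m) ∧
      ∀ (g : G) (n : N), χ (g * n) = c n * χ g := by
  have h1 := Cfsg.Agent.S4566.irr_char_one_ne_zero χ hχ
  have key : ∀ (g : G) (n : N), χ (g * n) = χ n / χ 1 * χ g := by
    intro g n
    obtain ⟨c, hc⟩ := Cfsg.Agent.S4566.char_mul_central χ hχ n (hN n.2)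
    have h := hc 1
    rw [one_mul] at h
    rw [hc g, h]
    field_simp
  refine ⟨fun n => χ n / χ 1, ?_, ?_, key⟩
  · simp only [OneMemClass.coe_one]
    exact div_self h1
  · intro n m
    simp only [Subgroup.coe_mul]
    rw [key (n : G) m]
    field_simp

theorem avg {G : Type*} [Group G] (N : Subgroup G) [Fintype N] (hN : N ≤ Subgroup.center G)
    (ψ : N → ℂ) (hψ : Cfsg.IsIrrCharacter N ψ) (χ : G → ℂ) (hχ : Cfsg.IsIrrCharacter G χ) :
    ∃ δ : ℂ, (δ = 1 ∨ δ = 0) ∧
      (Cfsg.classInner (fun n : N => χ n) ψ ≠ 0 ↔ δ = 1) ∧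
      ∀ g : G, (Nat.card N : ℂ)⁻¹ * ∑ n : N, χ (g * n) * conj (ψ n) = δ * χ g := by
  classical
  have hcomm : ∀ a b : N, a * b = b * a := by
    intro a b
    apply Subtype.ext
    have := (Subgroup.mem_center_iff.1 (hN b.2)) (a : G)
    simpa using this
  obtain ⟨hψ1, hψm⟩ := irr_comm_mul hcomm ψ hψ
  obtain ⟨c, hc1, hcm, hc⟩ := central_mult N hN χ hχ
  have horth := mulfun_orth c ψ hc1 hcm hψ1 hψm
  have hN0 : (Nat.card N : ℂ) ≠ 0 := by
    have : 0 < Nat.card N := Nat.card_pos
    exact_mod_cast this.ne'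
  have hall : ∀ g : G, (Nat.card N : ℂ)⁻¹ * ∑ n : N, χ (g * n) * conj (ψ n) =
      (if c = ψ then 1 else 0) * χ g := by
    intro g
    have : ∑ n : N, χ (g * n) * conj (ψ n) = χ g * ∑ n : N, c n * conj (ψ n) := by
      rw [Finset.mul_sum]
      apply Finset.sum_congr rfl
      intro n _
      rw [hc]; ring
    rw [this, horth]
    split_ifs
    · field_simp
    · simp
  refine ⟨if c = ψ then 1 else 0, ?_, ?_, hall⟩
  · split_ifs <;> simp
  · have h1 := Cfsg.Agent.S4566.irr_char_one_ne_zero χ hχ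
    have := hall 1
    simp only [one_mul] at this
    unfold Cfsg.classInner
    rw [this]
    split_ifs <;> simp [h1]

def Spec {G : Type*} [Group G] (N : Subgroup G) (g : G) : Prop :=
  ∀ x : G, x⁻¹ * g⁻¹ * x * g ∈ N → x * g = g * x

theorem spec_conj {G : Type*} [Group G] (N : Subgroup G) [N.Normal] (g y : G)
    (h : Spec N g) : Spec N (y * g * y⁻¹) := by
  intro x hx
  have h1 : (y⁻¹ * x * y)⁻¹ * g⁻¹ * (y⁻¹ * x * y) * g ∈ N := by
    have := ‹N.Normal›.conj_mem _ hx y⁻¹
    convert this using 1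
    group
  have h2 := h _ h1
  have : x * (y * g * y⁻¹) = y * ((y⁻¹ * x * y) * g) * y⁻¹ := by group
  rw [this, h2]
  group

theorem spec_mul {G : Type*} [Group G] (N : Subgroup G) (hN : N ≤ Subgroup.center G) (g n : G)
    (hn : n ∈ N) (h : Spec N g) : Spec N (g * n) := by
  have hc : ∀ y : G, y * n = n * y := fun y => Subgroup.mem_center_iff.1 (hN hn) y
  have hc' : ∀ y : G, y * n⁻¹ = n⁻¹ * y := fun y =>
    Subgroup.mem_center_iff.1 (hN (N.inv_mem hn)) y
  intro x hx
  have h1 : x⁻¹ * g⁻¹ * x * g ∈ N := by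
    have e : x⁻¹ * (g * n)⁻¹ * x * (g * n) = x⁻¹ * g⁻¹ * x * g := by
      rw [mul_inv_rev]
      calc x⁻¹ * (n⁻¹ * g⁻¹) * x * (g * n) = (x⁻¹ * n⁻¹) * g⁻¹ * x * g * n := by group
        _ = (n⁻¹ * x⁻¹) * g⁻¹ * x * g * n := by rw [hc' x⁻¹]
        _ = n⁻¹ * ((x⁻¹ * g⁻¹ * x * g) * n) := by group
        _ = n⁻¹ * (n * (x⁻¹ * g⁻¹ * x * g)) := by rw [hc]
        _ = x⁻¹ * g⁻¹ * x * g := by group
    rwa [e] at hx
  have h2 := h x h1
  calc x * (g * n) = (x * g) * n := by group
    _ = (g * x) * n := by rw [h2]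
    _ = g * (x * n) := by group
    _ = g * (n * x) := by rw [hc]
    _ = g * n * x := by group

theorem spec_class {G : Type*} [Group G] (N : Subgroup G) [N.Normal]
    (hN : N ≤ Subgroup.center G) (g : G) :
    (∃ g' : G, ConjClasses.mk (g' : G ⧸ N) = ConjClasses.mk (g : G ⧸ N) ∧
      ∀ x : G, x⁻¹ * g'⁻¹ * x * g' ∈ N → x * g' = g' * x) ↔ Spec N g := by
  constructor
  · rintro ⟨g', hg', hs⟩
    rw [ConjClasses.mk_eq_mk_iff_isConj, isConj_iff] at hg'
    obtain ⟨q, hq⟩ := hg'
    obtain ⟨y, rfl⟩ := QuotientGroup.mk_surjective q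
    have h1 : ((y * g' * y⁻¹ : G) : G ⧸ N) = (g : G ⧸ N) := by
      rw [← hq]; simp
    rw [QuotientGroup.eq] at h1
    have h2 : g = (y * g' * y⁻¹) * ((y * g' * y⁻¹)⁻¹ * g) := by group
    rw [h2]
    exact spec_mul N hN _ _ h1 (spec_conj N g' y hs)
  · intro h
    exact ⟨g, rfl, h⟩

theorem cent_special {G : Type*} [Group G] (N : Subgroup G) [N.Normal] (g : G)
    (h : Spec N g) :
    Subgroup.centralizer ({g} : Set G) =
      (Subgroup.centralizer ({(g : G ⧸ N)} : Set (G ⧸ N))).comap (QuotientGroup.mk' N) := by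
  ext x
  rw [Subgroup.mem_comap, Subgroup.mem_centralizer_iff, Subgroup.mem_centralizer_iff]
  simp only [Set.mem_singleton_iff, forall_eq, QuotientGroup.mk'_apply]
  constructor
  · intro hx
    rw [← QuotientGroup.mk_mul, ← QuotientGroup.mk_mul, hx]
  · intro hx
    rw [← QuotientGroup.mk_mul, ← QuotientGroup.mk_mul, QuotientGroup.eq] at hx
    have : x⁻¹ * g⁻¹ * x * g ∈ N := by
      convert hx using 1
      group
    exact (h x this).symm

theorem card_cent_special {G : Type*} [Group G] [Finite G] (N : Subgroup G) [N.Normal] (g : G)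
    (h : Spec N g) :
    Nat.card (Subgroup.centralizer ({g} : Set G)) =
      Nat.card N * Nat.card (Subgroup.centralizer ({(g : G ⧸ N)} : Set (G ⧸ N))) := by
  rw [cent_special N g h]
  set K := Subgroup.centralizer ({(g : G ⧸ N)} : Set (G ⧸ N)) with hK
  have h1 : (K.comap (QuotientGroup.mk' N)).index = K.index :=
    Subgroup.index_comap_of_surjective K (QuotientGroup.mk'_surjective N)
  have h2 := Subgroup.card_mul_index (K.comap (QuotientGroup.mk' N))
  have h3 := Subgroup.card_mul_index K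
  have h4 := Subgroup.card_mul_index N
  have h5 : Nat.card (G ⧸ N) = N.index := rfl
  have hpos : 0 < K.index := Nat.pos_of_ne_zero Subgroup.index_ne_zero_of_finite
  rw [h1] at h2
  have : Nat.card (K.comap (QuotientGroup.mk' N)) * K.index =
      (Nat.card N * Nat.card K) * K.index := by
    rw [h2, mul_assoc, h3, h5, h4]
  exact Nat.eq_of_mul_eq_mul_right hpos this

theorem sum_at {G : Type*} [Group G] [Fintype G] (N : Subgroup G) [N.Normal] [Fintype N]
    (hN : N ≤ Subgroup.center G) (ψ : Cfsg.IrrCharacter ↥N)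
    (hfaith : ∀ n : ↥N, (ψ : ↥N → ℂ) n = (ψ : ↥N → ℂ) 1 → n = 1)
    [Fintype (IrrCharacter G)]
    (δ : IrrCharacter G → ℂ)
    (hδiff : ∀ χ : IrrCharacter G,
      (Cfsg.classInner (fun n : N => (χ : G → ℂ) n) (ψ : N → ℂ) ≠ 0 ↔ δ χ = 1))
    (hδ01 : ∀ χ : IrrCharacter G, δ χ = 1 ∨ δ χ = 0)
    (hδavg : ∀ (χ : IrrCharacter G) (g : G),
      (Nat.card N : ℂ)⁻¹ * ∑ n : N, (χ : G → ℂ) (g * n) * conj ((ψ : N → ℂ) n) =
        δ χ * (χ : G → ℂ) g) (g : G) [Decidable (Spec N g)] :
    ∑ χ : IrrCharacter G, δ χ * ((χ : G → ℂ) g * conj ((χ : G → ℂ) g)) =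
      if Spec N g then
        (Nat.card (Subgroup.centralizer ({(g : G ⧸ N)} : Set (G ⧸ N))) : ℂ) else 0 := by
  classical
  have hN0 : (Nat.card N : ℂ) ≠ 0 := by
    have : 0 < Nat.card N := Nat.card_pos
    exact_mod_cast this.ne'
  split_ifs with hs
  · -- special
    have hcomm : ∀ a b : N, a * b = b * a := by
      intro a b
      apply Subtype.ext
      have := (Subgroup.mem_center_iff.1 (hN b.2)) (a : G)
      simpa using this
    obtain ⟨hψ1, -⟩ := irr_comm_mul hcomm ψ.1 ψ.2
    have hconj : ∀ n : N, IsConj (g * n) g ↔ n = 1 := by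
      intro n
      constructor
      · intro h
        rw [isConj_iff] at h
        obtain ⟨c, hc⟩ := h
        have hn : (n : G) = c * g⁻¹ * c⁻¹ * g := by
          have h1 : (n : G) = g⁻¹ * c⁻¹ * g * c := by
            calc (n : G) = g⁻¹ * (c⁻¹ * (c * (g * (n : G)) * c⁻¹) * c) := by group
              _ = g⁻¹ * (c⁻¹ * g * c) := by rw [hc]
              _ = g⁻¹ * c⁻¹ * g * c := by group
          have h2 : c * (n : G) = (n : G) * c := Subgroup.mem_center_iff.1 (hN n.2) c
          calc (n : G) = (n : G) * c * c⁻¹ := by group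
            _ = c * (n : G) * c⁻¹ := by rw [h2]
            _ = c * (g⁻¹ * c⁻¹ * g * c) * c⁻¹ := by rw [← h1]
            _ = c * g⁻¹ * c⁻¹ * g := by group
        have h3 : (c⁻¹)⁻¹ * g⁻¹ * c⁻¹ * g ∈ N := by
          rw [inv_inv, ← hn]; exact n.2
        have h4 := hs c⁻¹ h3
        apply Subtype.ext
        rw [hn]
        simp only [OneMemClass.coe_one]
        calc c * g⁻¹ * c⁻¹ * g = c * g⁻¹ * (c⁻¹ * g) := by group
          _ = c * g⁻¹ * (g * c⁻¹) := by rw [h4]
          _ = 1 := by group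
      · rintro rfl
        simp only [OneMemClass.coe_one, mul_one]
        exact IsConj.refl g
    calc ∑ χ : IrrCharacter G, δ χ * ((χ : G → ℂ) g * conj ((χ : G → ℂ) g))
        = ∑ χ : IrrCharacter G, ((Nat.card N : ℂ)⁻¹ *
            ∑ n : N, (χ : G → ℂ) (g * n) * conj ((ψ : N → ℂ) n)) * conj ((χ : G → ℂ) g) := by
          apply Finset.sum_congr rfl
          intro χ _
          rw [hδavg χ g]; ring
      _ = (Nat.card N : ℂ)⁻¹ * ∑ n : N, conj ((ψ : N → ℂ) n) *
            ∑ χ : IrrCharacter G, (χ : G → ℂ) (g * n) * conj ((χ : G → ℂ) g) := by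
          simp only [Finset.mul_sum, Finset.sum_mul]
          rw [Finset.sum_comm]
          apply Finset.sum_congr rfl
          intro n _
          apply Finset.sum_congr rfl
          intro χ _
          ring
      _ = (Nat.card N : ℂ)⁻¹ * ∑ n : N, conj ((ψ : N → ℂ) n) *
            (if n = 1 then (Nat.card (Subgroup.centralizer ({g} : Set G)) : ℂ) else 0) := by
          congr 1
          apply Finset.sum_congr rfl
          intro n _
          rw [Cfsg.Agent.Lib.Helper83.second_orthogonality]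
          congr 1
          simp only [hconj n]
      _ = (Nat.card (Subgroup.centralizer ({(g : G ⧸ N)} : Set (G ⧸ N))) : ℂ) := by
          simp only [mul_ite, mul_zero, Finset.sum_ite_eq', Finset.mem_univ, if_true]
          rw [hψ1, map_one, one_mul, card_cent_special N g hs]
          push_cast
          field_simp
  · -- non-special: every character over ψ vanishes at g
    apply Finset.sum_eq_zero
    intro χ _
    rcases hδ01 χ with h1 | h0
    · have hover := (hδiff χ).2 h1
      unfold Spec at hs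
      push Not at hs
      obtain ⟨x, hx, hne⟩ := hs
      have hne1 : x⁻¹ * g⁻¹ * x * g ≠ 1 := by
        intro h
        apply hne
        have : x * g = g * x * (x⁻¹ * g⁻¹ * x * g) := by group
        rw [this, h, mul_one]
      have := Cfsg.Agent.S4566.result N hN ψ hfaith χ hover g x hx hne1
      rw [this]; simp
    · rw [h0]; simp

/-- Let N be a central subgroup of the finite group G and ψ a faithful irreducible (hence degree-one) character of N. Call a coset g N special when every x ∈ G whose commutator x⁻¹ g⁻¹ x g lies in N actually commutes with g (this depends only on the coset). Then the number of irreducible characters of G whose restriction to N contains ψ equals the number of conjugacy classes of G/N consisting of special cosets. -/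
theorem result {G : Type*} [Group G] [Fintype G] (N : Subgroup G) [N.Normal] [Fintype N] (hN : N ≤ Subgroup.center G) (ψ : Cfsg.IrrCharacter ↥N) (hfaith : ∀ n : ↥N, (ψ : ↥N → ℂ) n = (ψ : ↥N → ℂ) 1 → n = 1) : Nat.card {χ : Cfsg.IrrCharacter G // Cfsg.classInner (fun n : ↥N => (χ : G → ℂ) n) (ψ : ↥N → ℂ) ≠ 0} = Nat.card {C : ConjClasses (G ⧸ N) // ∃ g : G, ConjClasses.mk (g : G ⧸ N) = C ∧ ∀ x : G, x⁻¹ * g⁻¹ * x * g ∈ N → x * g = g * x} := by
  classical
  letI : Fintype (IrrCharacter G) := Fintype.ofFinite _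
  letI : Fintype (G ⧸ N) := Fintype.ofFinite _
  letI : Fintype (ConjClasses (G ⧸ N)) := Fintype.ofFinite _
  have hex := fun χ : IrrCharacter G => avg N hN ψ.1 ψ.2 χ.1 χ.2
  choose δ hδ01 hδiff hδavg using hex
  have hT := fun g => sum_at N hN ψ hfaith δ hδiff hδ01 hδavg g
  have hG0 : (Nat.card G : ℂ) ≠ 0 := by
    have : 0 < Nat.card G := Nat.card_pos
    exact_mod_cast this.ne'
  -- the left-hand total
  have hL : ∑ g : G, ∑ χ : IrrCharacter G, δ χ * ((χ : G → ℂ) g * conj ((χ : G → ℂ) g)) =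
      (Nat.card G : ℂ) * (Nat.card {χ : Cfsg.IrrCharacter G //
        Cfsg.classInner (fun n : ↥N => (χ : G → ℂ) n) (ψ : ↥N → ℂ) ≠ 0} : ℂ) := by
    rw [Finset.sum_comm]
    have h1 : ∀ χ : IrrCharacter G,
        ∑ g : G, δ χ * ((χ : G → ℂ) g * conj ((χ : G → ℂ) g)) = δ χ * (Nat.card G : ℂ) := by
      intro χ
      rw [← Finset.mul_sum]
      have := Cfsg.Agent.Lib.Helper83.irr_inner_self χ
      rw [Cfsg.Agent.Lib.Helper83.classInner_def] at this
      congr 1
      field_simp at this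
      exact this
    rw [Finset.sum_congr rfl fun χ _ => h1 χ, ← Finset.sum_mul, mul_comm]
    congr 1
    have h2 : ∀ χ : IrrCharacter G, δ χ =
        if Cfsg.classInner (fun n : ↥N => (χ : G → ℂ) n) (ψ : ↥N → ℂ) ≠ 0 then 1 else 0 := by
      intro χ
      split_ifs with h
      · exact (hδiff χ).1 h
      · rcases hδ01 χ with h1 | h0
        · exact absurd ((hδiff χ).2 h1) h
        · exact h0
    rw [Finset.sum_congr rfl fun χ _ => h2 χ, Finset.sum_boole, Nat.card_eq_fintype_card,
      Fintype.card_subtype]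
  -- the right-hand total
  have hR : ∑ g : G, (if Spec N g then
        (Nat.card (Subgroup.centralizer ({(g : G ⧸ N)} : Set (G ⧸ N))) : ℂ) else 0) =
      (Nat.card G : ℂ) * (Nat.card {C : ConjClasses (G ⧸ N) // ∃ g : G,
        ConjClasses.mk (g : G ⧸ N) = C ∧ ∀ x : G, x⁻¹ * g⁻¹ * x * g ∈ N → x * g = g * x} : ℂ) := by
    have h1 : ∀ g : G, (if Spec N g then
        (Nat.card (Subgroup.centralizer ({(g : G ⧸ N)} : Set (G ⧸ N))) : ℂ) else 0) =
        (fun q : G ⧸ N => (fun C : ConjClasses (G ⧸ N) => if (∃ g : G,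
          ConjClasses.mk (g : G ⧸ N) = C ∧ ∀ x : G, x⁻¹ * g⁻¹ * x * g ∈ N → x * g = g * x)
            then (1 : ℂ) else 0) (ConjClasses.mk q) *
          (Nat.card (Subgroup.centralizer ({q} : Set (G ⧸ N))) : ℂ)) (g : G ⧸ N) := by
      intro g
      simp only
      rw [if_congr (spec_class N hN g) rfl rfl]
      split_ifs <;> simp
    rw [Finset.sum_congr rfl fun g _ => h1 g]
    have h2 := Cfsg.Agent.Lib.Helper83.sum_comp_quotient_mk N
      (fun q : G ⧸ N => (fun C : ConjClasses (G ⧸ N) => if (∃ g : G,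
          ConjClasses.mk (g : G ⧸ N) = C ∧ ∀ x : G, x⁻¹ * g⁻¹ * x * g ∈ N → x * g = g * x)
            then (1 : ℂ) else 0) (ConjClasses.mk q) *
          (Nat.card (Subgroup.centralizer ({q} : Set (G ⧸ N))) : ℂ))
    refine h2.trans ?_
    have h3 := Cfsg.Agent.S0860.sum_class_weighted (G := G ⧸ N)
      (fun C : ConjClasses (G ⧸ N) => if (∃ g : G,
          ConjClasses.mk (g : G ⧸ N) = C ∧ ∀ x : G, x⁻¹ * g⁻¹ * x * g ∈ N → x * g = g * x)
            then (1 : ℂ) else 0)
    beta_reduce at h3 ⊢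
    rw [h3, Finset.sum_boole,
      Nat.card_eq_fintype_card (α := {C : ConjClasses (G ⧸ N) // _}),
      Fintype.card_subtype, ← mul_assoc]
    congr 1
    have := Subgroup.card_mul_index N
    have h5 : Nat.card (G ⧸ N) = N.index := rfl
    rw [← this, h5]
    push_cast
    ring
  have : (Nat.card G : ℂ) * (Nat.card {χ : Cfsg.IrrCharacter G //
        Cfsg.classInner (fun n : ↥N => (χ : G → ℂ) n) (ψ : ↥N → ℂ) ≠ 0} : ℂ) =
      (Nat.card G : ℂ) * (Nat.card {C : ConjClasses (G ⧸ N) // ∃ g : G,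
        ConjClasses.mk (g : G ⧸ N) = C ∧ ∀ x : G, x⁻¹ * g⁻¹ * x * g ∈ N → x * g = g * x} : ℂ) := by
    rw [← hL, ← hR]
    exact Finset.sum_congr rfl fun g _ => hT g
  exact_mod_cast mul_left_cancel₀ hG0 this

end Cfsg.Agent.S4567
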