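import Cfsg.Statements.S4571
import Mathlib
import Cfsg.Agent.S0941
import Cfsg.Agent.Lib.Helper85.BlockQuotRank
import Cfsg.Agent.Lib.Helper83.Decompose

set_option autoImplicit false
open Cfsg

namespace Cfsg.Agent.S4571

/-- Let Q be a normal p-subgroup of the finite group G with G = Q·C_G(Q), and M a maximal ideal of the algebraic integers containing p. Then the principal p-blocks of G and of G/Q have the same p-regular rank (the same number of irreducible Brauer characters). -/
theorem result {G : Type*} [Group G] [Finite G] (p : ℕ) [Fact p.Prime] (M : Ideal Cfsg.AlgInt) (hM : Cfsg.IsPModular p M) (Q : Subgroup G) [Q.Normal] (hQ : IsPGroup p Q) (hsup : Q ⊔ Subgroup.centralizer (Q : Set G) = ⊤) : Cfsg.blockRank p (Cfsg.principalBlock M G) = Cfsg.blockRank p (Cfsg.principalBlock M (G ⧸ Q)) := by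
  classical
  have hpr : p.Prime := Fact.out
  have hMprime : M.IsPrime := hM.2.1.isPrime
  let _ : Fintype G := Fintype.ofFinite G
  let _ : Fintype (G ⧸ Q) := Fintype.ofFinite _
  let _ : Fintype (Cfsg.IrrCharacter G) := Fintype.ofFinite _
  let _ : Fintype (Cfsg.IrrCharacter (G ⧸ Q)) := Fintype.ofFinite _
  let _ : Fintype Q := Fintype.ofFinite _
  -- the centralizer of `Q` has `p`-power index
  have hidx : ∃ k : ℕ, (Subgroup.centralizer (Q : Set G)).index = p ^ k := by
    have h1 : (Subgroup.centralizer (Q : Set G)).index =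
        (Subgroup.centralizer (Q : Set G)).relIndex Q := by
      rw [← Subgroup.relIndex_top_right, ← hsup, Subgroup.relIndex_sup_right]
    have h2 : (Subgroup.centralizer (Q : Set G)).relIndex Q ∣ Nat.card Q :=
      Subgroup.relIndex_dvd_card _ _
    obtain ⟨n, hn⟩ := IsPGroup.iff_card.1 hQ
    rw [hn] at h2
    obtain ⟨k, _, hk⟩ := (Nat.dvd_prime_pow hpr).1 h2
    exact ⟨k, by rw [h1, hk]⟩
  obtain ⟨hdom1, _⟩ := Cfsg.Agent.S0941.result p M hM Q hQ hidx
  -- `p`-regular elements centralize `Q`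
  have hcent : ∀ x : G, ¬ p ∣ orderOf x → ∀ z ∈ Q, x * z = z * x := by
    intro x hx z hz
    obtain ⟨k, hk⟩ := hidx
    have hxC : x ∈ Subgroup.centralizer (Q : Set G) := by
      rw [← QuotientGroup.eq_one_iff, ← orderOf_eq_one_iff]
      have h1 : orderOf (QuotientGroup.mk x : G ⧸ Subgroup.centralizer (Q : Set G)) ∣ p ^ k := by
        rw [← hk, Subgroup.index_eq_card]
        exact orderOf_dvd_natCard _
      obtain ⟨j, _, hj⟩ := (Nat.dvd_prime_pow hpr).1 h1
      rcases Nat.eq_zero_or_pos j with rfl | hjpos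
      · rw [hj, pow_zero]
      · exfalso
        apply Cfsg.Agent.Lib.Helper85.not_dvd_orderOf_mk (Subgroup.centralizer (Q : Set G)) hx
        rw [hj]
        exact dvd_pow_self p hjpos.ne'
    exact (Subgroup.mem_centralizer_iff.1 hxC z hz).symm
  -- the trivial characters
  let oneG : Cfsg.IrrCharacter G := ⟨fun _ => 1, Cfsg.Agent.Lib.Helper83.isIrrCharacter_one⟩
  let oneQ : Cfsg.IrrCharacter (G ⧸ Q) := ⟨fun _ => 1, Cfsg.Agent.Lib.Helper83.isIrrCharacter_one⟩
  -- membership in the principal block of `G` for characters with `Q` in the kernel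
  have hmemiff : ∀ ψb : Cfsg.IrrCharacter (G ⧸ Q),
      ψb ∈ Cfsg.principalBlock M (G ⧸ Q) ↔
        ((Cfsg.Agent.Lib.Helper83.irrInflate Q ψb).1 : Cfsg.IrrCharacter G) ∈
          Cfsg.principalBlock M G := by
    intro ψb
    have h1 := hdom1 oneQ ψb
    have e1 : ((oneQ : G ⧸ Q → ℂ) ∘ QuotientGroup.mk) = (fun _ : G => (1 : ℂ)) := rfl
    have e2 : ((ψb : G ⧸ Q → ℂ) ∘ QuotientGroup.mk) =
        (((Cfsg.Agent.Lib.Helper83.irrInflate Q ψb).1 : Cfsg.IrrCharacter G) : G → ℂ) := by
      funext g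
      exact (Cfsg.Agent.Lib.Helper83.irrInflate_apply Q ψb g).symm
    rw [e1, e2] at h1
    exact h1
  -- the two spans
  set SG : Submodule ℂ (G → ℂ) := Submodule.span ℂ ((fun χ : Cfsg.IrrCharacter G =>
      Cfsg.pRegularPart p (χ : G → ℂ)) '' Cfsg.principalBlock M G) with hSG
  set SQ : Submodule ℂ (G ⧸ Q → ℂ) := Submodule.span ℂ ((fun χ : Cfsg.IrrCharacter (G ⧸ Q) =>
      Cfsg.pRegularPart p (χ : G ⧸ Q → ℂ)) '' Cfsg.principalBlock M (G ⧸ Q)) with hSQ
  -- the comparison map
  let Φ : (G ⧸ Q → ℂ) →ₗ[ℂ] (G → ℂ) :=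
    (Cfsg.Agent.Lib.Helper82.pRegLin G p).comp
      (LinearMap.funLeft ℂ ℂ (QuotientGroup.mk : G → G ⧸ Q))
  have hΦ : ∀ (f : G ⧸ Q → ℂ) (g : G), Φ f g =
      Cfsg.pRegularPart p (fun g : G => f (QuotientGroup.mk g)) g := by
    intro f g
    rfl
  have hΦreg : ∀ ψb : Cfsg.IrrCharacter (G ⧸ Q),
      Φ (Cfsg.pRegularPart p (ψb : G ⧸ Q → ℂ)) =
        Cfsg.pRegularPart p
          (((Cfsg.Agent.Lib.Helper83.irrInflate Q ψb).1 : Cfsg.IrrCharacter G) : G → ℂ) := by
    intro ψb
    funext g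
    rw [hΦ]
    by_cases hg : p ∣ orderOf g
    · rw [Cfsg.Agent.Lib.Helper82.pRegularPart_of_singular _ hg,
        Cfsg.Agent.Lib.Helper82.pRegularPart_of_singular _ hg]
    · rw [Cfsg.Agent.Lib.Helper82.pRegularPart_of_regular _ hg,
        Cfsg.Agent.Lib.Helper82.pRegularPart_of_regular _ hg,
        Cfsg.Agent.Lib.Helper82.pRegularPart_of_regular _
          (Cfsg.Agent.Lib.Helper85.not_dvd_orderOf_mk Q hg),
        Cfsg.Agent.Lib.Helper83.irrInflate_apply]
  -- `SG` is the image of `SQ`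
  have hmap : SQ.map Φ = SG := by
    apply le_antisymm
    · rw [hSQ, Submodule.map_span, Submodule.span_le]
      rintro _ ⟨_, ⟨ψb, hψb, rfl⟩, rfl⟩
      show Φ (Cfsg.pRegularPart p (ψb : G ⧸ Q → ℂ)) ∈ SG
      rw [hΦreg ψb]
      exact Submodule.subset_span ⟨_, (hmemiff ψb).1 hψb, rfl⟩
    · rw [hSG, Submodule.span_le]
      rintro _ ⟨χ, hχ, rfl⟩
      -- expand `χ⁰` through characters with `Q` in the kernel
      have hχs : Cfsg.SameBlock M (fun _ : G => (1 : ℂ)) (χ : G → ℂ) := hχ
      have hfun : Cfsg.pRegularPart p (χ : G → ℂ) =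
          ∑ ψ : Cfsg.IrrCharacter G,
            (if (∀ n ∈ Q, (ψ : G → ℂ) n = (ψ : G → ℂ) 1) then
              (Cfsg.classInner (Cfsg.pRegularPart p (χ : G → ℂ)) (ψ : G → ℂ) *
                (Fintype.card Q : ℂ)) • Cfsg.pRegularPart p (ψ : G → ℂ) else 0) := by
        funext x
        rw [Finset.sum_apply]
        by_cases hx : p ∣ orderOf x
        · rw [Cfsg.Agent.Lib.Helper82.pRegularPart_of_singular _ hx]
          symm
          apply Finset.sum_eq_zero
          intro ψ _
          split_ifs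
          · rw [Pi.smul_apply, Cfsg.Agent.Lib.Helper82.pRegularPart_of_singular _ hx, smul_zero]
          · rfl
        · rw [Cfsg.Agent.Lib.Helper82.pRegularPart_of_regular _ hx,
            Cfsg.Agent.Lib.Helper85.apply_regular_eq_sum_kernel hpr Q hQ hcent χ x hx]
          apply Finset.sum_congr rfl
          intro ψ _
          split_ifs
          · rw [Pi.smul_apply, Cfsg.Agent.Lib.Helper82.pRegularPart_of_regular _ hx, smul_eq_mul]
          · rfl
      show Cfsg.pRegularPart p (χ : G → ℂ) ∈ Submodule.map Φ SQ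
      rw [hfun]
      apply Submodule.sum_mem
      intro ψ _
      split_ifs with hker
      · by_cases hc : Cfsg.classInner (Cfsg.pRegularPart p (χ : G → ℂ)) (ψ : G → ℂ) = 0
        · rw [hc, zero_mul, zero_smul]; exact Submodule.zero_mem _
        · apply Submodule.smul_mem
          -- `ψ` lies in the principal block and is inflated from `G ⧸ Q`
          have hs : Cfsg.SameBlock M (χ : G → ℂ) (ψ : G → ℂ) := by
            by_contra hns
            exact hc (Cfsg.Agent.Lib.Helper82.classInner_pRegularPart_eq_zero hM χ ψ hns)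
          have hψB : ψ ∈ Cfsg.principalBlock M G :=
            Cfsg.Agent.Lib.Helper82.sameBlock_trans hMprime hχs hs
          let ψb : Cfsg.IrrCharacter (G ⧸ Q) := Cfsg.Agent.Lib.Helper83.irrDeflate Q ⟨ψ, hker⟩
          have hinf : ((Cfsg.Agent.Lib.Helper83.irrInflate Q ψb).1 : Cfsg.IrrCharacter G) = ψ := by
            apply Subtype.ext
            funext g
            rw [Cfsg.Agent.Lib.Helper83.irrInflate_apply,
              Cfsg.Agent.Lib.Helper83.irrDeflate_apply]
          have hψbB : ψb ∈ Cfsg.principalBlock M (G ⧸ Q) := by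
            rw [hmemiff ψb, hinf]; exact hψB
          refine ⟨Cfsg.pRegularPart p (ψb : G ⧸ Q → ℂ), Submodule.subset_span ⟨ψb, hψbB, rfl⟩, ?_⟩
          rw [hΦreg ψb, hinf]
      · exact Submodule.zero_mem _
  -- `Φ` is injective on `SQ`
  have hSQreg : ∀ f ∈ SQ, ∀ q : G ⧸ Q, p ∣ orderOf q → f q = 0 := by
    intro f hf
    rw [hSQ] at hf
    refine Submodule.span_induction ?_ ?_ ?_ ?_ hf
    · rintro _ ⟨ψb, _, rfl⟩ q hq
      exact Cfsg.Agent.Lib.Helper82.pRegularPart_of_singular _ hq
    · intro q _; rfl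
    · intro f₁ f₂ _ _ h₁ h₂ q hq
      rw [Pi.add_apply, h₁ q hq, h₂ q hq, add_zero]
    · intro c f₁ _ h₁ q hq
      rw [Pi.smul_apply, h₁ q hq, smul_zero]
  have hinj : Function.Injective (Φ.domRestrict SQ) := by
    rw [← LinearMap.ker_eq_bot, LinearMap.ker_eq_bot']
    rintro ⟨f, hf⟩ h0
    apply Subtype.ext
    show f = 0
    funext q
    by_cases hq : p ∣ orderOf q
    · exact hSQreg f hf q hq
    · obtain ⟨g, hg, rfl⟩ := Cfsg.Agent.Lib.Helper85.exists_regular_preimage hpr Q q hq
      have h1 : Φ f g = 0 := by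
        have := congrFun h0 g
        exact this
      rw [hΦ, Cfsg.Agent.Lib.Helper82.pRegularPart_of_regular _ hg] at h1
      exact h1
  unfold Cfsg.blockRank
  rw [← hSG, ← hSQ, ← hmap, ← LinearMap.range_domRestrict]
  exact LinearMap.finrank_range_of_inj hinj

end Cfsg.Agent.S4571
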