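import Cfsg.Statements.S4573
import Cfsg.Agent.Lib.Helper83.Dade3
import Cfsg.Agent.Lib.Helper83.Dade4
import Cfsg.Agent.Lib.Helper12.Schmidt

set_option autoImplicit false
universe u
open Cfsg

namespace Cfsg.Agent.S4573


open Cfsg.Agent.Lib.Helper83 Cfsg.Agent.Lib.Helper80 RegularWreathProduct in
/-- Dade's theorem, by induction on the order: embed `G` in `N ≀ (G ⧸ N)` with `N` normal of prime
index, embed `N` in an M-group `M₀`, and use that `M₀ ≀ (G ⧸ N)` is an M-group. -/
theorem dade_aux : ∀ (n : ℕ) (G : Type u) [Group G] [Finite G], Group.IsSolvable G →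
    Nat.card G = n →
    ∃ (M : Type u) (_ : Group M) (_ : Fintype M),
      (∀ χ : M → ℂ, Cfsg.IsIrrCharacter M χ → IsMonomialChar M χ) ∧
      ∃ f : G →* M, Function.Injective f := by
  intro n
  induction n using Nat.strong_induction_on with
  | _ n ih =>
    intro G _ _ hsolv hn
    classical
    by_cases hnt : Nontrivial G
    · obtain ⟨N, hNn, hNp⟩ := Cfsg.Agent.Lib.Helper12.exists_normal_prime_index (G := G)
      have hlt : Nat.card N < n := by
        rw [← hn, ← Subgroup.card_mul_index N]
        have h1 : 1 < N.index := hNp.one_lt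
        have h2 : 0 < Nat.card N := Nat.card_pos
        nlinarith
      have hNsolv : Group.IsSolvable N := inferInstance
      obtain ⟨M₀, instM₀, instF₀, hM₀, f₀, hf₀⟩ := ih (Nat.card N) hlt N hNsolv rfl
      have instQ : Fintype (G ⧸ N) := Fintype.ofFinite _
      have instW : Fintype (M₀ ≀ᵣ (G ⧸ N)) := Fintype.ofFinite _
      refine ⟨M₀ ≀ᵣ (G ⧸ N), inferInstance, instW, ?_, (wrMap (G ⧸ N) f₀).comp (kkHom N), ?_⟩
      · intro χ hχ
        exact isMonomial_wreath (D := M₀) (Q := G ⧸ N) hNp hM₀ hχ
      · exact (wrMap_injective (G ⧸ N) hf₀).comp (kkHom_injective N)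
    · rw [not_nontrivial_iff_subsingleton] at hnt
      have instF : Fintype G := Fintype.ofFinite G
      refine ⟨G, inferInstance, instF, ?_, MonoidHom.id G, Function.injective_id⟩
      intro χ hχ
      have hcomm : ∀ a b : G, a * b = b * a := fun a b => Subsingleton.elim _ _
      exact isMonomialChar_of_linear (isCharacter_of_irr hχ)
        (irr_degree_one_of_comm hcomm ⟨χ, hχ⟩)

/-- Every finite solvable group is isomorphic to a subgroup of a finite M-group, a group each of whose irreducible characters is induced from a homomorphism of some subgroup into ℂˣ. -/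
theorem result {G : Type u} [Group G] [Finite G] (hsolv : Group.IsSolvable G) : ∃ (M : Type u) (_ : Group M) (_ : Fintype M), (∀ χ : M → ℂ, Cfsg.IsIrrCharacter M χ → (∃ (H : Subgroup M) (lam : ↥H →* ℂˣ), χ = Cfsg.indFun H (fun h => (lam h : ℂ)))) ∧ ∃ f : G →* M, Function.Injective f := by
  obtain ⟨M, instM, instF, hM, f, hf⟩ := dade_aux _ G hsolv rfl
  exact ⟨M, instM, instF, fun χ hχ => hM χ hχ, f, hf⟩

end Cfsg.Agent.S4573
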