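import Cfsg.Statements.S4574
import Mathlib
import Cfsg.Agent.Lib.Helper83.SecondOrth
import Cfsg.Agent.Lib.Helper85.CharAMGM
import Cfsg.Agent.Lib.Helper04.CharScalar

set_option autoImplicit false
open Cfsg

namespace Cfsg.Agent.S4574

open Cfsg.Agent.Lib.Helper83 Cfsg.Agent.Lib.Helper85
open scoped ComplexConjugate
open Finset

/-- the subgroup of elements acting by scalars -/
def scalarSubgroup {G : Type*} [Group G] {V : Type*} [AddCommGroup V] [Module ℂ V]
    (ρ : Representation ℂ G V) : Subgroup G where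
  carrier := {g | ∃ ω : ℂ, ρ g = ω • (LinearMap.id : V →ₗ[ℂ] V)}
  one_mem' := ⟨1, by rw [map_one, one_smul]; rfl⟩
  mul_mem' := by
    rintro a b ⟨ω, hω⟩ ⟨ω', hω'⟩
    refine ⟨ω * ω', ?_⟩
    rw [map_mul, hω, hω']
    ext v
    simp [mul_smul, smul_comm ω' ω]
  inv_mem' := by
    rintro a ⟨ω, hω⟩
    have h1 : ρ a * ρ a⁻¹ = 1 := by rw [← map_mul, mul_inv_cancel, map_one]
    rw [hω] at h1
    by_cases h0 : ω = 0
    · refine ⟨0, ?_⟩
      rw [h0, zero_smul, zero_mul] at h1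
      ext v
      have : (1 : Module.End ℂ V) v = 0 := by rw [← h1]; rfl
      have hv : v = 0 := by simpa using this
      subst hv
      simp
    · refine ⟨ω⁻¹, ?_⟩
      have h2 : ω • ρ a⁻¹ = 1 := by
        rw [← h1]
        ext v
        simp
      calc ρ a⁻¹ = ω⁻¹ • (ω • ρ a⁻¹) := by rw [smul_smul, inv_mul_cancel₀ h0, one_smul]
        _ = ω⁻¹ • (LinearMap.id : V →ₗ[ℂ] V) := by rw [h2]; rfl


theorem core {G : Type*} [Group G] [Fintype G] (χ : G → ℂ) (hχ : Cfsg.IsIrrCharacter G χ) :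
    ∃ (A B C S : ℝ) (d : ℕ), d = Cfsg.charDegree χ ∧ 1 ≤ d ∧
      A = ∑ g : G, (if ‖χ g‖ = (d : ℝ) then (1 : ℝ) else 0) ∧
      B = ∑ g : G, (if χ g = 0 then (1 : ℝ) else 0) ∧
      C = ∑ g : G, (if ¬ ‖χ g‖ = (d : ℝ) ∧ χ g ≠ 0 then (1 : ℝ) else 0) ∧
      S = ∑ g : G, (if ¬ ‖χ g‖ = (d : ℝ) then ‖χ g‖ ^ 2 else 0) ∧
      A + B + C = (d : ℝ) ^ 2 * A + S ∧ C ≤ S := by
  classical
  have hχc : IsCharacter G χ := isCharacter_of_irr hχ
  set d := Cfsg.charDegree χ with hd
  have hdc : (d : ℂ) = χ 1 := charDegree_cast hχc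
  obtain ⟨n, ρ, hirr, hρ⟩ := hχ
  have hdn : d = n := by
    have : (d : ℂ) = (n : ℂ) := by rw [hdc, ← hρ, rep_char_one]
    exact_mod_cast this
  have hn1 : 1 ≤ d := by
    rw [hdn]
    have := hirr
    have hnt : Nontrivial (Fin n → ℂ) := by
      by_contra h
      rw [not_nontrivial_iff_subsingleton] at h
      have : (⊥ : Subrepresentation ρ) = ⊤ := by
        apply Subrepresentation.toSubmodule_injective
        exact Subsingleton.elim _ _
      exact bot_ne_top this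
    have : 0 < Module.finrank ℂ (Fin n → ℂ) := Module.finrank_pos
    have h2 : 0 < n := by simpa using this
    omega
  have hfr : Module.finrank ℂ (Fin n → ℂ) = d := by simp [hdn]
  set f : G → ℝ := fun g => ‖χ g‖ ^ 2 with hf
  set M := Nat.card G with hMdef
  have hM : 0 < M := Nat.card_pos
  have hpowM : ∀ g : G, g ^ M = 1 := fun g => pow_card_eq_one'
  set U := (range M).filter (Nat.Coprime M) with hU
  have hUcard : (U.card : ℝ) = (M.totient : ℝ) := by
    rw [hU, Nat.totient_eq_card_coprime]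
  have hφpos : (0 : ℝ) < (M.totient : ℝ) := by
    exact_mod_cast Nat.totient_pos.mpr hM
  -- membership in Z
  have hZiff : ∀ g : G, ‖χ g‖ = (d : ℝ) ↔ g ∈ scalarSubgroup ρ := by
    intro g
    rw [← hρ, ← hfr]
    exact Cfsg.Agent.Lib.Helper04.norm_char_eq_iff ρ g
  -- S1
  have hS1 : ∑ g : G, f g = (M : ℝ) := by
    have h := irr_inner_self (⟨χ, ⟨n, ρ, hirr, hρ⟩⟩ : IrrCharacter G)
    rw [classInner_def] at h
    have h' : ∀ g : G, χ g * conj (χ g) = ((f g : ℝ) : ℂ) := by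
      intro g
      rw [Complex.mul_conj, Complex.normSq_eq_norm_sq]
    simp only [h'] at h
    rw [← Complex.ofReal_sum] at h
    have hne : (Nat.card G : ℂ) ≠ 0 := card_ne_zero_complex
    rw [inv_mul_eq_iff_eq_mul₀ hne, mul_one] at h
    have h2 : ((∑ g : G, f g : ℝ) : ℂ) = ((M : ℝ) : ℂ) := by
      rw [h]; push_cast; rfl
    exact Complex.ofReal_injective h2
  -- S2
  have hS2 : ∀ k ∈ U, ∑ g : G, (if ¬ ‖χ g‖ = (d : ℝ) then f (g ^ k) else 0) =
      ∑ g : G, (if ¬ ‖χ g‖ = (d : ℝ) then f g else 0) := by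
    intro k hk
    have hcop : (Nat.card G).Coprime k := (Finset.mem_filter.mp hk).2
    have hiff : ∀ g : G, ¬ ‖χ (g ^ k)‖ = (d : ℝ) ↔ ¬ ‖χ g‖ = (d : ℝ) := by
      intro g
      rw [hZiff, hZiff]
      constructor
      · intro h1 h2
        exact h1 ((scalarSubgroup ρ).pow_mem h2 k)
      · intro h1 h2
        apply h1
        have := (powCoprime hcop).symm_apply_apply g
        rw [powCoprime_symm_apply, powCoprime_apply] at this
        rw [← this]
        exact (scalarSubgroup ρ).zpow_mem h2 _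
    rw [← Equiv.sum_comp (powCoprime hcop) (fun y => if ¬ ‖χ y‖ = (d : ℝ) then f y else 0)]
    apply Finset.sum_congr rfl
    intro g _
    simp only [powCoprime_apply]
    rw [if_congr (hiff g) rfl rfl]
  -- S3
  have hS3 : ∀ g : G, (if χ g ≠ 0 then (M.totient : ℝ) else 0) ≤ ∑ k ∈ U, f (g ^ k) := by
    intro g
    split_ifs with h
    · exact char_sum_normSq_ge' hχc g M hM (hpowM g) h
    · exact Finset.sum_nonneg fun k _ => by positivity
  -- S4
  have hS4 : (M.totient : ℝ) * ∑ g : G, (if ¬ ‖χ g‖ = (d : ℝ) ∧ χ g ≠ 0 then (1 : ℝ) else 0) ≤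
      (M.totient : ℝ) * ∑ g : G, (if ¬ ‖χ g‖ = (d : ℝ) then f g else 0) := by
    calc (M.totient : ℝ) * ∑ g : G, (if ¬ ‖χ g‖ = (d : ℝ) ∧ χ g ≠ 0 then (1 : ℝ) else 0)
        = ∑ g : G, (if ¬ ‖χ g‖ = (d : ℝ) then (if χ g ≠ 0 then (M.totient : ℝ) else 0) else 0) := by
          rw [Finset.mul_sum]
          apply Finset.sum_congr rfl
          intro g _
          by_cases h1 : ¬ ‖χ g‖ = (d : ℝ) <;> by_cases h2 : χ g ≠ 0 <;> simp [h1, h2]
      _ ≤ ∑ g : G, (if ¬ ‖χ g‖ = (d : ℝ) then ∑ k ∈ U, f (g ^ k) else 0) := by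
          apply Finset.sum_le_sum
          intro g _
          by_cases h1 : ¬ ‖χ g‖ = (d : ℝ)
          · rw [if_pos h1, if_pos h1]
            exact hS3 g
          · rw [if_neg h1, if_neg h1]
      _ = ∑ k ∈ U, ∑ g : G, (if ¬ ‖χ g‖ = (d : ℝ) then f (g ^ k) else 0) := by
          rw [Finset.sum_comm]
          apply Finset.sum_congr rfl
          intro g _
          by_cases h1 : ¬ ‖χ g‖ = (d : ℝ)
          · simp only [if_pos h1]
          · simp only [if_neg h1, Finset.sum_const_zero]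
      _ = ∑ k ∈ U, ∑ g : G, (if ¬ ‖χ g‖ = (d : ℝ) then f g else 0) :=
          Finset.sum_congr rfl hS2
      _ = (M.totient : ℝ) * ∑ g : G, (if ¬ ‖χ g‖ = (d : ℝ) then f g else 0) := by
          rw [Finset.sum_const, nsmul_eq_mul, hUcard]
  have hS4' : ∑ g : G, (if ¬ ‖χ g‖ = (d : ℝ) ∧ χ g ≠ 0 then (1 : ℝ) else 0) ≤
      ∑ g : G, (if ¬ ‖χ g‖ = (d : ℝ) then f g else 0) := le_of_mul_le_mul_left hS4 hφpos
  refine ⟨_, _, _, _, d, rfl, hn1, rfl, rfl, rfl, rfl, ?_, hS4'⟩
  -- counting identity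
  have hsplit : ∑ g : G, f g = ∑ g : G, (if ‖χ g‖ = (d : ℝ) then f g else 0) +
      ∑ g : G, (if ¬ ‖χ g‖ = (d : ℝ) then f g else 0) := by
    rw [← Finset.sum_add_distrib]
    apply Finset.sum_congr rfl
    intro g _
    by_cases h : ‖χ g‖ = (d : ℝ) <;> simp [h]
  have hZsum : ∑ g : G, (if ‖χ g‖ = (d : ℝ) then f g else 0) =
      (d : ℝ) ^ 2 * ∑ g : G, (if ‖χ g‖ = (d : ℝ) then (1 : ℝ) else 0) := by
    rw [Finset.mul_sum]
    apply Finset.sum_congr rfl
    intro g _
    by_cases h : ‖χ g‖ = (d : ℝ)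
    · simp [h, hf]
    · simp [h]
  have hcount : (M : ℝ) = ∑ g : G, (if ‖χ g‖ = (d : ℝ) then (1 : ℝ) else 0) +
      ∑ g : G, (if χ g = 0 then (1 : ℝ) else 0) +
      ∑ g : G, (if ¬ ‖χ g‖ = (d : ℝ) ∧ χ g ≠ 0 then (1 : ℝ) else 0) := by
    have h1 : (M : ℝ) = ∑ g : G, (1 : ℝ) := by
      rw [Finset.sum_const, Finset.card_univ, nsmul_eq_mul, mul_one, hMdef,
        Nat.card_eq_fintype_card]
    rw [h1, ← Finset.sum_add_distrib, ← Finset.sum_add_distrib]
    apply Finset.sum_congr rfl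
    intro g _
    by_cases h1 : ‖χ g‖ = (d : ℝ) <;> by_cases h2 : χ g = 0
    · exfalso
      rw [h2, norm_zero] at h1
      have : (1 : ℝ) ≤ d := by exact_mod_cast hn1
      linarith
    · simp [h1, h2]
    · have h3 : ¬ (0 : ℝ) = (d : ℝ) := by
        intro h
        have : (1 : ℝ) ≤ d := by exact_mod_cast hn1
        linarith
      simp [h2, h3]
    · simp [h1, h2]
  rw [← hcount, ← hS1, hsplit, hZsum]


/-- Let χ be an irreducible character of the finite group G, of degree d, and let Z(χ) be the set of elements g with |χ g| = d (the centre of χ). Then χ vanishes on at least (d ^ 2 - 1) · |Z(χ)| elements of G, with equality when every value |χ g| is 0, 1 or d. -/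
theorem result {G : Type*} [Group G] [Fintype G] [DecidableEq G] (χ : G → ℂ) (hχ : Cfsg.IsIrrCharacter G χ) : (Cfsg.charDegree χ ^ 2 - 1) * (Finset.univ.filter (fun g : G => ‖χ g‖ = (Cfsg.charDegree χ : ℝ))).card ≤ (Finset.univ.filter (fun g : G => χ g = 0)).card ∧ ((∀ g : G, ‖χ g‖ = 0 ∨ ‖χ g‖ = 1 ∨ ‖χ g‖ = (Cfsg.charDegree χ : ℝ)) → (Cfsg.charDegree χ ^ 2 - 1) * (Finset.univ.filter (fun g : G => ‖χ g‖ = (Cfsg.charDegree χ : ℝ))).card = (Finset.univ.filter (fun g : G => χ g = 0)).card) := by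
  obtain ⟨A, B, C, S, d, hd, hd1, hA, hB, hC, hS, hsum, hCS⟩ := core χ hχ
  rw [← hd]
  have hAcard : ((Finset.univ.filter (fun g : G => ‖χ g‖ = (d : ℝ))).card : ℝ) = A := by
    rw [hA, Finset.card_filter, Nat.cast_sum]
    apply Finset.sum_congr rfl
    intro g _
    split_ifs <;> simp
  have hBcard : ((Finset.univ.filter (fun g : G => χ g = 0)).card : ℝ) = B := by
    rw [hB, Finset.card_filter, Nat.cast_sum]
    apply Finset.sum_congr rfl
    intro g _
    split_ifs <;> simp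
  have hcast : ((d ^ 2 - 1 : ℕ) : ℝ) = (d : ℝ) ^ 2 - 1 := by
    rw [Nat.cast_sub (Nat.one_le_pow _ _ hd1)]
    push_cast
    ring
  have hexp : ((d : ℝ) ^ 2 - 1) * A = (d : ℝ) ^ 2 * A - A := by ring
  constructor
  · have h1 : ((d : ℝ) ^ 2 - 1) * A ≤ B := by
      rw [hexp]; linarith
    have h2 : (((d ^ 2 - 1) * (Finset.univ.filter (fun g : G => ‖χ g‖ = (d : ℝ))).card : ℕ) : ℝ) ≤
        ((Finset.univ.filter (fun g : G => χ g = 0)).card : ℝ) := by
      rw [Nat.cast_mul, hcast, hAcard, hBcard]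
      exact h1
    exact_mod_cast h2
  · intro h
    have hSC : S = C := by
      rw [hS, hC]
      apply Finset.sum_congr rfl
      intro g _
      by_cases h1 : ‖χ g‖ = (d : ℝ)
      · simp [h1]
      · rcases h g with h2 | h2 | h2
        · have h3 : χ g = 0 := norm_eq_zero.1 h2
          simp [h1, h3]
        · have h3 : χ g ≠ 0 := by
            intro h4
            rw [h4, norm_zero] at h2
            exact zero_ne_one h2
          simp [h1, h3, h2]
        · exact absurd h2 h1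
    have h1 : ((d : ℝ) ^ 2 - 1) * A = B := by
      rw [hexp]; linarith
    have h2 : (((d ^ 2 - 1) * (Finset.univ.filter (fun g : G => ‖χ g‖ = (d : ℝ))).card : ℕ) : ℝ) =
        ((Finset.univ.filter (fun g : G => χ g = 0)).card : ℝ) := by
      rw [Nat.cast_mul, hcast, hAcard, hBcard]
      exact h1
    exact_mod_cast h2

end Cfsg.Agent.S4574
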