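import Cfsg.Statements.S4580
import Cfsg.Agent.S4517
import Cfsg.Agent.S4550
import Cfsg.Agent.Lib.Helper85.Gallagher
import Cfsg.Agent.Lib.Helper80.GaloisChar
import Cfsg.Agent.Lib.Helper82.BlockBasic
import Cfsg.Agent.Lib.Helper82.LocalRing
import Cfsg.Agent.Lib.Helper82.CharSchur
import Cfsg.Agent.Lib.Helper22.BlockQuot
import Cfsg.Agent.Lib.Helper21.LinearChar
import Cfsg.Agent.Lib.Helper83.CharBasic
import Cfsg.Agent.Lib.Helper05.CharBasic
import Cfsg.Agent.Lib.Helper05.CharOrtho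

set_option autoImplicit false
set_option linter.style.haveILetI false
set_option linter.unusedSectionVars false
open Cfsg

namespace Cfsg.Agent.S4580

open Cfsg.Agent.Lib.Helper82 Cfsg.Agent.Lib.Helper05
open scoped ComplexConjugate

/-- Twisting by a power map prime to the group order preserves the block relation. -/
theorem sameBlock_twist {G : Type*} [Group G] [Finite G] (M : Ideal Cfsg.AlgInt) (k : ℕ)
    (hk : k.Coprime (Nat.card G)) (χ ψ : G → ℂ) (h : SameBlock M χ ψ) :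
    SameBlock M (fun g => χ (g ^ k)) (fun g => ψ (g ^ k)) := by
  intro g
  have := h (g ^ k)
  simp only [centralChar, one_pow] at this ⊢
  rw [Cfsg.Agent.S4550.centralizer_pow_eq k hk g] at this
  exact this

/-- If `ψ = ν · χ` pointwise with `ν` taking `2`-power roots of unity as values and `ν 1 = 1`,
then `χ` and `ψ` are in the same `2`-block. -/
theorem sameBlock_of_twist_two_power {G : Type*} [Group G] [Finite G] (M : Ideal Cfsg.AlgInt)
    (hM : Cfsg.IsPModular 2 M) {χ : G → ℂ} (hχ : IsIrrCharacter G χ) (ψ ν : G → ℂ) (a : ℕ)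
    (hν : ∀ g, ν g ^ 2 ^ a = 1) (hν1 : ν 1 = 1) (hψ : ∀ g, ψ g = ν g * χ g) :
    SameBlock M χ ψ := by
  have hMp : M.IsPrime := hM.2.1.isPrime
  intro g
  have h1 : centralChar χ g - centralChar ψ g = centralChar χ g * (-(ν g - 1)) := by
    simp only [centralChar, hψ, hν1, one_mul]
    ring
  rw [h1]
  have hint : IsIntegral ℤ (ν g) := by
    refine ⟨Polynomial.X ^ 2 ^ a - 1, Polynomial.monic_X_pow_sub_C 1 (by positivity), ?_⟩
    simp [hν g]
  exact memLocalIdeal_mul_left hMp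
    (memLocalRing_of_isIntegral hMp (IsIrrCharacter.isIntegral_centralChar hχ g))
    (memLocalIdeal_neg (Cfsg.Agent.Lib.Helper22.memLocalIdeal_sub_one_of_pow hM hint a (hν g)))

/-- Let N be a normal subgroup of the finite group G, M a maximal ideal of the algebraic integers containing 2, and θ a real-valued irreducible character of N of odd degree that extends to G (some irreducible character of G restricts to θ). Then θ has an extension to G lying in the principal 2-block of G. -/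
theorem result {G : Type*} [Group G] [Finite G] (N : Subgroup G) [N.Normal] (M : Ideal Cfsg.AlgInt) (hM : Cfsg.IsPModular 2 M) (θ : Cfsg.IrrCharacter N) (hreal : ∀ n : N, ((θ : N → ℂ) n).im = 0) (hodd : Odd (Cfsg.charDegree (θ : N → ℂ))) (hext : ∃ η : Cfsg.IrrCharacter G, ∀ n : N, (η : G → ℂ) n = (θ : N → ℂ) n) :
    ∃ η : Cfsg.IrrCharacter G, (∀ n : N, (η : G → ℂ) n = (θ : N → ℂ) n) ∧ η ∈ Cfsg.principalBlock M G := by
  classical
  haveI : Fintype G := Fintype.ofFinite G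
  haveI : Fintype N := Fintype.ofFinite N
  haveI : Fact (Nat.Prime 2) := ⟨Nat.prime_two⟩
  have hMp : M.IsPrime := hM.2.1.isPrime
  obtain ⟨η₀, hη₀⟩ := hext
  -- the exponent realizing inversion
  set n := Nat.card G with hn
  have hnpos : 0 < n := Nat.card_pos
  set k := 2 * n - 1 with hkdef
  have hk : k.Coprime n := by
    have h1 : k + 1 = 2 * n := by omega
    have h2 : Nat.Coprime (k + 1) k := by simp
    have h3 : Nat.Coprime (2 * n) k := by rw [← h1]; exact h2
    exact (Nat.Coprime.coprime_mul_left h3).symm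
  have hpow : ∀ g : G, g ^ k = g⁻¹ := by
    intro g
    have h1 : g ^ (k + 1) = 1 := by
      have : k + 1 = n * 2 := by omega
      rw [this, pow_mul, hn, pow_card_eq_one', one_pow]
    rw [pow_succ] at h1
    exact eq_inv_of_mul_eq_one_left h1
  -- the restriction of `η₀`
  have hres : (fun h : N => (η₀ : G → ℂ) h) = (θ : N → ℂ) := funext hη₀
  have hη₀N : IsIrrCharacter N (fun h : N => (η₀ : G → ℂ) h) := by rw [hres]; exact θ.2
  have hθc : IsCharacter N (θ : N → ℂ) := Cfsg.Agent.Lib.Helper05.IsIrrCharacter.isCharacter θ.2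
  -- the conjugate character
  have hbar : IsIrrCharacter G (fun g => (η₀ : G → ℂ) (g ^ k)) :=
    Cfsg.Agent.Lib.Helper80.isIrrCharacter_pow_coprime η₀.2 k hk
  have hresbar : (fun h : N => (η₀ : G → ℂ) ((h : G) ^ k)) = (θ : N → ℂ) := by
    funext h
    rw [hpow]
    have h1 : ((h : G))⁻¹ = ((h⁻¹ : N) : G) := rfl
    rw [h1, hη₀, Cfsg.Agent.Lib.Helper83.char_inv hθc h]
    apply Complex.ext
    · simp
    · simp [hreal h]
  obtain ⟨hgal1, hgal2⟩ := Cfsg.Agent.Lib.Helper85.gallagher N η₀.2 hη₀N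
  have hne : classInner (fun h : N => (fun g => (η₀ : G → ℂ) (g ^ k)) (h : G))
      (fun h : N => (η₀ : G → ℂ) h) ≠ 0 := by
    simp only
    rw [hresbar, hres, classInner_irr_self θ.2]
    exact one_ne_zero
  obtain ⟨β, hβ⟩ := hgal2 _ hbar hne
  have hη₀1 : (η₀ : G → ℂ) 1 ≠ 0 := Cfsg.Agent.Lib.Helper82.IsIrrCharacter.apply_one_ne_zero η₀.2
  have hβ1 : (β : G ⧸ N → ℂ) 1 = 1 := by
    have h1 := congrFun hβ 1
    simp only [one_pow, QuotientGroup.mk_one] at h1
    have h2 : (1 : ℂ) * (η₀ : G → ℂ) 1 = (β : G ⧸ N → ℂ) 1 * (η₀ : G → ℂ) 1 := by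
      rw [one_mul]; exact h1
    exact (mul_right_cancel₀ hη₀1 h2).symm
  have hβc : IsCharacter (G ⧸ N) (β : G ⧸ N → ℂ) :=
    Cfsg.Agent.Lib.Helper05.IsIrrCharacter.isCharacter β.2
  set φ : (G ⧸ N) →* ℂˣ := (Cfsg.Agent.Lib.Helper21.linearCharHom hβc hβ1).toHomUnits with hφdef
  have hφ : ∀ x, ((φ x : ℂˣ) : ℂ) = (β : G ⧸ N → ℂ) x := fun x => rfl
  -- the odd part of the group order
  set a := n.factorization 2 with ha
  set m := n / 2 ^ a with hm
  have hnm : 2 ^ a * m = n := Nat.ordProj_mul_ordCompl_eq_self n 2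
  have hmodd : ¬ 2 ∣ m := Nat.not_dvd_ordCompl Nat.prime_two hnpos.ne'
  obtain ⟨c, hc⟩ : ∃ c, m = 2 * c + 1 := by
    have : Odd m := Nat.odd_iff.mpr (Nat.two_dvd_ne_zero.mp hmodd)
    exact this
  -- the corrected extension
  let β' : IrrCharacter (G ⧸ N) :=
    ⟨fun x => (((φ ^ (c + 1)) x : ℂˣ) : ℂ), isIrrCharacter_of_hom (φ ^ (c + 1))⟩
  let η : IrrCharacter G :=
    ⟨fun g : G => (β' : G ⧸ N → ℂ) (QuotientGroup.mk g) * (η₀ : G → ℂ) g, hgal1 β'⟩
  have hηapp : ∀ g : G, (η : G → ℂ) g =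
      ((φ (QuotientGroup.mk g) : ℂˣ) : ℂ) ^ (c + 1) * (η₀ : G → ℂ) g := by
    intro g
    show (((φ ^ (c + 1)) (QuotientGroup.mk g) : ℂˣ) : ℂ) * (η₀ : G → ℂ) g = _
    rw [MonoidHom.pow_apply, Units.val_pow_eq_pow_val]
  have hηN : ∀ h : N, (η : G → ℂ) h = (θ : N → ℂ) h := by
    intro h
    rw [hηapp, (QuotientGroup.eq_one_iff (h : G)).mpr h.2, map_one, Units.val_one, one_pow,
      one_mul, hη₀]
  refine ⟨η, hηN, ?_⟩
  -- the key relations
  have hA : ∀ g : G, (η₀ : G → ℂ) (g ^ k) =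
      ((φ (QuotientGroup.mk g) : ℂˣ) : ℂ) * (η₀ : G → ℂ) g := by
    intro g
    have h1 := congrFun hβ g
    rw [h1, hφ]
  have hC : ∀ g : G, ((φ (QuotientGroup.mk (g ^ k)) : ℂˣ) : ℂ) =
      (((φ (QuotientGroup.mk g) : ℂˣ) : ℂ))⁻¹ := by
    intro g
    rw [hpow, QuotientGroup.mk_inv, map_inv, Units.val_inv_eq_inv_val]
  have hD : ∀ g : G, ((φ (QuotientGroup.mk g) : ℂˣ) : ℂ) ^ n = 1 := by
    intro g
    rw [← Units.val_pow_eq_pow_val, ← map_pow, ← QuotientGroup.mk_pow, hn, pow_card_eq_one',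
      QuotientGroup.mk_one, map_one, Units.val_one]
  have hx0 : ∀ g : G, ((φ (QuotientGroup.mk g) : ℂˣ) : ℂ) ≠ 0 := fun g => Units.ne_zero _
  set ν : G → ℂ := fun g => ((((φ (QuotientGroup.mk g) : ℂˣ) : ℂ)) ^ m)⁻¹ with hνdef
  have hν : ∀ g, ν g ^ 2 ^ a = 1 := by
    intro g
    simp only [hνdef]
    rw [inv_pow, ← pow_mul, mul_comm m, hnm, hD, inv_one]
  have hν1 : ν 1 = 1 := by
    simp only [hνdef]
    rw [QuotientGroup.mk_one, map_one, Units.val_one, one_pow, inv_one]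
  have hψ : ∀ g, (fun g => (η : G → ℂ) (g ^ k)) g = ν g * (η : G → ℂ) g := by
    intro g
    simp only [hνdef]
    rw [hηapp, hηapp, hA, hC, hc]
    have hx := hx0 g
    generalize ((φ (QuotientGroup.mk g) : ℂˣ) : ℂ) = x at hx ⊢
    generalize (η₀ : G → ℂ) g = e
    have h1 : x⁻¹ ^ (c + 1) * x = (x ^ (2 * c + 1))⁻¹ * x ^ (c + 1) := by
      rw [inv_pow]
      have h2 : x ^ (2 * c + 1) = x ^ (c + 1) * x ^ c := by rw [← pow_add]; congr 1; omega
      have h3 : x ^ (c + 1) = x ^ c * x := pow_succ x c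
      have hxc : x ^ c ≠ 0 := pow_ne_zero _ hx
      rw [h2, h3]
      field_simp
    calc x⁻¹ ^ (c + 1) * (x * e) = (x⁻¹ ^ (c + 1) * x) * e := by ring
      _ = ((x ^ (2 * c + 1))⁻¹ * x ^ (c + 1)) * e := by rw [h1]
      _ = (x ^ (2 * c + 1))⁻¹ * (x ^ (c + 1) * e) := by ring
  have hsame : SameBlock M (η : G → ℂ) (fun g => (η : G → ℂ) (g ^ k)) :=
    sameBlock_of_twist_two_power M hM η.2 _ ν a hν hν1 hψ
  -- the block of `η`
  set B := blockOf M (η : G → ℂ) with hB
  have hBblock : IsPBlock M B := ⟨η, rfl⟩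
  have hηB : η ∈ B := mem_blockOf_self hMp η
  have hdeg : charDegree (η : G → ℂ) = charDegree (θ : N → ℂ) := by
    unfold charDegree
    have h1 := hηN 1
    rw [show ((1 : N) : G) = 1 from rfl] at h1
    rw [h1]
  have hdef : blockDefect 2 B = (Nat.card G).factorization 2 := by
    unfold blockDefect
    have h0 : sInf ((fun χ : IrrCharacter G => (charDegree (χ : G → ℂ)).factorization 2) '' B)
        = 0 := by
      apply Nat.eq_zero_of_le_zero
      refine Nat.sInf_le ⟨η, hηB, ?_⟩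
      simp only
      rw [hdeg]
      apply Nat.factorization_eq_zero_of_not_dvd
      exact fun h2 => (Nat.not_even_iff_odd.mpr hodd) (even_iff_two_dvd.mpr h2)
    rw [h0, Nat.sub_zero]
  have hstab : ∀ χ ∈ B, ∃ ψ ∈ B, ∀ g : G, (ψ : G → ℂ) g = (χ : G → ℂ) (g ^ k) := by
    intro χ hχ
    refine ⟨⟨fun g => (χ : G → ℂ) (g ^ k),
      Cfsg.Agent.Lib.Helper80.isIrrCharacter_pow_coprime χ.2 k hk⟩, ?_, fun g => rfl⟩
    have h1 : SameBlock M (η : G → ℂ) (χ : G → ℂ) := mem_blockOf_iff.mp hχ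
    have h2 := sameBlock_twist M k hk _ _ h1
    exact mem_blockOf_iff.mpr (sameBlock_trans hMp hsame h2)
  have hfin := Cfsg.Agent.S4517.result M hM k hk (fun g _ => hpow g) B hBblock hdef hstab
  rw [← hfin]
  exact hηB

end Cfsg.Agent.S4580
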