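import Cfsg.Statements.S4582
import Mathlib

set_option autoImplicit false
open Cfsg

namespace Cfsg.Agent.S4582

open scoped commutatorElement

section aux
variable {L : Type*} [Group L] [Finite L]

theorem mem_comm_iff (H : Subgroup L) (c : H) :
    (Abelianization.of c = 1) ↔ (c : L) ∈ ⁅H, H⁆ := by
  rw [← MonoidHom.mem_ker, Abelianization.ker_of, ← Subgroup.map_subtype_commutator]
  exact (Subgroup.mem_map_iff_mem (f := H.subtype) H.subtype_injective).symm

/-- the transfer into the abelianization of `H` -/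
noncomputable def V (H : Subgroup L) : L →* Abelianization H :=
  MonoidHom.transfer (Abelianization.of : H →* Abelianization H)

theorem V_ker_of_odd (H : Subgroup L) (hH : IsPGroup 2 H) (N : Subgroup L)
    (hodd : Odd (Nat.card (Abelianization N))) (n : L) (hn : n ∈ N) : V H n = 1 := by
  have hA : IsPGroup 2 (Abelianization H) := hH.to_quotient (commutator H)
  let ψ : N →* Abelianization H := (V H).comp N.subtype
  let ψ' : Abelianization N →* Abelianization H := Abelianization.lift ψ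
  have h1 : V H n = ψ' (Abelianization.of ⟨n, hn⟩) := by
    simp [ψ', ψ]
  obtain ⟨k, hk⟩ := hA (V H n)
  have h2 : orderOf (V H n) ∣ Nat.card (Abelianization N) := by
    rw [h1]
    exact (orderOf_map_dvd ψ' _).trans (orderOf_dvd_natCard _)
  have h3 : orderOf (V H n) ∣ 2 ^ k := orderOf_dvd_of_pow_eq_one hk
  have h4 : Nat.Coprime (2 ^ k) (Nat.card (Abelianization N)) :=
    Nat.Coprime.pow_left k (Nat.coprime_two_left.2 hodd)
  have h5 : orderOf (V H n) = 1 := Nat.eq_one_of_dvd_coprimes h4 h3 h2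
  exact orderOf_eq_one_iff.1 h5


/-- the squares-trivial subgroup of the abelianization -/
noncomputable def T (H : Subgroup L) : Subgroup (Abelianization H) := (powMonoidHom 2).ker

theorem mem_T (H : Subgroup L) (a : Abelianization H) : a ∈ T H ↔ a ^ 2 = 1 := by
  rw [T, MonoidHom.mem_ker, powMonoidHom_apply]

theorem factor_claim (H N : Subgroup L) [hN : N.Normal] (hsup : H ⊔ N = ⊤)
    (hQ : ∀ u ∈ H ⊓ N, u ^ 2 ∈ ⁅H, H⁆) (x : L) (hx : x ∈ H) (k : L) (j : ℕ)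
    (h : k⁻¹ * x ^ j * k ∈ H) :
    (Abelianization.of (⟨k⁻¹ * x ^ j * k, h⟩ : H)) *
      ((Abelianization.of (⟨x, hx⟩ : H)) ^ j)⁻¹ ∈ T H := by
  have hk : k ∈ ((H ⊔ N : Subgroup L) : Set L) := by rw [hsup]; trivial
  rw [Subgroup.mul_normal] at hk
  obtain ⟨a, ha, n, hn, rfl⟩ := hk
  have ha' : a ∈ H := ha
  have hn' : n ∈ N := hn
  set y : L := a⁻¹ * x ^ j * a with hy
  have hyH : y ∈ H := H.mul_mem (H.mul_mem (H.inv_mem ha') (H.pow_mem hx j)) ha'
  set u : L := y⁻¹ * ((a * n)⁻¹ * x ^ j * (a * n)) with hu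
  have huH : u ∈ H := H.mul_mem (H.inv_mem hyH) h
  have huN : u ∈ N := by
    have : u = (y⁻¹ * n⁻¹ * y⁻¹⁻¹) * n := by rw [hu, hy]; group
    rw [this]
    exact N.mul_mem (hN.conj_mem _ (N.inv_mem hn') _) hn'
  have hu2 : u ^ 2 ∈ ⁅H, H⁆ := hQ u ⟨huH, huN⟩
  have e1 : (⟨(a * n)⁻¹ * x ^ j * (a * n), h⟩ : H) = ⟨y, hyH⟩ * ⟨u, huH⟩ := by
    apply Subtype.ext
    simp only [Subgroup.coe_mul, hu]
    group
  have e2 : (⟨y, hyH⟩ : H) = (⟨a, ha'⟩ : H)⁻¹ * (⟨x, hx⟩ : H) ^ j * ⟨a, ha'⟩ := by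
    apply Subtype.ext
    simp [hy]
  rw [e1, map_mul, e2, map_mul, map_mul, map_inv, map_pow]
  have e3 : (Abelianization.of (⟨a, ha'⟩ : H))⁻¹ * (Abelianization.of (⟨x, hx⟩ : H)) ^ j *
      (Abelianization.of (⟨a, ha'⟩ : H)) * Abelianization.of (⟨u, huH⟩ : H) *
      ((Abelianization.of (⟨x, hx⟩ : H)) ^ j)⁻¹ = Abelianization.of (⟨u, huH⟩ : H) := by
    rw [mul_comm ((Abelianization.of (⟨a, ha'⟩ : H))⁻¹), mul_assoc, mul_assoc, mul_assoc]
    simp
  rw [e3, mem_T, ← map_pow, mem_comm_iff]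
  exact hu2


theorem V_sq_eq (H N : Subgroup L) [hN : N.Normal] (hsup : H ⊔ N = ⊤)
    (hQ : ∀ u ∈ H ⊓ N, u ^ 2 ∈ ⁅H, H⁆) (x : L) (hx : x ∈ H) :
    (V H x) ^ 2 = ((Abelianization.of (⟨x, hx⟩ : H)) ^ H.index) ^ 2 := by
  have : Fintype (Quotient (MulAction.orbitRel (Subgroup.zpowers x) (L ⧸ H))) :=
    Fintype.ofFinite _
  have key : V H x * ((Abelianization.of (⟨x, hx⟩ : H)) ^ H.index)⁻¹ ∈ T H := by
    rw [V, MonoidHom.transfer_eq_prod_quotient_orbitRel_zpowers_quot,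
      Subgroup.index_eq_sum_minimalPeriod H x, ← Finset.prod_pow_eq_pow_sum,
      ← Finset.prod_inv_distrib, ← Finset.prod_mul_distrib]
    apply Subgroup.prod_mem
    intro q _
    exact factor_claim H N hsup hQ x hx _ _ _
  rw [mem_T, mul_pow, inv_pow, mul_inv_eq_one] at key
  exact key

theorem core (H N : Subgroup L) [hN : N.Normal] (hH : IsPGroup 2 H) (hidx : Odd H.index)
    (hsup : H ⊔ N = ⊤) (hodd : Odd (Nat.card (Abelianization N)))
    (hQ : ∀ u ∈ H ⊓ N, u ^ 2 ∈ ⁅H, H⁆)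
    (hP : ∀ x ∈ H, x ^ 2 ∈ (H ⊓ N) ⊔ ⁅H, H⁆) :
    ∀ x ∈ H, x ^ 2 ∈ ⁅H, H⁆ := by
  intro x hx
  have hA : IsPGroup 2 (Abelianization H) := hH.to_quotient (commutator H)
  -- V kills x^2
  have hker : (H ⊓ N) ⊔ ⁅H, H⁆ ≤ (V H).ker := by
    apply sup_le
    · intro n hn
      exact V_ker_of_odd H hH N hodd n hn.2
    · refine le_trans ?_ (Abelianization.commutator_subset_ker (V H))
      rw [commutator_def]
      exact Subgroup.commutator_mono le_top le_top
  have h1 : V H (x ^ 2) = 1 := hker (hP x hx)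
  rw [map_pow, V_sq_eq H N hsup hQ x hx, ← pow_mul] at h1
  set b := Abelianization.of (⟨x, hx⟩ : H) with hb
  obtain ⟨k, hk⟩ := hA b
  have h2 : orderOf b ∣ H.index * 2 := orderOf_dvd_of_pow_eq_one h1
  have h3 : orderOf b ∣ 2 ^ k := orderOf_dvd_of_pow_eq_one hk
  have h4 : orderOf b ∣ 2 := by
    have hc : Nat.Coprime (orderOf b) H.index := by
      apply Nat.Coprime.coprime_dvd_left h3
      exact Nat.Coprime.pow_left k (Nat.coprime_two_left.2 hidx)
    exact hc.dvd_of_dvd_mul_left h2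
  have h5 : b ^ 2 = 1 := orderOf_dvd_iff_pow_eq_one.1 h4
  rw [hb, ← map_pow, mem_comm_iff] at h5
  exact h5


section translate
variable {G : Type*} [Group G]

theorem commutator_le_of_le (A B K : Subgroup G) (hA : A ≤ K) (hB : B ≤ K) : ⁅A, B⁆ ≤ K := by
  rw [Subgroup.commutator_le]
  intro a ha b hb
  rw [commutatorElement_def]
  exact K.mul_mem (K.mul_mem (K.mul_mem (hA ha) (hB hb)) (K.inv_mem (hA ha))) (K.inv_mem (hB hb))

theorem subgroupOf_commutator (A B K : Subgroup G) (hA : A ≤ K) (hB : B ≤ K) :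
    ⁅A.subgroupOf K, B.subgroupOf K⁆ = ⁅A, B⁆.subgroupOf K := by
  apply Subgroup.map_injective K.subtype_injective
  rw [Subgroup.map_commutator, Subgroup.subgroupOf_map_subtype, Subgroup.subgroupOf_map_subtype,
    Subgroup.subgroupOf_map_subtype, inf_of_le_left hA, inf_of_le_left hB,
    inf_of_le_left (commutator_le_of_le A B K hA hB)]

theorem main [Finite G] (N : Subgroup G) [N.Normal] (P : Sylow 2 G)
    (hP : ∀ x ∈ (P : Subgroup G), x ^ 2 ∈ ((P : Subgroup G) ⊓ N) ⊔ ⁅(P : Subgroup G), (P : Subgroup G)⁆)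
    (hQ : ∀ x ∈ (P : Subgroup G) ⊓ N, x ^ 2 ∈ ⁅(P : Subgroup G) ⊓ N, (P : Subgroup G) ⊓ N⁆)
    (hodd : Odd (Nat.card (Abelianization N))) :
    ∀ x ∈ (P : Subgroup G), x ^ 2 ∈ ⁅(P : Subgroup G), (P : Subgroup G)⁆ := by
  set Pn : Subgroup G := (P : Subgroup G) with hPn
  set K : Subgroup G := Pn ⊔ N with hK
  have hPK : Pn ≤ K := le_sup_left
  have hNK : N ≤ K := le_sup_right
  have hcK : ⁅Pn, Pn⁆ ≤ K := commutator_le_of_le Pn Pn K hPK hPK
  have hH : IsPGroup 2 (Pn.subgroupOf K) := P.2.comap_subtype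
  have hidx : Odd (Pn.subgroupOf K).index := by
    have h1 : (Pn.subgroupOf K).index ∣ Pn.index := Subgroup.relIndex_dvd_index_of_le hPK
    have h2 : ¬ 2 ∣ Pn.index := P.not_dvd_index
    rw [← Nat.not_even_iff_odd, even_iff_two_dvd]
    exact fun h => h2 (h.trans h1)
  have hsup : Pn.subgroupOf K ⊔ N.subgroupOf K = ⊤ := by
    rw [← Subgroup.subgroupOf_sup hPK hNK, Subgroup.subgroupOf_self]
  have hodd' : Odd (Nat.card (Abelianization (N.subgroupOf K))) := by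
    have e := (Subgroup.subgroupOfEquivOfLe hNK).abelianizationCongr
    rw [Nat.card_congr e.toEquiv]
    exact hodd
  have hcomm : ⁅Pn.subgroupOf K, Pn.subgroupOf K⁆ = ⁅Pn, Pn⁆.subgroupOf K :=
    subgroupOf_commutator Pn Pn K hPK hPK
  have hQ' : ∀ u ∈ Pn.subgroupOf K ⊓ N.subgroupOf K, u ^ 2 ∈ ⁅Pn.subgroupOf K, Pn.subgroupOf K⁆ := by
    intro u hu
    rw [hcomm, Subgroup.mem_subgroupOf]
    have hu' : (u : G) ∈ Pn ⊓ N := ⟨Subgroup.mem_subgroupOf.1 hu.1, Subgroup.mem_subgroupOf.1 hu.2⟩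
    have := hQ (u : G) hu'
    have hmono : ⁅Pn ⊓ N, Pn ⊓ N⁆ ≤ ⁅Pn, Pn⁆ := Subgroup.commutator_mono inf_le_left inf_le_left
    simpa using hmono this
  have hP' : ∀ x ∈ Pn.subgroupOf K, x ^ 2 ∈ (Pn.subgroupOf K ⊓ N.subgroupOf K) ⊔ ⁅Pn.subgroupOf K, Pn.subgroupOf K⁆ := by
    intro x hx
    have h1 := hP (x : G) (Subgroup.mem_subgroupOf.1 hx)
    have h2 : (Pn.subgroupOf K ⊓ N.subgroupOf K) ⊔ ⁅Pn.subgroupOf K, Pn.subgroupOf K⁆ =
        ((Pn ⊓ N) ⊔ ⁅Pn, Pn⁆).subgroupOf K := by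
      rw [Subgroup.subgroupOf_sup (inf_le_left.trans hPK) hcK, hcomm]
      rfl
    rw [h2, Subgroup.mem_subgroupOf]
    simpa using h1
  intro x hx
  have hxK : x ∈ K := hPK hx
  have := core (Pn.subgroupOf K) (N.subgroupOf K) hH hidx hsup hodd' hQ' hP' ⟨x, hxK⟩
    (Subgroup.mem_subgroupOf.2 hx)
  rw [hcomm, Subgroup.mem_subgroupOf] at this
  simpa using this

end translate


end aux

/-- Let N be a normal subgroup of the finite group G, P a Sylow 2-subgroup of G and Q = P ∩ N. Suppose that P/QP' and Q/Q' are elementary abelian (every square of an element of P lies in the subgroup generated by Q and the derived subgroup of P, and every square of an element of Q lies in the derived subgroup of Q), and that the commutator factor group N/N' has odd order. Then P/P' is elementary abelian. -/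
theorem result {G : Type*} [Group G] [Finite G] (N : Subgroup G) [N.Normal] (P : Sylow 2 G)
    (hP : ∀ x ∈ (P : Subgroup G), x ^ 2 ∈ ((P : Subgroup G) ⊓ N) ⊔ ⁅(P : Subgroup G), (P : Subgroup G)⁆)
    (hQ : ∀ x ∈ (P : Subgroup G) ⊓ N, x ^ 2 ∈ ⁅(P : Subgroup G) ⊓ N, (P : Subgroup G) ⊓ N⁆)
    (hodd : Odd (Nat.card (Abelianization N))) :
    ∀ x ∈ (P : Subgroup G), x ^ 2 ∈ ⁅(P : Subgroup G), (P : Subgroup G)⁆ := by
  exact main N P hP hQ hodd

end Cfsg.Agent.S4582
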