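import Cfsg.Statements.S4585
import Cfsg.Agent.Lib.Helper80.PGroup

set_option autoImplicit false
open Cfsg

namespace Cfsg.Agent.S4585

open scoped commutatorElement

section aux
variable {P : Type*} [Group P]

theorem ucs_succ_eq_comap (n : ℕ) : Subgroup.upperCentralSeries P (n + 1) =
    Subgroup.comap (QuotientGroup.mk' (Subgroup.upperCentralSeries P n)) (Subgroup.center (P ⧸ Subgroup.upperCentralSeries P n)) := by
  rw [← Subgroup.upperCentralSeriesStep_eq_comap_center]
  ext x
  rw [Subgroup.mem_upperCentralSeries_succ_iff, Subgroup.mem_upperCentralSeriesStep]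

/-- L1 -/
theorem ucs_eq_top_of_index_dvd {p : ℕ} [hp : Fact p.Prime] (n : ℕ)
    (h : (Subgroup.upperCentralSeries P (n + 1)).index ∣ p) : Subgroup.upperCentralSeries P (n + 1) = ⊤ := by
  rw [ucs_succ_eq_comap] at h ⊢
  rw [Subgroup.index_comap_of_surjective _ (QuotientGroup.mk'_surjective _)] at h
  haveI : IsCyclic ((P ⧸ Subgroup.upperCentralSeries P n) ⧸ Subgroup.center (P ⧸ Subgroup.upperCentralSeries P n)) := by
    apply isCyclic_of_card_dvd_prime (p := p)
    rw [← Subgroup.index_eq_card]
    exact h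
  have hc : IsMulCommutative (P ⧸ Subgroup.upperCentralSeries P n) :=
    isMulCommutative_of_isCyclic_quotient_center_self _
  have : Subgroup.center (P ⧸ Subgroup.upperCentralSeries P n) = ⊤ := Subgroup.center_eq_top_iff.2 hc
  rw [this, Subgroup.comap_top]

/-- L2 -/
theorem mul_card_le_of_lt [Finite P] {p : ℕ} [hp : Fact p.Prime] (hP : IsPGroup p P)
    {H K : Subgroup P} (h : H < K) : p * Nat.card H ≤ Nat.card K := by
  obtain ⟨m, hm⟩ := Subgroup.card_dvd_of_le h.le
  have hm1 : m ≠ 1 := by
    intro h1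
    rw [h1, mul_one] at hm
    exact h.not_ge (Subgroup.eq_of_le_of_card_ge h.le hm.le).ge
  obtain ⟨n, hn⟩ := IsPGroup.iff_card.1 (hP.to_subgroup K)
  have hmd : m ∣ p ^ n := by rw [← hn, hm]; exact Dvd.intro_left _ rfl
  obtain ⟨j, _, rfl⟩ := (Nat.dvd_prime_pow hp.out).1 hmd
  have hj : j ≠ 0 := by rintro rfl; exact hm1 (pow_zero p)
  have hpm : p ≤ p ^ j := by
    calc p = p ^ 1 := (pow_one p).symm
      _ ≤ p ^ j := Nat.pow_le_pow_right hp.out.pos (Nat.one_le_iff_ne_zero.2 hj)
  rw [hm, mul_comm]
  exact Nat.mul_le_mul_left _ hpm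


theorem index_dvd_of_card_ge [Finite P] {p : ℕ} [hp : Fact p.Prime] {n a : ℕ}
    (hP : Nat.card P = p ^ n) (H : Subgroup P) (ha : a ≤ n) (hH : p ^ a ≤ Nat.card H) :
    H.index ∣ p ^ (n - a) := by
  have hdvd : H.index ∣ p ^ n := by rw [← hP]; exact Subgroup.index_dvd_card H
  obtain ⟨k, hk, hk'⟩ := (Nat.dvd_prime_pow hp.out).1 hdvd
  have h1 := Subgroup.card_mul_index H
  rw [hk', hP] at h1
  have h2 : p ^ (a + k) ≤ p ^ n := by
    rw [pow_add, ← h1]
    exact Nat.mul_le_mul_right _ hH
  have h3 : a + k ≤ n := (Nat.pow_le_pow_iff_right hp.out.one_lt).1 h2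
  rw [hk']
  exact pow_dvd_pow p (by omega)

theorem ucs3_eq_top [Finite P] {p : ℕ} [hp : Fact p.Prime] (hP : Nat.card P = p ^ 4) :
    Subgroup.upperCentralSeries P 3 = ⊤ := by
  have hPG := IsPGroup.of_card hP
  haveI := hPG.isNilpotent
  by_contra h3
  have hcl : ¬ Group.nilpotencyClass P ≤ 3 := by
    rwa [← Subgroup.upperCentralSeries_eq_top_iff_nilpotencyClass_le]
  push Not at hcl
  have hmono := Subgroup.upperCentralSeries.StrictMonoOn P
  have h01 : Subgroup.upperCentralSeries P 0 < Subgroup.upperCentralSeries P 1 :=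
    hmono (by simp) (by simp; omega) (by omega)
  have h12 : Subgroup.upperCentralSeries P 1 < Subgroup.upperCentralSeries P 2 :=
    hmono (by simp; omega) (by simp; omega) (by omega)
  have h23 : Subgroup.upperCentralSeries P 2 < Subgroup.upperCentralSeries P 3 :=
    hmono (by simp; omega) (by simp; omega) (by omega)
  have c1 := mul_card_le_of_lt hPG h01
  have c2 := mul_card_le_of_lt hPG h12
  have c3 := mul_card_le_of_lt hPG h23
  have c0 : 1 ≤ Nat.card (Subgroup.upperCentralSeries P 0) := Nat.card_pos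
  have hc : p ^ 3 ≤ Nat.card (Subgroup.upperCentralSeries P 3) := by
    calc p ^ 3 = p * (p * (p * 1)) := by ring
      _ ≤ p * (p * (p * Nat.card (Subgroup.upperCentralSeries P 0))) := by gcongr
      _ ≤ p * (p * Nat.card (Subgroup.upperCentralSeries P 1)) := by gcongr
      _ ≤ p * Nat.card (Subgroup.upperCentralSeries P 2) := by gcongr
      _ ≤ _ := c3
  have hi := index_dvd_of_card_ge hP (Subgroup.upperCentralSeries P 3) (by omega) hc
  exact h3 (ucs_eq_top_of_index_dvd 2 (by simpa using hi))


theorem ucs2_eq_top_iff : Subgroup.upperCentralSeries P 2 = ⊤ ↔ commutator P ≤ Subgroup.center P := by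
  rw [← Subgroup.lowerCentralSeries_eq_bot_iff_upperCentralSeries_eq_top,
    Subgroup.lowerCentralSeries_succ, Subgroup.top_lowerCentralSeries_one,
    Subgroup.commutator_eq_bot_iff_le_centralizer, Subgroup.coe_top, Subgroup.centralizer_univ]

open Cfsg.Agent.Lib.Helper80 in
/-- (A) -/
theorem ucs2_ne_top_of_index [Finite P] {p : ℕ} [hp : Fact p.Prime] (hP : Nat.card P = p ^ 4)
    (h : (commutator P).index = p ^ 2) : Subgroup.upperCentralSeries P 2 ≠ ⊤ := by
  intro h2
  rw [ucs2_eq_top_iff] at h2
  have hcard : Nat.card (commutator P) = p ^ 2 := by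
    have := Subgroup.card_mul_index (commutator P)
    rw [h, hP] at this
    have h4 : p ^ 4 = p ^ 2 * p ^ 2 := by ring
    rw [h4] at this
    exact Nat.eq_of_mul_eq_mul_right (pow_pos hp.out.pos 2) this
  have hZ1 : (Subgroup.center P).index ∣ p ^ 2 := by
    rw [← h]; exact Subgroup.index_dvd_of_le h2
  have hpp : p ^ 2 ≠ p := by
    have := hp.out.one_lt
    intro hh
    nlinarith
  have hnc : ¬ IsMulCommutative P := by
    intro hc
    have : commutator P = ⊥ := by
      rw [commutator_eq_bot_iff_center_eq_top]; exact Subgroup.center_eq_top_iff.2 hc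
    rw [this, Subgroup.card_bot] at hcard
    have := hp.out.one_lt
    nlinarith
  obtain ⟨k, hk, hk'⟩ := (Nat.dvd_prime_pow hp.out).1 hZ1
  interval_cases k
  · rw [pow_zero, Subgroup.index_eq_one] at hk'
    exact hnc (Subgroup.center_eq_top_iff.1 hk')
  · rw [pow_one] at hk'
    haveI : IsCyclic (P ⧸ Subgroup.center P) := by
      apply isCyclic_of_card_dvd_prime (p := p)
      rw [← Subgroup.index_eq_card, hk']
    exact hnc (isMulCommutative_of_isCyclic_quotient_center_self _)
  · have := card_commutator_of_index_center hk'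
    rw [hcard] at this
    exact hpp this

open Cfsg.Agent.Lib.Helper80 in
/-- (B) -/
theorem index_of_ucs2_ne_top [Finite P] {p : ℕ} [hp : Fact p.Prime] (hP : Nat.card P = p ^ 4)
    (h2 : Subgroup.upperCentralSeries P 2 ≠ ⊤) : (commutator P).index = p ^ 2 := by
  have hPG := IsPGroup.of_card hP
  haveI := hPG.isNilpotent
  have h3 := ucs3_eq_top hP
  have hcl : ¬ Group.nilpotencyClass P ≤ 2 := by
    rwa [← Subgroup.upperCentralSeries_eq_top_iff_nilpotencyClass_le]
  push Not at hcl
  have hmono := Subgroup.upperCentralSeries.StrictMonoOn P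
  have h01 : Subgroup.upperCentralSeries P 0 < Subgroup.upperCentralSeries P 1 :=
    hmono (by simp) (by simp; omega) (by omega)
  have h12 : Subgroup.upperCentralSeries P 1 < Subgroup.upperCentralSeries P 2 :=
    hmono (by simp; omega) (by simp; omega) (by omega)
  have c1 := mul_card_le_of_lt hPG h01
  have c2 := mul_card_le_of_lt hPG h12
  have c0 : 1 ≤ Nat.card (Subgroup.upperCentralSeries P 0) := Nat.card_pos
  have hc : p ^ 2 ≤ Nat.card (Subgroup.upperCentralSeries P 2) := by
    calc p ^ 2 = p * (p * 1) := by ring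
      _ ≤ p * (p * Nat.card (Subgroup.upperCentralSeries P 0)) := by gcongr
      _ ≤ p * Nat.card (Subgroup.upperCentralSeries P 1) := by gcongr
      _ ≤ _ := c2
  have hi := index_dvd_of_card_ge hP (Subgroup.upperCentralSeries P 2) (by omega) hc
  -- index of Z2 is p^2
  have hZ2 : (Subgroup.upperCentralSeries P 2).index = p ^ 2 := by
    obtain ⟨k, hk, hk'⟩ := (Nat.dvd_prime_pow hp.out).1 hi
    have hk2 : k ≤ 2 := by omega
    interval_cases k
    · rw [pow_zero, Subgroup.index_eq_one] at hk'
      exact absurd hk' h2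
    · rw [pow_one] at hk'
      exact absurd (ucs_eq_top_of_index_dvd 1 (by rw [hk'])) h2
    · exact hk'
  have hZ2c : Nat.card (Subgroup.upperCentralSeries P 2) = p ^ 2 := by
    have := Subgroup.card_mul_index (Subgroup.upperCentralSeries P 2)
    rw [hZ2, hP] at this
    have h4 : p ^ 4 = p ^ 2 * p ^ 2 := by ring
    rw [h4] at this
    exact Nat.eq_of_mul_eq_mul_right (pow_pos hp.out.pos 2) this
  have hle : commutator P ≤ Subgroup.upperCentralSeries P 2 := by
    have := Subgroup.commutator_upperCentralSeries_top_le P 2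
    rw [h3] at this
    exact this
  have hd : Nat.card (commutator P) ∣ p ^ 2 := by
    rw [← hZ2c]; exact Subgroup.card_dvd_of_le hle
  have hcomm : ¬ commutator P ≤ Subgroup.center P := by
    rw [← ucs2_eq_top_iff]; exact h2
  have hcard : Nat.card (commutator P) = p ^ 2 := by
    obtain ⟨k, hk, hk'⟩ := (Nat.dvd_prime_pow hp.out).1 hd
    interval_cases k
    · exfalso
      rw [pow_zero, Subgroup.card_eq_one] at hk'
      apply hcomm
      rw [hk']
      exact bot_le
    · exfalso
      rw [pow_one] at hk'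
      exact hcomm (le_center_of_normal_of_card_prime hPG (commutator P) hk')
    · exact hk'
  have := Subgroup.card_mul_index (commutator P)
  rw [hcard, hP] at this
  have h4 : p ^ 4 = p ^ 2 * p ^ 2 := by ring
  rw [h4] at this
  exact Nat.eq_of_mul_eq_mul_left (pow_pos hp.out.pos 2) this

theorem main [Finite P] (p : ℕ) [hp : Fact p.Prime] (hP : Nat.card P = p ^ 4) :
    (commutator P).index = p ^ 2 ↔ Group.nilpotencyClass P = 3 := by
  have hPG := IsPGroup.of_card hP
  haveI := hPG.isNilpotent
  have h3 : Group.nilpotencyClass P ≤ 3 := by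
    rw [← Subgroup.upperCentralSeries_eq_top_iff_nilpotencyClass_le]
    exact ucs3_eq_top hP
  constructor
  · intro h
    have h2 := ucs2_ne_top_of_index hP h
    rw [Ne, Subgroup.upperCentralSeries_eq_top_iff_nilpotencyClass_le] at h2
    omega
  · intro h
    apply index_of_ucs2_ne_top hP
    rw [Ne, Subgroup.upperCentralSeries_eq_top_iff_nilpotencyClass_le]
    omega


end aux

/-- Let p be a prime and P a group of order p^4. Then P' has index p^2 in P if and only if P has maximal nilpotency class, that is, nilpotency class exactly 3. -/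
theorem result {P : Type*} [Group P] [Finite P] (p : ℕ) [Fact p.Prime] (hP : Nat.card P = p ^ 4) :
    (commutator P).index = p ^ 2 ↔ Group.nilpotencyClass P = 3 := by
  exact main p hP

end Cfsg.Agent.S4585
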