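import Cfsg.Statements.S4586
import Mathlib

set_option autoImplicit false
open Cfsg

namespace Cfsg.Agent.S4586

open scoped commutatorElement

section aux
variable {P : Type*} [Group P]

/-- the hom `n ↦ [x, n] mod N'` -/
noncomputable def phi (N : Subgroup P) [N.Normal] (x : P) : N →* Abelianization N :=
  (Abelianization.of.comp (MulAut.conjNormal x : N ≃* N).toMonoidHom) / Abelianization.of

theorem phi_apply (N : Subgroup P) [N.Normal] (x : P) (n : N) :
    phi N x n = Abelianization.of (MulAut.conjNormal x n) / Abelianization.of n := rfl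

theorem of_eq_one_iff (N : Subgroup P) (c : N) :
    (Abelianization.of c = 1) ↔ (c : P) ∈ (commutator N).map N.subtype := by
  rw [← MonoidHom.mem_ker, Abelianization.ker_of]
  exact (Subgroup.mem_map_iff_mem (f := N.subtype) N.subtype_injective).symm

theorem mem_ker_phi (N : Subgroup P) [N.Normal] (x : P) (n : N) :
    n ∈ (phi N x).ker ↔ x * n * x⁻¹ * (n : P)⁻¹ ∈ (commutator N).map N.subtype := by
  rw [MonoidHom.mem_ker, phi_apply, ← map_div, of_eq_one_iff]
  simp [div_eq_mul_inv]

/-- the preimage in `N` of the range of `phi` -/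
noncomputable def KN (N : Subgroup P) [N.Normal] (x : P) : Subgroup N :=
  (phi N x).range.comap Abelianization.of

/-- the same, as a subgroup of `P` -/
noncomputable def K (N : Subgroup P) [N.Normal] (x : P) : Subgroup P :=
  (KN N x).map N.subtype

theorem mem_KN (N : Subgroup P) [N.Normal] (x : P) (k : N) :
    k ∈ KN N x ↔ Abelianization.of k ∈ (phi N x).range := Iff.rfl

theorem mem_K (N : Subgroup P) [N.Normal] (x : P) (k : N) :
    (k : P) ∈ K N x ↔ Abelianization.of k ∈ (phi N x).range := by
  rw [← mem_KN]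
  exact Subgroup.mem_map_iff_mem (f := N.subtype) N.subtype_injective

theorem K_le (N : Subgroup P) [N.Normal] (x : P) : K N x ≤ N := by
  rintro _ ⟨k, _, rfl⟩
  exact k.2

/-- conjugation by `g` maps `K` into `K`, for `g ∈ N` -/
theorem conj_mem_K_of_mem (N : Subgroup P) [hN : N.Normal] (x : P) (g : P) (hg : g ∈ N)
    (k : P) (hk : k ∈ K N x) : g * k * g⁻¹ ∈ K N x := by
  obtain ⟨k', hk', rfl⟩ := hk
  have : g * (N.subtype k') * g⁻¹ = ((⟨g, hg⟩ * k' * ⟨g, hg⟩⁻¹ : N) : P) := by simp
  rw [this, mem_K]
  have hk'' : Abelianization.of k' ∈ (phi N x).range := hk'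
  simpa using hk''

/-- conjugation by `x` maps `K` into `K` -/
theorem conj_mem_K_self (N : Subgroup P) [hN : N.Normal] (x : P)
    (k : P) (hk : k ∈ K N x) : x * k * x⁻¹ ∈ K N x := by
  obtain ⟨k', hk', rfl⟩ := hk
  have : x * (N.subtype k') * x⁻¹ = ((MulAut.conjNormal x k' : N) : P) := by simp
  rw [this, mem_K]
  have hk'' : Abelianization.of k' ∈ (phi N x).range := hk'
  have h1 : Abelianization.of (MulAut.conjNormal x k') = phi N x k' * Abelianization.of k' := by
    rw [phi_apply, div_mul_cancel]
  rw [h1]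
  exact Subgroup.mul_mem _ ⟨k', rfl⟩ hk''


theorem closure_eq_top (N : Subgroup P) {p : ℕ} [hp : Fact p.Prime] (hN : N.index = p) (x : P)
    (hx : x ∉ N) : Subgroup.closure ((N : Set P) ∪ {x}) = ⊤ := by
  set C := Subgroup.closure ((N : Set P) ∪ {x}) with hC
  have hNC : N ≤ C := fun n hn => Subgroup.subset_closure (Or.inl hn)
  have hxC : x ∈ C := Subgroup.subset_closure (Or.inr rfl)
  have h1 : C.index ∣ p := by rw [← hN]; exact Subgroup.index_dvd_of_le hNC
  rcases (Nat.dvd_prime hp.out).1 h1 with h2 | h2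
  · exact Subgroup.index_eq_one.1 h2
  · exfalso
    have h3 := Subgroup.relIndex_mul_index hNC
    rw [hN, h2] at h3
    have h4 : N.relIndex C = 1 := by
      have : N.relIndex C * p = 1 * p := by rw [h3, one_mul]
      exact Nat.eq_of_mul_eq_mul_right hp.out.pos this
    exact hx (Subgroup.relIndex_eq_one.1 h4 hxC)

theorem K_normal [Finite P] (N : Subgroup P) [hN : N.Normal] {p : ℕ} [hp : Fact p.Prime]
    (hNi : N.index = p) (x : P) (hx : x ∉ N) : (K N x).Normal := by
  rw [← Subgroup.normalizer_eq_top_iff, eq_top_iff, ← closure_eq_top N hNi x hx,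
    Subgroup.closure_le]
  intro g hg
  rw [SetLike.mem_coe, Subgroup.mem_normalizer_iff_map_conj_eq]
  have hle : (K N x).map (MulAut.conj g).toMonoidHom ≤ K N x := by
    rintro _ ⟨k, hk, rfl⟩
    simp only [MulEquiv.coe_toMonoidHom, MulAut.conj_apply]
    rcases hg with hg | hg
    · exact conj_mem_K_of_mem N x g hg k hk
    · rw [Set.mem_singleton_iff] at hg
      subst hg
      exact conj_mem_K_self N g k hk
  apply Subgroup.eq_of_le_of_card_ge hle
  rw [Subgroup.card_map_of_injective (MulAut.conj g).injective]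


theorem commutator_mem_K (N : Subgroup P) [hN : N.Normal] (x : P) (n m : P) (hn : n ∈ N)
    (hm : m ∈ N) : n * m * n⁻¹ * m⁻¹ ∈ K N x := by
  set a' : N := ⟨n, hn⟩ with ha'
  set b' : N := ⟨m, hm⟩ with hb'
  have : n * m * n⁻¹ * m⁻¹ = ((⁅a', b'⁆ : N) : P) := by
    simp [commutatorElement_def, ha', hb']
  rw [this, mem_K]
  have h1 : Abelianization.of (⁅a', b'⁆) = 1 := by
    rw [← MonoidHom.mem_ker, Abelianization.ker_of, commutator_eq_closure]
    exact Subgroup.subset_closure (commutator_mem_commutatorSet _ _)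
  rw [h1]
  exact Subgroup.one_mem _

theorem comm_x_mem_K (N : Subgroup P) [hN : N.Normal] (x : P) (n : P) (hn : n ∈ N) :
    x * n * x⁻¹ * n⁻¹ ∈ K N x := by
  have : x * n * x⁻¹ * n⁻¹ = ((MulAut.conjNormal x (⟨n, hn⟩ : N) * (⟨n, hn⟩ : N)⁻¹ : N) : P) := by
    simp
  rw [this, mem_K]
  refine ⟨⟨n, hn⟩, ?_⟩
  rw [phi_apply, map_mul, map_inv, div_eq_mul_inv]

theorem commutator_le_K [Finite P] (N : Subgroup P) [hN : N.Normal] {p : ℕ} [hp : Fact p.Prime]
    (hNi : N.index = p) (x : P) (hx : x ∉ N) : commutator P ≤ K N x := by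
  haveI := K_normal N hNi x hx
  rw [← Subgroup.Normal.quotient_commutative_iff_commutator_le]
  set S : Set (P ⧸ K N x) := (QuotientGroup.mk' (K N x)) '' ((N : Set P) ∪ {x}) with hS
  have hcl : Subgroup.closure S = ⊤ := by
    rw [hS, ← MonoidHom.map_closure, closure_eq_top N hNi x hx, ← MonoidHom.range_eq_map,
      MonoidHom.range_eq_top]
    exact QuotientGroup.mk'_surjective _
  have hcomm : ∀ a ∈ S, ∀ b ∈ S, a * b = b * a := by
    rintro _ ⟨a, ha, rfl⟩ _ ⟨b, hb, rfl⟩
    simp only [QuotientGroup.mk'_apply]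
    rw [← QuotientGroup.mk_mul, ← QuotientGroup.mk_mul, QuotientGroup.eq_iff_div_mem]
    have hab : a * b / (b * a) = a * b * a⁻¹ * b⁻¹ := by simp [div_eq_mul_inv, mul_assoc]
    rw [hab]
    rcases ha with ha | ha <;> rcases hb with hb | hb
    · exact commutator_mem_K N x a b ha hb
    · rw [Set.mem_singleton_iff] at hb
      subst hb
      have h1 := comm_x_mem_K N b a ha
      have h2 : a * b * a⁻¹ * b⁻¹ = (b * a * b⁻¹ * a⁻¹)⁻¹ := by group
      rw [h2]
      exact Subgroup.inv_mem _ h1
    · rw [Set.mem_singleton_iff] at ha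
      subst ha
      exact comm_x_mem_K N a b hb
    · rw [Set.mem_singleton_iff] at ha hb
      subst ha; subst hb
      simp
  have hc := Subgroup.isMulCommutative_closure hcomm
  refine ⟨⟨fun a b => ?_⟩⟩
  have ha : a ∈ Subgroup.closure S := by rw [hcl]; trivial
  have hb : b ∈ Subgroup.closure S := by rw [hcl]; trivial
  have := hc.is_comm.comm (⟨a, ha⟩ : Subgroup.closure S) ⟨b, hb⟩
  exact congrArg Subtype.val this

theorem K_le_commutator (N : Subgroup P) [hN : N.Normal] (x : P) : K N x ≤ commutator P := by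
  rintro _ ⟨k, hk, rfl⟩
  obtain ⟨n, hn⟩ := hk
  -- of k = phi n, so k = [x,n] * c with c in N'
  have h1 : Abelianization.of ((MulAut.conjNormal x n * n⁻¹)⁻¹ * k) = 1 := by
    rw [map_mul, map_inv, map_mul, map_inv, ← hn, phi_apply, div_eq_mul_inv]
    simp
  rw [of_eq_one_iff] at h1
  have h2 : (commutator N).map N.subtype ≤ commutator P := by
    rw [Subgroup.map_subtype_commutator, commutator_def]
    exact Subgroup.commutator_mono le_top le_top
  have h3 := h2 h1
  have h4 : ((MulAut.conjNormal x n * n⁻¹ : N) : P) ∈ commutator P := by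
    have : ((MulAut.conjNormal x n * n⁻¹ : N) : P) = ⁅x, (n : P)⁆ := by
      simp [commutatorElement_def]
    rw [this, commutator_eq_closure]
    exact Subgroup.subset_closure (commutator_mem_commutatorSet _ _)
  have h5 := Subgroup.mul_mem _ h4 h3
  have h6 : ((MulAut.conjNormal x n * n⁻¹ : N) : P) * (((MulAut.conjNormal x n * n⁻¹)⁻¹ * k : N) : P)
      = N.subtype k := by
    rw [← Subgroup.coe_mul, mul_inv_cancel_left]; rfl
  rw [h6] at h5
  exact h5


theorem of_surj (N : Type*) [Group N] : Function.Surjective (Abelianization.of : N →* Abelianization N) :=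
  QuotientGroup.mk_surjective

theorem key [Finite P] (N : Subgroup P) [hN : N.Normal] {p : ℕ} [hp : Fact p.Prime]
    (hNi : N.index = p) (x : P) (hx : x ∉ N) :
    (commutator P).index * Nat.card (commutator N) =
      p * Nat.card {n : N // x * n * x⁻¹ * (n : P)⁻¹ ∈ (commutator N).map N.subtype} := by
  have hK : commutator P = K N x :=
    le_antisymm (commutator_le_K N hNi x hx) (K_le_commutator N x)
  rw [hK]
  have hc : Nat.card {n : N // x * n * x⁻¹ * (n : P)⁻¹ ∈ (commutator N).map N.subtype} =
      Nat.card (phi N x).ker := by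
    apply Nat.card_congr
    exact Equiv.subtypeEquivRight (fun n => (mem_ker_phi N x n).symm)
  rw [hc]
  have h1 := Subgroup.card_mul_index (phi N x).ker
  rw [Subgroup.index_ker] at h1
  have h2 := Subgroup.card_mul_index (phi N x).range
  have h3 := Subgroup.card_mul_index (commutator N)
  have h3' : (commutator N).index = Nat.card (Abelianization N) := rfl
  have h4 : (KN N x).index = (phi N x).range.index :=
    Subgroup.index_comap_of_surjective _ (of_surj N)
  have h5 : (K N x).index = (KN N x).index * N.index := Subgroup.index_map_subtype _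
  rw [h5, h4, hNi]
  rw [h3', ← h2] at h3
  have hr : 0 < Nat.card (phi N x).range := Nat.card_pos
  have h6 : Nat.card (phi N x).ker = Nat.card (commutator N) * (phi N x).range.index := by
    have : Nat.card (phi N x).ker * Nat.card (phi N x).range =
        Nat.card (commutator N) * (phi N x).range.index * Nat.card (phi N x).range := by
      rw [h1, ← h3]; ring
    exact Nat.eq_of_mul_eq_mul_right hr this
  rw [h6]; ring

theorem main [Finite P] (N : Subgroup P) [hN : N.Normal] (p : ℕ) [hp : Fact p.Prime]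
    (hNi : N.index = p) :
    ((commutator P).index = p ^ 2 ↔ ∀ x : P, x ∉ N →
        Nat.card {n : N // x * n * x⁻¹ * (n : P)⁻¹ ∈ (commutator N).map N.subtype} = p * Nat.card (commutator N)) ∧
    ((commutator P).index = p ^ 2 ↔ ∃ x : P, x ∉ N ∧
        Nat.card {n : N // x * n * x⁻¹ * (n : P)⁻¹ ∈ (commutator N).map N.subtype} = p * Nat.card (commutator N)) := by
  have hd : 0 < Nat.card (commutator N) := Nat.card_pos
  have hiff : ∀ x : P, x ∉ N → ((commutator P).index = p ^ 2 ↔
      Nat.card {n : N // x * n * x⁻¹ * (n : P)⁻¹ ∈ (commutator N).map N.subtype} = p * Nat.card (commutator N)) := by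
    intro x hx
    have hk := key N hNi x hx
    constructor
    · intro h
      rw [h] at hk
      have : p * (p * Nat.card (commutator N)) = p * Nat.card {n : N // x * n * x⁻¹ * (n : P)⁻¹ ∈ (commutator N).map N.subtype} := by
        rw [← hk]; ring
      exact (Nat.eq_of_mul_eq_mul_left hp.out.pos this).symm
    · intro h
      rw [h] at hk
      have : (commutator P).index * Nat.card (commutator N) = p ^ 2 * Nat.card (commutator N) := by
        rw [hk]; ring
      exact Nat.eq_of_mul_eq_mul_right hd this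
  have hex : ∃ x : P, x ∉ N := by
    by_contra hcon
    push Not at hcon
    have : N = ⊤ := by rw [eq_top_iff]; intro x _; exact hcon x
    rw [← Subgroup.index_eq_one, hNi] at this
    exact hp.out.one_lt.ne' this
  refine ⟨⟨fun h x hx => (hiff x hx).1 h, fun h => ?_⟩, ⟨fun h => ?_, fun h => ?_⟩⟩
  · obtain ⟨x, hx⟩ := hex
    exact (hiff x hx).2 (h x hx)
  · obtain ⟨x, hx⟩ := hex
    exact ⟨x, hx, (hiff x hx).1 h⟩
  · obtain ⟨x, hx, hh⟩ := h
    exact (hiff x hx).2 hh


end aux

/-- Let p be a prime, P a finite p-group and N a normal subgroup of P of index p. For x ∈ P write c(x) for the number of elements n of N whose commutator x n x⁻¹ n⁻¹ lies in the derived subgroup N' (so c(x)/#N' is the order of the centralizer of x acting on N/N'). Then [P : P'] = p² if and only if c(x) = p·#N' for every x ∈ P outside N, and also if and only if c(x) = p·#N' for some x ∈ P outside N. -/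
theorem result {P : Type*} [Group P] [Finite P] (p : ℕ) [Fact p.Prime] (hP : IsPGroup p P) (N : Subgroup P) [N.Normal] (hN : N.index = p) :
    ((commutator P).index = p ^ 2 ↔ ∀ x : P, x ∉ N →
        Nat.card {n : N // x * n * x⁻¹ * (n : P)⁻¹ ∈ (commutator N).map N.subtype} = p * Nat.card (commutator N)) ∧
    ((commutator P).index = p ^ 2 ↔ ∃ x : P, x ∉ N ∧
        Nat.card {n : N // x * n * x⁻¹ * (n : P)⁻¹ ∈ (commutator N).map N.subtype} = p * Nat.card (commutator N)) := by
  exact main N p hN

end Cfsg.Agent.S4586
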