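import Cfsg.Statements.S4601
import Cfsg.Agent.Lib.Helper81.CoprimeAction

set_option autoImplicit false
open Cfsg

namespace Cfsg.Agent.S4601

open Cfsg.Agent.Lib.Helper81

/-- Let p and q be primes and G a finite group that is p-solvable or q-solvable, in which no q-element has conjugacy class size divisible by p. Then some Sylow p-subgroup of G normalizes some Sylow q-subgroup of G. -/
theorem result {G : Type*} [Group G] [Finite G] (p q : ℕ) [Fact p.Prime] [Fact q.Prime] (hsolv : Cfsg.IsPSolvable p G ∨ Cfsg.IsPSolvable q G)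
    (h : ∀ y : G, (∃ k : ℕ, orderOf y = q ^ k) → ¬ p ∣ (Subgroup.centralizer ({y} : Set G)).index) :
    ∃ (P : Sylow p G) (Q : Sylow q G), (P : Subgroup G) ≤ Subgroup.normalizer ((Q : Subgroup G) : Set G) := by
  have hp : Fact p.Prime := inferInstance
  have hq : Fact q.Prime := inferInstance
  by_cases hpq : p = q
  · subst hpq
    obtain ⟨P⟩ : Nonempty (Sylow p G) := inferInstance
    exact ⟨P, P, Subgroup.le_normalizer⟩
  rcases hsolv with hsolv | hsolv
  · -- p-solvable: every q-element lies in O_{p'}(G)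
    apply exists_sylow_normalizes_of_not_dvd_index p q
    set f := QuotientGroup.mk' (pPrimeCore p G) with hf
    have hfs : Function.Surjective f := QuotientGroup.mk'_surjective _
    have key : ∀ y : G, (∃ k : ℕ, orderOf y = q ^ k) → y ∈ pPrimeCore p G := by
      intro y hy
      obtain ⟨S, hS⟩ := exists_sylow_le_of_not_dvd_index _ (h y hy)
      have hRp : IsPGroup p (pCore p (G ⧸ pPrimeCore p G)) := isPGroup_pCore p
      have hRS : pCore p (G ⧸ pPrimeCore p G) ≤ (S.mapSurjective hfs : Sylow p _) :=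
        hRp.le_sylow_of_normal _
      have hyC : f y ∈ Subgroup.centralizer (pCore p (G ⧸ pPrimeCore p G) : Set _) := by
        intro r hr
        have := hRS hr
        rw [Sylow.coe_mapSurjective] at this
        obtain ⟨s, hs, rfl⟩ := this
        have hc := hS hs
        rw [Subgroup.mem_centralizer_singleton_iff] at hc
        rw [← map_mul, ← map_mul, hc]
      have hyR : f y ∈ pCore p (G ⧸ pPrimeCore p G) :=
        centralizer_pCore_le (IsPSolvable.quotient hp.out hsolv _) (pPrimeCore_quotient_eq_bot p) hyC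
      obtain ⟨a, ha⟩ := hRp ⟨f y, hyR⟩
      have ha' : (f y) ^ p ^ a = 1 := by simpa using congrArg Subtype.val ha
      obtain ⟨k, hk⟩ := hy
      have hk' : (f y) ^ q ^ k = 1 := by
        rw [← map_pow, ← hk, pow_orderOf_eq_one, map_one]
      have h1 : orderOf (f y) ∣ Nat.gcd (p ^ a) (q ^ k) :=
        Nat.dvd_gcd (orderOf_dvd_of_pow_eq_one ha') (orderOf_dvd_of_pow_eq_one hk')
      have h2 : Nat.gcd (p ^ a) (q ^ k) = 1 :=
        Nat.Coprime.pow _ _ ((Nat.coprime_primes hp.out hq.out).mpr hpq)
      rw [h2, Nat.dvd_one, orderOf_eq_one_iff] at h1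
      exact (QuotientGroup.eq_one_iff y).mp h1
    obtain ⟨Q⟩ : Nonempty (Sylow q G) := inferInstance
    have hQK : (Q : Subgroup G) ≤ pPrimeCore p G := by
      intro y hy
      apply key
      obtain ⟨k, hk⟩ := Q.2 ⟨y, hy⟩
      have hk' : y ^ q ^ k = 1 := by simpa using congrArg Subtype.val hk
      obtain ⟨j, -, hj⟩ := (Nat.dvd_prime_pow hq.out).mp (orderOf_dvd_of_pow_eq_one hk')
      exact ⟨j, hj⟩
    intro hd
    exact Q.not_dvd_index (hd.trans (Subgroup.index_dvd_of_le hQK))
  · obtain ⟨Q, hQ⟩ := exists_sylow_normalizer_index (p := p) (q := q) _ G rfl hsolv h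
    obtain ⟨P, hP⟩ := exists_sylow_le_of_not_dvd_index _ hQ
    exact ⟨P, Q, hP⟩

end Cfsg.Agent.S4601
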