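import Cfsg.Statements.S4604
import Cfsg.Agent.Lib.Helper05.PiSection
import Cfsg.Agent.Lib.Helper05.FrobMod

set_option autoImplicit false
open Cfsg

namespace Cfsg.Agent.S4604

open Cfsg.Agent.Lib.Helper05

/-- Let G be a finite group, p a prime and p^a the p-part of the order of G. Let x, y ∈ G and let x′, y′ be their p-regular parts: x′ has order prime to p, commutes with x·x′⁻¹, and x·x′⁻¹ has p-power order (likewise for y). Then x′ and y′ are conjugate in G if and only if for every irreducible character χ of G the algebraic integer χ(x)^(p^a) − χ(y)^(p^a) is p times an algebraic integer. -/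
theorem result {G : Type*} [Group G] [Finite G] (p : ℕ) [Fact p.Prime] (x y x' y' : G)
    (hx : (∃ k : ℕ, orderOf (x * x'⁻¹) = p ^ k) ∧ Commute (x * x'⁻¹) x' ∧ ¬ p ∣ orderOf x')
    (hy : (∃ k : ℕ, orderOf (y * y'⁻¹) = p ^ k) ∧ Commute (y * y'⁻¹) y' ∧ ¬ p ∣ orderOf y') :
    IsConj x' y' ↔ ∀ χ : Cfsg.IrrCharacter G, ∃ γ : Cfsg.AlgInt,
      (χ : G → ℂ) x ^ (p ^ (Nat.card G).factorization p) - (χ : G → ℂ) y ^ (p ^ (Nat.card G).factorization p) = (p : ℂ) * (γ : ℂ) := by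
  classical
  haveI : Fintype G := Fintype.ofFinite G
  haveI := finite_irrCharacter (G := G)
  haveI : Fintype (IrrCharacter G) := Fintype.ofFinite _
  have hp : p.Prime := Fact.out
  obtain ⟨ν, hν⟩ : ∃ ν, ν = (Nat.card G).factorization p := ⟨_, rfl⟩
  rw [← hν]
  obtain ⟨n, hn⟩ : p ^ ν ∣ Nat.card G := hν ▸ Nat.ordProj_dvd _ _
  have hG0 : Nat.card G ≠ 0 := Nat.card_pos.ne'
  have hpn : ¬ p ∣ n := by
    intro hd
    have h1 : p ^ (ν + 1) ∣ Nat.card G := by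
      rw [hn, pow_succ]; exact Nat.mul_dvd_mul_left _ hd
    rw [hν] at h1
    exact Nat.pow_succ_factorization_not_dvd hG0 hp h1
  have hcop : (p ^ ν).Coprime n :=
    Nat.Coprime.pow_left _ ((Nat.Prime.coprime_iff_not_dvd hp).mpr hpn)
  obtain ⟨t, ht0, ht1⟩ := exists_crt_exp hcop
  obtain ⟨⟨kx, hx3⟩, hx2, hx4⟩ := hx
  obtain ⟨⟨ky, hy3⟩, hy2, hy4⟩ := hy
  have hxt : x ^ t = x' := by
    have h1 : x = (x * x'⁻¹) * x' := by group
    conv_lhs => rw [h1]
    apply pow_crt_eq_of_decomp hn ht0 ht1 hx2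
    · rw [hx3]
      exact Nat.Coprime.pow_left _ ((Nat.Prime.coprime_iff_not_dvd hp).mpr hpn)
    · exact Nat.Coprime.pow_right _ (((Nat.Prime.coprime_iff_not_dvd hp).mpr hx4).symm)
  have hyt : y ^ t = y' := by
    have h1 : y = (y * y'⁻¹) * y' := by group
    conv_lhs => rw [h1]
    apply pow_crt_eq_of_decomp hn ht0 ht1 hy2
    · rw [hy3]
      exact Nat.Coprime.pow_left _ ((Nat.Prime.coprime_iff_not_dvd hp).mpr hpn)
    · exact Nat.Coprime.pow_right _ (((Nat.Prime.coprime_iff_not_dvd hp).mpr hy4).symm)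
  have hpow : ∀ z : G, z ^ (t * p ^ ν) = z ^ (p ^ ν) := by
    intro z
    apply pow_eq_pow_iff_modEq.mpr
    have h2 : t * p ^ ν ≡ 1 * p ^ ν [MOD n * p ^ ν] := ht1.mul_right' (p ^ ν)
    have h3 : orderOf z ∣ n * p ^ ν := by
      rw [mul_comm, ← hn]; exact orderOf_dvd_natCard z
    have h4 := h2.of_dvd h3
    rwa [one_mul] at h4
  have hcong : ∀ (χ : IrrCharacter G) (z : G), ∃ γ : AlgInt,
      (χ : G → ℂ) z ^ (p ^ ν) - (χ : G → ℂ) (z ^ t) ^ (p ^ ν) = (p : ℂ) * (γ : ℂ) := fun χ z =>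
    char_pow_congr p (IsIrrCharacter.isCharacter χ.2) z t ν (hpow z)
  constructor
  · intro hconj χ
    have h1 : (χ : G → ℂ) x' = (χ : G → ℂ) y' := by
      obtain ⟨c, hc⟩ := isConj_iff.mp hconj
      rw [← hc]
      exact (Cfsg.Agent.Lib.Helper83.isClassFunction_irr χ x' c).symm
    obtain ⟨γ1, h2⟩ := hcong χ x
    obtain ⟨γ2, h3⟩ := hcong χ y
    rw [hxt] at h2
    rw [hyt] at h3
    refine ⟨γ1 - γ2, ?_⟩
    have : (χ : G → ℂ) x ^ (p ^ ν) - (χ : G → ℂ) y ^ (p ^ ν)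
        = ((χ : G → ℂ) x ^ (p ^ ν) - (χ : G → ℂ) x' ^ (p ^ ν))
          - ((χ : G → ℂ) y ^ (p ^ ν) - (χ : G → ℂ) y' ^ (p ^ ν)) := by
      rw [h1]; ring
    rw [this, h2, h3]
    push_cast
    ring
  · intro h
    by_contra hnc
    obtain ⟨f, hf⟩ : ∃ f : G → ℂ, f = fun z => if IsConj (z ^ t) x' then (n : ℂ) else 0 :=
      ⟨_, rfl⟩
    have hf1 : ∀ z, IsConj (z ^ t) x' → f z = n := fun z hz => by rw [hf]; exact if_pos hz
    have hf0 : ∀ z, ¬ IsConj (z ^ t) x' → f z = 0 := fun z hz => by rw [hf]; exact if_neg hz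
    obtain ⟨h1, h2⟩ := piSection_eq_sum_irr hn hcop ht0 ht1 x' f hf1 hf0
    have hfx : f x = n := hf1 x (by rw [hxt])
    have hfy : f y = 0 := hf0 y (by rw [hyt]; exact fun hc => hnc hc.symm)
    have e1 := congrFun h2 x
    have e2 := congrFun h2 y
    apply hpn
    obtain ⟨c, hc⟩ : ∃ c : IrrCharacter G → ℂ, c = fun χ : IrrCharacter G => Cfsg.classInner f χ.1 :=
      ⟨_, rfl⟩
    have h1' : ∀ χ, c χ ∈ AlgInt := fun χ => by rw [hc]; exact h1 χ
    refine dvd_of_combination (G := G) p ν c h1' x y n h ?_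
    rw [hc]
    have h3 : (n : ℂ) = f x - f y := by rw [hfx, hfy, sub_zero]
    rw [h3, e1, e2]
    simp only [Finset.sum_apply, Pi.smul_apply, smul_eq_mul]
    rw [← Finset.sum_sub_distrib]
    refine Finset.sum_congr rfl fun χ _ => ?_
    rw [mul_sub]

end Cfsg.Agent.S4604
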