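import Cfsg.Statements.S4611
import Cfsg.Agent.Lib.Helper79.PSolvPrincipal
import Cfsg.Agent.Lib.Helper33.SolvPSolv
import Cfsg.Agent.Lib.Helper83.CharMisc
import Cfsg.Agent.Lib.Helper83.CharBasic

set_option autoImplicit false
open Cfsg

namespace Cfsg.Agent.S4611

/-- Let G be a finite solvable group and π a nonempty set of primes, each dividing the order of G; fix for each p in π a maximal ideal M p of the algebraic integers containing p. Then the only irreducible character lying in the principal p-block for every p in π is the principal character if and only if G is generated by the subgroups O_{p'}(G), p in π (the largest normal subgroups of order prime to p). -/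
theorem result {G : Type*} [Group G] [Finite G] [Group.IsSolvable G] (π : Set ℕ) (hπ : ∀ p ∈ π, p.Prime ∧ p ∣ Nat.card G) (hne : π.Nonempty) (M : ℕ → Ideal Cfsg.AlgInt) (hM : ∀ p ∈ π, Cfsg.IsPModular p (M p)) :
    (∀ χ : Cfsg.IrrCharacter G, (∀ p ∈ π, χ ∈ Cfsg.principalBlock (M p) G) → (χ : G → ℂ) = fun _ => 1) ↔
      ⨆ p ∈ π, Cfsg.pPrimeCore p G = ⊤ := by
  classical
  have hnorm : ∀ p : ℕ, (Cfsg.pPrimeCore p G).Normal := fun p =>
    Cfsg.Agent.Lib.Helper01.pPrimeCore_normal p
  constructor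
  · intro h
    by_contra hK
    set K : Subgroup G := ⨆ p ∈ π, Cfsg.pPrimeCore p G with hKdef
    haveI hKn : K.Normal := by
      rw [hKdef]
      exact Subgroup.biSup_normal π (fun p => Cfsg.pPrimeCore p G) (fun p _ => hnorm p)
    -- an element outside K
    obtain ⟨g, hg⟩ : ∃ g : G, g ∉ K := by
      by_contra hall
      push Not at hall
      exact hK (by rw [eq_top_iff]; intro x _; exact hall x)
    have hz : (QuotientGroup.mk g : G ⧸ K) ≠ 1 := by
      intro h1
      exact hg ((QuotientGroup.eq_one_iff g).1 h1)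
    obtain ⟨ψ, hψ⟩ := Cfsg.Agent.Lib.Helper83.exists_irr_ne_of_ne_one hz
    let χ : Cfsg.IrrCharacter G := (Cfsg.Agent.Lib.Helper83.irrQuotientEquiv K ψ).1
    have hχv : ∀ x : G, (χ : G → ℂ) x = (ψ : G ⧸ K → ℂ) (QuotientGroup.mk x) := fun x =>
      Cfsg.Agent.Lib.Helper83.irrQuotientEquiv_apply K ψ x
    have hχK : ∀ n ∈ K, (χ : G → ℂ) n = (χ : G → ℂ) 1 :=
      (Cfsg.Agent.Lib.Helper83.irrQuotientEquiv K ψ).2
    have hmem : ∀ p ∈ π, χ ∈ Cfsg.principalBlock (M p) G := by
      intro p hp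
      haveI : Fact p.Prime := ⟨(hπ p hp).1⟩
      have hsolv : Cfsg.IsPSolvable p G := Cfsg.Agent.Lib.Helper33.isPSolvable_of_isSolvable p G
      apply Cfsg.Agent.Lib.Helper79.mem_principalBlock_of_ker p (M p) (hM p hp) hsolv χ
      intro n hn
      apply hχK
      rw [hKdef]
      exact (le_iSup₂ (f := fun p (_ : p ∈ π) => Cfsg.pPrimeCore p G) p hp) hn
    have h1 := h χ hmem
    apply hψ
    have e1 := congrFun h1 g
    have e2 := congrFun h1 1
    rw [hχv] at e1 e2
    rw [e1]
    have : (QuotientGroup.mk (1 : G) : G ⧸ K) = 1 := rfl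
    rw [this] at e2
    rw [e2]
  · intro hK χ hχ
    have hχc : Cfsg.IsCharacter G (χ : G → ℂ) := Cfsg.Agent.Lib.Helper83.IrrCharacter_isCharacter χ
    have hker : Cfsg.Agent.Lib.Helper83.charKer hχc = ⊤ := by
      rw [eq_top_iff, ← hK]
      apply iSup₂_le
      intro p hp n hn
      haveI : Fact p.Prime := ⟨(hπ p hp).1⟩
      rw [Cfsg.Agent.Lib.Helper83.mem_charKer]
      exact Cfsg.Agent.Lib.Helper79.principalBlock_ker p (M p) (hM p hp) χ (hχ p hp) n hn
    have hall : ∀ g : G, (χ : G → ℂ) g = (χ : G → ℂ) 1 := by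
      intro g
      rw [← Cfsg.Agent.Lib.Helper83.mem_charKer hχc, hker]
      exact Subgroup.mem_top g
    have hdvd := Cfsg.Agent.Lib.Helper83.irr_charDegree_dvd_index χ (⊤ : Subgroup G)
      (fun n _ => hall n)
    rw [Subgroup.index_top] at hdvd
    have hdeg : Cfsg.charDegree (χ : G → ℂ) = 1 := Nat.dvd_one.1 hdvd
    have h1 : (χ : G → ℂ) 1 = 1 := by
      rw [← Cfsg.Agent.Lib.Helper83.charDegree_cast hχc, hdeg]; simp
    funext g
    rw [hall g, h1]

end Cfsg.Agent.S4611
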