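import Cfsg.Statements.S4620
import Cfsg.Agent.Lib.Helper81.Cores

set_option autoImplicit false
open Cfsg
open scoped Pointwise

namespace Cfsg.Agent.S4620

open Cfsg.Agent.Lib.Helper81

variable {H : Type*} [Group H]

/-- Elementwise form of the trivial-intersection condition. -/
def TIe (P : Subgroup H) : Prop :=
  ∀ g x : H, x ∈ P → g * x * g⁻¹ ∈ P → x ≠ 1 → g ∈ Subgroup.normalizer (P : Set H)

theorem mem_conj_smul_iff (g x : H) (P : Subgroup H) :
    x ∈ MulAut.conj g • P ↔ g⁻¹ * x * g ∈ P := by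
  rw [Subgroup.mem_pointwise_smul_iff_inv_smul_mem]
  simp [MulAut.smul_def, ← map_inv, MulAut.conj_apply]

theorem tie_of_ti (P : Subgroup H)
    (hTI : ∀ g : H, g ∉ Subgroup.normalizer (P : Set H) → P ⊓ (MulAut.conj g • P) = ⊥) : TIe P := by
  intro g x hx hgx hx1
  by_contra hg
  have hg' : g⁻¹ ∉ Subgroup.normalizer (P : Set H) := fun h => hg (by simpa using Subgroup.inv_mem _ h)
  have h1 := hTI g⁻¹ hg'
  have h2 : x ∈ P ⊓ (MulAut.conj g⁻¹ • P) := by
    refine Subgroup.mem_inf.mpr ⟨hx, ?_⟩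
    rw [mem_conj_smul_iff]
    simpa using hgx
  rw [h1, Subgroup.mem_bot] at h2
  exact hx1 h2

theorem ti_of_tie (P : Subgroup H) (h : TIe P) :
    ∀ g : H, g ∉ Subgroup.normalizer (P : Set H) → P ⊓ (MulAut.conj g • P) = ⊥ := by
  intro g hg
  rw [eq_bot_iff]
  intro x hx
  obtain ⟨hx1, hx2⟩ := Subgroup.mem_inf.mp hx
  rw [mem_conj_smul_iff] at hx2
  rw [Subgroup.mem_bot]
  by_contra hne
  apply hg
  have := h g⁻¹ x hx1 (by simpa using hx2) hne
  simpa using Subgroup.inv_mem _ this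

/-- (F1): a nontrivial normal subgroup meets every Sylow `p`-subgroup nontrivially when `O_{p'} = 1`. -/
theorem sylow_inf_normal_ne_bot [Finite H] {p : ℕ} [hp : Fact p.Prime] (hOp' : pPrimeCore p H = ⊥)
    (P : Sylow p H) (K : Subgroup H) (hKn : K.Normal) (hK : K ≠ ⊥) :
    ∃ x : H, x ∈ (P : Subgroup H) ∧ x ∈ K ∧ x ≠ 1 := by
  have hdvd : p ∣ Nat.card K := by
    by_contra hnd
    have hc : (Nat.card K).Coprime p := ((Nat.Prime.coprime_iff_not_dvd hp.out).mpr hnd).symm
    have := le_pPrimeCore hKn hc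
    rw [hOp', le_bot_iff] at this
    exact hK this
  obtain ⟨y, hy⟩ := exists_prime_orderOf_dvd_card' p hdvd
  have hy' : orderOf (y : H) = p := by rw [Subgroup.orderOf_coe]; exact hy
  have hz : IsPGroup p (Subgroup.zpowers (y : H)) :=
    IsPGroup.of_card (n := 1) (by rw [Nat.card_zpowers, hy', pow_one])
  obtain ⟨P', hP'⟩ := hz.exists_le_sylow
  obtain ⟨g, hg⟩ := MulAction.exists_smul_eq H P' P
  have hyP' : (y : H) ∈ (P' : Subgroup H) := hP' (Subgroup.mem_zpowers _)
  refine ⟨g * y * g⁻¹, ?_, hKn.conj_mem _ y.2 g, ?_⟩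
  · rw [← hg, Sylow.coe_subgroup_smul]
    exact ⟨y, hyP', rfl⟩
  · intro h1
    have : (y : H) = 1 := by
      have := congrArg (fun t => g⁻¹ * t * g) h1
      simpa [mul_assoc] using this
    rw [this, orderOf_one] at hy'
    exact hp.out.one_lt.ne hy'


/-- Lemma A: unique minimal normal subgroup. -/
theorem exists_unique_min_normal [Finite H] {p : ℕ} [hp : Fact p.Prime] (hOp : pCore p H = ⊥)
    (hOp' : pPrimeCore p H = ⊥) (P : Sylow p H) (hP1 : (P : Subgroup H) ≠ ⊥)
    (hTI : TIe (P : Subgroup H)) :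
    ∃ N : Subgroup H, N.Normal ∧ N ≠ ⊥ ∧ ∀ K : Subgroup H, K.Normal → K ≠ ⊥ → N ≤ K := by
  classical
  let 𝒮 : Set (Subgroup H) := {K | K.Normal ∧ K ≠ ⊥}
  have hne : 𝒮.Nonempty := by
    refine ⟨⊤, inferInstance, ?_⟩
    intro h
    apply hP1
    rw [eq_bot_iff, ← h]; exact le_top
  obtain ⟨N, ⟨hNn, hN1⟩, hmin⟩ := Set.exists_min_image 𝒮 (fun K => Nat.card K) (Set.toFinite 𝒮) hne
  refine ⟨N, hNn, hN1, ?_⟩
  intro K hKn hK1
  by_contra hNK
  -- N ⊓ K = ⊥
  have hdisj : Disjoint N K := by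
    rw [disjoint_iff]
    by_contra hne'
    have hmem : N ⊓ K ∈ 𝒮 := ⟨inferInstance, hne'⟩
    have h1 := hmin _ hmem
    have h2 : N ⊓ K = N := Subgroup.eq_of_le_of_card_ge inf_le_left h1
    exact hNK (h2 ▸ inf_le_right)
  obtain ⟨z, hzP, hzK, hz1⟩ := sylow_inf_normal_ne_bot hOp' P K hKn hK1
  have hNnorm : N ≤ Subgroup.normalizer ((P : Subgroup H) : Set H) := by
    intro g hg
    apply hTI g z hzP _ hz1
    have hc : Commute g z := Subgroup.commute_of_normal_of_disjoint N K hNn hKn hdisj g z hg hzK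
    have : g * z * g⁻¹ = z := by rw [hc.eq, mul_inv_cancel_right]
    rw [this]; exact hzP
  -- D = P ⊓ N is normal in H
  have hDn : ((P : Subgroup H) ⊓ N).Normal := by
    refine ⟨fun d hd h => ?_⟩
    obtain ⟨hdP, hdN⟩ := Subgroup.mem_inf.mp hd
    have h1 : h * d * h⁻¹ ∈ N := hNn.conj_mem _ hdN h
    refine Subgroup.mem_inf.mpr ⟨?_, h1⟩
    have h2 : h * d * h⁻¹ ∈ ((h • P : Sylow p H) : Subgroup H) := by
      rw [Sylow.coe_subgroup_smul]; exact ⟨d, hdP, rfl⟩
    have h3 : h * d * h⁻¹ ∈ ((h • P : Sylow p H) : Subgroup H) ⊓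
        Subgroup.normalizer ((P : Subgroup H) : Set H) := Subgroup.mem_inf.mpr ⟨h2, hNnorm h1⟩
    have h4 := IsPGroup.inf_normalizer_sylow (h • P).2 P
    have h5 : h * d * h⁻¹ ∈ ((h • P : Sylow p H) : Subgroup H) ⊓ (P : Subgroup H) := by
      rw [← h4]; exact h3
    exact (Subgroup.mem_inf.mp h5).2
  have hDle := le_pCore hDn (P.2.to_le inf_le_left)
  rw [hOp, le_bot_iff] at hDle
  obtain ⟨w, hwP, hwN, hw1⟩ := sylow_inf_normal_ne_bot hOp' P N hNn hN1
  have : w ∈ (P : Subgroup H) ⊓ N := Subgroup.mem_inf.mpr ⟨hwP, hwN⟩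
  rw [hDle, Subgroup.mem_bot] at this
  exact hw1 this



theorem tie_smul [Finite H] {p : ℕ} [hp : Fact p.Prime] (P : Sylow p H) (hTI : TIe (P : Subgroup H))
    (g : H) : TIe ((g • P : Sylow p H) : Subgroup H) := by
  intro a x hx hax hx1
  rw [Sylow.coe_subgroup_smul, mem_conj_smul_iff] at hx hax
  have hb : g⁻¹ * a * g ∈ Subgroup.normalizer ((P : Subgroup H) : Set H) := by
    apply hTI (g⁻¹ * a * g) (g⁻¹ * x * g) hx
    · have : g⁻¹ * a * g * (g⁻¹ * x * g) * (g⁻¹ * a * g)⁻¹ = g⁻¹ * (a * x * a⁻¹) * g := by group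
      rw [this]; exact hax
    · intro h1
      apply hx1
      have := congrArg (fun t => g * t * g⁻¹) h1
      simpa [mul_assoc] using this
  have hb' : (g⁻¹ * a * g) • P = P := Sylow.smul_eq_iff_mem_normalizer.mpr hb
  refine Sylow.smul_eq_iff_mem_normalizer.mp ?_
  rw [← mul_smul]
  have : a * g = g * (g⁻¹ * a * g) := by group
  rw [this, mul_smul, hb']

/-- A subgroup of a normal subgroup `N` that is invariant under all automorphisms of `N` is normal
in the whole group. -/
theorem normal_map_of_aut_invariant (N : Subgroup H) [hN : N.Normal] (R : Subgroup N)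
    (hR : ∀ φ : MulAut N, R.map φ.toMonoidHom ≤ R) : (R.map N.subtype).Normal := by
  refine ⟨fun x hx h => ?_⟩
  obtain ⟨r, hr, rfl⟩ := hx
  have h1 : (MulAut.conjNormal h) r ∈ R.map (MulAut.conjNormal h : MulAut N).toMonoidHom :=
    ⟨r, hr, rfl⟩
  exact ⟨(MulAut.conjNormal h) r, hR _ h1, by simp⟩

theorem pCore_normal_subgroup_eq_bot [Finite H] {p : ℕ} [hp : Fact p.Prime] (hOp : pCore p H = ⊥)
    (N : Subgroup H) [hN : N.Normal] : pCore p N = ⊥ := by
  have h1 : ((pCore p N).map N.subtype).Normal := by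
    apply normal_map_of_aut_invariant
    intro φ
    apply le_pCore
    · exact Subgroup.Normal.map (Cfsg.Agent.Lib.Helper81.pCore_normal p) _ φ.surjective
    · exact (isPGroup_pCore p).map _
  have h2 := le_pCore h1 ((isPGroup_pCore (G := N) p).map N.subtype)
  rw [hOp, le_bot_iff] at h2
  exact (Subgroup.map_eq_bot_iff_of_injective _ N.subtype_injective).mp h2

theorem pPrimeCore_normal_subgroup_eq_bot [Finite H] {p : ℕ} [hp : Fact p.Prime]
    (hOp' : pPrimeCore p H = ⊥) (N : Subgroup H) [hN : N.Normal] : pPrimeCore p N = ⊥ := by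
  have h1 : ((pPrimeCore p N).map N.subtype).Normal := by
    apply normal_map_of_aut_invariant
    intro φ
    apply le_pPrimeCore
    · exact Subgroup.Normal.map (Cfsg.Agent.Lib.Helper81.pPrimeCore_normal p) _ φ.surjective
    · rw [Nat.card_congr ((pPrimeCore p N).equivMapOfInjective φ.toMonoidHom φ.injective).symm.toEquiv]
      exact card_pPrimeCore_coprime p
  have h2 := le_pPrimeCore h1 (by
    rw [Nat.card_congr ((pPrimeCore p N).equivMapOfInjective N.subtype N.subtype_injective).symm.toEquiv]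
    exact card_pPrimeCore_coprime p)
  rw [hOp', le_bot_iff] at h2
  exact (Subgroup.map_eq_bot_iff_of_injective _ N.subtype_injective).mp h2

theorem sylow_normal_subgroup [Finite H] {p : ℕ} [hp : Fact p.Prime]
    (hOp' : pPrimeCore p H = ⊥) (P : Sylow p H) (hTI : TIe (P : Subgroup H))
    (N : Subgroup H) [hN : N.Normal] (hN1 : N ≠ ⊥) (Q : Sylow p N) :
    (Q : Subgroup N) ≠ ⊥ ∧ TIe (Q : Subgroup N) := by
  have hQ' : IsPGroup p ((Q : Subgroup N).map N.subtype) := Q.2.map _
  obtain ⟨P', hP'⟩ := hQ'.exists_le_sylow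
  obtain ⟨g, hg⟩ := MulAction.exists_smul_eq H P P'
  have hTI' : TIe (P' : Subgroup H) := hg ▸ tie_smul P hTI g
  have key : ∀ x : N, (x : H) ∈ (P' : Subgroup H) → x ∈ (Q : Subgroup N) := by
    intro x hx
    have h1 : IsPGroup p ((P' : Subgroup H).subgroupOf N) :=
      P'.2.comap_of_injective N.subtype N.subtype_injective
    have h2 : (Q : Subgroup N) ≤ (P' : Subgroup H).subgroupOf N := by
      intro y hy
      rw [Subgroup.mem_subgroupOf]
      exact hP' ⟨y, hy, rfl⟩
    have h3 := Q.is_maximal' h1 h2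
    rw [← h3, Subgroup.mem_subgroupOf]
    exact hx
  have key' : ∀ x : N, x ∈ (Q : Subgroup N) → (x : H) ∈ (P' : Subgroup H) :=
    fun x hx => hP' ⟨x, hx, rfl⟩
  constructor
  · obtain ⟨w, hwP, hwN, hw1⟩ := sylow_inf_normal_ne_bot hOp' P' N hN hN1
    intro hbot
    have : (⟨w, hwN⟩ : N) ∈ (Q : Subgroup N) := key ⟨w, hwN⟩ hwP
    rw [hbot, Subgroup.mem_bot] at this
    exact hw1 (congrArg Subtype.val this)
  · intro n x hx hnx hx1
    have hn : (n : H) ∈ Subgroup.normalizer ((P' : Subgroup H) : Set H) := by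
      apply hTI' n x (key' x hx)
      · have := key' _ hnx
        simpa using this
      · intro h; exact hx1 (Subtype.ext h)
    rw [Subgroup.mem_normalizer_iff]
    intro y
    have hn' := Subgroup.mem_normalizer_iff.mp hn (y : H)
    constructor
    · intro hy
      apply key
      have := hn'.mp (key' y hy)
      simpa using this
    · intro hy
      apply key
      have := key' _ hy
      exact hn'.mpr (by simpa using this)



/-- Let H be a finite group with no nontrivial normal p-subgroup and no nontrivial normal subgroup of order prime to p, whose Sylow p-subgroup P is nontrivial and a trivial-intersection set (P meets its conjugates by elements outside N_H(P) trivially). Then H has a unique minimal normal subgroup N; N is non-abelian simple with trivial centralizer in H (so H embeds in Aut(N)), and a Sylow p-subgroup of N is again a nontrivial trivial-intersection set in N. -/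
theorem result {H : Type*} [Group H] [Finite H] (p : ℕ) [Fact p.Prime] (hOp : Cfsg.pCore p H = ⊥) (hOp' : Cfsg.pPrimeCore p H = ⊥) (P : Sylow p H) (hP1 : (P : Subgroup H) ≠ ⊥)
    (hTI : ∀ g : H, g ∉ Subgroup.normalizer ((P : Subgroup H) : Set H) → (P : Subgroup H) ⊓ (MulAut.conj g • (P : Subgroup H)) = ⊥) :
    ∃ N : Subgroup H, N.Normal ∧ N ≠ ⊥ ∧ (∀ K : Subgroup H, K.Normal → K ≠ ⊥ → N ≤ K) ∧
      IsSimpleGroup N ∧ ¬ IsMulCommutative N ∧ Subgroup.centralizer (N : Set H) = ⊥ ∧
      ∀ Q : Sylow p N, (Q : Subgroup N) ≠ ⊥ ∧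
        ∀ n : N, n ∉ Subgroup.normalizer ((Q : Subgroup N) : Set N) → (Q : Subgroup N) ⊓ (MulAut.conj n • (Q : Subgroup N)) = ⊥ := by
  have hTIe : TIe (P : Subgroup H) := tie_of_ti _ hTI
  obtain ⟨N, hNn, hN1, hNmin⟩ := exists_unique_min_normal hOp hOp' P hP1 hTIe
  haveI := hNn
  have hNp : pCore p N = ⊥ := pCore_normal_subgroup_eq_bot hOp N
  have hNp' : pPrimeCore p N = ⊥ := pPrimeCore_normal_subgroup_eq_bot hOp' N
  have hQall : ∀ Q : Sylow p N, (Q : Subgroup N) ≠ ⊥ ∧ TIe (Q : Subgroup N) :=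
    fun Q => sylow_normal_subgroup hOp' P hTIe N hN1 Q
  obtain ⟨Q0⟩ : Nonempty (Sylow p N) := inferInstance
  -- the unique minimal normal subgroup of N
  obtain ⟨S0, hS0n, hS01, hS0min⟩ :=
    exists_unique_min_normal hNp hNp' Q0 (hQall Q0).1 (hQall Q0).2
  -- S0 is invariant under automorphisms of N
  have hS0aut : ∀ φ : MulAut N, S0.map φ.toMonoidHom ≤ S0 := by
    intro φ
    have h1 : (S0.map φ.toMonoidHom).Normal := Subgroup.Normal.map hS0n _ φ.surjective
    have h2 : S0.map φ.toMonoidHom ≠ ⊥ := by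
      intro h
      exact hS01 ((Subgroup.map_eq_bot_iff_of_injective _ φ.injective).mp h)
    have h3 := hS0min _ h1 h2
    have h4 : Nat.card (S0.map φ.toMonoidHom) = Nat.card S0 :=
      Nat.card_congr (S0.equivMapOfInjective φ.toMonoidHom φ.injective).symm.toEquiv
    have h5 := Subgroup.eq_of_le_of_card_ge h3 (le_of_eq h4)
    rw [← h5]
  have hSn : (S0.map N.subtype).Normal := normal_map_of_aut_invariant N S0 hS0aut
  have hS1 : S0.map N.subtype ≠ ⊥ := by
    intro h
    exact hS01 ((Subgroup.map_eq_bot_iff_of_injective _ N.subtype_injective).mp h)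
  have hNS : N ≤ S0.map N.subtype := hNmin _ hSn hS1
  have hS0top : S0 = ⊤ := by
    rw [eq_top_iff]
    intro x _
    obtain ⟨s, hs, hsx⟩ := hNS x.2
    have : s = x := Subtype.ext hsx
    rw [← this]; exact hs
  have hsimple : IsSimpleGroup N := by
    haveI : Nontrivial N := (Subgroup.nontrivial_iff_ne_bot N).mpr hN1
    refine ⟨fun K hK => ?_⟩
    by_cases hK1 : K = ⊥
    · left; exact hK1
    · right
      rw [eq_top_iff, ← hS0top]
      exact hS0min K hK hK1
  have hnab : ¬ IsMulCommutative N := by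
    intro hab
    have h1 : ((Q0 : Subgroup N)).Normal := by
      refine ⟨fun x hx g => ?_⟩
      have : g * x * g⁻¹ = x := by
        rw [hab.is_comm.comm g x, mul_inv_cancel_right]
      rw [this]; exact hx
    have h2 := le_pCore h1 Q0.2
    rw [hNp, le_bot_iff] at h2
    exact (hQall Q0).1 h2
  refine ⟨N, hNn, hN1, hNmin, hsimple, hnab, ?_, ?_⟩
  · by_contra hC
    have hCn : (Subgroup.centralizer (N : Set H)).Normal := Subgroup.normal_centralizer
    have hNC := hNmin _ hCn hC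
    apply hnab
    refine ⟨⟨fun a b => ?_⟩⟩
    apply Subtype.ext
    have := hNC a.2 (b : H) b.2
    simp only [Subgroup.coe_mul]
    exact this.symm
  · intro Q
    exact ⟨(hQall Q).1, ti_of_tie _ (hQall Q).2⟩

end Cfsg.Agent.S4620
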