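import Cfsg.Statements.S4624
import Mathlib
import Cfsg.Agent.Lib.Helper44.SymInvGen
import Cfsg.Agent.Lib.Helper44.SpNormalRank
import Cfsg.Agent.Lib.Helper07.SL2QuatMain

set_option autoImplicit false
open Cfsg

namespace Cfsg.Agent.S4624

open Cfsg.Agent.Lib.Helper44

lemma padicVal_card_sp {F : Type*} [Field F] [Fintype F] {q : ℕ} (hF : Fintype.card F = q)
    (hq : Odd q) (n : ℕ) :
    padicValNat 2 (Nat.card ↥(Matrix.symplecticGroup (Fin n) F)) =
      n * padicValNat 2 (q ^ 2 - 1) + padicValNat 2 n.factorial := by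
  have hq1 : 1 < q := by rw [← hF]; exact Fintype.one_lt_card
  have hG := Cfsg.Agent.Lib.Helper07.card_symplecticGroup hF n
  rw [hG, padicValNat.mul, padicVal_prod_sp hq hq1]
  · have : padicValNat 2 (q ^ (n ^ 2)) = 0 := by
      apply padicValNat.eq_zero_of_not_dvd
      rw [← even_iff_two_dvd]
      exact Nat.not_even_iff_odd.mpr hq.pow
    rw [this, zero_add]
  · exact pow_ne_zero _ (by omega)
  · apply Finset.prod_ne_zero_iff.mpr
    intro i _
    have : 1 < q ^ (2 * (i + 1)) := Nat.one_lt_pow (by omega) hq1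
    omega


/-- Let F be a finite field of odd order and n ≥ 1. A Sylow 2-subgroup P of the symplectic group Sp_{2n}(F) has P/P' elementary abelian: the square of every element of P lies in the derived subgroup of P. -/
theorem result {F : Type*} [Field F] [Fintype F] (hF : Odd (Fintype.card F)) (n : ℕ) (hn : 1 ≤ n) (P : Sylow 2 (Matrix.symplecticGroup (Fin n) F)) :
    ∀ x : (P : Subgroup (Matrix.symplecticGroup (Fin n) F)), x ^ 2 ∈ commutator (P : Subgroup (Matrix.symplecticGroup (Fin n) F)) := by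
  classical
  have hq1 : 1 < Fintype.card F := Fintype.one_lt_card
  obtain ⟨S0⟩ : Nonempty (Sylow 2 (Matrix.SpecialLinearGroup (Fin 2) F)) := Sylow.nonempty
  have hS0 : SqComm (S0 : Subgroup (Matrix.SpecialLinearGroup (Fin 2) F)) := by
    obtain ⟨k, hk, ⟨e⟩⟩ := Cfsg.Agent.Lib.Helper07.sylow_two_SL_two_quaternion hF S0
    apply sqComm_of_top
    haveI : NeZero (2 ^ k) := ⟨by positivity⟩
    exact sqComm_top_of_equiv e.symm
      (quat_sqComm (2 ^ k) ((Nat.even_pow.mpr ⟨even_two, by omega⟩)))
  obtain ⟨I, hI, hIc⟩ := invGen_all n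
  set T0 := (wrSub n (S0 : Subgroup (Matrix.SpecialLinearGroup (Fin 2) F))
    (Subgroup.closure I)).map (wreathHom (F := F) n) with hT0
  have hT0sq : SqComm T0 := (wrSub_sqComm n _ hS0 I hI).map _
  have hcard : Nat.card T0 =
      2 ^ (Nat.card ↥(Matrix.symplecticGroup (Fin n) F)).factorization 2 := by
    rw [hT0, Subgroup.card_map_of_injective (wreathHom_injective n), card_wrSub, hIc,
      Sylow.card_eq_multiplicity S0, ← pow_mul, ← pow_add,
      Nat.factorization_def _ Nat.prime_two, Nat.factorization_def _ Nat.prime_two,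
      padicVal_card_sp rfl hF n, padicVal_card_sl2 rfl hF hq1]
    congr 1
    ring
  let P0 : Sylow 2 ↥(Matrix.symplecticGroup (Fin n) F) := Sylow.ofCard T0 hcard
  obtain ⟨g, hg⟩ := MulAction.exists_smul_eq ↥(Matrix.symplecticGroup (Fin n) F) P0 P
  have hP : (P : Subgroup ↥(Matrix.symplecticGroup (Fin n) F)) =
      T0.map (MulAut.conj g).toMonoidHom := by
    rw [← hg]
    rfl
  have hPsq : SqComm (P : Subgroup ↥(Matrix.symplecticGroup (Fin n) F)) := by
    rw [hP]
    exact hT0sq.map _
  intro x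
  exact hPsq.sq_mem_commutator x

end Cfsg.Agent.S4624
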