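import Cfsg.Statements.S4626
import Cfsg.Agent.Lib.Helper83.Quotient
import Cfsg.Agent.Lib.Helper81.PSolvable

set_option autoImplicit false
open Cfsg

namespace Cfsg.Agent.S4626

/-- A natural number prime to `p` is not in a `p`-modular maximal ideal. -/
theorem natCast_not_mem {p : ℕ} {M : Ideal Cfsg.AlgInt} (hM : Cfsg.IsPModular p M) (d : ℕ)
    (hd : ¬ p ∣ d) : (d : Cfsg.AlgInt) ∉ M := by
  obtain ⟨hp, hmax, hpM⟩ := hM
  intro hdM
  have hcop : Nat.Coprime d p := ((Nat.Prime.coprime_iff_not_dvd hp).mpr hd).symm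
  have hI : IsCoprime (d : ℤ) (p : ℤ) := Nat.isCoprime_iff_coprime.mpr hcop
  obtain ⟨u, v, huv⟩ := hI
  have h1 : ((u * d + v * p : ℤ) : Cfsg.AlgInt) = 1 := by rw [huv]; simp
  have h2 : ((u * d + v * p : ℤ) : Cfsg.AlgInt) ∈ M := by
    push_cast
    exact M.add_mem (M.mul_mem_left _ hdM) (M.mul_mem_left _ hpM)
  rw [h1] at h2
  exact hmax.ne_top ((Ideal.eq_top_iff_one M).mpr h2)

/-- Let G be a finite group, p a prime, M a maximal ideal of the algebraic integers containing p, P a Sylow p-subgroup of G and N a normal subgroup of index prime to p containing the centralizer C_G(P). Then every irreducible character of G whose kernel contains N lies in the principal p-block of G. -/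
theorem result {G : Type*} [Group G] [Finite G] (p : ℕ) [Fact p.Prime] (M : Ideal Cfsg.AlgInt) (hM : Cfsg.IsPModular p M) (P : Sylow p G) (N : Subgroup G) [N.Normal] (hidx : ¬ p ∣ N.index)
    (hC : Subgroup.centralizer ((P : Subgroup G) : Set G) ≤ N) (χ : Cfsg.IrrCharacter G) (hker : ∀ n ∈ N, (χ : G → ℂ) n = (χ : G → ℂ) 1) :
    χ ∈ Cfsg.principalBlock M G := by
  have hNn : N.Normal := inferInstance
  have hχc : IsCharacter G (χ : G → ℂ) := Cfsg.Agent.Lib.Helper83.IrrCharacter_isCharacter χ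
  set d := charDegree (χ : G → ℂ) with hd
  have hdcast : (d : ℂ) = (χ : G → ℂ) 1 := Cfsg.Agent.Lib.Helper83.charDegree_cast hχc
  have hddvd : d ∣ N.index := Cfsg.Agent.Lib.Helper83.irr_charDegree_dvd_index χ N hker
  have hpd : ¬ p ∣ d := fun h => hidx (h.trans hddvd)
  have hd0 : (d : ℂ) ≠ 0 := by
    have : d ≠ 0 := by
      rintro h0
      rw [h0, zero_dvd_iff] at hddvd
      exact Subgroup.index_ne_zero_of_finite hddvd
    exact_mod_cast this
  show SameBlock M (fun _ : G => (1 : ℂ)) (χ : G → ℂ)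
  intro g
  set idx := (Subgroup.centralizer ({g} : Set G)).index with hidxdef
  have hintχ : IsIntegral ℤ ((d : ℂ) - (χ : G → ℂ) g) :=
    IsIntegral.sub (isIntegral_natCast d) (Cfsg.Agent.Lib.Helper82.IsCharacter.isIntegral hχc g)
  refine ⟨(idx : Cfsg.AlgInt) * ⟨(d : ℂ) - (χ : G → ℂ) g, hintχ⟩, (d : Cfsg.AlgInt), ?_,
    natCast_not_mem hM d hpd, ?_⟩
  · by_cases hp : p ∣ idx
    · apply M.mul_mem_right
      obtain ⟨m, hm⟩ := hp
      rw [hm]; push_cast
      exact M.mul_mem_right _ hM.2.2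
    · -- g lies in N
      obtain ⟨P', hP'⟩ := Cfsg.Agent.Lib.Helper81.exists_sylow_le_of_not_dvd_index _ hp
      obtain ⟨x, hx⟩ := MulAction.exists_smul_eq G P' P
      have hgN : x * g * x⁻¹ ∈ N := by
        apply hC
        intro y hy
        -- y ∈ P = x • P', so x⁻¹ y x ∈ P' commutes with g
        rw [← hx, SetLike.mem_coe, Sylow.coe_subgroup_smul] at hy
        obtain ⟨u, hu, rfl⟩ := hy
        have hcomm := hP' hu
        rw [Subgroup.mem_centralizer_singleton_iff] at hcomm
        show (x * u * x⁻¹) * (x * g * x⁻¹) = (x * g * x⁻¹) * (x * u * x⁻¹)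
        calc x * u * x⁻¹ * (x * g * x⁻¹) = x * (u * g) * x⁻¹ := by group
          _ = x * (g * u) * x⁻¹ := by rw [hcomm]
          _ = x * g * x⁻¹ * (x * u * x⁻¹) := by group
      have hgN' : g ∈ N := by
        have := hNn.conj_mem _ hgN x⁻¹
        simpa [mul_assoc] using this
      have hχg : (χ : G → ℂ) g = (d : ℂ) := by rw [hker g hgN', hdcast]
      have : (⟨(d : ℂ) - (χ : G → ℂ) g, hintχ⟩ : Cfsg.AlgInt) = 0 := by
        apply Subtype.ext
        simp [hχg]
      rw [this, mul_zero]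
      exact M.zero_mem
  · simp only [centralChar]
    push_cast
    rw [← hdcast, ← hidxdef]
    field_simp

end Cfsg.Agent.S4626
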