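import Cfsg.Statements.S4627
import Mathlib
import Cfsg.Agent.Lib.Helper44.SymSwap
import Cfsg.Agent.Lib.Helper44.GLEvenSylow

set_option autoImplicit false
open Cfsg

namespace Cfsg.Agent.S4627

open Cfsg.Agent.Lib.Helper44


/-- Let F be a finite field of odd order q and m ≥ 1. If 4 divides q + 1, or if 4 divides q − 1 and m is a power of 2, then a Sylow 2-subgroup P of SL_{2m}(F) has P/P' elementary abelian: the square of every element of P lies in the derived subgroup of P. -/
theorem result {F : Type*} [Field F] [Fintype F] (hF : Odd (Fintype.card F)) (m : ℕ) (hm : 1 ≤ m)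
    (hq : 4 ∣ Fintype.card F + 1 ∨ (4 ∣ Fintype.card F - 1 ∧ ∃ j : ℕ, m = 2 ^ j)) (P : Sylow 2 (Matrix.SpecialLinearGroup (Fin (2 * m)) F)) :
    ∀ x : (P : Subgroup (Matrix.SpecialLinearGroup (Fin (2 * m)) F)), x ^ 2 ∈ commutator (P : Subgroup (Matrix.SpecialLinearGroup (Fin (2 * m)) F)) := by
  classical
  have key : SqComm (P : Subgroup (Matrix.SpecialLinearGroup (Fin (2 * m)) F)) := by
    obtain ⟨D, hD⟩ := exists_sylow_GL_two_inf_sqComm hF
    rcases hq with hq | ⟨_, j, rfl⟩
    · obtain ⟨t, htD, ht2, htdet, hdet⟩ := sylow_GL_two_refl hq D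
      obtain ⟨I, hI, hIc⟩ := invGen_all m
      apply sylow_SL_even_sqComm hF m D I hIc _ P
      have hne : (Matrix.GeneralLinearGroup.det : GL (Fin 2) F →* Fˣ) t ≠ 1 := by
        rw [htdet]
        intro h
        have h1 : ((-1 : Fˣ) : F) = ((1 : Fˣ) : F) := congrArg Units.val h
        rw [Units.val_neg, Units.val_one] at h1
        have h2 : (2 : F) = 0 := by linear_combination -h1
        have hchar : ringChar F ∣ 2 := (ringChar.spec F 2).mp (by exact_mod_cast h2)
        have hcard : ringChar F ∣ Fintype.card F := by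
          obtain ⟨n, hp, hn⟩ := FiniteField.card F (ringChar F)
          rw [hn]
          exact dvd_pow_self _ n.ne_zero
        have hp : (ringChar F).Prime := CharP.char_is_prime F _
        have : ringChar F = 2 := (Nat.prime_dvd_prime_iff_eq hp Nat.prime_two).mp hchar
        rw [this] at hcard
        exact (Nat.not_even_iff_odd.mpr hF) (even_iff_two_dvd.mpr hcard)
      apply wrDet_sqComm_A _ m _ hD t htD ht2 hne _ I hI
      intro w hw
      rw [htdet]
      exact hdet w hw
    · obtain ⟨I, hI, hIc, hsw⟩ := invGenSw_two_pow j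
      apply sylow_SL_even_sqComm hF (2 ^ j) D I hIc _ P
      exact wrDet_sqComm_B _ _ _ hD I hI hsw
  intro x
  exact key.sq_mem_commutator x

end Cfsg.Agent.S4627
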