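import Cfsg.Statements.S4628
import Mathlib
import Cfsg.Agent.Lib.Helper44.SymInvGen
import Cfsg.Agent.Lib.Helper44.GLWreath
import Cfsg.Agent.Lib.Helper44.GLTwoNum
import Cfsg.Agent.Lib.Helper44.GLToSL

set_option autoImplicit false
open Cfsg

namespace Cfsg.Agent.S4628

open Cfsg.Agent.Lib.Helper44 Equiv

/-- the index equivalence `(Fin 2 × Fin m) ⊕ Fin 1 ≃ Fin (2 * m + 1)` -/
def idxE (m : ℕ) : (Fin 2 × Fin m) ⊕ Fin 1 ≃ Fin (2 * m + 1) :=
  ((finProdFinEquiv (m := 2) (n := m)).sumCongr (Equiv.refl _)).trans finSumFinEquiv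

/-- `GL_2 ≀ S_m → SL_{2m+1}` -/
noncomputable def bigHom {F : Type*} [Field F] (m : ℕ) :
    (Fin m → GL (Fin 2) F) ⋊[permAut m _] Perm (Fin m) →*
      Matrix.SpecialLinearGroup (Fin (2 * m + 1)) F :=
  (glToSL (idxE m)).comp (glWr m 2)

lemma bigHom_injective {F : Type*} [Field F] (m : ℕ) :
    Function.Injective (bigHom (F := F) m) :=
  (glToSL_injective (idxE m)).comp (glWr_injective m 2)


/-- Let F be a finite field of odd order q with 4 dividing q + 1, and m ≥ 1. Then a Sylow 2-subgroup P of SL_{2m+1}(F) has P/P' elementary abelian: the square of every element of P lies in the derived subgroup of P. -/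
theorem result {F : Type*} [Field F] [Fintype F] (hF : Odd (Fintype.card F)) (hq : 4 ∣ Fintype.card F + 1) (m : ℕ) (hm : 1 ≤ m) (P : Sylow 2 (Matrix.SpecialLinearGroup (Fin (2 * m + 1)) F)) :
    ∀ x : (P : Subgroup (Matrix.SpecialLinearGroup (Fin (2 * m + 1)) F)), x ^ 2 ∈ commutator (P : Subgroup (Matrix.SpecialLinearGroup (Fin (2 * m + 1)) F)) := by
  classical
  have hq1 : 1 < Fintype.card F := Fintype.one_lt_card
  obtain ⟨D, hD⟩ := exists_sylow_GL_two_sqComm hF hq
  obtain ⟨I, hI, hIc⟩ := invGen_all m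
  set T0 := (wrSub m (D : Subgroup (GL (Fin 2) F)) (Subgroup.closure I)).map (bigHom (F := F) m)
    with hT0
  have hT0sq : SqComm T0 := (wrSub_sqComm m _ hD I hI).map _
  have hcard : Nat.card T0 =
      2 ^ (Nat.card (Matrix.SpecialLinearGroup (Fin (2 * m + 1)) F)).factorization 2 := by
    rw [hT0, Subgroup.card_map_of_injective (bigHom_injective m), card_wrSub, hIc,
      Sylow.card_eq_multiplicity D, ← pow_mul, ← pow_add,
      Nat.factorization_def _ Nat.prime_two, Nat.factorization_def _ Nat.prime_two,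
      padicVal_two_card_SL_odd rfl hF m, padicVal_two_card_GL_two rfl hF]
    congr 1
    ring
  let P0 : Sylow 2 (Matrix.SpecialLinearGroup (Fin (2 * m + 1)) F) := Sylow.ofCard T0 hcard
  obtain ⟨g, hg⟩ := MulAction.exists_smul_eq (Matrix.SpecialLinearGroup (Fin (2 * m + 1)) F) P0 P
  have hP : (P : Subgroup (Matrix.SpecialLinearGroup (Fin (2 * m + 1)) F)) =
      T0.map (MulAut.conj g).toMonoidHom := by
    rw [← hg]
    rfl
  have hPsq : SqComm (P : Subgroup (Matrix.SpecialLinearGroup (Fin (2 * m + 1)) F)) := by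
    rw [hP]
    exact hT0sq.map _
  intro x
  exact hPsq.sq_mem_commutator x

end Cfsg.Agent.S4628
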