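import Cfsg.Statements.S4633
-- import your own Cfsg.Agent.* helpers here

import Cfsg.Agent.S4437
import Cfsg.Agent.S0906
import Cfsg.Agent.S0908
import Cfsg.Agent.S0912
import Cfsg.Agent.S0917
import Cfsg.Agent.Lib.Helper84.NormalAction

set_option autoImplicit false
open Cfsg

namespace Cfsg.Agent.S4633

/-- a `p'`-automorphism (induced by `g`) of a cyclic `p`-group fixing a nonidentity element is
trivial -/
theorem mem_centralizer_of_fix {G : Type*} [Group G] (p : ℕ) [Fact p.Prime]
    (P : Subgroup G) [Finite P]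
    (hcyc : IsCyclic P) (hPp : IsPGroup p P) (g : G) (hg : g ∈ Subgroup.normalizer (P : Set G))
    (m : ℕ) (hm : ¬ p ∣ m) (hgm : g ^ m ∈ Subgroup.centralizer (P : Set G))
    (x : G) (hx : x ∈ P) (hx1 : x ≠ 1) (hfix : g * x * g⁻¹ = x) :
    g ∈ Subgroup.centralizer (P : Set G) := by
  classical
  have hp : p.Prime := Fact.out
  obtain ⟨y, hy⟩ := hcyc.exists_generator
  set y₀ : G := (y : G) with hy₀
  have hgen : ∀ u ∈ P, ∃ i : ℤ, y₀ ^ i = u := by
    intro u hu
    obtain ⟨i, hi⟩ := Subgroup.mem_zpowers_iff.mp (hy ⟨u, hu⟩)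
    refine ⟨i, ?_⟩
    have := congrArg Subtype.val hi
    simpa using this
  obtain ⟨n, hn⟩ := IsPGroup.iff_card.mp hPp
  have hord : orderOf y₀ = p ^ n := by
    rw [← hn, hy₀, Subgroup.orderOf_coe]
    exact orderOf_eq_card_of_forall_mem_zpowers hy
  obtain ⟨k, hk⟩ := hgen (g * y₀ * g⁻¹) ((Subgroup.mem_normalizer_iff.mp hg y₀).mp y.2)
  have hconj : ∀ j : ℤ, g * y₀ ^ j * g⁻¹ = y₀ ^ (k * j) := by
    intro j
    rw [← conj_zpow, ← hk, zpow_mul]
  have hiter : ∀ i : ℕ, g ^ i * y₀ * (g ^ i)⁻¹ = y₀ ^ (k ^ i) := by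
    intro i
    induction i with
    | zero => simp
    | succ i ih =>
      have h1 : g ^ (i + 1) * y₀ * (g ^ (i + 1))⁻¹ = g * (g ^ i * y₀ * (g ^ i)⁻¹) * g⁻¹ := by
        rw [pow_succ']; group
      rw [h1, ih, hconj, pow_succ']
  obtain ⟨j, hj⟩ := hgen x hx
  have h1 : y₀ ^ ((k - 1) * j) = 1 := by
    have h2 := hconj j
    rw [hj, hfix, ← hj] at h2
    have h3 : (k - 1) * j = k * j - j := by ring
    rw [h3, zpow_sub, ← h2, mul_inv_cancel]
  have hd1 : ((p : ℤ) ^ n) ∣ (k - 1) * j := by
    have := (orderOf_dvd_iff_zpow_eq_one).mpr h1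
    rwa [hord, Nat.cast_pow] at this
  have hd2 : ¬ ((p : ℤ) ^ n) ∣ j := by
    intro h
    apply hx1
    rw [← hj]
    apply (orderOf_dvd_iff_zpow_eq_one).mp
    rwa [hord, Nat.cast_pow]
  have hp' : Prime (p : ℤ) := Nat.prime_iff_prime_int.mp hp
  have hpk : (p : ℤ) ∣ k - 1 := by
    by_contra h
    have hc : IsCoprime ((p : ℤ) ^ n) (k - 1) :=
      IsCoprime.pow_left ((Prime.coprime_iff_not_dvd hp').mpr h)
    exact hd2 (hc.dvd_of_dvd_mul_left hd1)
  have hn0 : n ≠ 0 := by
    rintro rfl
    exact hd2 (by simp)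
  obtain ⟨n', rfl⟩ := Nat.exists_eq_succ_of_ne_zero hn0
  have hd3 := dvd_sub_pow_of_dvd_sub (R := ℤ) (p := p) (a := k) (b := 1) hpk n'
  rw [one_pow] at hd3
  have h4 : y₀ ^ (k ^ (p ^ n')) = y₀ := by
    have h5 : y₀ ^ (k ^ (p ^ n') - 1) = 1 := by
      apply (orderOf_dvd_iff_zpow_eq_one).mp
      rw [hord, Nat.cast_pow]
      exact hd3
    rw [zpow_sub, zpow_one, mul_inv_eq_one] at h5
    exact h5
  have h6 : g ^ (p ^ n') ∈ Subgroup.centralizer (P : Set G) := by
    rw [Subgroup.mem_centralizer_iff]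
    intro u hu
    obtain ⟨i, rfl⟩ := hgen u hu
    have h7 := hiter (p ^ n')
    rw [h4] at h7
    have hc : Commute (g ^ (p ^ n')) y₀ := mul_inv_eq_iff_eq_mul.mp h7
    exact (hc.zpow_right i).eq.symm
  have hcop : Nat.Coprime m (p ^ n') :=
    Nat.Coprime.pow_right n' ((Nat.Prime.coprime_iff_not_dvd hp).mpr hm).symm
  have hb := Nat.gcd_eq_gcd_ab m (p ^ n')
  rw [hcop.gcd_eq_one] at hb
  have h9 : g = (g ^ m) ^ (Nat.gcdA m (p ^ n')) * (g ^ (p ^ n')) ^ (Nat.gcdB m (p ^ n')) := by
    rw [← zpow_natCast g m, ← zpow_natCast g (p ^ n'), ← zpow_mul, ← zpow_mul, ← zpow_add, ← hb]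
    simp
  rw [h9]
  exact Subgroup.mul_mem _ (Subgroup.zpow_mem _ hgm _) (Subgroup.zpow_mem _ h6 _)


/-- Every block has a defect group (from the existence of defect classes). -/
theorem exists_isDefectGroup' {G : Type*} [Group G] [Finite G] (p : ℕ) [Fact p.Prime]
    (M : Ideal Cfsg.AlgInt) (hM : Cfsg.IsPModular p M) (B : Set (Cfsg.IrrCharacter G))
    (hB : Cfsg.IsPBlock M B) : ∃ D : Subgroup G, Cfsg.IsDefectGroup p M B D := by
  obtain ⟨h, hh⟩ := Cfsg.Agent.S0906.result p M hM B hB
  obtain ⟨Q⟩ : Nonempty (Sylow p (Subgroup.centralizer ({h} : Set G))) := inferInstance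
  exact ⟨_, h, hh, Q, rfl⟩

theorem isPGroup_of_isDefectGroup' {G : Type*} [Group G] (p : ℕ) [Fact p.Prime]
    (M : Ideal Cfsg.AlgInt) (B : Set (Cfsg.IrrCharacter G)) (D : Subgroup G)
    (hD : Cfsg.IsDefectGroup p M B D) : IsPGroup p D := by
  obtain ⟨g, _, Q, rfl⟩ := hD
  exact Q.isPGroup'.map _

/-- A block of `H` (`P ≤ H ≤ N(P)`) inducing a block with defect group `P` has defect group `P`
(same argument as in `S0973`, from the landed results only). -/
theorem isDefectGroup_of_induced' {G : Type*} [Group G] [Finite G] (p : ℕ) [Fact p.Prime]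
    (M : Ideal Cfsg.AlgInt) (hM : Cfsg.IsPModular p M) (P H : Subgroup G) (hP : IsPGroup p P)
    (hPH : P ≤ H)
    (hHN : H ≤ Subgroup.normalizer (P : Set G)) (b : Set (Cfsg.IrrCharacter H))
    (B : Set (Cfsg.IrrCharacter G)) (hind : Cfsg.IsInducedBlock M H b B)
    (hBP : Cfsg.IsDefectGroup p M B P) : Cfsg.IsDefectGroup p M b (P.subgroupOf H) := by
  obtain ⟨Db, hDb⟩ := exists_isDefectGroup' p M hM b hind.1
  have hcore := Cfsg.Agent.S0912.result p M hM b hind.1 Db hDb
  obtain ⟨E, hE, hDE⟩ := Cfsg.Agent.S0917.result p M hM H b hind.1 B hind.2.1 hind Db hDb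
  have hcard : Nat.card E = Nat.card P := by
    rw [Cfsg.Agent.S0908.result p M hM B hind.2.1 E hE,
      Cfsg.Agent.S0908.result p M hM B hind.2.1 P hBP]
  have hnorm : (P.subgroupOf H).Normal := Subgroup.normal_subgroupOf_of_le_normalizer hHN
  have hDle : P.subgroupOf H ≤ Cfsg.pCore p H := by
    apply le_sSup
    exact ⟨hnorm, hP.comap_subtype⟩
  have h2 : Nat.card Db ≤ Nat.card E := by
    have := Subgroup.card_le_of_le hDE
    rwa [Subgroup.card_map_of_injective (Subgroup.subtype_injective _)] at this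
  have h3 : Nat.card (P.subgroupOf H) = Nat.card P := by
    have := Subgroup.card_map_of_injective (K := P.subgroupOf H) (Subgroup.subtype_injective H)
    rw [← this, Subgroup.subgroupOf_map_subtype, inf_of_le_left hPH]
  have heq : P.subgroupOf H = Db := by
    apply Subgroup.eq_of_le_of_card_ge (le_trans hDle hcore)
    rw [h3]
    omega
  rw [heq]
  exact hDb

/-- A `p'`-group `T / C_G(P)` of automorphisms of a nontrivial cyclic `p`-group `P` is cyclic of
order dividing `p - 1` and acts freely on the nonidentity elements. -/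
theorem cyclic_quotient {G : Type*} [Group G] [Finite G] (p : ℕ) [Fact p.Prime] (P : Subgroup G)
    (hcyc : IsCyclic P) (hPp : IsPGroup p P) (hP1 : P ≠ ⊥) (T : Subgroup G)
    (hTN : T ≤ Subgroup.normalizer (P : Set G))
    [hn : ((Subgroup.centralizer (P : Set G)).subgroupOf T).Normal]
    (hnp : ¬ p ∣ (Subgroup.centralizer (P : Set G)).relIndex T) :
    IsCyclic (T ⧸ (Subgroup.centralizer (P : Set G)).subgroupOf T) ∧
      (Subgroup.centralizer (P : Set G)).relIndex T ∣ p - 1 ∧
      ∀ g ∈ T, ∀ x ∈ P, x ≠ 1 → g * x * g⁻¹ = x → g ∈ Subgroup.centralizer (P : Set G) := by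
  classical
  have hp : p.Prime := Fact.out
  -- freeness
  have hfree : ∀ g ∈ T, ∀ x ∈ P, x ≠ 1 → g * x * g⁻¹ = x →
      g ∈ Subgroup.centralizer (P : Set G) := by
    intro g hg x hx hx1 hfix
    have h1 := Subgroup.pow_index_mem ((Subgroup.centralizer (P : Set G)).subgroupOf T) ⟨g, hg⟩
    have h2 : g ^ ((Subgroup.centralizer (P : Set G)).relIndex T) ∈
        Subgroup.centralizer (P : Set G) := by
      rw [Subgroup.relIndex]
      have := Subgroup.mem_subgroupOf.mp h1
      simpa using this
    exact mem_centralizer_of_fix p P hcyc hPp g (hTN hg) _ hnp h2 x hx hx1 hfix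
  refine ⟨?_, ?_, hfree⟩
  all_goals
    -- an element `z` of order `p` in `P`, with `⟨z⟩` normalized by `T`
    obtain ⟨y, hy⟩ := hcyc.exists_generator
    have hgen : ∀ u ∈ P, ∃ i : ℤ, (y : G) ^ i = u := by
      intro u hu
      obtain ⟨i, hi⟩ := Subgroup.mem_zpowers_iff.mp (hy ⟨u, hu⟩)
      refine ⟨i, ?_⟩
      have := congrArg Subtype.val hi
      simpa using this
    obtain ⟨n, hn'⟩ := IsPGroup.iff_card.mp hPp
    have hord : orderOf (y : G) = p ^ n := by
      rw [← hn', Subgroup.orderOf_coe]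
      exact orderOf_eq_card_of_forall_mem_zpowers hy
    have hn0 : n ≠ 0 := by
      rintro rfl
      apply hP1
      rw [pow_zero] at hn'
      exact Subgroup.card_eq_one.mp hn'
    obtain ⟨n', rfl⟩ := Nat.exists_eq_succ_of_ne_zero hn0
    set z : G := (y : G) ^ (p ^ n') with hz
    have hzP : z ∈ P := Subgroup.pow_mem _ y.2 _
    have hzord : orderOf z = p := by
      rw [hz, orderOf_pow_of_dvd (pow_ne_zero _ hp.ne_zero) (by rw [hord]; exact pow_dvd_pow p (Nat.le_succ n')),
        hord, Nat.succ_eq_add_one, pow_succ, Nat.mul_div_cancel_left _ (pow_pos hp.pos n')]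
    have hz1 : z ≠ 1 := by
      intro h
      rw [h, orderOf_one] at hzord
      exact hp.one_lt.ne hzord
    set Z : Subgroup G := Subgroup.zpowers z with hZ
    have hZP : Z ≤ P := Subgroup.zpowers_le.mpr hzP
    have hkey : ∀ g ∈ T, ∀ h ∈ Z, g * h * g⁻¹ ∈ Z := by
      intro g hg h hh
      obtain ⟨i, rfl⟩ := Subgroup.mem_zpowers_iff.mp hh
      obtain ⟨k, hk⟩ := hgen (g * (y : G) * g⁻¹)
        ((Subgroup.mem_normalizer_iff.mp (hTN hg) (y : G)).mp y.2)
      have h1 : g * z * g⁻¹ = z ^ k := by
        rw [hz, ← conj_pow, ← hk, ← zpow_natCast, ← zpow_natCast, ← zpow_mul, ← zpow_mul, mul_comm]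
      rw [← conj_zpow, h1]
      exact Subgroup.zpow_mem _ (Subgroup.zpow_mem _ (Subgroup.mem_zpowers z) _) _
    have hTZ : T ≤ Subgroup.normalizer (Z : Set G) := by
      intro g hg
      rw [Subgroup.mem_normalizer_iff]
      intro h
      constructor
      · exact hkey g hg h
      · intro hh
        have := hkey g⁻¹ (T.inv_mem hg) _ hh
        have h2 : g⁻¹ * (g * h * g⁻¹) * g⁻¹⁻¹ = h := by group
        rwa [h2] at this
    set ψ : T →* MulAut Z := (Subgroup.normalizerMonoidHom Z).comp (Subgroup.inclusion hTZ) with hψ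
    have hψ1 : ∀ t : T, ψ t = 1 ↔ (t : G) ∈ Subgroup.centralizer (Z : Set G) := by
      intro t
      rw [hψ, MonoidHom.comp_apply, ← MonoidHom.mem_ker, Subgroup.normalizerMonoidHom_ker,
        Subgroup.mem_subgroupOf]
      rfl
    have hle : (Subgroup.centralizer (P : Set G)).subgroupOf T ≤ ψ.ker := by
      intro t ht
      rw [MonoidHom.mem_ker, hψ1]
      exact Subgroup.centralizer_le (by exact_mod_cast hZP) (Subgroup.mem_subgroupOf.mp ht)
    set f : T ⧸ (Subgroup.centralizer (P : Set G)).subgroupOf T →* MulAut Z :=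
      QuotientGroup.lift _ ψ hle with hf
    have hinj : Function.Injective f := by
      rw [injective_iff_map_eq_one]
      intro q
      induction q using QuotientGroup.induction_on with
      | H t =>
        intro h
        rw [hf, QuotientGroup.lift_mk, hψ1] at h
        rw [QuotientGroup.eq_one_iff, Subgroup.mem_subgroupOf]
        apply hfree t t.2 z hzP hz1
        have := (Subgroup.mem_centralizer_iff.mp h) z (Subgroup.mem_zpowers z)
        rw [← this]; group
    have hZcard : Nat.card Z = p := by rw [hZ, Nat.card_zpowers, hzord]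
    have hZcyc : IsCyclic Z := by rw [hZ]; infer_instance
  · -- cyclic
    have : Fact (Nat.card Z).Prime := ⟨hZcard ▸ hp⟩
    have : IsCyclic (MulAut Z) :=
      isCyclic_of_injective (IsCyclic.mulAutMulEquiv Z).toMonoidHom
        (IsCyclic.mulAutMulEquiv Z).injective
    exact isCyclic_of_injective f hinj
  · -- order
    have h1 : Nat.card (MulAut Z) = p - 1 := by
      rw [IsCyclic.card_mulAut, hZcard, Nat.totient_prime hp]
    have h2 := Subgroup.card_dvd_of_injective f hinj
    rw [h1] at h2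
    have h3 : (Subgroup.centralizer (P : Set G)).relIndex T =
        Nat.card (T ⧸ (Subgroup.centralizer (P : Set G)).subgroupOf T) := by
      rw [Subgroup.relIndex, Subgroup.index]
    rw [h3]
    exact h2


/-- Let B be a block of the finite group G relative to a maximal ideal M of the algebraic integers containing the prime p, with a nontrivial cyclic defect group P. Let c be a block of C_G(P) inducing B and T the stabilizer of c in N_G(P) (the elements of N_G(P) conjugating c to itself); T contains C_G(P). Then T/C_G(P) is cyclic of order dividing p − 1, and it acts freely on the non-identity elements of P: an element of T fixing some non-identity element of P under conjugation lies in C_G(P). -/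
theorem result {G : Type*} [Group G] [Finite G] (p : ℕ) [Fact p.Prime] (M : Ideal Cfsg.AlgInt) (hM : Cfsg.IsPModular p M) (B : Set (Cfsg.IrrCharacter G)) (hB : Cfsg.IsPBlock M B) (P : Subgroup G) (hPD : Cfsg.IsDefectGroup p M B P) (hP1 : P ≠ ⊥) (hcyc : IsCyclic P) (c : Set (Cfsg.IrrCharacter (Subgroup.centralizer (P : Set G)))) (hc : Cfsg.IsInducedBlock M (Subgroup.centralizer (P : Set G)) c B) (T : Subgroup G) (hT : ∀ g : G, g ∈ T ↔ (g ∈ Subgroup.normalizer (P : Set G) ∧ Cfsg.StabilizesBlock (Subgroup.centralizer (P : Set G)) c g)) [hn : ((Subgroup.centralizer (P : Set G)).subgroupOf T).Normal] : IsCyclic (T ⧸ (Subgroup.centralizer (P : Set G)).subgroupOf T) ∧ (Subgroup.centralizer (P : Set G)).relIndex T ∣ p - 1 ∧ ∀ g ∈ T, ∀ x ∈ P, x ≠ 1 → g * x * g⁻¹ = x → g ∈ Subgroup.centralizer (P : Set G) := by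
  classical
  have hp : p.Prime := Fact.out
  have hPp : IsPGroup p P := isPGroup_of_isDefectGroup' p M B P hPD
  -- `P` is abelian
  have hPC : P ≤ Subgroup.centralizer (P : Set G) := by
    obtain ⟨y, hy⟩ := hcyc.exists_generator
    have hgen : ∀ u ∈ P, ∃ i : ℤ, (y : G) ^ i = u := by
      intro u hu
      obtain ⟨i, hi⟩ := Subgroup.mem_zpowers_iff.mp (hy ⟨u, hu⟩)
      refine ⟨i, ?_⟩
      have := congrArg Subtype.val hi
      simpa using this
    intro u hu
    rw [Subgroup.mem_centralizer_iff]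
    intro v hv
    obtain ⟨i, rfl⟩ := hgen u hu
    obtain ⟨j, rfl⟩ := hgen v hv
    rw [← zpow_add, ← zpow_add, add_comm]
  have hCN : Subgroup.centralizer (P : Set G) ≤ Subgroup.normalizer (P : Set G) :=
    Subgroup.centralizer_le_normalizer _
  have hcD : IsDefectGroup p M c (P.subgroupOf (Subgroup.centralizer (P : Set G))) :=
    isDefectGroup_of_induced' p M hM P _ hPp hPC hCN c B hc hPD
  have hH : Subgroup.centralizer (P : Set G) = P ⊔ Subgroup.centralizer (P : Set G) :=
    (sup_of_le_right hPC).symm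
  have hTN : T ≤ Subgroup.normalizer (P : Set G) := fun g hg => ((hT g).mp hg).1
  -- the stabilizer in the form used by `S4437`
  have hT' : ∀ g : G, g ∈ T ↔ (g ∈ Subgroup.normalizer (P : Set G) ∧
      ∀ θ ∈ c, ∀ θ' : Cfsg.IrrCharacter (Subgroup.centralizer (P : Set G)),
        (∀ h h' : Subgroup.centralizer (P : Set G), (h' : G) = g * h * g⁻¹ →
          (θ' : Subgroup.centralizer (P : Set G) → ℂ) h' =
            (θ : Subgroup.centralizer (P : Set G) → ℂ) h) → θ' ∈ c) := by
    intro g
    rw [hT g]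
    constructor
    · rintro ⟨hgN, hgC, hst⟩
      refine ⟨hgN, ?_⟩
      intro θ hθ θ' hθ'
      obtain ⟨χ', hχ', hconj⟩ := hst θ hθ
      have : θ' = χ' := by
        apply Subtype.ext
        funext h'
        have hmem : g⁻¹ * (h' : G) * g ∈ Subgroup.centralizer (P : Set G) := by
          have := (Subgroup.mem_normalizer_iff.mp (Subgroup.inv_mem _ hgC) (h' : G)).mp h'.2
          simpa using this
        have h1 : (h' : G) = g * ((⟨_, hmem⟩ : Subgroup.centralizer (P : Set G)) : G) * g⁻¹ := by
          simp only; group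
        rw [hθ' ⟨_, hmem⟩ h' h1, hconj ⟨_, hmem⟩ h' h1]
      rw [this]
      exact hχ'
    · rintro ⟨hgN, hst⟩
      have hgC : g ∈ Subgroup.normalizer ((Subgroup.centralizer (P : Set G) : Subgroup G) : Set G) := by
        rw [Subgroup.mem_normalizer_iff]
        have hcz : ∀ a : G, a ∈ Subgroup.normalizer (P : Set G) →
            ∀ h ∈ Subgroup.centralizer (P : Set G), a * h * a⁻¹ ∈ Subgroup.centralizer (P : Set G) := by
          intro a ha h hh
          rw [Subgroup.mem_centralizer_iff]
          intro u hu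
          have hu' : a⁻¹ * u * a ∈ P := by
            have := (Subgroup.mem_normalizer_iff.mp (Subgroup.inv_mem _ ha) u).mp hu
            simpa using this
          have := (Subgroup.mem_centralizer_iff.mp hh) _ hu'
          calc u * (a * h * a⁻¹) = a * ((a⁻¹ * u * a) * h) * a⁻¹ := by group
            _ = a * (h * (a⁻¹ * u * a)) * a⁻¹ := by rw [this]
            _ = a * h * a⁻¹ * u := by group
        intro h
        constructor
        · exact hcz g hgN h
        · intro hh
          have := hcz g⁻¹ (Subgroup.inv_mem _ hgN) _ hh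
          have h2 : g⁻¹ * (g * h * g⁻¹) * g⁻¹⁻¹ = h := by group
          rwa [h2] at this
      refine ⟨hgN, hgC, ?_⟩
      intro χ hχ
      -- the conjugate character
      have hmem : ∀ k : Subgroup.centralizer (P : Set G),
          g⁻¹ * (k : G) * g ∈ Subgroup.centralizer (P : Set G) := by
        intro k
        have := (Subgroup.mem_normalizer_iff.mp (Subgroup.inv_mem _ hgC) (k : G)).mp k.2
        simpa using this
      have hmem' : ∀ k : Subgroup.centralizer (P : Set G),
          g * (k : G) * g⁻¹ ∈ Subgroup.centralizer (P : Set G) := fun k =>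
        (Subgroup.mem_normalizer_iff.mp hgC (k : G)).mp k.2
      let φ : Subgroup.centralizer (P : Set G) ≃* Subgroup.centralizer (P : Set G) :=
        { toFun := fun k => ⟨g⁻¹ * (k : G) * g, hmem k⟩
          invFun := fun k => ⟨g * (k : G) * g⁻¹, hmem' k⟩
          left_inv := fun k => by apply Subtype.ext; simp only; group
          right_inv := fun k => by apply Subtype.ext; simp only; group
          map_mul' := fun a b => by apply Subtype.ext; simp only [Subgroup.coe_mul]; group }
      have hirr := Cfsg.Agent.Lib.Helper84.isIrrCharacter_comp_mulEquiv φ χ.2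
      refine ⟨⟨_, hirr⟩, ?_, ?_⟩
      · apply hst χ hχ
        intro h h' hh'
        show (χ : Subgroup.centralizer (P : Set G) → ℂ) (φ h') = _
        have h3 : φ h' = h := Subtype.ext (by
          show g⁻¹ * (h' : G) * g = (h : G)
          rw [hh']; group)
        rw [h3]
      · intro k k' hk'
        show (χ : Subgroup.centralizer (P : Set G) → ℂ) (φ k') = _
        have h3 : φ k' = k := Subtype.ext (by
          show g⁻¹ * (k' : G) * g = (k : G)
          rw [hk']; group)
        rw [h3]
  letI : Fintype G := Fintype.ofFinite G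
  letI : Fintype (Subgroup.centralizer (P : Set G)) := Fintype.ofFinite _
  have hnp : ¬ p ∣ (Subgroup.centralizer (P : Set G)).relIndex T :=
    (Cfsg.Agent.S4437.result p M hM P hPp _ hH c hc.1 hcD B hc T hT').mp hPD
  exact cyclic_quotient p P hcyc hPp hP1 T hTN hnp

end Cfsg.Agent.S4633
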