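import Cfsg.Statements.S4636

set_option autoImplicit false
open Cfsg
open scoped Pointwise

namespace Cfsg.Agent.S4636

theorem mem_of_pow_eq_one {G : Type*} [Group G] [Finite G] (p : ℕ) [Fact p.Prime] (P : Subgroup G)
    (hcyc : IsCyclic P) (Z : Subgroup G) (hZ : Z ≤ P) (hZcard : Nat.card Z = p)
    (a : G) (ha : a ∈ P) (hap : a ^ p = 1) : a ∈ Z := by
  classical
  haveI : Fintype P := Fintype.ofFinite P
  haveI : Fintype Z := Fintype.ofFinite Z
  have hp : 0 < p := (Fact.out : p.Prime).pos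
  have hle := IsCyclic.card_pow_eq_one_le (α := P) hp
  -- the image of Z in P
  let S : Finset P := Finset.univ.filter (fun a : P => a ^ p = 1)
  let Z' : Finset P := Finset.univ.filter (fun a : P => (a : G) ∈ Z)
  have hZ'S : Z' ⊆ S := by
    intro b hb
    simp only [Z', S, Finset.mem_filter, Finset.mem_univ, true_and] at hb ⊢
    have : (⟨(b : G), hb⟩ : Z) ^ p = 1 := by
      rw [← hZcard]; exact pow_card_eq_one'
    have h2 : ((b : G)) ^ p = 1 := by
      have := congrArg (Subtype.val) this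
      simpa using this
    exact Subtype.ext (by simpa using h2)
  have hZ'card : Z'.card = p := by
    rw [← hZcard, Nat.card_eq_fintype_card (α := Z)]
    rw [← Finset.card_univ]
    refine Finset.card_bij' (fun b hb => ⟨(b : G), by simpa [Z'] using hb⟩)
      (fun z _ => ⟨(z : G), hZ z.2⟩) ?_ ?_ ?_ ?_
    · intro b hb; simp
    · intro z _; simp [Z']
    · intro b hb; simp
    · intro z _; simp
  have hSZ : Z' = S := Finset.eq_of_subset_of_card_le hZ'S (by rw [hZ'card]; exact hle)
  have : (⟨a, ha⟩ : P) ∈ S := by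
    simp only [S, Finset.mem_filter, Finset.mem_univ, true_and]
    exact Subtype.ext (by simpa using hap)
  rw [← hSZ] at this
  simpa [Z'] using this

theorem eq_of_card {G : Type*} [Group G] [Finite G] (p : ℕ) [Fact p.Prime] (P : Subgroup G)
    (hcyc : IsCyclic P) (Z : Subgroup G) (hZ : Z ≤ P) (hZcard : Nat.card Z = p)
    (W : Subgroup G) (hW : W ≤ P) (hWcard : Nat.card W = p) : W = Z := by
  have hWZ : W ≤ Z := by
    intro a ha
    apply mem_of_pow_eq_one p P hcyc Z hZ hZcard a (hW ha)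
    have : (⟨a, ha⟩ : W) ^ p = 1 := by
      rw [← hWcard]; exact pow_card_eq_one'
    have := congrArg (Subtype.val) this
    simpa using this
  exact Subgroup.eq_of_le_of_card_ge hWZ (by rw [hWcard, hZcard])

theorem le_of_ne_bot {G : Type*} [Group G] [Finite G] (p : ℕ) [Fact p.Prime] (P : Subgroup G)
    (hP : IsPGroup p P) (hcyc : IsCyclic P) (Z : Subgroup G) (hZ : Z ≤ P) (hZcard : Nat.card Z = p)
    (Q : Subgroup G) (hQ : Q ≤ P) (hQ1 : Q ≠ ⊥) : Z ≤ Q := by
  have hQp : IsPGroup p Q := hP.to_le hQ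
  have hQnt : Nontrivial Q := (Subgroup.nontrivial_iff_ne_bot Q).mpr hQ1
  obtain ⟨n, hn⟩ := IsPGroup.iff_card.mp hQp
  have hn0 : n ≠ 0 := by
    rintro rfl
    rw [pow_zero] at hn
    have := (Nat.card_eq_one_iff_unique.mp hn).1
    exact not_subsingleton Q this
  have hdvd : p ∣ Nat.card Q := by rw [hn]; exact dvd_pow_self p hn0
  obtain ⟨y, hy⟩ := exists_prime_orderOf_dvd_card' p hdvd
  have hy' : orderOf (y : G) = p := by rw [Subgroup.orderOf_coe]; exact hy
  have : Subgroup.zpowers (y : G) = Z := by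
    apply eq_of_card p P hcyc Z hZ hZcard
    · rw [Subgroup.zpowers_le]; exact hQ y.2
    · rw [Nat.card_zpowers, hy']
  rw [← this, Subgroup.zpowers_le]; exact y.2

theorem conj_mem_normalizer {G : Type*} [Group G] [Finite G] (p : ℕ) [Fact p.Prime] (P : Subgroup G)
    (hcyc : IsCyclic P) (Z : Subgroup G) (hZ : Z ≤ P) (hZcard : Nat.card Z = p)
    (x : G) (hx : MulAut.conj x • Z ≤ P) : x ∈ Subgroup.normalizer (Z : Set G) := by
  have h1 : MulAut.conj x • Z = Z := by
    apply eq_of_card p P hcyc Z hZ hZcard _ hx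
    rw [← hZcard]
    exact Nat.card_congr (Subgroup.equivSMul (MulAut.conj x) Z).symm.toEquiv
  rw [Subgroup.mem_normalizer_iff'']
  intro h
  have e : ∀ h, h ∈ MulAut.conj x • Z ↔ x⁻¹ * h * x ∈ Z := by
    intro h
    rw [Subgroup.mem_pointwise_smul_iff_inv_smul_mem]
    simp [MulAut.smul_def, ← map_inv, MulAut.conj_apply]
  rw [← e h, h1]

/-- Let P be a nontrivial cyclic p-subgroup of the finite group G and Z its subgroup of order p. For every x outside N_G(Z), P meets its conjugate xPx⁻¹ trivially; consequently N_G(Q) ≤ N_G(Z) for every nontrivial subgroup Q of P. -/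
theorem result {G : Type*} [Group G] [Finite G] (p : ℕ) [Fact p.Prime] (P : Subgroup G) (hP : IsPGroup p P) (hP1 : P ≠ ⊥) (hcyc : IsCyclic P) (Z : Subgroup G) (hZ : Z ≤ P) (hZcard : Nat.card Z = p) : (∀ x : G, x ∉ Subgroup.normalizer (Z : Set G) → P ⊓ MulAut.conj x • P = ⊥) ∧ ∀ Q : Subgroup G, Q ≤ P → Q ≠ ⊥ → Subgroup.normalizer (Q : Set G) ≤ Subgroup.normalizer (Z : Set G) := by
  constructor
  · intro x hx
    by_contra hne
    apply hx
    apply conj_mem_normalizer p P hcyc Z hZ hZcard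
    -- Z ≤ x⁻¹ • (P ⊓ x • P)
    have h1 : (MulAut.conj x)⁻¹ • (P ⊓ MulAut.conj x • P) ≤ P := by
      have : (MulAut.conj x)⁻¹ • (P ⊓ MulAut.conj x • P) ≤ (MulAut.conj x)⁻¹ • (MulAut.conj x • P) :=
        Subgroup.pointwise_smul_le_pointwise_smul_iff.mpr inf_le_right
      rwa [inv_smul_smul] at this
    have h2 : (MulAut.conj x)⁻¹ • (P ⊓ MulAut.conj x • P) ≠ ⊥ := by
      intro h
      apply hne
      have h3 : MulAut.conj x • ((MulAut.conj x)⁻¹ • (P ⊓ MulAut.conj x • P)) = MulAut.conj x • (⊥ : Subgroup G) := by rw [h]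
      rwa [smul_inv_smul, Subgroup.smul_bot] at h3
    have h3 := le_of_ne_bot p P hP hcyc Z hZ hZcard _ h1 h2
    have h4 : MulAut.conj x • Z ≤ MulAut.conj x • ((MulAut.conj x)⁻¹ • (P ⊓ MulAut.conj x • P)) :=
      Subgroup.pointwise_smul_le_pointwise_smul_iff.mpr h3
    rw [smul_inv_smul] at h4
    exact h4.trans inf_le_left
  · intro Q hQ hQ1 g hg
    apply conj_mem_normalizer p P hcyc Z hZ hZcard
    have h3 := le_of_ne_bot p P hP hcyc Z hZ hZcard Q hQ hQ1
    have h4 : MulAut.conj g • Z ≤ MulAut.conj g • Q :=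
      Subgroup.pointwise_smul_le_pointwise_smul_iff.mpr h3
    have : MulAut.conj g • Q = Q := by
      ext x
      rw [Subgroup.mem_pointwise_smul_iff_inv_smul_mem]
      rw [Subgroup.mem_normalizer_iff''] at hg
      simp only [MulAut.smul_def, ← map_inv, MulAut.conj_apply, inv_inv]
      exact (hg x).symm
    rw [this] at h4
    exact h4.trans hQ

end Cfsg.Agent.S4636
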