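import Cfsg.Statements.S4645
-- import your own Cfsg.Agent.* helpers here
import Cfsg.Agent.Lib.Helper81.NilAbMain
import Cfsg.Agent.Lib.Helper85.InducedPair
import Cfsg.Agent.Lib.Helper20.UniqueInvolution
import Cfsg.Agent.S4633

set_option autoImplicit false
open Cfsg

namespace Cfsg.Agent.S4645

open Cfsg.Agent.Lib.Helper81 Cfsg.Agent.Lib.Helper85.AbelianDefect
  Cfsg.Agent.Lib.Helper85.InducedPair

/-- Let B be a block of the finite group G relative to a maximal ideal M of the algebraic integers containing the prime p, with a nontrivial cyclic defect group P; let c be a block of C_G(P) inducing B and T the stabilizer of c in N_G(P). Let Q be a nontrivial subgroup of P (so C_G(P) ≤ C_G(Q)), f the block of C_G(Q) induced by c inside C_G(Q), and T' the stabilizer of f in N_G(Q). Then T' = T·C_G(Q), the index of C_G(Q) in T' equals the index of C_G(P) in T, f has p-regular rank 1, and f is a nilpotent block of C_G(Q). -/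
theorem result {G : Type*} [Group G] [Finite G] (p : ℕ) [Fact p.Prime] (M : Ideal Cfsg.AlgInt) (hM : Cfsg.IsPModular p M) (B : Set (Cfsg.IrrCharacter G)) (hB : Cfsg.IsPBlock M B) (P : Subgroup G) (hPD : Cfsg.IsDefectGroup p M B P) (hP1 : P ≠ ⊥) (hcyc : IsCyclic P) (c : Set (Cfsg.IrrCharacter (Subgroup.centralizer (P : Set G)))) (hc : Cfsg.IsInducedBlock M (Subgroup.centralizer (P : Set G)) c B) (T : Subgroup G) (hT : ∀ g : G, g ∈ T ↔ (g ∈ Subgroup.normalizer (P : Set G) ∧ Cfsg.StabilizesBlock (Subgroup.centralizer (P : Set G)) c g)) (Q : Subgroup G) (hQP : Q ≤ P) (hQ1 : Q ≠ ⊥) (f : Set (Cfsg.IrrCharacter (Subgroup.centralizer (Q : Set G)))) (hf : Cfsg.IsInducedBlockIn M (Subgroup.centralizer (Q : Set G)) (Subgroup.centralizer (P : Set G)) c f) (T' : Subgroup G) (hT' : ∀ g : G, g ∈ T' ↔ (g ∈ Subgroup.normalizer (Q : Set G) ∧ Cfsg.StabilizesBlock (Subgroup.centralizer (Q : Set G)) f g)) : T' = T ⊔ Subgroup.centralizer (Q : Set G) ∧ (Subgroup.centralizer (Q : Set G)).relIndex T' = (Subgroup.centralizer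 (P : Set G)).relIndex T ∧ Cfsg.blockRank p f = 1 ∧ Cfsg.IsNilpotentBlock p M f := by
  classical
  have : Fintype G := Fintype.ofFinite G
  have hMp : M.IsPrime := hM.2.1.isPrime
  have hPp : IsPGroup p P := isPGroup_of_isDefectGroup' hPD
  have hab : ∀ x ∈ P, ∀ y ∈ P, x * y = y * x := by
    intro x hx y hy
    have h1 := isMulCommutative_iff.1 (IsCyclic.isMulCommutative (α := P)) ⟨x, hx⟩ ⟨y, hy⟩
    exact congrArg Subtype.val h1
  have hBe : Cfsg.IsBrauerPairOf p M B P c := isBrauerPairOf_of_isInducedBlock hM hPp hc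
  have hmax : Cfsg.IsMaximalBrauerPair p M B P c := isMaximal_of_isDefectGroup hM hBe hPD
  have hcb : Cfsg.IsPBlock M c := hc.1
  have hPC : P ≤ Subgroup.centralizer (Q : Set G) := by
    intro u hu
    rw [Subgroup.mem_centralizer_iff]
    intro v hv
    exact hab v (hQP hv) u hu
  have hind := (isInducedBlockIn_iff hQP hPC hcb).1 hf
  have hBf : Cfsg.IsBrauerPairOf p M f (subH P Q) (tb hQP hPC c) :=
    isBrauerPairOf_of_isInducedBlock hM hPp.comap_subtype hind
  have hfb : Cfsg.IsPBlock M f := hf.2.1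
  have hns := isNormalSubpair_of_isBrauerPairOf_tb hM hQP hPC hPp hcb hBf
  have hle : Cfsg.SubpairLE p M Q f P c := Relation.ReflTransGen.single hns
  have hDf : Cfsg.IsDefectGroup p M f (subH P Q) :=
    isDefectGroup_subH hM hmax hle hfb ⟨hPp, hcb⟩ hle hPC le_rfl
  -- the free action
  have hCT : Subgroup.centralizer (P : Set G) ≤ T := centralizer_le_stabilizer hMp hcb hT
  have hTN : T ≤ Subgroup.normalizer (P : Set G) := fun y hy => ((hT y).1 hy).1
  have hn : ((Subgroup.centralizer (P : Set G)).subgroupOf T).Normal :=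
    (Subgroup.normal_subgroupOf_iff_le_normalizer hCT).2
      (hTN.trans (normalizer_le_normalizer_centralizer P))
  have hfree := (Cfsg.Agent.S4633.result p M hM B hB P hPD hP1 hcyc c hc T hT).2.2
  -- the local block is nilpotent
  have hnilf : Cfsg.IsNilpotentBlock p M f :=
    (free_iff_local_nilpotent hM hPD hab hc hT).1 hfree Q hQP hQ1 f hf
  -- and has rank one
  have habH : ∀ x ∈ subH P Q, ∀ y ∈ subH P Q, x * y = y * x := by
    intro x hx y hy
    apply Subtype.ext
    exact hab _ (Subgroup.mem_subgroupOf.1 hx) _ (Subgroup.mem_subgroupOf.1 hy)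
  have : Fintype (Subgroup.centralizer (Q : Set G)) := Fintype.ofFinite _
  have hrank := (blockRank_eq_one_of_nilpotent_abelian hM hDf habH hnilf).1
  -- `T` normalizes `Q`
  have hTNQ : T ≤ Subgroup.normalizer (Q : Set G) := by
    intro y hy
    have hyP := hTN hy
    apply mem_normalizer_of_cj_eq
    have hcjP : cj y Q ≤ P := by
      intro v hv
      obtain ⟨w, hw, rfl⟩ := mem_cj.1 hv
      exact (Subgroup.mem_normalizer_iff.1 hyP w).1 (hQP hw)
    exact Cfsg.Agent.Lib.Helper20.subgroup_eq_of_le_cyclic P (cj y Q) Q hcjP hQP (card_cj y Q)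
  have hTT' : T ≤ T' := fun y hy =>
    (hT' y).2 ⟨hTNQ hy, stabilizer_le hM ⟨hPp, hcb⟩ hfb hle (hTN hy) ((hT y).1 hy).2 (hTNQ hy)⟩
  have hCT' : Subgroup.centralizer (Q : Set G) ≤ T' := centralizer_le_stabilizer hMp hfb hT'
  obtain ⟨hfac, hidx⟩ := stabilizer_index hM hmax hab hfb hle hT' hT
  refine ⟨?_, ?_, hrank, hnilf⟩
  · apply le_antisymm
    · intro x hx
      obtain ⟨y, hy, c', hc', rfl⟩ := hfac x hx
      exact Subgroup.mul_mem_sup hy hc'
    · exact sup_le hTT' hCT'
  · have h1 : T ⊓ Subgroup.normalizer (Q : Set G) = T := inf_of_le_left hTNQ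
    have h2 : T ⊓ Subgroup.centralizer (Q : Set G) = Subgroup.centralizer (P : Set G) := by
      apply le_antisymm
      · rintro g ⟨hgT, hgQ⟩
        obtain ⟨x, hxQ, hx1⟩ : ∃ x ∈ Q, x ≠ 1 := by
          by_contra hno
          push Not at hno
          exact hQ1 ((Subgroup.eq_bot_iff_forall Q).2 hno)
        have hcomm : x * g = g * x := (Subgroup.mem_centralizer_iff.1 hgQ) x hxQ
        refine hfree g hgT x (hQP hxQ) hx1 ?_
        rw [← hcomm]
        group
      · exact le_inf hCT (Subgroup.centralizer_le hQP)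
    show ((Subgroup.centralizer (Q : Set G)).subgroupOf T').index =
      ((Subgroup.centralizer (P : Set G)).subgroupOf T).index
    rw [hidx, h1, h2]

end Cfsg.Agent.S4645
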