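import Cfsg.Statements.S4691
import Mathlib
import Cfsg.Agent.S0071
import Cfsg.Agent.S4663
import Cfsg.Agent.Lib.Helper22.PrincipalSection
import Cfsg.Agent.Lib.Helper22.Covering
import Cfsg.Agent.Lib.Helper84.NormalAction

set_option autoImplicit false
open Cfsg

namespace Cfsg.Agent.S4691

/-- Conjugation by the inverse of an element of the normalizer, as an automorphism of the
subgroup. -/
def conjInvEquiv {G : Type*} [Group G] (K : Subgroup G) (g : G)
    (hg : g ∈ Subgroup.normalizer (K : Set G)) : K ≃* K where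
  toFun k := ⟨g⁻¹ * (k : G) * g, by
    have h := (Subgroup.mem_normalizer_iff.1 hg (g⁻¹ * (k : G) * g))
    rw [h]
    have : g * (g⁻¹ * (k : G) * g) * g⁻¹ = (k : G) := by group
    rw [this]
    exact k.2⟩
  invFun k := ⟨g * (k : G) * g⁻¹, (Subgroup.mem_normalizer_iff.1 hg (k : G)).1 k.2⟩
  left_inv k := by
    apply Subtype.ext
    show g * (g⁻¹ * (k : G) * g) * g⁻¹ = (k : G)
    group
  right_inv k := by
    apply Subtype.ext
    show g⁻¹ * (g * (k : G) * g⁻¹) * g = (k : G)
    group
  map_mul' a b := by
    apply Subtype.ext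
    show g⁻¹ * ((a : G) * (b : G)) * g = (g⁻¹ * (a : G) * g) * (g⁻¹ * (b : G) * g)
    group

/-- Every element of the normalizer of a subgroup stabilizes its principal block. -/
theorem stabilizes_principalBlock {G : Type*} [Group G] [Finite G] (M : Ideal Cfsg.AlgInt)
    (K : Subgroup G) (g : G) (hg : g ∈ Subgroup.normalizer (K : Set G)) :
    Cfsg.StabilizesBlock K (Cfsg.principalBlock M K) g := by
  refine ⟨hg, ?_⟩
  intro χ hχ
  let φ : K ≃* K := conjInvEquiv K g hg
  refine ⟨⟨fun k => (χ : K → ℂ) (φ k),
    Cfsg.Agent.Lib.Helper84.isIrrCharacter_comp_mulEquiv φ χ.2⟩, ?_, ?_⟩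
  · intro h
    have h1 : Cfsg.MemLocalIdeal M (Cfsg.centralChar (fun _ : K => (1 : ℂ)) (φ h) -
        Cfsg.centralChar (χ : K → ℂ) (φ h)) := hχ (φ h)
    rw [← Cfsg.Agent.Lib.Helper22.centralChar_comp_mulEquiv φ (χ : K → ℂ) h,
      ← Cfsg.Agent.Lib.Helper22.centralChar_comp_mulEquiv φ (fun _ : K => (1 : ℂ)) h] at h1
    exact h1
  · intro k k' hk
    show (χ : K → ℂ) (φ k') = (χ : K → ℂ) k
    have hφk : φ k' = k := by
      apply Subtype.ext
      show g⁻¹ * (k' : G) * g = (k : G)
      rw [hk]
      group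
    rw [hφk]

/-- Fix a prime p and a maximal ideal M of the algebraic integers containing p. A finite group G has a normal p-complement if and only if its principal p-block is nilpotent. -/
theorem result {G : Type*} [Group G] [Fintype G] (p : ℕ) [Fact p.Prime] (M : Ideal Cfsg.AlgInt) (hM : Cfsg.IsPModular p M) : Cfsg.HasNormalPComplement p G ↔ Cfsg.IsNilpotentBlock p M (Cfsg.principalBlock M G) := by
  classical
  have hpr : p.Prime := Fact.out
  constructor
  · rintro ⟨P, N, hNn, hNP⟩
    refine ⟨Cfsg.Agent.Lib.Helper22.isPBlock_principalBlock M G, ?_⟩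
    intro Q e hpair x hx _ hreg
    have hQ : IsPGroup p Q := hpair.1.1
    obtain ⟨P', hQP'⟩ := hQ.exists_le_sylow
    -- `N` is also a complement of `P'`
    have hcomp : N.IsComplement' (P' : Subgroup G) := by
      have hcard : Nat.card N * Nat.card (P : Subgroup G) = Nat.card G := hNP.card_mul_card
      have hPP' : Nat.card (P' : Subgroup G) = Nat.card (P : Subgroup G) := by
        rw [Sylow.card_eq_multiplicity, Sylow.card_eq_multiplicity]
      have hNidx : Nat.card N = (P : Subgroup G).index := by
        have h2 := (P : Subgroup G).card_mul_index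
        have hpos : 0 < Nat.card (P : Subgroup G) := Nat.card_pos
        apply Nat.eq_of_mul_eq_mul_left hpos
        rw [h2, mul_comm, hcard]
      have hcop : (Nat.card N).Coprime (Nat.card (P' : Subgroup G)) := by
        rw [hPP', Sylow.card_eq_multiplicity]
        apply Nat.Coprime.pow_right
        rw [hNidx]
        exact (Nat.Prime.coprime_iff_not_dvd hpr).2 P.not_dvd_index |>.symm
      apply Subgroup.isComplement'_of_coprime _ hcop
      rw [hPP', hcard]
    have hF := (Cfsg.Agent.S0071.result P').1 ⟨N, hNn, hcomp⟩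
    apply hF Q hQP' x hx
    exact ((Nat.Prime.coprime_iff_not_dvd hpr).2 hreg).symm
  · rintro ⟨_, hnil⟩
    obtain ⟨P⟩ : Nonempty (Sylow p G) := inferInstance
    refine ⟨P, ?_⟩
    apply (Cfsg.Agent.S0071.result P).2
    intro Q hQP g hg hcop
    have hQ : IsPGroup p Q := P.2.to_le hQP
    have hpair : Cfsg.IsBrauerPairOf p M (Cfsg.principalBlock M G) Q
        (Cfsg.principalBlock M (Subgroup.centralizer (Q : Set G))) :=
      (Cfsg.Agent.S4663.result p M hM Q hQ _
        (Cfsg.Agent.Lib.Helper22.isPBlock_principalBlock M _)).2 rfl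
    -- the normalizer of `Q` normalizes the centralizer of `Q`
    have hgN : g ∈ Subgroup.normalizer ((Subgroup.centralizer (Q : Set G) : Subgroup G) : Set G) := by
      rw [Subgroup.mem_normalizer_iff]
      intro h
      have hg' := Subgroup.mem_normalizer_iff.1 hg
      constructor
      · intro hh
        rw [Subgroup.mem_centralizer_iff] at hh ⊢
        intro q hq
        -- `g⁻¹ q g ∈ Q`
        have hq' : g⁻¹ * q * g ∈ Q := by
          rw [hg' (g⁻¹ * q * g)]
          have : g * (g⁻¹ * q * g) * g⁻¹ = q := by group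
          rw [this]; exact hq
        have h1 := hh (g⁻¹ * q * g) hq'
        calc q * (g * h * g⁻¹) = g * ((g⁻¹ * q * g) * h) * g⁻¹ := by group
          _ = g * (h * (g⁻¹ * q * g)) * g⁻¹ := by rw [h1]
          _ = g * h * g⁻¹ * q := by group
      · intro hh
        rw [Subgroup.mem_centralizer_iff] at hh ⊢
        intro q hq
        have hq' : g * q * g⁻¹ ∈ Q := (hg' q).1 hq
        have h1 := hh (g * q * g⁻¹) hq'
        calc q * h = g⁻¹ * ((g * q * g⁻¹) * (g * h * g⁻¹)) * g := by group
          _ = g⁻¹ * ((g * h * g⁻¹) * (g * q * g⁻¹)) * g := by rw [h1]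
          _ = h * q := by group
    exact hnil Q _ hpair g hg (stabilizes_principalBlock M _ g hgN)
      ((Nat.Prime.coprime_iff_not_dvd hpr).1 hcop.symm)

end Cfsg.Agent.S4691
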