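import Cfsg.Statements.S4646
import Mathlib
import Cfsg.Agent.S4691
import Cfsg.Agent.S0938
import Cfsg.Agent.Lib.Helper22.BlockQuot
import Cfsg.Agent.Lib.Helper22.PrincipalSection
import Cfsg.Agent.Lib.Helper82.BlockRank
import Cfsg.Agent.Lib.Helper82.BlockBasic
import Cfsg.Agent.Lib.Helper83.Decompose
import Cfsg.Agent.Lib.Helper85.BlockQuotRank

set_option autoImplicit false
open Cfsg

namespace Cfsg.Agent.S4646

/-- For a finite group G, a prime p and a maximal ideal M of the algebraic integers containing p: the principal block of G is nilpotent if and only if its p-regular rank is 1 (the trivial Brauer character is its only irreducible Brauer character). -/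
theorem result {G : Type*} [Group G] [Finite G] (p : ℕ) [Fact p.Prime] (M : Ideal Cfsg.AlgInt) (hM : Cfsg.IsPModular p M) : Cfsg.IsNilpotentBlock p M (Cfsg.principalBlock M G) ↔ Cfsg.blockRank p (Cfsg.principalBlock M G) = 1 := by
  classical
  let _ : Fintype G := Fintype.ofFinite G
  have hpr : p.Prime := Fact.out
  have hMp : M.IsPrime := hM.2.1.isPrime
  rw [← Cfsg.Agent.S4691.result p M hM]
  -- the `p`-regular part of the trivial character
  set one0 : G → ℂ := Cfsg.pRegularPart p (fun _ : G => (1 : ℂ)) with hone0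
  have h1reg : ¬ p ∣ orderOf (1 : G) := by
    rw [orderOf_one]; exact hpr.one_lt.ne' ∘ Nat.dvd_one.1
  have hone0_1 : one0 1 = 1 := by
    rw [hone0, Cfsg.Agent.Lib.Helper82.pRegularPart_of_regular _ h1reg]
  have hone0_ne : one0 ≠ 0 := by
    intro h
    rw [h] at hone0_1
    exact zero_ne_one hone0_1
  let oneG : Cfsg.IrrCharacter G := ⟨fun _ => 1, Cfsg.Agent.Lib.Helper83.isIrrCharacter_one⟩
  have honeB : oneG ∈ Cfsg.principalBlock M G :=
    Cfsg.Agent.Lib.Helper82.sameBlock_refl hMp _
  constructor
  · rintro ⟨P, K, hKn, hKP⟩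
    have := hKn
    have hcard : Nat.card K * Nat.card (P : Subgroup G) = Nat.card G := hKP.card_mul_card
    obtain ⟨n, hn⟩ := IsPGroup.iff_card.1 P.2
    have hKidx : Nat.card K = (P : Subgroup G).index := by
      have h2 := (P : Subgroup G).card_mul_index
      have hpos : 0 < Nat.card (P : Subgroup G) := Nat.card_pos
      apply Nat.eq_of_mul_eq_mul_left hpos
      rw [h2, mul_comm, hcard]
    have hKp : ¬ p ∣ Nat.card K := by
      rw [hKidx]; exact P.not_dvd_index
    have hquot : Nat.card (G ⧸ K) = Nat.card (P : Subgroup G) := by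
      have h2 := Subgroup.card_eq_card_quotient_mul_card_subgroup K
      have hpos : 0 < Nat.card K := Nat.card_pos
      apply Nat.eq_of_mul_eq_mul_left hpos
      rw [hcard, h2, mul_comm]
    -- `p`-regular elements lie in `K`
    have hreg : ∀ g : G, ¬ p ∣ orderOf g → g ∈ K := by
      intro g hg
      rw [← QuotientGroup.eq_one_iff, ← orderOf_eq_one_iff]
      have h1 : orderOf (QuotientGroup.mk g : G ⧸ K) ∣ p ^ n := by
        rw [← hn, ← hquot]
        exact orderOf_dvd_natCard _
      obtain ⟨j, _, hj⟩ := (Nat.dvd_prime_pow hpr).1 h1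
      rcases Nat.eq_zero_or_pos j with rfl | hjpos
      · rw [hj, pow_zero]
      · exfalso
        apply Cfsg.Agent.Lib.Helper85.not_dvd_orderOf_mk K hg
        rw [hj]
        exact dvd_pow_self p hjpos.ne'
    have hker : ∀ χ ∈ Cfsg.principalBlock M G, ∀ g ∈ K, (χ : G → ℂ) g = (χ : G → ℂ) 1 := by
      intro χ hχ
      exact Cfsg.Agent.Lib.Helper22.ker_of_sameBlock hM K hKp
        Cfsg.Agent.Lib.Helper83.isIrrCharacter_one χ.2 hχ (fun _ _ => rfl)
    have hspan : Submodule.span ℂ ((fun χ : Cfsg.IrrCharacter G =>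
        Cfsg.pRegularPart p (χ : G → ℂ)) '' Cfsg.principalBlock M G) =
        Submodule.span ℂ {one0} := by
      apply le_antisymm
      · rw [Submodule.span_le]
        rintro _ ⟨χ, hχ, rfl⟩
        have hform : Cfsg.pRegularPart p (χ : G → ℂ) = (χ : G → ℂ) 1 • one0 := by
          funext g
          by_cases hg : p ∣ orderOf g
          · rw [Pi.smul_apply, Cfsg.Agent.Lib.Helper82.pRegularPart_of_singular _ hg, hone0,
              Cfsg.Agent.Lib.Helper82.pRegularPart_of_singular _ hg, smul_zero]
          · rw [Pi.smul_apply, Cfsg.Agent.Lib.Helper82.pRegularPart_of_regular _ hg, hone0,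
              Cfsg.Agent.Lib.Helper82.pRegularPart_of_regular _ hg, smul_eq_mul, mul_one]
            exact hker χ hχ g (hreg g hg)
        show Cfsg.pRegularPart p (χ : G → ℂ) ∈ Submodule.span ℂ {one0}
        rw [hform]
        exact Submodule.smul_mem _ _ (Submodule.subset_span rfl)
      · rw [Submodule.span_le]
        rintro _ rfl
        exact Submodule.subset_span ⟨oneG, honeB, rfl⟩
    unfold Cfsg.blockRank
    rw [hspan]
    exact finrank_span_singleton hone0_ne
  · intro hrank
    unfold Cfsg.blockRank at hrank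
    set S : Submodule ℂ (G → ℂ) := Submodule.span ℂ ((fun χ : Cfsg.IrrCharacter G =>
        Cfsg.pRegularPart p (χ : G → ℂ)) '' Cfsg.principalBlock M G) with hS
    have hone0S : one0 ∈ S := Submodule.subset_span ⟨oneG, honeB, rfl⟩
    have hall := (finrank_eq_one_iff_of_nonzero' (⟨one0, hone0S⟩ : S)
      (by intro h; exact hone0_ne (congrArg Subtype.val h))).1 hrank
    -- every member of the principal block is constant on `p`-regular elements
    have hconst : ∀ χ ∈ Cfsg.principalBlock M G, ∀ g : G, ¬ p ∣ orderOf g →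
        (χ : G → ℂ) g = (χ : G → ℂ) 1 := by
      intro χ hχ g hg
      have hχS : Cfsg.pRegularPart p (χ : G → ℂ) ∈ S := Submodule.subset_span ⟨χ, hχ, rfl⟩
      obtain ⟨c, hc⟩ := hall ⟨_, hχS⟩
      have hc' : c • one0 = Cfsg.pRegularPart p (χ : G → ℂ) := congrArg Subtype.val hc
      have h1 := congrFun hc' 1
      have hg' := congrFun hc' g
      rw [Pi.smul_apply, hone0_1, smul_eq_mul, mul_one,
        Cfsg.Agent.Lib.Helper82.pRegularPart_of_regular _ h1reg] at h1
      rw [Pi.smul_apply, hone0, Cfsg.Agent.Lib.Helper82.pRegularPart_of_regular _ hg,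
        Cfsg.Agent.Lib.Helper82.pRegularPart_of_regular _ hg, smul_eq_mul, mul_one] at hg'
      rw [← hg', h1]
    obtain ⟨K, hKn, hKset, hKp, _, _⟩ := Cfsg.Agent.S0938.result p M hM _
      (Cfsg.Agent.Lib.Helper22.isPBlock_principalBlock M G) oneG honeB
    have := hKn
    have hreg : ∀ g : G, ¬ p ∣ orderOf g → g ∈ K := by
      intro g hg
      have : g ∈ (K : Set G) := by
        rw [hKset]
        intro χ hχ
        exact hconst χ hχ g hg
      exact this
    -- the quotient is a `p`-group
    have hquot : IsPGroup p (G ⧸ K) := by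
      intro x
      induction x using QuotientGroup.induction_on with
      | H g =>
        have hg0 : orderOf g ≠ 0 := (orderOf_pos g).ne'
        obtain ⟨a, m, hm, hgm⟩ := Nat.exists_eq_pow_mul_and_not_dvd hg0 p hpr.ne_one
        refine ⟨a, ?_⟩
        rw [← QuotientGroup.mk_pow, QuotientGroup.eq_one_iff]
        apply hreg
        intro hdvd
        have h1 : orderOf (g ^ p ^ a) ∣ m := by
          apply orderOf_dvd_of_pow_eq_one
          rw [← pow_mul, ← hgm, pow_orderOf_eq_one]
        exact hm (hdvd.trans h1)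
    obtain ⟨m, hm⟩ := IsPGroup.iff_card.1 hquot
    obtain ⟨P⟩ : Nonempty (Sylow p G) := inferInstance
    refine ⟨P, K, hKn, ?_⟩
    have hGcard : Nat.card G = Nat.card K * p ^ m := by
      rw [← hm, mul_comm]
      exact Subgroup.card_eq_card_quotient_mul_card_subgroup K
    have hPcard : Nat.card (P : Subgroup G) = p ^ m := by
      rw [Sylow.card_eq_multiplicity, hGcard,
        Nat.factorization_mul (Nat.card_pos.ne') (pow_pos hpr.pos m).ne',
        Nat.Prime.factorization_pow hpr, Finsupp.add_apply,
        Nat.factorization_eq_zero_of_not_dvd hKp, zero_add, Finsupp.single_eq_same]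
    apply Subgroup.isComplement'_of_coprime
    · rw [hPcard, hGcard]
    · rw [hPcard]
      exact Nat.Coprime.pow_right m ((Nat.Prime.coprime_iff_not_dvd hpr).2 hKp).symm

end Cfsg.Agent.S4646
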