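import Cfsg.Statements.S4652
import Cfsg.Agent.Lib.Helper21.OsimaApps
import Cfsg.Agent.Lib.Helper21.InducedBlock
import Cfsg.Agent.Lib.Helper83.Decompose

set_option autoImplicit false
open Cfsg

namespace Cfsg.Agent.S4652

open Cfsg.Agent.Lib.Helper21 Cfsg.Agent.Lib.Helper82 Cfsg.Agent.Lib.Helper83

/-- a `p`-subgroup of a subgroup `C` of `p'`-index which is Sylow in `C` is Sylow in `G` -/
theorem factorization_eq_of_not_dvd_index {G : Type*} [Group G] [Finite G] {p : ℕ}
    (hp : p.Prime) (C : Subgroup G) (h : ¬ p ∣ C.index) :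
    (Nat.card C).factorization p = (Nat.card G).factorization p := by
  have h1 : Nat.card C * C.index = Nat.card G := Subgroup.card_mul_index C
  have hC : Nat.card C ≠ 0 := Nat.card_pos.ne'
  have hi : C.index ≠ 0 := Subgroup.index_ne_zero_of_finite
  rw [← h1, Nat.factorization_mul hC hi, Finsupp.add_apply,
    Nat.factorization_eq_zero_of_not_dvd h, add_zero]

/-- Fix a prime p and a maximal ideal M of the algebraic integers containing p. The defect groups of the principal p-block of a finite group G are exactly the Sylow p-subgroups of G: a subgroup D is a defect group of the principal block if and only if D is a Sylow p-subgroup. -/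
theorem result {G : Type*} [Group G] [Fintype G] (p : ℕ) [Fact p.Prime] (M : Ideal Cfsg.AlgInt) (hM : Cfsg.IsPModular p M) (D : Subgroup G) : Cfsg.IsDefectGroup p M (Cfsg.principalBlock M G) D ↔ ∃ S : Sylow p G, (S : Subgroup G) = D := by
  classical
  haveI : Finite (IrrCharacter G) := irr_finite
  haveI : Fintype (IrrCharacter G) := Fintype.ofFinite _
  have hp : p.Prime := Fact.out
  have hprime : M.IsPrime := hM.2.1.isPrime
  set χ₀ : IrrCharacter G := trivChar G with hχ₀
  have hB : principalBlock M G = blockOf M (χ₀ : G → ℂ) := rfl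
  have key : ∀ g : G, IsDefectClass M (principalBlock M G) g →
      ¬ p ∣ (Subgroup.centralizer ({g} : Set G)).index := by
    intro g hg hdvd
    have h1 := hg.2.2 χ₀ (by rw [hB]; exact mem_blockOf_self hprime χ₀)
    apply h1
    have : centralChar (χ₀ : G → ℂ) g = ((Subgroup.centralizer ({g} : Set G)).index : ℂ) := by
      simp [centralChar, hχ₀, trivChar_apply]
    rw [this]
    exact (memLocalIdeal_natCast_iff hM _).mpr hdvd
  constructor
  · rintro ⟨g, hg, P, rfl⟩
    have hidx := key g hg
    have hcard : Nat.card ((P : Subgroup (Subgroup.centralizer ({g} : Set G))).map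
        (Subgroup.centralizer ({g} : Set G)).subtype) = p ^ (Nat.card G).factorization p := by
      rw [Subgroup.card_map_of_injective (Subgroup.subtype_injective _), Sylow.card_eq_multiplicity,
        factorization_eq_of_not_dvd_index hp _ hidx]
    exact ⟨Sylow.ofCard _ hcard, rfl⟩
  · rintro ⟨S, rfl⟩
    obtain ⟨g₀, hg₀⟩ := exists_isDefectClass hprime χ₀
    rw [← hB] at hg₀
    have hidx₀ := key g₀ hg₀
    -- a Sylow subgroup of G inside C(g₀)
    set C₀ := Subgroup.centralizer ({g₀} : Set G) with hC₀
    obtain P₀ : Sylow p C₀ := default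
    have hcard₀ : Nat.card ((P₀ : Subgroup C₀).map C₀.subtype) = p ^ (Nat.card G).factorization p := by
      rw [Subgroup.card_map_of_injective (Subgroup.subtype_injective _), Sylow.card_eq_multiplicity,
        factorization_eq_of_not_dvd_index hp _ hidx₀]
    set S₀ : Sylow p G := Sylow.ofCard _ hcard₀ with hS₀
    have hS₀C : (S₀ : Subgroup G) ≤ C₀ := by
      rw [hS₀, Sylow.coe_ofCard]
      exact Subgroup.map_subtype_le _
    obtain ⟨x, hx⟩ := MulAction.exists_smul_eq G S₀ S
    set g := x * g₀ * x⁻¹ with hg
    have hgdef : IsDefectClass M (principalBlock M G) g :=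
      isDefectClass_of_isConj (isConj_iff.mpr ⟨x, rfl⟩) hg₀
    have hidx := key g hgdef
    set C := Subgroup.centralizer ({g} : Set G) with hC
    have hSC : (S : Subgroup G) ≤ C := by
      intro s hs
      have hs' : s ∈ ((x • S₀ : Sylow p G) : Subgroup G) := by rw [hx]; exact hs
      rw [Sylow.coe_subgroup_smul, Subgroup.mem_pointwise_smul_iff_inv_smul_mem] at hs'
      have htC := hS₀C hs'
      simp only [MulAut.smul_def, ← map_inv, MulAut.conj_apply, inv_inv] at htC
      rw [hC₀, Subgroup.mem_centralizer_iff] at htC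
      rw [hC, Subgroup.mem_centralizer_iff]
      intro y hy
      rw [Set.mem_singleton_iff] at hy
      subst hy
      have h1 := htC g₀ rfl
      rw [hg]
      have h2 : x * (g₀ * (x⁻¹ * s * x)) * x⁻¹ = x * ((x⁻¹ * s * x) * g₀) * x⁻¹ := by rw [h1]
      calc x * g₀ * x⁻¹ * s = x * (g₀ * (x⁻¹ * s * x)) * x⁻¹ := by group
        _ = x * ((x⁻¹ * s * x) * g₀) * x⁻¹ := h2
        _ = s * (x * g₀ * x⁻¹) := by group
    have hcardS : Nat.card ((S : Subgroup G).subgroupOf C) = p ^ (Nat.card C).factorization p := by
      rw [factorization_eq_of_not_dvd_index hp _ hidx, ← Sylow.card_eq_multiplicity S]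
      exact Nat.card_congr (Subgroup.subgroupOfEquivOfLe hSC).toEquiv
    refine ⟨g, hgdef, Sylow.ofCard _ hcardS, ?_⟩
    rw [Sylow.coe_ofCard, Subgroup.subgroupOf_map_subtype, inf_eq_left.mpr hSC]

end Cfsg.Agent.S4652
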