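import Cfsg.Statements.S4661
import Cfsg.Agent.Lib.Helper81.BPDefect

set_option autoImplicit false
open Cfsg
open Cfsg.Agent.Lib.Helper81 Cfsg.Agent.Lib.Helper82 Cfsg.Agent.Lib.Helper83

namespace Cfsg.Agent.S4661

/-- Fix a prime p and a maximal ideal M of the algebraic integers containing p. Let (P, e) be a maximal Brauer pair of the p-block B of the finite group G, Q ≤ P, and f the p-block of C_G(Q) with (Q, f) ≤ (P, e). Then C_P(Q) is contained in a defect group of f (as a block of the group C_G(Q)); and for some x in G the conjugate pair (x Q x⁻¹, conjugate of f) again lies below (P, e) and C_P(x Q x⁻¹) is a defect group of the conjugate of f in C_G(x Q x⁻¹). -/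
theorem result {G : Type*} [Group G] [Fintype G] (p : ℕ) [Fact p.Prime] (M : Ideal Cfsg.AlgInt) (hM : Cfsg.IsPModular p M) (B : Set (Cfsg.IrrCharacter G)) (P Q : Subgroup G) (e : Set (Cfsg.IrrCharacter (Subgroup.centralizer (P : Set G)))) (f : Set (Cfsg.IrrCharacter (Subgroup.centralizer (Q : Set G)))) (hmax : Cfsg.IsMaximalBrauerPair p M B P e) (hQP : Q ≤ P) (hf : Cfsg.IsPBlock M f) (hle : Cfsg.SubpairLE p M Q f P e) : (∃ D : Subgroup (Subgroup.centralizer (Q : Set G)), Cfsg.IsDefectGroup p M f D ∧ (P ⊓ Subgroup.centralizer (Q : Set G)).subgroupOf (Subgroup.centralizer (Q : Set G)) ≤ D) ∧ ∃ x : G, Cfsg.SubpairLE p M (Q.map (MulAut.conj x).toMonoidHom) (Cfsg.conjBlock Q x f) P e ∧ Cfsg.IsDefectGroup p M (Cfsg.conjBlock Q x f) ((P ⊓ Subgroup.centralizer ((Q.map (MulAut.conj x).toMonoidHom) : Set G)).subgroupOf (Subgroup.centralizer ((Q.map (MulAut.conj x).toMonoidHom) : Set G))) := by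
  classical
  have : Fintype (Subgroup.centralizer (Q : Set G)) := Fintype.ofFinite _
  have : Finite (IrrCharacter (Subgroup.centralizer (Q : Set G))) := irr_finite
  have : Fintype (IrrCharacter (Subgroup.centralizer (Q : Set G))) := Fintype.ofFinite _
  have hst : ConjInv (Subgroup.centralizer (Q : Set G))
      (subgroupBlockCoeff (Subgroup.centralizer (Q : Set G)) f) := sbc_conjInv_self _ f
  have hFc : ∀ h : Subgroup.centralizer (Q : Set G),
      blockCoeff f h = subgroupBlockCoeff (Subgroup.centralizer (Q : Set G)) f h :=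
    fun h => (sbc_of_mem _ f h.2).symm
  refine ⟨exists_defectGroup_ge hM hmax.1.1 hle hf le_rfl hst hf hFc, ?_⟩
  obtain ⟨x, hlex, hall⟩ := exists_conj_isDefectGroup hM hmax hle hf le_rfl
    (Subgroup.centralizer_le_normalizer _) hst hf hFc
  refine ⟨x, hlex, ?_⟩
  have : Fintype (Subgroup.centralizer ((Q.map (MulAut.conj x).toMonoidHom : Subgroup G) : Set G)) :=
    Fintype.ofFinite _
  have : Finite (IrrCharacter (Subgroup.centralizer
      ((Q.map (MulAut.conj x).toMonoidHom : Subgroup G) : Set G))) := irr_finite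
  have : Fintype (IrrCharacter (Subgroup.centralizer
      ((Q.map (MulAut.conj x).toMonoidHom : Subgroup G) : Set G))) := Fintype.ofFinite _
  exact hall _ (fun y => mem_centralizer_cj_iff) (conjBlock Q x f) (isPBlock_conjBlock x Q hf)
    (fun t => (sbc_of_mem _ _ t.2).symm)

end Cfsg.Agent.S4661
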