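import Cfsg.Statements.S4664
import Cfsg.Agent.Lib.Helper82.WeakOrth
import Cfsg.Agent.Lib.Helper04.CharValues
import Cfsg.Agent.Lib.Helper83.Decompose

set_option autoImplicit false
open Cfsg

namespace Cfsg.Agent.S4664

open Cfsg.Agent.Lib.Helper82 Cfsg.Agent.Lib.Helper83
open scoped ComplexConjugate

/-- a character value at an element of order dividing `m` lies in the `m`-th cyclotomic field -/
theorem character_mem_adjoin {G : Type*} [Group G] [Finite G] {χ : G → ℂ} (hχ : IsCharacter G χ)
    (x : G) (m : ℕ) (hm : m ≠ 0) (hx : x ^ m = 1) (η : ℂ) (hη : IsPrimitiveRoot η m) :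
    χ x ∈ IntermediateField.adjoin ℚ ({η} : Set ℂ) := by
  obtain ⟨n, ρ, rfl⟩ := hχ
  have hpow : (ρ x) ^ m = 1 := by rw [← map_pow, hx, map_one]
  have h1 : ρ.character x = ∑ μ ∈ Cfsg.Agent.Lib.Helper04.eigFinset (ρ x),
      μ * (Module.finrank ℂ (Module.End.eigenspace (ρ x) μ) : ℂ) :=
    Cfsg.Agent.Lib.Helper04.trace_eq_sum_eig (ρ x) m hm hpow
  rw [h1]
  apply sum_mem
  intro μ hμ
  apply mul_mem
  · have hμm : μ ^ m = 1 := Cfsg.Agent.Lib.Helper04.eig_pow_eq_one (ρ x) m hpow hμ
    haveI : NeZero m := ⟨hm⟩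
    obtain ⟨i, _, rfl⟩ := hη.eq_pow_of_pow_eq_one hμm
    exact pow_mem (IntermediateField.subset_adjoin ℚ _ (Set.mem_singleton η)) i
  · exact natCast_mem _ _

/-- Fix a prime p and a maximal ideal M of the algebraic integers containing p, and let B be a p-block of the finite group G. Let m be the p'-part of the order of G and η = exp(2πi/m). Then every coefficient of the idempotent of B lies in the cyclotomic field ℚ(η). -/
theorem result {G : Type*} [Group G] [Fintype G] (p : ℕ) [Fact p.Prime] (M : Ideal Cfsg.AlgInt) (hM : Cfsg.IsPModular p M) (B : Set (Cfsg.IrrCharacter G)) (hB : Cfsg.IsPBlock M B) (g : G) : Cfsg.blockCoeff B g ∈ IntermediateField.adjoin ℚ ({Complex.exp (2 * Real.pi * Complex.I / ((Nat.card G / p ^ (Nat.card G).factorization p : ℕ) : ℂ))} : Set ℂ) := by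
  classical
  haveI : Finite (IrrCharacter G) := irr_finite
  haveI : Fintype (IrrCharacter G) := Fintype.ofFinite _
  have hp : p.Prime := Fact.out
  obtain ⟨χ₀, rfl⟩ := hB
  set m : ℕ := Nat.card G / p ^ (Nat.card G).factorization p with hm
  have hcard : p ^ (Nat.card G).factorization p * m = Nat.card G :=
    Nat.ordProj_mul_ordCompl_eq_self (Nat.card G) p
  have hm0 : m ≠ 0 := by
    intro h0
    rw [h0, mul_zero] at hcard
    exact Nat.card_pos.ne' hcard.symm
  set η : ℂ := Complex.exp (2 * Real.pi * Complex.I / (m : ℂ)) with hη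
  have hprim : IsPrimitiveRoot η m := Complex.isPrimitiveRoot_exp m hm0
  by_cases hg : p ∣ orderOf g
  · rw [blockCoeff_eq_zero_of_singular hM χ₀ g hg]
    exact zero_mem _
  · -- g^m = 1
    have hgm : g ^ m = 1 := by
      rw [← orderOf_dvd_iff_pow_eq_one]
      have h1 : orderOf g ∣ p ^ (Nat.card G).factorization p * m := by
        rw [hcard]; exact orderOf_dvd_natCard g
      exact (Nat.Coprime.dvd_of_dvd_mul_left
        (Nat.Coprime.pow_right _ ((Nat.Prime.coprime_iff_not_dvd hp).mpr hg).symm) h1)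
    have hginv : g⁻¹ ^ m = 1 := by rw [inv_pow, hgm, inv_one]
    rw [Cfsg.Agent.Lib.Helper21.blockCoeff_eq_sum]
    apply mul_mem
    · exact inv_mem (natCast_mem _ _)
    · apply sum_mem
      intro χ _
      split_ifs
      · apply mul_mem
        · have := character_mem_adjoin (IrrCharacter_isCharacter χ) 1 m hm0 (one_pow m) η hprim
          exact this
        · rw [← char_inv (IrrCharacter_isCharacter χ) g]
          exact character_mem_adjoin (IrrCharacter_isCharacter χ) g⁻¹ m hm0 hginv η hprim
      · exact zero_mem _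

end Cfsg.Agent.S4664
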