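import Cfsg.Statements.S4665
import Cfsg.Agent.Lib.Helper34.GenChar

set_option autoImplicit false
open Cfsg

namespace Cfsg.Agent.S4665

open scoped ComplexConjugate

/-- Fix a prime p, a maximal ideal M of the algebraic integers containing p, and a p-block B of the finite group G, and let p^a be the p-part of the order of G. Let χ be an integer combination of the irreducible characters in B. If the function that agrees with χ on p-regular elements and vanishes on p-singular elements is again an integer combination of the irreducible characters in B, then p^a divides χ(1). -/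
theorem result {G : Type*} [Group G] [Fintype G] (p : ℕ) [Fact p.Prime] (M : Ideal Cfsg.AlgInt) (hM : Cfsg.IsPModular p M) (B : Set (Cfsg.IrrCharacter G)) (hB : Cfsg.IsPBlock M B) (χ : G → ℂ) (hχ : (∃ n : Cfsg.IrrCharacter G → ℤ, ∀ g : G, χ g = ∑ᶠ ψ ∈ B, (n ψ : ℂ) * (ψ : G → ℂ) g)) (h0 : (∃ n : Cfsg.IrrCharacter G → ℤ, ∀ g : G, Cfsg.pRegularPart p χ g = ∑ᶠ ψ ∈ B, (n ψ : ℂ) * (ψ : G → ℂ) g)) : ∃ k : ℤ, χ 1 = (p ^ (Nat.card G).factorization p : ℂ) * k := by
  classical
  have hp : Fact p.Prime := inferInstance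
  obtain ⟨n, hn⟩ := h0
  letI : Fintype (IrrCharacter G) := Fintype.ofFinite _
  set θ : G → ℂ := pRegularPart p χ with hθ
  -- θ is an integer combination of all irreducible characters
  let z : IrrCharacter G → ℤ := fun ψ => if ψ ∈ B then n ψ else 0
  have hθz : θ = ∑ ψ : IrrCharacter G, (z ψ : ℂ) • (ψ : G → ℂ) := by
    funext g
    rw [hn g, finsum_mem_def, finsum_eq_sum_of_fintype, Finset.sum_apply]
    apply Finset.sum_congr rfl
    intro ψ _
    by_cases hψ : ψ ∈ B
    · simp [z, hψ, Set.indicator_of_mem]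
    · simp [z, hψ, Set.indicator_of_notMem]
  have hθg : IsGeneralizedCharacter G θ := by
    rw [hθz]; exact Cfsg.Agent.Lib.Helper34.int_combo_isGeneralizedCharacter z
  obtain ⟨P⟩ : Nonempty (Sylow p G) := inferInstance
  letI : Fintype (P : Subgroup G) := Fintype.ofFinite _
  have hθP : IsGeneralizedCharacter (P : Subgroup G) (fun x : (P : Subgroup G) => θ x) :=
    Cfsg.Agent.Lib.Helper34.isGeneralizedCharacter_restrict (P : Subgroup G) hθg
  have h1P : IsGeneralizedCharacter (P : Subgroup G) (fun _ : (P : Subgroup G) => (1 : ℂ)) :=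
    Cfsg.Agent.Lib.Helper34.IsCharacter.isGeneralizedCharacter Cfsg.Agent.Lib.Helper83.isCharacter_one
  obtain ⟨k, hk⟩ := Cfsg.Agent.Lib.Helper34.classInner_genChar_int hθP h1P
  refine ⟨k, ?_⟩
  -- compute the inner product
  have hsum : ∑ x : (P : Subgroup G), θ x * conj (1 : ℂ) = θ 1 := by
    rw [Finset.sum_eq_single (1 : (P : Subgroup G))]
    · simp
    · intro x _ hx1
      have hxne : (x : G) ≠ 1 := fun h => hx1 (Subtype.ext h)
      obtain ⟨j, hj⟩ := P.2 x
      have hj' : (x : G) ^ p ^ j = 1 := by simpa using congrArg Subtype.val hj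
      obtain ⟨i, -, hi⟩ := (Nat.dvd_prime_pow hp.out).mp (orderOf_dvd_of_pow_eq_one hj')
      have hi0 : i ≠ 0 := by
        rintro rfl
        rw [pow_zero, orderOf_eq_one_iff] at hi
        exact hxne hi
      have hdvd : p ∣ orderOf (x : G) := by rw [hi]; exact dvd_pow_self p hi0
      have : θ x = 0 := by
        simp only [hθ, pRegularPart]
        exact if_neg (fun h : IsPRegular p (x : G) => h hdvd)
      rw [this, zero_mul]
    · intro h; exact absurd (Finset.mem_univ _) h
  have hθ1 : θ 1 = χ 1 := by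
    simp only [hθ, pRegularPart]
    refine if_pos (?_ : IsPRegular p (1 : G))
    unfold IsPRegular
    rw [orderOf_one]
    exact fun h => hp.out.one_lt.ne' (Nat.dvd_one.mp h)
  have hcard : Nat.card (P : Subgroup G) = p ^ (Nat.card G).factorization p := P.card_eq_multiplicity
  unfold classInner at hk
  rw [hsum, hθ1, hcard] at hk
  have hne : ((p ^ (Nat.card G).factorization p : ℕ) : ℂ) ≠ 0 := by
    exact_mod_cast (pow_pos hp.out.pos _).ne'
  have h9 : ((p ^ (Nat.card G).factorization p : ℕ) : ℂ) *
      ((((p ^ (Nat.card G).factorization p : ℕ) : ℂ))⁻¹ * χ 1) =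
      ((p ^ (Nat.card G).factorization p : ℕ) : ℂ) * (k : ℂ) := by rw [hk]
  rw [← mul_assoc, mul_inv_cancel₀ hne, one_mul] at h9
  rw [h9]; push_cast; ring

end Cfsg.Agent.S4665
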