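import Cfsg.Statements.S4666
import Cfsg.Agent.Lib.Helper79.RegSpan

set_option autoImplicit false
open Cfsg

namespace Cfsg.Agent.S4666

/-- Fix a prime p and a maximal ideal M of the algebraic integers containing p, and a p-block B of the finite group G of defect d. For every integer combination χ of the irreducible characters in B, p^d times the function that agrees with χ on p-regular elements and vanishes elsewhere is again an integer combination of the irreducible characters in B. -/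
theorem result {G : Type*} [Group G] [Fintype G] (p : ℕ) [Fact p.Prime] (M : Ideal Cfsg.AlgInt) (hM : Cfsg.IsPModular p M) (B : Set (Cfsg.IrrCharacter G)) (hB : Cfsg.IsPBlock M B) (χ : G → ℂ) (hχ : (∃ n : Cfsg.IrrCharacter G → ℤ, ∀ g : G, χ g = ∑ᶠ ψ ∈ B, (n ψ : ℂ) * (ψ : G → ℂ) g)) : (∃ n : Cfsg.IrrCharacter G → ℤ, ∀ g : G, (p ^ Cfsg.blockDefect p B : ℂ) * Cfsg.pRegularPart p χ g = ∑ᶠ ψ ∈ B, (n ψ : ℂ) * (ψ : G → ℂ) g) := by
  classical
  haveI : Finite (IrrCharacter G) := Cfsg.Agent.Lib.Helper83.irr_finite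
  haveI : Fintype (IrrCharacter G) := Fintype.ofFinite _
  have hMp : M.IsPrime := hM.2.1.isPrime
  obtain ⟨n, hn⟩ := hχ
  have key : ∀ ψ ∈ B, ∀ ξ : IrrCharacter G, ∃ m : ℤ, (p : ℂ) ^ blockDefect p B *
      classInner (pRegularPart p (ψ : G → ℂ)) (ξ : G → ℂ) = (m : ℂ) :=
    fun ψ hψ ξ => Cfsg.Agent.Lib.Helper79.pow_defect_mul_classInner_pRegularPart_int hM hB ψ ξ hψ
  choose! m hm using key
  refine ⟨fun ξ => ∑ ψ : IrrCharacter G, if ψ ∈ B then n ψ * m ψ ξ else 0, fun g => ?_⟩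
  rw [Cfsg.Agent.Lib.Helper21.finsum_mem_eq_sum_ite]
  have h1 : pRegularPart p χ g =
      ∑ ψ : IrrCharacter G, if ψ ∈ B then (n ψ : ℂ) * pRegularPart p (ψ : G → ℂ) g else 0 := by
    by_cases hg : p ∣ orderOf g
    · rw [Cfsg.Agent.Lib.Helper82.pRegularPart_of_singular _ hg]
      symm
      apply Finset.sum_eq_zero
      intro ψ _
      rw [Cfsg.Agent.Lib.Helper82.pRegularPart_of_singular _ hg]
      simp
    · rw [Cfsg.Agent.Lib.Helper82.pRegularPart_of_regular _ hg, hn g,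
        Cfsg.Agent.Lib.Helper21.finsum_mem_eq_sum_ite]
      refine Finset.sum_congr rfl fun ψ _ => ?_
      rw [Cfsg.Agent.Lib.Helper82.pRegularPart_of_regular _ hg]
  have h2 : ∀ ψ ∈ B, (p : ℂ) ^ blockDefect p B * pRegularPart p (ψ : G → ℂ) g =
      ∑ ξ : IrrCharacter G, if ξ ∈ B then (m ψ ξ : ℂ) * (ξ : G → ℂ) g else 0 := by
    intro ψ hψ
    have h3 := congrFun (Cfsg.Agent.Lib.Helper82.pRegularPart_eq_sum_irr (p := p) ψ) g
    rw [h3, Finset.sum_apply, Finset.mul_sum]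
    refine Finset.sum_congr rfl fun ξ _ => ?_
    rw [Pi.smul_apply, smul_eq_mul, ← mul_assoc]
    split_ifs with hξ
    · rw [hm ψ hψ ξ]
    · have hBψ : B = blockOf M (ψ : G → ℂ) := Cfsg.Agent.Lib.Helper82.IsPBlock.eq_blockOf hMp hB hψ
      have h4 : classInner (pRegularPart p (ψ : G → ℂ)) (ξ : G → ℂ) = 0 :=
        Cfsg.Agent.Lib.Helper82.classInner_pRegularPart_eq_zero hM ψ ξ (fun h => hξ (by
          rw [hBψ]; exact h))
      rw [h4]
      simp
  rw [h1, Finset.mul_sum]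
  have h5 : ∀ ψ : IrrCharacter G, (p : ℂ) ^ blockDefect p B *
      (if ψ ∈ B then (n ψ : ℂ) * pRegularPart p (ψ : G → ℂ) g else 0) =
      ∑ ξ : IrrCharacter G, if ξ ∈ B then
        ((if ψ ∈ B then n ψ * m ψ ξ else 0 : ℤ) : ℂ) * (ξ : G → ℂ) g else 0 := by
    intro ψ
    by_cases hψ : ψ ∈ B
    · rw [if_pos hψ, mul_left_comm, h2 ψ hψ, Finset.mul_sum]
      refine Finset.sum_congr rfl fun ξ _ => ?_
      rw [if_pos hψ]
      split_ifs
      · push_cast; ring
      · simp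
    · rw [if_neg hψ, mul_zero]
      symm
      apply Finset.sum_eq_zero
      intro ξ _
      rw [if_neg hψ]
      simp
  rw [Finset.sum_congr rfl fun ψ _ => h5 ψ, Finset.sum_comm]
  refine Finset.sum_congr rfl fun ξ _ => ?_
  split_ifs with hξ
  · rw [← Finset.sum_mul]
    push_cast
    rfl
  · simp


end Cfsg.Agent.S4666
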