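import Cfsg.Statements.S4667
import Cfsg.Agent.Lib.Helper82.WeakOrth
import Cfsg.Agent.Lib.Helper83.Decompose

set_option autoImplicit false
open Cfsg

namespace Cfsg.Agent.S4667

open Cfsg.Agent.Lib.Helper82 Cfsg.Agent.Lib.Helper83 Cfsg.Agent.Lib.Helper21
open scoped ComplexConjugate

universe u
variable {G : Type u} [Group G] [Fintype G]

theorem pRegularPart_apply (p : ℕ) (χ : G → ℂ) (g : G) [Decidable (IsPRegular p g)] :
    pRegularPart p χ g = if IsPRegular p g then χ g else 0 := by
  unfold pRegularPart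
  congr

theorem pRegularPart_of_regular (p : ℕ) (χ : G → ℂ) (g : G) (h : ¬ p ∣ orderOf g) :
    pRegularPart p χ g = χ g := by
  classical
  rw [pRegularPart_apply, if_pos (show IsPRegular p g from h)]

theorem pRegularPart_of_singular (p : ℕ) (χ : G → ℂ) (g : G) (h : p ∣ orderOf g) :
    pRegularPart p χ g = 0 := by
  classical
  rw [pRegularPart_apply, if_neg (show ¬ IsPRegular p g from not_not.mpr h)]

/-- the coefficient functional -/
noncomputable def coef (p : ℕ) (χ : IrrCharacter G) (φ : G → ℂ) : ℂ :=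
  (Nat.card G : ℂ)⁻¹ * ∑ y : G, φ y * conj (pRegularPart p (χ : G → ℂ) y)

theorem coef_add (p : ℕ) (χ : IrrCharacter G) (φ ψ : G → ℂ) :
    coef p χ (φ + ψ) = coef p χ φ + coef p χ ψ := by
  simp only [coef, Pi.add_apply, add_mul, Finset.sum_add_distrib, mul_add]

theorem coef_smul (p : ℕ) (χ : IrrCharacter G) (c : ℂ) (φ : G → ℂ) :
    coef p χ (c • φ) = c * coef p χ φ := by
  simp only [coef, Pi.smul_apply, smul_eq_mul, mul_assoc, ← Finset.mul_sum]
  ring

variable [Fintype (IrrCharacter G)]

/-- the projection onto the span of the `p`-regular parts of the characters in `B` -/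
noncomputable def projT (p : ℕ) (B : Set (IrrCharacter G)) [DecidablePred (· ∈ B)] :
    (G → ℂ) →ₗ[ℂ] (G → ℂ) where
  toFun φ := fun x => ∑ χ : IrrCharacter G,
    (if χ ∈ B then (1 : ℂ) else 0) * coef p χ φ * pRegularPart p (χ : G → ℂ) x
  map_add' := by
    intro φ ψ
    ext x
    simp only [coef_add, Pi.add_apply, mul_add, add_mul, Finset.sum_add_distrib]
  map_smul' := by
    intro c φ
    ext x
    simp only [coef_smul, Pi.smul_apply, smul_eq_mul, RingHom.id_apply, Finset.mul_sum]
    apply Finset.sum_congr rfl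
    intro χ _
    ring

theorem projT_apply (p : ℕ) (B : Set (IrrCharacter G)) [DecidablePred (· ∈ B)] (φ : G → ℂ) (x : G) :
    projT p B φ x = ∑ χ : IrrCharacter G,
      (if χ ∈ B then (1 : ℂ) else 0) * coef p χ φ * pRegularPart p (χ : G → ℂ) x := rfl

theorem projT_mem (p : ℕ) (B : Set (IrrCharacter G)) [DecidablePred (· ∈ B)] (φ : G → ℂ) :
    projT p B φ ∈ Submodule.span ℂ ((fun χ : IrrCharacter G => pRegularPart p (χ : G → ℂ)) '' B) := by
  have : projT p B φ = ∑ χ : IrrCharacter G,
      ((if χ ∈ B then (1 : ℂ) else 0) * coef p χ φ) • pRegularPart p (χ : G → ℂ) := by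
    ext x
    rw [projT_apply, Finset.sum_apply]
    rfl
  rw [this]
  apply Submodule.sum_mem
  intro χ _
  by_cases hχ : χ ∈ B
  · exact Submodule.smul_mem _ _ (Submodule.subset_span ⟨χ, hχ, rfl⟩)
  · simp [hχ]

theorem projT_fix {p : ℕ} [Fact p.Prime] {M : Ideal AlgInt} (hM : IsPModular p M) (χ₀ : IrrCharacter G)
    [DecidablePred (· ∈ blockOf M (χ₀ : G → ℂ))]
    (ψ : IrrCharacter G) (hψ : ψ ∈ blockOf M (χ₀ : G → ℂ)) :
    projT p (blockOf M (χ₀ : G → ℂ)) (pRegularPart p (ψ : G → ℂ)) = pRegularPart p (ψ : G → ℂ) := by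
  generalize hB : blockOf M (χ₀ : G → ℂ) = B at *
  ext x
  rw [projT_apply]
  by_cases hx : p ∣ orderOf x
  · rw [pRegularPart_of_singular p _ x hx]
    apply Finset.sum_eq_zero
    intro χ _
    rw [pRegularPart_of_singular p _ x hx, mul_zero]
  · rw [pRegularPart_of_regular p _ x hx]
    have hW : ∀ y : G, p ∣ orderOf y →
        ∑ χ : IrrCharacter G, (if χ ∈ B then (χ : G → ℂ) x * conj ((χ : G → ℂ) y) else 0) = 0 := by
      intro y hy
      rw [← finsum_mem_eq_sum_ite, ← hB]
      exact weak_block_orthogonality hM χ₀ x y hx hy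
    -- rewrite each summand
    have h1 : ∀ χ : IrrCharacter G,
        (if χ ∈ B then (1 : ℂ) else 0) * coef p χ (pRegularPart p (ψ : G → ℂ)) *
          pRegularPart p (χ : G → ℂ) x
        = (Nat.card G : ℂ)⁻¹ * ∑ y : G, (if ¬ p ∣ orderOf y then (1 : ℂ) else 0) *
          ((ψ : G → ℂ) y * (if χ ∈ B then (χ : G → ℂ) x * conj ((χ : G → ℂ) y) else 0)) := by
      intro χ
      rw [pRegularPart_of_regular p _ x hx, coef, Finset.mul_sum, Finset.mul_sum, Finset.sum_mul,
        Finset.mul_sum]
      apply Finset.sum_congr rfl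
      intro y _
      by_cases hy : p ∣ orderOf y
      · rw [pRegularPart_of_singular p _ y hy]
        simp [hy]
      · rw [pRegularPart_of_regular p _ y hy, pRegularPart_of_regular p _ y hy]
        by_cases hχ : χ ∈ B
        · simp only [hχ, hy, if_true, not_false_eq_true]; ring
        · simp [hχ]
    rw [Finset.sum_congr rfl (fun χ _ => h1 χ), ← Finset.mul_sum, Finset.sum_comm]
    have h2 : ∀ y : G, ∑ χ : IrrCharacter G, (if ¬ p ∣ orderOf y then (1 : ℂ) else 0) *
          ((ψ : G → ℂ) y * (if χ ∈ B then (χ : G → ℂ) x * conj ((χ : G → ℂ) y) else 0))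
        = ∑ χ : IrrCharacter G,
          ((ψ : G → ℂ) y * (if χ ∈ B then (χ : G → ℂ) x * conj ((χ : G → ℂ) y) else 0)) := by
      intro y
      by_cases hy : p ∣ orderOf y
      · rw [← Finset.mul_sum, ← Finset.mul_sum, hW y hy]
        simp
      · simp [hy]
    rw [Finset.sum_congr rfl (fun y _ => h2 y), Finset.sum_comm, Finset.mul_sum]
    have h3 : ∀ χ : IrrCharacter G, (Nat.card G : ℂ)⁻¹ * ∑ y : G,
          ((ψ : G → ℂ) y * (if χ ∈ B then (χ : G → ℂ) x * conj ((χ : G → ℂ) y) else 0))
        = if χ ∈ B then (χ : G → ℂ) x * (if ψ = χ then 1 else 0) else 0 := by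
      intro χ
      by_cases hχ : χ ∈ B
      · simp only [hχ, if_true]
        rw [← irr_orthonormal ψ χ, classInner_def, Finset.mul_sum, Finset.mul_sum, Finset.mul_sum]
        apply Finset.sum_congr rfl
        intro y _
        ring
      · simp [hχ]
    rw [Finset.sum_congr rfl (fun χ _ => h3 χ), Finset.sum_eq_single ψ]
    · simp [hψ]
    · intro χ _ hne
      by_cases hχ : χ ∈ B
      · simp [hχ, hne.symm]
      · simp [hχ]
    · intro h; exact absurd (Finset.mem_univ _) h

/-- Fix a prime p and a maximal ideal M of the algebraic integers containing p, and a p-block B of the finite group G. The p-regular rank of B (the number of irreducible Brauer characters in B) times the order of G equals the sum over the p-regular elements x of G of Σ_{χ ∈ B} χ(x) χ(x⁻¹) (written with the restriction of χ to p-regular elements, which vanishes at p-singular x). -/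
theorem result {G : Type*} [Group G] [Fintype G] (p : ℕ) [Fact p.Prime] (M : Ideal Cfsg.AlgInt) (hM : Cfsg.IsPModular p M) (B : Set (Cfsg.IrrCharacter G)) (hB : Cfsg.IsPBlock M B) : (Nat.card G : ℂ) * (Cfsg.blockRank p B : ℂ) = ∑ x : G, ∑ᶠ χ ∈ B, Cfsg.pRegularPart p (χ : G → ℂ) x * (χ : G → ℂ) x⁻¹ := by
  classical
  haveI : Finite (IrrCharacter G) := irr_finite
  haveI : Fintype (IrrCharacter G) := Fintype.ofFinite _
  obtain ⟨χ₀, rfl⟩ := hB
  set B := blockOf M (χ₀ : G → ℂ) with hBdef
  set V := Submodule.span ℂ ((fun χ : IrrCharacter G => pRegularPart p (χ : G → ℂ)) '' B) with hV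
  have hproj : LinearMap.IsProj V (projT p B) := by
    refine ⟨fun φ => projT_mem p B φ, fun φ hφ => ?_⟩
    induction hφ using Submodule.span_induction with
    | mem φ h =>
      obtain ⟨ψ, hψ, rfl⟩ := h
      exact projT_fix hM χ₀ ψ hψ
    | zero => exact map_zero _
    | add φ ψ _ _ h1 h2 => rw [map_add, h1, h2]
    | smul c φ _ h1 => rw [map_smul, h1]
  have htr := hproj.trace
  have hrank : (blockRank p B : ℂ) = LinearMap.trace ℂ (G → ℂ) (projT p B) := by
    rw [htr]; rfl
  rw [hrank, LinearMap.trace_eq_matrix_trace ℂ (Pi.basisFun ℂ G), Matrix.trace, Finset.mul_sum]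
  apply Finset.sum_congr rfl
  intro x _
  rw [Matrix.diag_apply, LinearMap.toMatrix_apply, Pi.basisFun_repr, Pi.basisFun_apply, projT_apply,
    finsum_mem_eq_sum_ite, Finset.mul_sum]
  apply Finset.sum_congr rfl
  intro χ _
  by_cases hχ : χ ∈ B
  · simp only [hχ, if_true, one_mul, coef]
    have hcard : (Nat.card G : ℂ) ≠ 0 := card_ne_zero_complex
    have hsum : ∑ y : G, (Pi.single x (1 : ℂ) : G → ℂ) y * conj (pRegularPart p (χ : G → ℂ) y)
        = conj (pRegularPart p (χ : G → ℂ) x) := by
      rw [Finset.sum_eq_single x]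
      · simp
      · intro y _ hy; simp [Pi.single_apply, hy]
      · intro h; exact absurd (Finset.mem_univ _) h
    rw [hsum]
    by_cases hx : p ∣ orderOf x
    · rw [pRegularPart_of_singular p _ x hx]; simp
    · rw [pRegularPart_of_regular p _ x hx, char_inv (IrrCharacter_isCharacter χ) x]
      field_simp
  · simp [hχ]

end Cfsg.Agent.S4667
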