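import Cfsg.Statements.S4668
import Cfsg.Agent.S4653
import Cfsg.Agent.Lib.Helper82.WeakOrth
import Cfsg.Agent.Lib.Helper28.AxB

set_option autoImplicit false
open Cfsg

namespace Cfsg.Agent.S4668

open Cfsg.Agent.Lib.Helper82 Cfsg.Agent.Lib.Helper28

/-- a `p'`-element normalizing a chain of `p`-subgroups and centralizing the normalizer of the
chain in its last term centralizes the last term -/
theorem mem_centralizer_last {G : Type*} [Group G] [Finite G] (p : ℕ) [Fact p.Prime] (m : ℕ)
    (Q : Fin (m + 1) → Subgroup G) (hQ : Monotone Q) (hQp : ∀ i, IsPGroup p (Q i))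
    (a : G) (ha : ¬ p ∣ orderOf a) (haN : ∀ i, a ∈ Subgroup.normalizer (Q i : Set G))
    (hR : ∀ x ∈ Q (Fin.last m), (∀ i, x ∈ Subgroup.normalizer (Q i : Set G)) → x * a = a * x) :
    ∀ i : Fin (m + 1), a ∈ Subgroup.centralizer (Q i : Set G) := by
  have hp : p.Prime := Fact.out
  set L := Subgroup.zpowers a with hL
  have hLc : PClosing p L := by
    apply pClosing_of_coprime
    intro x hx
    have h1 : orderOf x ∣ orderOf a := orderOf_dvd_of_mem_zpowers hx
    exact Nat.Coprime.coprime_dvd_left h1 ((Nat.Prime.coprime_iff_not_dvd hp).mpr ha).symm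
  intro i
  induction i using Fin.induction with
  | zero =>
    rw [Subgroup.mem_centralizer_iff]
    intro x hx
    apply hR x (hQ (Fin.zero_le _) hx)
    intro j
    exact Subgroup.le_normalizer (hQ (Fin.zero_le j) hx)
  | succ i ih =>
    have hLP : ⁅L, Q i.castSucc⁆ = ⊥ := by
      rw [Subgroup.commutator_eq_bot_iff_le_centralizer, hL, Subgroup.zpowers_le]
      exact ih
    have hLC : ⁅L, Q i.succ ⊓ Subgroup.centralizer (Q i.castSucc : Set G)⁆ = ⊥ := by
      rw [Subgroup.commutator_eq_bot_iff_le_centralizer, hL, Subgroup.zpowers_le,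
        Subgroup.mem_centralizer_iff]
      intro x hx
      have hx1 : x ∈ Q i.succ := hx.1
      have hx2 : x ∈ Subgroup.centralizer (Q i.castSucc : Set G) := hx.2
      apply hR x (hQ (Fin.le_last _) hx1)
      intro j
      by_cases hj : i.succ ≤ j
      · exact Subgroup.le_normalizer (hQ hj hx1)
      · have hj' : j ≤ i.castSucc := by
          rw [Fin.le_def] at hj ⊢
          simp only [Fin.val_succ, Fin.val_castSucc] at hj ⊢
          omega
        apply Subgroup.centralizer_le_normalizer
        exact Subgroup.centralizer_le (hQ hj') hx2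
    have := pClosing_centralizes_pgroup L (Q i.succ) (Q i.castSucc) (hQp _) hLc
      (by rw [hL, Subgroup.zpowers_le]; exact haN _) (hQ (Fin.castSucc_le_succ i)) hLP hLC
    rw [Subgroup.commutator_eq_bot_iff_le_centralizer, hL, Subgroup.zpowers_le] at this
    exact this

/-- Fix a prime p and a maximal ideal M of the algebraic integers containing p. Let Q₀ < Q₁ < ⋯ < Q_m be a strictly increasing chain of p-subgroups of the finite group G and N the intersection of their normalizers. Then every block idempotent of N is supported on C_G(Q_m): for every p-block E of N, the idempotent coefficient of E vanishes at every element of N outside C_G(Q_m). -/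
theorem result {G : Type*} [Group G] [Fintype G] (p : ℕ) [Fact p.Prime] (M : Ideal Cfsg.AlgInt) (hM : Cfsg.IsPModular p M) (m : ℕ) (Q : Fin (m + 1) → Subgroup G) (hQ : StrictMono Q) (hQp : ∀ i, IsPGroup p (Q i)) (N : Subgroup G) (hN : ∀ g : G, g ∈ N ↔ ∀ i, g ∈ Subgroup.normalizer (Q i : Set G)) (E : Set (Cfsg.IrrCharacter N)) (hE : Cfsg.IsPBlock M E) (n : N) (hn : (n : G) ∉ Subgroup.centralizer (Q (Fin.last m) : Set G)) : Cfsg.blockCoeff E n = 0 := by
  classical
  haveI : Fintype N := Fintype.ofFinite N
  by_cases hsing : p ∣ orderOf n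
  · obtain ⟨χ₀, rfl⟩ := hE
    exact blockCoeff_eq_zero_of_singular hM χ₀ n hsing
  · set R' : Subgroup N := (Q (Fin.last m)).subgroupOf N with hR'
    haveI hR'n : R'.Normal := by
      constructor
      intro x hx g
      rw [hR', Subgroup.mem_subgroupOf] at hx ⊢
      have hg := (hN g).mp g.2 (Fin.last m)
      rw [Subgroup.mem_normalizer_iff] at hg
      simpa using (hg x).mp hx
    have hR'p : IsPGroup p R' := (hQp (Fin.last m)).comap_subtype
    by_cases hc : n ∈ Subgroup.centralizer (R' : Set N)
    · exfalso
      apply hn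
      have hreg : ¬ p ∣ orderOf (n : G) := by
        rwa [Subgroup.orderOf_coe]
      refine mem_centralizer_last p m Q hQ.monotone hQp (n : G) hreg
        (fun i => (hN n).mp n.2 i) ?_ (Fin.last m)
      intro x hx hxN
      have hxN' : x ∈ N := (hN x).mpr hxN
      rw [Subgroup.mem_centralizer_iff] at hc
      have := hc ⟨x, hxN'⟩ (by rw [hR']; exact hx)
      exact congrArg Subtype.val this
    · exact Cfsg.Agent.S4653.result p M hM R' hR'p E hE n hc

end Cfsg.Agent.S4668
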