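import Cfsg.Statements.S4669
import Mathlib
import Cfsg.Agent.S0941
import Cfsg.Agent.S0914
import Cfsg.Agent.S0908
import Cfsg.Agent.Lib.Helper82.BlockRank
import Cfsg.Agent.Lib.Helper82.DefectRank
import Cfsg.Agent.Lib.Helper82.BlockBasic
import Cfsg.Agent.Lib.Helper83.Quotient

set_option autoImplicit false
open Cfsg

namespace Cfsg.Agent.S4669

/-- Fix a prime p and a maximal ideal M of the algebraic integers containing p. If the p-block B of the finite group G has a defect group P contained in the centre of G, then B has p-regular rank one (a single irreducible Brauer character). -/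
theorem result {G : Type*} [Group G] [Fintype G] (p : ℕ) [Fact p.Prime] (M : Ideal Cfsg.AlgInt) (hM : Cfsg.IsPModular p M) (B : Set (Cfsg.IrrCharacter G)) (hB : Cfsg.IsPBlock M B) (P : Subgroup G) (hD : Cfsg.IsDefectGroup p M B P) (hPZ : P ≤ Subgroup.center G) : Cfsg.blockRank p B = 1 := by
  classical
  have hpr : p.Prime := Fact.out
  have hMprime : M.IsPrime := hM.2.1.isPrime
  -- `P` is a central `p`-subgroup
  have hPp : IsPGroup p P := by
    obtain ⟨g, _, Q, hQ⟩ := hD
    rw [hQ]
    exact Q.isPGroup'.map _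
  have hPn : P.Normal := ⟨fun n hn g => by
    have h1 := Subgroup.mem_center_iff.1 (hPZ hn) g
    have : g * n * g⁻¹ = n := by rw [h1, mul_inv_cancel_right]
    rw [this]; exact hn⟩
  have hcent : Subgroup.centralizer (P : Set G) = ⊤ := by
    rw [eq_top_iff]
    intro g _
    rw [Subgroup.mem_centralizer_iff]
    intro h hh
    exact (Subgroup.mem_center_iff.1 (hPZ hh) g).symm
  obtain ⟨hdom1, hdom2⟩ := Cfsg.Agent.S0941.result p M hM P hPp ⟨0, by rw [hcent]; simp⟩
  obtain ⟨θ, θt, hθtB, hθt⟩ := hdom2 B hB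
  obtain ⟨χ₀, hB0⟩ := hB
  have hθt' : ∀ g : G, (θt : G → ℂ) g = (θ : G ⧸ P → ℂ) (QuotientGroup.mk g) := fun g => by
    rw [hθt]; rfl
  -- the defect of `B`
  have hcardP : Nat.card P = p ^ Cfsg.blockDefect p B :=
    Cfsg.Agent.S0908.result p M hM B ⟨χ₀, hB0⟩ P hD
  -- `θ` has defect zero in `G ⧸ P`
  have hdeg : Cfsg.charDegree (θt : G → ℂ) = Cfsg.charDegree (θ : G ⧸ P → ℂ) := by
    unfold Cfsg.charDegree
    rw [hθt' 1]; rfl
  have hsing : Cfsg.blockOf M (θ : G ⧸ P → ℂ) = {θ} := by
    rw [← Cfsg.Agent.S0914.result p M hM θ]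
    rw [← Cfsg.Agent.Lib.Helper82.factorization_le_iff_not_dvd hpr θ]
    have h1 : Nat.card G = Nat.card (G ⧸ P) * Nat.card P :=
      Subgroup.card_eq_card_quotient_mul_card_subgroup P
    have h2 : (Nat.card G).factorization p =
        (Nat.card (G ⧸ P)).factorization p + Cfsg.blockDefect p B := by
      rw [h1, Nat.factorization_mul Nat.card_pos.ne' Nat.card_pos.ne', hcardP]
      simp [hpr.factorization]
    have h3 : sInf ((fun χ : Cfsg.IrrCharacter G =>
        (Cfsg.charDegree (χ : G → ℂ)).factorization p) '' B) ≤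
        (Cfsg.charDegree (θt : G → ℂ)).factorization p :=
      Nat.sInf_le ⟨θt, hθtB, rfl⟩
    have h4 : Cfsg.blockDefect p B = (Nat.card G).factorization p -
        sInf ((fun χ : Cfsg.IrrCharacter G =>
          (Cfsg.charDegree (χ : G → ℂ)).factorization p) '' B) := rfl
    rw [← hdeg]
    omega
  -- a member of `B` with `P` in its kernel is `θt`
  have huniq : ∀ χ : Cfsg.IrrCharacter G, χ ∈ B →
      (∀ n ∈ P, (χ : G → ℂ) n = (χ : G → ℂ) 1) → χ = θt := by
    intro χ hχB hker
    let χb : Cfsg.IrrCharacter (G ⧸ P) := Cfsg.Agent.Lib.Helper83.irrDeflate P ⟨χ, hker⟩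
    have hχb : ∀ g : G, (χb : G ⧸ P → ℂ) (QuotientGroup.mk g) = (χ : G → ℂ) g :=
      Cfsg.Agent.Lib.Helper83.irrDeflate_apply P ⟨χ, hker⟩
    have hs1 : Cfsg.SameBlock M (χ₀ : G → ℂ) (χ : G → ℂ) := by
      rw [hB0] at hχB; exact hχB
    have hs2 : Cfsg.SameBlock M (χ₀ : G → ℂ) (θt : G → ℂ) := by
      rw [hB0] at hθtB; exact hθtB
    have hs3 : Cfsg.SameBlock M (θt : G → ℂ) (χ : G → ℂ) :=
      Cfsg.Agent.Lib.Helper82.sameBlock_trans hMprime
        (Cfsg.Agent.Lib.Helper82.sameBlock_symm hs2) hs1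
    have e1 : ((θ : G ⧸ P → ℂ) ∘ QuotientGroup.mk) = (θt : G → ℂ) := by
      funext g; exact (hθt' g).symm
    have e2 : ((χb : G ⧸ P → ℂ) ∘ QuotientGroup.mk) = (χ : G → ℂ) := by
      funext g; exact hχb g
    have hs4 : Cfsg.SameBlock M (θ : G ⧸ P → ℂ) (χb : G ⧸ P → ℂ) := by
      rw [hdom1 θ χb, e1, e2]; exact hs3
    have hmem : χb ∈ Cfsg.blockOf M (θ : G ⧸ P → ℂ) := hs4
    rw [hsing] at hmem
    have hχbθ : χb = θ := hmem
    apply Subtype.ext
    funext g
    rw [← hχb g, hχbθ, hθt' g]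
  -- regular parts are proportional to the regular part of `θt`
  let _ : Fintype (Cfsg.IrrCharacter G) := Fintype.ofFinite _
  let _ : Fintype P := Fintype.ofFinite _
  have key : ∀ ψ : Cfsg.IrrCharacter G, ψ ∈ B → ∃ c : ℂ,
      Cfsg.pRegularPart p (ψ : G → ℂ) = c • Cfsg.pRegularPart p (θt : G → ℂ) := by
    intro ψ hψB
    refine ⟨Cfsg.classInner (Cfsg.pRegularPart p (ψ : G → ℂ)) (θt : G → ℂ) *
      (Fintype.card P : ℂ), ?_⟩
    funext x
    rw [Pi.smul_apply, smul_eq_mul]
    by_cases hx : p ∣ orderOf x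
    · rw [Cfsg.Agent.Lib.Helper82.pRegularPart_of_singular _ hx,
        Cfsg.Agent.Lib.Helper82.pRegularPart_of_singular _ hx, mul_zero]
    rw [Cfsg.Agent.Lib.Helper82.pRegularPart_of_regular _ hx,
      Cfsg.Agent.Lib.Helper82.pRegularPart_of_regular _ hx]
    -- pointwise expansion
    have hexp : ∀ y : G, Cfsg.pRegularPart p (ψ : G → ℂ) y =
        ∑ χ : Cfsg.IrrCharacter G,
          Cfsg.classInner (Cfsg.pRegularPart p (ψ : G → ℂ)) (χ : G → ℂ) * (χ : G → ℂ) y := by
      intro y
      have h := congrFun (Cfsg.Agent.Lib.Helper82.pRegularPart_eq_sum_irr (p := p) ψ) y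
      rw [Finset.sum_apply] at h
      simpa only [Pi.smul_apply, smul_eq_mul] using h
    -- the sum over the coset `x P`
    have hS1 : ∑ z : P, Cfsg.pRegularPart p (ψ : G → ℂ) (x * z) = (ψ : G → ℂ) x := by
      rw [Finset.sum_eq_single (1 : P)]
      · rw [Subgroup.coe_one, mul_one, Cfsg.Agent.Lib.Helper82.pRegularPart_of_regular _ hx]
      · intro z _ hz
        apply Cfsg.Agent.Lib.Helper82.pRegularPart_of_singular
        have hcomm : Commute x (z : G) := (Subgroup.mem_center_iff.1 (hPZ z.2) x)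
        obtain ⟨k', hk'⟩ := hPp z
        have hdvd : orderOf z ∣ p ^ k' := orderOf_dvd_of_pow_eq_one hk'
        obtain ⟨k, _, hk⟩ := (Nat.dvd_prime_pow hpr).1 hdvd
        have hzo : orderOf (z : G) = p ^ k := by rw [← hk, Subgroup.orderOf_coe]
        have hk0 : k ≠ 0 := by
          rintro rfl
          rw [pow_zero, orderOf_eq_one_iff] at hzo
          exact hz (Subtype.ext hzo)
        have hcop : (orderOf x).Coprime (orderOf (z : G)) := by
          rw [hzo]
          exact Nat.Coprime.pow_right k ((Nat.Prime.coprime_iff_not_dvd hpr).2 hx).symm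
        rw [hcomm.orderOf_mul_eq_mul_orderOf_of_coprime hcop, hzo]
        exact Dvd.dvd.mul_left (dvd_pow_self p hk0) _
      · intro h; exact absurd (Finset.mem_univ _) h
    have hS2 : ∑ z : P, Cfsg.pRegularPart p (ψ : G → ℂ) (x * z) =
        Cfsg.classInner (Cfsg.pRegularPart p (ψ : G → ℂ)) (θt : G → ℂ) *
          (Fintype.card P : ℂ) * (θt : G → ℂ) x := by
      rw [Finset.sum_congr rfl (fun (z : P) _ => hexp (x * (z : G))), Finset.sum_comm]
      have hterm : ∀ χ : Cfsg.IrrCharacter G,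
          ∑ z : P, Cfsg.classInner (Cfsg.pRegularPart p (ψ : G → ℂ)) (χ : G → ℂ) *
            (χ : G → ℂ) (x * z) =
          if χ = θt then Cfsg.classInner (Cfsg.pRegularPart p (ψ : G → ℂ)) (θt : G → ℂ) *
            (Fintype.card P : ℂ) * (θt : G → ℂ) x else 0 := by
        intro χ
        rw [← Finset.mul_sum]
        by_cases hχB : χ ∈ B
        · by_cases hker : ∀ n ∈ P, (χ : G → ℂ) n = (χ : G → ℂ) 1
          · have hχθ := huniq χ hχB hker
            rw [if_pos hχθ, hχθ]
            have h1 : ∀ z : P, (θt : G → ℂ) (x * z) = (θt : G → ℂ) x := by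
              intro z
              rw [hθt' (x * z), hθt' x]
              rw [QuotientGroup.mk_mul, (QuotientGroup.eq_one_iff (z : G)).2 z.2, mul_one]
            rw [Finset.sum_congr rfl (fun z _ => h1 z), Finset.sum_const, Finset.card_univ,
              nsmul_eq_mul]
            ring
          · have hne : χ ≠ θt := by
              rintro rfl
              apply hker
              intro n hn
              rw [hθt' n, hθt' 1, (QuotientGroup.eq_one_iff n).2 hn]; rfl
            rw [if_neg hne]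
            push Not at hker
            obtain ⟨n, hn, hne'⟩ := hker
            rw [Cfsg.Agent.Lib.Helper83.irr_sum_coset_eq_zero χ P ⟨n, hn, hne'⟩ x, mul_zero]
        · have hne : χ ≠ θt := by
            rintro rfl; exact hχB hθtB
          rw [if_neg hne]
          have hns : ¬ Cfsg.SameBlock M (ψ : G → ℂ) (χ : G → ℂ) := by
            intro hs
            apply hχB
            rw [hB0]
            have hs1 : Cfsg.SameBlock M (χ₀ : G → ℂ) (ψ : G → ℂ) := by
              rw [hB0] at hψB; exact hψB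
            exact Cfsg.Agent.Lib.Helper82.sameBlock_trans hMprime hs1 hs
          rw [Cfsg.Agent.Lib.Helper82.classInner_pRegularPart_eq_zero hM ψ χ hns, zero_mul]
      rw [Finset.sum_congr rfl (fun χ _ => hterm χ), Finset.sum_ite_eq' Finset.univ θt]
      simp
    rw [← hS1, hS2]
  -- the span is a line
  have hne0 : Cfsg.pRegularPart p (θt : G → ℂ) ≠ 0 := by
    intro h0
    have h1 := congrFun h0 1
    rw [Cfsg.Agent.Lib.Helper82.pRegularPart_of_regular _ (by
      rw [orderOf_one]; exact hpr.one_lt.ne' ∘ Nat.dvd_one.1)] at h1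
    exact Cfsg.Agent.Lib.Helper83.irr_degree_ne_zero θt h1
  unfold Cfsg.blockRank
  have hspan : Submodule.span ℂ ((fun χ : Cfsg.IrrCharacter G =>
      Cfsg.pRegularPart p (χ : G → ℂ)) '' B) =
      Submodule.span ℂ {Cfsg.pRegularPart p (θt : G → ℂ)} := by
    apply le_antisymm
    · rw [Submodule.span_le]
      rintro _ ⟨ψ, hψB, rfl⟩
      obtain ⟨c, hc⟩ := key ψ hψB
      show Cfsg.pRegularPart p (ψ : G → ℂ) ∈ _
      rw [hc]
      exact Submodule.smul_mem _ _ (Submodule.mem_span_singleton_self _)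
    · rw [Submodule.span_le]
      rintro _ rfl
      exact Submodule.subset_span ⟨θt, hθtB, rfl⟩
  rw [hspan]
  exact finrank_span_singleton hne0

end Cfsg.Agent.S4669
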