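import Cfsg.Statements.S4672
import Cfsg.Agent.Lib.Helper82.Fong
import Cfsg.Agent.S0966

set_option autoImplicit false
set_option linter.style.haveILetI false
open Cfsg

namespace Cfsg.Agent.S4672

/-- Fix a prime p and a maximal ideal M of the algebraic integers containing p. Let N be a normal subgroup of the finite group G of p-power index and c a p-block of N stable under conjugation by G. Then the idempotent of c is a block idempotent of G: there is a p-block B of G whose idempotent coefficients agree with those of c on N and vanish off N; and for every defect group P of such a block B, G = NP and P ∩ N is a defect group of c. -/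
theorem result {G : Type*} [Group G] [Fintype G] (p : ℕ) [Fact p.Prime] (M : Ideal Cfsg.AlgInt) (hM : Cfsg.IsPModular p M) (N : Subgroup G) [N.Normal] (hN : ∃ k : ℕ, N.index = p ^ k) (c : Set (Cfsg.IrrCharacter N)) (hc : Cfsg.IsPBlock M c) (hst : ∀ x : G, Cfsg.StabilizesBlock N c x) : (∃ B : Set (Cfsg.IrrCharacter G), Cfsg.IsPBlock M B ∧ ∀ g : G, Cfsg.blockCoeff B g = Cfsg.subgroupBlockCoeff N c g) ∧ ∀ B : Set (Cfsg.IrrCharacter G), Cfsg.IsPBlock M B → (∀ g : G, Cfsg.blockCoeff B g = Cfsg.subgroupBlockCoeff N c g) → ∀ P : Subgroup G, Cfsg.IsDefectGroup p M B P → N ⊔ P = ⊤ ∧ Cfsg.IsDefectGroup p M c ((P ⊓ N).subgroupOf N) := by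
  classical
  haveI : Fintype N := Fintype.ofFinite _
  haveI : Fintype (Cfsg.IrrCharacter G) := Fintype.ofFinite _
  have hp : p.Prime := hM.1
  have hMp : M.IsPrime := hM.2.1.isPrime
  -- invariance
  have hinv : Cfsg.Agent.Lib.Helper82.IsInvariantSet N c := by
    intro g θ hθ θ' hθ'
    obtain ⟨_, hst'⟩ := hst g⁻¹
    obtain ⟨χ', hχ'c, hconj⟩ := hst' θ hθ
    have heq : χ' = θ' := by
      apply Subtype.ext
      funext n
      rw [hθ' n]
      apply hconj
      show (n : G) = g⁻¹ * (g * (n : G) * g⁻¹) * g⁻¹⁻¹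
      group
    rw [← heq]
    exact hχ'c
  -- the unique covering block
  obtain ⟨B₀, ⟨hB₀, χ₀, hχ₀B, θ, hθ, hne⟩, huniq⟩ := Cfsg.Agent.S0966.result p M hM N hN c hc
  have hχ₀ : χ₀ ∈ Cfsg.Agent.Lib.Helper82.overSet N c := ⟨θ, hθ, hne⟩
  have hB₀eq : B₀ = Cfsg.blockOf M (χ₀ : G → ℂ) :=
    Cfsg.Agent.Lib.Helper82.IsPBlock.eq_blockOf hMp hB₀ hχ₀B
  have hover : Cfsg.Agent.Lib.Helper82.overSet N c = B₀ := by
    apply Set.Subset.antisymm
    · intro χ hχ
      obtain ⟨θ', hθ', hne'⟩ := hχ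
      have h1 := huniq (Cfsg.blockOf M (χ : G → ℂ)) ⟨⟨χ, rfl⟩, χ,
        Cfsg.Agent.Lib.Helper82.mem_blockOf_self hMp χ, θ', hθ', hne'⟩
      rw [← h1]
      exact Cfsg.Agent.Lib.Helper82.mem_blockOf_self hMp χ
    · rw [hB₀eq]
      exact Cfsg.Agent.Lib.Helper82.blockOf_subset_overSet N hM hc hinv hχ₀
  have hcoeff : ∀ g : G, Cfsg.blockCoeff B₀ g = Cfsg.subgroupBlockCoeff N c g := by
    intro g
    rw [← hover]
    exact Cfsg.Agent.Lib.Helper82.blockCoeff_overSet N hM hc hinv g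
  refine ⟨⟨B₀, hB₀, hcoeff⟩, ?_⟩
  intro B hB hBc P hP
  -- `B = B₀`
  have hBB₀ : B = B₀ := by
    ext ψ
    have h1 := Cfsg.Agent.Lib.Helper21.omega_blockCoeff B ψ
    have h2 := Cfsg.Agent.Lib.Helper21.omega_blockCoeff B₀ ψ
    have h3 : Cfsg.blockCoeff B = Cfsg.blockCoeff B₀ := by
      funext g
      rw [hBc g, hcoeff g]
    rw [h3, h2] at h1
    by_cases hψ : ψ ∈ B
    · rw [if_pos hψ] at h1
      constructor
      · intro _
        by_contra hcon
        rw [if_neg hcon] at h1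
        exact zero_ne_one h1
      · intro _; exact hψ
    · rw [if_neg hψ] at h1
      constructor
      · intro h; exact absurd h hψ
      · intro hcon
        rw [if_pos hcon] at h1
        exact absurd h1 one_ne_zero
  subst hBB₀
  rw [hB₀eq] at hP
  have hmax : ∀ χ ∈ Cfsg.Agent.Lib.Helper82.overSet N c,
      Cfsg.blockDefect p (Cfsg.blockOf M (χ : G → ℂ)) ≤
        Cfsg.blockDefect p (Cfsg.blockOf M (χ₀ : G → ℂ)) := by
    intro χ hχ
    rw [hover] at hχ
    rw [← hB₀eq, ← Cfsg.Agent.Lib.Helper82.IsPBlock.eq_blockOf hMp hB hχ]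
  obtain ⟨h1, h2, _⟩ := Cfsg.Agent.Lib.Helper82.fong N hM hc hinv hχ₀ hmax hP
  refine ⟨?_, h2⟩
  obtain ⟨k, hk⟩ := hN
  have hmul : N.relIndex (P ⊔ N) * (P ⊔ N).index = N.index :=
    Subgroup.relIndex_mul_index le_sup_right
  have hdvd : (P ⊔ N).index ∣ p ^ k := by
    rw [← hk, ← hmul]
    exact dvd_mul_left _ _
  obtain ⟨j, _, hj⟩ := (Nat.dvd_prime_pow hp).1 hdvd
  have hj0 : j = 0 := by
    by_contra h0
    apply h1
    rw [hj]
    exact dvd_pow_self p h0
  rw [hj0, pow_zero, Subgroup.index_eq_one] at hj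
  rw [sup_comm]
  exact hj

end Cfsg.Agent.S4672
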