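import Cfsg.Statements.S4683
import Cfsg.Agent.Lib.Helper82.SubsectionNorm
import Cfsg.Agent.Lib.Helper82.LocalRing
import Cfsg.Agent.Lib.Helper21.BlockPartVal
import Cfsg.Agent.S0919

set_option autoImplicit false
set_option linter.style.haveILetI false
open Cfsg

namespace Cfsg.Agent.S4683

open Cfsg.Agent.Lib.Helper82 Cfsg.Agent.Lib.Helper21

theorem centralizer_zpowers_eq {G : Type*} [Group G] (u : G) :
    Subgroup.centralizer (Subgroup.zpowers u : Set G) = Subgroup.centralizer ({u} : Set G) := by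
  ext g
  rw [Subgroup.mem_centralizer_singleton_iff, Subgroup.mem_centralizer_iff]
  constructor
  · intro h
    exact (h u (Subgroup.mem_zpowers u)).symm
  · intro h y hy
    obtain ⟨k, rfl⟩ := Subgroup.mem_zpowers_iff.1 hy
    have hc : Commute g u := h
    exact ((hc.zpow_right k).eq).symm

/-- A Brauer pair `(⟨u⟩, e)` of `B` gives `e^G = B`. -/
theorem isInducedBlock_of_isBrauerPairOf {G : Type*} [Group G] [Fintype G] (p : ℕ) [Fact p.Prime]
    (M : Ideal Cfsg.AlgInt) (hM : Cfsg.IsPModular p M) (B : Set (Cfsg.IrrCharacter G)) (u : G)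
    (e : Set (Cfsg.IrrCharacter (Subgroup.centralizer (Subgroup.zpowers u : Set G))))
    (hBe : Cfsg.IsBrauerPairOf p M B (Subgroup.zpowers u) e) :
    Cfsg.IsInducedBlock M (Subgroup.centralizer (Subgroup.zpowers u : Set G)) e B := by
  classical
  haveI : Fintype (IrrCharacter G) := Fintype.ofFinite _
  haveI : Fintype (Subgroup.centralizer (Subgroup.zpowers u : Set G)) := Fintype.ofFinite _
  haveI : Fintype (IrrCharacter (Subgroup.centralizer (Subgroup.zpowers u : Set G))) :=
    Fintype.ofFinite _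
  have hMpr : M.IsPrime := hM.2.1.isPrime
  obtain ⟨⟨hP, he⟩, hB, hcong⟩ := hBe
  have hPH : Subgroup.zpowers u ≤ Subgroup.centralizer (Subgroup.zpowers u : Set G) := by
    intro y hy
    rw [Subgroup.mem_centralizer_iff]
    intro z hz
    obtain ⟨k, rfl⟩ := Subgroup.mem_zpowers_iff.1 hy
    obtain ⟨l, rfl⟩ := Subgroup.mem_zpowers_iff.1 hz
    exact (Commute.zpow_zpow_self u l k).eq
  obtain ⟨B', hind'⟩ := Cfsg.Agent.S0919.result p M hM (Subgroup.zpowers u)
    (Subgroup.centralizer (Subgroup.zpowers u : Set G)) hP hPH le_rfl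
    (Subgroup.centralizer_le_normalizer _) e he
  obtain ⟨χ₁, rfl⟩ := hB
  obtain ⟨χ₀', hB'⟩ := hind'.2.1
  obtain ⟨ξ, rfl⟩ := he
  have hξ : ξ ∈ blockOf M (ξ : Subgroup.centralizer (Subgroup.zpowers u : Set G) → ℂ) :=
    mem_blockOf_self hMpr ξ
  have hχ₀' : χ₀' ∈ B' := hB' ▸ mem_blockOf_self hMpr χ₀'
  have h1 := omega_restrict_blockCoeff_sub_ite
    (Subgroup.centralizer (Subgroup.zpowers u : Set G)) hMpr hind' hξ hχ₀' χ₁
  have h2 := hcong ξ hξ
  have heq : brauerOmega (Subgroup.zpowers u) (blockCoeff (blockOf M (χ₁ : G → ℂ)))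
      (ξ : Subgroup.centralizer (Subgroup.zpowers u : Set G) → ℂ) =
      omega (fun h : Subgroup.centralizer (Subgroup.zpowers u : Set G) =>
        blockCoeff (blockOf M (χ₁ : G → ℂ)) (h : G))
        (ξ : Subgroup.centralizer (Subgroup.zpowers u : Set G) → ℂ) := by
    unfold brauerOmega omega
    rw [finsum_eq_sum_of_fintype, Finset.sum_div]
  rw [heq] at h2
  by_cases hmem : χ₀' ∈ blockOf M (χ₁ : G → ℂ)
  · have : B' = blockOf M (χ₁ : G → ℂ) := by
      rw [hB']
      exact (blockOf_eq_of_sameBlock hMpr (mem_blockOf_iff.1 hmem)).symm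
    rw [← this]
    exact hind'
  · exfalso
    rw [if_neg hmem, sub_zero] at h1
    have h3 := memLocalIdeal_sub hMpr h1 h2
    rw [sub_sub_cancel] at h3
    exact not_memLocalIdeal_one hMpr h3

/-- Fix a prime p and a maximal ideal M of the algebraic integers containing p, a p-block B of the finite group G, a p-element u and a p-block e of C = C_G(u) such that (⟨u⟩, e) is a Brauer pair of B (a Brauer element of B). For χ ∈ B let χ_u be the e-part of the class function c ↦ χ(u c) on C and χ_u' the e-part of c ↦ χ(u⁻¹ c). Then the sum over χ ∈ B and over the p-regular elements s of C of χ_u(s)·χ_u'(s⁻¹) equals the order of C times the p-regular rank of e (the number of irreducible Brauer characters of e). -/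
theorem result {G : Type*} [Group G] [Fintype G] (p : ℕ) [Fact p.Prime] (M : Ideal Cfsg.AlgInt) (hM : Cfsg.IsPModular p M) (B : Set (Cfsg.IrrCharacter G)) (u : G) (hu : ∃ k : ℕ, orderOf u = p ^ k) (e : Set (Cfsg.IrrCharacter (Subgroup.centralizer (Subgroup.zpowers u : Set G)))) (hBe : Cfsg.IsBrauerPairOf p M B (Subgroup.zpowers u) e) : ∑ᶠ χ ∈ B, ∑ᶠ s : Subgroup.centralizer (Subgroup.zpowers u : Set G), Cfsg.pRegularPart p (Cfsg.blockPart e (fun c : Subgroup.centralizer (Subgroup.zpowers u : Set G) => (χ : G → ℂ) (u * c))) s * Cfsg.blockPart e (fun c : Subgroup.centralizer (Subgroup.zpowers u : Set G) => (χ : G → ℂ) (u⁻¹ * c)) s⁻¹ = (Nat.card (Subgroup.centralizer (Subgroup.zpowers u : Set G)) : ℂ) * (Cfsg.blockRank p e : ℂ) := by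
  classical
  have hind := isInducedBlock_of_isBrauerPairOf p M hM B u e hBe
  obtain ⟨χ₀, rfl⟩ := hBe.2.1
  exact subsection_norm_finsum hM hu _ (centralizer_zpowers_eq u) χ₀ e hind

end Cfsg.Agent.S4683
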