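import Cfsg.Statements.S4694
import Cfsg.Agent.Lib.Helper84.WeightRadical
import Cfsg.Agent.Lib.Helper84.Clifford
import Cfsg.Agent.Lib.Helper85.MaxPair
import Cfsg.Agent.Lib.Helper81.BPStabDefect

set_option autoImplicit false
set_option linter.style.haveILetI false
open Cfsg

namespace Cfsg.Agent.S4694

/-- Fix a prime p and a maximal ideal M of the algebraic integers containing p, a p-block B of the finite group G and a Brauer pair (Q, e) of B. Let T be the stabilizer of e in N_G(Q) and suppose that (Q, e) carries a weight: the block of T whose idempotent is that of e contains an irreducible character χ that is constant on the cosets of Q and whose degree has p-part equal to the p-part of the index of Q in T. Then Z(Q) is a defect group of e as a block of C_G(Q), and Q is the largest normal p-subgroup of T: every p-subgroup of T normalized by T lies in Q. -/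
theorem result {G : Type*} [Group G] [Fintype G] (p : ℕ) [Fact p.Prime] (M : Ideal Cfsg.AlgInt) (hM : Cfsg.IsPModular p M) (B : Set (Cfsg.IrrCharacter G)) (Q : Subgroup G) (e : Set (Cfsg.IrrCharacter (Subgroup.centralizer (Q : Set G)))) (hQe : Cfsg.IsBrauerPairOf p M B Q e) (T : Subgroup G) (hT : ∀ y : G, y ∈ T ↔ y ∈ Subgroup.normalizer (Q : Set G) ∧ Cfsg.StabilizesBlock (Subgroup.centralizer (Q : Set G)) e y) (F' : Set (Cfsg.IrrCharacter T)) (hF' : Cfsg.IsPBlock M F') (hF'e : ∀ t : T, Cfsg.blockCoeff F' t = Cfsg.subgroupBlockCoeff (Subgroup.centralizer (Q : Set G)) e (t : G)) (χ : Cfsg.IrrCharacter T) (hχ : χ ∈ F') (hχQ : ∀ q : G, q ∈ Q → ∀ t : T, ∀ t' : T, (t' : G) = q * (t : G) → (χ : T → ℂ) t' = (χ : T → ℂ) t) (hdeg : (Cfsg.charDegree (χ : T → ℂ)).factorization p + (Nat.card Q).factorization p = (Nat.card T).factorization p) : Cfsg.IsDefectGroup p M e ((Q ⊓ Subgroup.centralizer (Q : Set G)).subgroupOf (Subgroup.centralizer (Q : Set G))) ∧ ∀ R : Subgroup G, R ≤ T →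 IsPGroup p R → (∀ t ∈ T, t ∈ Subgroup.normalizer (R : Set G)) → R ≤ Q := by
  classical
  have hMp : M.IsPrime := hM.2.1.isPrime
  have hp : p.Prime := Fact.out
  obtain ⟨⟨hQp, he⟩, hBb, -⟩ := id hQe
  haveI : Fintype (Subgroup.centralizer (Q : Set G)) := Fintype.ofFinite _
  haveI : Fintype T := Fintype.ofFinite _
  have hKT : Subgroup.centralizer (Q : Set G) ≤ T :=
    Cfsg.Agent.Lib.Helper81.centralizer_le_stabilizer hMp he hT
  have hQT : Q ≤ T := Cfsg.Agent.Lib.Helper81.le_stabilizer hMp he hT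
  have hTN : T ≤ Subgroup.normalizer (Q : Set G) := fun y hy => ((hT y).1 hy).1
  -- the subgroups of `T`
  set Qx : Subgroup T := Q.subgroupOf T with hQx
  set Kx : Subgroup T := (Subgroup.centralizer (Q : Set G)).subgroupOf T with hKx
  haveI hQn : Qx.Normal := (Subgroup.normal_subgroupOf_iff_le_normalizer hQT).2 hTN
  haveI hKn : Kx.Normal := (Subgroup.normal_subgroupOf_iff_le_normalizer hKT).2
    (hTN.trans (Cfsg.Agent.Lib.Helper81.normalizer_le_normalizer_centralizer Q))
  have hcQx : Nat.card Qx = Nat.card Q :=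
    Nat.card_congr (Subgroup.subgroupOfEquivOfLe hQT).toEquiv
  have hcKx : Nat.card Kx = Nat.card (Subgroup.centralizer (Q : Set G)) :=
    Nat.card_congr (Subgroup.subgroupOfEquivOfLe hKT).toEquiv
  have hkerχ : ∀ q ∈ Qx, (χ : T → ℂ) q = (χ : T → ℂ) 1 := by
    intro q hq
    exact hχQ (q : G) (Subgroup.mem_subgroupOf.1 hq) 1 q (by simp)
  have hdegx : (Cfsg.charDegree (χ : T → ℂ)).factorization p + (Nat.card Qx).factorization p =
      (Nat.card T).factorization p := by rw [hcQx]; exact hdeg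
  refine ⟨?_, ?_⟩
  · -- `Z(Q)` is a defect group of `e`
    obtain ⟨θ₀, hθ₀e, hθ₀⟩ := Cfsg.Agent.Lib.Helper84.exists_constituent_mem_of_blockCoeff
      (Subgroup.centralizer (Q : Set G)) T hKT F' e hF'e χ hχ
    set Lx : Subgroup T := Qx ⊔ Kx with hLx
    haveI : Fintype Lx := Fintype.ofFinite _
    let ι : Subgroup.centralizer (Q : Set G) →* Lx :=
      { toFun := fun k => ⟨⟨(k : G), hKT k.2⟩,
          Subgroup.mem_sup_right (Subgroup.mem_subgroupOf.2 k.2)⟩
        map_one' := rfl
        map_mul' := fun a b => rfl }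
    have hf : Cfsg.IsClassFunction Lx (fun l : Lx => (χ : T → ℂ) l) := by
      intro l y
      exact Cfsg.Agent.Lib.Helper83.isClassFunction_irr χ (l : T) (y : T)
    obtain ⟨ϑ, hϑ1, hϑ2⟩ := Cfsg.Agent.Lib.Helper84.exists_over_of_comp ι hf
      (θ₀ : Subgroup.centralizer (Q : Set G) → ℂ) hθ₀
    obtain ⟨hϑker, hϑdeg⟩ := Cfsg.Agent.Lib.Helper84.constituent_props p Qx Lx χ hkerχ hdegx ϑ hϑ1
    -- restriction to `C_G(Q)` is irreducible
    have hcov : ∀ l : Lx, ∃ n ∈ Qx.subgroupOf Lx, ∃ k : Subgroup.centralizer (Q : Set G),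
        l = n * ι k := by
      intro l
      have hl : (l : T) ∈ ((Qx ⊔ Kx : Subgroup T) : Set T) := l.2
      rw [Subgroup.normal_mul] at hl
      obtain ⟨q, hq, k, hk, hqk⟩ := Set.mem_mul.1 hl
      refine ⟨⟨q, Subgroup.mem_sup_left hq⟩, Subgroup.mem_subgroupOf.2 hq,
        ⟨(k : G), Subgroup.mem_subgroupOf.1 hk⟩, ?_⟩
      apply Subtype.ext
      rw [← hqk]
      rfl
    have hirr := Cfsg.Agent.Lib.Helper84.isIrrCharacter_comp_of_cover (Qx.subgroupOf Lx) ι hcov ϑ
      (fun n hn => hϑker n (Subgroup.mem_subgroupOf.1 hn))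
    have heq : (fun k => (ϑ : Lx → ℂ) (ι k)) = (θ₀ : Subgroup.centralizer (Q : Set G) → ℂ) :=
      Cfsg.Agent.Lib.Helper84.irr_eq_of_classInner_ne_zero hirr θ₀.2 hϑ2
    have hθ₀val : ∀ k, (θ₀ : Subgroup.centralizer (Q : Set G) → ℂ) k = (ϑ : Lx → ℂ) (ι k) :=
      fun k => (congrFun heq k).symm
    have hdegeq : Cfsg.charDegree (θ₀ : Subgroup.centralizer (Q : Set G) → ℂ) =
        Cfsg.charDegree (ϑ : Lx → ℂ) := by
      unfold Cfsg.charDegree
      rw [hθ₀val 1, map_one]
    -- `Z(Q)` lies in the kernel of `θ₀`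
    have hZker : ∀ n ∈ Cfsg.Agent.Lib.Helper85.MaxPair.zsub Q,
        (θ₀ : Subgroup.centralizer (Q : Set G) → ℂ) n =
          (θ₀ : Subgroup.centralizer (Q : Set G) → ℂ) 1 := by
      intro n hn
      rw [hθ₀val n, hθ₀val 1, map_one]
      apply hϑker
      exact Subgroup.mem_subgroupOf.2 (Subgroup.mem_subgroupOf.1 hn).1
    have hdvd := Cfsg.Agent.Lib.Helper83.irr_charDegree_dvd_index θ₀
      (Cfsg.Agent.Lib.Helper85.MaxPair.zsub Q) hZker
    have hZp : IsPGroup p (Cfsg.Agent.Lib.Helper85.MaxPair.zsub Q) :=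
      (hQp.to_le inf_le_left).comap_subtype
    -- cardinalities
    have hcard : Nat.card Lx * Nat.card (Kx ⊓ Qx : Subgroup T) = Nat.card Qx * Nat.card Kx :=
      Cfsg.Agent.Lib.Helper85.MaxPair.card_sup_mul_card_inf Qx Kx
    have hinf : Nat.card (Kx ⊓ Qx : Subgroup T) =
        Nat.card (Q ⊓ Subgroup.centralizer (Q : Set G) : Subgroup G) := by
      have h1 : (Kx ⊓ Qx : Subgroup T) =
          (Q ⊓ Subgroup.centralizer (Q : Set G)).subgroupOf T := by
        ext t
        simp only [Subgroup.mem_inf, Subgroup.mem_subgroupOf, hQx, hKx]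
        tauto
      rw [h1]
      exact Nat.card_congr (Subgroup.subgroupOfEquivOfLe (inf_le_left.trans hQT)).toEquiv
    have hfac : (Nat.card Lx).factorization p +
        (Nat.card (Kx ⊓ Qx : Subgroup T)).factorization p =
        (Nat.card Qx).factorization p + (Nat.card Kx).factorization p := by
      have h1 : (Nat.card Lx * Nat.card (Kx ⊓ Qx : Subgroup T)).factorization p =
          (Nat.card Qx * Nat.card Kx).factorization p := by rw [hcard]
      rw [Nat.factorization_mul Nat.card_pos.ne' Nat.card_pos.ne',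
        Nat.factorization_mul Nat.card_pos.ne' Nat.card_pos.ne', Finsupp.add_apply,
        Finsupp.add_apply] at h1
      exact h1
    rw [hinf, hcQx, hcKx] at hfac
    rw [hcQx] at hϑdeg
    have hidx := Subgroup.card_mul_index (Cfsg.Agent.Lib.Helper85.MaxPair.zsub Q)
    have hz0 : Nat.card (Cfsg.Agent.Lib.Helper85.MaxPair.zsub Q) ≠ 0 := Nat.card_pos.ne'
    have hi0 : (Cfsg.Agent.Lib.Helper85.MaxPair.zsub Q).index ≠ 0 :=
      Subgroup.index_ne_zero_of_finite
    have hfac2 : (Nat.card (Cfsg.Agent.Lib.Helper85.MaxPair.zsub Q) *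
        (Cfsg.Agent.Lib.Helper85.MaxPair.zsub Q).index).factorization p =
        (Nat.card (Subgroup.centralizer (Q : Set G))).factorization p := by rw [hidx]
    rw [Nat.factorization_mul hz0 hi0, Finsupp.add_apply,
      Cfsg.Agent.Lib.Helper85.MaxPair.card_zsub] at hfac2
    obtain ⟨d, hd0, -, -, hd2⟩ := Cfsg.Agent.Lib.Helper04.exists_nat_degree θ₀
    have hle : (Cfsg.charDegree (θ₀ : Subgroup.centralizer (Q : Set G) → ℂ)).factorization p ≤
        (Cfsg.Agent.Lib.Helper85.MaxPair.zsub Q).index.factorization p := by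
      rw [hd2] at hdvd ⊢
      exact (Nat.factorization_le_iff_dvd hd0.ne' hi0).2 hdvd p
    have hdeg' : (Cfsg.charDegree (θ₀ : Subgroup.centralizer (Q : Set G) → ℂ)).factorization p =
        (Cfsg.Agent.Lib.Helper85.MaxPair.zsub Q).index.factorization p := by
      rw [hdegeq] at hle ⊢
      omega
    have h := (Cfsg.Agent.S0969.result p M hM (Cfsg.Agent.Lib.Helper85.MaxPair.zsub Q) hZp
      (Cfsg.Agent.Lib.Helper85.MaxPair.zsub_le_center Q) θ₀ hdeg').1
    rw [← Cfsg.Agent.Lib.Helper82.IsPBlock.eq_blockOf hMp he hθ₀e] at h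
    exact h
  · -- `Q` is the largest normal `p`-subgroup of `T`
    intro R hRT hRp hRn
    set Rx : Subgroup T := R.subgroupOf T with hRx
    haveI hRxn : Rx.Normal := (Subgroup.normal_subgroupOf_iff_le_normalizer hRT).2 hRn
    set S : Subgroup T := Rx ⊔ Qx with hS
    haveI : Fintype S := Fintype.ofFinite _
    have hRxp : IsPGroup p Rx := hRp.comap_subtype
    have hQxp : IsPGroup p Qx := hQp.comap_subtype
    have hSp : IsPGroup p S := IsPGroup.to_sup_of_normal_right hRxp hQxp
    obtain ⟨ϑ, hϑ1⟩ := Cfsg.Agent.Lib.Helper82.exists_constituent S χ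
    obtain ⟨hϑker, hϑdeg⟩ := Cfsg.Agent.Lib.Helper84.constituent_props p Qx S χ hkerχ hdegx ϑ hϑ1
    have hsq := Cfsg.Agent.Lib.Helper84.charDegree_sq_le_index (Qx.subgroupOf S) ϑ
      (fun n hn => hϑker n (Subgroup.mem_subgroupOf.1 hn))
    obtain ⟨s, hs⟩ := IsPGroup.exists_card_eq hSp
    obtain ⟨q, hq⟩ := IsPGroup.exists_card_eq hQxp
    have hQS : Qx ≤ S := le_sup_right
    have hcQS : Nat.card (Qx.subgroupOf S) = Nat.card Qx :=
      Nat.card_congr (Subgroup.subgroupOfEquivOfLe hQS).toEquiv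
    have hidx := Subgroup.card_mul_index (Qx.subgroupOf S)
    rw [hcQS, hs, hq] at hidx
    have hqs : q ≤ s := by
      have h1 : p ^ q ∣ p ^ s := Dvd.intro _ hidx
      exact (Nat.pow_dvd_pow_iff_le_right hp.one_lt).1 h1
    have hidx' : (Qx.subgroupOf S).index = p ^ (s - q) := by
      have h1 : p ^ q * p ^ (s - q) = p ^ s := by
        rw [← pow_add]
        congr 1
        omega
      rw [← h1] at hidx
      exact Nat.eq_of_mul_eq_mul_left (pow_pos hp.pos q) hidx
    rw [hs, hq, hp.factorization_pow, hp.factorization_pow] at hϑdeg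
    simp only [Finsupp.single_eq_same] at hϑdeg
    obtain ⟨d, hd0, -, -, hd2⟩ := Cfsg.Agent.Lib.Helper04.exists_nat_degree ϑ
    rw [hd2] at hϑdeg hsq
    rw [hidx'] at hsq
    have hd1 : p ^ (s - q) ≤ d := by
      calc p ^ (s - q) ≤ p ^ d.factorization p :=
            Nat.pow_le_pow_right hp.pos (by omega)
        _ ≤ d := Nat.ordProj_le p hd0.ne'
    have hsq0 : s - q = 0 := by
      by_contra hne
      have h1 : p ^ (s - q) < p ^ (s - q) * p ^ (s - q) := by
        have h2 : 1 < p ^ (s - q) := Nat.one_lt_pow hne hp.one_lt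
        nlinarith [pow_pos hp.pos (s - q)]
      have h3 : p ^ (s - q) * p ^ (s - q) ≤ d ^ 2 := by
        rw [sq]
        exact Nat.mul_le_mul hd1 hd1
      omega
    have hSQ : Qx = S := by
      apply Subgroup.eq_of_le_of_card_ge hQS
      rw [hs, hq]
      exact Nat.pow_le_pow_right hp.pos (by omega)
    intro r hr
    have h1 : (⟨r, hRT hr⟩ : T) ∈ Rx := Subgroup.mem_subgroupOf.2 hr
    have h2 : (⟨r, hRT hr⟩ : T) ∈ Qx := by
      rw [hSQ]
      exact Subgroup.mem_sup_left h1
    exact Subgroup.mem_subgroupOf.1 h2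

end Cfsg.Agent.S4694
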