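import Cfsg.Statements.S4702
import Cfsg.Agent.Lib.Helper28.Sharp3Conv
import Cfsg.Agent.Lib.Helper28.SL2Char2

set_option autoImplicit false
open Cfsg

namespace Cfsg.Agent.S4702

open Cfsg.Agent.Lib.Helper28

/-- Let G be a triply transitive permutation group on a finite set of odd size m ≥ 3 in which only the identity fixes three or more points. Then m = 2^a + 1 for some a ≥ 1 and G is isomorphic to SL(2, 2^a). -/
theorem result {α : Type*} [Fintype α] [DecidableEq α] (hm : 3 ≤ Fintype.card α) (hodd : Odd (Fintype.card α)) (G : Subgroup (Equiv.Perm α)) (h3 : MulAction.IsMultiplyPretransitive G α 3) (hfix : ∀ g : G, 3 ≤ Nat.card (MulAction.fixedBy α g) → g = 1) : ∃ a : ℕ, 1 ≤ a ∧ Fintype.card α = 2 ^ a + 1 ∧ ∃ (F : Type) (_ : Field F) (_ : Fintype F), Fintype.card F = 2 ^ a ∧ Nonempty (G ≃* Matrix.SpecialLinearGroup (Fin 2) F) := by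
  have hS : Sharp3 G α := by
    apply sharp3_of_pretransitive h3
    intro g a b c hab hac hbc ha hb hc
    apply hfix
    rw [Nat.card_coe_set_eq]
    have h2 : 2 < Set.ncard (MulAction.fixedBy α g) :=
      (Set.two_lt_ncard_iff (Set.toFinite _)).2 ⟨a, b, c, ha, hb, hc, hab, hac, hbc⟩
    omega
  have hodd' : Odd (Nat.card α) := by rw [Nat.card_eq_fintype_card]; exact hodd
  have h3' : 3 ≤ Nat.card α := by rw [Nat.card_eq_fintype_card]; exact hm
  obtain ⟨k, hk0, hk, ⟨E⟩⟩ := hS.main hodd' h3'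
  rw [Nat.card_eq_fintype_card] at hk
  refine ⟨k, by omega, hk, ?_⟩
  let _ : Fintype (GaloisField 2 k) := Fintype.ofFinite _
  have hchar : ringChar (GaloisField 2 k) = 2 := ringChar.eq _ 2
  obtain ⟨E'⟩ := nonempty_sl_mulEquiv_pgl_of_char_two (F := GaloisField 2 k) hchar
  refine ⟨GaloisField 2 k, inferInstance, inferInstance, ?_, ⟨E.trans E'.symm⟩⟩
  rw [← Nat.card_eq_fintype_card, GaloisField.card 2 k hk0]

end Cfsg.Agent.S4702
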