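import Cfsg.Statements.S4710
import Cfsg.Agent.Lib.Helper21.BrauerFeit2

set_option autoImplicit false
open Cfsg

namespace Cfsg.Agent.S4710

/-- Let p be a prime, M a maximal ideal of the algebraic integers containing p, and B a p-block of defect d of the finite group G containing k irreducible characters. If B contains a character of positive height then 2k ≤ p^(2d − 2); and every character in B has height 0 when d ≤ 1 and height at most d − 2 when d ≥ 2. -/
theorem result {G : Type*} [Group G] [Finite G] (p : ℕ) [Fact p.Prime] (M : Ideal Cfsg.AlgInt) (hM : Cfsg.IsPModular p M) (B : Set (Cfsg.IrrCharacter G)) (hB : Cfsg.IsPBlock M B) (d : ℕ) (hd : Cfsg.blockDefect p B = d) : ((∃ χ ∈ B, 0 < Cfsg.blockHeight p B (χ : G → ℂ)) → 2 * Nat.card B ≤ p ^ (2 * d - 2)) ∧ ∀ χ ∈ B, (d ≤ 1 → Cfsg.blockHeight p B (χ : G → ℂ) = 0) ∧ (2 ≤ d → Cfsg.blockHeight p B (χ : G → ℂ) ≤ d - 2) := by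
  classical
  have := Fintype.ofFinite G
  have := Fintype.ofFinite (Cfsg.IrrCharacter G)
  have hp : p.Prime := Fact.out
  have hprime : M.IsPrime := hM.2.1.isPrime
  constructor
  · rintro ⟨χ₁, hχ₁, hpos⟩
    rw [← hd]
    exact Cfsg.Agent.Lib.Helper21.two_mul_card_block_le hM hB χ₁ hχ₁ hpos
  · intro χ hχ
    obtain ⟨χ₀, hχ₀, hχ₀s⟩ := Cfsg.Agent.Lib.Helper21.exists_min_degree (p := p) hprime hB
    have hminB : ∀ χ' ∈ B, (Cfsg.charDegree (χ₀ : G → ℂ)).factorization p ≤
        (Cfsg.charDegree (χ' : G → ℂ)).factorization p := by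
      intro χ' hχ'
      rw [hχ₀s]
      exact Nat.sInf_le ⟨χ', hχ', rfl⟩
    have hht : Cfsg.blockHeight p B (χ : G → ℂ) =
        (Cfsg.charDegree (χ : G → ℂ)).factorization p -
          (Cfsg.charDegree (χ₀ : G → ℂ)).factorization p := by
      unfold Cfsg.blockHeight
      rw [hχ₀s]
    have hdef : d = (Nat.card G).factorization p -
        (Cfsg.charDegree (χ₀ : G → ℂ)).factorization p := by
      rw [← hd]
      unfold Cfsg.blockDefect
      rw [hχ₀s]
    have h0 := hminB χ hχ
    by_cases hlt : (Cfsg.charDegree (χ₀ : G → ℂ)).factorization p <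
        (Cfsg.charDegree (χ : G → ℂ)).factorization p
    · have hb := Cfsg.Agent.Lib.Helper21.factorization_add_two_le_of_not_min hM hB χ χ₀ hχ hχ₀
        hminB hlt
      constructor
      · intro hd1
        omega
      · intro _
        omega
    · constructor
      · intro _
        omega
      · intro _
        omega

end Cfsg.Agent.S4710
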