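import Cfsg.Statements.S4711
import Cfsg.Agent.Lib.Helper82.PRegCoset
import Cfsg.Agent.Lib.Helper82.WeakOrth
import Cfsg.Agent.Lib.Helper81.ThirdMain
import Cfsg.Agent.Lib.Helper32.PLengthOne
import Cfsg.Agent.Lib.Helper67.PLen2
import Cfsg.Agent.Lib.Helper79.PSolvPrincipal
import Cfsg.Agent.Lib.Helper33.Constituent
import Cfsg.Agent.Lib.Helper33.IrrComp
import Cfsg.Agent.Lib.Helper29.Cores

set_option autoImplicit false
set_option linter.style.haveILetI false
set_option linter.unusedVariables false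
open Cfsg

namespace Cfsg.Agent.S4711

open Cfsg.Agent.Lib.Helper21 Cfsg.Agent.Lib.Helper82 Cfsg.Agent.Lib.Helper83 Cfsg.Agent.Lib.Helper81
open scoped ComplexConjugate

universe u

/-- Forward direction: `p`-length one forces irreducible restriction to the Sylow normalizer. -/
theorem forward {G : Type u} [Group G] [Finite G] (p : ℕ) [Fact p.Prime] (M : Ideal AlgInt)
    (hM : IsPModular p M) (P : Sylow p G) (hpl : PLengthLE p 1 G) (χ : IrrCharacter G)
    (hχ : χ ∈ principalBlock M G) :
    IsIrrCharacter ↥(Subgroup.normalizer ((P : Subgroup G) : Set G))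
      (fun n : ↥(Subgroup.normalizer ((P : Subgroup G) : Set G)) => (χ : G → ℂ) n) := by
  obtain ⟨K, hKn, hKc, hfac⟩ :=
    Cfsg.Agent.Lib.Helper32.exists_normalizer_mul_of_pLengthLE_one p hpl P
  haveI := hKn
  have hKle : K ≤ pPrimeCore p G := Cfsg.Agent.Lib.Helper29.normal_le_pPrimeCore p K hKc
  have hker : ∀ k ∈ K, (χ : G → ℂ) k = (χ : G → ℂ) 1 := fun k hk =>
    Cfsg.Agent.Lib.Helper79.principalBlock_ker p M hM χ hχ k (hKle hk)
  obtain ⟨ψ, hψ, hψχ⟩ := exists_isIrrCharacter_quotient K χ.2 hker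
  let f : ↥(Subgroup.normalizer ((P : Subgroup G) : Set G)) →* G ⧸ K :=
    (QuotientGroup.mk' K).comp (Subgroup.normalizer ((P : Subgroup G) : Set G)).subtype
  have hf : Function.Surjective f := by
    intro q
    obtain ⟨g, rfl⟩ := QuotientGroup.mk'_surjective K q
    obtain ⟨n, hn, k, hk, rfl⟩ := hfac g
    refine ⟨⟨n, hn⟩, ?_⟩
    show QuotientGroup.mk' K n = QuotientGroup.mk' K (n * k)
    rw [map_mul]
    have : QuotientGroup.mk' K k = 1 := (QuotientGroup.eq_one_iff k).2 hk
    rw [this, mul_one]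
  have h := Cfsg.Agent.Lib.Helper33.isIrrCharacter_comp_of_surjective f hf hψ
  convert h using 1
  funext n
  exact (hψχ n).symm


/-- The main step: a `p`-regular element killed by all principal block characters that have `P`
in the kernel is killed by all principal block characters. -/
theorem regular_mem_ker {G : Type u} [Group G] [Fintype G] [Fintype (IrrCharacter G)] (p : ℕ)
    [Fact p.Prime] (M : Ideal AlgInt) (hM : IsPModular p M) (P : Sylow p G)
    (H : ∀ χ ∈ principalBlock M G,
      IsIrrCharacter ↥(Subgroup.normalizer ((P : Subgroup G) : Set G))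
        (fun n : ↥(Subgroup.normalizer ((P : Subgroup G) : Set G)) => (χ : G → ℂ) n))
    (g : G) (hg : ¬ p ∣ orderOf g)
    (hgL : ∀ χ ∈ principalBlock M G,
      (∀ x ∈ (P : Subgroup G), (χ : G → ℂ) x = (χ : G → ℂ) 1) → (χ : G → ℂ) g = (χ : G → ℂ) 1)
    (χ₀ : IrrCharacter G) (hχ₀ : χ₀ ∈ principalBlock M G) :
    (χ₀ : G → ℂ) g = (χ₀ : G → ℂ) 1 := by
  classical
  set N := Subgroup.normalizer ((P : Subgroup G) : Set G) with hN
  haveI : Fintype N := Fintype.ofFinite N
  set B := principalBlock M G with hB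
  set c : IrrCharacter G → ℂ :=
    fun χ => if χ ∈ B then conj ((χ : G → ℂ) 1 - (χ : G → ℂ) g) else 0 with hc
  set Δ : N → ℂ := fun n => ∑ χ : IrrCharacter G, c χ * (χ : G → ℂ) (n : G) with hΔ
  have hΔfun : Δ = ∑ χ : IrrCharacter G, c χ • (fun n : N => (χ : G → ℂ) (n : G)) := by
    funext n
    simp only [hΔ, Finset.sum_apply, Pi.smul_apply, smul_eq_mul]
  have hΔcf : IsClassFunction N Δ := by
    intro n h
    simp only [hΔ]
    refine Finset.sum_congr rfl fun χ _ => ?_
    congr 1
    exact isClassFunction_irr χ (n : G) (h : G)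
  have hPN : IsPGroup p ((P : Subgroup G).subgroupOf N) := P.isPGroup'.comap_subtype
  haveI hPNn : ((P : Subgroup G).subgroupOf N).Normal := Subgroup.normal_in_normalizer
  have hsing : ∀ n : N, p ∣ orderOf n → Δ n = 0 := by
    intro n hn
    have hn' : p ∣ orderOf (n : G) := by rwa [Subgroup.orderOf_coe]
    have h1reg : ¬ p ∣ orderOf (1 : G) := by
      rw [orderOf_one]
      exact (Fact.out : p.Prime).one_lt.ne' ∘ Nat.dvd_one.1
    have e1 := weak_block_orthogonality hM (trivChar G) (1 : G) (n : G) h1reg hn'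
    have e2 := weak_block_orthogonality hM (trivChar G) g (n : G) hg hn'
    have hBt : blockOf M (trivChar G : G → ℂ) = B := rfl
    rw [hBt, finsum_mem_eq_sum_ite] at e1 e2
    have hconj : Δ n = conj
        (∑ χ : IrrCharacter G,
            (if χ ∈ B then (χ : G → ℂ) 1 * conj ((χ : G → ℂ) (n : G)) else 0)
          - ∑ χ : IrrCharacter G,
            (if χ ∈ B then (χ : G → ℂ) g * conj ((χ : G → ℂ) (n : G)) else 0)) := by
      rw [← Finset.sum_sub_distrib, map_sum]
      simp only [hΔ, hc]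
      refine Finset.sum_congr rfl fun χ _ => ?_
      split_ifs
      · simp only [map_sub, map_mul, Complex.conj_conj]
        ring
      · simp
    rw [hconj, e1, e2, sub_zero, map_zero]
  have hinner : ∀ ψ : N → ℂ, classInner Δ ψ =
      ∑ χ : IrrCharacter G, c χ * classInner (fun n : N => (χ : G → ℂ) (n : G)) ψ := by
    intro ψ
    rw [hΔfun, classInner_sum_left]
    refine Finset.sum_congr rfl fun χ _ => ?_
    rw [classInner_smul_left]
  have horth : ∀ ψ : IrrCharacter N,
      (∀ x ∈ (P : Subgroup G).subgroupOf N, (ψ : N → ℂ) x = (ψ : N → ℂ) 1) →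
      classInner Δ (ψ : N → ℂ) = 0 := by
    intro ψ hψ
    rw [hinner]
    refine Finset.sum_eq_zero fun χ _ => ?_
    by_cases hχ : χ ∈ B
    · by_cases heq : (fun n : N => (χ : G → ℂ) (n : G)) = (ψ : N → ℂ)
      · have hker : ∀ x ∈ (P : Subgroup G), (χ : G → ℂ) x = (χ : G → ℂ) 1 := by
          intro x hx
          have hxN : x ∈ N := Subgroup.le_normalizer hx
          have h1 := hψ ⟨x, hxN⟩ (Subgroup.mem_subgroupOf.2 hx)
          have h2 := congrFun heq ⟨x, hxN⟩
          have h3 := congrFun heq 1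
          simp only [Subgroup.coe_one] at h3
          simp only at h2
          rw [h2, h3, h1]
        have := hgL χ hχ hker
        simp only [hc, if_pos hχ, this, sub_self, map_zero, zero_mul]
      · rw [Cfsg.Agent.Lib.Helper05.classInner_irr_ne (H χ hχ) ψ.2 heq, mul_zero]
    · simp only [hc, if_neg hχ, zero_mul]
  have hΔ0 : Δ = 0 := eq_zero_of_vanish_singular_of_orth _ hPN hΔcf hsing horth
  have h0 : classInner Δ (fun n : N => (χ₀ : G → ℂ) (n : G)) = 0 := by
    rw [hΔ0, classInner_zero_left]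
  rw [hinner] at h0
  set t : IrrCharacter G → ℂ :=
    fun χ => c χ * classInner (fun n : N => (χ : G → ℂ) (n : G))
      (fun n : N => (χ₀ : G → ℂ) (n : G)) with ht
  have htre : ∀ χ : IrrCharacter G, 0 ≤ (t χ).re := by
    intro χ
    simp only [ht, hc]
    by_cases hχ : χ ∈ B
    · rw [if_pos hχ, Cfsg.Agent.Lib.Helper05.classInner_irr (H χ hχ) (H χ₀ hχ₀)]
      split_ifs
      · rw [mul_one, Complex.conj_re, Complex.sub_re, sub_nonneg]
        exact Cfsg.Agent.Lib.Helper33.char_re_le (IrrCharacter_isCharacter χ) g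
      · rw [mul_zero, Complex.zero_re]
    · rw [if_neg hχ, zero_mul, Complex.zero_re]
  have hsumre : ∑ χ : IrrCharacter G, (t χ).re = 0 := by
    rw [← Complex.re_sum, h0, Complex.zero_re]
  have hall := (Finset.sum_eq_zero_iff_of_nonneg (fun χ _ => htre χ)).1 hsumre χ₀ (Finset.mem_univ _)
  simp only [ht, hc, if_pos hχ₀] at hall
  rw [Cfsg.Agent.Lib.Helper05.classInner_irr_self (H χ₀ hχ₀), mul_one, Complex.conj_re,
    Complex.sub_re, sub_eq_zero] at hall
  exact Cfsg.Agent.Lib.Helper33.char_eq_of_re_eq (IrrCharacter_isCharacter χ₀) hall.symm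

/-- Backward direction: irreducible restrictions force `p`-length one. -/
theorem backward {G : Type u} [Group G] [Finite G] (p : ℕ) [Fact p.Prime] (M : Ideal AlgInt)
    (hM : IsPModular p M) (P : Sylow p G)
    (H : ∀ χ ∈ principalBlock M G,
      IsIrrCharacter ↥(Subgroup.normalizer ((P : Subgroup G) : Set G))
        (fun n : ↥(Subgroup.normalizer ((P : Subgroup G) : Set G)) => (χ : G → ℂ) n)) :
    PLengthLE p 1 G := by
  classical
  haveI : Fintype G := Fintype.ofFinite G
  haveI : Fintype (IrrCharacter G) := Fintype.ofFinite _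
  have hp : p.Prime := Fact.out
  set B := principalBlock M G with hB
  let K : Subgroup G :=
    ⨅ χ : {χ : IrrCharacter G // χ ∈ B}, charKer (IrrCharacter_isCharacter χ.1)
  let L : Subgroup G :=
    ⨅ χ : {χ : IrrCharacter G // χ ∈ B ∧
      ∀ x ∈ (P : Subgroup G), (χ : G → ℂ) x = (χ : G → ℂ) 1},
      charKer (IrrCharacter_isCharacter χ.1)
  haveI hKn : K.Normal := Subgroup.normal_iInf_normal (fun χ => inferInstance)
  haveI hLn : L.Normal := Subgroup.normal_iInf_normal (fun χ => inferInstance)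
  have hmemK : ∀ g : G, g ∈ K ↔ ∀ χ ∈ B, (χ : G → ℂ) g = (χ : G → ℂ) 1 := by
    intro g
    simp only [K, Subgroup.mem_iInf, mem_charKer, Subtype.forall]
  have hmemL : ∀ g : G, g ∈ L ↔ ∀ χ ∈ B,
      (∀ x ∈ (P : Subgroup G), (χ : G → ℂ) x = (χ : G → ℂ) 1) →
        (χ : G → ℂ) g = (χ : G → ℂ) 1 := by
    intro g
    simp only [L, Subgroup.mem_iInf, mem_charKer, Subtype.forall, and_imp]
  have hKL : K ≤ L := fun g hg => (hmemL g).2 (fun χ hχ _ => (hmemK g).1 hg χ hχ)
  have hPL : (P : Subgroup G) ≤ L := fun x hx => (hmemL x).2 (fun χ hχ h => h x hx)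
  have hreg : ∀ g ∈ L, ¬ p ∣ orderOf g → g ∈ K := by
    intro g hgL hg
    rw [hmemK]
    intro χ₀ hχ₀
    exact regular_mem_ker p M hM P H g hg ((hmemL g).1 hgL) χ₀ hχ₀
  have h1reg : ¬ p ∣ orderOf (1 : G) := by
    rw [orderOf_one]
    exact hp.one_lt.ne' ∘ Nat.dvd_one.1
  -- `K` has order prime to `p`
  have hKcop : (Nat.card K).Coprime p := by
    rw [Nat.coprime_comm, Nat.Prime.coprime_iff_not_dvd hp]
    intro hdvd
    obtain ⟨k, hk⟩ := exists_prime_orderOf_dvd_card' p hdvd
    have hk' : orderOf (k : G) = p := by rw [Subgroup.orderOf_coe]; exact hk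
    have hsing : p ∣ orderOf (k : G) := by rw [hk']
    have e1 := weak_block_orthogonality hM (trivChar G) (1 : G) (k : G) h1reg hsing
    have hBt : blockOf M (trivChar G : G → ℂ) = B := rfl
    rw [hBt, finsum_mem_eq_sum_ite] at e1
    have hterm : ∀ χ : IrrCharacter G,
        0 ≤ (if χ ∈ B then (χ : G → ℂ) 1 * conj ((χ : G → ℂ) (k : G)) else 0).re := by
      intro χ
      split_ifs with hχ
      · rw [(hmemK (k : G)).1 k.2 χ hχ, Complex.mul_conj, Complex.ofReal_re]
        exact Complex.normSq_nonneg _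
      · rw [Complex.zero_re]
    have hsumre : ∑ χ : IrrCharacter G,
        (if χ ∈ B then (χ : G → ℂ) 1 * conj ((χ : G → ℂ) (k : G)) else 0).re = 0 := by
      rw [← Complex.re_sum, e1, Complex.zero_re]
    have hall := (Finset.sum_eq_zero_iff_of_nonneg (fun χ _ => hterm χ)).1 hsumre (trivChar G)
      (Finset.mem_univ _)
    have htriv : trivChar G ∈ B := trivChar_mem_principalBlock hM.2.1.isPrime
    rw [if_pos htriv] at hall
    simp only [trivChar_apply, map_one, mul_one, Complex.one_re] at hall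
    exact one_ne_zero hall
  -- `L / K` is a `p`-group
  have hquot : IsPGroup p (↥L ⧸ K.subgroupOf L) := by
    intro q
    obtain ⟨g, rfl⟩ := QuotientGroup.mk_surjective q
    refine ⟨(orderOf (g : G)).factorization p, ?_⟩
    rw [← QuotientGroup.mk_pow, QuotientGroup.eq_one_iff, Subgroup.mem_subgroupOf]
    have hmem : ((g ^ p ^ (orderOf (g : G)).factorization p : ↥L) : G) ∈ L := (g ^ _).2
    apply hreg _ hmem
    rw [Subgroup.coe_pow, orderOf_pow' _ (pow_ne_zero _ hp.ne_zero),
      Nat.gcd_eq_right (Nat.ordProj_dvd _ p)]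
    exact Nat.not_dvd_ordCompl hp (orderOf_pos (g : G)).ne'
  obtain ⟨b, hb⟩ := IsPGroup.iff_card.1 hquot
  have hrel : K.relIndex L = p ^ b := by
    rw [← hb]
    exact Subgroup.index_eq_card _
  have hLidx : (L.index).Coprime p := by
    rw [Nat.coprime_comm, Nat.Prime.coprime_iff_not_dvd hp]
    intro hdvd
    exact P.not_dvd_index (dvd_trans hdvd (Subgroup.index_dvd_of_le hPL))
  have h1 : K ≤ (upperPSeries p G 1).1 :=
    Cfsg.Agent.Lib.Helper67.le_upperPSeries_succ_of_even p 0 (by simp) ⊥ K bot_le bot_le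
      (by rw [Subgroup.relIndex_bot_left]; exact hKcop)
  have h2 : L ≤ (upperPSeries p G 2).1 :=
    Cfsg.Agent.Lib.Helper67.le_upperPSeries_succ_of_odd p 1 (by decide) K L hKL h1 ⟨b, hrel⟩
  have h3 : (⊤ : Subgroup G) ≤ (upperPSeries p G 3).1 :=
    Cfsg.Agent.Lib.Helper67.le_upperPSeries_succ_of_even p 2 (by decide) L ⊤ le_top h2
      (by rw [Subgroup.relIndex_top_right]; exact hLidx)
  show (upperPSeries p G (2 * 1 + 1)).1 = ⊤
  exact top_le_iff.1 h3

/-- Let p be a prime, M a maximal ideal of the algebraic integers containing p, G a finite group, P a Sylow p-subgroup and N = N_G(P). Then G has p-length 1 (G = O_{p',p,p'}(G)) if and only if every irreducible character in the principal p-block of G restricts to an irreducible character of N. -/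
theorem result {G : Type*} [Group G] [Finite G] (p : ℕ) [Fact p.Prime] (M : Ideal Cfsg.AlgInt) (hM : Cfsg.IsPModular p M) (P : Sylow p G) : Cfsg.PLengthLE p 1 G ↔ ∀ χ ∈ Cfsg.principalBlock M G, Cfsg.IsIrrCharacter ↥(Subgroup.normalizer ((P : Subgroup G) : Set G)) (fun n : ↥(Subgroup.normalizer ((P : Subgroup G) : Set G)) => (χ : G → ℂ) n) := by
  constructor
  · intro hpl χ hχ
    exact forward p M hM P hpl χ hχ
  · intro H
    exact backward p M hM P H

end Cfsg.Agent.S4711
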