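import Cfsg.Statements.S4713
import Cfsg.Agent.S0169
import Cfsg.Agent.Lib.Helper79.ItoPSolvable

set_option autoImplicit false
open Cfsg

namespace Cfsg.Agent.S4713

/-- Let p be a prime and G a finite p-solvable group. Then G has a normal abelian Sylow p-subgroup if and only if the degree of every irreducible character of G is prime to p. -/
theorem result {G : Type*} [Group G] [Finite G] (p : ℕ) [Fact p.Prime] (hsolv : Cfsg.IsPSolvable p G) (P : Sylow p G) : ((P : Subgroup G).Normal ∧ IsMulCommutative P) ↔ ∀ χ : Cfsg.IrrCharacter G, ¬ p ∣ Cfsg.charDegree (χ : G → ℂ) := by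
  have hp : p.Prime := Fact.out
  constructor
  · rintro ⟨hPn, hPab⟩ χ hd
    haveI := hPn
    have hPab' : ∀ x ∈ (P : Subgroup G), ∀ y ∈ (P : Subgroup G), x * y = y * x := by
      intro x hx y hy
      have := hPab.is_comm.comm (⟨x, hx⟩ : (P : Subgroup G)) ⟨y, hy⟩
      exact congrArg Subtype.val this
    obtain ⟨n, ρ, hirr, hρ⟩ := χ.2
    haveI := hirr
    have h1 : Module.finrank ℂ (Fin n → ℂ) ∣ (P : Subgroup G).index :=
      Cfsg.Agent.S0169.result ρ (P : Subgroup G) hPab'
    have h2 : Cfsg.charDegree (χ : G → ℂ) = n := by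
      have h3 : ((Cfsg.charDegree (χ : G → ℂ) : ℕ) : ℂ) = (χ : G → ℂ) 1 :=
        Cfsg.Agent.Lib.Helper83.charDegree_cast (Cfsg.Agent.Lib.Helper83.IrrCharacter_isCharacter χ)
      have h4 : (χ : G → ℂ) 1 = (n : ℂ) := by
        rw [← hρ, Cfsg.Agent.Lib.Helper83.rep_char_one]
      rw [h4] at h3
      exact_mod_cast h3
    rw [Module.finrank_fin_fun] at h1
    rw [h2] at hd
    exact P.not_dvd_index (dvd_trans hd h1)
  · intro hdeg
    obtain ⟨P₀, hP₀n, hP₀ab, hP₀p, hP₀idx⟩ :=
      Cfsg.Agent.Lib.Helper79.ito_psolvable_aux p (Nat.card G) G rfl hsolv hdeg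
    haveI := hP₀n
    -- P ≤ P₀ since P₀ contains all p-elements; then equality by maximality
    have hle : (P : Subgroup G) ≤ P₀ := by
      intro x hx
      obtain ⟨k, hk⟩ := P.2 ⟨x, hx⟩
      have hk' : x ^ (p ^ k) = 1 := by
        have := congrArg Subtype.val hk
        simpa using this
      exact Cfsg.Agent.Lib.Helper79.mem_of_pow_eq_one p P₀ hP₀idx x k hk'
    have heq : (P : Subgroup G) = P₀ := (P.3 hP₀p hle).symm
    refine ⟨by rw [heq]; exact hP₀n, ⟨⟨fun a b => ?_⟩⟩⟩
    apply Subtype.ext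
    exact hP₀ab a.1 (hle a.2) b.1 (hle b.2)


end Cfsg.Agent.S4713
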