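import Cfsg.Statements.S4714
import Cfsg.Agent.S0968
import Cfsg.Agent.Lib.Helper22.CentralProduct
import Cfsg.Agent.Lib.Helper22.CentralDefectCount
import Cfsg.Agent.Lib.Helper22.CentralDefectUnique
import Cfsg.Agent.Lib.Helper22.CentralFactor
import Cfsg.Agent.Lib.Helper04.Basis
import Cfsg.Agent.Lib.Helper82.BlockOrthFull
import Cfsg.Agent.Lib.Helper82.Subsection

set_option autoImplicit false
set_option linter.style.haveILetI false
open Cfsg

namespace Cfsg.Agent.S4714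


open Cfsg.Agent.Lib.Helper22 Cfsg.Agent.Lib.Helper82
open scoped ComplexConjugate

/-- The structure of a block with defect group `D` when `G = D C_G(D)`: for every irreducible
character `ζ` of `D` there is exactly one member of the block lying over it, and it equals
`ζ(y) χ(x)` at `y x`. -/
theorem key {G : Type*} [Group G] [Finite G] (p : ℕ) [Fact p.Prime] (M : Ideal Cfsg.AlgInt)
    (hM : Cfsg.IsPModular p M) (D : Subgroup G) (hD : IsPGroup p D)
    (hG : D ⊔ Subgroup.centralizer (D : Set G) = ⊤) (B : Set (Cfsg.IrrCharacter G))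
    (hB : Cfsg.IsPBlock M B) (hBD : Cfsg.IsDefectGroup p M B D) (χ : Cfsg.IrrCharacter G)
    (hχ : χ ∈ B) (hχD : ∀ y ∈ D, (χ : G → ℂ) y = (χ : G → ℂ) 1) :
    ∃ lam : Cfsg.IrrCharacter G → Cfsg.IrrCharacter D,
      (∀ θ ∈ B, ∀ (y : D) (x : G), ¬ p ∣ orderOf x →
        (θ : G → ℂ) ((y : G) * x) = (lam θ : D → ℂ) y * (χ : G → ℂ) x) ∧
      ∀ ζ : Cfsg.IrrCharacter D, ∃ θ ∈ B, lam θ = ζ := by
  classical
  haveI : Fintype G := Fintype.ofFinite G
  haveI : Fintype D := Fintype.ofFinite D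
  haveI : Fintype (IrrCharacter G) := Fintype.ofFinite _
  haveI : Fintype (IrrCharacter D) := Fintype.ofFinite _
  choose lam hlam using exists_irr_factor D hG
  refine ⟨lam, ?_⟩
  set Bf : Finset (IrrCharacter G) := Finset.univ.filter (· ∈ B) with hBfdef
  have hBf : ∀ θ, θ ∈ Bf ↔ θ ∈ B := fun θ => by simp [hBfdef]
  set triv : IrrCharacter D := ⟨fun _ => (1 : ℂ), Cfsg.Agent.Lib.Helper05.isIrrCharacter_one⟩
    with htriv
  have hdegne : ∀ μ : IrrCharacter D, (μ : D → ℂ) 1 ≠ 0 := fun μ =>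
    IsIrrCharacter.apply_one_ne_zero μ.2
  have hχ1 : (χ : G → ℂ) 1 ≠ 0 := IsIrrCharacter.apply_one_ne_zero χ.2
  -- `lam χ` is the trivial character
  have hlamχ : lam χ = triv := by
    have hconst : ∀ u : D, (lam χ : D → ℂ) u = (lam χ : D → ℂ) 1 := by
      intro u
      have h := hlam χ u 1 (Subgroup.one_mem _)
      rw [mul_one, hχD u u.2] at h
      have h' : (χ : G → ℂ) 1 * ((lam χ : D → ℂ) u - (lam χ : D → ℂ) 1) = 0 := by
        linear_combination -h
      have := (mul_eq_zero.1 h').resolve_left hχ1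
      exact sub_eq_zero.1 this
    obtain ⟨n, hn⟩ := IsCharacter.apply_one (IsIrrCharacter.isCharacter (lam χ).2)
    have hsum := sum_irr_mul_conj_irr (lam χ) (lam χ)
    rw [if_pos rfl] at hsum
    have hsum2 : ∑ u : D, (lam χ : D → ℂ) u * conj ((lam χ : D → ℂ) u) =
        (Nat.card D : ℂ) * ((n : ℂ) * (n : ℂ)) := by
      rw [Finset.sum_congr rfl (fun u _ => by rw [hconst u, hn, Complex.conj_natCast])]
      rw [Finset.sum_const, Finset.card_univ, nsmul_eq_mul, Nat.card_eq_fintype_card]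
    have hsum' : (Nat.card D : ℂ) * ((n : ℂ) * (n : ℂ)) = (Nat.card D : ℂ) := by
      rw [← hsum2, hsum]
    have hcard : (Nat.card D : ℂ) ≠ 0 := Nat.cast_ne_zero.2 Nat.card_pos.ne'
    have hnn : (n : ℂ) * (n : ℂ) = 1 := by
      have := mul_left_cancel₀ hcard (hsum'.trans (mul_one _).symm)
      exact this
    have hn1 : n = 1 := by
      have : n * n = 1 := by exact_mod_cast hnn
      exact Nat.eq_one_of_mul_eq_one_right this
    apply Subtype.ext
    funext u
    rw [hconst u, hn, hn1]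
    simp [htriv]
  -- members of the trivial fibre have `D` in the kernel, hence equal `χ`
  have hfib1 : Bf.filter (fun θ => lam θ = triv) = {χ} := by
    ext θ
    rw [Finset.mem_filter, Finset.mem_singleton]
    constructor
    · rintro ⟨hθB, hθ⟩
      have hker : ∀ x ∈ D, (θ : G → ℂ) x = (θ : G → ℂ) 1 := by
        intro x hx
        have := hlam θ ⟨x, hx⟩ 1 (Subgroup.one_mem _)
        rw [hθ] at this
        simpa [htriv] using this
      exact eq_of_ker_of_sup_centralizer hM D hD hG hB hBD θ χ ((hBf θ).1 hθB) hχ hker hχD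
    · rintro rfl
      exact ⟨(hBf _).2 hχ, hlamχ⟩
  -- Step A
  have stepA : ∀ {s s' : G}, ¬ p ∣ orderOf s → ¬ p ∣ orderOf s' →
      ∑ θ ∈ Bf, (θ : G → ℂ) s * conj ((θ : G → ℂ) s') =
        (Nat.card D : ℂ) * ((χ : G → ℂ) s * conj ((χ : G → ℂ) s')) := by
    intro s s' hs hs'
    have h := card_mul_sum_fiber hM D hD hG hB Bf hBf lam hlam hs hs' triv
    rw [hfib1, Finset.sum_singleton] at h
    rw [h]
    simp [htriv]
  -- Step B
  have stepB : ∀ (μ : IrrCharacter D) {s s' : G}, ¬ p ∣ orderOf s → ¬ p ∣ orderOf s' →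
      ∑ θ ∈ Bf.filter (fun θ => lam θ = μ), (θ : G → ℂ) s * conj ((θ : G → ℂ) s') =
        ((μ : D → ℂ) 1) ^ 2 * ((χ : G → ℂ) s * conj ((χ : G → ℂ) s')) := by
    intro μ s s' hs hs'
    have h := card_mul_sum_fiber hM D hD hG hB Bf hBf lam hlam hs hs' μ
    rw [stepA hs hs'] at h
    have hcard : (Nat.card D : ℂ) ≠ 0 := Nat.cast_ne_zero.2 Nat.card_pos.ne'
    apply mul_left_cancel₀ hcard
    rw [h]; ring
  have hreg1 : ¬ p ∣ orderOf (1 : G) := by
    rw [orderOf_one]
    exact fun h => (Fact.out : p.Prime).one_lt.ne' (Nat.dvd_one.1 h)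
  have hnat : ∀ θ : IrrCharacter G, conj ((θ : G → ℂ) 1) = (θ : G → ℂ) 1 := by
    intro θ
    obtain ⟨n, hn⟩ := IsCharacter.apply_one (IsIrrCharacter.isCharacter θ.2)
    rw [hn, Complex.conj_natCast]
  -- each fibre is nonempty
  have hne : ∀ μ : IrrCharacter D, (Bf.filter (fun θ => lam θ = μ)).Nonempty := by
    intro μ
    by_contra hempty
    rw [Finset.not_nonempty_iff_eq_empty] at hempty
    have h := stepB μ hreg1 hreg1
    rw [hempty, Finset.sum_empty, hnat χ] at h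
    have : ((μ : D → ℂ) 1) ^ 2 * ((χ : G → ℂ) 1 * (χ : G → ℂ) 1) ≠ 0 :=
      mul_ne_zero (pow_ne_zero _ (hdegne μ)) (mul_ne_zero hχ1 hχ1)
    exact this h.symm
  -- the fibres are singletons, by counting
  have hcount : Bf.card = Fintype.card (IrrCharacter D) := by
    have h3 := (Cfsg.Agent.S0968.result p M hM D hD hG B hB hBD).2.2
    have h4 : Nat.card B = Bf.card := by
      rw [Nat.card_eq_fintype_card, Fintype.card_subtype]
    rw [← h4, h3, ← Cfsg.Agent.Lib.Helper04.card_irr_eq_card_conjClasses,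
      Nat.card_eq_fintype_card]
  have hfibcard : ∀ μ : IrrCharacter D, (Bf.filter (fun θ => lam θ = μ)).card = 1 := by
    have hsum : ∑ μ : IrrCharacter D, (Bf.filter (fun θ => lam θ = μ)).card = Bf.card :=
      (Finset.card_eq_sum_card_fiberwise (f := lam) (s := Bf) (t := Finset.univ)
        (fun θ _ => Finset.mem_univ _)).symm
    have hge : ∀ μ : IrrCharacter D, 1 ≤ (Bf.filter (fun θ => lam θ = μ)).card :=
      fun μ => Finset.card_pos.2 (hne μ)
    by_contra hcon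
    rw [not_forall] at hcon
    obtain ⟨μ₀, hμ₀⟩ := hcon
    have hlt : ∑ _μ : IrrCharacter D, 1 < ∑ μ : IrrCharacter D,
        (Bf.filter (fun θ => lam θ = μ)).card := by
      apply Finset.sum_lt_sum (fun μ _ => hge μ)
      exact ⟨μ₀, Finset.mem_univ _, lt_of_le_of_ne (hge μ₀) (Ne.symm hμ₀)⟩
    rw [hsum, hcount] at hlt
    simp at hlt
  -- values on `p`-regular elements
  have hval : ∀ θ ∈ B, ∀ s : G, ¬ p ∣ orderOf s →
      (θ : G → ℂ) s = (lam θ : D → ℂ) 1 * (χ : G → ℂ) s := by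
    intro θ hθ s hs
    obtain ⟨θ₀, hθ₀⟩ := Finset.card_eq_one.1 (hfibcard (lam θ))
    have hmem : θ ∈ Bf.filter (fun θ' => lam θ' = lam θ) :=
      Finset.mem_filter.2 ⟨(hBf θ).2 hθ, rfl⟩
    rw [hθ₀, Finset.mem_singleton] at hmem
    subst hmem
    have h11 := stepB (lam θ) hreg1 hreg1
    have hs1 := stepB (lam θ) hs hreg1
    rw [hθ₀, Finset.sum_singleton, hnat θ, hnat χ] at h11 hs1
    -- degrees
    obtain ⟨a, ha⟩ := IsCharacter.apply_one (IsIrrCharacter.isCharacter θ.2)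
    obtain ⟨b, hb⟩ := IsCharacter.apply_one (IsIrrCharacter.isCharacter (lam θ).2)
    obtain ⟨c, hc⟩ := IsCharacter.apply_one (IsIrrCharacter.isCharacter χ.2)
    have hdeg : (θ : G → ℂ) 1 = (lam θ : D → ℂ) 1 * (χ : G → ℂ) 1 := by
      rw [ha, hb, hc] at h11 ⊢
      have h' : a * a = (b * c) * (b * c) := by
        have : ((a * a : ℕ) : ℂ) = (((b * c) * (b * c) : ℕ) : ℂ) := by
          push_cast; rw [h11]; ring
        exact_mod_cast this
      have : a = b * c := Nat.mul_self_inj.1 h'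
      rw [this]; push_cast; ring
    have hθ1 : (θ : G → ℂ) 1 ≠ 0 := IsIrrCharacter.apply_one_ne_zero θ.2
    apply mul_right_cancel₀ hθ1
    rw [hs1, hdeg]; ring
  refine ⟨?_, ?_⟩
  · intro θ hθ y x hx
    have hxC : x ∈ Subgroup.centralizer (D : Set G) := mem_centralizer_of_pRegular p D hD hG x hx
    have h := hlam θ y x hxC
    rw [hval θ hθ x hx] at h
    apply mul_right_cancel₀ (hdegne (lam θ))
    rw [h]; ring
  · intro ζ
    obtain ⟨θ, hθ⟩ := hne ζ
    rw [Finset.mem_filter] at hθ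
    exact ⟨θ, (hBf θ).1 hθ.1, hθ.2⟩

/-- Let p be a prime, M a maximal ideal of the algebraic integers containing p, D a p-subgroup of the finite group G with G = D·C_G(D), and B a p-block with defect group D. Let χ be a member of B having D in its kernel (there is exactly one, the canonical character of B). Then the irreducible characters in B are exactly the functions θ on G for which there is an irreducible character ζ of D such that θ(yx) = ζ(y)χ(x) whenever y ∈ D, x has order prime to p and x commutes with y, and θ(z) = 0 whenever the p-part of z does not lie in D. -/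
theorem result {G : Type*} [Group G] [Finite G] (p : ℕ) [Fact p.Prime] (M : Ideal Cfsg.AlgInt) (hM : Cfsg.IsPModular p M) (D : Subgroup G) (hD : IsPGroup p D) (hG : D ⊔ Subgroup.centralizer (D : Set G) = ⊤) (B : Set (Cfsg.IrrCharacter G)) (hB : Cfsg.IsPBlock M B) (hBD : Cfsg.IsDefectGroup p M B D) (χ : Cfsg.IrrCharacter G) (hχ : χ ∈ B) (hχD : ∀ y ∈ D, (χ : G → ℂ) y = (χ : G → ℂ) 1) : (∀ θ : Cfsg.IrrCharacter G, θ ∈ B ↔ ∃ ζ : Cfsg.IrrCharacter D, (∀ (y : D) (x : G), ¬ p ∣ orderOf x → Commute (y : G) x → (θ : G → ℂ) ((y : G) * x) = (ζ : D → ℂ) y * (χ : G → ℂ) x) ∧ (∀ z : G, (∀ y : G, Cfsg.IsPPart p z y → y ∉ D) → (θ : G → ℂ) z = 0)) ∧ ∀ ζ : Cfsg.IrrCharacter D, ∃ θ ∈ B, (∀ (y : D) (x : G), ¬ p ∣ orderOf x → Commute (y : G) x → (θ : G → ℂ) ((y : G) * x) = (ζ : D → ℂ) y * (χ : G → ℂ) x) ∧ (∀ z : G, (∀ y : G, Cfsg.IsPPart p z y → y ∉ D) → (θ : G → ℂ) z = 0) := by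
  classical
  have hp : p.Prime := Fact.out
  obtain ⟨lam, hlam1, hlam2⟩ := key p M hM D hD hG B hB hBD χ hχ hχD
  have hvan : ∀ θ ∈ B, ∀ z : G, (∀ y : G, Cfsg.IsPPart p z y → y ∉ D) → (θ : G → ℂ) z = 0 := by
    intro θ hθ z hz
    obtain ⟨y, hy⟩ := exists_isPPart hp z (orderOf_pos z)
    exact apply_eq_zero_of_ppart_not_mem hM D hG hB hBD hθ hy (hz y hy)
  have hex : ∀ ζ : Cfsg.IrrCharacter D, ∃ θ ∈ B, (∀ (y : D) (x : G), ¬ p ∣ orderOf x → Commute (y : G) x → (θ : G → ℂ) ((y : G) * x) = (ζ : D → ℂ) y * (χ : G → ℂ) x) ∧ (∀ z : G, (∀ y : G, Cfsg.IsPPart p z y → y ∉ D) → (θ : G → ℂ) z = 0) := by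
    intro ζ
    obtain ⟨θ, hθ, hθζ⟩ := hlam2 ζ
    refine ⟨θ, hθ, ?_, hvan θ hθ⟩
    intro y x hx _
    rw [hlam1 θ hθ y x hx, hθζ]
  refine ⟨?_, hex⟩
  intro θ
  constructor
  · intro hθ
    refine ⟨lam θ, ?_, hvan θ hθ⟩
    intro y x hx _
    exact hlam1 θ hθ y x hx
  · rintro ⟨ζ, h1, h2⟩
    obtain ⟨θ', hθ', h1', h2'⟩ := hex ζ
    have : θ = θ' := by
      apply Subtype.ext
      funext z
      obtain ⟨y, hy⟩ := exists_isPPart hp z (orderOf_pos z)
      by_cases hyD : y ∈ D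
      · obtain ⟨x, hxz, hcomm, _, hx⟩ := hy
        rw [← hxz]
        rw [h1 ⟨y, hyD⟩ x hx hcomm, h1' ⟨y, hyD⟩ x hx hcomm]
      · have hall : ∀ y' : G, Cfsg.IsPPart p z y' → y' ∉ D := by
          intro y' hy'
          rw [isPPart_unique hp hy' hy]
          exact hyD
        rw [h2 z hall, h2' z hall]
    rw [this]; exact hθ'

end Cfsg.Agent.S4714
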