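import Cfsg.Statements.S4716
import Cfsg.Agent.Lib.Helper82.ContribInt
import Cfsg.Agent.Lib.Helper17.CycAMGM

set_option autoImplicit false
set_option linter.style.haveILetI false
open Cfsg

namespace Cfsg.Agent.S4716

open Cfsg.Agent.Lib.Helper82 Cfsg.Agent.Lib.Helper21 Cfsg.Agent.Lib.Helper83
open scoped ComplexConjugate

/-- Counting the pairs of members of a set of irreducible characters. -/
theorem sum_sum_ite_const {α : Type*} [Fintype α] (B : Set α) [DecidablePred (· ∈ B)] (c : ℝ) :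
    ∑ χ : α, ∑ χ' : α, (if χ ∈ B ∧ χ' ∈ B then c else 0) = (Nat.card B : ℝ) ^ 2 * c := by
  have hcard : Nat.card B = (Finset.univ.filter (· ∈ B)).card := by
    rw [Nat.card_eq_fintype_card, Fintype.card_subtype]
  have h1 : ∀ χ : α, ∑ χ' : α, (if χ ∈ B ∧ χ' ∈ B then c else 0) =
      if χ ∈ B then (Nat.card B : ℝ) * c else 0 := by
    intro χ
    by_cases hχ : χ ∈ B
    · simp only [hχ, true_and, if_true]
      rw [← Finset.sum_filter, Finset.sum_const, nsmul_eq_mul, hcard]
    · simp only [hχ, false_and, if_false, Finset.sum_const_zero]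
  rw [Finset.sum_congr rfl fun χ _ => h1 χ, ← Finset.sum_filter, Finset.sum_const, nsmul_eq_mul,
    ← hcard]
  ring

/-- Let p be a prime, M a maximal ideal of the algebraic integers containing p, and B a p-block of defect d of the finite group G all of whose irreducible characters have height zero. Let y be a p-element, C = C_G(y), and b a block of C inducing B and having the same defect d (a major subsection). Then k(B)^2 ≤ p^(2d)·l(b), where k(B) is the number of irreducible characters in B and l(b) the p-regular rank of b (its number of irreducible Brauer characters); in particular (y = 1) k(B)^2 ≤ p^(2d)·l(B). -/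
theorem result {G : Type*} [Group G] [Finite G] (p : ℕ) [Fact p.Prime] (M : Ideal Cfsg.AlgInt) (hM : Cfsg.IsPModular p M) (B : Set (Cfsg.IrrCharacter G)) (hB : Cfsg.IsPBlock M B) (d : ℕ) (hd : Cfsg.blockDefect p B = d) (hh : ∀ χ ∈ B, Cfsg.blockHeight p B (χ : G → ℂ) = 0) (y : G) (hy : ∃ k : ℕ, orderOf y = p ^ k) (b : Set (Cfsg.IrrCharacter ↥(Subgroup.centralizer ({y} : Set G)))) (hind : Cfsg.IsInducedBlock M (Subgroup.centralizer ({y} : Set G)) b B) (hbd : Cfsg.blockDefect p b = d) : Nat.card B ^ 2 ≤ p ^ (2 * d) * Cfsg.blockRank p b := by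
  classical
  haveI : Fintype G := Fintype.ofFinite G
  haveI : Fintype (IrrCharacter G) := Fintype.ofFinite _
  haveI : Fintype (Subgroup.centralizer ({y} : Set G)) := Fintype.ofFinite _
  haveI : Fintype (IrrCharacter (Subgroup.centralizer ({y} : Set G))) := Fintype.ofFinite _
  have hp : p.Prime := Fact.out
  have hMp : M.IsPrime := hM.2.1.isPrime
  obtain ⟨χ₀, rfl⟩ := hB
  obtain ⟨k₀, hk₀⟩ := hy
  haveI : NeZero (orderOf y) := ⟨(orderOf_pos y).ne'⟩
  subst hbd
  -- the scaled contributions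
  set t : (ZMod (orderOf y))ˣ → IrrCharacter G → IrrCharacter G → ℂ :=
    fun j χ χ' => ((p ^ blockDefect p b : ℕ) : ℂ) *
      contrib p b (y ^ (j : ZMod (orderOf y)).val) (χ : G → ℂ) (χ' : G → ℂ) with ht
  -- the squares of the contributions of each subsection add up to `l(b)`
  have hI1 : ∀ j : (ZMod (orderOf y))ˣ, ∑ χ : IrrCharacter G, ∑ χ' : IrrCharacter G,
      (if χ ∈ blockOf M (χ₀ : G → ℂ) ∧ χ' ∈ blockOf M (χ₀ : G → ℂ) then
        Complex.normSq (t j χ χ') else 0) =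
      ((p ^ blockDefect p b : ℕ) : ℝ) ^ 2 * (blockRank p b : ℝ) := by
    intro j
    have hcop : Nat.Coprime (j : ZMod (orderOf y)).val (orderOf y) := ZMod.val_coe_unit_coprime j
    have hx : ∃ k : ℕ, orderOf (y ^ (j : ZMod (orderOf y)).val) = p ^ k :=
      ⟨k₀, by rw [Nat.Coprime.orderOf_pow hcop.symm, hk₀]⟩
    have hC : Subgroup.centralizer ({y} : Set G) =
        Subgroup.centralizer ({y ^ (j : ZMod (orderOf y)).val} : Set G) :=
      (centralizer_pow_eq_of_coprime y _ hcop).symm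
    have h := sum_sum_contrib_mul_conj' hM hx (Subgroup.centralizer ({y} : Set G)) hC χ₀ b hind
    have hreal : ∑ χ : IrrCharacter G, ∑ χ' : IrrCharacter G,
        (if χ ∈ blockOf M (χ₀ : G → ℂ) ∧ χ' ∈ blockOf M (χ₀ : G → ℂ) then
          Complex.normSq (contrib p b (y ^ (j : ZMod (orderOf y)).val) (χ : G → ℂ) (χ' : G → ℂ))
          else 0) = (blockRank p b : ℝ) := by
      apply Complex.ofReal_injective
      rw [Complex.ofReal_natCast, ← h, Complex.ofReal_sum]
      refine Finset.sum_congr rfl fun χ _ => ?_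
      rw [Complex.ofReal_sum]
      refine Finset.sum_congr rfl fun χ' _ => ?_
      split_ifs
      · rw [Complex.mul_conj]
      · rw [Complex.ofReal_zero]
    rw [← hreal, Finset.mul_sum]
    refine Finset.sum_congr rfl fun χ _ => ?_
    rw [Finset.mul_sum]
    refine Finset.sum_congr rfl fun χ' _ => ?_
    split_ifs
    · rw [ht]
      simp only
      rw [Complex.normSq_mul, Complex.normSq_natCast]
      ring
    · rw [mul_zero]
  -- the cyclotomic arithmetic-geometric mean inequality for each pair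
  have hI2 : ∀ χ ∈ blockOf M (χ₀ : G → ℂ), ∀ χ' ∈ blockOf M (χ₀ : G → ℂ),
      (Fintype.card (ZMod (orderOf y))ˣ : ℝ) ≤
        ∑ j : (ZMod (orderOf y))ˣ, Complex.normSq (t j χ χ') := by
    intro χ hχ χ' hχ'
    have hμ : ∀ i, cenMu y i ^ orderOf y = 1 := cenMu_pow_orderOf y
    have hμ' : ∀ i, cenMu y i ^ (p ^ k₀) = 1 := by
      intro i
      rw [← hk₀]
      exact hμ i
    have hnd := not_dvd_sum_contribCoeff p hM y b (blockOf M (χ₀ : G → ℂ)) hind χ χ' hχ hχ'
      (hh χ hχ) (hh χ' hχ')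
    have hne : ∀ j : (ZMod (orderOf y))ˣ,
        ∑ i, ((contribCoeff p y b χ χ' i : ℤ) : ℂ) * cenMu y i ^ (j : ZMod (orderOf y)).val ≠ 0 :=
      fun j => sum_mul_pow_ne_zero_of_not_dvd hM _ _ k₀ hμ' hnd _
    have hK := Cfsg.Agent.Lib.Helper17.CycAMGM.card_units_le_sum_normSq_conj (orderOf y)
      (contribCoeff p y b χ χ') (cenMu y) hμ hne
    refine le_trans hK (le_of_eq ?_)
    refine Finset.sum_congr rfl fun j _ => ?_
    rw [ht]
    simp only
    rw [contrib_pow_eq_sum_coeff]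
  -- assembly
  set φ : ℝ := (Fintype.card (ZMod (orderOf y))ˣ : ℝ) with hφ
  have hφpos : 0 < φ := by
    rw [hφ]
    exact_mod_cast Fintype.card_pos
  have hsum1 : ∑ j : (ZMod (orderOf y))ˣ, ∑ χ : IrrCharacter G, ∑ χ' : IrrCharacter G,
      (if χ ∈ blockOf M (χ₀ : G → ℂ) ∧ χ' ∈ blockOf M (χ₀ : G → ℂ) then
        Complex.normSq (t j χ χ') else 0) =
      φ * (((p ^ blockDefect p b : ℕ) : ℝ) ^ 2 * (blockRank p b : ℝ)) := by
    rw [Finset.sum_congr rfl fun j _ => hI1 j, Finset.sum_const, Finset.card_univ, nsmul_eq_mul]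
  have hsum2 : (Nat.card (blockOf M (χ₀ : G → ℂ)) : ℝ) ^ 2 * φ ≤
      ∑ j : (ZMod (orderOf y))ˣ, ∑ χ : IrrCharacter G, ∑ χ' : IrrCharacter G,
      (if χ ∈ blockOf M (χ₀ : G → ℂ) ∧ χ' ∈ blockOf M (χ₀ : G → ℂ) then
        Complex.normSq (t j χ χ') else 0) := by
    have hswap : ∑ j : (ZMod (orderOf y))ˣ, ∑ χ : IrrCharacter G, ∑ χ' : IrrCharacter G,
        (if χ ∈ blockOf M (χ₀ : G → ℂ) ∧ χ' ∈ blockOf M (χ₀ : G → ℂ) then
          Complex.normSq (t j χ χ') else 0) =
        ∑ χ : IrrCharacter G, ∑ χ' : IrrCharacter G, ∑ j : (ZMod (orderOf y))ˣ,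
        (if χ ∈ blockOf M (χ₀ : G → ℂ) ∧ χ' ∈ blockOf M (χ₀ : G → ℂ) then
          Complex.normSq (t j χ χ') else 0) := by
      rw [Finset.sum_comm]
      refine Finset.sum_congr rfl fun χ _ => ?_
      rw [Finset.sum_comm]
    rw [hswap, ← sum_sum_ite_const]
    refine Finset.sum_le_sum fun χ _ => ?_
    refine Finset.sum_le_sum fun χ' _ => ?_
    by_cases h : χ ∈ blockOf M (χ₀ : G → ℂ) ∧ χ' ∈ blockOf M (χ₀ : G → ℂ)
    · simp only [if_pos h]
      exact hI2 χ h.1 χ' h.2
    · rw [if_neg h]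
      refine Finset.sum_nonneg fun j _ => ?_
      rw [if_neg h]
  rw [hsum1] at hsum2
  have hfinal : (Nat.card (blockOf M (χ₀ : G → ℂ)) : ℝ) ^ 2 ≤
      ((p ^ blockDefect p b : ℕ) : ℝ) ^ 2 * (blockRank p b : ℝ) := by
    have h1 : (Nat.card (blockOf M (χ₀ : G → ℂ)) : ℝ) ^ 2 * φ ≤
        (((p ^ blockDefect p b : ℕ) : ℝ) ^ 2 * (blockRank p b : ℝ)) * φ := by
      rw [mul_comm (((p ^ blockDefect p b : ℕ) : ℝ) ^ 2 * (blockRank p b : ℝ)) φ]
      exact hsum2
    exact le_of_mul_le_mul_right h1 hφpos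
  have hcast : ((Nat.card (blockOf M (χ₀ : G → ℂ)) ^ 2 : ℕ) : ℝ) ≤
      ((p ^ (2 * blockDefect p b) * blockRank p b : ℕ) : ℝ) := by
    have hpow : ((p ^ blockDefect p b : ℕ) : ℝ) ^ 2 = (p : ℝ) ^ (2 * blockDefect p b) := by
      push_cast
      rw [← pow_mul, mul_comm]
    rw [hpow] at hfinal
    push_cast
    exact hfinal
  exact_mod_cast hcast

end Cfsg.Agent.S4716
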