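import Cfsg.Statements.S4717
import Cfsg.Agent.Lib.Helper82.MajorSubsection
import Cfsg.Agent.Lib.Helper21.OsimaApps
import Cfsg.Agent.Lib.Helper21.BrauerCorr
import Cfsg.Agent.Lib.Helper22.DefectConj
import Cfsg.Agent.S0936
import Cfsg.Agent.S0917
import Cfsg.Agent.S0919

set_option autoImplicit false
set_option linter.style.haveILetI false
open Cfsg

namespace Cfsg.Agent.S4717

open Cfsg.Agent.Lib.Helper82 Cfsg.Agent.Lib.Helper21 Cfsg.Agent.Lib.Helper22

theorem centralizer_zpowers_eq' {G : Type*} [Group G] (u : G) :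
    Subgroup.centralizer (Subgroup.zpowers u : Set G) = Subgroup.centralizer ({u} : Set G) := by
  ext g
  rw [Subgroup.mem_centralizer_singleton_iff, Subgroup.mem_centralizer_iff]
  constructor
  · intro h
    exact (h u (Subgroup.mem_zpowers u)).symm
  · intro h y hy
    obtain ⟨k, rfl⟩ := Subgroup.mem_zpowers_iff.1 hy
    have hc : Commute g u := h
    exact ((hc.zpow_right k).eq).symm

/-- Every block has a defect group. -/
theorem exists_defectGroup {H : Type*} [Group H] [Finite H] (p : ℕ) [Fact p.Prime]
    (M : Ideal Cfsg.AlgInt) (hM : Cfsg.IsPModular p M) (b : Set (Cfsg.IrrCharacter H))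
    (hb : Cfsg.IsPBlock M b) : ∃ D : Subgroup H, Cfsg.IsDefectGroup p M b D := by
  classical
  haveI : Fintype H := Fintype.ofFinite H
  haveI : Fintype (IrrCharacter H) := Fintype.ofFinite _
  obtain ⟨ψ₀, rfl⟩ := hb
  obtain ⟨g, hg⟩ := exists_isDefectClass hM.2.1.isPrime ψ₀
  obtain ⟨P⟩ : Nonempty (Sylow p (Subgroup.centralizer ({g} : Set H))) := inferInstance
  exact ⟨_, g, hg, P, rfl⟩

/-- Let p be a prime, M a maximal ideal of the algebraic integers containing p, and r a natural number; say that a finite group X has deficiency class r when X has no non-principal p-block of defect ≥ r. If G has deficiency class r then so does the centralizer of every p-element of G; conversely, if r > 0 and the centralizer of every element of order p has deficiency class r, then G has deficiency class r. -/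
theorem result {G : Type*} [Group G] [Finite G] (p : ℕ) [Fact p.Prime] (M : Ideal Cfsg.AlgInt) (hM : Cfsg.IsPModular p M) (r : ℕ) : ((∀ B' : Set (Cfsg.IrrCharacter G), Cfsg.IsPBlock M B' → B' ≠ Cfsg.principalBlock M G → Cfsg.blockDefect p B' < r) → ∀ y : G, (∃ k : ℕ, orderOf y = p ^ k) → (∀ B' : Set (Cfsg.IrrCharacter ↥(Subgroup.centralizer ({y} : Set G))), Cfsg.IsPBlock M B' → B' ≠ Cfsg.principalBlock M ↥(Subgroup.centralizer ({y} : Set G)) → Cfsg.blockDefect p B' < r)) ∧ (0 < r → (∀ y : G, orderOf y = p → (∀ B' : Set (Cfsg.IrrCharacter ↥(Subgroup.centralizer ({y} : Set G))), Cfsg.IsPBlock M B' → B' ≠ Cfsg.principalBlock M ↥(Subgroup.centralizer ({y} : Set G)) → Cfsg.blockDefect p B' < r)) → (∀ B' : Set (Cfsg.IrrCharacter G), Cfsg.IsPBlock M B' → B' ≠ Cfsg.principalBlock M G → Cfsg.blockDefect p B' < r)) := by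
  classical
  haveI : Fintype G := Fintype.ofFinite G
  haveI : Fintype (IrrCharacter G) := Fintype.ofFinite _
  have hp : p.Prime := hM.1
  have hMp : M.IsPrime := hM.2.1.isPrime
  refine ⟨?_, ?_⟩
  · -- the centralizers inherit the deficiency class
    intro hG y hy B' hB' hne
    obtain ⟨k, hk⟩ := hy
    have hP : IsPGroup p (Subgroup.zpowers y) := by
      apply IsPGroup.of_card (n := k)
      rw [Nat.card_zpowers, hk]
    have hPH : Subgroup.zpowers y ≤ Subgroup.centralizer ({y} : Set G) := by
      rw [Subgroup.zpowers_le]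
      exact Subgroup.mem_centralizer_singleton_iff.2 rfl
    have hCH : Subgroup.centralizer (Subgroup.zpowers y : Set G) ≤
        Subgroup.centralizer ({y} : Set G) := (centralizer_zpowers_eq' y).le
    have hHN : Subgroup.centralizer ({y} : Set G) ≤
        Subgroup.normalizer (Subgroup.zpowers y : Set G) := by
      rw [← centralizer_zpowers_eq' y]
      exact Subgroup.centralizer_le_normalizer _
    obtain ⟨B, hind⟩ := Cfsg.Agent.S0919.result p M hM (Subgroup.zpowers y)
      (Subgroup.centralizer ({y} : Set G)) hP hPH hCH hHN B' hB'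
    have hBne : B ≠ Cfsg.principalBlock M G := by
      rintro rfl
      exact hne ((Cfsg.Agent.S0936.result p M hM (Subgroup.centralizer ({y} : Set G)) B'
        ⟨_, hind⟩).1 hind)
    have hlt := hG B hind.2.1 hBne
    obtain ⟨D, hD⟩ := exists_defectGroup p M hM B' hB'
    obtain ⟨E, hE, hDE⟩ := Cfsg.Agent.S0917.result p M hM (Subgroup.centralizer ({y} : Set G))
      B' hB' B hind.2.1 hind D hD
    have h1 := IsDefectGroup.card_eq hM hB' hD
    have h2 := IsDefectGroup.card_eq hM hind.2.1 hE
    have h3 : Nat.card (D.map (Subgroup.centralizer ({y} : Set G)).subtype) = Nat.card D :=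
      Subgroup.card_map_of_injective (Subgroup.subtype_injective _)
    have h4 : Nat.card (D.map (Subgroup.centralizer ({y} : Set G)).subtype) ≤ Nat.card E :=
      Subgroup.card_le_of_le hDE
    rw [h3, h1, h2] at h4
    have h5 := (Nat.pow_le_pow_iff_right hp.one_lt).1 h4
    omega
  · -- conversely
    intro hr hC B' hB' hne
    by_contra hge
    push Not at hge
    obtain ⟨χ₀, rfl⟩ := hB'
    obtain ⟨g₀, hg₀⟩ := exists_isDefectClass hMp χ₀
    obtain ⟨P⟩ : Nonempty (Sylow p (Subgroup.centralizer ({g₀} : Set G))) := inferInstance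
    have hDG : IsDefectGroup p M (blockOf M (χ₀ : G → ℂ))
        ((P : Subgroup (Subgroup.centralizer ({g₀} : Set G))).map
          (Subgroup.centralizer ({g₀} : Set G)).subtype) := ⟨g₀, hg₀, P, rfl⟩
    have hcardP : Nat.card (P : Subgroup (Subgroup.centralizer ({g₀} : Set G))) =
        p ^ blockDefect p (blockOf M (χ₀ : G → ℂ)) := by
      rw [← IsDefectGroup.card_eq hM ⟨χ₀, rfl⟩ hDG]
      exact (Subgroup.card_map_of_injective (Subgroup.subtype_injective _)).symm
    have hPpg : IsPGroup p (P : Subgroup (Subgroup.centralizer ({g₀} : Set G))) := P.isPGroup'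
    haveI : Nontrivial (P : Subgroup (Subgroup.centralizer ({g₀} : Set G))) := by
      rw [← Finite.one_lt_card_iff_nontrivial, hcardP]
      exact Nat.one_lt_pow (by omega) hp.one_lt
    haveI hZnt : Nontrivial (Subgroup.center (P : Subgroup (Subgroup.centralizer ({g₀} : Set G)))) :=
      hPpg.center_nontrivial
    have hZpg : IsPGroup p (Subgroup.center (P : Subgroup (Subgroup.centralizer ({g₀} : Set G)))) :=
      hPpg.to_subgroup _
    have hdvd : p ∣ Nat.card (Subgroup.center (P : Subgroup (Subgroup.centralizer ({g₀} : Set G)))) := by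
      rcases hZpg.card_eq_or_dvd with h | h
      · exfalso
        have := Finite.one_lt_card_iff_nontrivial.2 hZnt
        omega
      · exact h
    obtain ⟨z, hz⟩ := exists_prime_orderOf_dvd_card' p hdvd
    set x : Subgroup.centralizer ({g₀} : Set G) :=
      ((z : (P : Subgroup (Subgroup.centralizer ({g₀} : Set G)))) :
        Subgroup.centralizer ({g₀} : Set G)) with hx
    have hxP : x ∈ (P : Subgroup (Subgroup.centralizer ({g₀} : Set G))) :=
      (z : (P : Subgroup (Subgroup.centralizer ({g₀} : Set G)))).2
    have hxZ : ∀ w ∈ (P : Subgroup (Subgroup.centralizer ({g₀} : Set G))), x * w = w * x := by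
      intro w hw
      have h1 := Subgroup.mem_center_iff.1 z.2 ⟨w, hw⟩
      have h2 := congrArg (fun q : (P : Subgroup (Subgroup.centralizer ({g₀} : Set G))) =>
        (q : Subgroup.centralizer ({g₀} : Set G))) h1
      exact h2.symm
    have hord : orderOf (x : G) = p := by
      rw [Subgroup.orderOf_coe, hx, Subgroup.orderOf_coe, Subgroup.orderOf_coe, hz]
    obtain ⟨b, hind, hle⟩ := exists_induced_block_defect_ge hM χ₀ g₀ hg₀ P x hxP hxZ
    have hbne : b ≠ Cfsg.principalBlock M (Subgroup.centralizer ({(x : G)} : Set G)) := by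
      rintro rfl
      have h1 := (Cfsg.Agent.S0936.result p M hM (Subgroup.centralizer ({(x : G)} : Set G)) _
        ⟨_, hind⟩).2 rfl
      exact hne (isInducedBlock_unique hMp _ hind h1)
    have := hC (x : G) hord b hind.1 hbne
    omega

end Cfsg.Agent.S4717
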