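import Cfsg.Statements.S4720
import Cfsg.Agent.Lib.Helper82.BlockOrthFull
import Cfsg.Agent.Lib.Helper22.SectionOrth
import Cfsg.Agent.Lib.Helper22.PrincipalSection
import Cfsg.Agent.Lib.Helper81.ThirdMain
import Cfsg.Agent.Lib.Helper04.IndFun

set_option autoImplicit false
set_option linter.style.haveILetI false
set_option linter.unusedVariables false
open Cfsg

namespace Cfsg.Agent.S4720

open Cfsg.Agent.Lib.Helper21 Cfsg.Agent.Lib.Helper82 Cfsg.Agent.Lib.Helper83 Cfsg.Agent.Lib.Helper22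
open Cfsg.Agent.Lib.Helper81
open scoped ComplexConjugate

/-- The norm sum of the principal block at a `p`-element `z` is the sum of the squares of the
degrees of the principal block of `C_G(z)`. -/
theorem sum_principal_normsq {G : Type*} [Group G] [Fintype G] [Fintype (IrrCharacter G)]
    (p : ℕ) [Fact p.Prime] (M : Ideal AlgInt) (hM : IsPModular p M) (z : G)
    (hz : ∃ k : ℕ, orderOf z = p ^ k)
    [Fintype (Subgroup.centralizer ({z} : Set G))]
    [Fintype (IrrCharacter (Subgroup.centralizer ({z} : Set G)))]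
    [DecidablePred (· ∈ principalBlock M G)]
    [DecidablePred (· ∈ principalBlock M (Subgroup.centralizer ({z} : Set G)))] :
    ∑ ζ : IrrCharacter G, (if ζ ∈ principalBlock M G then
        conj ((ζ : G → ℂ) z) * (ζ : G → ℂ) z else 0) =
      ∑ χ : IrrCharacter (Subgroup.centralizer ({z} : Set G)),
        if χ ∈ principalBlock M (Subgroup.centralizer ({z} : Set G)) then
          (χ : Subgroup.centralizer ({z} : Set G) → ℂ) 1 *
            conj ((χ : Subgroup.centralizer ({z} : Set G) → ℂ) 1) else 0 := by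
  classical
  let χ₀ : IrrCharacter (Subgroup.centralizer ({z} : Set G)) :=
    trivChar (Subgroup.centralizer ({z} : Set G))
  have h1reg : ¬ p ∣ orderOf (1 : Subgroup.centralizer ({z} : Set G)) := by
    rw [orderOf_one]
    exact (Fact.out : p.Prime).one_lt.ne' ∘ Nat.dvd_one.1
  have h2 := sum_blockPart_shift z hM hz χ₀ 1 h1reg
  have h3 : blockOf M (χ₀ : Subgroup.centralizer ({z} : Set G) → ℂ) =
      principalBlock M (Subgroup.centralizer ({z} : Set G)) := rfl
  rw [h3] at h2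
  convert h2 using 1
  · refine Finset.sum_congr rfl fun ζ _ => ?_
    rw [blockPart_principal_shift hM z hz ζ 1 h1reg]
    have : ((1 : Subgroup.centralizer ({z} : Set G)) : G) = 1 := rfl
    rw [this, mul_one]
    split_ifs
    · rw [mul_comm]
    · rw [zero_mul]
  · refine Finset.sum_congr rfl fun χ _ => ?_
    congr 1

theorem isPPart_self_of_pElement {G : Type*} [Group G] {p : ℕ} (hp : p.Prime) {y : G}
    (hy : ∃ k : ℕ, orderOf y = p ^ k) : IsPPart p y y :=
  ⟨1, mul_one y, Commute.one_right y, hy, by rw [orderOf_one]; exact hp.one_lt.ne' ∘ Nat.dvd_one.1⟩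

/-- Block orthogonality for the principal block at `p`-elements. -/
theorem sum_principal_conj_mul {G : Type*} [Group G] [Fintype G] [Fintype (IrrCharacter G)]
    (p : ℕ) [Fact p.Prime] (M : Ideal AlgInt) (hM : IsPModular p M) (y y' : G)
    (hy : ∃ k : ℕ, orderOf y = p ^ k) (hy' : ∃ k : ℕ, orderOf y' = p ^ k)
    [DecidablePred (· ∈ principalBlock M G)] [Decidable (IsConj y y')] :
    ∑ ζ : IrrCharacter G, (if ζ ∈ principalBlock M G then
        conj ((ζ : G → ℂ) y) * (ζ : G → ℂ) y' else 0) =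
      if IsConj y y' then ∑ ζ : IrrCharacter G, (if ζ ∈ principalBlock M G then
        conj ((ζ : G → ℂ) y) * (ζ : G → ℂ) y else 0) else 0 := by
  classical
  have hp : p.Prime := hM.1
  split_ifs with hc
  · obtain ⟨g, hg⟩ := isConj_iff.1 hc
    refine Finset.sum_congr rfl fun ζ _ => ?_
    rw [← hg, isClassFunction_irr ζ y g]
  · have h0 := sum_block_mul_eq_zero_of_not_isConj hM (trivChar G) y' y⁻¹ y' y
      (isPPart_self_of_pElement hp hy') (by rw [inv_inv]; exact isPPart_self_of_pElement hp hy)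
      (fun h => hc h.symm)
    rw [← principalBlock_eq_blockOf_trivChar, finsum_mem_eq_sum_ite] at h0
    refine Eq.trans ?_ h0
    refine Finset.sum_congr rfl fun ζ _ => ?_
    split_ifs
    · rw [char_inv (IrrCharacter_isCharacter ζ) y, mul_comm]
    · rfl

/-- Counting the elements of `N` conjugating `y` to `y'`. -/
theorem card_filter_conj {G : Type*} [Group G] [Fintype G] (N : Subgroup G) [Fintype N] (y y' : G)
    [DecidablePred fun x : N => (x : G) * y * (x : G)⁻¹ = y']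
    (h : ∃ n ∈ N, n * y * n⁻¹ = y') :
    (Finset.univ.filter (fun x : N => (x : G) * y * (x : G)⁻¹ = y')).card =
      Nat.card ↥(N ⊓ Subgroup.centralizer ({y} : Set G)) := by
  classical
  obtain ⟨n₀, hn₀, hn₀y⟩ := h
  rw [← Fintype.card_subtype, ← Nat.card_eq_fintype_card]
  symm
  apply Nat.card_congr
  refine
    { toFun := fun c => ⟨⟨n₀ * (c : G), N.mul_mem hn₀ c.2.1⟩, ?_⟩
      invFun := fun x => ⟨n₀⁻¹ * ((x : N) : G), ⟨N.mul_mem (N.inv_mem hn₀) (x : N).2, ?_⟩⟩
      left_inv := fun c => by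
        apply Subtype.ext
        show n₀⁻¹ * (n₀ * (c : G)) = (c : G)
        group
      right_inv := fun x => by
        apply Subtype.ext
        apply Subtype.ext
        show n₀ * (n₀⁻¹ * ((x : N) : G)) = ((x : N) : G)
        group }
  · have hc : (c : G) * y = y * (c : G) := Subgroup.mem_centralizer_singleton_iff.1 c.2.2
    show n₀ * (c : G) * y * (n₀ * (c : G))⁻¹ = y'
    rw [← hn₀y]
    calc n₀ * (c : G) * y * (n₀ * (c : G))⁻¹ = n₀ * ((c : G) * y) * (c : G)⁻¹ * n₀⁻¹ := by group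
      _ = n₀ * (y * (c : G)) * (c : G)⁻¹ * n₀⁻¹ := by rw [hc]
      _ = n₀ * y * n₀⁻¹ := by group
  · show n₀⁻¹ * ((x : N) : G) ∈ Subgroup.centralizer ({y} : Set G)
    rw [Subgroup.mem_centralizer_singleton_iff]
    have hx : ((x : N) : G) * y * ((x : N) : G)⁻¹ = y' := x.2
    have : y = n₀⁻¹ * y' * n₀ := by rw [← hn₀y]; group
    calc n₀⁻¹ * ((x : N) : G) * y = n₀⁻¹ * (((x : N) : G) * y * ((x : N) : G)⁻¹) * ((x : N) : G) := by
          group
      _ = n₀⁻¹ * y' * ((x : N) : G) := by rw [hx]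
      _ = (n₀⁻¹ * y' * n₀) * (n₀⁻¹ * ((x : N) : G)) := by group
      _ = y * (n₀⁻¹ * ((x : N) : G)) := by rw [← this]

/-- Let p be a prime, M a maximal ideal of the algebraic integers containing p, P a p-subgroup of the finite group G, N a subgroup with P ≤ N ≤ N_G(P), and U a nonempty subset of P normalized by N such that an element of U and an element of P that are conjugate in G are already conjugate in N, and such that λ(C_G(y)) = w·#C_N(y) for every y ∈ U with one rational number w, where λ(X) denotes the sum of the squares of the degrees of the irreducible characters in the principal p-block of X. For a complex function θ on P and χ in the principal block of G put a_χ(θ) = #P⁻¹ Σ_{y ∈ P} χ(y) θ(y⁻¹). Then for generalized characters θ, η of P with θ vanishing outside U, Σ_χ a_χ(θ)·conj(a_χ(η)) = (w/#P²)·Σ_{y ∈ P} θ(y)·conj(Σ_{x ∈ N} η(x y x⁻¹)) (η extended by zero off P; the conjugates lie in P), the first sum over the principal p-block of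 G. -/
theorem result {G : Type*} [Group G] [Finite G] (p : ℕ) [Fact p.Prime] (M : Ideal Cfsg.AlgInt) (hM : Cfsg.IsPModular p M) (P : Subgroup G) (hP : IsPGroup p P) (N : Subgroup G) (hPN : P ≤ N) (hNN : N ≤ Subgroup.normalizer (P : Set G)) (U : Set G) (hUne : U.Nonempty) (hUP : U ⊆ (P : Set G)) (hUN : ∀ n ∈ N, ∀ u ∈ U, n * u * n⁻¹ ∈ U) (hfus : ∀ u ∈ U, ∀ g : G, g * u * g⁻¹ ∈ (P : Set G) → ∃ n ∈ N, n * u * n⁻¹ = g * u * g⁻¹) (w : ℚ) (hw : ∀ y ∈ U, ((∑ᶠ ψ ∈ Cfsg.principalBlock M ↥(Subgroup.centralizer ({y} : Set G)), Cfsg.charDegree (ψ : ↥(Subgroup.centralizer ({y} : Set G)) → ℂ) ^ 2) : ℚ) = w * Nat.card ↥(N ⊓ Subgroup.centralizer ({y} : Set G))) (θ η : ↥P → ℂ) (hθ : Cfsg.IsGeneralizedCharacter ↥P θ) (hη : Cfsg.IsGeneralizedCharacter ↥P η) (hθU : ∀ y : ↥P, (y : G) ∉ U → θ y = 0) : ∑ᶠ χ ∈ Cfsg.principalBlock M G, ((Nat.card ↥P : ℂ)⁻¹ * ∑ᶠ y : ↥P, (χ : G → ℂ) (y : G) * θ y⁻¹) * (starRingEnd ℂ) ((Nat.card ↥P : ℂ)⁻¹ * ∑ᶠ y : ↥P, (χ : G → ℂ) (y : G) * η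 y⁻¹) = ((w : ℂ) / ((Nat.card ↥P : ℂ) ^ 2)) * ∑ᶠ y : ↥P, θ y * (starRingEnd ℂ) (∑ᶠ x : ↥N, Cfsg.extendByZero P η ((x : G) * (y : G) * (x : G)⁻¹)) := by
  classical
  haveI : Fintype G := Fintype.ofFinite G
  haveI : Fintype (IrrCharacter G) := Fintype.ofFinite _
  haveI : Fintype P := Fintype.ofFinite _
  haveI : Fintype N := Fintype.ofFinite _
  have hp : p.Prime := hM.1
  have hpel : ∀ y : P, ∃ k : ℕ, orderOf (y : G) = p ^ k := by
    intro y
    obtain ⟨k, hk⟩ := (IsPGroup.iff_orderOf.1 hP) y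
    exact ⟨k, by rw [Subgroup.orderOf_coe, hk]⟩
  set Λ : G → ℂ := fun y => ∑ ζ : IrrCharacter G,
    (if ζ ∈ principalBlock M G then conj ((ζ : G → ℂ) y) * (ζ : G → ℂ) y else 0) with hΛ
  have hΛU : ∀ y : P, (y : G) ∈ U →
      Λ y = (w : ℂ) * (Nat.card ↥(N ⊓ Subgroup.centralizer ({(y : G)} : Set G)) : ℂ) := by
    intro y hyU
    haveI : Fintype (Subgroup.centralizer ({(y : G)} : Set G)) := Fintype.ofFinite _
    haveI : Fintype (IrrCharacter (Subgroup.centralizer ({(y : G)} : Set G))) :=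
      Fintype.ofFinite _
    show ∑ ζ : IrrCharacter G, (if ζ ∈ principalBlock M G then
      conj ((ζ : G → ℂ) (y : G)) * (ζ : G → ℂ) (y : G) else 0) = _
    rw [sum_principal_normsq p M hM (y : G) (hpel y)]
    have h1 := hw (y : G) hyU
    have h2 := congrArg (fun q : ℚ => (q : ℂ)) h1
    simp only [Rat.cast_mul, Rat.cast_natCast] at h2
    rw [← h2]
    rw [finsum_mem_eq_finite_toFinset_sum _ (Set.toFinite _), Rat.cast_sum, ← Finset.sum_filter]
    apply Finset.sum_congr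
    · ext ψ; simp
    · intro ψ _
      have hd := IsCharacter.charDegree_cast (IrrCharacter_isCharacter ψ)
      rw [← hd, Complex.conj_natCast]
      push_cast
      ring
  -- rewriting the coefficients
  have ha : ∀ (χ : IrrCharacter G) (f : P → ℂ),
      ∑ᶠ y : P, (χ : G → ℂ) (y : G) * f y⁻¹ = ∑ y : P, conj ((χ : G → ℂ) (y : G)) * f y := by
    intro χ f
    rw [finsum_eq_sum_of_fintype, ← Equiv.sum_comp (Equiv.inv P)]
    refine Finset.sum_congr rfl fun y _ => ?_
    rw [Equiv.inv_apply, inv_inv, Subgroup.coe_inv, char_inv (IrrCharacter_isCharacter χ)]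
  -- conjugates by `N` stay in `P`
  have hNP : ∀ (x : N) (y : P), (x : G) * (y : G) * (x : G)⁻¹ ∈ P := by
    intro x y
    have hx := hNN x.2
    rw [Subgroup.mem_normalizer_iff] at hx
    exact (hx (y : G)).1 y.2
  -- the sum over `N`
  have hR : ∀ y : P, (y : G) ∈ U →
      ∑ᶠ x : N, extendByZero P η ((x : G) * (y : G) * (x : G)⁻¹) =
        (Nat.card ↥(N ⊓ Subgroup.centralizer ({(y : G)} : Set G)) : ℂ) *
          ∑ y' : P, if IsConj (y : G) (y' : G) then η y' else 0 := by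
    intro y hyU
    rw [finsum_eq_sum_of_fintype]
    have h1 : ∀ x : N, extendByZero P η ((x : G) * (y : G) * (x : G)⁻¹) =
        ∑ y' : P, if (x : G) * (y : G) * (x : G)⁻¹ = (y' : G) then η y' else 0 := by
      intro x
      rw [Cfsg.Agent.Lib.Helper04.extendByZero_apply_of_mem P η _ (hNP x y)]
      rw [Finset.sum_eq_single (⟨(x : G) * (y : G) * (x : G)⁻¹, hNP x y⟩ : P)]
      · rw [if_pos rfl]
      · intro b _ hb
        rw [if_neg]
        intro h
        exact hb (Subtype.ext h.symm)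
      · intro h
        exact absurd (Finset.mem_univ _) h
    rw [Finset.sum_congr rfl fun x _ => h1 x, Finset.sum_comm, Finset.mul_sum]
    refine Finset.sum_congr rfl fun y' _ => ?_
    rw [← Finset.sum_filter, Finset.sum_const, nsmul_eq_mul]
    split_ifs with hc
    · obtain ⟨g, hg⟩ := isConj_iff.1 hc
      have hex : ∃ n ∈ N, n * (y : G) * n⁻¹ = (y' : G) := by
        obtain ⟨n, hn, hn'⟩ := hfus (y : G) hyU g (by rw [hg]; exact y'.2)
        exact ⟨n, hn, by rw [hn', hg]⟩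
      rw [card_filter_conj N (y : G) (y' : G) hex]
    · have hempty : Finset.univ.filter (fun x : N => (x : G) * (y : G) * (x : G)⁻¹ = (y' : G)) = ∅ := by
        rw [Finset.filter_eq_empty_iff]
        intro x _ hx
        exact hc (isConj_iff.2 ⟨(x : G), hx⟩)
      rw [hempty, Finset.card_empty, Nat.cast_zero, zero_mul, mul_zero]
  have hT : ∀ y : P, (y : G) ∈ U →
      ∑ y' : P, conj (η y') * (∑ ζ : IrrCharacter G, if ζ ∈ principalBlock M G then
          conj ((ζ : G → ℂ) (y : G)) * (ζ : G → ℂ) (y' : G) else 0) =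
        (w : ℂ) * conj (∑ᶠ x : N, extendByZero P η ((x : G) * (y : G) * (x : G)⁻¹)) := by
    intro y hyU
    rw [hR y hyU, map_mul, Complex.conj_natCast, ← mul_assoc, ← hΛU y hyU, map_sum,
      Finset.mul_sum]
    refine Finset.sum_congr rfl fun y' _ => ?_
    rw [sum_principal_conj_mul p M hM (y : G) (y' : G) (hpel y) (hpel y')]
    split_ifs with hc
    · rw [mul_comm]
    · rw [mul_zero, map_zero, mul_zero]
  have hterm : ∀ χ : IrrCharacter G,
      ((Nat.card ↥P : ℂ)⁻¹ * ∑ᶠ y : ↥P, (χ : G → ℂ) (y : G) * θ y⁻¹) *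
        (starRingEnd ℂ) ((Nat.card ↥P : ℂ)⁻¹ * ∑ᶠ y : ↥P, (χ : G → ℂ) (y : G) * η y⁻¹) =
      ((Nat.card ↥P : ℂ) ^ 2)⁻¹ * ∑ y : P, ∑ y' : P, θ y * (conj (η y') *
        (conj ((χ : G → ℂ) (y : G)) * (χ : G → ℂ) (y' : G))) := by
    intro χ
    rw [ha χ θ, ha χ η, map_mul, map_inv₀, Complex.conj_natCast, map_sum]
    simp only [map_mul, Complex.conj_conj]
    rw [show ∀ a S1 S2 : ℂ, (a⁻¹ * S1) * (a⁻¹ * S2) = (a ^ 2)⁻¹ * (S1 * S2) from
      fun a S1 S2 => by ring, Finset.sum_mul_sum]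
    congr 1
    refine Finset.sum_congr rfl fun y _ => Finset.sum_congr rfl fun y' _ => ?_
    ring
  rw [finsum_mem_eq_sum_ite, finsum_eq_sum_of_fintype]
  have hL : ∑ χ : IrrCharacter G, (if χ ∈ principalBlock M G then
      ((Nat.card ↥P : ℂ)⁻¹ * ∑ᶠ y : ↥P, (χ : G → ℂ) (y : G) * θ y⁻¹) *
        (starRingEnd ℂ) ((Nat.card ↥P : ℂ)⁻¹ * ∑ᶠ y : ↥P, (χ : G → ℂ) (y : G) * η y⁻¹) else 0) =
      ((Nat.card ↥P : ℂ) ^ 2)⁻¹ * ∑ y : P, θ y * ∑ y' : P, conj (η y') *
        (∑ ζ : IrrCharacter G, if ζ ∈ principalBlock M G then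
          conj ((ζ : G → ℂ) (y : G)) * (ζ : G → ℂ) (y' : G) else 0) := by
    have h1 : ∀ χ : IrrCharacter G, (if χ ∈ principalBlock M G then
        ((Nat.card ↥P : ℂ)⁻¹ * ∑ᶠ y : ↥P, (χ : G → ℂ) (y : G) * θ y⁻¹) *
          (starRingEnd ℂ) ((Nat.card ↥P : ℂ)⁻¹ * ∑ᶠ y : ↥P, (χ : G → ℂ) (y : G) * η y⁻¹)
          else 0) =
        ((Nat.card ↥P : ℂ) ^ 2)⁻¹ * ∑ y : P, ∑ y' : P, θ y * (conj (η y') *
          (if χ ∈ principalBlock M G then
            conj ((χ : G → ℂ) (y : G)) * (χ : G → ℂ) (y' : G) else 0)) := by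
      intro χ
      split_ifs
      · exact hterm χ
      · simp
    rw [Finset.sum_congr rfl fun χ _ => h1 χ, ← Finset.mul_sum, Finset.sum_comm]
    congr 1
    refine Finset.sum_congr rfl fun y _ => ?_
    rw [Finset.sum_comm, Finset.mul_sum]
    refine Finset.sum_congr rfl fun y' _ => ?_
    rw [Finset.mul_sum, Finset.mul_sum]
  rw [hL, div_eq_mul_inv, mul_comm (w : ℂ), mul_assoc, Finset.mul_sum (a := (w : ℂ))]
  congr 1
  refine Finset.sum_congr rfl fun y _ => ?_
  by_cases hyU : (y : G) ∈ U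
  · rw [hT y hyU]
    ring
  · rw [hθU y hyU, zero_mul, zero_mul, mul_zero]

end Cfsg.Agent.S4720
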