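import Cfsg.Statements.S4722
import Cfsg.Agent.Lib.Helper82.BlockOrthFull
import Cfsg.Agent.Lib.Helper82.Subsection
import Cfsg.Agent.Lib.Helper22.DefectConj
import Cfsg.Agent.Lib.Helper81.ThirdMain
import Cfsg.Agent.Lib.Helper83.Central
import Cfsg.Agent.Lib.Helper83.Quotient
import Cfsg.Agent.Lib.Helper83.Abelian
import Cfsg.Agent.Lib.Helper34.GenChar
import Cfsg.Agent.S0938
import Cfsg.Agent.S0944

set_option autoImplicit false
set_option linter.style.haveILetI false
set_option linter.unusedVariables false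
open Cfsg

namespace Cfsg.Agent.S4722

open Cfsg.Agent.Lib.Helper21 Cfsg.Agent.Lib.Helper82 Cfsg.Agent.Lib.Helper83 Cfsg.Agent.Lib.Helper22
open Cfsg.Agent.Lib.Helper81 Cfsg.Agent.Lib.Helper34
open scoped ComplexConjugate

/-- One-sided sign lemma. -/
theorem exists_eq_of_card_pos_le_one {ι : Type*} [DecidableEq ι] (s : Finset ι) (r d v : ι → ℝ)
    (hd : ∀ i ∈ s, 0 < d i) (h1 : ∑ i ∈ s, r i * d i = 0) (h2 : ∑ i ∈ s, r i * v i = 0)
    (h3 : ∑ i ∈ s, r i * (v i) ^ 2 / d i = 0) (i₀ : ι) (hi₀ : i₀ ∈ s) (hdv : d i₀ = v i₀)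
    (hr₀ : r i₀ ≠ 0) (hpos : (s.filter (fun i => 0 < r i)).card ≤ 1) :
    ∃ i ∈ s, i ≠ i₀ ∧ v i = d i := by
  classical
  -- a positive index
  have hex : ∃ i₁ ∈ s, 0 < r i₁ := by
    by_contra hcon
    push Not at hcon
    have hlt : r i₀ < 0 := lt_of_le_of_ne (hcon i₀ hi₀) hr₀
    have : ∑ i ∈ s, r i * d i < 0 := by
      rw [← Finset.add_sum_erase s _ hi₀]
      have h' : ∑ i ∈ s.erase i₀, r i * d i ≤ 0 := by
        apply Finset.sum_nonpos
        intro i hi
        have := hcon i (Finset.mem_of_mem_erase hi)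
        have := hd i (Finset.mem_of_mem_erase hi)
        nlinarith
      have := hd i₀ hi₀
      nlinarith
    linarith
  obtain ⟨i₁, hi₁, hr₁⟩ := hex
  have huniq : ∀ i ∈ s, 0 < r i → i = i₁ := by
    intro i hi hri
    exact Finset.card_le_one.1 hpos i (Finset.mem_filter.2 ⟨hi, hri⟩) i₁
      (Finset.mem_filter.2 ⟨hi₁, hr₁⟩)
  have hnonpos : ∀ i ∈ s, i ≠ i₁ → r i ≤ 0 := by
    intro i hi hne
    by_contra h
    push Not at h
    exact hne (huniq i hi h)
  set d₁ := d i₁ with hd₁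
  set v₁ := v i₁ with hv₁
  -- the quadratic combination vanishes
  have hQ : ∑ i ∈ s, r i * (v i * d₁ - v₁ * d i) ^ 2 / d i = 0 := by
    have hterm : ∀ i ∈ s, r i * (v i * d₁ - v₁ * d i) ^ 2 / d i =
        d₁ ^ 2 * (r i * (v i) ^ 2 / d i) - 2 * d₁ * v₁ * (r i * v i) + v₁ ^ 2 * (r i * d i) := by
      intro i hi
      have := (hd i hi).ne'
      field_simp
      ring
    rw [Finset.sum_congr rfl hterm, Finset.sum_add_distrib, Finset.sum_sub_distrib,
      ← Finset.mul_sum, ← Finset.mul_sum, ← Finset.mul_sum, h1, h2, h3]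
    ring
  have hle : ∀ i ∈ s, r i * (v i * d₁ - v₁ * d i) ^ 2 / d i ≤ 0 := by
    intro i hi
    rcases eq_or_ne i i₁ with rfl | hne
    · have : v i * d₁ - v₁ * d i = 0 := by rw [hd₁, hv₁]; ring
      rw [this]
      simp
    · have h1' := hnonpos i hi hne
      have h2' := hd i hi
      have h3' : 0 ≤ (v i * d₁ - v₁ * d i) ^ 2 := sq_nonneg _
      apply div_nonpos_of_nonpos_of_nonneg _ h2'.le
      nlinarith
  have hzero := (Finset.sum_eq_zero_iff_of_nonpos hle).1 hQ
  have hkey : ∀ i ∈ s, r i < 0 → v i * d₁ = v₁ * d i := by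
    intro i hi hri
    have h0 := hzero i hi
    have h2' := hd i hi
    rw [div_eq_zero_iff] at h0
    rcases h0 with h0 | h0
    · rcases mul_eq_zero.1 h0 with h0 | h0
      · exact absurd h0 hri.ne
      · have := pow_eq_zero_iff (two_ne_zero) |>.1 h0
        linarith
    · exact absurd h0 h2'.ne'
  rcases eq_or_ne i₁ i₀ with h10 | h10
  · -- the positive index is `i₀`
    have hexneg : ∃ i ∈ s, r i < 0 := by
      by_contra hcon
      push Not at hcon
      have hr₀' : 0 < r i₀ := h10 ▸ hr₁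
      have : 0 < ∑ i ∈ s, r i * d i := by
        rw [← Finset.add_sum_erase s _ hi₀]
        have h' : 0 ≤ ∑ i ∈ s.erase i₀, r i * d i := by
          apply Finset.sum_nonneg
          intro i hi
          have := hcon i (Finset.mem_of_mem_erase hi)
          have := hd i (Finset.mem_of_mem_erase hi)
          nlinarith
        have := hd i₀ hi₀
        nlinarith
      linarith
    obtain ⟨i, hi, hri⟩ := hexneg
    refine ⟨i, hi, ?_, ?_⟩
    · rintro rfl
      have : 0 < r i := h10 ▸ hr₁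
      linarith
    · have h := hkey i hi hri
      have hd0 : d₁ = v₁ := by rw [hd₁, hv₁, h10, hdv]
      have hd0pos : 0 < d₁ := hd i₁ hi₁
      rw [← hd0] at h
      have := mul_left_cancel₀ hd0pos.ne' (by linarith : d₁ * v i = d₁ * d i)
      exact this
  · refine ⟨i₁, hi₁, h10, ?_⟩
    have hr₀neg : r i₀ < 0 := by
      have := hnonpos i₀ hi₀ (Ne.symm h10)
      exact lt_of_le_of_ne this hr₀
    have h := hkey i₀ hi₀ hr₀neg
    rw [← hdv] at h
    have hd0pos : 0 < d i₀ := hd i₀ hi₀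
    have := mul_left_cancel₀ hd0pos.ne' (by linarith : d i₀ * d₁ = d i₀ * v₁)
    rw [hv₁, hd₁] at *
    exact this.symm

/-- Two-sided sign lemma. -/
theorem sign_lemma {ι : Type*} [DecidableEq ι] (s : Finset ι) (r d v : ι → ℝ)
    (hd : ∀ i ∈ s, 0 < d i) (h1 : ∑ i ∈ s, r i * d i = 0) (h2 : ∑ i ∈ s, r i * v i = 0)
    (h3 : ∑ i ∈ s, r i * (v i) ^ 2 / d i = 0) (i₀ : ι) (hi₀ : i₀ ∈ s) (hdv : d i₀ = v i₀)
    (hr₀ : r i₀ ≠ 0) :
    (2 ≤ (s.filter (fun i => 0 < r i)).card ∧ 2 ≤ (s.filter (fun i => r i < 0)).card) ∨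
      ∃ i ∈ s, i ≠ i₀ ∧ v i = d i := by
  by_cases h : 2 ≤ (s.filter (fun i => 0 < r i)).card ∧ 2 ≤ (s.filter (fun i => r i < 0)).card
  · exact Or.inl h
  · right
    rw [not_and_or] at h
    rcases h with h | h
    · exact exists_eq_of_card_pos_le_one s r d v hd h1 h2 h3 i₀ hi₀ hdv hr₀ (by omega)
    · have hneg : (s.filter (fun i => 0 < (fun j => - r j) i)).card ≤ 1 := by
        have : s.filter (fun i => 0 < (fun j => - r j) i) = s.filter (fun i => r i < 0) := by
          apply Finset.filter_congr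
          intro i _
          simp
        rw [this]; omega
      apply exists_eq_of_card_pos_le_one s (fun j => - r j) d v hd _ _ _ i₀ hi₀ hdv
        (by simpa using hr₀) hneg
      · simp only [neg_mul, Finset.sum_neg_distrib, h1, neg_zero]
      · simp only [neg_mul, Finset.sum_neg_distrib, h2, neg_zero]
      · simp only [neg_mul, neg_div, Finset.sum_neg_distrib, h3, neg_zero]


/-- The coefficients `a_χ` against a test function `T`. -/
theorem sum_coeff_mul_eq_zero {G : Type*} [Group G] [Fintype G] [Fintype (IrrCharacter G)]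
    (M : Ideal AlgInt) (P : Subgroup G) [Fintype P] (θ : P → ℂ) (T : IrrCharacter G → ℂ)
    [DecidablePred (· ∈ principalBlock M G)]
    (h : ∀ y : P, θ y⁻¹ ≠ 0 → ∑ χ : IrrCharacter G,
      (if χ ∈ principalBlock M G then (χ : G → ℂ) (y : G) * T χ else 0) = 0) :
    ∑ᶠ χ ∈ principalBlock M G,
      ((Nat.card P : ℂ)⁻¹ * ∑ᶠ y : P, (χ : G → ℂ) (y : G) * θ y⁻¹) * T χ = 0 := by
  classical
  rw [finsum_mem_eq_sum_ite]
  have h1 : ∀ χ : IrrCharacter G, (if χ ∈ principalBlock M G then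
      ((Nat.card P : ℂ)⁻¹ * ∑ᶠ y : P, (χ : G → ℂ) (y : G) * θ y⁻¹) * T χ else 0) =
      (Nat.card P : ℂ)⁻¹ * ∑ y : P, θ y⁻¹ *
        (if χ ∈ principalBlock M G then (χ : G → ℂ) (y : G) * T χ else 0) := by
    intro χ
    split_ifs
    · rw [finsum_eq_sum_of_fintype, mul_assoc, Finset.sum_mul]
      congr 1
      refine Finset.sum_congr rfl fun y _ => ?_
      ring
    · simp
  rw [Finset.sum_congr rfl fun χ _ => h1 χ, ← Finset.mul_sum, Finset.sum_comm]
  rw [Finset.sum_eq_zero, mul_zero]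
  intro y _
  rw [← Finset.mul_sum]
  by_cases hy : θ y⁻¹ = 0
  · rw [hy, zero_mul]
  · rw [h y hy, mul_zero]

theorem isPPart_self' {G : Type*} [Group G] {p : ℕ} (hp : p.Prime) {y : G}
    (hy : ∃ k : ℕ, orderOf y = p ^ k) : IsPPart p y y :=
  ⟨1, mul_one y, Commute.one_right y, hy, by rw [orderOf_one]; exact hp.one_lt.ne' ∘ Nat.dvd_one.1⟩

/-- Orthogonality for the principal `2`-block between a `2`-element and an element whose `2`-part is
not conjugate to its inverse. -/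
theorem orth {G : Type*} [Group G] [Fintype G] [Fintype (IrrCharacter G)] (M : Ideal AlgInt)
    (hM : IsPModular 2 M) [DecidablePred (· ∈ principalBlock M G)] (y h : G)
    (hy : ∃ k : ℕ, orderOf y = 2 ^ k) (hnc : ∀ z : G, IsPPart 2 h⁻¹ z → ¬ IsConj y z) :
    ∑ χ : IrrCharacter G, (if χ ∈ principalBlock M G then
      (χ : G → ℂ) y * (χ : G → ℂ) h else 0) = 0 := by
  classical
  obtain ⟨z, hz⟩ := exists_isPPart Nat.prime_two h⁻¹ (orderOf_pos _)
  have h0 := sum_block_mul_eq_zero_of_not_isConj hM (trivChar G) y h y z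
    (isPPart_self' Nat.prime_two hy) hz (hnc z hz)
  rw [← principalBlock_eq_blockOf_trivChar, finsum_mem_eq_sum_ite] at h0
  exact h0

/-- Let M be a maximal ideal of the algebraic integers containing 2, P a 2-subgroup of the finite group G, U a subset of P, and t an involution of G such that no element of U is inverted by any conjugate of t. Let θ be a generalized character of P vanishing outside U, and for χ in the principal 2-block B₀ put a_χ = #P⁻¹ Σ_{y ∈ P} χ(y) θ(y⁻¹). Then Σ_{χ ∈ B₀} a_χ χ(t)^2/χ(1) = 0, Σ_{χ ∈ B₀} a_χ χ(1) = 0 and Σ_{χ ∈ B₀} a_χ χ(t) = 0. If moreover #P⁻¹ Σ_{y ∈ P} θ(y) ≠ 0, then either at least two of the a_χ have positive real part and at least two have negative real part, or G has a proper normal subgroup containing O_2'(G) and t. -/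
theorem result {G : Type*} [Group G] [Finite G] (M : Ideal Cfsg.AlgInt) (hM : Cfsg.IsPModular 2 M) (P : Subgroup G) (hP : IsPGroup 2 P) (U : Set G) (hUP : U ⊆ (P : Set G)) (t : G) (ht : orderOf t = 2) (hinv : ∀ u ∈ U, ∀ g : G, (g * t * g⁻¹) * u * (g * t * g⁻¹)⁻¹ ≠ u⁻¹) (θ : ↥P → ℂ) (hθ : Cfsg.IsGeneralizedCharacter ↥P θ) (hθU : ∀ y : ↥P, (y : G) ∉ U → θ y = 0) : (∑ᶠ χ ∈ Cfsg.principalBlock M G, ((Nat.card ↥P : ℂ)⁻¹ * ∑ᶠ y : ↥P, (χ : G → ℂ) (y : G) * θ y⁻¹) * (χ : G → ℂ) t ^ 2 / (χ : G → ℂ) 1 = 0) ∧ (∑ᶠ χ ∈ Cfsg.principalBlock M G, ((Nat.card ↥P : ℂ)⁻¹ * ∑ᶠ y : ↥P, (χ : G → ℂ) (y : G) * θ y⁻¹) * (χ : G → ℂ) 1 = 0) ∧ (∑ᶠ χ ∈ Cfsg.principalBlock M G, ((Nat.card ↥P : ℂ)⁻¹ * ∑ᶠ y : ↥P, (χ : G → ℂ) (y : G) * θ y⁻¹) * (χ : G → ℂ) t = 0) ∧ ((Nat.card ↥P : ℂ)⁻¹ * ∑ᶠ y : ↥P, θ y ≠ 0 → (2 ≤ Nat.card {χ : Cfsg.IrrCharacter G // χ ∈ Cfsg.principalBlock M G ∧ 0 < (((Nat.card ↥P : ℂ)⁻¹ * ∑ᶠ y : ↥P, (χ : G → ℂ) (y : G) * θ y⁻¹)).re} ∧ 2 ≤ Nat.card {χ : Cfsg.IrrCharacter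 G // χ ∈ Cfsg.principalBlock M G ∧ (((Nat.card ↥P : ℂ)⁻¹ * ∑ᶠ y : ↥P, (χ : G → ℂ) (y : G) * θ y⁻¹)).re < 0}) ∨ ∃ K : Subgroup G, K.Normal ∧ K ≠ ⊤ ∧ Cfsg.pPrimeCore 2 G ≤ K ∧ t ∈ K) := by
  classical
  haveI : Fact (Nat.Prime 2) := ⟨Nat.prime_two⟩
  haveI : Fintype G := Fintype.ofFinite G
  haveI : Fintype (IrrCharacter G) := Fintype.ofFinite _
  haveI : Fintype P := Fintype.ofFinite _
  have hMp : M.IsPrime := hM.2.1.isPrime
  have hpel : ∀ y : P, ∃ k : ℕ, orderOf (y : G) = 2 ^ k := by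
    intro y
    obtain ⟨k, hk⟩ := (IsPGroup.iff_orderOf.1 hP) y
    exact ⟨k, by rw [Subgroup.orderOf_coe, hk]⟩
  have htt : t * t = 1 := by
    have := pow_orderOf_eq_one t
    rwa [ht, pow_two] at this
  have htinv : t⁻¹ = t := inv_eq_of_mul_eq_one_right htt
  -- elements with inverse in `U` are not inverted by conjugates of `t`
  have hno : ∀ y : G, y⁻¹ ∈ U → ∀ g : G, (g * t * g⁻¹) * y * (g * t * g⁻¹)⁻¹ ≠ y⁻¹ := by
    intro y hyU g hcon
    apply hinv y⁻¹ hyU g
    rw [inv_inv]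
    have : (g * t * g⁻¹) * y⁻¹ * (g * t * g⁻¹)⁻¹ = ((g * t * g⁻¹) * y * (g * t * g⁻¹)⁻¹)⁻¹ := by
      group
    rw [this, hcon, inv_inv]
  have hU : ∀ y : P, θ y⁻¹ ≠ 0 → ((y : G))⁻¹ ∈ U := by
    intro y hy
    by_contra hnU
    exact hy (hθU y⁻¹ (by rwa [Subgroup.coe_inv]))
  -- the three orthogonality facts
  have hF2 : ∀ y : P, θ y⁻¹ ≠ 0 → ∑ χ : IrrCharacter G, (if χ ∈ principalBlock M G then
      (χ : G → ℂ) (y : G) * (χ : G → ℂ) 1 else 0) = 0 := by
    intro y hy
    apply orth M hM (y : G) 1 (hpel y)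
    intro z hz hc
    rw [inv_one] at hz
    have hz1 : z = 1 := (isPPart_unique Nat.prime_two hz
      (isPPart_self' Nat.prime_two ⟨0, by simp⟩)).symm ▸ rfl
    rw [hz1, isConj_one_left] at hc
    apply hno (y : G) (hU y hy) 1
    rw [hc]
    group
  have hF3 : ∀ y : P, θ y⁻¹ ≠ 0 → ∑ χ : IrrCharacter G, (if χ ∈ principalBlock M G then
      (χ : G → ℂ) (y : G) * (χ : G → ℂ) t else 0) = 0 := by
    intro y hy
    apply orth M hM (y : G) t (hpel y)
    intro z hz hc
    rw [htinv] at hz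
    have hzt : z = t := (isPPart_unique Nat.prime_two hz
      (isPPart_self' Nat.prime_two ⟨1, by rw [ht, pow_one]⟩))
    rw [hzt] at hc
    obtain ⟨c, hc⟩ := isConj_iff.1 hc
    -- `c * y * c⁻¹ = t`
    have hyc : (y : G) = c⁻¹ * t * c := by rw [← hc]; group
    apply hno (y : G) (hU y hy) c⁻¹
    rw [inv_inv, ← hyc]
    have hyy : (y : G) * (y : G) = 1 := by
      rw [hyc]
      calc c⁻¹ * t * c * (c⁻¹ * t * c) = c⁻¹ * (t * t) * c := by group
        _ = 1 := by rw [htt]; group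
    have : ((y : G))⁻¹ = (y : G) := inv_eq_of_mul_eq_one_right hyy
    rw [this, hyy, one_mul]
  have hF1 : ∀ y : P, θ y⁻¹ ≠ 0 → ∑ χ : IrrCharacter G, (if χ ∈ principalBlock M G then
      (χ : G → ℂ) (y : G) * ((χ : G → ℂ) t ^ 2 / (χ : G → ℂ) 1) else 0) = 0 := by
    intro y hy
    have hG0 : (Nat.card G : ℂ) ≠ 0 := Nat.cast_ne_zero.2 Nat.card_pos.ne'
    have hterm : ∀ χ : IrrCharacter G, (if χ ∈ principalBlock M G then
        (χ : G → ℂ) (y : G) * ((χ : G → ℂ) t ^ 2 / (χ : G → ℂ) 1) else 0) =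
        (Nat.card G : ℂ)⁻¹ * ∑ a : G, (if χ ∈ principalBlock M G then
          (χ : G → ℂ) (y : G) * (χ : G → ℂ) (t * (a * t * a⁻¹)) else 0) := by
      intro χ
      split_ifs
      · rw [← Finset.mul_sum, irr_sum_conj_mul χ t t]
        field_simp
      · simp
    rw [Finset.sum_congr rfl fun χ _ => hterm χ, ← Finset.mul_sum, Finset.sum_comm]
    rw [Finset.sum_eq_zero, mul_zero]
    intro a _
    apply orth M hM (y : G) (t * (a * t * a⁻¹)) (hpel y)
    intro z hz hc
    -- `t` inverts `h⁻¹` hence `z`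
    set h := t * (a * t * a⁻¹) with hh
    have hinvh : t * h⁻¹ * t⁻¹ = (h⁻¹)⁻¹ := by
      rw [inv_inv, hh, htinv]
      have : (t * (a * t * a⁻¹))⁻¹ = a * t⁻¹ * a⁻¹ * t⁻¹ := by group
      rw [this, htinv]
      calc t * (a * t * a⁻¹ * t) * t = t * (a * t * a⁻¹) * (t * t) := by group
        _ = t * (a * t * a⁻¹) := by rw [htt, mul_one]
    obtain ⟨n, hn⟩ := Subgroup.mem_zpowers_iff.1
      (Cfsg.Agent.Lib.Helper22.IsPPart.mem_zpowers Nat.prime_two hz)
    have hinvz : t * z * t⁻¹ = z⁻¹ := by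
      rw [← hn]
      have := map_zpow (MulAut.conj t) h⁻¹ n
      simp only [MulAut.conj_apply] at this
      rw [this, hinvh, inv_zpow', zpow_neg]
    obtain ⟨c, hc⟩ := isConj_iff.1 hc
    -- `c * y * c⁻¹ = z`
    apply hno (y : G) (hU y hy) c⁻¹
    rw [inv_inv]
    calc c⁻¹ * t * c * (y : G) * (c⁻¹ * t * c)⁻¹
        = c⁻¹ * (t * (c * (y : G) * c⁻¹) * t⁻¹) * c := by group
      _ = c⁻¹ * z⁻¹ * c := by rw [hc, hinvz]
      _ = (c⁻¹ * z * c)⁻¹ := by group
      _ = ((y : G))⁻¹ := by rw [← hc]; group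
  have hR1 : ∑ᶠ χ ∈ principalBlock M G, ((Nat.card ↥P : ℂ)⁻¹ *
      ∑ᶠ y : ↥P, (χ : G → ℂ) (y : G) * θ y⁻¹) * ((χ : G → ℂ) t ^ 2 / (χ : G → ℂ) 1) = 0 :=
    sum_coeff_mul_eq_zero M P θ (fun χ => (χ : G → ℂ) t ^ 2 / (χ : G → ℂ) 1) hF1
  have hR2 := sum_coeff_mul_eq_zero M P θ (fun χ => (χ : G → ℂ) 1) hF2
  have hR3 := sum_coeff_mul_eq_zero M P θ (fun χ => (χ : G → ℂ) t) hF3
  refine ⟨?_, hR2, hR3, ?_⟩
  · rw [← hR1]
    apply finsum_mem_congr rfl
    intro χ _
    rw [mul_div_assoc]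
  · intro hc
    -- notation
    set A : IrrCharacter G → ℂ := fun χ =>
      (Nat.card ↥P : ℂ)⁻¹ * ∑ᶠ y : ↥P, (χ : G → ℂ) (y : G) * θ y⁻¹ with hA
    have hint : ∀ χ : IrrCharacter G, ∃ n : ℤ, (χ : G → ℂ) t = (n : ℂ) := fun χ => by
      obtain ⟨n, hn, -⟩ := Cfsg.Agent.S0944.result χ t ht
      exact ⟨n, hn⟩
    choose nt hnt using hint
    set s : Finset (IrrCharacter G) := Finset.univ.filter (· ∈ principalBlock M G) with hs
    set r : IrrCharacter G → ℝ := fun χ => (A χ).re with hr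
    set d : IrrCharacter G → ℝ := fun χ => (charDegree (χ : G → ℂ) : ℝ) with hd
    set v : IrrCharacter G → ℝ := fun χ => (nt χ : ℝ) with hv
    have hdeg : ∀ χ : IrrCharacter G, (χ : G → ℂ) 1 = ((d χ : ℝ) : ℂ) := by
      intro χ
      rw [hd]
      simp only
      rw [Complex.ofReal_natCast, IsCharacter.charDegree_cast (IrrCharacter_isCharacter χ)]
    have hval : ∀ χ : IrrCharacter G, (χ : G → ℂ) t = ((v χ : ℝ) : ℂ) := by
      intro χ
      rw [hv, hnt χ]
      simp
    have hdpos : ∀ χ ∈ s, 0 < d χ := fun χ _ =>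
      Nat.cast_pos.2 (IsIrrCharacter.charDegree_pos χ.2)
    -- the real relations
    have toSum : ∀ f : IrrCharacter G → ℂ,
        ∑ᶠ χ ∈ principalBlock M G, f χ = ∑ χ ∈ s, f χ := by
      intro f
      rw [finsum_mem_eq_sum_ite, hs, Finset.sum_filter]
    have h1 : ∑ χ ∈ s, r χ * d χ = 0 := by
      have h := hR2
      rw [toSum] at h
      have h' := congrArg Complex.re h
      rw [Complex.re_sum, Complex.zero_re] at h'
      rw [← h']
      refine Finset.sum_congr rfl fun χ _ => ?_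
      show (A χ).re * d χ = (A χ * (χ : G → ℂ) 1).re
      rw [hdeg χ, Complex.re_mul_ofReal]
    have h2 : ∑ χ ∈ s, r χ * v χ = 0 := by
      have h := hR3
      rw [toSum] at h
      have h' := congrArg Complex.re h
      rw [Complex.re_sum, Complex.zero_re] at h'
      rw [← h']
      refine Finset.sum_congr rfl fun χ _ => ?_
      show (A χ).re * v χ = (A χ * (χ : G → ℂ) t).re
      rw [hval χ, Complex.re_mul_ofReal]
    have h3 : ∑ χ ∈ s, r χ * (v χ) ^ 2 / d χ = 0 := by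
      have h := hR1
      rw [toSum] at h
      have h' := congrArg Complex.re h
      rw [Complex.re_sum, Complex.zero_re] at h'
      rw [← h']
      refine Finset.sum_congr rfl fun χ _ => ?_
      show (A χ).re * (v χ) ^ 2 / d χ = (A χ * ((χ : G → ℂ) t ^ 2 / (χ : G → ℂ) 1)).re
      rw [hval χ, hdeg χ, ← Complex.ofReal_pow, ← Complex.ofReal_div, Complex.re_mul_ofReal,
        mul_div_assoc]
    -- the trivial character
    have hi₀ : trivChar G ∈ s := by
      rw [hs, Finset.mem_filter]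
      exact ⟨Finset.mem_univ _, trivChar_mem_principalBlock hMp⟩
    have hd₀ : d (trivChar G) = 1 := by
      rw [hd]
      simp only
      rw [charDegree_trivChar, Nat.cast_one]
    have hv₀ : v (trivChar G) = 1 := by
      have h := hnt (trivChar G)
      rw [trivChar_apply] at h
      have h' : (nt (trivChar G) : ℂ) = ((1 : ℤ) : ℂ) := by rw [← h]; simp
      have h'' := Int.cast_injective h'
      rw [hv]
      simp only
      rw [h'']
      simp
    have hA₀ : A (trivChar G) = (Nat.card ↥P : ℂ)⁻¹ * ∑ᶠ y : ↥P, θ y := by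
      rw [hA]
      simp only
      congr 1
      rw [finsum_eq_sum_of_fintype, finsum_eq_sum_of_fintype,
        ← Equiv.sum_comp (Equiv.inv P) (fun y => θ y)]
      refine Finset.sum_congr rfl fun y _ => ?_
      rw [trivChar_apply, one_mul, Equiv.inv_apply]
    have hr₀ : r (trivChar G) ≠ 0 := by
      obtain ⟨m, hm⟩ := classInner_genChar_int hθ
        (IsCharacter.isGeneralizedCharacter (isCharacter_one (G := ↥P)))
      have hcm : (Nat.card ↥P : ℂ)⁻¹ * ∑ᶠ y : ↥P, θ y = (m : ℂ) := by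
        rw [← hm, Cfsg.Agent.Lib.Helper83.classInner_def, finsum_eq_sum_of_fintype]
        congr 1
        refine Finset.sum_congr rfl fun y _ => ?_
        simp
      rw [hr]
      simp only
      rw [hA₀, hcm]
      rw [hcm] at hc
      simp only [Complex.intCast_re]
      intro h0
      apply hc
      have : m = 0 := by exact_mod_cast h0
      rw [this]
      simp
    rcases sign_lemma s r d v hdpos h1 h2 h3 (trivChar G) hi₀ (by rw [hd₀, hv₀]) hr₀ with
      hcase | ⟨χ, hχs, hχne, hχv⟩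
    · left
      obtain ⟨hpos, hneg⟩ := hcase
      constructor
      · rw [Nat.card_eq_fintype_card, Fintype.card_subtype]
        rw [hs, Finset.filter_filter] at hpos
        exact hpos
      · rw [Nat.card_eq_fintype_card, Fintype.card_subtype]
        rw [hs, Finset.filter_filter] at hneg
        exact hneg
    · right
      have hχPB : χ ∈ principalBlock M G := (Finset.mem_filter.1 hχs).2
      have hχchar := IrrCharacter_isCharacter χ
      refine ⟨charKer hχchar, inferInstance, ?_, ?_, ?_⟩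
      · -- proper
        intro htop
        apply hχne
        have hconst : ∀ g : G, (χ : G → ℂ) g = (χ : G → ℂ) 1 := fun g =>
          (mem_charKer hχchar g).1 (htop ▸ Subgroup.mem_top g)
        have horth := irr_orthonormal χ (trivChar G)
        by_contra hne
        rw [if_neg hne, Cfsg.Agent.Lib.Helper83.classInner_def] at horth
        have hG0 : (Nat.card G : ℂ) ≠ 0 := Nat.cast_ne_zero.2 Nat.card_pos.ne'
        have hsum : ∑ g : G, (χ : G → ℂ) g * conj ((trivChar G : G → ℂ) g) =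
            (Nat.card G : ℂ) * (χ : G → ℂ) 1 := by
          rw [Finset.sum_congr rfl fun g _ => by rw [hconst g, trivChar_apply, map_one, mul_one],
            Finset.sum_const, Finset.card_univ, nsmul_eq_mul, Nat.card_eq_fintype_card]
        rw [hsum, ← mul_assoc, inv_mul_cancel₀ hG0, one_mul] at horth
        exact IsIrrCharacter.apply_one_ne_zero χ.2 horth
      · -- contains the core
        obtain ⟨K, hKn, hKset, -, -, hKmax⟩ := Cfsg.Agent.S0938.result 2 M hM
          (principalBlock M G) ⟨trivChar G, rfl⟩ (trivChar G) (trivChar_mem_principalBlock hMp)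
        have hKle : K ≤ charKer hχchar := by
          intro g hg
          rw [mem_charKer]
          have : g ∈ blockKer (principalBlock M G) := by rw [← hKset]; exact hg
          exact this χ hχPB
        refine le_trans ?_ hKle
        unfold pPrimeCore
        apply sSup_le
        rintro N ⟨hNn, hNc⟩
        apply hKmax N hNn
        · exact (Nat.Prime.coprime_iff_not_dvd Nat.prime_two).1 hNc.symm
        · intro g _
          rfl
      · rw [mem_charKer, hval χ, hdeg χ, hχv]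

end Cfsg.Agent.S4722
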