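import Cfsg.Statements.S4723
import Cfsg.Agent.Lib.Helper84.StableHeightZero
import Cfsg.Agent.Lib.Helper84.NormalAction
import Cfsg.Agent.Lib.Helper81.BPTransport

set_option autoImplicit false
open Cfsg

namespace Cfsg.Agent.S4723

/-- Let p be a prime, M a maximal ideal of the algebraic integers containing p, H a normal subgroup of the finite group G and b a p-block of H. Let T be the stabilizer of b in G. Then b contains a character θ of height zero whose own stabilizer in G (the elements g with θ(g h g⁻¹) = θ(h) for all h ∈ H) has index prime to p in T, i.e. contains a Sylow p-subgroup of T. -/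
theorem result {G : Type*} [Group G] [Finite G] (p : ℕ) [Fact p.Prime] (M : Ideal Cfsg.AlgInt) (hM : Cfsg.IsPModular p M) (H : Subgroup G) [H.Normal] (b : Set (Cfsg.IrrCharacter ↥H)) (hb : Cfsg.IsPBlock M b) (T : Subgroup G) (hT : (∀ g : G, g ∈ T ↔ ∀ θ ∈ b, ∀ θ' : Cfsg.IrrCharacter ↥H, (∀ h h' : ↥H, (h' : G) = g * h * g⁻¹ → (θ' : ↥H → ℂ) h' = (θ : ↥H → ℂ) h) → θ' ∈ b)) : ∃ θ ∈ b, Cfsg.blockHeight p b (θ : ↥H → ℂ) = 0 ∧ ∃ S : Subgroup G, S ≤ T ∧ (∀ g : G, g ∈ S ↔ (g ∈ T ∧ ∀ h h' : ↥H, (h' : G) = g * h * g⁻¹ → (θ : ↥H → ℂ) h' = (θ : ↥H → ℂ) h)) ∧ ¬ p ∣ S.relIndex T := by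
  classical
  have hp : p.Prime := Fact.out
  have hMprime : M.IsPrime := hM.2.1.isPrime
  have : Fintype G := Fintype.ofFinite G
  have hHn : H.Normal := inferInstance
  -- `H ≤ T`
  have hHT : H ≤ T := by
    intro g hg
    rw [hT]
    intro θ hθ θ' hconj
    have heq : θ' = θ := by
      apply Subtype.ext
      funext h'
      have hmem : g⁻¹ * (h' : G) * g ∈ H := by
        have := hHn.conj_mem (h' : G) h'.2 g⁻¹
        simpa using this
      have h1 := hconj ⟨g⁻¹ * (h' : G) * g, hmem⟩ h' (by simp only; group)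
      rw [h1]
      have h2 := Cfsg.Agent.Lib.Helper83.char_conj_eq
        (Cfsg.Agent.Lib.Helper83.IrrCharacter_isCharacter θ) h' (⟨g, hg⟩⁻¹ : H)
      rw [← h2]
      have h3 : (⟨g⁻¹ * (h' : G) * g, hmem⟩ : H) =
          (⟨g, hg⟩⁻¹ : H) * h' * ((⟨g, hg⟩⁻¹ : H))⁻¹ := Subtype.ext (by simp)
      rw [h3]
    rw [heq]; exact hθ
  -- a Sylow `p`-subgroup of `T` and the subgroup `L = H Q`
  obtain ⟨Q⟩ : Nonempty (Sylow p T) := inferInstance
  set Q' : Subgroup G := (Q : Subgroup T).map T.subtype with hQ'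
  have hQ'T : Q' ≤ T := Subgroup.map_subtype_le _
  set L : Subgroup G := H ⊔ Q' with hL
  have hLT : L ≤ T := sup_le hHT hQ'T
  have hHL : H ≤ L := le_sup_left
  have hQ'L : Q' ≤ L := le_sup_right
  have : Fintype L := Fintype.ofFinite _
  set N : Subgroup L := H.subgroupOf L with hNdef
  have hNn : N.Normal := inferInstance
  have : Fintype N := Fintype.ofFinite _
  set e : N ≃* H := Subgroup.subgroupOfEquivOfLe hHL with he
  have he_coe : ∀ x : N, ((e x : H) : G) = ((x : L) : G) := fun x => rfl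
  have hesymm : ∀ (x : N) (h : H), ((x : L) : G) = (h : G) → x = e.symm h := by
    intro x h hxh
    apply e.injective
    rw [e.apply_symm_apply]
    exact Subtype.ext ((he_coe x).trans hxh)
  have hesymm_coe : ∀ h : H, (((e.symm h : N) : L) : G) = (h : G) := by
    intro h
    have := he_coe (e.symm h)
    rw [e.apply_symm_apply] at this
    exact this.symm
  -- transport of characters
  let down : IrrCharacter N → IrrCharacter H := fun θ' =>
    ⟨fun h => (θ' : N → ℂ) (e.symm h),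
      Cfsg.Agent.Lib.Helper84.isIrrCharacter_comp_mulEquiv e.symm θ'.2⟩
  let up : IrrCharacter H → IrrCharacter N := fun θ =>
    ⟨fun n => (θ : H → ℂ) (e n), Cfsg.Agent.Lib.Helper84.isIrrCharacter_comp_mulEquiv e θ.2⟩
  have hdown_up : ∀ θ : IrrCharacter H, down (up θ) = θ := by
    intro θ
    apply Subtype.ext
    funext h
    show (θ : H → ℂ) (e (e.symm h)) = (θ : H → ℂ) h
    rw [e.apply_symm_apply]
  have hdeg_down : ∀ θ' : IrrCharacter N,
      charDegree ((down θ' : IrrCharacter H) : H → ℂ) = charDegree (θ' : N → ℂ) := by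
    intro θ'
    unfold charDegree
    show ⌊((θ' : N → ℂ) (e.symm 1)).re⌋₊ = _
    rw [map_one]
  have hdeg_up : ∀ θ : IrrCharacter H,
      charDegree ((up θ : IrrCharacter N) : N → ℂ) = charDegree (θ : H → ℂ) := by
    intro θ
    unfold charDegree
    show ⌊((θ : H → ℂ) (e 1)).re⌋₊ = _
    rw [map_one]
  set b' : Set (IrrCharacter N) := {θ' | down θ' ∈ b} with hb'def
  have hb' : IsPBlock M b' := by
    obtain ⟨θ₀, hbeq⟩ := hb
    refine ⟨up θ₀, ?_⟩
    ext θ'
    rw [hb'def, Set.mem_ofPred_eq, hbeq]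
    show SameBlock M (θ₀ : H → ℂ) ((down θ' : IrrCharacter H) : H → ℂ) ↔
      SameBlock M ((up θ₀ : IrrCharacter N) : N → ℂ) (θ' : N → ℂ)
    rw [← Cfsg.Agent.Lib.Helper81.sameBlock_comp_iff M e]
    have h1 : (fun x : N => ((down θ' : IrrCharacter H) : H → ℂ) (e x)) = (θ' : N → ℂ) := by
      funext x
      show (θ' : N → ℂ) (e.symm (e x)) = _
      rw [e.symm_apply_apply]
    rw [h1]
  -- the index of `N` in `L` is a power of `p`
  have hidx : ∃ k : ℕ, N.index = p ^ k := by
    have h1 : N.index = H.relIndex L := rfl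
    have h2 : H.relIndex L = H.relIndex Q' := by
      rw [hL]; exact Subgroup.relIndex_sup_left _ _
    have h3 : H.relIndex Q' ∣ Nat.card Q' := Subgroup.relIndex_dvd_card _ _
    have h4 : Nat.card Q' = p ^ (Nat.card T).factorization p := by
      rw [hQ', Subgroup.card_map_of_injective T.subtype_injective]
      exact Q.card_eq_multiplicity
    rw [h4] at h3
    obtain ⟨k, -, hk⟩ := (Nat.dvd_prime_pow hp).mp h3
    exact ⟨k, by rw [h1, h2, hk]⟩
  -- invariance of `b'`
  have hinv : ∀ g : L, ∀ θ' ∈ b', ∀ θ'' : IrrCharacter N,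
      (∀ n : N, (θ'' : N → ℂ) n = (θ' : N → ℂ) ⟨g * n * g⁻¹, hNn.conj_mem n n.2 g⟩) →
      θ'' ∈ b' := by
    intro g θ' hθ' θ'' hconj
    have hgT : ((g : G))⁻¹ ∈ T := T.inv_mem (hLT g.2)
    refine (hT _).mp hgT (down θ') hθ' (down θ'') ?_
    intro h h' hh'
    show (θ'' : N → ℂ) (e.symm h') = (θ' : N → ℂ) (e.symm h)
    rw [hconj (e.symm h')]
    have h3 : (⟨g * (e.symm h' : N) * g⁻¹, hNn.conj_mem (e.symm h') (e.symm h').2 g⟩ : N) =
        e.symm h := by
      apply hesymm
      simp only [Subgroup.coe_mul, Subgroup.coe_inv]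
      rw [hesymm_coe h', hh']
      group
    rw [h3]
  obtain ⟨θ', hθ'b, hθ'h, hθ'inv⟩ :=
    Cfsg.Agent.Lib.Helper84.exists_invariant_height_zero p M hM N hidx b' hb' hinv
  -- back to `H`
  refine ⟨down θ', hθ'b, ?_, ?_⟩
  · unfold blockHeight at hθ'h ⊢
    rw [hdeg_down θ']
    have himg : ((fun ψ : IrrCharacter H => (charDegree (ψ : H → ℂ)).factorization p) '' b) =
        ((fun ψ : IrrCharacter N => (charDegree (ψ : N → ℂ)).factorization p) '' b') := by
      ext v
      constructor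
      · rintro ⟨θ, hθ, rfl⟩
        refine ⟨up θ, ?_, ?_⟩
        · show down (up θ) ∈ b
          rw [hdown_up]; exact hθ
        · show (charDegree ((up θ : IrrCharacter N) : N → ℂ)).factorization p = _
          rw [hdeg_up]
      · rintro ⟨ψ, hψ, rfl⟩
        refine ⟨down ψ, hψ, ?_⟩
        show (charDegree ((down ψ : IrrCharacter H) : H → ℂ)).factorization p = _
        rw [hdeg_down]
    rw [himg]
    exact hθ'h
  · set θ : IrrCharacter H := down θ' with hθdef
    refine ⟨T ⊓ Cfsg.Agent.Lib.Helper85.conjStab hHn (θ : H → ℂ), inf_le_left, ?_, ?_⟩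
    · intro g
      rw [Subgroup.mem_inf, Cfsg.Agent.Lib.Helper85.mem_conjStab]
      constructor
      · rintro ⟨hgT, hg⟩
        refine ⟨hgT, fun h h' hh' => ?_⟩
        have h1 := congrFun hg h
        rw [Cfsg.Agent.Lib.Helper85.conjFun_apply] at h1
        rw [← h1]
        have h3 : h' = (⟨g * h * g⁻¹, hHn.conj_mem h h.2 g⟩ : H) := Subtype.ext hh'
        rw [h3]
      · rintro ⟨hgT, hg⟩
        refine ⟨hgT, ?_⟩
        funext h
        rw [Cfsg.Agent.Lib.Helper85.conjFun_apply]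
        exact hg h ⟨g * h * g⁻¹, hHn.conj_mem h h.2 g⟩ rfl
    · -- `Q' ≤ S`
      have hQS : Q' ≤ T ⊓ Cfsg.Agent.Lib.Helper85.conjStab hHn (θ : H → ℂ) := by
        apply le_inf hQ'T
        intro g hg
        rw [Cfsg.Agent.Lib.Helper85.mem_conjStab]
        funext h
        rw [Cfsg.Agent.Lib.Helper85.conjFun_apply]
        show (θ' : N → ℂ) (e.symm ⟨g * h * g⁻¹, hHn.conj_mem h h.2 g⟩) = (θ' : N → ℂ) (e.symm h)
        rw [← hθ'inv ⟨g, hQ'L hg⟩ (e.symm h)]
        have h3 : (⟨(⟨g, hQ'L hg⟩ : L) * (e.symm h : N) * (⟨g, hQ'L hg⟩ : L)⁻¹,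
            hNn.conj_mem (e.symm h) (e.symm h).2 ⟨g, hQ'L hg⟩⟩ : N) =
            e.symm ⟨g * h * g⁻¹, hHn.conj_mem h h.2 g⟩ := by
          apply hesymm
          simp only [Subgroup.coe_mul, Subgroup.coe_inv]
          rw [hesymm_coe h]
        rw [h3]
      intro hdvd
      have h1 : (T ⊓ Cfsg.Agent.Lib.Helper85.conjStab hHn (θ : H → ℂ)).relIndex T ∣
          Q'.relIndex T := Subgroup.relIndex_dvd_of_le_left T hQS
      have h2 : Q'.relIndex T = (Q : Subgroup T).index := by
        unfold Subgroup.relIndex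
        rw [hQ', Subgroup.subgroupOf,
          Subgroup.comap_map_eq_self_of_injective T.subtype_injective]
      rw [h2] at h1
      exact Q.not_dvd_index (hdvd.trans h1)

end Cfsg.Agent.S4723
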