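import Cfsg.Statements.S4725
import Cfsg.Agent.Lib.Helper21.BlockPartVal
import Cfsg.Agent.Lib.Helper04.IndFun
import Cfsg.Agent.Lib.Helper83.Decompose
import Cfsg.Agent.Lib.Helper82.CharSchur

set_option autoImplicit false
set_option linter.style.haveILetI false
open Cfsg

namespace Cfsg.Agent.S4725

open Cfsg.Agent.Lib.Helper82 Cfsg.Agent.Lib.Helper21 Cfsg.Agent.Lib.Helper83

theorem factorization_charDegree_le_card' {X : Type*} [Group X] [Finite X] (p : ℕ)
    (χ : IrrCharacter X) :
    (charDegree (χ : X → ℂ)).factorization p ≤ (Nat.card X).factorization p := by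
  have h := IsIrrCharacter.charDegree_dvd_card χ.2
  exact (Nat.factorization_le_iff_dvd (IsIrrCharacter.charDegree_pos χ.2).ne'
    Nat.card_pos.ne').2 h p

/-- Let p be a prime, M a maximal ideal of the algebraic integers containing p, H a subgroup of the finite group G, and b a p-block of H inducing the p-block B of G, with b and B of the same defect. Then for every height-zero ζ ∈ b there is a height-zero χ ∈ B whose multiplicity in the character induced from ζ is not divisible by p. -/
theorem result {G : Type*} [Group G] [Fintype G] (p : ℕ) [Fact p.Prime] (M : Ideal Cfsg.AlgInt) (hM : Cfsg.IsPModular p M) (H : Subgroup G) (b : Set (Cfsg.IrrCharacter ↥H)) (B : Set (Cfsg.IrrCharacter G)) (hind : Cfsg.IsInducedBlock M H b B) (hdef : Cfsg.blockDefect p b = Cfsg.blockDefect p B) (ζ : Cfsg.IrrCharacter ↥H) (hζ : ζ ∈ b) (hζ0 : Cfsg.blockHeight p b (ζ : ↥H → ℂ) = 0) : ∃ χ ∈ B, Cfsg.blockHeight p B (χ : G → ℂ) = 0 ∧ ∃ a : ℕ, Cfsg.classInner (Cfsg.indFun H (ζ : ↥H → ℂ)) (χ : G → ℂ) = (a : ℂ) ∧ ¬ p ∣ a := by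
  classical
  haveI : Fintype H := Fintype.ofFinite H
  haveI : Fintype (IrrCharacter G) := Fintype.ofFinite _
  haveI : Fintype (IrrCharacter H) := Fintype.ofFinite _
  have hp : p.Prime := Fact.out
  have hMp : M.IsPrime := hM.2.1.isPrime
  obtain ⟨χ', hχ'⟩ := hind.2.1
  subst hχ'
  set B := blockOf M (χ' : G → ℂ) with hB
  have hχ'B : χ' ∈ B := mem_blockOf_self hMp χ'
  -- multiplicities
  have hmult : ∀ χ : IrrCharacter G, ∃ a : ℕ,
      classInner (ζ : H → ℂ) (fun h : H => (χ : G → ℂ) h) = a := fun χ =>
    classInner_char_nat (IsIrrCharacter.isCharacter ζ.2)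
      (isCharacter_restrict H (IsIrrCharacter.isCharacter χ.2))
  choose a ha using hmult
  have hfrob : ∀ χ : IrrCharacter G,
      classInner (indFun H (ζ : H → ℂ)) (χ : G → ℂ) = a χ := by
    intro χ
    rw [Cfsg.Agent.Lib.Helper04.frobenius_reciprocity H _ _ (isClassFunction_irr χ), ha χ]
  -- the valuation identity
  set t := omega (fun h : H => blockCoeff B (h : G)) (ζ : H → ℂ) with ht
  have ht1 : MemLocalIdeal M (t - 1) := by
    have := omega_restrict_blockCoeff_sub_ite H hMp hind hζ hχ'B χ'
    rwa [if_pos hχ'B] at this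
  set N : ℕ := ∑ χ : IrrCharacter G, if χ ∈ B then a χ * charDegree (χ : G → ℂ) else 0 with hN
  have hNt : (N : ℂ) = ((H.index * charDegree (ζ : H → ℂ) : ℕ) : ℂ) * t := by
    have h1 := sum_block_inner_restrict_mul_degree H B ζ
    rw [hN]
    push_cast
    rw [IsCharacter.charDegree_cast (IsIrrCharacter.isCharacter ζ.2), ← ht] at *
    rw [← h1]
    refine Finset.sum_congr rfl fun χ _ => ?_
    split_ifs
    · rw [ha χ, IsCharacter.charDegree_cast (IsIrrCharacter.isCharacter χ.2)]
    · rfl
  have hm0 : H.index * charDegree (ζ : H → ℂ) ≠ 0 :=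
    Nat.mul_ne_zero Subgroup.index_ne_zero_of_finite (IsIrrCharacter.charDegree_pos ζ.2).ne'
  obtain ⟨hN0, hNfac⟩ := factorization_eq_of_mul_unit hM hNt hm0 ht1
  rw [Nat.factorization_mul Subgroup.index_ne_zero_of_finite
    (IsIrrCharacter.charDegree_pos ζ.2).ne', Finsupp.add_apply] at hNfac
  -- the infima
  set sB := sInf ((fun χ : IrrCharacter G => (charDegree (χ : G → ℂ)).factorization p) '' B)
    with hsB
  set sb := sInf ((fun χ : IrrCharacter H => (charDegree (χ : H → ℂ)).factorization p) '' b)
    with hsb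
  have hsb_le : sb ≤ (charDegree (ζ : H → ℂ)).factorization p :=
    Nat.sInf_le (Set.mem_image_of_mem _ hζ)
  have hζfac : (charDegree (ζ : H → ℂ)).factorization p = sb := by
    rw [blockHeight] at hζ0
    omega
  have hsb_card : sb ≤ (Nat.card H).factorization p :=
    hsb_le.trans (factorization_charDegree_le_card' p ζ)
  have hsB_card : sB ≤ (Nat.card G).factorization p :=
    (Nat.sInf_le (Set.mem_image_of_mem _ hχ'B)).trans
      (factorization_charDegree_le_card' p χ')
  have hcard : (Nat.card G).factorization p =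
      (Nat.card H).factorization p + H.index.factorization p := by
    rw [← Subgroup.card_mul_index H, Nat.factorization_mul Nat.card_pos.ne'
      Subgroup.index_ne_zero_of_finite]
    rfl
  have hsBeq : sB = H.index.factorization p + sb := by
    rw [blockDefect, blockDefect] at hdef
    omega
  -- contradiction
  by_contra hcon
  push Not at hcon
  have hdvd : p ^ (sB + 1) ∣ N := by
    rw [hN]
    refine Finset.dvd_sum fun χ _ => ?_
    split_ifs with hχ
    · have hle : sB ≤ (charDegree (χ : G → ℂ)).factorization p :=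
        Nat.sInf_le (Set.mem_image_of_mem _ hχ)
      have hdpos := (IsIrrCharacter.charDegree_pos χ.2).ne'
      by_cases h0 : blockHeight p B (χ : G → ℂ) = 0
      · have h1 : p ∣ a χ := hcon χ hχ h0 (a χ) (hfrob χ)
        have h2 : p ^ sB ∣ charDegree (χ : G → ℂ) :=
          (hp.pow_dvd_iff_le_factorization hdpos).2 hle
        rw [pow_succ']
        exact Nat.mul_dvd_mul h1 h2
      · have h1 : sB + 1 ≤ (charDegree (χ : G → ℂ)).factorization p := by
          rw [blockHeight] at h0
          omega
        exact Dvd.dvd.mul_left ((hp.pow_dvd_iff_le_factorization hdpos).2 h1) _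
    · exact dvd_zero _
  have := (hp.pow_dvd_iff_le_factorization hN0).1 hdvd
  omega

end Cfsg.Agent.S4725
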