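import Cfsg.Statements.S4729
import Cfsg.Agent.Lib.Helper05.CharValues
import Cfsg.Agent.Lib.Helper82.LocalRing

set_option autoImplicit false
open Cfsg

namespace Cfsg.Agent.S4729

open Cfsg.Agent.Lib.Helper82 Cfsg.Agent.Lib.Helper05

/-- geometric sum of a root of unity -/
theorem geom_sum_root {ζ : ℂ} {m : ℕ} (hζ : ζ ^ m = 1) :
    ∑ k ∈ Finset.range m, ζ ^ k = if ζ = 1 then (m : ℂ) else 0 := by
  split_ifs with h
  · simp [h]
  · rw [geom_sum_eq h, hζ, sub_self, zero_div]

/-- Let p be a prime, M a maximal ideal of the algebraic integers containing p, G a finite perfect group and P a Sylow p-subgroup. If the principal p-block of G contains a faithful irreducible character of degree less than 2p, then the centralizer of P is a p-group. -/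
theorem result {G : Type*} [Group G] [Finite G] (p : ℕ) [Fact p.Prime] (M : Ideal Cfsg.AlgInt) (hM : Cfsg.IsPModular p M) (hperf : commutator G = ⊤) (P : Sylow p G) (χ : Cfsg.IrrCharacter G) (hχ : χ ∈ Cfsg.principalBlock M G) (hfaith : ∀ g : G, (χ : G → ℂ) g = (χ : G → ℂ) 1 → g = 1) (hdeg : Cfsg.charDegree (χ : G → ℂ) < 2 * p) : IsPGroup p ↥(Subgroup.centralizer ((P : Subgroup G) : Set G)) := by
  classical
  have hp : p.Prime := Fact.out
  have hMprime : M.IsPrime := hM.2.1.isPrime
  by_contra hnot
  -- a non-trivial `p`-regular element of `C_G(P)`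
  obtain ⟨x, hxC, hx1, hxp⟩ : ∃ x : G, x ∈ Subgroup.centralizer ((P : Subgroup G) : Set G) ∧
      x ≠ 1 ∧ ¬ p ∣ orderOf x := by
    unfold IsPGroup at hnot
    push Not at hnot
    obtain ⟨c, hc⟩ := hnot
    obtain ⟨e, n', hn', hn⟩ := Nat.exists_eq_pow_mul_and_not_dvd (orderOf_pos (c : G)).ne' p
      hp.ne_one
    refine ⟨(c : G) ^ (p ^ e), Subgroup.pow_mem _ c.2 _, ?_, ?_⟩
    · intro h
      apply hc e
      exact Subtype.ext (by simpa using h)
    · rw [orderOf_pow_of_dvd (pow_ne_zero _ hp.ne_zero) (hn ▸ Dvd.intro _ rfl), hn,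
        Nat.mul_div_cancel_left _ (pow_pos hp.pos _)]
      exact hn'
  set m := orderOf x with hm
  have hm0 : 0 < m := orderOf_pos x
  obtain ⟨n, ρ, -, hρ⟩ := χ.2
  have hex := exists_eigenvalues ρ x (isOfFinOrder_of_finite x)
  generalize hd : Module.finrank ℂ (Fin n → ℂ) = d at hex
  obtain ⟨b, μ, hμ, hb, hchar, -⟩ := hex
  have hχ1 : (χ : G → ℂ) 1 = (d : ℂ) := by
    have := hchar 0
    rw [pow_zero, hρ] at this
    rw [this]
    simp
  have hdlt : d < 2 * p := by
    have : Cfsg.charDegree (χ : G → ℂ) = d := by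
      unfold Cfsg.charDegree
      rw [hχ1]
      simp
    rwa [this] at hdeg
  have hd0 : (d : ℂ) ≠ 0 := by
    intro h0
    apply hx1
    apply hfaith
    have h1 := hchar 1
    rw [pow_one, hρ] at h1
    have hd' : d = 0 := by exact_mod_cast h0
    rw [h1, hχ1, h0]
    apply Finset.sum_eq_zero
    intro i
    exact absurd i.2 (by omega)
  -- the principal block condition at the powers of `x`
  have hblock : ∀ k : ℕ, MemLocalIdeal M (1 - (χ : G → ℂ) (x ^ k) / (χ : G → ℂ) 1) := by
    intro k
    have h1 : MemLocalIdeal M (centralChar (fun _ : G => (1 : ℂ)) (x ^ k)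
        - centralChar (χ : G → ℂ) (x ^ k)) := hχ (x ^ k)
    unfold centralChar at h1
    set c := (Subgroup.centralizer ({x ^ k} : Set G)).index with hc
    have hcp : ¬ p ∣ c := by
      intro hdvd
      have hle : (P : Subgroup G) ≤ Subgroup.centralizer ({x ^ k} : Set G) := by
        intro u hu
        rw [Subgroup.mem_centralizer_iff]
        intro y hy
        rw [Set.mem_singleton_iff] at hy
        subst hy
        have hcomm : u * x = x * u := (Subgroup.mem_centralizer_iff.mp hxC) u hu
        exact ((Commute.pow_right (show Commute u x from hcomm) k).eq).symm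
      exact P.not_dvd_index (dvd_trans hdvd (Subgroup.index_dvd_of_le hle))
    have h2 : (c : ℂ) * 1 / 1 - (c : ℂ) * (χ : G → ℂ) (x ^ k) / (χ : G → ℂ) 1
        = (c : ℂ) * (1 - (χ : G → ℂ) (x ^ k) / (χ : G → ℂ) 1) := by ring
    rw [h2] at h1
    have hcR : MemLocalRing M (c : ℂ) := memLocalRing_natCast hMprime c
    have hcI : ¬ MemLocalIdeal M (c : ℂ) := by
      rw [memLocalIdeal_natCast_iff hM]
      exact hcp
    have hc0 : (c : ℂ) ≠ 0 := by
      intro h0
      apply hcp
      have : c = 0 := by exact_mod_cast h0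
      rw [this]
      exact dvd_zero p
    have h3 := memLocalIdeal_mul_left hMprime (memLocalRing_inv hcR hcI) h1
    rwa [← mul_assoc, inv_mul_cancel₀ hc0, one_mul] at h3
  have hpm : ¬ p ∣ m := hxp
  -- multiplicities of non-trivial eigenvalues are divisible by `p`
  have hkey : ∀ ε : ℂ, ε ^ m = 1 → ε ≠ 1 →
      p ∣ (Finset.univ.filter (fun i => μ i = ε)).card := by
    intro ε hε hε1
    have hε0 : ε ≠ 0 := by
      rintro rfl
      rw [zero_pow hm0.ne'] at hε
      exact zero_ne_one hε
    have hεinv : (ε⁻¹) ^ m = 1 := by rw [inv_pow, hε, inv_one]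
    have hεint : IsIntegral ℤ ε⁻¹ := IsIntegral.of_pow hm0 (hεinv ▸ isIntegral_one)
    have hS1 : ∑ k ∈ Finset.range m, (χ : G → ℂ) (x ^ k) * (ε⁻¹) ^ k
        = (m : ℂ) * ((Finset.univ.filter (fun i => μ i = ε)).card : ℂ) := by
      have h1 : ∀ k, (χ : G → ℂ) (x ^ k) = ∑ i, μ i ^ k := fun k => by rw [← hρ, hchar]
      simp_rw [h1, Finset.sum_mul]
      rw [Finset.sum_comm]
      have h2 : ∀ i, ∑ k ∈ Finset.range m, μ i ^ k * (ε⁻¹) ^ k
          = if μ i = ε then (m : ℂ) else 0 := by
        intro i
        simp_rw [← mul_pow]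
        rw [geom_sum_root (by rw [mul_pow, hμ i, hεinv, one_mul])]
        have : μ i * ε⁻¹ = 1 ↔ μ i = ε := by
          rw [mul_inv_eq_one₀ hε0]
        simp only [this]
      rw [Finset.sum_congr rfl fun i _ => h2 i, Finset.sum_ite, Finset.sum_const,
        Finset.sum_const_zero, add_zero, nsmul_eq_mul, mul_comm]
    have hgeo : ∑ k ∈ Finset.range m, (ε⁻¹) ^ k = 0 := by
      rw [geom_sum_root hεinv, if_neg]
      intro h
      apply hε1
      rw [inv_eq_one] at h
      exact h
    have hS2 : ∑ k ∈ Finset.range m, (χ : G → ℂ) (x ^ k) * (ε⁻¹) ^ k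
        = -((d : ℂ) * ∑ k ∈ Finset.range m,
            (1 - (χ : G → ℂ) (x ^ k) / (χ : G → ℂ) 1) * (ε⁻¹) ^ k) := by
      simp_rw [sub_mul, one_mul]
      rw [Finset.sum_sub_distrib, hgeo, zero_sub, mul_neg, neg_neg, Finset.mul_sum]
      refine Finset.sum_congr rfl fun k _ => ?_
      rw [hχ1]
      field_simp
    have hY : MemLocalIdeal M (∑ k ∈ Finset.range m,
        (1 - (χ : G → ℂ) (x ^ k) / (χ : G → ℂ) 1) * (ε⁻¹) ^ k) :=
      memLocalIdeal_sum hMprime _ _ fun k _ =>
        memLocalIdeal_mul_right hMprime (hblock k)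
          (memLocalRing_pow hMprime (memLocalRing_of_isIntegral hMprime hεint) k)
    have hmem : MemLocalIdeal M
        ((m * (Finset.univ.filter (fun i => μ i = ε)).card : ℕ) : ℂ) := by
      push_cast
      rw [← hS1, hS2]
      exact memLocalIdeal_neg (memLocalIdeal_mul_left hMprime (memLocalRing_natCast hMprime d) hY)
    rw [memLocalIdeal_natCast_iff hM] at hmem
    exact (hp.dvd_mul.mp hmem).resolve_left hpm
  -- the determinant is trivial
  have hdet : ∏ i, μ i = 1 := by
    have h1 : LinearMap.det (ρ x) = ∏ i, μ i := by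
      rw [← LinearMap.det_toMatrix b]
      have : LinearMap.toMatrix b b (ρ x) = Matrix.diagonal μ := by
        ext i j
        rw [LinearMap.toMatrix_apply, hb j]
        simp only [map_smul, Module.Basis.repr_self, Finsupp.smul_single, smul_eq_mul, mul_one,
          Finsupp.single_apply, Matrix.diagonal_apply]
        by_cases hij : i = j
        · subst hij; simp
        · rw [if_neg hij, if_neg (fun h => hij h.symm)]
      rw [this, Matrix.det_diagonal]
    have h2 : LinearMap.det (ρ x) = 1 := by
      let f : G →* ℂˣ :=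
        (Units.map (LinearMap.det : ((Fin n → ℂ) →ₗ[ℂ] (Fin n → ℂ)) →* ℂ)).comp ρ.asGroupHom
      have hker : f.ker = ⊤ := top_le_iff.mp (hperf ▸ Abelianization.commutator_subset_ker f)
      have h3 : f x = 1 := MonoidHom.mem_ker.mp (hker ▸ Subgroup.mem_top x)
      have h4 := congrArg Units.val h3
      simpa [f, Representation.asGroupHom_apply] using h4
    rw [← h1, h2]
  -- all eigenvalues are `1`
  have hall : ∀ i, μ i = 1 := by
    by_contra hcon
    push Not at hcon
    obtain ⟨i0, hi0⟩ := hcon
    set ε := μ i0 with hεdef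
    have hεm : ε ^ m = 1 := hμ i0
    set Iε := Finset.univ.filter (fun i => μ i = ε) with hIε
    have hpI : p ∣ Iε.card := hkey ε hεm hi0
    have hIpos : 0 < Iε.card := Finset.card_pos.mpr ⟨i0, by rw [hIε, Finset.mem_filter]; exact ⟨Finset.mem_univ _, hεdef.symm⟩⟩
    have hIge : p ≤ Iε.card := Nat.le_of_dvd hIpos hpI
    have hcardle : ∀ s : Finset (Fin d), s.card ≤ d := fun s => by
      simpa using Finset.card_le_univ s
    have hother : ∀ i, μ i = 1 ∨ μ i = ε := by
      intro i
      by_contra hc
      push Not at hc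
      set I' := Finset.univ.filter (fun j => μ j = μ i) with hI'
      have h1 : p ≤ I'.card :=
        Nat.le_of_dvd (Finset.card_pos.mpr ⟨i, by simp [hI']⟩) (hkey (μ i) (hμ i) hc.1)
      have hdisj : Disjoint Iε I' := by
        rw [hIε, hI', Finset.disjoint_filter]
        intro j _ h1 h2
        exact hc.2 (h2.symm.trans h1)
      have h2 : Iε.card + I'.card ≤ d := by
        rw [← Finset.card_union_of_disjoint hdisj]
        exact hcardle _
      omega
    have hIlt : Iε.card < 2 * p := lt_of_le_of_lt (hcardle _) hdlt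
    have hIeq : Iε.card = p := by
      obtain ⟨c, hc⟩ := hpI
      have hc1 : c = 1 := by
        have hc0 : 0 < c := by
          rcases Nat.eq_zero_or_pos c with h | h
          · rw [h, mul_zero] at hc; omega
          · exact h
        have : c < 2 := by
          by_contra hge
          push Not at hge
          have : 2 * p ≤ p * c := by nlinarith
          omega
        omega
      rw [hc, hc1, mul_one]
    have hprod : ∏ i, μ i = ε ^ Iε.card := by
      have h1 : ∀ i, μ i = if μ i = ε then ε else 1 := by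
        intro i
        rcases hother i with h | h
        · rw [if_neg]
          · exact h
          · rw [h]; exact fun h' => hi0 h'.symm
        · rw [if_pos h]; exact h
      rw [Finset.prod_congr rfl fun i _ => h1 i, Finset.prod_ite, Finset.prod_const,
        Finset.prod_const_one, mul_one]
    rw [hprod, hIeq] at hdet
    have h3 := pow_gcd_eq_one.mpr ⟨hdet, hεm⟩
    rw [(Nat.Prime.coprime_iff_not_dvd hp).mpr hpm, pow_one] at h3
    exact hi0 h3
  apply hx1
  apply hfaith
  have h1 := hchar 1
  rw [pow_one, hρ] at h1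
  rw [h1, hχ1]
  simp [hall]

end Cfsg.Agent.S4729
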