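import Cfsg.Statements.S4730
import Cfsg.Agent.S3968
import Cfsg.Agent.Lib.Helper82.Counting
import Cfsg.Agent.Lib.Helper82.CharBasic
import Cfsg.Agent.Lib.Helper82.CharSchur
import Cfsg.Agent.Lib.Helper82.LocalRing
import Cfsg.Agent.Lib.Helper82.BlockBasic
import Cfsg.Agent.Lib.Helper05.CharBasic
import Cfsg.Agent.Lib.Helper05.CharDecomp

set_option autoImplicit false
set_option linter.style.haveILetI false
set_option linter.unusedSectionVars false
open Cfsg

namespace Cfsg.Agent.S4730

open Cfsg.Agent.Lib.Helper82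
open scoped ComplexConjugate

universe u

/-- a faithful irreducible character with trivial centre vanishes at every non-identity element
whose class size is prime to the degree -/
theorem vanish_of_coprime {G : Type u} [Group G] [Finite G] (hZ : Subgroup.center G = ⊥)
    (χ : IrrCharacter G) (hfaith : ∀ g : G, (χ : G → ℂ) g = (χ : G → ℂ) 1 → g = 1)
    (z : G) (hz : z ≠ 1)
    (hcop : Nat.Coprime (Subgroup.centralizer ({z} : Set G)).index (charDegree (χ : G → ℂ))) :
    (χ : G → ℂ) z = 0 := by
  obtain ⟨n, ρ, hρ, hχρ⟩ := χ.2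
  haveI := hρ
  have hdeg : charDegree (χ : G → ℂ) = n := by
    have h1 : (charDegree (χ : G → ℂ) : ℂ) = (χ : G → ℂ) 1 :=
      IsCharacter.charDegree_cast (Cfsg.Agent.Lib.Helper05.IsIrrCharacter.isCharacter χ.2)
    have h2 : (χ : G → ℂ) 1 = (n : ℂ) := by
      rw [← hχρ, Representation.char_one]; simp
    rw [h2] at h1
    exact_mod_cast h1
  rw [hdeg] at hcop
  rcases Cfsg.Agent.S3968.burnside_coprime ρ z hcop with h0 | ⟨ω, hω⟩
  · rw [← hχρ]; exact h0
  · exfalso
    apply hz
    have hcen : z ∈ Subgroup.center G := by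
      rw [Subgroup.mem_center_iff]
      intro g
      have hcomm : ρ (z * g) = ρ (g * z) := by
        rw [map_mul, map_mul, hω]
        ext v
        simp
      have hc1 : ρ (z * g * (g * z)⁻¹) = 1 := by
        rw [map_mul, hcomm, ← map_mul, mul_inv_cancel, map_one]
      have hval : (χ : G → ℂ) (z * g * (g * z)⁻¹) = (χ : G → ℂ) 1 := by
        rw [← hχρ]
        show LinearMap.trace ℂ _ (ρ (z * g * (g * z)⁻¹)) = LinearMap.trace ℂ _ (ρ 1)
        rw [hc1, map_one ρ]
      have := hfaith _ hval
      have h3 : z * g = g * z := mul_inv_eq_one.mp this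
      exact h3.symm
    rw [hZ] at hcen
    exact Subgroup.mem_bot.mp hcen

/-- Let p be a prime, M a maximal ideal of the algebraic integers containing p, and G a finite group with trivial centre, Sylow p-subgroup P of order p^a and centre Z(P) of order p^b. If χ is a faithful irreducible character of G whose degree is a power of p, then the p-block of χ has defect at most a − b; in particular, if P is abelian then χ lies in a block of defect zero. -/
theorem result {G : Type*} [Group G] [Finite G] (p : ℕ) [Fact p.Prime] (M : Ideal Cfsg.AlgInt) (hM : Cfsg.IsPModular p M) (hZ : Subgroup.center G = ⊥) (P : Sylow p G) (a b : ℕ) (ha : Nat.card P = p ^ a) (hb : Nat.card (Subgroup.center ↥(P : Subgroup G)) = p ^ b) (χ : Cfsg.IrrCharacter G) (hfaith : ∀ g : G, (χ : G → ℂ) g = (χ : G → ℂ) 1 → g = 1) (n : ℕ) (hdeg : Cfsg.charDegree (χ : G → ℂ) = p ^ n) : Cfsg.blockDefect p (Cfsg.blockOf M (χ : G → ℂ)) ≤ a - b ∧ (IsMulCommutative ↥(P : Subgroup G) → Cfsg.blockDefect p (Cfsg.blockOf M (χ : G → ℂ)) = 0) := by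
  classical
  haveI : Fintype G := Fintype.ofFinite G
  have hMp : M.IsPrime := hM.2.1.isPrime
  have hp : p.Prime := Fact.out
  -- the centre of `P` inside `G`
  set ZG : Subgroup G := (Subgroup.center ↥(P : Subgroup G)).map (P : Subgroup G).subtype with hZG
  have hZGcard : Nat.card ZG = p ^ b := by
    rw [hZG, Subgroup.card_map_of_injective (Subgroup.subtype_injective _), hb]
  have hZGP : ∀ z ∈ ZG, z ∈ (P : Subgroup G) ∧ ∀ y ∈ (P : Subgroup G), y * z = z * y := by
    intro z hz
    rw [hZG, Subgroup.mem_map] at hz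
    obtain ⟨w, hw, rfl⟩ := hz
    refine ⟨w.2, fun y hy => ?_⟩
    have := (Subgroup.mem_center_iff.mp hw) ⟨y, hy⟩
    exact congrArg Subtype.val this
  -- class sizes of elements of `ZG` are prime to `p`
  have hidx : ∀ z ∈ ZG, ¬ p ∣ (Subgroup.centralizer ({z} : Set G)).index := by
    intro z hz hdvd
    have hle : (P : Subgroup G) ≤ Subgroup.centralizer ({z} : Set G) := by
      intro y hy
      rw [Subgroup.mem_centralizer_iff]
      intro w hw
      rw [Set.mem_singleton_iff] at hw
      rw [hw]
      exact ((hZGP z hz).2 y hy).symm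
    have h1 := Subgroup.index_dvd_of_le hle
    exact P.not_dvd_index (dvd_trans hdvd h1)
  -- `χ` vanishes on `ZG` off the identity
  have hχ0 : ∀ z ∈ ZG, z ≠ 1 → (χ : G → ℂ) z = 0 := by
    intro z hz hz1
    apply vanish_of_coprime hZ χ hfaith z hz1
    rw [hdeg]
    apply Nat.Coprime.pow_right
    exact ((Nat.Prime.coprime_iff_not_dvd hp).mpr (hidx z hz)).symm
  -- every character in the block has degree divisible by `p ^ b`
  have hdvd : ∀ ψ ∈ blockOf M (χ : G → ℂ), p ^ b ∣ charDegree (ψ : G → ℂ) := by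
    intro ψ hψ
    have hψc : IsCharacter G (ψ : G → ℂ) :=
      Cfsg.Agent.Lib.Helper05.IsIrrCharacter.isCharacter ψ.2
    have hψ1 : (charDegree (ψ : G → ℂ) : ℂ) = (ψ : G → ℂ) 1 := IsCharacter.charDegree_cast hψc
    have hdpos : 0 < charDegree (ψ : G → ℂ) := IsIrrCharacter.charDegree_pos ψ.2
    have hd0 : (ψ : G → ℂ) 1 ≠ 0 := by
      rw [← hψ1]; exact_mod_cast hdpos.ne'
    -- the quotients `ψ z / ψ 1` lie in the local ideal
    have hquot : ∀ z ∈ ZG, z ≠ 1 → MemLocalIdeal M ((ψ : G → ℂ) z / (ψ : G → ℂ) 1) := by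
      intro z hz hz1
      have h1 := hψ z
      have h2 : centralChar (χ : G → ℂ) z = 0 := by
        unfold centralChar
        rw [hχ0 z hz hz1]; simp
      rw [h2, zero_sub] at h1
      have h3 : MemLocalIdeal M (centralChar (ψ : G → ℂ) z) := by
        have := memLocalIdeal_neg h1
        rwa [neg_neg] at this
      set m := (Subgroup.centralizer ({z} : Set G)).index with hm
      have hmni : ¬ MemLocalIdeal M (m : ℂ) := by
        rw [memLocalIdeal_natCast_iff hM]; exact hidx z hz
      have hminv : MemLocalRing M ((m : ℂ)⁻¹) :=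
        memLocalRing_inv (memLocalRing_natCast hMp m) hmni
      have hm0 : (m : ℂ) ≠ 0 := by
        intro h0
        apply hmni
        rw [h0]; exact memLocalIdeal_zero hMp
      have h4 := memLocalIdeal_mul_right hMp h3 hminv
      have h5 : centralChar (ψ : G → ℂ) z * (m : ℂ)⁻¹ = (ψ : G → ℂ) z / (ψ : G → ℂ) 1 := by
        unfold centralChar
        rw [← hm]
        field_simp
      rwa [h5] at h4
    -- sum over `ZG`
    obtain ⟨k, hk⟩ := IsCharacter.sum_subgroup hψc ZG
    rw [← Nat.card_eq_fintype_card, hZGcard] at hk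
    set ε : ℂ := ∑ u ∈ (Finset.univ.erase (1 : ZG)), (ψ : G → ℂ) (u : G) / (ψ : G → ℂ) 1 with hε
    have hεM : MemLocalIdeal M ε := by
      apply memLocalIdeal_sum hMp
      intro u hu
      apply hquot (u : G) u.2
      intro h1
      exact (Finset.ne_of_mem_erase hu) (Subtype.ext h1)
    have hsum : ((p ^ b : ℕ) : ℂ) * (k : ℂ) = (charDegree (ψ : G → ℂ) : ℂ) * (1 + ε) := by
      rw [← hk, ← Finset.add_sum_erase _ _ (Finset.mem_univ (1 : ZG)), hψ1, mul_add, mul_one, hε,
        Finset.mul_sum]
      congr 1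
      refine Finset.sum_congr rfl fun u _ => ?_
      field_simp
    -- valuation argument
    have hunit : ¬ MemLocalIdeal M (1 + ε) := by
      intro h
      have := memLocalIdeal_sub hMp h hεM
      rw [add_sub_cancel_right] at this
      exact not_memLocalIdeal_one hMp this
    rw [(Nat.Prime.pow_dvd_iff_le_factorization hp hdpos.ne')]
    by_contra hlt
    push Not at hlt
    set d := charDegree (ψ : G → ℂ) with hd
    set v := d.factorization p with hv
    obtain ⟨d', hd'⟩ : p ^ v ∣ d := Nat.ordProj_dvd d p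
    have hd'p : ¬ p ∣ d' := by
      intro hpd
      obtain ⟨d'', rfl⟩ := hpd
      have : p ^ (v + 1) ∣ d := ⟨d'', by rw [hd', pow_succ]; ring⟩
      have := (Nat.Prime.pow_dvd_iff_le_factorization hp hdpos.ne').mp this
      omega
    have hpv0 : ((p ^ v : ℕ) : ℂ) ≠ 0 := by
      exact_mod_cast (pow_pos hp.pos v).ne'
    have hkey : (d' : ℂ) * (1 + ε) = ((p ^ (b - v) : ℕ) : ℂ) * (k : ℂ) := by
      have hb' : p ^ b = p ^ v * p ^ (b - v) := by
        rw [← pow_add]; congr 1; omega
      have h1 := hsum
      rw [hd', hb'] at h1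
      push_cast at h1 ⊢
      have hpv0' : ((p : ℂ) ^ v) ≠ 0 := by
        have := hpv0; push_cast at this; exact this
      apply mul_left_cancel₀ hpv0'
      linear_combination -h1
    have hmem : MemLocalIdeal M ((d' : ℂ) * (1 + ε)) := by
      rw [hkey]
      apply memLocalIdeal_mul_right hMp _ (memLocalRing_natCast hMp k)
      rw [memLocalIdeal_natCast_iff hM]
      exact dvd_pow_self p (by omega)
    have h1ε : MemLocalRing M (1 + ε) :=
      memLocalRing_add hMp (memLocalRing_one hMp) (memLocalIdeal_memLocalRing hεM)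
    rcases memLocalIdeal_of_mul_memLocalIdeal hMp (memLocalRing_natCast hMp d') h1ε hmem with h | h
    · exact hd'p ((memLocalIdeal_natCast_iff hM d').mp h)
    · exact hunit h
  -- the defect
  have hGa : (Nat.card G).factorization p = a := by
    have h1 := Sylow.card_eq_multiplicity P
    rw [ha] at h1
    exact (Nat.pow_right_injective hp.two_le h1).symm
  have hχB : χ ∈ blockOf M (χ : G → ℂ) := mem_blockOf_iff.mpr (sameBlock_refl hMp _)
  have hinf : b ≤ sInf ((fun ψ : IrrCharacter G => (charDegree (ψ : G → ℂ)).factorization p) ''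
      blockOf M (χ : G → ℂ)) := by
    apply le_csInf
    · exact ⟨_, χ, hχB, rfl⟩
    · rintro x ⟨ψ, hψ, rfl⟩
      exact (Nat.Prime.pow_dvd_iff_le_factorization hp
        (IsIrrCharacter.charDegree_pos ψ.2).ne').mp (hdvd ψ hψ)
  have hmain : blockDefect p (blockOf M (χ : G → ℂ)) ≤ a - b := by
    unfold blockDefect
    rw [hGa]
    exact Nat.sub_le_sub_left hinf a
  refine ⟨hmain, fun hcomm => ?_⟩
  have htop : Subgroup.center ↥(P : Subgroup G) = ⊤ := by
    rw [Subgroup.eq_top_iff']
    intro x
    rw [Subgroup.mem_center_iff]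
    intro y
    exact hcomm.is_comm.comm y x
  rw [htop, Subgroup.card_top, ha] at hb
  have hab : a = b := Nat.pow_right_injective hp.two_le hb
  rw [hab, Nat.sub_self] at hmain
  exact Nat.le_zero.mp hmain

end Cfsg.Agent.S4730
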