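import Cfsg.Statements.S4731
import Cfsg.Agent.Lib.Helper82.WeakOrth
import Cfsg.Agent.Lib.Helper82.Counting
import Cfsg.Agent.Lib.Helper82.CharBasic
import Cfsg.Agent.Lib.Helper83.Orthogonality
import Cfsg.Agent.Lib.Helper21.Osima
import Cfsg.Agent.Lib.Helper05.CharBasic
import Cfsg.Agent.Lib.Helper05.CharDecomp

set_option autoImplicit false
set_option linter.style.haveILetI false
set_option linter.unusedSectionVars false
open Cfsg

namespace Cfsg.Agent.S4731

open Cfsg.Agent.Lib.Helper82 Cfsg.Agent.Lib.Helper21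
open scoped ComplexConjugate

universe u

/-- in a group without elements of order `p * q`, a `q`-singular element is `p`-regular -/
theorem not_dvd_of_dvd {G : Type u} [Group G] [Finite G] (p q : ℕ) (hp : p.Prime) (hq : q.Prime)
    (hpq : p ≠ q) (hno : ∀ g : G, orderOf g ≠ p * q) (g : G) (hg : q ∣ orderOf g) :
    ¬ p ∣ orderOf g := by
  intro hpg
  have hcop : Nat.Coprime p q := (Nat.coprime_primes hp hq).mpr hpq
  have hdvd : p * q ∣ orderOf g := hcop.mul_dvd_of_dvd_of_dvd hpg hg
  obtain ⟨k, hk⟩ := hdvd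
  have hpos : 0 < orderOf g := orderOf_pos g
  have hk0 : k ≠ 0 := by
    rintro rfl
    rw [mul_zero] at hk; omega
  have hkd : k ∣ orderOf g := ⟨p * q, by rw [hk, mul_comm]⟩
  have h1 := orderOf_pow_of_dvd hk0 hkd
  rw [hk, Nat.mul_div_cancel _ (Nat.pos_of_ne_zero hk0)] at h1
  exact hno _ h1

/-- Let p ≠ q be primes, M_p and M_q maximal ideals of the algebraic integers containing p and q respectively, and G a finite group with no element of order pq; let q^b be the q-part of the order of G. For a p-block B_p (relative to M_p), a q-block B_q (relative to M_q) and a p-singular element y, the sum of χ(1)χ(y) over the irreducible characters χ lying in both B_p and B_q is q^b times an algebraic integer. -/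
theorem result {G : Type*} [Group G] [Finite G] (p q : ℕ) [Fact p.Prime] [Fact q.Prime] (hpq : p ≠ q) (Mp Mq : Ideal Cfsg.AlgInt) (hMp : Cfsg.IsPModular p Mp) (hMq : Cfsg.IsPModular q Mq) (hno : ∀ g : G, orderOf g ≠ p * q) (b : ℕ) (hb : (Nat.card G).factorization q = b) (Bp : Set (Cfsg.IrrCharacter G)) (hBp : Cfsg.IsPBlock Mp Bp) (Bq : Set (Cfsg.IrrCharacter G)) (hBq : Cfsg.IsPBlock Mq Bq) (y : G) (hy : p ∣ orderOf y) : ∃ ω : Cfsg.AlgInt, ∑ᶠ χ ∈ Bp ∩ Bq, (Cfsg.charDegree (χ : G → ℂ) : ℂ) * (χ : G → ℂ) y = (q : ℂ) ^ b * (ω : ℂ) := by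
  classical
  haveI : Fintype G := Fintype.ofFinite G
  haveI : Finite (IrrCharacter G) := Cfsg.Agent.Lib.Helper05.finite_irrCharacter
  haveI : Fintype (IrrCharacter G) := Fintype.ofFinite _
  have hp : p.Prime := Fact.out
  have hq : q.Prime := Fact.out
  obtain ⟨χp, hBp'⟩ := hBp
  obtain ⟨χq, hBq'⟩ := hBq
  have hGne : (Nat.card G : ℂ) ≠ 0 := by
    exact_mod_cast (Nat.card_pos (α := G)).ne'
  -- the coefficients
  set c : IrrCharacter G → ℂ := fun χ => if χ ∈ Bp then (χ : G → ℂ) y else 0 with hc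
  -- the class function `θ`
  set θ : G → ℂ := fun g => ∑ χ : IrrCharacter G, c χ * (χ : G → ℂ) g with hθ
  -- `θ` vanishes on `p`-regular elements
  have hθ0 : ∀ g : G, ¬ p ∣ orderOf g → θ g = 0 := by
    intro g hg
    have h := sum_block_mul_eq_zero hMp χp g y hg hy
    rw [← hBp', finsum_mem_eq_sum_ite] at h
    rw [hθ, ← h]
    refine Finset.sum_congr rfl fun χ _ => ?_
    simp only [hc]
    split_ifs
    · ring
    · ring
  -- the coefficients are the inner products of `θ`
  have hcoef : ∀ χ : IrrCharacter G,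
      c χ = (Nat.card G : ℂ)⁻¹ * ∑ g : G, θ g * conj ((χ : G → ℂ) g) := by
    intro χ
    have h1 : ∀ g : G, θ g * conj ((χ : G → ℂ) g)
        = ∑ χ' : IrrCharacter G, c χ' * ((χ' : G → ℂ) g * conj ((χ : G → ℂ) g)) := by
      intro g
      rw [hθ, Finset.sum_mul]
      refine Finset.sum_congr rfl fun χ' _ => ?_
      ring
    simp_rw [h1]
    rw [Finset.sum_comm, Finset.mul_sum]
    have h2 : ∀ χ' : IrrCharacter G,
        (Nat.card G : ℂ)⁻¹ * ∑ g : G, c χ' * ((χ' : G → ℂ) g * conj ((χ : G → ℂ) g))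
          = c χ' * (if χ' = χ then 1 else 0) := by
      intro χ'
      rw [← Finset.mul_sum, ← Cfsg.Agent.Lib.Helper83.irr_orthonormal χ' χ]
      unfold classInner
      ring
    simp_rw [h2]
    simp
  -- weak block orthogonality for `q`, conjugated
  have hq0 : ∀ g h : G, ¬ q ∣ orderOf g → q ∣ orderOf h →
      ∑ χ : IrrCharacter G, (if χ ∈ Bq then (χ : G → ℂ) h * conj ((χ : G → ℂ) g) else 0) = 0 := by
    intro g h hg hh
    have h0 := weak_block_orthogonality hMq χq g h hg hh
    rw [← hBq', finsum_mem_eq_sum_ite] at h0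
    have h1 := congrArg (starRingEnd ℂ) h0
    rw [map_sum, map_zero] at h1
    refine Eq.trans (Finset.sum_congr rfl fun χ _ => ?_) h1
    split_ifs
    · rw [map_mul, Complex.conj_conj]; ring
    · rw [map_zero]
  -- the `B_q`-part of `θ` vanishes on `q`-singular elements
  have hT0 : ∀ h : G, q ∣ orderOf h →
      ∑ χ : IrrCharacter G, (if χ ∈ Bq then c χ * (χ : G → ℂ) h else 0) = 0 := by
    intro h hh
    have h1 : ∀ χ : IrrCharacter G, (if χ ∈ Bq then c χ * (χ : G → ℂ) h else 0)
        = (Nat.card G : ℂ)⁻¹ * ∑ g : G, θ g *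
            (if χ ∈ Bq then (χ : G → ℂ) h * conj ((χ : G → ℂ) g) else 0) := by
      intro χ
      split_ifs
      · rw [hcoef χ, mul_assoc, Finset.sum_mul]
        congr 1
        refine Finset.sum_congr rfl fun g _ => ?_
        ring
      · simp
    simp_rw [h1]
    rw [← Finset.mul_sum, Finset.sum_comm]
    have h2 : ∀ g : G, ∑ χ : IrrCharacter G, θ g *
        (if χ ∈ Bq then (χ : G → ℂ) h * conj ((χ : G → ℂ) g) else 0) = 0 := by
      intro g
      rw [← Finset.mul_sum]
      by_cases hg : q ∣ orderOf g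
      · rw [hθ0 g (not_dvd_of_dvd p q hp hq hpq hno g hg), zero_mul]
      · rw [hq0 g h hg hh, mul_zero]
    simp_rw [h2]
    simp
  -- a Sylow `q`-subgroup
  obtain ⟨Q⟩ : Nonempty (Sylow q G) := inferInstance
  have hQcard : Nat.card (Q : Subgroup G) = q ^ b := by
    rw [← hb]; exact Sylow.card_eq_multiplicity Q
  -- the numbers `m χ`
  have hm : ∀ χ : IrrCharacter G, ∃ m : ℕ,
      ∑ u : (Q : Subgroup G), (χ : G → ℂ) u = (Fintype.card (Q : Subgroup G) : ℂ) * m :=
    fun χ => IsCharacter.sum_subgroup (Cfsg.Agent.Lib.Helper05.IsIrrCharacter.isCharacter χ.2) _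
  choose m hm using hm
  -- summing the `B_q`-part over `Q`
  have hsumQ : ∑ u : (Q : Subgroup G),
      ∑ χ : IrrCharacter G, (if χ ∈ Bq then c χ * (χ : G → ℂ) (u : G) else 0)
      = ∑ χ : IrrCharacter G, (if χ ∈ Bq then c χ * (χ : G → ℂ) 1 else 0) := by
    rw [Finset.sum_eq_single (1 : (Q : Subgroup G))]
    · rfl
    · intro u _ hu
      apply hT0
      have hu1 : (u : G) ≠ 1 := fun h => hu (Subtype.ext h)
      obtain ⟨k, hk⟩ := (IsPGroup.iff_orderOf.mp Q.isPGroup') u
      have hk' : orderOf (u : G) = q ^ k := by rw [← hk, Subgroup.orderOf_coe]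
      rw [hk']
      have hk0 : k ≠ 0 := by
        rintro rfl
        rw [pow_zero, orderOf_eq_one_iff] at hk'
        exact hu1 hk'
      exact dvd_pow_self q hk0
    · intro h; exact absurd (Finset.mem_univ _) h
  have hsumQ' : ∑ u : (Q : Subgroup G),
      ∑ χ : IrrCharacter G, (if χ ∈ Bq then c χ * (χ : G → ℂ) (u : G) else 0)
      = (q : ℂ) ^ b * ∑ χ : IrrCharacter G, (if χ ∈ Bq then c χ * (m χ : ℂ) else 0) := by
    rw [Finset.sum_comm, Finset.mul_sum]
    refine Finset.sum_congr rfl fun χ _ => ?_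
    split_ifs
    · rw [← Finset.mul_sum, hm χ, ← Nat.card_eq_fintype_card, hQcard]
      push_cast
      ring
    · simp
  -- the algebraic integer
  have hint : IsIntegral ℤ (∑ χ : IrrCharacter G, (if χ ∈ Bq then c χ * (m χ : ℂ) else 0)) := by
    apply IsIntegral.sum
    intro χ _
    split_ifs
    · apply IsIntegral.mul
      · simp only [hc]
        split_ifs
        · exact IsCharacter.isIntegral (Cfsg.Agent.Lib.Helper05.IsIrrCharacter.isCharacter χ.2) y
        · exact isIntegral_zero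
      · have := isIntegral_algebraMap (R := ℤ) (A := ℂ) (x := (m χ : ℤ))
        simpa using this
    · exact isIntegral_zero
  refine ⟨⟨_, hint⟩, ?_⟩
  rw [finsum_mem_eq_sum_ite]
  show _ = (q : ℂ) ^ b * ∑ χ : IrrCharacter G, (if χ ∈ Bq then c χ * (m χ : ℂ) else 0)
  rw [← hsumQ', hsumQ]
  refine Finset.sum_congr rfl fun χ _ => ?_
  have hdeg : (charDegree (χ : G → ℂ) : ℂ) = (χ : G → ℂ) 1 :=
    IsCharacter.charDegree_cast (Cfsg.Agent.Lib.Helper05.IsIrrCharacter.isCharacter χ.2)
  simp only [hc, Set.mem_inter_iff]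
  by_cases h1 : χ ∈ Bp <;> by_cases h2 : χ ∈ Bq <;> simp [h1, h2, hdeg, mul_comm]

end Cfsg.Agent.S4731
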