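import Cfsg.Statements.S4733
import Cfsg.Agent.Lib.Helper82.DefectRank

set_option autoImplicit false
set_option linter.style.haveILetI false
open Cfsg

namespace Cfsg.Agent.S4733

/-- Let p be a prime, M a maximal ideal of the algebraic integers containing p, and B a p-block of the finite group G with k irreducible characters and p-regular rank l (the number of irreducible Brauer characters). Then l ≤ k, and the following are equivalent: B has defect 0; k = l = 1; k = l. -/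
theorem result {G : Type*} [Group G] [Finite G] (p : ℕ) [Fact p.Prime] (M : Ideal Cfsg.AlgInt) (hM : Cfsg.IsPModular p M) (B : Set (Cfsg.IrrCharacter G)) (hB : Cfsg.IsPBlock M B) : Cfsg.blockRank p B ≤ Nat.card B ∧ (Cfsg.blockDefect p B = 0 ↔ (Nat.card B = 1 ∧ Cfsg.blockRank p B = 1)) ∧ (Cfsg.blockDefect p B = 0 ↔ Nat.card B = Cfsg.blockRank p B) := by
  classical
  letI : Fintype G := Fintype.ofFinite G
  open Cfsg.Agent.Lib.Helper82 in
  have hMprime : M.IsPrime := hM.2.1.isPrime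
  have hp : p.Prime := hM.1
  obtain ⟨χ₀, rfl⟩ := hB
  have hne : (Cfsg.blockOf M (χ₀ : G → ℂ)).Nonempty :=
    ⟨χ₀, Cfsg.Agent.Lib.Helper82.mem_blockOf_self hMprime χ₀⟩
  -- defect zero gives a singleton block
  have h011 : Cfsg.blockDefect p (Cfsg.blockOf M (χ₀ : G → ℂ)) = 0 →
      Nat.card (Cfsg.blockOf M (χ₀ : G → ℂ)) = 1 ∧
        Cfsg.blockRank p (Cfsg.blockOf M (χ₀ : G → ℂ)) = 1 := by
    intro h0
    have h1 := (Cfsg.Agent.Lib.Helper82.blockDefect_eq_zero_iff hne).1 h0 χ₀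
      (Cfsg.Agent.Lib.Helper82.mem_blockOf_self hMprime χ₀)
    have h2 := (Cfsg.Agent.Lib.Helper82.factorization_le_iff_not_dvd hp χ₀).1 h1
    have h3 := Cfsg.Agent.Lib.Helper82.blockOf_eq_singleton_of_not_dvd hM χ₀ h2
    rw [h3]
    exact ⟨by simp, Cfsg.Agent.Lib.Helper82.blockRank_singleton hp χ₀⟩
  -- equality of the counts gives defect zero
  have hkl0 : Nat.card (Cfsg.blockOf M (χ₀ : G → ℂ)) =
      Cfsg.blockRank p (Cfsg.blockOf M (χ₀ : G → ℂ)) →
      Cfsg.blockDefect p (Cfsg.blockOf M (χ₀ : G → ℂ)) = 0 := by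
    intro hkl
    rw [Cfsg.Agent.Lib.Helper82.blockDefect_eq_zero_iff hne]
    intro χ hχ
    have hvan := Cfsg.Agent.Lib.Helper82.eq_zero_of_card_eq_blockRank hM χ₀ hkl χ hχ
    obtain ⟨P⟩ : Nonempty (Sylow p G) := inferInstance
    have hdvd := Cfsg.Agent.Lib.Helper82.card_sylow_dvd_charDegree
      (Cfsg.Agent.Lib.Helper82.IsIrrCharacter.isCharacter χ.2) hvan P
    rw [Sylow.card_eq_multiplicity] at hdvd
    have hdpos := Cfsg.Agent.Lib.Helper82.IsIrrCharacter.charDegree_pos χ.2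
    exact (hp.pow_dvd_iff_le_factorization hdpos.ne').1 hdvd
  refine ⟨Cfsg.Agent.Lib.Helper82.blockRank_le_card _, ⟨h011, ?_⟩, ⟨?_, hkl0⟩⟩
  · rintro ⟨h1, h2⟩
    exact hkl0 (by rw [h1, h2])
  · intro h0
    obtain ⟨h1, h2⟩ := h011 h0
    rw [h1, h2]

end Cfsg.Agent.S4733
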