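import Cfsg.Statements.S4735
import Cfsg.Agent.S4517
import Cfsg.Agent.S4550
import Cfsg.Agent.Lib.Helper22.BlockQuot
import Cfsg.Agent.Lib.Helper83.Quotient
import Cfsg.Agent.Lib.Helper83.SecondOrth
import Cfsg.Agent.Lib.Helper83.Abelian
import Cfsg.Agent.Lib.Helper01.PPrimeCore
import Cfsg.Agent.Lib.Helper17.PermTau2
import Cfsg.Agent.Lib.Helper79.RealOdd2
import Cfsg.Agent.Lib.Helper05.CharBasic
import Cfsg.Agent.Lib.Helper05.CharDecomp
import Cfsg.Agent.Lib.Helper82.CharBasic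
import Cfsg.Agent.Lib.Helper82.BlockBasic

set_option autoImplicit false
set_option linter.style.haveILetI false
set_option linter.unusedSectionVars false
open Cfsg

namespace Cfsg.Agent.S4735

open Cfsg.Agent.Lib.Helper82 Cfsg.Agent.Lib.Helper05 Cfsg.Agent.Lib.Helper83 Cfsg.Agent.Lib.Helper22
open scoped ComplexConjugate

universe u

/-- inflation from the quotient by a normal `p'`-subgroup is a bijection between the principal
blocks -/
theorem bijOn_inflate_principal {G : Type u} [Group G] [Finite G] {p : ℕ} {M : Ideal Cfsg.AlgInt}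
    (hM : Cfsg.IsPModular p M) (H : Subgroup G) [H.Normal] (hH : ¬ p ∣ Nat.card H) :
    Set.BijOn (fun ψ : IrrCharacter (G ⧸ H) => ((irrQuotientEquiv H ψ).1 : IrrCharacter G))
      (principalBlock M (G ⧸ H)) (principalBlock M G) := by
  have hMp : M.IsPrime := hM.2.1.isPrime
  have he_apply : ∀ (ψ : IrrCharacter (G ⧸ H)) (g : G),
      (((irrQuotientEquiv H ψ).1 : IrrCharacter G) : G → ℂ) g
        = (ψ : G ⧸ H → ℂ) (QuotientGroup.mk g) := fun ψ g => irrQuotientEquiv_apply H ψ g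
  refine ⟨?_, ?_, ?_⟩
  · intro ψ hψ
    have h1 := sameBlock_inflate hMp H (χ := fun _ => (1 : ℂ)) (ψ := (ψ : G ⧸ H → ℂ)) hψ
    show SameBlock M (fun _ : G => (1 : ℂ)) (((irrQuotientEquiv H ψ).1 : IrrCharacter G) : G → ℂ)
    have : (((irrQuotientEquiv H ψ).1 : IrrCharacter G) : G → ℂ)
        = (ψ : G ⧸ H → ℂ) ∘ QuotientGroup.mk := funext (he_apply ψ)
    rw [this]; exact h1
  · intro ψ _ ψ' _ h
    have : irrQuotientEquiv H ψ = irrQuotientEquiv H ψ' := Subtype.ext h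
    exact (irrQuotientEquiv H).injective this
  · intro χ hχ
    have hker : ∀ n ∈ H, (χ : G → ℂ) n = (χ : G → ℂ) 1 :=
      ker_of_sameBlock hM H hH (α := fun _ => (1 : ℂ)) Cfsg.Agent.Lib.Helper05.isIrrCharacter_one χ.2 hχ (fun _ _ => rfl)
    refine ⟨(irrQuotientEquiv H).symm ⟨χ, hker⟩, ?_, ?_⟩
    · have hψ2 := ((irrQuotientEquiv H).symm ⟨χ, hker⟩).2
      apply sameBlock_deflate hM H hH (χ := fun _ => (1 : ℂ)) Cfsg.Agent.Lib.Helper05.isIrrCharacter_one hψ2
      have : (((irrQuotientEquiv H).symm ⟨χ, hker⟩ : IrrCharacter (G ⧸ H)) : G ⧸ H → ℂ)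
          ∘ QuotientGroup.mk = (χ : G → ℂ) := by
        funext g; exact irrQuotientEquiv_symm_apply H ⟨χ, hker⟩ g
      rw [this]; exact hχ
    · show ((irrQuotientEquiv H ((irrQuotientEquiv H).symm ⟨χ, hker⟩)).1) = χ
      rw [Equiv.apply_symm_apply]

/-- the sum of `|χ(x)|²` over the principal block is an integer -/
theorem exists_int_sum_normSq {G : Type u} [Group G] [Finite G] (M : Ideal Cfsg.AlgInt) (x : G) :
    ∃ n : ℤ, ((∑ᶠ χ ∈ principalBlock M G, Complex.normSq ((χ : G → ℂ) x) : ℝ) : ℂ) = (n : ℂ) := by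
  classical
  haveI : Fintype G := Fintype.ofFinite G
  haveI : Finite (IrrCharacter G) := finite_irrCharacter
  haveI : Fintype (IrrCharacter G) := Fintype.ofFinite _
  set S : Finset (IrrCharacter G) := (Set.toFinite (principalBlock M G)).toFinset with hS
  let Ψ : G → ℂ := ∑ χ ∈ S, ((χ : G → ℂ) * fun g => conj ((χ : G → ℂ) g))
  have hΨ : IsCharacter G Ψ := by
    apply Cfsg.Agent.Lib.Helper05.isCharacter_sum
    intro χ _
    exact Cfsg.Agent.Lib.Helper05.isCharacter_mul (Cfsg.Agent.Lib.Helper05.IsIrrCharacter.isCharacter χ.2)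
      (Cfsg.Agent.Lib.Helper05.isCharacter_conj (Cfsg.Agent.Lib.Helper05.IsIrrCharacter.isCharacter χ.2))
  have hΨval : ∀ g : G, Ψ g
      = ((∑ᶠ χ ∈ principalBlock M G, Complex.normSq ((χ : G → ℂ) g) : ℝ) : ℂ) := by
    intro g
    rw [finsum_mem_eq_finite_toFinset_sum _ (Set.toFinite (principalBlock M G))]
    push_cast
    show (∑ χ ∈ S, ((χ : G → ℂ) * fun g => conj ((χ : G → ℂ) g))) g = _
    rw [Finset.sum_apply]
    refine Finset.sum_congr rfl fun χ _ => ?_
    show (χ : G → ℂ) g * conj ((χ : G → ℂ) g) = _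
    rw [Complex.mul_conj]
  have hinv : ∀ m : ℕ, m.Coprime (Nat.card G) → Ψ (x ^ m) = Ψ x := by
    intro m hm
    rw [hΨval, hΨval]
    congr 1
    have hstab : ∀ χ ∈ principalBlock M G, ∃ ψ ∈ principalBlock M G,
        ∀ g : G, (ψ : G → ℂ) g = (χ : G → ℂ) (g ^ m) := by
      intro χ hχ
      exact ⟨Cfsg.Agent.S4517.twist m hm χ,
        Cfsg.Agent.S4550.twist_mem_principalBlock M m hm _ hχ, fun g => rfl⟩
    have hbij := Cfsg.Agent.S4517.twist_bijOn m hm (principalBlock M G) hstab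
    exact finsum_mem_eq_of_bijOn (Cfsg.Agent.S4517.twist m hm) hbij (fun χ _ => rfl)
  obtain ⟨q, hq⟩ := Cfsg.Agent.Lib.Helper17.char_rat_of_pow_invariant hΨ x hinv
  have hint : IsIntegral ℤ (Ψ x) := IsCharacter.isIntegral hΨ x
  obtain ⟨n, hn⟩ := Cfsg.Agent.Lib.Helper79.exists_int_of_rat_of_isIntegral hint q hq
  exact ⟨n, by rw [← hΨval, hn]⟩

/-- Let p be a prime, M a maximal ideal of the algebraic integers containing p, G a finite group, H = O_p'(G) and Ḡ = G/H. For x ∈ G write λ(G, x) for the sum of |χ(x)|^2 over the irreducible characters χ in the principal p-block of G. Then λ(G, x) is a positive integer, λ(G, x) = λ(Ḡ, x̄) where x̄ is the image of x, and λ(G, x) ≤ #C_Ḡ(x̄). Moreover λ(G, 1) = [G : H] if and only if the principal block is the only p-block of Ḡ. -/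
theorem result {G : Type*} [Group G] [Finite G] (p : ℕ) [Fact p.Prime] (M : Ideal Cfsg.AlgInt) (hM : Cfsg.IsPModular p M) (x : G) : (∃ n : ℕ, 0 < n ∧ ∑ᶠ χ ∈ Cfsg.principalBlock M G, Complex.normSq ((χ : G → ℂ) x) = n) ∧ ∑ᶠ χ ∈ Cfsg.principalBlock M G, Complex.normSq ((χ : G → ℂ) x) = ∑ᶠ ψ ∈ Cfsg.principalBlock M (G ⧸ Cfsg.pPrimeCore p G), Complex.normSq ((ψ : G ⧸ Cfsg.pPrimeCore p G → ℂ) (QuotientGroup.mk x)) ∧ ∑ᶠ χ ∈ Cfsg.principalBlock M G, Complex.normSq ((χ : G → ℂ) x) ≤ (Nat.card ↥(Subgroup.centralizer ({(QuotientGroup.mk x : G ⧸ Cfsg.pPrimeCore p G)} : Set (G ⧸ Cfsg.pPrimeCore p G))) : ℝ) ∧ ((∑ᶠ χ ∈ Cfsg.principalBlock M G, Cfsg.charDegree (χ : G → ℂ) ^ 2) = (Cfsg.pPrimeCore p G).index ↔ ∀ B : Set (Cfsg.IrrCharacter (G ⧸ Cfsg.pPrimeCore p G)), Cfsg.IsPBlock M B → B = Cfsg.principalBlock M (G ⧸ Cfsg.pPrimeCore p G)) := by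
  classical
  haveI : Fintype G := Fintype.ofFinite G
  haveI : Finite (IrrCharacter G) := finite_irrCharacter
  haveI : Fintype (IrrCharacter G) := Fintype.ofFinite _
  set H := Cfsg.pPrimeCore p G with hHdef
  haveI : Fintype (G ⧸ H) := Fintype.ofFinite _
  haveI : Finite (IrrCharacter (G ⧸ H)) := finite_irrCharacter
  haveI : Fintype (IrrCharacter (G ⧸ H)) := Fintype.ofFinite _
  have hMp : M.IsPrime := hM.2.1.isPrime
  have hp : p.Prime := Fact.out
  have hHcop : ¬ p ∣ Nat.card H := by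
    have hc := Cfsg.Agent.Lib.Helper01.pPrimeCore_card_coprime (G := G) p
    intro hdvd
    have := Nat.Coprime.eq_one_of_dvd hc.symm hdvd
    exact hp.one_lt.ne' this
  have hbij := bijOn_inflate_principal hM H hHcop
  set e : IrrCharacter (G ⧸ H) → IrrCharacter G :=
    fun ψ => ((irrQuotientEquiv H ψ).1 : IrrCharacter G) with he
  have he_apply : ∀ (ψ : IrrCharacter (G ⧸ H)) (g : G),
      ((e ψ : IrrCharacter G) : G → ℂ) g = (ψ : G ⧸ H → ℂ) (QuotientGroup.mk g) :=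
    fun ψ g => irrQuotientEquiv_apply H ψ g
  set xbar : G ⧸ H := QuotientGroup.mk x with hxbar
  -- (2)
  have h2 : ∑ᶠ χ ∈ principalBlock M G, Complex.normSq ((χ : G → ℂ) x)
      = ∑ᶠ ψ ∈ principalBlock M (G ⧸ H), Complex.normSq ((ψ : G ⧸ H → ℂ) xbar) := by
    symm
    exact finsum_mem_eq_of_bijOn e hbij (fun ψ _ => by rw [he_apply])
  -- (3)
  have h3 : ∑ᶠ ψ ∈ principalBlock M (G ⧸ H), Complex.normSq ((ψ : G ⧸ H → ℂ) xbar)
      ≤ (Nat.card ↥(Subgroup.centralizer ({xbar} : Set (G ⧸ H))) : ℝ) := by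
    have hso := second_orthogonality (G := G ⧸ H) xbar xbar
    rw [if_pos (IsConj.refl _)] at hso
    have hre : ∑ ψ : IrrCharacter (G ⧸ H), Complex.normSq ((ψ : G ⧸ H → ℂ) xbar)
        = (Nat.card ↥(Subgroup.centralizer ({xbar} : Set (G ⧸ H))) : ℝ) := by
      have : ((∑ ψ : IrrCharacter (G ⧸ H), Complex.normSq ((ψ : G ⧸ H → ℂ) xbar) : ℝ) : ℂ)
          = ((Nat.card ↥(Subgroup.centralizer ({xbar} : Set (G ⧸ H))) : ℝ) : ℂ) := by
        push_cast
        rw [← hso]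
        refine Finset.sum_congr rfl fun ψ _ => ?_
        rw [Complex.mul_conj]
      exact_mod_cast this
    rw [finsum_mem_eq_finite_toFinset_sum _ (Set.toFinite _), ← hre]
    exact Finset.sum_le_sum_of_subset_of_nonneg (Finset.subset_univ _)
      (fun _ _ _ => Complex.normSq_nonneg _)
  -- (1)
  have h1 : ∃ n : ℕ, 0 < n ∧ ∑ᶠ χ ∈ principalBlock M G, Complex.normSq ((χ : G → ℂ) x) = n := by
    obtain ⟨n, hn⟩ := exists_int_sum_normSq M x
    have hnr : ∑ᶠ χ ∈ principalBlock M G, Complex.normSq ((χ : G → ℂ) x) = (n : ℝ) := by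
      exact_mod_cast hn
    -- positivity through the trivial character
    let χ₀ : IrrCharacter G := ⟨fun _ => (1 : ℂ), Cfsg.Agent.Lib.Helper05.isIrrCharacter_one⟩
    have hχ₀ : χ₀ ∈ principalBlock M G := sameBlock_refl hMp _
    have hpos : (1 : ℝ) ≤ ∑ᶠ χ ∈ principalBlock M G, Complex.normSq ((χ : G → ℂ) x) := by
      rw [finsum_mem_eq_finite_toFinset_sum _ (Set.toFinite _)]
      have hmem : χ₀ ∈ (Set.toFinite (principalBlock M G)).toFinset := by
        rw [Set.Finite.mem_toFinset]; exact hχ₀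
      calc (1 : ℝ) = Complex.normSq ((χ₀ : G → ℂ) x) := by
            show (1 : ℝ) = Complex.normSq (1 : ℂ)
            rw [Complex.normSq_one]
        _ ≤ _ := Finset.single_le_sum (f := fun χ : IrrCharacter G =>
            Complex.normSq ((χ : G → ℂ) x)) (fun _ _ => Complex.normSq_nonneg _) hmem
    rw [hnr] at hpos
    have hn1 : (1 : ℤ) ≤ n := by exact_mod_cast hpos
    refine ⟨n.toNat, by omega, ?_⟩
    rw [hnr]
    have : ((n.toNat : ℤ) : ℝ) = (n : ℝ) := by
      rw [Int.toNat_of_nonneg (by omega)]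
    exact_mod_cast this.symm
  -- (4)
  have hdeg : ∑ᶠ χ ∈ principalBlock M G, charDegree (χ : G → ℂ) ^ 2
      = ∑ᶠ ψ ∈ principalBlock M (G ⧸ H), charDegree (ψ : G ⧸ H → ℂ) ^ 2 := by
    symm
    refine finsum_mem_eq_of_bijOn e hbij (fun ψ _ => ?_)
    show _ = ⌊(((e ψ : IrrCharacter G) : G → ℂ) 1).re⌋₊ ^ 2
    rw [he_apply, QuotientGroup.mk_one]
    rfl
  have htot : ∑ ψ : IrrCharacter (G ⧸ H), charDegree (ψ : G ⧸ H → ℂ) ^ 2 = H.index := by
    rw [sum_charDegree_sq, Subgroup.index_eq_card]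
  have h4 : (∑ᶠ χ ∈ principalBlock M G, charDegree (χ : G → ℂ) ^ 2) = H.index ↔
      ∀ B : Set (IrrCharacter (G ⧸ H)), IsPBlock M B → B = principalBlock M (G ⧸ H) := by
    rw [hdeg, finsum_mem_eq_finite_toFinset_sum _ (Set.toFinite _), ← htot]
    set S := (Set.toFinite (principalBlock M (G ⧸ H))).toFinset with hS
    constructor
    · intro hsum B hB
      have hsd := Finset.sum_sdiff (f := fun ψ : IrrCharacter (G ⧸ H) =>
        charDegree (ψ : G ⧸ H → ℂ) ^ 2) (Finset.subset_univ S)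
      have hz : ∑ ψ ∈ Finset.univ \ S, charDegree (ψ : G ⧸ H → ℂ) ^ 2 = 0 := by omega
      have hall : ∀ ψ : IrrCharacter (G ⧸ H), ψ ∈ principalBlock M (G ⧸ H) := by
        intro ψ
        by_contra hψ
        have hmem : ψ ∈ Finset.univ \ S := by
          rw [Finset.mem_sdiff]
          refine ⟨Finset.mem_univ _, ?_⟩
          rw [hS, Set.Finite.mem_toFinset]; exact hψ
        have := (Finset.sum_eq_zero_iff.mp hz) ψ hmem
        have hpos : 0 < charDegree (ψ : G ⧸ H → ℂ) := IsIrrCharacter.charDegree_pos ψ.2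
        have : charDegree (ψ : G ⧸ H → ℂ) = 0 := by
          exact pow_eq_zero_iff (n := 2) (by norm_num) |>.mp this
        omega
      obtain ⟨ψ₁, rfl⟩ := hB
      exact (blockOf_eq_of_sameBlock hMp (hall ψ₁)).symm
    · intro hall
      have : S = Finset.univ := by
        ext ψ
        simp only [Finset.mem_univ, iff_true]
        rw [hS, Set.Finite.mem_toFinset]
        have hψ : ψ ∈ blockOf M (ψ : G ⧸ H → ℂ) := mem_blockOf_iff.mpr (sameBlock_refl hMp _)
        rw [hall _ ⟨ψ, rfl⟩] at hψ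
        exact hψ
      rw [this]
  exact ⟨h1, h2, h2 ▸ h3, h4⟩

end Cfsg.Agent.S4735
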