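import Cfsg.Statements.S4736
import Cfsg.Agent.Lib.Helper79.PSolvPrincipal
import Cfsg.Agent.Lib.Helper79.ItoPSolvable
import Cfsg.Agent.Lib.Helper83.OneNonlinear
import Cfsg.Agent.Lib.Helper83.CharBasic
import Cfsg.Agent.Lib.Helper83.Linear
import Cfsg.Agent.Lib.Helper21.QuotBlock2
import Cfsg.Agent.Lib.Helper01.PCore
import Cfsg.Agent.Lib.Helper81.ThirdMain

set_option autoImplicit false
open Cfsg

namespace Cfsg.Agent.S4736

/-- Let p be a prime, M a maximal ideal of the algebraic integers containing p, and G a finite p-solvable group with Sylow p-subgroup P. Then P is abelian if and only if every irreducible character in the principal p-block of G has height zero. -/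
theorem result {G : Type*} [Group G] [Finite G] (p : ℕ) [Fact p.Prime] (M : Ideal Cfsg.AlgInt) (hM : Cfsg.IsPModular p M) (hsolv : Cfsg.IsPSolvable p G) (P : Sylow p G) : IsMulCommutative P ↔ ∀ χ ∈ Cfsg.principalBlock M G, Cfsg.blockHeight p (Cfsg.principalBlock M G) (χ : G → ℂ) = 0 := by
  classical
  have hp : p.Prime := Fact.out
  haveI hNn : (Cfsg.pPrimeCore p G).Normal := Cfsg.Agent.Lib.Helper01.pPrimeCore_normal p
  set N := Cfsg.pPrimeCore p G with hN
  have hq : Cfsg.IsPSolvable p (G ⧸ N) := Cfsg.Agent.Lib.Helper81.IsPSolvable.quotient hp hsolv N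
  have hcore : Cfsg.pPrimeCore p (G ⧸ N) = ⊥ := Cfsg.Agent.Lib.Helper29.pPrimeCore_quotient_eq_bot p
  have hsurj : Function.Surjective (QuotientGroup.mk' N) := QuotientGroup.mk'_surjective N
  -- the infimum in the definition of the height is zero
  have hInf : sInf ((fun ψ : Cfsg.IrrCharacter G =>
      (Cfsg.charDegree (ψ : G → ℂ)).factorization p) '' Cfsg.principalBlock M G) = 0 := by
    apply Nat.sInf_eq_zero.2
    left
    refine ⟨Cfsg.Agent.Lib.Helper83.trivChar G,
      Cfsg.Agent.Lib.Helper81.trivChar_mem_principalBlock hM.2.1.isPrime, ?_⟩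
    have h1 : Cfsg.charDegree ((Cfsg.Agent.Lib.Helper83.trivChar G : Cfsg.IrrCharacter G) : G → ℂ) = 1 := by
      have hc := Cfsg.Agent.Lib.Helper83.charDegree_cast
        (Cfsg.Agent.Lib.Helper83.IrrCharacter_isCharacter (Cfsg.Agent.Lib.Helper83.trivChar G))
      have : ((Cfsg.Agent.Lib.Helper83.trivChar G : Cfsg.IrrCharacter G) : G → ℂ) 1 = 1 := rfl
      rw [this] at hc
      exact_mod_cast hc
    show (Cfsg.charDegree _).factorization p = 0
    rw [h1]; simp
  have hheight : ∀ χ : Cfsg.IrrCharacter G,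
      Cfsg.blockHeight p (Cfsg.principalBlock M G) (χ : G → ℂ) = 0 ↔
        ¬ p ∣ Cfsg.charDegree (χ : G → ℂ) := by
    intro χ
    unfold Cfsg.blockHeight
    rw [hInf, Nat.sub_zero]
    have hne : Cfsg.charDegree (χ : G → ℂ) ≠ 0 :=
      (Cfsg.Agent.Lib.Helper83.irr_charDegree_pos χ).ne'
    rw [Nat.factorization_eq_zero_iff]
    constructor
    · rintro (h | h | h)
      · exact absurd hp h
      · exact h
      · exact absurd h hne
    · intro h; exact Or.inr (Or.inl h)
  -- degrees of quotient characters versus principal block characters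
  have hquot_of_block : (∀ χ ∈ Cfsg.principalBlock M G, ¬ p ∣ Cfsg.charDegree (χ : G → ℂ)) →
      ∀ ψ : Cfsg.IrrCharacter (G ⧸ N), ¬ p ∣ Cfsg.charDegree (ψ : G ⧸ N → ℂ) := by
    intro h ψ
    have hmem : (Cfsg.Agent.Lib.Helper83.irrQuotientEquiv N ψ).1 ∈ Cfsg.principalBlock M G :=
      Cfsg.Agent.Lib.Helper79.mem_principalBlock_of_ker p M hM hsolv _
        (Cfsg.Agent.Lib.Helper83.irrQuotientEquiv N ψ).2
    have := h _ hmem
    rwa [Cfsg.Agent.Lib.Helper21.charDegree_irrQuotientEquiv] at this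
  have hblock_of_quot : (∀ ψ : Cfsg.IrrCharacter (G ⧸ N), ¬ p ∣ Cfsg.charDegree (ψ : G ⧸ N → ℂ)) →
      ∀ χ ∈ Cfsg.principalBlock M G, ¬ p ∣ Cfsg.charDegree (χ : G → ℂ) := by
    intro h χ hχ
    have hker := Cfsg.Agent.Lib.Helper79.principalBlock_ker p M hM χ hχ
    have := h ((Cfsg.Agent.Lib.Helper83.irrQuotientEquiv N).symm ⟨χ, hker⟩)
    rw [← Cfsg.Agent.Lib.Helper21.charDegree_irrQuotientEquiv, Equiv.apply_symm_apply] at this
    exact this
  -- P meets N trivially
  have hPN : ∀ x : G, x ∈ (P : Subgroup G) → x ∈ N → x = 1 := by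
    intro x hxP hxN
    obtain ⟨k, hk⟩ := (P.2 ⟨x, hxP⟩)
    have hk' : x ^ p ^ k = 1 := by
      have := congrArg Subtype.val hk
      simpa using this
    have ho1 : orderOf x ∣ p ^ k := orderOf_dvd_of_pow_eq_one hk'
    have ho2 : orderOf x ∣ Nat.card N := by
      have : orderOf (⟨x, hxN⟩ : N) ∣ Nat.card N := orderOf_dvd_natCard _
      rwa [← Subgroup.orderOf_coe] at this
    have hcop : (Nat.card N).Coprime (p ^ k) :=
      Nat.Coprime.pow_right k (Cfsg.Agent.Lib.Helper01.pPrimeCore_card_coprime (G := G) p)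
    have : orderOf x = 1 := Nat.eq_one_of_dvd_coprimes hcop ho2 ho1
    exact orderOf_eq_one_iff.1 this
  rw [show (∀ χ ∈ Cfsg.principalBlock M G, Cfsg.blockHeight p (Cfsg.principalBlock M G) (χ : G → ℂ) = 0)
      ↔ (∀ χ ∈ Cfsg.principalBlock M G, ¬ p ∣ Cfsg.charDegree (χ : G → ℂ)) from
    ⟨fun h χ hχ => (hheight χ).1 (h χ hχ), fun h χ hχ => (hheight χ).2 (h χ hχ)⟩]
  constructor
  · intro hab
    apply hblock_of_quot
    intro ψ
    -- O_p(G/N) is abelian, normal, of index prime to p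
    set Q := Cfsg.pCore p (G ⧸ N) with hQ
    haveI hQn : Q.Normal := Cfsg.Agent.Lib.Helper01.pCore_normal p
    have hcent : Subgroup.centralizer (Q : Set (G ⧸ N)) ≤ Q :=
      Cfsg.Agent.Lib.Helper81.centralizer_pCore_le hq hcore
    let Pbar : Sylow p (G ⧸ N) := P.mapSurjective hsurj
    have hPbar : (Pbar : Subgroup (G ⧸ N)) = (P : Subgroup G).map (QuotientGroup.mk' N) :=
      Sylow.coe_mapSurjective hsurj P
    have hPbar_comm : ∀ a ∈ (Pbar : Subgroup (G ⧸ N)), ∀ b ∈ (Pbar : Subgroup (G ⧸ N)),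
        a * b = b * a := by
      intro a ha b hb
      rw [hPbar] at ha hb
      obtain ⟨x, hx, rfl⟩ := ha
      obtain ⟨y, hy, rfl⟩ := hb
      have hxy : (⟨x, hx⟩ : (P : Subgroup G)) * ⟨y, hy⟩ = ⟨y, hy⟩ * ⟨x, hx⟩ :=
        hab.is_comm.comm _ _
      have hxy' : x * y = y * x := congrArg Subtype.val hxy
      rw [← map_mul, ← map_mul, hxy']
    have hQP : Q ≤ (Pbar : Subgroup (G ⧸ N)) := Cfsg.Agent.Lib.Helper01.pCore_le_sylow Pbar
    have hPQ : (Pbar : Subgroup (G ⧸ N)) ≤ Q := by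
      intro a ha
      apply hcent
      rw [Subgroup.mem_centralizer_iff]
      intro b hb
      exact hPbar_comm b (hQP hb) a ha
    have hQcomm : ∀ a ∈ Q, ∀ b ∈ Q, a * b = b * a := fun a ha b hb =>
      hPbar_comm a (hQP ha) b (hQP hb)
    have hdvd := Cfsg.Agent.Lib.Helper83.ito_charDegree ψ Q hQcomm
    intro hpd
    have h1 : p ∣ Q.index := dvd_trans hpd hdvd
    have h2 : Q.index ∣ (Pbar : Subgroup (G ⧸ N)).index := Subgroup.index_dvd_of_le hPQ
    exact Pbar.not_dvd_index (dvd_trans h1 h2)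
  · intro h
    have hψ := hquot_of_block h
    obtain ⟨P', hP'n, hP'comm, hP'p, hP'idx⟩ :=
      Cfsg.Agent.Lib.Helper79.ito_psolvable_aux p (Nat.card (G ⧸ N)) (G ⧸ N) rfl hq hψ
    haveI := hP'n
    refine ⟨⟨fun a b => ?_⟩⟩
    obtain ⟨ka, hka⟩ := P.2 a
    obtain ⟨kb, hkb⟩ := P.2 b
    have ha' : ((QuotientGroup.mk' N) (a : G)) ∈ P' := by
      apply Cfsg.Agent.Lib.Helper79.mem_of_pow_eq_one p P' hP'idx _ ka
      rw [← map_pow]
      have : (a : G) ^ p ^ ka = 1 := by
        have := congrArg Subtype.val hka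
        simpa using this
      rw [this, map_one]
    have hb' : ((QuotientGroup.mk' N) (b : G)) ∈ P' := by
      apply Cfsg.Agent.Lib.Helper79.mem_of_pow_eq_one p P' hP'idx _ kb
      rw [← map_pow]
      have : (b : G) ^ p ^ kb = 1 := by
        have := congrArg Subtype.val hkb
        simpa using this
      rw [this, map_one]
    have hcomm := hP'comm _ ha' _ hb'
    rw [← map_mul, ← map_mul] at hcomm
    -- (a b)(b a)⁻¹ ∈ N ∩ P
    have hmemN : ((a : G) * b) * ((b : G) * a)⁻¹ ∈ N := by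
      rw [← QuotientGroup.eq_one_iff]
      have : (QuotientGroup.mk' N) (((a : G) * b) * ((b : G) * a)⁻¹) = 1 := by
        rw [map_mul, map_inv, hcomm, mul_inv_cancel]
      exact this
    have hmemP : ((a : G) * b) * ((b : G) * a)⁻¹ ∈ (P : Subgroup G) :=
      (P : Subgroup G).mul_mem ((P : Subgroup G).mul_mem a.2 b.2)
        ((P : Subgroup G).inv_mem ((P : Subgroup G).mul_mem b.2 a.2))
    have h1 := hPN _ hmemP hmemN
    apply Subtype.ext
    have : (a : G) * b = b * a := by
      have := mul_inv_eq_one.1 h1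
      exact this
    exact this

end Cfsg.Agent.S4736
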