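import Cfsg.Statements.S4742
import Cfsg.Agent.Lib.Helper82.Counting
import Cfsg.Agent.Lib.Helper82.Regular

set_option autoImplicit false
open Cfsg

namespace Cfsg.Agent.S4742

open Cfsg.Agent.Lib.Helper82

theorem result_of_regularDecomp {G : Type*} [Group G] [Fintype G] (hreg : RegularDecomp G)
    (p q : ℕ) [Fact p.Prime] [Fact q.Prime] (hppq : p ≠ q)
    (hpG : p ∣ Nat.card G) (hqG : q ∣ Nat.card G) (hC : ∀ g : G, g ≠ 1 → (∃ k : ℕ, orderOf g = p ^ k) → ¬ q ∣ Nat.card ↥(Subgroup.centralizer ({g} : Set G))) : (∃ χ : Cfsg.IrrCharacter G, (Cfsg.charDegree (χ : G → ℂ)).factorization p = (Nat.card G).factorization p) ∨ ∀ z : G, z ≠ 1 → (∃ k : ℕ, orderOf z = q ^ k) → ∃ g h : G, IsConj z g ∧ IsConj z h ∧ g * h⁻¹ ≠ 1 ∧ ∃ k : ℕ, orderOf (g * h⁻¹) = p ^ k := by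
  classical
  by_contra hcon
  rw [not_or] at hcon
  obtain ⟨hnodef, hz⟩ := hcon
  rw [not_exists] at hnodef
  simp only [not_forall] at hz
  obtain ⟨z, hz1, ⟨kz, hkz⟩, hzno⟩ := hz
  have hp : p.Prime := Fact.out
  have hq : q.Prime := Fact.out
  have hN : Nat.card G ≠ 0 := Nat.card_pos.ne'
  set a := (Nat.card G).factorization p with ha
  have ha1 : 1 ≤ a := (hp.dvd_iff_one_le_factorization hN).1 hpG
  obtain ⟨P⟩ : Nonempty (Sylow p G) := inferInstance
  have hPcard : Nat.card (P : Subgroup G) = p ^ a := Sylow.card_eq_multiplicity P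
  have key := pow_dvd_card_centralizer hreg p (P : Subgroup G) a hPcard z
    (by
      intro u hu hu1 a' b hab
      apply hzno
      refine ⟨a' * z * a'⁻¹, b * z * b⁻¹, isConj_iff.2 ⟨a', rfl⟩, isConj_iff.2 ⟨b, rfl⟩, ?_, ?_⟩
      · have : (b * z * b⁻¹)⁻¹ = b * z⁻¹ * b⁻¹ := by group
        rw [this, hab]; exact hu1
      · have : (b * z * b⁻¹)⁻¹ = b * z⁻¹ * b⁻¹ := by group
        rw [this, hab]
        obtain ⟨k, hk⟩ := (IsPGroup.iff_orderOf.1 P.2) ⟨u, hu⟩
        refine ⟨k, ?_⟩
        rw [← hk]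
        exact (Subgroup.orderOf_mk u hu).symm)
    (a - 1)
    (by
      intro χ hdvd
      rw [Nat.sub_add_cancel ha1] at hdvd
      apply hnodef χ
      have hpos := IsIrrCharacter.charDegree_pos χ.2
      have h1 : a ≤ (Cfsg.charDegree (χ : G → ℂ)).factorization p :=
        (hp.pow_dvd_iff_le_factorization hpos.ne').1 hdvd
      have h2 : (Cfsg.charDegree (χ : G → ℂ)).factorization p ≤ a :=
        (Nat.factorization_le_iff_dvd hpos.ne' hN).2
          (IsIrrCharacter.charDegree_dvd_card χ.2) p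
      exact le_antisymm h2 h1)
  have ha2 : a - (a - 1) = 1 := by omega
  rw [ha2, pow_one] at key
  obtain ⟨u, hu⟩ := exists_prime_orderOf_dvd_card' p key
  have hu1 : (u : G) ≠ 1 := by
    intro h
    have : u = 1 := Subtype.ext h
    rw [this, orderOf_one] at hu
    exact hp.one_lt.ne hu
  have huo : orderOf (u : G) = p ^ 1 := by
    rw [pow_one, ← hu]; exact Subgroup.orderOf_coe u
  apply hC (u : G) hu1 ⟨1, huo⟩
  have hzc : z ∈ Subgroup.centralizer ({(u : G)} : Set G) := by
    rw [Subgroup.mem_centralizer_iff]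
    intro w hw
    rw [Set.mem_singleton_iff] at hw
    subst hw
    have := u.2
    rw [Subgroup.mem_centralizer_iff] at this
    exact (this z rfl).symm
  have hkz0 : kz ≠ 0 := by
    intro h
    rw [h, pow_zero, orderOf_eq_one_iff] at hkz
    exact hz1 hkz
  have h1 : q ∣ orderOf z := by rw [hkz]; exact dvd_pow_self q hkz0
  have h2 : orderOf z ∣ Nat.card (Subgroup.centralizer ({(u : G)} : Set G)) := by
    have := orderOf_dvd_natCard (⟨z, hzc⟩ : Subgroup.centralizer ({(u : G)} : Set G))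
    rwa [Subgroup.orderOf_mk] at this
  exact h1.trans h2



/-- Let p ≠ q be primes dividing the order of the finite group G, and suppose the centralizer of every non-identity p-element of G has order prime to q. Then either G has an irreducible character of p-defect zero, or for every non-identity q-element z of G there are conjugates g, h of z such that g h⁻¹ is a non-identity p-element. -/
theorem result {G : Type*} [Group G] [Finite G] (p q : ℕ) [Fact p.Prime] [Fact q.Prime] (hppq : p ≠ q) (hpG : p ∣ Nat.card G) (hqG : q ∣ Nat.card G) (hC : ∀ g : G, g ≠ 1 → (∃ k : ℕ, orderOf g = p ^ k) → ¬ q ∣ Nat.card ↥(Subgroup.centralizer ({g} : Set G))) : (∃ χ : Cfsg.IrrCharacter G, (Cfsg.charDegree (χ : G → ℂ)).factorization p = (Nat.card G).factorization p) ∨ ∀ z : G, z ≠ 1 → (∃ k : ℕ, orderOf z = q ^ k) → ∃ g h : G, IsConj z g ∧ IsConj z h ∧ g * h⁻¹ ≠ 1 ∧ ∃ k : ℕ, orderOf (g * h⁻¹) = p ^ k := by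
  classical
  haveI := Fintype.ofFinite G
  exact result_of_regularDecomp regularDecomp p q hppq hpG hqG hC

end Cfsg.Agent.S4742
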