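import Cfsg.Statements.S4738
import Cfsg.Agent.Lib.Helper82.SylowInvert2
import Cfsg.Agent.Lib.Helper82.Regular
import Cfsg.Agent.S4742

set_option autoImplicit false
open Cfsg

namespace Cfsg.Agent.S4738

open Cfsg.Agent.Lib.Helper82
open scoped Pointwise

/-- No element of order `2p` forces centralizers of non-identity `p`-elements to have odd order. -/
theorem odd_centralizer_of_no_two_p {G : Type*} [Group G] [Finite G] (p : ℕ) [Fact p.Prime]
    (hp2 : p ≠ 2) (h2p : ∀ g : G, orderOf g ≠ 2 * p) (g : G) (hg1 : g ≠ 1)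
    (hg : ∃ k : ℕ, orderOf g = p ^ k) :
    Odd (Nat.card ↥(Subgroup.centralizer ({g} : Set G))) := by
  have hp : p.Prime := Fact.out
  by_contra hodd
  rw [Nat.not_odd_iff_even, even_iff_two_dvd] at hodd
  haveI : Fact (Nat.Prime 2) := ⟨Nat.prime_two⟩
  obtain ⟨s, hs⟩ := exists_prime_orderOf_dvd_card' 2 hodd
  obtain ⟨k, hk⟩ := hg
  have hk0 : k ≠ 0 := by
    intro h
    rw [h, pow_zero, orderOf_eq_one_iff] at hk
    exact hg1 hk
  obtain ⟨j, rfl⟩ : ∃ j, k = j + 1 := ⟨k - 1, by omega⟩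
  set g' := g ^ (p ^ j) with hg'
  have hg'ord : orderOf g' = p := by
    rw [hg', orderOf_pow' g (pow_ne_zero j hp.ne_zero), hk, Nat.gcd_eq_right
      (pow_dvd_pow p (Nat.le_succ j)), pow_succ, Nat.mul_div_cancel_left _ (pow_pos hp.pos j)]
  have hsg : Commute (s : G) g := by
    have := s.2
    rw [Subgroup.mem_centralizer_iff] at this
    exact (this g rfl).symm
  have hsg' : Commute (s : G) g' := hsg.pow_right _
  have hsord : orderOf (s : G) = 2 := by rw [Subgroup.orderOf_coe]; exact hs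
  have hcop : Nat.Coprime (orderOf (s : G)) (orderOf g') := by
    rw [hsord, hg'ord]
    exact (Nat.coprime_primes Nat.prime_two hp).2 (Ne.symm hp2)
  have := hsg'.orderOf_mul_eq_mul_orderOf_of_coprime hcop
  rw [hsord, hg'ord] at this
  exact h2p _ this

theorem result {G : Type*} [Group G] [Finite G] (p : ℕ) [Fact p.Prime] (hp2 : p ≠ 2) (hG : Even (Nat.card G)) (h2p : ∀ g : G, orderOf g ≠ 2 * p) : (∃ χ : Cfsg.IrrCharacter G, (Cfsg.charDegree (χ : G → ℂ)).factorization p = (Nat.card G).factorization p) ∨ ((∀ P : Sylow p G, IsMulCommutative ↥(P : Subgroup G)) ∧ ∀ s t : G, orderOf s = 2 → orderOf t = 2 → IsConj s t) := by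
  classical
  have hp : p.Prime := Fact.out
  haveI : Fact (Nat.Prime 2) := ⟨Nat.prime_two⟩
  haveI := Fintype.ofFinite G
  have hN : Nat.card G ≠ 0 := Nat.card_pos.ne'
  have h2G : 2 ∣ Nat.card G := even_iff_two_dvd.1 hG
  by_cases hpG : p ∣ Nat.card G
  swap
  · -- `p` does not divide `|G|`: every irreducible character has `p`-defect zero
    left
    obtain ⟨s, hall, h1, h2⟩ := (regularDecomp : RegularDecomp G)
    have hne : s.Nonempty := by
      by_contra h
      rw [Finset.not_nonempty_iff_eq_empty] at h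
      rw [h, Finset.sum_empty] at h1
      have : (Fintype.card G : ℂ) ≠ 0 := by exact_mod_cast Fintype.card_ne_zero
      exact this h1.symm
    obtain ⟨χ, _⟩ := hne
    refine ⟨χ, ?_⟩
    have hpos := IsIrrCharacter.charDegree_pos χ.2
    have h3 : (Nat.card G).factorization p = 0 := Nat.factorization_eq_zero_of_not_dvd hpG
    have h4 : (Cfsg.charDegree (χ : G → ℂ)).factorization p ≤ (Nat.card G).factorization p :=
      (Nat.factorization_le_iff_dvd hpos.ne' hN).2 (IsIrrCharacter.charDegree_dvd_card χ.2) p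
    omega
  have hC := odd_centralizer_of_no_two_p (G := G) p hp2 h2p
  have hC' : ∀ g : G, g ≠ 1 → (∃ k : ℕ, orderOf g = p ^ k) →
      ¬ 2 ∣ Nat.card ↥(Subgroup.centralizer ({g} : Set G)) := by
    intro g hg1 hg h2
    exact (Nat.not_even_iff_odd.2 (hC g hg1 hg)) (even_iff_two_dvd.2 h2)
  rcases Cfsg.Agent.S4742.result p 2 hp2 hpG h2G hC' with h | h
  · exact Or.inl h
  right
  -- every involution normalizes a Sylow `p`-subgroup
  have key : ∀ z : G, orderOf z = 2 →
      (∀ P : Sylow p G, IsMulCommutative ↥(P : Subgroup G)) ∧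
      ∃ Q : Sylow p G, ∀ x ∈ (Q : Subgroup G), z * x * z⁻¹ ∈ (Q : Subgroup G) := by
    intro z hz
    have hz1 : z ≠ 1 := by
      intro h1
      rw [h1, orderOf_one] at hz
      exact absurd hz (by norm_num)
    obtain ⟨g, h', hzg, hzh, hne, hord⟩ := h z hz1 ⟨1, by rw [hz, pow_one]⟩
    have hzz : z * z = 1 := by rw [← sq, ← hz, pow_orderOf_eq_one]
    have hinvol : ∀ w : G, IsConj z w → w * w = 1 ∧ w ≠ 1 := by
      intro w hw
      obtain ⟨c, hc⟩ := isConj_iff.1 hw
      constructor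
      · rw [← hc]
        calc c * z * c⁻¹ * (c * z * c⁻¹) = c * (z * z) * c⁻¹ := by group
          _ = 1 := by rw [hzz]; group
      · intro hw1
        apply hz1
        rw [hw1] at hc
        have : z = c⁻¹ * 1 * c := by rw [← hc]; group
        rw [this]; group
    obtain ⟨hgg, hg1⟩ := hinvol g hzg
    obtain ⟨hhh, _⟩ := hinvol h' hzh
    have hginv : g⁻¹ = g := inv_eq_of_mul_eq_one_left hgg
    have hhinv : h'⁻¹ = h' := inv_eq_of_mul_eq_one_left hhh
    have hinv : g * (g * h'⁻¹) * g⁻¹ = (g * h'⁻¹)⁻¹ := by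
      calc g * (g * h'⁻¹) * g⁻¹ = (g * g) * h'⁻¹ * g⁻¹ := by group
        _ = h' * g⁻¹ := by rw [hgg, one_mul, hhinv]
        _ = (g * h'⁻¹)⁻¹ := by group
    refine ⟨fun P => (sylow_abelian_of_involution_inverts p hC g (g * h'⁻¹) hgg hg1
      hne hord hinv P).2, ?_⟩
    obtain ⟨Q, hQ⟩ := exists_sylow_normalized_of_involution_inverts p hC g (g * h'⁻¹) hgg hg1
      hne hord hinv
    obtain ⟨c, hc⟩ := isConj_iff.1 hzg
    refine ⟨c⁻¹ • Q, ?_⟩
    have hmem : ∀ x : G, x ∈ ((c⁻¹ • Q : Sylow p G) : Subgroup G) ↔ c * x * c⁻¹ ∈ (Q : Subgroup G) := by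
      intro x
      rw [Sylow.coe_subgroup_smul, Subgroup.mem_pointwise_smul_iff_inv_smul_mem]
      simp [MulAut.smul_def]
    intro x hx
    rw [hmem] at hx ⊢
    have := hQ _ hx
    have e : c * (z * x * z⁻¹) * c⁻¹ = g * (c * x * c⁻¹) * g⁻¹ := by rw [← hc]; group
    rw [e]; exact this
  obtain ⟨z0, hz0⟩ := exists_prime_orderOf_dvd_card' 2 h2G
  refine ⟨(key z0 hz0).1, ?_⟩
  intro s t hs ht
  obtain ⟨Qs, hQs⟩ := (key s hs).2
  obtain ⟨Qt, hQt⟩ := (key t ht).2
  obtain ⟨c, hc⟩ := MulAction.exists_smul_eq G Qs Qt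
  have hmem : ∀ x : G, x ∈ (Qt : Subgroup G) ↔ c⁻¹ * x * c ∈ (Qs : Subgroup G) := by
    intro x
    rw [← hc, Sylow.coe_subgroup_smul, Subgroup.mem_pointwise_smul_iff_inv_smul_mem]
    simp [MulAut.smul_def]
  have hss : s * s = 1 := by rw [← sq, ← hs, pow_orderOf_eq_one]
  have htt : t * t = 1 := by rw [← sq, ← ht, pow_orderOf_eq_one]
  have hs1 : s ≠ 1 := by
    intro h1; rw [h1, orderOf_one] at hs; exact absurd hs (by norm_num)
  have ht1 : t ≠ 1 := by
    intro h1; rw [h1, orderOf_one] at ht; exact absurd ht (by norm_num)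
  set s' := c * s * c⁻¹ with hs'
  have hs's' : s' * s' = 1 := by
    rw [hs']
    calc c * s * c⁻¹ * (c * s * c⁻¹) = c * (s * s) * c⁻¹ := by group
      _ = 1 := by rw [hss]; group
  have hs'1 : s' ≠ 1 := by
    intro h1
    apply hs1
    have : s = c⁻¹ * s' * c := by rw [hs']; group
    rw [this, h1]; group
  have hs'n : ∀ x ∈ (Qt : Subgroup G), s' * x * s'⁻¹ ∈ (Qt : Subgroup G) := by
    intro x hx
    rw [hmem] at hx ⊢
    have := hQs _ hx
    have e : c⁻¹ * (s' * x * s'⁻¹) * c = s * (c⁻¹ * x * c) * s⁻¹ := by rw [hs']; group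
    rw [e]; exact this
  obtain ⟨hs'inv, _⟩ := pgroup_inverted_of_odd_centralizers p hC (Qt : Subgroup G) Qt.2 s' hs's' hs'1 hs'n
  obtain ⟨htinv, _⟩ := pgroup_inverted_of_odd_centralizers p hC (Qt : Subgroup G) Qt.2 t htt ht1 hQt
  -- a non-identity element of `Qt`
  have hQtcard : Nat.card (Qt : Subgroup G) = p ^ (Nat.card G).factorization p :=
    Sylow.card_eq_multiplicity Qt
  have hfac : 1 ≤ (Nat.card G).factorization p := (hp.dvd_iff_one_le_factorization hN).1 hpG
  have hQtne : (Qt : Subgroup G) ≠ ⊥ := by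
    intro hbot
    rw [hbot, Subgroup.card_bot] at hQtcard
    have : 1 < p ^ (Nat.card G).factorization p := Nat.one_lt_pow (by omega) hp.one_lt
    omega
  obtain ⟨x, hxQ, hx1⟩ := (Subgroup.ne_bot_iff_exists_ne_one.1 hQtne |> fun ⟨a, ha⟩ =>
    (⟨(a : G), a.2, fun h => ha (Subtype.ext h)⟩ : ∃ x : G, x ∈ (Qt : Subgroup G) ∧ x ≠ 1))
  have hxord : ∃ k : ℕ, orderOf x = p ^ k := by
    obtain ⟨k, hk⟩ := (IsPGroup.iff_orderOf.1 Qt.2) ⟨x, hxQ⟩
    exact ⟨k, by rw [← hk, Subgroup.orderOf_mk]⟩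
  have hodd := hC x hx1 hxord
  have hcent : s' * t ∈ Subgroup.centralizer ({x} : Set G) := by
    rw [Subgroup.mem_centralizer_iff]
    intro w hw
    rw [Set.mem_singleton_iff] at hw
    subst hw
    have h1 : t * w * t⁻¹ = w⁻¹ := htinv w hxQ
    have h2 : s' * w⁻¹ * s'⁻¹ = w := by
      have := hs'inv w⁻¹ ((Qt : Subgroup G).inv_mem hxQ)
      rwa [inv_inv] at this
    have h3 : (s' * t) * w * (s' * t)⁻¹ = w := by
      calc (s' * t) * w * (s' * t)⁻¹ = s' * (t * w * t⁻¹) * s'⁻¹ := by group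
        _ = w := by rw [h1, h2]
    calc w * (s' * t) = ((s' * t) * w * (s' * t)⁻¹) * (s' * t) := by rw [h3]
      _ = s' * t * w := by group
  have hoddord : Odd (orderOf (s' * t)) := by
    have h1 := orderOf_dvd_natCard (⟨s' * t, hcent⟩ : Subgroup.centralizer ({x} : Set G))
    rw [Subgroup.orderOf_mk] at h1
    exact hodd.of_dvd_nat h1
  have hconj : IsConj s' t := isConj_of_odd_orderOf_mul hs's' htt hoddord
  exact (isConj_iff.2 ⟨c, rfl⟩ : IsConj s s').trans hconj

end Cfsg.Agent.S4738
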