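import Cfsg.Statements.S4740
import Cfsg.Agent.Lib.Helper82.Counting
import Cfsg.Agent.Lib.Helper82.Regular

set_option autoImplicit false
open Cfsg

namespace Cfsg.Agent.S4740

open Cfsg.Agent.Lib.Helper82

theorem result_of_regularDecomp {G : Type*} [Group G] [Fintype G] (hreg : RegularDecomp G)
    (p : ℕ) [Fact p.Prime] (x : G) (hx : orderOf x = 2) (P : Subgroup G) (c : ℕ) (hP : Nat.card ↥P = p ^ c) (hinv : ∀ g : G, IsConj x g → ∀ z ∈ P, z ≠ 1 → g * z * g⁻¹ ≠ z⁻¹) (a : ℕ) (ha : (Nat.card ↥(Subgroup.centralizer ({x} : Set G))).factorization p = a) : ∃ χ : Cfsg.IrrCharacter G, p ^ (c - a) ∣ Cfsg.charDegree (χ : G → ℂ) := by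
  classical
  have hp : p.Prime := Fact.out
  have hxx : x * x = 1 := by rw [← sq, ← hx, pow_orderOf_eq_one]
  have hxinv : x⁻¹ = x := inv_eq_of_mul_eq_one_left hxx
  rcases le_or_gt c a with hca | hca
  · -- trivial case: any irreducible character works
    obtain ⟨s, hall, h1, h2⟩ := hreg
    have hne : s.Nonempty := by
      by_contra h
      rw [Finset.not_nonempty_iff_eq_empty] at h
      rw [h, Finset.sum_empty] at h1
      have : (Fintype.card G : ℂ) ≠ 0 := by exact_mod_cast Fintype.card_ne_zero
      exact this h1.symm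
    obtain ⟨χ, _⟩ := hne
    exact ⟨χ, by rw [Nat.sub_eq_zero_of_le hca, pow_zero]; exact one_dvd _⟩
  by_contra hcon
  rw [not_exists] at hcon
  have key := pow_dvd_card_centralizer hreg p P c hP x
    (by
      intro u hu hu1 a' b hab
      rw [hxinv] at hab
      have hgg : (a' * x * a'⁻¹) * (a' * x * a'⁻¹) = 1 := by
        calc a' * x * a'⁻¹ * (a' * x * a'⁻¹) = a' * (x * x) * a'⁻¹ := by group
          _ = 1 := by rw [hxx]; group
      have hhh : (b * x * b⁻¹) * (b * x * b⁻¹) = 1 := by
        calc b * x * b⁻¹ * (b * x * b⁻¹) = b * (x * x) * b⁻¹ := by group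
          _ = 1 := by rw [hxx]; group
      have hconj : IsConj x (a' * x * a'⁻¹) := isConj_iff.2 ⟨a', rfl⟩
      generalize a' * x * a'⁻¹ = g at hab hgg hconj
      generalize b * x * b⁻¹ = h at hab hhh
      have hginv : g⁻¹ = g := inv_eq_of_mul_eq_one_left hgg
      have hhinv : h⁻¹ = h := inv_eq_of_mul_eq_one_left hhh
      apply hinv g hconj u hu hu1
      rw [← hab, mul_inv_rev, hginv, hhinv, ← mul_assoc, hgg, one_mul])
    (c - a - 1)
    (by
      intro χ
      have : c - a - 1 + 1 = c - a := by omega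
      rw [this]
      exact hcon χ)
  have hca' : c - (c - a - 1) = a + 1 := by omega
  rw [hca'] at key
  have hCpos : Nat.card (Subgroup.centralizer ({x} : Set G)) ≠ 0 := Nat.card_pos.ne'
  have := (hp.pow_dvd_iff_le_factorization hCpos).1 key
  omega



/-- Let p be an odd prime, G a finite group of even order, x an involution of G and P a subgroup of G of order p ^ c such that no conjugate of x inverts a non-identity element of P. If p ^ a is the p-part of the order of C_G(x), then some irreducible character of G has degree divisible by p ^ (c - a). -/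
theorem result {G : Type*} [Group G] [Finite G] (p : ℕ) [Fact p.Prime] (hp2 : p ≠ 2) (hG : Even (Nat.card G)) (x : G) (hx : orderOf x = 2) (P : Subgroup G) (c : ℕ) (hP : Nat.card ↥P = p ^ c) (hinv : ∀ g : G, IsConj x g → ∀ z ∈ P, z ≠ 1 → g * z * g⁻¹ ≠ z⁻¹) (a : ℕ) (ha : (Nat.card ↥(Subgroup.centralizer ({x} : Set G))).factorization p = a) : ∃ χ : Cfsg.IrrCharacter G, p ^ (c - a) ∣ Cfsg.charDegree (χ : G → ℂ) := by
  classical
  haveI := Fintype.ofFinite G
  exact result_of_regularDecomp regularDecomp p x hx P c hP hinv a ha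

end Cfsg.Agent.S4740
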