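import Cfsg.Statements.S4743
import Cfsg.Agent.S4742

set_option autoImplicit false
open Cfsg

namespace Cfsg.Agent.S4743

/-- In a `p`-solvable group of order divisible by `p` and by another prime `q`, some normal
subgroup has order divisible by exactly one of `p`, `q`. -/
theorem exists_normal_one_prime {G : Type*} [Group G] [Finite G] (p q : ℕ) [Fact p.Prime]
    [Fact q.Prime] (hpq : p ≠ q) (hpG : p ∣ Nat.card G) (hsolv : Cfsg.IsPSolvable p G) :
    ∃ R : Subgroup G, R.Normal ∧
      ((p ∣ Nat.card R ∧ ¬ q ∣ Nat.card R) ∨ (q ∣ Nat.card R ∧ ¬ p ∣ Nat.card R)) := by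
  have hp : p.Prime := Fact.out
  have hq : q.Prime := Fact.out
  obtain ⟨n, H, h0, hlast, hmono, hnormal, hstep⟩ := hsolv
  -- find the first step where `p` or `q` enters
  have key : ∀ k : ℕ, (hk : k ≤ n) →
      (p ∣ Nat.card (H ⟨k, Nat.lt_succ_of_le hk⟩) ∨ q ∣ Nat.card (H ⟨k, Nat.lt_succ_of_le hk⟩)) →
      ∃ R : Subgroup G, R.Normal ∧
        ((p ∣ Nat.card R ∧ ¬ q ∣ Nat.card R) ∨ (q ∣ Nat.card R ∧ ¬ p ∣ Nat.card R)) := by
    intro k
    induction k with
    | zero =>
      intro hk hdiv
      exfalso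
      have : H ⟨0, Nat.lt_succ_of_le hk⟩ = ⊥ := h0
      rw [this, Subgroup.card_bot] at hdiv
      rcases hdiv with h | h
      · exact hp.one_lt.ne' (Nat.dvd_one.1 h)
      · exact hq.one_lt.ne' (Nat.dvd_one.1 h)
    | succ k ih =>
      intro hk hdiv
      have hk' : k ≤ n := Nat.le_of_succ_le hk
      by_cases hprev : p ∣ Nat.card (H ⟨k, Nat.lt_succ_of_le hk'⟩) ∨
          q ∣ Nat.card (H ⟨k, Nat.lt_succ_of_le hk'⟩)
      · exact ih hk' hprev
      · rw [not_or] at hprev
        set i : Fin n := ⟨k, hk⟩ with hi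
        have hcs : H i.castSucc = H ⟨k, Nat.lt_succ_of_le hk'⟩ := rfl
        have hsc : H i.succ = H ⟨k + 1, Nat.lt_succ_of_le hk⟩ := rfl
        have hle : H i.castSucc ≤ H i.succ := hmono (Fin.castSucc_lt_succ (i := i)).le
        have hcard : Nat.card (H i.succ) =
            (H i.castSucc).relIndex (H i.succ) * Nat.card (H i.castSucc) := by
          have := Subgroup.relIndex_mul_relIndex ⊥ (H i.castSucc) (H i.succ) bot_le hle
          rw [Subgroup.relIndex_bot_left, Subgroup.relIndex_bot_left] at this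
          rw [← this, mul_comm]
        refine ⟨H i.succ, hnormal _, ?_⟩
        rw [← hsc] at hdiv
        rcases hstep i with ⟨m, hm⟩ | hcop
        · -- the step is a `p`-power: `q` does not divide
          left
          have hq' : ¬ q ∣ Nat.card (H i.succ) := by
            rw [hcard, hm]
            intro hdvd
            rcases (Nat.Prime.dvd_mul hq).1 hdvd with h | h
            · exact hpq ((Nat.prime_dvd_prime_iff_eq hq hp).1 (hq.dvd_of_dvd_pow h)).symm
            · exact hprev.2 (hcs ▸ h)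
          exact ⟨hdiv.resolve_right hq', hq'⟩
        · -- the step is prime to `p`: `p` does not divide
          right
          have hp' : ¬ p ∣ Nat.card (H i.succ) := by
            rw [hcard]
            intro hdvd
            rcases (Nat.Prime.dvd_mul hp).1 hdvd with h | h
            · exact (Nat.Prime.coprime_iff_not_dvd hp).1 hcop.symm h
            · exact hprev.1 (hcs ▸ h)
          exact ⟨hdiv.resolve_left hp', hp'⟩
  refine key n le_rfl (Or.inl ?_)
  have : H ⟨n, Nat.lt_succ_of_le le_rfl⟩ = ⊤ := hlast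
  rw [this, Subgroup.card_top]
  exact hpG

/-- The main argument, for `G` `p`-solvable (the statement is symmetric in `p` and `q`). -/
theorem aux {G : Type*} [Group G] [Finite G] (p q : ℕ) [Fact p.Prime] [Fact q.Prime] (hppq : p ≠ q) (hpG : p ∣ Nat.card G) (hqG : q ∣ Nat.card G) (hC : ∀ g : G, g ≠ 1 → (∃ k : ℕ, orderOf g = p ^ k) → ¬ q ∣ Nat.card ↥(Subgroup.centralizer ({g} : Set G))) (hsolv : Cfsg.IsPSolvable p G) : (∃ χ : Cfsg.IrrCharacter G, (Cfsg.charDegree (χ : G → ℂ)).factorization p = (Nat.card G).factorization p) ∨ (∃ χ : Cfsg.IrrCharacter G, (Cfsg.charDegree (χ : G → ℂ)).factorization q = (Nat.card G).factorization q) := by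
  have hp : p.Prime := Fact.out
  have hq : q.Prime := Fact.out
  -- the symmetric hypothesis
  have hC' : ∀ g : G, g ≠ 1 → (∃ k : ℕ, orderOf g = q ^ k) →
      ¬ p ∣ Nat.card ↥(Subgroup.centralizer ({g} : Set G)) := by
    intro g hg1 ⟨k, hk⟩ hdvd
    obtain ⟨u, hu⟩ := exists_prime_orderOf_dvd_card' p hdvd
    have hu1 : (u : G) ≠ 1 := by
      intro h
      have : u = 1 := Subtype.ext h
      rw [this, orderOf_one] at hu
      exact hp.one_lt.ne hu
    have huo : orderOf (u : G) = p ^ 1 := by
      rw [pow_one, ← hu]; exact Subgroup.orderOf_coe u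
    apply hC (u : G) hu1 ⟨1, huo⟩
    have hgc : g ∈ Subgroup.centralizer ({(u : G)} : Set G) := by
      rw [Subgroup.mem_centralizer_iff]
      intro w hw
      rw [Set.mem_singleton_iff] at hw
      subst hw
      have := u.2
      rw [Subgroup.mem_centralizer_iff] at this
      exact (this g rfl).symm
    have hk0 : k ≠ 0 := by
      intro h
      rw [h, pow_zero, orderOf_eq_one_iff] at hk
      exact hg1 hk
    have h1 : q ∣ orderOf g := by rw [hk]; exact dvd_pow_self q hk0
    have h2 : orderOf g ∣ Nat.card (Subgroup.centralizer ({(u : G)} : Set G)) := by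
      have := orderOf_dvd_natCard (⟨g, hgc⟩ : Subgroup.centralizer ({(u : G)} : Set G))
      rwa [Subgroup.orderOf_mk] at this
    exact h1.trans h2
  obtain ⟨R, hRn, hR⟩ := exists_normal_one_prime p q hppq hpG hsolv
  rcases hR with ⟨hpR, hqR⟩ | ⟨hqR, hpR⟩
  · -- `p ∣ |R|`, `q ∤ |R|`: use the `q`-version
    rcases Cfsg.Agent.S4742.result q p hppq.symm hqG hpG hC' with h | h
    · exact Or.inr h
    · exfalso
      obtain ⟨y, hy⟩ := exists_prime_orderOf_dvd_card' p hpR
      have hy1 : (y : G) ≠ 1 := by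
        intro h'
        have : y = 1 := Subtype.ext h'
        rw [this, orderOf_one] at hy
        exact hp.one_lt.ne hy
      have hyo : orderOf (y : G) = p ^ 1 := by
        rw [pow_one, ← hy]; exact Subgroup.orderOf_coe y
      obtain ⟨g, h', hg, hh, hne, ⟨k, hk⟩⟩ := h (y : G) hy1 ⟨1, hyo⟩
      have hgR : g ∈ R := by
        obtain ⟨c, hc⟩ := isConj_iff.1 hg
        rw [← hc]; exact hRn.conj_mem _ y.2 c
      have hhR : h' ∈ R := by
        obtain ⟨c, hc⟩ := isConj_iff.1 hh
        rw [← hc]; exact hRn.conj_mem _ y.2 c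
      have hmem : g * h'⁻¹ ∈ R := R.mul_mem hgR (R.inv_mem hhR)
      have hk0 : k ≠ 0 := by
        intro h0
        rw [h0, pow_zero, orderOf_eq_one_iff] at hk
        exact hne hk
      apply hqR
      have h1 : q ∣ orderOf (g * h'⁻¹) := by rw [hk]; exact dvd_pow_self q hk0
      have h2 : orderOf (g * h'⁻¹) ∣ Nat.card R := by
        have := orderOf_dvd_natCard (⟨g * h'⁻¹, hmem⟩ : R)
        rwa [Subgroup.orderOf_mk] at this
      exact h1.trans h2
  · -- `q ∣ |R|`, `p ∤ |R|`
    rcases Cfsg.Agent.S4742.result p q hppq hpG hqG hC with h | h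
    · exact Or.inl h
    · exfalso
      obtain ⟨z, hz⟩ := exists_prime_orderOf_dvd_card' q hqR
      have hz1 : (z : G) ≠ 1 := by
        intro h'
        have : z = 1 := Subtype.ext h'
        rw [this, orderOf_one] at hz
        exact hq.one_lt.ne hz
      have hzo : orderOf (z : G) = q ^ 1 := by
        rw [pow_one, ← hz]; exact Subgroup.orderOf_coe z
      obtain ⟨g, h', hg, hh, hne, ⟨k, hk⟩⟩ := h (z : G) hz1 ⟨1, hzo⟩
      have hgR : g ∈ R := by
        obtain ⟨c, hc⟩ := isConj_iff.1 hg
        rw [← hc]; exact hRn.conj_mem _ z.2 c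
      have hhR : h' ∈ R := by
        obtain ⟨c, hc⟩ := isConj_iff.1 hh
        rw [← hc]; exact hRn.conj_mem _ z.2 c
      have hmem : g * h'⁻¹ ∈ R := R.mul_mem hgR (R.inv_mem hhR)
      have hk0 : k ≠ 0 := by
        intro h0
        rw [h0, pow_zero, orderOf_eq_one_iff] at hk
        exact hne hk
      apply hpR
      have h1 : p ∣ orderOf (g * h'⁻¹) := by rw [hk]; exact dvd_pow_self p hk0
      have h2 : orderOf (g * h'⁻¹) ∣ Nat.card R := by
        have := orderOf_dvd_natCard (⟨g * h'⁻¹, hmem⟩ : R)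
        rwa [Subgroup.orderOf_mk] at this
      exact h1.trans h2

theorem result {G : Type*} [Group G] [Finite G] (p q : ℕ) [Fact p.Prime] [Fact q.Prime] (hppq : p ≠ q) (hpG : p ∣ Nat.card G) (hqG : q ∣ Nat.card G) (hC : ∀ g : G, g ≠ 1 → (∃ k : ℕ, orderOf g = p ^ k) → ¬ q ∣ Nat.card ↥(Subgroup.centralizer ({g} : Set G))) (hsolv : Cfsg.IsPSolvable p G ∨ Cfsg.IsPSolvable q G) : (∃ χ : Cfsg.IrrCharacter G, (Cfsg.charDegree (χ : G → ℂ)).factorization p = (Nat.card G).factorization p) ∨ (∃ χ : Cfsg.IrrCharacter G, (Cfsg.charDegree (χ : G → ℂ)).factorization q = (Nat.card G).factorization q) := by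
  rcases hsolv with hs | hs
  · exact aux p q hppq hpG hqG hC hs
  · -- symmetric hypothesis and swap
    have hp : p.Prime := Fact.out
    have hC' : ∀ g : G, g ≠ 1 → (∃ k : ℕ, orderOf g = q ^ k) →
        ¬ p ∣ Nat.card ↥(Subgroup.centralizer ({g} : Set G)) := by
      intro g hg1 ⟨k, hk⟩ hdvd
      obtain ⟨u, hu⟩ := exists_prime_orderOf_dvd_card' p hdvd
      have hu1 : (u : G) ≠ 1 := by
        intro h
        have : u = 1 := Subtype.ext h
        rw [this, orderOf_one] at hu
        exact hp.one_lt.ne hu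
      have huo : orderOf (u : G) = p ^ 1 := by
        rw [pow_one, ← hu]; exact Subgroup.orderOf_coe u
      apply hC (u : G) hu1 ⟨1, huo⟩
      have hgc : g ∈ Subgroup.centralizer ({(u : G)} : Set G) := by
        rw [Subgroup.mem_centralizer_iff]
        intro w hw
        rw [Set.mem_singleton_iff] at hw
        subst hw
        have := u.2
        rw [Subgroup.mem_centralizer_iff] at this
        exact (this g rfl).symm
      have hk0 : k ≠ 0 := by
        intro h
        rw [h, pow_zero, orderOf_eq_one_iff] at hk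
        exact hg1 hk
      have h1 : q ∣ orderOf g := by rw [hk]; exact dvd_pow_self q hk0
      have h2 : orderOf g ∣ Nat.card (Subgroup.centralizer ({(u : G)} : Set G)) := by
        have := orderOf_dvd_natCard (⟨g, hgc⟩ : Subgroup.centralizer ({(u : G)} : Set G))
        rwa [Subgroup.orderOf_mk] at this
      exact h1.trans h2
    exact (aux q p hppq.symm hqG hpG hC' hs).symm

end Cfsg.Agent.S4743
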