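import Cfsg.Statements.S4744
import Cfsg.Agent.Lib.Helper82.SylowInvert
import Cfsg.Agent.S4742

set_option autoImplicit false
open Cfsg

namespace Cfsg.Agent.S4744

/-- Let p be an odd prime and G a finite group of even order divisible by p in which the centralizer of every non-identity p-element has odd order. Then either G has an irreducible character of p-defect zero, or the normalizer of every Sylow p-subgroup P of G has even order and P is abelian. -/
theorem result {G : Type*} [Group G] [Finite G] (p : ℕ) [Fact p.Prime] (hp2 : p ≠ 2) (hpG : p ∣ Nat.card G) (h2G : 2 ∣ Nat.card G) (hC : ∀ g : G, g ≠ 1 → (∃ k : ℕ, orderOf g = p ^ k) → Odd (Nat.card ↥(Subgroup.centralizer ({g} : Set G)))) : (∃ χ : Cfsg.IrrCharacter G, (Cfsg.charDegree (χ : G → ℂ)).factorization p = (Nat.card G).factorization p) ∨ ∀ P : Sylow p G, Even (Nat.card ↥(Subgroup.normalizer ((P : Subgroup G) : Set G))) ∧ IsMulCommutative ↥(P : Subgroup G) := by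
  classical
  haveI : Fact (Nat.Prime 2) := ⟨Nat.prime_two⟩
  have hC' : ∀ g : G, g ≠ 1 → (∃ k : ℕ, orderOf g = p ^ k) →
      ¬ 2 ∣ Nat.card ↥(Subgroup.centralizer ({g} : Set G)) := by
    intro g hg1 hg h2
    exact (Nat.not_even_iff_odd.2 (hC g hg1 hg)) (even_iff_two_dvd.2 h2)
  rcases Cfsg.Agent.S4742.result p 2 hp2 hpG h2G hC' with h | h
  · exact Or.inl h
  · right
    obtain ⟨z, hz⟩ := exists_prime_orderOf_dvd_card' 2 h2G
    have hz1 : z ≠ 1 := by
      intro h1
      rw [h1, orderOf_one] at hz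
      exact absurd hz (by norm_num)
    obtain ⟨g, h', hzg, hzh, hne, hord⟩ := h z hz1 ⟨1, by rw [hz, pow_one]⟩
    have hzz : z * z = 1 := by rw [← sq, ← hz, pow_orderOf_eq_one]
    have hinvol : ∀ w : G, IsConj z w → w * w = 1 ∧ w ≠ 1 := by
      intro w hw
      obtain ⟨c, hc⟩ := isConj_iff.1 hw
      constructor
      · rw [← hc]
        calc c * z * c⁻¹ * (c * z * c⁻¹) = c * (z * z) * c⁻¹ := by group
          _ = 1 := by rw [hzz]; group
      · intro hw1
        apply hz1
        rw [hw1] at hc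
        have : z = c⁻¹ * 1 * c := by rw [← hc]; group
        rw [this]; group
    obtain ⟨hgg, hg1⟩ := hinvol g hzg
    obtain ⟨hhh, _⟩ := hinvol h' hzh
    have hginv : g⁻¹ = g := inv_eq_of_mul_eq_one_left hgg
    have hhinv : h'⁻¹ = h' := inv_eq_of_mul_eq_one_left hhh
    refine Cfsg.Agent.Lib.Helper82.sylow_abelian_of_involution_inverts p hC g (g * h'⁻¹) hgg hg1
      hne hord ?_
    calc g * (g * h'⁻¹) * g⁻¹ = (g * g) * h'⁻¹ * g⁻¹ := by group
      _ = h' * g⁻¹ := by rw [hgg, one_mul, hhinv]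
      _ = (g * h'⁻¹)⁻¹ := by group

end Cfsg.Agent.S4744
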