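import Cfsg.Statements.S4748
import Cfsg.Agent.Lib.Helper79.TIPSolvE

set_option autoImplicit false
open scoped Pointwise
open Cfsg

namespace Cfsg.Agent.S4748

/-- Let G be a finite p-solvable group whose Sylow p-subgroup P meets each conjugate g P g⁻¹ with g outside N_G(P) trivially, and let χ be a faithful character of G (χ g = χ 1 only for g = 1) whose degree d satisfies d² ≤ |P|. Then P is normal in G. -/
theorem result {G : Type*} [Group G] [Finite G] (p : ℕ) [Fact p.Prime] (hsolv : Cfsg.IsPSolvable p G) (P : Sylow p G) (hTI : ∀ g : G, g ∉ Subgroup.normalizer ((P : Subgroup G) : Set G) → (P : Subgroup G) ⊓ (MulAut.conj g • (P : Subgroup G)) = ⊥) (χ : G → ℂ) (hχ : Cfsg.IsCharacter G χ) (hfaith : ∀ g : G, χ g = χ 1 → g = 1) (hdeg : Cfsg.charDegree χ ^ 2 ≤ Nat.card ↥(P : Subgroup G)) : (P : Subgroup G).Normal := by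
  classical
  by_contra hnn
  obtain ⟨K, hKn, hKcop, hKnc⟩ :=
    Cfsg.Agent.Lib.Helper79.TIPS.exists_normal_not_centralized p hsolv P hTI hnn
  haveI := hKn
  obtain ⟨q, hq, S, hSK, hSq, hSinv, hSnc⟩ :=
    Cfsg.Agent.Lib.Helper79.TIPS.exists_invariant_qgroup (P : Subgroup G) P.isPGroup' K hKcop hKnc
  haveI : Fact q.Prime := ⟨hq⟩
  have hp : p.Prime := Fact.out
  have hpq : p ≠ q := by
    intro h
    obtain ⟨g, hg, x, hx, hgx⟩ := hSnc
    have hSne : S ≠ ⊥ := by
      intro hS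
      rw [hS, Subgroup.mem_bot] at hg
      apply hgx
      rw [hg, mul_one, one_mul]
    have hdvd : q ∣ Nat.card S := by
      rcases hSq.card_eq_or_dvd with h1 | h1
      · exact absurd (Subgroup.card_eq_one.mp h1) hSne
      · exact h1
    have hdvdK : p ∣ Nat.card K := by
      rw [h]
      exact hdvd.trans (Subgroup.card_dvd_of_le hSK)
    have := Nat.Coprime.eq_one_of_dvd hKcop.symm hdvdK
    exact hp.one_lt.ne' this
  have hunif : ∀ x ∈ (P : Subgroup G), x ≠ 1 → ∀ g ∈ S, x * g = g * x →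
      ∀ y ∈ (P : Subgroup G), y * g = g * y :=
    fun x hx hx1 g hg hxg y hy =>
      Cfsg.Agent.Lib.Helper79.TIPS.ti_centralizer P hTI K hKcop hx hx1 (hSK hg) hxg hy
  obtain ⟨Q, hQS, M⟩ := Cfsg.Agent.Lib.Helper79.TIPS.exists_minConf (P : Subgroup G) S
    P.isPGroup' hSq hpq hSinv hSnc hunif
  have hfQ : ∀ g ∈ Q, χ g = χ 1 → g = 1 := fun g _ h => hfaith g h
  have hP1 : 1 < Nat.card ↥(P : Subgroup G) := by
    rw [Subgroup.one_lt_card_iff_ne_bot]
    intro hP
    obtain ⟨g, hg, x, hx, hgx⟩ := M.nc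
    rw [hP, Subgroup.mem_bot] at hx
    apply hgx
    rw [hx, mul_one, one_mul]
  by_cases hab : ∀ a ∈ Q, ∀ b ∈ Q, a * b = b * a
  · have h1 := M.card_le_degree_of_abelian hab hχ hfQ
    have h2 : Nat.card ↥(P : Subgroup G) ^ 2 ≤ Cfsg.charDegree χ ^ 2 := Nat.pow_le_pow_left h1 2
    nlinarith
  · push_neg at hab
    have h1 := M.card_lt_degree_sq_of_nonabelian hab hχ hfQ
    omega

end Cfsg.Agent.S4748
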