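import Cfsg.Statements.S4751
import Cfsg.Agent.Lib.Helper39.S4751E2a
import Cfsg.Agent.Lib.Helper41.S4751A
import Cfsg.Agent.Lib.Helper97.S4751C
import Cfsg.Agent.Lib.Helper30.S4751D
import Cfsg.Agent.Lib.Helper45.S4751E1
import Cfsg.Agent.Lib.Helper19.S4751E3
import Cfsg.Agent.Lib.Helper94.S4751F
import Cfsg.Agent.Lib.Helper73.S4751G
import Cfsg.Agent.Lib.Helper84.S4751E2bAux
import Cfsg.Agent.Lib.Helper32.S4751B
import Cfsg.Agent.Lib.Helper34.S4751H
import Cfsg.Agent.Lib.Helper01.PCore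
import Cfsg.Agent.Lib.Helper83.CharBasic
import Cfsg.Agent.Lib.Helper83.Linear
import Cfsg.Agent.Lib.Helper79.ItoSolvable
import Cfsg.Agent.Lib.Helper84.Clifford

set_option autoImplicit false
set_option linter.style.haveILetI false
open Cfsg

namespace Cfsg.Agent.S4751

open scoped Pointwise

/-- a nontrivial element of a `p`-subgroup has order divisible by `p`. -/
theorem dvd_orderOf_of_mem {G : Type*} [Group G] {p : ℕ} [Fact p.Prime] {K : Subgroup G} (hK : IsPGroup p K)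
    {x : G} (hx : x ∈ K) (h1 : x ≠ 1) : p ∣ orderOf x := by
  obtain ⟨k, hk⟩ := (IsPGroup.iff_orderOf.mp hK) ⟨x, hx⟩
  rw [Subgroup.orderOf_mk] at hk
  rcases k with _ | k
  · rw [pow_zero, orderOf_eq_one_iff] at hk
    exact absurd hk h1
  · rw [hk]
    exact dvd_pow_self p (Nat.succ_ne_zero k)

theorem two_pow_eq_four {k : ℕ} (h4 : 2 ^ k ≤ 4) (h1 : 2 ^ k ≠ 1) (h2 : 2 ^ k ≠ 2) :
    2 ^ k = 4 := by
  have hk3 : k ≤ 2 := by
    by_contra hcon
    have : 2 ^ 3 ≤ 2 ^ k := Nat.pow_le_pow_right (by norm_num) (by omega)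
    omega
  interval_cases k
  · exact absurd (by norm_num) h1
  · exact absurd (by norm_num) h2
  · norm_num

/-- Let χ be a faithful, non-linear irreducible character of the finite group G (χ g = χ 1 only for g = 1, χ 1 ≠ 1) whose value at every element of order divisible by p is a root of unity, and suppose P = O_p(G) ≠ 1. Then either P is an elementary abelian Sylow p-subgroup of G, C_G(P) is the internal direct product of P and Z(G), G acts transitively by conjugation on the non-principal linear characters of P, and χ 1 = |P| − 1; or p = 2 and G is the internal direct product of a subgroup isomorphic to the symmetric group S₄ and the centre Z(G), which has odd order. -/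
theorem result {G : Type*} [Group G] [Finite G] (p : ℕ) [Fact p.Prime] (χ : Cfsg.IrrCharacter G) (hfaith : ∀ g : G, (χ : G → ℂ) g = (χ : G → ℂ) 1 → g = 1) (hnl : (χ : G → ℂ) 1 ≠ 1) (hroot : ∀ g : G, p ∣ orderOf g → ∃ n : ℕ, 0 < n ∧ ((χ : G → ℂ) g) ^ n = 1) (hP : Cfsg.pCore p G ≠ ⊥) : ((Nat.card ↥(Cfsg.pCore p G)).factorization p = (Nat.card G).factorization p ∧ Cfsg.IsElementaryAbelian p (Cfsg.pCore p G) ∧ Subgroup.centralizer ((Cfsg.pCore p G : Subgroup G) : Set G) = Cfsg.pCore p G ⊔ Subgroup.center G ∧ Cfsg.pCore p G ⊓ Subgroup.center G = ⊥ ∧ (∀ lam mu : ↥(Cfsg.pCore p G) → ℂ, Cfsg.IsCharacter ↥(Cfsg.pCore p G) lam → lam 1 = 1 → lam ≠ (fun _ => (1 : ℂ)) → Cfsg.IsCharacter ↥(Cfsg.pCore p G) mu → mu 1 = 1 → mu ≠ (fun _ => (1 : ℂ)) → ∃ g : G, ∀ (x : G) (hx : x ∈ Cfsg.pCore p G) (hgx : g * x * g⁻¹ ∈ Cfsg.pCore p G), mu ⟨x, hx⟩ = lam ⟨g * x * g⁻¹, hgx⟩) ∧ (χ : G → ℂ) 1 = (Nat.card ↥(Cfsg.pCore p G) : ℂ) - 1) ∨ (p = 2 ∧ Odd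 (Nat.card ↥(Subgroup.center G)) ∧ ∃ H : Subgroup G, Nonempty (↥H ≃* Equiv.Perm (Fin 4)) ∧ H ⊓ Subgroup.center G = ⊥ ∧ H ⊔ Subgroup.center G = ⊤) := by
  classical
  haveI : Fintype G := Fintype.ofFinite G
  obtain ⟨χ, hχ⟩ := χ
  simp only at hfaith hnl hroot ⊢
  haveI hNn : (Cfsg.pCore p G).Normal := Cfsg.Agent.Lib.Helper01.pCore_normal p
  haveI : Fintype (Cfsg.pCore p G) := Fintype.ofFinite _
  have hNp : IsPGroup p (Cfsg.pCore p G) := Cfsg.Agent.Lib.Helper01.pCore_isPGroup p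
  have hsing : ∀ g : G, p ∣ orderOf g → ‖χ g‖ = 1 := fun g hg => by
    obtain ⟨n, hn, h⟩ := hroot g hg
    exact Complex.norm_eq_one_of_pow_eq_one h hn.ne'
  have hsingN : ∀ x ∈ Cfsg.pCore p G, x ≠ 1 → ‖χ x‖ = 1 := fun x hx hx1 =>
    hsing x (dvd_orderOf_of_mem hNp hx hx1)
  obtain ⟨hdeg, hlin, hmult⟩ := Cfsg.Agent.Lib.Helper41.S4751.partI p (Cfsg.pCore p G) hNp hP hχ hfaith hnl hsingN
  have hcomm : ∀ a b : ↥(Cfsg.pCore p G), a * b = b * a :=
    Cfsg.Agent.Lib.Helper79.comm_of_all_linear (fun θ => by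
      have := hlin θ.1 θ.2
      simp [charDegree, this])
  have htrans : ∀ θ θ' : ↥(Cfsg.pCore p G) → ℂ, IsIrrCharacter _ θ → IsIrrCharacter _ θ' →
      θ ≠ (fun _ => 1) → θ' ≠ (fun _ => 1) →
      ∃ g : G, Cfsg.Agent.Lib.Helper84.conjFun (Cfsg.pCore p G) g θ = θ' := by
    intro θ θ' hθ hθ' h1 h1'
    apply Cfsg.Agent.Lib.Helper84.clifford_exists_conj (Cfsg.pCore p G) hχ hθ hθ'
    · rw [hmult θ hθ h1]; exact one_ne_zero
    · rw [hmult θ' hθ' h1']; exact one_ne_zero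
  have hexp : ∀ x ∈ Cfsg.pCore p G, x ^ p = 1 :=
    Cfsg.Agent.Lib.Helper30.S4751.pow_eq_one_of_transitive p (Cfsg.pCore p G) hNp hcomm htrans
  obtain ⟨hcent, hNZ⟩ := Cfsg.Agent.Lib.Helper34.S4751H.centralizer_eq_sup_center p (Cfsg.pCore p G) hNp
    (fun a ha b hb => congrArg Subtype.val (hcomm ⟨a, ha⟩ ⟨b, hb⟩)) hχ hfaith hnl hsing hdeg
  obtain ⟨S⟩ : Nonempty (Sylow p G) := inferInstance
  rcases Cfsg.Agent.Lib.Helper73.S4751G.sylow_card_cases p (Cfsg.pCore p G) hNp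
    (Cfsg.Agent.Lib.Helper83.isCharacter_of_irr hχ) hnl hsing hdeg S with hS | ⟨hp2, hS⟩
  · left
    refine ⟨?_, ⟨⟨⟨hcomm⟩⟩, hexp⟩, hcent, hNZ, ?_, hdeg⟩
    · have h1 := S.card_eq_multiplicity
      have h2 : Nat.card ↥(Cfsg.pCore p G) = p ^ (Nat.card G).factorization p := hS.symm.trans h1
      rw [h2, Nat.Prime.factorization_pow Fact.out]
      simp
    · intro lam mu hlam hlam1 hlamne hmu hmu1 hmune
      obtain ⟨g, hg⟩ := htrans lam mu (Cfsg.Agent.Lib.Helper83.isIrrCharacter_of_deg_one hlam hlam1)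
        (Cfsg.Agent.Lib.Helper83.isIrrCharacter_of_deg_one hmu hmu1) hlamne hmune
      refine ⟨g, fun x hx hgx => ?_⟩
      have := congrFun hg ⟨x, hx⟩
      rw [Cfsg.Agent.Lib.Helper84.conjFun_apply] at this
      exact this.symm
  · right
    subst hp2
    have hNS : Cfsg.pCore 2 G ≤ S := Cfsg.Agent.Lib.Helper01.pCore_le_sylow S
    have hNpos : 0 < Nat.card ↥(Cfsg.pCore 2 G) := Nat.card_pos
    obtain ⟨g, hgS, hgN⟩ : ∃ g ∈ (S : Subgroup G), g ∉ Cfsg.pCore 2 G := by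
      by_contra hcon
      have hle : (S : Subgroup G) ≤ Cfsg.pCore 2 G := fun x hx =>
        by_contra fun h => hcon ⟨x, hx, h⟩
      have := Subgroup.card_le_of_le hle
      omega
    have hone : ∀ x : ↥(Cfsg.pCore 2 G), Complex.normSq (χ (g * x)) = 1 := by
      intro x
      have hmem : g * x ∈ (S : Subgroup G) := (S : Subgroup G).mul_mem hgS (hNS x.2)
      have hne : g * (x : G) ≠ 1 := by
        intro h
        apply hgN
        have hg : g = (x : G)⁻¹ := eq_inv_of_mul_eq_one_left h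
        rw [hg]
        exact (Cfsg.pCore 2 G).inv_mem x.2
      have := hsing _ (dvd_orderOf_of_mem S.isPGroup' hmem hne)
      rw [Complex.normSq_eq_norm_sq, this]
      norm_num
    have hB := Cfsg.Agent.Lib.Helper32.S4751.sum_normSq_coset (Cfsg.pCore 2 G) hcomm hχ hdeg hmult g
    simp only [hone, Finset.sum_const, Finset.card_univ, nsmul_eq_mul, mul_one] at hB
    rw [← Nat.card_eq_fintype_card] at hB
    have hc : (Nat.card {θ : IrrCharacter ↥(Cfsg.pCore 2 G) //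
        Cfsg.Agent.Lib.Helper84.conjFun (Cfsg.pCore 2 G) g (θ : ↥(Cfsg.pCore 2 G) → ℂ) =
          (θ : ↥(Cfsg.pCore 2 G) → ℂ)} : ℝ) = 2 := by
      have hpos : (Nat.card ↥(Cfsg.pCore 2 G) : ℝ) ≠ 0 := by exact_mod_cast hNpos.ne'
      have h3 : (Nat.card ↥(Cfsg.pCore 2 G) : ℝ) * 1 = (Nat.card ↥(Cfsg.pCore 2 G) : ℝ) *
          ((Nat.card {θ : IrrCharacter ↥(Cfsg.pCore 2 G) //
            Cfsg.Agent.Lib.Helper84.conjFun (Cfsg.pCore 2 G) g (θ : ↥(Cfsg.pCore 2 G) → ℂ) =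
            (θ : ↥(Cfsg.pCore 2 G) → ℂ)} : ℝ) - 1) := by
        rw [mul_one]; exact hB
      have := mul_left_cancel₀ hpos h3
      linarith
    have hC := Cfsg.Agent.Lib.Helper97.S4751.card_fixed_irr_eq_card_fixed (Cfsg.pCore 2 G) hcomm g
    have hfix : Nat.card {x : ↥(Cfsg.pCore 2 G) // g * (x : G) * g⁻¹ = (x : G)} = 2 := by
      rw [← hC]; exact_mod_cast hc
    have hexp2 : ∀ x ∈ Cfsg.pCore 2 G, x * x = 1 := fun x hx => by
      rw [← pow_two]; exact hexp x hx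
    have hg2 : g * g ∈ Cfsg.pCore 2 G := by
      have hidx : ((Cfsg.pCore 2 G).subgroupOf (S : Subgroup G)).index = 2 := by
        have h1 := Subgroup.card_mul_index ((Cfsg.pCore 2 G).subgroupOf (S : Subgroup G))
        have h2 : Nat.card ((Cfsg.pCore 2 G).subgroupOf (S : Subgroup G)) =
            Nat.card ↥(Cfsg.pCore 2 G) :=
          Nat.card_congr (Subgroup.subgroupOfEquivOfLe hNS).toEquiv
        rw [h2] at h1
        have h3 : Nat.card ↥(S : Subgroup G) = 2 * Nat.card ↥(Cfsg.pCore 2 G) := hS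
        rw [h3] at h1
        nlinarith
      have := Subgroup.mul_self_mem_of_index_two hidx ⟨g, hgS⟩
      rw [Subgroup.mem_subgroupOf] at this
      exact this
    have hle4 := Cfsg.Agent.Lib.Helper94.S4751F.card_le_four_of_fixed (Cfsg.pCore 2 G) hexp2 g hg2 hfix
    have hN4 : Nat.card ↥(Cfsg.pCore 2 G) = 4 := by
      obtain ⟨k, hk⟩ := IsPGroup.iff_card.mp hNp
      have hk1 : Nat.card ↥(Cfsg.pCore 2 G) ≠ 1 := fun h =>
        hP ((Subgroup.card_eq_one).mp h)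
      have hk2 : Nat.card ↥(Cfsg.pCore 2 G) ≠ 2 := by
        intro h
        apply hnl
        rw [hdeg, h]
        norm_num
      rw [hk] at hle4 hk1 hk2 ⊢
      exact two_pow_eq_four hle4 hk1 hk2
    have h8 : (Nat.card G).factorization 2 = 3 := by
      have h1 := S.card_eq_multiplicity
      have h3 : Nat.card ↥(S : Subgroup G) = 2 * Nat.card ↥(Cfsg.pCore 2 G) := hS
      rw [h3, hN4] at h1
      have : (2 : ℕ) ^ 3 = 2 ^ (Nat.card G).factorization 2 := by rw [← h1]; norm_num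
      exact (Nat.pow_right_injective (le_refl 2) this).symm
    obtain ⟨hodd, hidx⟩ := Cfsg.Agent.Lib.Helper45.S4751E1.index_centralizer_eq_six (Cfsg.pCore 2 G) hN4 hexp2 hcent hNZ
      (fun K hK hK2 => Cfsg.Agent.Lib.Helper01.le_pCore hK hK2) h8
    obtain ⟨H, hNH, hH24, hHZ, hHZtop⟩ :=
      Cfsg.Agent.Lib.Helper84.S4751E2b.exists_complement_center_aux
        (fun A => Cfsg.Agent.Lib.Helper39.S4751E2a.exists_complement_of_index_six A) (Cfsg.pCore 2 G) hN4 hexp2 hcent hNZ hodd hidx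
    refine ⟨rfl, hodd, H, ?_, hHZ, hHZtop⟩
    apply Cfsg.Agent.Lib.Helper19.S4751.s4_of_selfCentralizing_four H (Cfsg.pCore 2 G) hNH
      (fun h _ x hx => hNn.conj_mem x hx h) hH24 hN4 hexp2
    intro h hh hcen
    have hmem : h ∈ Subgroup.centralizer ((Cfsg.pCore 2 G : Subgroup G) : Set G) := by
      rw [Subgroup.mem_centralizer_iff]
      intro x hx
      exact (hcen x hx).symm
    rw [hcent] at hmem
    have hmem' : h ∈ ((Cfsg.pCore 2 G : Subgroup G) : Set G) * (Subgroup.center G : Set G) := by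
      rw [← Subgroup.normal_mul]; exact hmem
    obtain ⟨n, hn, z, hz, rfl⟩ := Set.mem_mul.mp hmem'
    have hzH : z ∈ H := by
      have : z = n⁻¹ * (n * z) := by group
      rw [this]; exact H.mul_mem (H.inv_mem (hNH hn)) hh
    have hz1 : z = 1 := by
      have : z ∈ H ⊓ Subgroup.center G := ⟨hzH, hz⟩
      rw [hHZ] at this; exact Subgroup.mem_bot.mp this
    rw [hz1, mul_one]; exact hn

end Cfsg.Agent.S4751
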