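import Cfsg.Statements.S4755
import Cfsg.Agent.Lib.Helper83.Linear

set_option autoImplicit false
open Cfsg

namespace Cfsg.Agent.S4755

open Cfsg.Agent.Lib.Helper83
open scoped ComplexConjugate commutatorElement

theorem result {G : Type*} [Group G] [Finite G] (x y : G) (hx : x ≠ 1) (hy : y ≠ 1) (h : ∀ (a b : G) (χ : Cfsg.IrrCharacter G), (χ : G → ℂ) (a * x * a⁻¹ * (b * y * b⁻¹)) = (χ : G → ℂ) (a * x * a⁻¹) * (χ : G → ℂ) (b * y * b⁻¹)) : (∀ z : G, IsConj (x * y) z ↔ ∃ a b : G, z = a * x * a⁻¹ * (b * y * b⁻¹)) ∧ (∀ χ : Cfsg.IrrCharacter G, (χ : G → ℂ) 1 ≠ 1 → (χ : G → ℂ) (x * y) = 0) ∧ (∀ z : G, IsConj (x * y) z ↔ (x * y)⁻¹ * z ∈ commutator G) := by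
  classical
  haveI := Fintype.ofFinite G
  haveI : Fintype (IrrCharacter G) := Fintype.ofFinite _
  -- Step A
  have hA : ∀ χ : Cfsg.IrrCharacter G, (χ : G → ℂ) 1 ≠ 1 → (χ : G → ℂ) (x * y) = 0 := by
    intro χ h1
    have hxy : (χ : G → ℂ) (x * y) = (χ : G → ℂ) x * (χ : G → ℂ) y := by
      have := h 1 1 χ
      simpa using this
    have hsum := irr_sum_conj_mul χ x y
    have hterm : ∀ b : G, (χ : G → ℂ) (x * (b * y * b⁻¹)) = (χ : G → ℂ) x * (χ : G → ℂ) y := by
      intro b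
      have := h 1 b χ
      simp only [one_mul, inv_one, mul_one] at this
      rw [this, isClassFunction_irr χ y b]
    simp only [hterm, Finset.sum_const, Finset.card_univ, nsmul_eq_mul] at hsum
    rw [← Nat.card_eq_fintype_card] at hsum
    have hd := irr_degree_ne_zero χ
    have hG := card_ne_zero_complex (G := G)
    rw [hxy]
    by_contra hne
    apply h1
    have h2 : (Nat.card G : ℂ) * ((χ : G → ℂ) x * (χ : G → ℂ) y) * (χ : G → ℂ) 1
        = (Nat.card G : ℂ) * ((χ : G → ℂ) x * (χ : G → ℂ) y) := by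
      rw [eq_div_iff hd] at hsum
      rw [hsum]; ring
    have h3 : (Nat.card G : ℂ) * ((χ : G → ℂ) x * (χ : G → ℂ) y) ≠ 0 := mul_ne_zero hG hne
    exact mul_left_cancel₀ h3 (by rw [h2, mul_one])
  -- Step B
  have hB : ∀ z : G, (x * y)⁻¹ * z ∈ commutator G → IsConj (x * y) z := by
    intro z hz
    have h2 := second_orthogonality (G := G) z (x * y)
    by_contra hnc
    rw [if_neg (fun hc => hnc hc.symm)] at h2
    have hterm : ∀ χ : IrrCharacter G, (χ : G → ℂ) z * conj ((χ : G → ℂ) (x * y))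
        = if (χ : G → ℂ) 1 = 1 then 1 else 0 := by
      intro χ
      split_ifs with h1
      · have hχ := IrrCharacter_isCharacter χ
        have : (χ : G → ℂ) z = (χ : G → ℂ) (x * y) := by
          have hz' : z = (x * y) * ((x * y)⁻¹ * z) := by group
          rw [hz', char_deg_one_mul hχ h1, char_deg_one_commutator hχ h1 hz, mul_one]
        rw [this, char_deg_one_conj_mul hχ h1]
      · rw [hA χ h1, map_zero, mul_zero]
    simp only [hterm] at h2
    rw [← Finset.sum_filter, Finset.sum_const, nsmul_eq_mul, mul_one] at h2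
    have hpos : 0 < (Finset.univ.filter (fun χ : IrrCharacter G => (χ : G → ℂ) 1 = 1)).card := by
      apply Finset.card_pos.2
      exact ⟨trivChar G, by simp [trivChar_apply]⟩
    have : ((Finset.univ.filter (fun χ : IrrCharacter G => (χ : G → ℂ) 1 = 1)).card : ℂ) ≠ 0 := by
      exact_mod_cast hpos.ne'
    exact this h2
  -- Step C
  have hC : ∀ z : G, IsConj (x * y) z → (x * y)⁻¹ * z ∈ commutator G := by
    intro z hz
    obtain ⟨c, hc⟩ := isConj_iff.1 hz
    rw [← hc]
    have : (x * y)⁻¹ * (c * (x * y) * c⁻¹) = ⁅(x * y)⁻¹, c⁆ := by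
      rw [commutatorElement_def]; group
    rw [this, commutator_def]
    exact Subgroup.commutator_mem_commutator (Subgroup.mem_top _) (Subgroup.mem_top _)
  -- Step D
  have hD : ∀ a b : G, (x * y)⁻¹ * (a * x * a⁻¹ * (b * y * b⁻¹)) ∈ commutator G := by
    intro a b
    rw [← Abelianization.ker_of, MonoidHom.mem_ker]
    simp only [map_mul, map_inv]
    rw [mul_inv_cancel_comm, mul_inv_cancel_comm, inv_mul_cancel]
  refine ⟨fun z => ⟨?_, ?_⟩, hA, fun z => ⟨hC z, hB z⟩⟩
  · intro hz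
    obtain ⟨c, hc⟩ := isConj_iff.1 hz
    refine ⟨c, c, ?_⟩
    rw [← hc]; group
  · rintro ⟨a, b, rfl⟩
    exact hB _ (hD a b)

end Cfsg.Agent.S4755
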