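import Cfsg.Statements.S4757
import Cfsg.Agent.Lib.Helper01.PPrimeCore
import Cfsg.Agent.Lib.Helper83.SecondOrth
import Cfsg.Agent.Lib.Helper83.LinearCount
import Cfsg.Agent.Lib.Helper83.Linear
import Cfsg.Agent.Lib.Helper83.Decompose

set_option autoImplicit false
open Cfsg

namespace Cfsg.Agent.S4757

open Cfsg.Agent.Lib.Helper83
open scoped ComplexConjugate

section

variable {G : Type*} [Group G] [Finite G]

/-- The pointwise product of two linear irreducible characters, as an irreducible character. -/
noncomputable def linMul (a b : IrrCharacter G) (ha : (a : G → ℂ) 1 = 1) (hb : (b : G → ℂ) 1 = 1) :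
    IrrCharacter G :=
  ⟨(a : G → ℂ) * (b : G → ℂ),
    isIrrCharacter_of_deg_one (isCharacter_mul (IrrCharacter_isCharacter a) (IrrCharacter_isCharacter b))
      (by rw [Pi.mul_apply, ha, hb, mul_one])⟩

theorem linMul_apply (a b : IrrCharacter G) (ha : (a : G → ℂ) 1 = 1) (hb : (b : G → ℂ) 1 = 1)
    (g : G) : (linMul a b ha hb : G → ℂ) g = (a : G → ℂ) g * (b : G → ℂ) g := rfl

theorem triv_coe : ((trivChar G : IrrCharacter G) : G → ℂ) = fun _ => (1 : ℂ) := rfl

theorem ne_triv_iff (χ : IrrCharacter G) : χ ≠ trivChar G ↔ (χ : G → ℂ) ≠ fun _ => (1 : ℂ) := by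
  constructor
  · intro h h2
    exact h (Subtype.ext h2)
  · intro h h2
    exact h (by rw [h2]; rfl)

/-- The degree of an irreducible character as a natural number cast. -/
theorem deg_cast (χ : IrrCharacter G) : ((charDegree (χ : G → ℂ) : ℕ) : ℂ) = (χ : G → ℂ) 1 :=
  charDegree_cast (IrrCharacter_isCharacter χ)

/-- Column orthogonality against the identity, real part version. -/
theorem sum_re_eq_zero [Fintype (IrrCharacter G)] {u : G} (hu : u ≠ 1) :
    ∑ χ : IrrCharacter G, ((χ : G → ℂ) 1 * (χ : G → ℂ) u).re = 0 := by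
  classical
  haveI := Fintype.ofFinite G
  have h := sum_irr_degree_mul (G := G) u
  rw [if_neg hu] at h
  have h2 := congrArg Complex.re h
  rw [Complex.re_sum] at h2
  simpa using h2

/-- `c ≠ 0` under the hypothesis. -/
theorem c_ne_zero {u : G} (hu : u ≠ 1) {c : ℂ}
    (hyp : ∀ χ : IrrCharacter G, (χ : G → ℂ) ≠ (fun _ => (1 : ℂ)) →
      ((χ : G → ℂ) 1 - (χ : G → ℂ) u = c ∨ (χ : G → ℂ) u = 0)) : c ≠ 0 := by
  classical
  have : Fintype (IrrCharacter G) := Fintype.ofFinite _
  intro hc
  have hsum := sum_re_eq_zero (G := G) hu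
  have hnonneg : ∀ χ : IrrCharacter G, 0 ≤ ((χ : G → ℂ) 1 * (χ : G → ℂ) u).re := by
    intro χ
    by_cases hχ : χ = trivChar G
    · rw [hχ]; simp [triv_coe]
    · rcases hyp χ ((ne_triv_iff χ).mp hχ) with h | h
      · have : (χ : G → ℂ) u = (χ : G → ℂ) 1 := by
          rw [hc, sub_eq_zero] at h; exact h.symm
        rw [this, ← deg_cast χ]
        norm_cast
        positivity
      · rw [h, mul_zero]; simp
  have hall := (Finset.sum_eq_zero_iff_of_nonneg (fun χ _ => hnonneg χ)).mp hsum
  have := hall (trivChar G) (Finset.mem_univ _)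
  simp [triv_coe] at this

end

/-- Let u ≠ 1 be an element of the finite group G and c a complex number such that every non-principal irreducible character χ satisfies χ(1) − χ(u) = c or χ(u) = 0. Then the following are equivalent: (a) u has order 2, G is generated by u together with O(G), the largest normal subgroup of G of odd order, and the centralizer of u is {1, u}; (b) G is not perfect; (c) c = 2. -/
theorem result {G : Type*} [Group G] [Finite G] (u : G) (hu : u ≠ 1) (c : ℂ) (hyp : ∀ χ : Cfsg.IrrCharacter G, (χ : G → ℂ) ≠ (fun _ => (1 : ℂ)) → ((χ : G → ℂ) 1 - (χ : G → ℂ) u = c ∨ (χ : G → ℂ) u = 0)) : ((orderOf u = 2 ∧ Subgroup.zpowers u ⊔ Cfsg.oddCore G = ⊤ ∧ Subgroup.centralizer ({u} : Set G) = Subgroup.zpowers u) ↔ commutator G ≠ ⊤) ∧ (commutator G ≠ ⊤ ↔ c = 2) := by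
  classical
  haveI : Fintype G := Fintype.ofFinite G
  have : Fintype (IrrCharacter G) := Fintype.ofFinite _
  have hc0 : c ≠ 0 := c_ne_zero hu hyp
  have hsum := sum_re_eq_zero (G := G) hu
  -- (b) → (c) together with the value of the nonprincipal linear characters
  have hlin : ∀ lam : IrrCharacter G, (lam : G → ℂ) 1 = 1 → lam ≠ trivChar G →
      (lam : G → ℂ) u = 1 - c := by
    intro lam h1 hne
    rcases hyp lam ((ne_triv_iff lam).mp hne) with h | h
    · rw [h1] at h
      rw [← h]; ring
    · exact absurd h (char_deg_one_ne_zero (IrrCharacter_isCharacter lam) h1 u)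
  have hbc : commutator G ≠ ⊤ → c = 2 := by
    intro hG
    have hidx : (commutator G).index ≠ 1 := fun h => hG (Subgroup.index_eq_one.mp h)
    have hcard := card_linear_eq_index_commutator (G := G)
    have h2 : 1 < Nat.card {χ : IrrCharacter G // (χ : G → ℂ) 1 = 1} := by
      rw [hcard]
      have := (commutator G).index_ne_zero_of_finite
      omega
    haveI : Finite {χ : IrrCharacter G // (χ : G → ℂ) 1 = 1} := inferInstance
    rw [Finite.one_lt_card_iff_nontrivial] at h2
    obtain ⟨lam, hlam⟩ := exists_ne (⟨trivChar G, rfl⟩ : {χ : IrrCharacter G // (χ : G → ℂ) 1 = 1})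
    have hne : lam.1 ≠ trivChar G := fun h => hlam (Subtype.ext h)
    have hval := hlin lam.1 lam.2 hne
    by_cases hsq : linMul lam.1 lam.1 lam.2 lam.2 = trivChar G
    · have h3 : (lam.1 : G → ℂ) u * (lam.1 : G → ℂ) u = 1 := by
        rw [← linMul_apply lam.1 lam.1 lam.2 lam.2, hsq]; rfl
      rw [hval] at h3
      have h4 : c * (c - 2) = 0 := by linear_combination h3
      rcases mul_eq_zero.mp h4 with h5 | h5
      · exact absurd h5 hc0
      · linear_combination h5
    · have h3 := hlin (linMul lam.1 lam.1 lam.2 lam.2) (by rw [linMul_apply, lam.2, mul_one]) hsq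
      rw [linMul_apply, hval] at h3
      have h4 : c * (1 - c) = 0 := by linear_combination -h3
      rcases mul_eq_zero.mp h4 with h5 | h5
      · exact absurd h5 hc0
      · exfalso
        have hc1 : c = 1 := by linear_combination -h5
        have h6 : (lam.1 : G → ℂ) u = 0 := by rw [hval, hc1]; ring
        exact char_deg_one_ne_zero (IrrCharacter_isCharacter lam.1) lam.2 u h6
  have hcb : c = 2 → commutator G ≠ ⊤ := by
    intro hc hG
    -- perfect: every nonprincipal character has degree at least 2
    have hdeg : ∀ χ : IrrCharacter G, χ ≠ trivChar G → 2 ≤ charDegree (χ : G → ℂ) := by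
      intro χ hχ
      by_contra hlt
      have hpos := irr_charDegree_pos χ
      have h1 : charDegree (χ : G → ℂ) = 1 := by omega
      have h1' : (χ : G → ℂ) 1 = 1 := by rw [← deg_cast χ, h1]; simp
      apply hχ
      apply Subtype.ext
      funext g
      have := char_deg_one_commutator (IrrCharacter_isCharacter χ) h1' (x := g) (by rw [hG]; trivial)
      rw [this]; rfl
    have hnonneg : ∀ χ : IrrCharacter G, 0 ≤ ((χ : G → ℂ) 1 * (χ : G → ℂ) u).re := by
      intro χ
      by_cases hχ : χ = trivChar G
      · rw [hχ]; simp [triv_coe]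
      · rcases hyp χ ((ne_triv_iff χ).mp hχ) with h | h
        · have h2 : (χ : G → ℂ) u = (χ : G → ℂ) 1 - 2 := by rw [← hc, ← h]; ring
          rw [h2, ← deg_cast χ]
          have h3 := hdeg χ hχ
          have : ((charDegree (χ : G → ℂ) : ℂ) * ((charDegree (χ : G → ℂ) : ℂ) - 2)).re =
              (charDegree (χ : G → ℂ) : ℝ) * ((charDegree (χ : G → ℂ) : ℝ) - 2) := by
            simp
          rw [this]
          have h4 : (2 : ℝ) ≤ (charDegree (χ : G → ℂ) : ℝ) := by exact_mod_cast h3
          nlinarith
        · rw [h, mul_zero]; simp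
    have hall := (Finset.sum_eq_zero_iff_of_nonneg (fun χ _ => hnonneg χ)).mp hsum
    have := hall (trivChar G) (Finset.mem_univ _)
    simp [triv_coe] at this
  refine ⟨⟨?_, ?_⟩, ⟨hbc, hcb⟩⟩
  · -- (a) → (b)
    rintro ⟨hord, hsup, -⟩ hG
    have hN : (Cfsg.oddCore G).Normal := Cfsg.Agent.Lib.Helper01.pPrimeCore_normal 2
    have hodd : (Nat.card (Cfsg.oddCore G)).Coprime 2 :=
      Cfsg.Agent.Lib.Helper01.pPrimeCore_card_coprime 2
    have hcomm : ∀ a b : G ⧸ Cfsg.oddCore G, a * b = b * a := by
      have hpow : ∀ a : G ⧸ Cfsg.oddCore G, ∃ k : ℤ, a = (QuotientGroup.mk u) ^ k := by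
        intro a
        induction a using QuotientGroup.induction_on with
        | H g =>
          have hg : g ∈ Subgroup.zpowers u ⊔ Cfsg.oddCore G := by rw [hsup]; trivial
          rw [Subgroup.mem_sup_of_normal_right] at hg
          obtain ⟨y, hy, z, hz, rfl⟩ := hg
          obtain ⟨k, rfl⟩ := Subgroup.mem_zpowers_iff.mp hy
          refine ⟨k, ?_⟩
          rw [QuotientGroup.mk_mul, (QuotientGroup.eq_one_iff z).mpr hz, mul_one,
            QuotientGroup.mk_zpow]
      intro a b
      obtain ⟨k, rfl⟩ := hpow a
      obtain ⟨l, rfl⟩ := hpow b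
      rw [← zpow_add, ← zpow_add, add_comm]
    have hle : commutator G ≤ Cfsg.oddCore G := by
      rw [← Subgroup.Normal.quotient_commutative_iff_commutator_le]
      exact ⟨⟨hcomm⟩⟩
    rw [hG, top_le_iff] at hle
    rw [hle, Subgroup.card_top] at hodd
    have h2 : 2 ∣ Nat.card G := by rw [← hord]; exact orderOf_dvd_natCard u
    exact Nat.not_coprime_of_dvd_of_dvd (by norm_num) h2 (dvd_refl 2) hodd
  · -- (b) → (a)
    intro hG
    have hc := hbc hG
    -- the unique nonprincipal linear character
    have hidx : (commutator G).index ≠ 1 := fun h => hG (Subgroup.index_eq_one.mp h)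
    have hcard := card_linear_eq_index_commutator (G := G)
    have h2 : 1 < Nat.card {χ : IrrCharacter G // (χ : G → ℂ) 1 = 1} := by
      rw [hcard]
      have := (commutator G).index_ne_zero_of_finite
      omega
    haveI : Finite {χ : IrrCharacter G // (χ : G → ℂ) 1 = 1} := inferInstance
    have h2' := h2
    rw [Finite.one_lt_card_iff_nontrivial] at h2'
    obtain ⟨lam, hlam⟩ := exists_ne (⟨trivChar G, rfl⟩ : {χ : IrrCharacter G // (χ : G → ℂ) 1 = 1})
    have hne : lam.1 ≠ trivChar G := fun h => hlam (Subtype.ext h)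
    have hlin' : ∀ mu : IrrCharacter G, (mu : G → ℂ) 1 = 1 → mu ≠ trivChar G →
        (mu : G → ℂ) u = -1 := by
      intro mu h1 hmu
      rw [hlin mu h1 hmu, hc]; norm_num
    have hval := hlin' lam.1 lam.2 hne
    have hu_notin : u ∉ commutator G := by
      intro hmem
      have := char_deg_one_commutator (IrrCharacter_isCharacter lam.1) lam.2 hmem
      rw [hval] at this
      norm_num at this
    -- every linear character is trivial or `lam`
    have huniq : ∀ mu : IrrCharacter G, (mu : G → ℂ) 1 = 1 → mu = trivChar G ∨ mu = lam.1 := by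
      intro mu h1
      by_cases hmu : mu = trivChar G
      · left; exact hmu
      · right
        have hprod : linMul lam.1 mu lam.2 h1 = trivChar G := by
          by_contra hcon
          have := hlin' (linMul lam.1 mu lam.2 h1) (by rw [linMul_apply, lam.2, h1, mul_one]) hcon
          rw [linMul_apply, hval, hlin' mu h1 hmu] at this
          norm_num at this
        have hsq : linMul lam.1 lam.1 lam.2 lam.2 = trivChar G := by
          by_contra hcon
          have := hlin' (linMul lam.1 lam.1 lam.2 lam.2) (by rw [linMul_apply, lam.2, mul_one]) hcon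
          rw [linMul_apply, hval] at this
          norm_num at this
        apply Subtype.ext
        funext g
        have e1 : (lam.1 : G → ℂ) g * (mu : G → ℂ) g = 1 := by
          rw [← linMul_apply lam.1 mu lam.2 h1, hprod]; rfl
        have e2 : (lam.1 : G → ℂ) g * (lam.1 : G → ℂ) g = 1 := by
          rw [← linMul_apply lam.1 lam.1 lam.2 lam.2, hsq]; rfl
        have hnz := char_deg_one_ne_zero (IrrCharacter_isCharacter lam.1) lam.2 g
        exact mul_left_cancel₀ hnz (e1.trans e2.symm)
    have hidx2 : (commutator G).index = 2 := by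
      rw [← hcard]
      have hsub : ∀ x : {χ : IrrCharacter G // (χ : G → ℂ) 1 = 1},
          x = ⟨trivChar G, rfl⟩ ∨ x = lam := by
        intro x
        rcases huniq x.1 x.2 with h | h
        · left; exact Subtype.ext h
        · right; exact Subtype.ext h
      have hle : Nat.card {χ : IrrCharacter G // (χ : G → ℂ) 1 = 1} ≤ 2 := by
        haveI : Fintype {χ : IrrCharacter G // (χ : G → ℂ) 1 = 1} := Fintype.ofFinite _
        rw [Nat.card_eq_fintype_card, ← Finset.card_univ]
        have : (Finset.univ : Finset {χ : IrrCharacter G // (χ : G → ℂ) 1 = 1}) ⊆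
            {⟨trivChar G, rfl⟩, lam} := by
          intro x _
          rcases hsub x with h | h
          · rw [h]; simp
          · rw [h]; simp
        exact (Finset.card_le_card this).trans Finset.card_le_two
      omega
    -- all nonlinear characters vanish at `u`
    have hterm : ∀ χ : IrrCharacter G, χ ≠ trivChar G → χ ≠ lam.1 →
        0 ≤ ((χ : G → ℂ) 1 * (χ : G → ℂ) u).re ∧
        (((χ : G → ℂ) 1 * (χ : G → ℂ) u).re = 0 → (χ : G → ℂ) u = 0) := by
      intro χ hχ hχl
      have hd2 : 2 ≤ charDegree (χ : G → ℂ) := by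
        by_contra hlt
        have hpos := irr_charDegree_pos χ
        have h1 : charDegree (χ : G → ℂ) = 1 := by omega
        have h1' : (χ : G → ℂ) 1 = 1 := by rw [← deg_cast χ, h1]; simp
        rcases huniq χ h1' with h | h
        · exact hχ h
        · exact hχl h
      rcases hyp χ ((ne_triv_iff χ).mp hχ) with h | h
      · have h2 : (χ : G → ℂ) u = (χ : G → ℂ) 1 - 2 := by rw [← hc, ← h]; ring
        have hre : ((χ : G → ℂ) 1 * (χ : G → ℂ) u).re =
            (charDegree (χ : G → ℂ) : ℝ) * ((charDegree (χ : G → ℂ) : ℝ) - 2) := by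
          rw [h2, ← deg_cast χ]; simp
        have h4 : (2 : ℝ) ≤ (charDegree (χ : G → ℂ) : ℝ) := by exact_mod_cast hd2
        refine ⟨by rw [hre]; nlinarith, ?_⟩
        intro h0
        rw [hre] at h0
        have h5 : (charDegree (χ : G → ℂ) : ℝ) - 2 = 0 := by
          rcases mul_eq_zero.mp h0 with h6 | h6
          · linarith
          · exact h6
        have h6 : (charDegree (χ : G → ℂ) : ℝ) = 2 := by linarith
        have h7 : charDegree (χ : G → ℂ) = 2 := by exact_mod_cast h6
        rw [h2, ← deg_cast χ, h7]; norm_num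
      · exact ⟨by rw [h, mul_zero]; simp, fun _ => h⟩
    have hvanish : ∀ χ : IrrCharacter G, χ ≠ trivChar G → χ ≠ lam.1 → (χ : G → ℂ) u = 0 := by
      have hsplit : ∑ χ : IrrCharacter G, ((χ : G → ℂ) 1 * (χ : G → ℂ) u).re =
          ∑ χ ∈ (Finset.univ.erase (trivChar G)).erase lam.1,
            ((χ : G → ℂ) 1 * (χ : G → ℂ) u).re := by
        rw [← Finset.add_sum_erase Finset.univ _ (Finset.mem_univ (trivChar G)),
          ← Finset.add_sum_erase (Finset.univ.erase (trivChar G)) _
            (Finset.mem_erase.mpr ⟨hne, Finset.mem_univ lam.1⟩)]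
        rw [lam.2, hval]
        simp [triv_coe]
      rw [hsplit] at hsum
      have hall := (Finset.sum_eq_zero_iff_of_nonneg (fun χ hχ => by
        have h1 := Finset.mem_erase.mp hχ
        have h2 := Finset.mem_erase.mp h1.2
        exact (hterm χ h2.1 h1.1).1)).mp hsum
      intro χ hχ hχl
      exact (hterm χ hχ hχl).2 (hall χ (Finset.mem_erase.mpr ⟨hχl, Finset.mem_erase.mpr
        ⟨hχ, Finset.mem_univ χ⟩⟩))
    -- the centralizer of `u` has order 2
    have hcent : Nat.card (Subgroup.centralizer ({u} : Set G)) = 2 := by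
      have h := second_orthogonality (G := G) u u
      rw [if_pos (IsConj.refl u)] at h
      have hsplit : ∑ χ : IrrCharacter G, (χ : G → ℂ) u * conj ((χ : G → ℂ) u) = 2 := by
        rw [← Finset.add_sum_erase Finset.univ _ (Finset.mem_univ (trivChar G)),
          ← Finset.add_sum_erase (Finset.univ.erase (trivChar G)) _
            (Finset.mem_erase.mpr ⟨hne, Finset.mem_univ lam.1⟩)]
        rw [Finset.sum_eq_zero (fun χ hχ => by
          have h1 := Finset.mem_erase.mp hχ
          have h2 := Finset.mem_erase.mp h1.2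
          rw [hvanish χ h2.1 h1.1, zero_mul])]
        rw [hval]
        simp [triv_coe]
        norm_num
      rw [hsplit] at h
      exact_mod_cast h.symm
    have hzle : Subgroup.zpowers u ≤ Subgroup.centralizer ({u} : Set G) := by
      rw [Subgroup.zpowers_le]
      exact Subgroup.mem_centralizer_iff.mpr (fun h hh => by rw [Set.mem_singleton_iff.mp hh])
    have hord : orderOf u = 2 := by
      have h1 : orderOf u ∣ 2 := by
        rw [← hcent, ← Nat.card_zpowers]
        exact Subgroup.card_dvd_of_le hzle
      have h2 : orderOf u ≠ 1 := fun h => hu (orderOf_eq_one_iff.mp h)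
      rcases (Nat.dvd_prime Nat.prime_two).mp h1 with h | h
      · exact absurd h h2
      · exact h
    have hzeq : Subgroup.centralizer ({u} : Set G) = Subgroup.zpowers u := by
      symm
      apply Subgroup.eq_of_le_of_card_ge hzle
      rw [hcent, Nat.card_zpowers, hord]
    -- a Sylow 2-subgroup has order 2
    have hsyl : (Nat.card G).factorization 2 = 1 := by
      haveI : Fact (Nat.Prime 2) := ⟨Nat.prime_two⟩
      have hpg : IsPGroup 2 (Subgroup.zpowers u) := by
        apply IsPGroup.of_card (n := 1)
        rw [Nat.card_zpowers, hord, pow_one]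
      obtain ⟨S, hS⟩ := hpg.exists_le_sylow
      have huS : u ∈ (S : Subgroup G) := hS (Subgroup.mem_zpowers u)
      haveI : Nontrivial (S : Subgroup G) := ⟨⟨⟨u, huS⟩, 1, fun h => hu (congrArg Subtype.val h)⟩⟩
      haveI := S.2.center_nontrivial
      obtain ⟨z, hz⟩ := exists_ne (1 : Subgroup.center (S : Subgroup G))
      have hzc : ((z : (S : Subgroup G)) : G) ∈ Subgroup.centralizer ({u} : Set G) := by
        rw [Subgroup.mem_centralizer_iff]
        intro h hh
        rw [Set.mem_singleton_iff.mp hh]
        have := Subgroup.mem_center_iff.mp z.2 ⟨u, huS⟩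
        exact congrArg Subtype.val this
      rw [hzeq] at hzc
      have hzu : ((z : (S : Subgroup G)) : G) = u := by
        obtain ⟨k, hk⟩ := Subgroup.mem_zpowers_iff.mp hzc
        have hz1 : ((z : (S : Subgroup G)) : G) ≠ 1 := by
          intro h
          apply hz
          apply Subtype.ext
          apply Subtype.ext
          exact h
        rcases Int.emod_two_eq_zero_or_one k with hk2 | hk2
        · exfalso
          apply hz1
          rw [← hk, ← Int.emod_add_mul_ediv k 2, hk2, zero_add, zpow_mul, zpow_ofNat, ← hord,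
            pow_orderOf_eq_one, one_zpow]
        · rw [← hk, ← Int.emod_add_mul_ediv k 2, hk2, zpow_add, zpow_one, zpow_mul, zpow_ofNat,
            ← hord, pow_orderOf_eq_one, one_zpow, mul_one]
      have hSle : (S : Subgroup G) ≤ Subgroup.centralizer ({u} : Set G) := by
        intro s hs
        rw [Subgroup.mem_centralizer_iff]
        intro h hh
        rw [Set.mem_singleton_iff.mp hh]
        have := Subgroup.mem_center_iff.mp z.2 ⟨s, hs⟩
        have h3 := congrArg Subtype.val this
        simp only [Subgroup.coe_mul] at h3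
        rw [hzu] at h3
        exact h3.symm
      have hScard : Nat.card (S : Subgroup G) = 2 := by
        have h1 : Nat.card (S : Subgroup G) ≤ Nat.card (Subgroup.centralizer ({u} : Set G)) :=
          Nat.le_of_dvd Nat.card_pos (Subgroup.card_dvd_of_le hSle)
        have h2 : Nat.card (Subgroup.zpowers u) ≤ Nat.card (S : Subgroup G) :=
          Nat.le_of_dvd Nat.card_pos (Subgroup.card_dvd_of_le hS)
        rw [Nat.card_zpowers, hord] at h2
        omega
      have := S.card_eq_multiplicity
      rw [hScard] at this
      have h4 : (2 : ℕ) ^ 1 = 2 ^ (Nat.card G).factorization 2 := by rw [pow_one]; exact this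
      exact (Nat.pow_right_injective (le_refl 2) h4).symm
    -- the derived subgroup has odd order
    have hGodd : (Nat.card (commutator G)).Coprime 2 := by
      have hmul := (commutator G).card_mul_index
      rw [hidx2] at hmul
      rw [Nat.coprime_two_right, Nat.odd_iff]
      by_contra hcon
      have heven : 2 ∣ Nat.card (commutator G) := by omega
      obtain ⟨m, hm⟩ := heven
      have h4 : 2 ^ 2 ∣ Nat.card G := ⟨m, by rw [← hmul, hm]; ring⟩
      have := (Nat.Prime.pow_dvd_iff_le_factorization Nat.prime_two Nat.card_pos.ne').mp h4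
      omega
    have hle : commutator G ≤ Cfsg.oddCore G :=
      Cfsg.Agent.Lib.Helper01.le_pPrimeCore inferInstance hGodd
    refine ⟨hord, ?_, hzeq⟩
    -- `⟨u⟩ ⊔ O(G) = ⊤`
    have hle2 : commutator G ≤ Subgroup.zpowers u ⊔ Cfsg.oddCore G := hle.trans le_sup_right
    have hdvd := Subgroup.index_dvd_of_le hle2
    rw [hidx2] at hdvd
    rcases (Nat.dvd_prime Nat.prime_two).mp hdvd with h | h
    · exact Subgroup.index_eq_one.mp h
    · exfalso
      have heq : commutator G = Subgroup.zpowers u ⊔ Cfsg.oddCore G := by
        apply Subgroup.eq_of_le_of_card_ge hle2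
        have h1 := (commutator G).card_mul_index
        have h2 := (Subgroup.zpowers u ⊔ Cfsg.oddCore G).card_mul_index
        rw [hidx2] at h1
        rw [h] at h2
        omega
      apply hu_notin
      rw [heq]
      exact le_sup_left (a := Subgroup.zpowers u) (Subgroup.mem_zpowers u)

end Cfsg.Agent.S4757
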