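import Cfsg.Statements.S4762
import Cfsg.Agent.Lib.Helper83.OneNonlinear

set_option autoImplicit false
open Cfsg

namespace Cfsg.Agent.S4762

/-- Let p be a prime and G a finite nilpotent group. Then G has exactly one irreducible complex character of degree divisible by p if and only if p = 2 and G is an extraspecial 2-group. -/
theorem result {G : Type*} [Group G] [Finite G] [Group.IsNilpotent G] (p : ℕ) [Fact p.Prime] : Nat.card {χ : Cfsg.IrrCharacter G // p ∣ Cfsg.charDegree (χ : G → ℂ)} = 1 ↔ (p = 2 ∧ Cfsg.IsExtraspecial 2 G) := by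
  classical
  have hpp : p.Prime := Fact.out
  constructor
  · intro hcard
    obtain ⟨hsub, ⟨⟨χ, hχ⟩⟩⟩ := Nat.card_eq_one_iff_unique.1 hcard
    have huniq : ∀ ψ : Cfsg.IrrCharacter G, p ∣ Cfsg.charDegree (ψ : G → ℂ) → ψ = χ := by
      intro ψ hψ
      have := @Subsingleton.elim _ hsub ⟨ψ, hψ⟩ ⟨χ, hχ⟩
      exact congrArg Subtype.val this
    have hG := Cfsg.Agent.Lib.Helper83.isPGroup_of_unique_pdiv p χ hχ huniq
    obtain ⟨a, ha⟩ := IsPGroup.iff_card.1 hG
    have hiff : ∀ ψ : Cfsg.IrrCharacter G,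
        (ψ : G → ℂ) 1 ≠ 1 → p ∣ Cfsg.charDegree (ψ : G → ℂ) := by
      intro ψ hψ
      have h1 := Cfsg.Agent.Lib.Helper83.irr_charDegree_dvd_card ψ
      rw [ha] at h1
      obtain ⟨b, _, hb⟩ := (Nat.dvd_prime_pow hpp).1 h1
      have hb0 : b ≠ 0 := by
        intro h0
        rw [h0, pow_zero] at hb
        apply hψ
        rw [← Cfsg.Agent.Lib.Helper83.charDegree_cast
          (Cfsg.Agent.Lib.Helper83.IrrCharacter_isCharacter ψ), hb, Nat.cast_one]
      rw [hb]; exact dvd_pow_self p hb0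
    have hχ1 : (χ : G → ℂ) 1 ≠ 1 := by
      intro h1
      have h2 := Cfsg.Agent.Lib.Helper83.charDegree_cast
        (Cfsg.Agent.Lib.Helper83.IrrCharacter_isCharacter χ)
      rw [h1] at h2
      have h3 : Cfsg.charDegree (χ : G → ℂ) = 1 := by exact_mod_cast h2
      rw [h3] at hχ
      exact hpp.one_lt.ne' (Nat.dvd_one.1 hχ)
    exact Cfsg.Agent.Lib.Helper83.extraspecial_of_unique_nonlinear p hG χ hχ1
      (fun ψ hψ => huniq ψ (hiff ψ hψ))
  · rintro ⟨rfl, hP⟩
    obtain ⟨χ₀, hχ₀⟩ := Cfsg.Agent.Lib.Helper83.extraspecial_exists_nonlinear 2 hP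
    have hcard0 := Cfsg.Agent.Lib.Helper83.extraspecial_card_eq 2 hP χ₀ hχ₀
    obtain ⟨a, ha⟩ := IsPGroup.iff_card.1 hP.1.1
    have h1 := Cfsg.Agent.Lib.Helper83.irr_charDegree_dvd_card χ₀
    rw [ha] at h1
    obtain ⟨n, _, hn⟩ := (Nat.dvd_prime_pow hpp).1 h1
    have hcard : Nat.card G = 2 ^ (2 * n + 1) := by
      rw [hcard0, hn, ← pow_mul, pow_succ, mul_comm n 2, mul_comm]
    have hn0 : n ≠ 0 := by
      intro h0
      rw [h0, pow_zero] at hn
      apply hχ₀
      rw [← Cfsg.Agent.Lib.Helper83.charDegree_cast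
        (Cfsg.Agent.Lib.Helper83.IrrCharacter_isCharacter χ₀), hn, Nat.cast_one]
    have hcount := Cfsg.Agent.Lib.Helper83.extraspecial_card_nonlinear 2 hP n hcard
    have e : {χ : Cfsg.IrrCharacter G // 2 ∣ Cfsg.charDegree (χ : G → ℂ)} ≃
        {χ : Cfsg.IrrCharacter G // (χ : G → ℂ) 1 = ((2 : ℕ) : ℂ) ^ n} := by
      apply Equiv.subtypeEquivRight
      intro χ
      constructor
      · intro h2
        rcases Cfsg.Agent.Lib.Helper83.extraspecial_degree 2 hP n hcard χ with h | h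
        · exfalso
          have h3 := Cfsg.Agent.Lib.Helper83.charDegree_cast
            (Cfsg.Agent.Lib.Helper83.IrrCharacter_isCharacter χ)
          rw [h] at h3
          have h4 : Cfsg.charDegree (χ : G → ℂ) = 1 := by exact_mod_cast h3
          rw [h4] at h2
          omega
        · exact h
      · intro h
        have h3 := Cfsg.Agent.Lib.Helper83.charDegree_cast
          (Cfsg.Agent.Lib.Helper83.IrrCharacter_isCharacter χ)
        rw [h] at h3
        have h4 : Cfsg.charDegree (χ : G → ℂ) = 2 ^ n := by exact_mod_cast h3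
        rw [h4]; exact dvd_pow_self 2 hn0
    rw [Nat.card_congr e, hcount]

end Cfsg.Agent.S4762
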