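import Cfsg.Statements.S4765
import Cfsg.Agent.Lib.Helper45.SL2Central
import Cfsg.Agent.Lib.Helper45.SL2CountEven

set_option autoImplicit false
open Cfsg

namespace Cfsg.Agent.S4765

open Cfsg.Agent.Lib.Helper45 Cfsg.Agent.Lib

/-- an irreducible character of `SL₂(q)`, `q ≥ 4`, of degree divisible by the characteristic is
the Steinberg character -/
theorem eq_stS_of_dvd (p : ℕ) [Fact p.Prime] {F : Type*} [Field F] [Fintype F] [CharP F p]
    [Fintype (GL (Fin 2) F)] [Fintype (Matrix.SpecialLinearGroup (Fin 2) F)]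
    (hF : 4 ≤ Fintype.card F) (θ : IrrCharacter (Matrix.SpecialLinearGroup (Fin 2) F))
    (hdvd : p ∣ irrDeg θ) : (θ : Matrix.SpecialLinearGroup (Fin 2) F → ℂ) = stS := by
  obtain ⟨k, hp, hk⟩ := FiniteField.card F p
  have hpq : p ∣ Fintype.card F := by
    rw [hk]
    exact dvd_pow_self p k.ne_zero
  have hp2 : 2 ≤ p := hp.two_le
  have hnd1 : ¬ p ∣ 1 := by
    intro h
    have := Nat.le_of_dvd one_pos h
    omega
  have hndp : ¬ p ∣ Fintype.card F + 1 := by
    intro h
    exact hnd1 ((Nat.dvd_add_right hpq).mp h)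
  have hndm : ¬ p ∣ Fintype.card F - 1 := by
    intro h
    have : p ∣ (Fintype.card F - 1) + 1 := by
      rw [Nat.sub_add_cancel (by omega)]
      exact hpq
    exact hnd1 ((Nat.dvd_add_right h).mp this)
  obtain ⟨n, hn, hcases⟩ := irr_table_SL2_nat θ.2
  have hn' : irrDeg θ = n := (irrDeg_eq_iff θ n).mpr hn
  rw [hn'] at hdvd
  rcases hcases with ⟨h, -⟩ | ⟨-, h⟩ | ⟨h, -⟩ | ⟨h, hodd, -⟩ | ⟨h, -⟩ | ⟨h, hodd, -⟩
  · rw [h] at hdvd
    exact absurd hdvd hnd1
  · exact h
  · rw [h] at hdvd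
    exact absurd hdvd hndp
  · rw [h] at hdvd
    exfalso
    apply hndp
    have : (Fintype.card F + 1) / 2 ∣ Fintype.card F + 1 := ⟨2, by omega⟩
    exact dvd_trans hdvd this
  · rw [h] at hdvd
    exact absurd hdvd hndm
  · rw [h] at hdvd
    exfalso
    apply hndm
    have : (Fintype.card F - 1) / 2 ∣ Fintype.card F - 1 := ⟨2, by omega⟩
    exact dvd_trans hdvd this

/-- Let F be a finite field of characteristic p with at least 4 elements. Then PSL(2,F) has exactly one irreducible complex character of degree divisible by p, and its degree is the order of F. -/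
theorem result (p : ℕ) [Fact p.Prime] (F : Type*) [Field F] [Fintype F] [CharP F p] (hF : 4 ≤ Fintype.card F) : Nat.card {χ : Cfsg.IrrCharacter (Matrix.ProjectiveSpecialLinearGroup (Fin 2) F) // p ∣ Cfsg.charDegree (χ : Matrix.ProjectiveSpecialLinearGroup (Fin 2) F → ℂ)} = 1 ∧ ∀ χ : Cfsg.IrrCharacter (Matrix.ProjectiveSpecialLinearGroup (Fin 2) F), p ∣ Cfsg.charDegree (χ : Matrix.ProjectiveSpecialLinearGroup (Fin 2) F → ℂ) → Cfsg.charDegree (χ : Matrix.ProjectiveSpecialLinearGroup (Fin 2) F → ℂ) = Fintype.card F := by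
  classical
  obtain ⟨k, hp, hk⟩ := FiniteField.card F p
  have hpq : p ∣ Fintype.card F := by
    rw [hk]
    exact dvd_pow_self p k.ne_zero
  set N := Subgroup.center (Matrix.SpecialLinearGroup (Fin 2) F) with hN
  let e := Helper83.irrQuotientEquiv N
  -- degrees are preserved
  have hdeg : ∀ χ : Cfsg.IrrCharacter (Matrix.ProjectiveSpecialLinearGroup (Fin 2) F),
      Cfsg.charDegree (χ : Matrix.ProjectiveSpecialLinearGroup (Fin 2) F → ℂ) =
        irrDeg (e χ).1 := by
    intro χ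
    unfold irrDeg Cfsg.charDegree
    have : ((e χ).1 : Matrix.SpecialLinearGroup (Fin 2) F → ℂ) 1 =
        (χ : Matrix.ProjectiveSpecialLinearGroup (Fin 2) F → ℂ) 1 := by
      rw [Helper83.irrQuotientEquiv_apply]
      rfl
    rw [this]
  have hst : ∀ χ : Cfsg.IrrCharacter (Matrix.ProjectiveSpecialLinearGroup (Fin 2) F),
      p ∣ Cfsg.charDegree (χ : Matrix.ProjectiveSpecialLinearGroup (Fin 2) F → ℂ) →
      ((e χ).1 : Matrix.SpecialLinearGroup (Fin 2) F → ℂ) = stS := by
    intro χ h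
    rw [hdeg] at h
    exact eq_stS_of_dvd p hF _ h
  -- the Steinberg character of PSL₂
  let st : {χ : IrrCharacter (Matrix.SpecialLinearGroup (Fin 2) F) //
      ∀ n ∈ N, (χ : Matrix.SpecialLinearGroup (Fin 2) F → ℂ) n =
        (χ : Matrix.SpecialLinearGroup (Fin 2) F → ℂ) 1} :=
    ⟨⟨stS, stS_isIrr⟩, fun n hn => stS_center hn⟩
  have hstdeg : irrDeg st.1 = Fintype.card F := (irrDeg_eq_iff _ _).mpr stS_one
  constructor
  · rw [Nat.card_eq_one_iff_exists]
    refine ⟨⟨e.symm st, ?_⟩, ?_⟩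
    · rw [hdeg, Equiv.apply_symm_apply, hstdeg]
      exact hpq
    · rintro ⟨χ, hχ⟩
      apply Subtype.ext
      change χ = e.symm st
      rw [Equiv.eq_symm_apply]
      apply Subtype.ext
      apply Subtype.ext
      exact hst χ hχ
  · intro χ hχ
    rw [hdeg]
    have h := hst χ hχ
    rw [(irrDeg_eq_iff _ _)]
    rw [h]
    exact stS_one

end Cfsg.Agent.S4765
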