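import Cfsg.Statements.S4774
import Cfsg.Agent.Lib.Helper45.SL2DegOdd

set_option autoImplicit false
open Cfsg

namespace Cfsg.Agent.S4774

open Cfsg.Agent.Lib.Helper45 Cfsg.Agent.Lib

/-- two distinct primes divide a number iff their product does -/
theorem prime_mul_dvd_iff' {r s d : ℕ} (hr : r.Prime) (hs : s.Prime) (hne : r ≠ s) :
    r * s ∣ d ↔ (r ∣ d ∧ s ∣ d) := by
  constructor
  · intro h
    exact ⟨dvd_trans (dvd_mul_right r s) h, dvd_trans (dvd_mul_left s r) h⟩
  · rintro ⟨h1, h2⟩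
    exact Nat.Coprime.mul_dvd_of_dvd_of_dvd ((Nat.coprime_primes hr hs).mpr hne) h1 h2

/-- Let F be a finite field of odd characteristic t with q > 5 elements and let S be isomorphic to PSL(2,F) or to SL(2,F). Then the vertices of the character degree graph of S are the primes dividing q(q²−1); the prime t is adjacent to no vertex; two distinct primes dividing q² − 1 are adjacent exactly when one of them is 2, or both divide q + 1, or both divide q − 1. -/
theorem result (F : Type*) [Field F] [Fintype F] (t : ℕ) [Fact t.Prime] [CharP F t] (ht : t ≠ 2) (q : ℕ) (hq : Fintype.card F = q) (h5 : 5 < q) {S : Type*} [Group S] [Finite S] (hS : Nonempty (S ≃* Matrix.ProjectiveSpecialLinearGroup (Fin 2) F) ∨ Nonempty (S ≃* Matrix.SpecialLinearGroup (Fin 2) F)) : Cfsg.degreePrimes S = {r : ℕ | r.Prime ∧ r ∣ q * (q ^ 2 - 1)} ∧ ∀ r s : ℕ, (Cfsg.degreeGraph S).Adj r s ↔ (r ≠ s ∧ r.Prime ∧ s.Prime ∧ r ∣ q ^ 2 - 1 ∧ s ∣ q ^ 2 - 1 ∧ (r = 2 ∨ s = 2 ∨ (r ∣ q + 1 ∧ s ∣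 q + 1) ∨ (r ∣ q - 1 ∧ s ∣ q - 1))) := by
  classical
  subst hq
  obtain ⟨k, htp, hk⟩ := FiniteField.card F t
  have hodd : Fintype.card F % 2 = 1 := by
    rw [hk, ← Nat.odd_iff]
    exact Odd.pow (htp.odd_of_ne_two ht)
  have hq7 : 7 ≤ Fintype.card F := by omega
  obtain ⟨hsub, hq0, hq1, hq2⟩ := charDegrees_odd (F := F) hodd hq7 hS
  obtain ⟨c, hcq⟩ : ∃ c, Fintype.card F = 2 * c + 1 := ⟨Fintype.card F / 2, by omega⟩
  have e1' : (Fintype.card F + 1) / 2 = c + 1 := by omega
  have e2' : (Fintype.card F - 1) / 2 = c := by omega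
  have e3' : Fintype.card F - 1 = 2 * c := by omega
  have e4' : Fintype.card F + 1 = 2 * (c + 1) := by omega
  have hsq : Fintype.card F ^ 2 - 1 = (Fintype.card F - 1) * (Fintype.card F + 1) := by
    rw [e3', hcq]
    have : (2 * c + 1) ^ 2 = 2 * c * (2 * c + 1 + 1) + 1 := by ring
    omega
  -- each degree divides one of q, q+1, q-1
  have hdvd : ∀ d ∈ charDegrees S, d ∣ Fintype.card F ∨ d ∣ Fintype.card F + 1 ∨
      d ∣ Fintype.card F - 1 := by
    intro d hd
    rcases hsub d hd with rfl | rfl | rfl | rfl | rfl | rfl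
    · exact Or.inl (one_dvd _)
    · exact Or.inl dvd_rfl
    · exact Or.inr (Or.inl dvd_rfl)
    · exact Or.inr (Or.inl ⟨2, by omega⟩)
    · exact Or.inr (Or.inr dvd_rfl)
    · exact Or.inr (Or.inr ⟨2, by omega⟩)
  constructor
  · ext r
    simp only [degreePrimes, Set.mem_ofPred_eq]
    constructor
    · rintro ⟨hr, d, hd, hrd⟩
      refine ⟨hr, ?_⟩
      rw [hsq]
      rcases hdvd d hd with h | h | h
      · exact dvd_mul_of_dvd_left (dvd_trans hrd h) _
      · exact dvd_mul_of_dvd_right (dvd_mul_of_dvd_right (dvd_trans hrd h) _) _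
      · exact dvd_mul_of_dvd_right (dvd_mul_of_dvd_left (dvd_trans hrd h) _) _
    · rintro ⟨hr, hd⟩
      refine ⟨hr, ?_⟩
      rw [hsq] at hd
      rcases (Nat.Prime.dvd_mul hr).mp hd with h | h
      · exact ⟨_, hq0, h⟩
      · rcases (Nat.Prime.dvd_mul hr).mp h with h | h
        · exact ⟨_, hq2, h⟩
        · exact ⟨_, hq1, h⟩
  · intro r s
    simp only [degreeGraph]
    constructor
    · rintro ⟨hne, hr, hs, d, hd, hrs⟩
      have hboth := (prime_mul_dvd_iff' hr hs hne).mp hrs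
      refine ⟨hne, hr, hs, ?_⟩
      rcases hdvd d hd with h | h | h
      · exfalso
        rw [hk] at h
        have h1 := (Nat.prime_dvd_prime_iff_eq hr htp).mp
          (hr.dvd_of_dvd_pow (dvd_trans hboth.1 h))
        have h2 := (Nat.prime_dvd_prime_iff_eq hs htp).mp
          (hs.dvd_of_dvd_pow (dvd_trans hboth.2 h))
        exact hne (h1.trans h2.symm)
      · have hr' := dvd_trans hboth.1 h
        have hs' := dvd_trans hboth.2 h
        rw [hsq]
        exact ⟨dvd_mul_of_dvd_right hr' _, dvd_mul_of_dvd_right hs' _,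
          Or.inr (Or.inr (Or.inl ⟨hr', hs'⟩))⟩
      · have hr' := dvd_trans hboth.1 h
        have hs' := dvd_trans hboth.2 h
        rw [hsq]
        exact ⟨dvd_mul_of_dvd_left hr' _, dvd_mul_of_dvd_left hs' _,
          Or.inr (Or.inr (Or.inr ⟨hr', hs'⟩))⟩
    · rintro ⟨hne, hr, hs, hr2, hs2, hor⟩
      refine ⟨hne, hr, hs, ?_⟩
      rw [hsq] at hr2 hs2
      have h2p : 2 ∣ Fintype.card F + 1 := ⟨c + 1, e4'⟩
      have h2m : 2 ∣ Fintype.card F - 1 := ⟨c, e3'⟩
      have hcase : (r ∣ Fintype.card F + 1 ∧ s ∣ Fintype.card F + 1) ∨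
          (r ∣ Fintype.card F - 1 ∧ s ∣ Fintype.card F - 1) := by
        rcases hor with rfl | rfl | h | h
        · rcases (Nat.Prime.dvd_mul hs).mp hs2 with h | h
          · exact Or.inr ⟨h2m, h⟩
          · exact Or.inl ⟨h2p, h⟩
        · rcases (Nat.Prime.dvd_mul hr).mp hr2 with h | h
          · exact Or.inr ⟨h, h2m⟩
          · exact Or.inl ⟨h, h2p⟩
        · exact Or.inl h
        · exact Or.inr h
      rcases hcase with h | h
      · exact ⟨_, hq1, (prime_mul_dvd_iff' hr hs hne).mpr h⟩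
      · exact ⟨_, hq2, (prime_mul_dvd_iff' hr hs hne).mpr h⟩

end Cfsg.Agent.S4774
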