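import Cfsg.Statements.S4784
import Cfsg.Agent.Lib.Helper79.PermFS

set_option autoImplicit false
open Cfsg

namespace Cfsg.Agent.S4784

/-- Let H be a subgroup of the finite group G and consider the permutation character of G on the cosets of H (the function induced from the principal character of H). Then exactly one irreducible constituent of it is real-valued with Frobenius–Schur indicator +1 (namely the principal character) if and only if the normal core of H has odd index in G. -/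
theorem result {G : Type*} [Group G] [Fintype G] (H : Subgroup G) : Nat.card {χ : Cfsg.IrrCharacter G // Cfsg.classInner (Cfsg.indFun H (fun _ : H => (1 : ℂ))) (χ : G → ℂ) ≠ 0 ∧ (∀ g : G, (starRingEnd ℂ) ((χ : G → ℂ) g) = (χ : G → ℂ) g) ∧ (Nat.card G : ℂ)⁻¹ * ∑ g : G, (χ : G → ℂ) (g * g) = 1} = 1 ↔ Odd H.normalCore.index := by
  classical
  have htriv : Cfsg.classInner (Cfsg.indFun H (fun _ : H => (1 : ℂ)))
        ((Cfsg.Agent.Lib.Helper83.trivChar G : Cfsg.IrrCharacter G) : G → ℂ) ≠ 0 ∧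
      (∀ g : G, (starRingEnd ℂ) (((Cfsg.Agent.Lib.Helper83.trivChar G : Cfsg.IrrCharacter G) :
        G → ℂ) g) = ((Cfsg.Agent.Lib.Helper83.trivChar G : Cfsg.IrrCharacter G) : G → ℂ) g) ∧
      (Nat.card G : ℂ)⁻¹ * ∑ g : G,
        ((Cfsg.Agent.Lib.Helper83.trivChar G : Cfsg.IrrCharacter G) : G → ℂ) (g * g) = 1 := by
    refine ⟨?_, ?_, ?_⟩
    · have := Cfsg.Agent.Lib.Helper79.classInner_permChar_trivChar H
      unfold Cfsg.Agent.Lib.Helper79.permChar at this
      rw [this]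
      exact one_ne_zero
    · intro g
      rw [Cfsg.Agent.Lib.Helper83.trivChar_apply, map_one]
    · exact Cfsg.Agent.Lib.Helper79.fsInd_trivChar
  constructor
  · intro hcard
    apply Cfsg.Agent.Lib.Helper79.odd_index_of_unique H
    intro χ hχ hν
    obtain ⟨hsub, _⟩ := Nat.card_eq_one_iff_unique.mp hcard
    have hreal : ∀ g : G, (starRingEnd ℂ) ((χ : G → ℂ) g) = (χ : G → ℂ) g := by
      intro g
      have h1 := (Cfsg.Agent.Lib.Helper79.fsInd_irr_cases χ).2 (by rw [hν]; exact one_ne_zero) g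
      exact Complex.conj_eq_iff_im.mpr h1
    have := @Subsingleton.elim _ hsub
      (⟨χ, hχ, hreal, hν⟩ : {χ : Cfsg.IrrCharacter G // Cfsg.classInner (Cfsg.indFun H (fun _ : H => (1 : ℂ))) (χ : G → ℂ) ≠ 0 ∧ (∀ g : G, (starRingEnd ℂ) ((χ : G → ℂ) g) = (χ : G → ℂ) g) ∧ (Nat.card G : ℂ)⁻¹ * ∑ g : G, (χ : G → ℂ) (g * g) = 1})
      ⟨Cfsg.Agent.Lib.Helper83.trivChar G, htriv⟩
    exact congrArg Subtype.val this
  · intro hodd
    rw [Nat.card_eq_one_iff_unique]
    refine ⟨⟨?_⟩, ⟨⟨Cfsg.Agent.Lib.Helper83.trivChar G, htriv⟩⟩⟩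
    rintro ⟨χ, hχ, -, hν⟩ ⟨χ', hχ', -, hν'⟩
    apply Subtype.ext
    change χ = χ'
    rw [Cfsg.Agent.Lib.Helper79.eq_trivChar_of_odd_index H hodd χ hχ hν,
      Cfsg.Agent.Lib.Helper79.eq_trivChar_of_odd_index H hodd χ' hχ' hν']


end Cfsg.Agent.S4784
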