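import Cfsg.Statements.S4796
import Cfsg.Agent.Lib.Helper83.PrimeCodegree

set_option autoImplicit false
open Cfsg

namespace Cfsg.Agent.S4796

open Cfsg.Agent.Lib.Helper83
open scoped ComplexConjugate Pointwise

theorem mem_conj_smul {G : Type*} [Group G] (H : Subgroup G) (g y : G) :
    y ∈ MulAut.conj g • H ↔ ∃ h ∈ H, g * h * g⁻¹ = y := by
  rw [Subgroup.mem_smul_pointwise_iff_exists]
  simp only [MulAut.smul_def, MulAut.conj_apply]

theorem result {G : Type*} [Group G] [Finite G] (χ : Cfsg.IrrCharacter G) (hfaith : ∀ g : G, (χ : G → ℂ) g = (χ : G → ℂ) 1 → g = 1) (p : ℕ) (hp : p.Prime) (hcod : Nat.card G = p * Cfsg.charDegree (χ : G → ℂ)) : (IsCyclic G ∧ Nat.card G = p) ∨ ∃ H : Subgroup G, Cfsg.IsFrobeniusComplement H ∧ Nat.card ↥(Cfsg.frobeniusKernel H) = p := by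
  classical
  obtain ⟨hlt, P, hPn, hPc, hcent⟩ := prime_codegree_structure χ hfaith p hp hcod
  haveI := hPn
  set d := charDegree (χ : G → ℂ) with hd
  have hdpos : 0 < d := irr_charDegree_pos χ
  by_cases hd1 : d = 1
  · left
    have hc : Nat.card G = p := by rw [hcod, hd1, mul_one]
    haveI := Fact.mk hp
    exact ⟨isCyclic_of_prime_card hc, hc⟩
  right
  have hd2 : 2 ≤ d := by omega
  have hidx : P.index = d := by
    have := P.card_mul_index
    rw [hPc, hcod] at this
    exact Nat.eq_of_mul_eq_mul_left hp.pos this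
  have hcop : Nat.Coprime (Nat.card P) P.index := by
    rw [hPc, hidx]
    exact (Nat.Prime.coprime_iff_not_dvd hp).2 (Nat.not_dvd_of_pos_of_lt hdpos hlt)
  obtain ⟨H, hH⟩ := Subgroup.exists_right_complement'_of_coprime hcop
  have hHc : Nat.card H = d := by
    have := hH.card_mul_card
    rw [hPc, hcod] at this
    exact Nat.eq_of_mul_eq_mul_left hp.pos this
  have hPH : ∀ z : G, z ∈ P → z ∈ H → z = 1 := by
    intro z hzP hzH
    have := hH.disjoint
    rw [Subgroup.disjoint_def] at this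
    exact this hzP hzH
  have hdecomp : ∀ g : G, ∃ x ∈ P, ∃ h ∈ H, g = x * h := by
    intro g
    obtain ⟨⟨x, h⟩, hxh, _⟩ := (Subgroup.isComplement'_def.1 hH).existsUnique g
    exact ⟨x.1, x.2, h.1, h.2, hxh.symm⟩
  have hfree : ∀ h ∈ H, h ≠ 1 → ∀ z ∈ P, z * h = h * z → z = 1 := by
    intro h hh h1 z hz hcomm
    by_contra hz1
    have hhP : h ∈ P := hcent z hz hz1 h hcomm.symm
    exact h1 (hPH h hhP hh)
  have hHbot : H ≠ ⊥ := by
    intro h
    rw [h, Subgroup.card_bot] at hHc
    omega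
  have hHtop : H ≠ ⊤ := by
    intro h
    rw [h, Subgroup.card_top, hcod] at hHc
    have : 2 * d ≤ p * d := Nat.mul_le_mul_right d hp.two_le
    omega
  refine ⟨H, ⟨hHbot, hHtop, ?_⟩, ?_⟩
  · -- Frobenius condition
    intro g hg
    rw [eq_bot_iff]
    intro h hh
    rw [Subgroup.mem_inf, mem_conj_smul] at hh
    obtain ⟨hhH, h₁, hh₁, hgh⟩ := hh
    rw [Subgroup.mem_bot]
    obtain ⟨x, hx, h₂, hh₂, rfl⟩ := hdecomp g
    have hx1 : x ≠ 1 := by
      intro hx1
      apply hg
      rw [hx1, one_mul]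
      exact hh₂
    set h₃ := h₂ * h₁ * h₂⁻¹ with hh₃
    have hh₃H : h₃ ∈ H := H.mul_mem (H.mul_mem hh₂ hh₁) (H.inv_mem hh₂)
    have hh' : h = x * h₃ * x⁻¹ := by rw [← hgh, hh₃]; group
    have h1 : h₃⁻¹ * h ∈ H := H.mul_mem (H.inv_mem hh₃H) hhH
    have h2 : h₃⁻¹ * h ∈ P := by
      have : h₃⁻¹ * h = (h₃⁻¹ * x * h₃⁻¹⁻¹) * x⁻¹ := by rw [hh']; group
      rw [this]
      exact P.mul_mem (hPn.conj_mem x hx h₃⁻¹) (P.inv_mem hx)
    have h3 : h = h₃ := by
      have := hPH _ h2 h1
      exact (inv_mul_eq_one.1 this).symm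
    by_contra hne
    apply hx1
    apply hfree h hhH hne x hx
    have : h = x * h * x⁻¹ := by
      conv_lhs => rw [hh']
      rw [← h3]
    calc x * h = (x * h * x⁻¹) * x := by group
      _ = h * x := by rw [← this]
  · -- the kernel is P
    have hset : Cfsg.frobeniusKernel H = (P : Set G) := by
      ext y
      simp only [Cfsg.frobeniusKernel, Set.mem_ofPred_eq, SetLike.mem_coe]
      constructor
      · rintro (rfl | hy)
        · exact P.one_mem
        · by_contra hyP
          obtain ⟨x, hx, h, hh, rfl⟩ := hdecomp y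
          have hh1 : h ≠ 1 := by
            intro h1
            apply hyP
            rw [h1, mul_one]; exact hx
          -- the map z ↦ z h z⁻¹ h⁻¹ on P
          let f : P → P := fun z => ⟨(z : G) * h * (z : G)⁻¹ * h⁻¹, by
            have : (z : G) * h * (z : G)⁻¹ * h⁻¹ = z * (h * (z : G)⁻¹ * h⁻¹) := by group
            rw [this]
            exact P.mul_mem z.2 (hPn.conj_mem _ (P.inv_mem z.2) h)⟩
          have hfinj : Function.Injective f := by
            intro z₁ z₂ h12
            have h12' : (z₁ : G) * h * (z₁ : G)⁻¹ * h⁻¹ = z₂ * h * (z₂ : G)⁻¹ * h⁻¹ :=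
              congrArg Subtype.val h12
            have h12'' : (z₁ : G) * h * (z₁ : G)⁻¹ = z₂ * h * (z₂ : G)⁻¹ := mul_right_cancel h12'
            have hz : ((z₂ : G)⁻¹ * z₁) * h = h * ((z₂ : G)⁻¹ * z₁) := by
              calc ((z₂ : G)⁻¹ * z₁) * h = (z₂ : G)⁻¹ * ((z₁ : G) * h * (z₁ : G)⁻¹) * z₁ := by group
                _ = (z₂ : G)⁻¹ * ((z₂ : G) * h * (z₂ : G)⁻¹) * z₁ := by rw [h12'']
                _ = h * ((z₂ : G)⁻¹ * z₁) := by group
            have := hfree h hh hh1 _ (P.mul_mem (P.inv_mem z₂.2) z₁.2) hz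
            apply Subtype.ext
            exact (inv_mul_eq_one.1 this).symm
          haveI : Finite P := inferInstance
          obtain ⟨z, hz⟩ := (Finite.injective_iff_surjective.1 hfinj) ⟨x, hx⟩
          have hz' : (z : G) * h * (z : G)⁻¹ * h⁻¹ = x := congrArg Subtype.val hz
          apply hy z
          rw [mem_conj_smul]
          refine ⟨h, hh, ?_⟩
          rw [← hz']; group
      · intro hyP
        by_cases hy1 : y = 1
        · left; exact hy1
        · right
          intro g hyc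
          rw [mem_conj_smul] at hyc
          obtain ⟨h₁, hh₁, hgh⟩ := hyc
          have : h₁ ∈ P := by
            have : h₁ = g⁻¹ * y * g⁻¹⁻¹ := by rw [← hgh]; group
            rw [this]
            exact hPn.conj_mem y hyP g⁻¹
          have h1 := hPH h₁ this hh₁
          apply hy1
          rw [← hgh, h1]; group
    rw [hset]
    exact hPc

end Cfsg.Agent.S4796
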