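import Cfsg.Statements.S4797
import Cfsg.Agent.Lib.Helper83.PrimeCodegree

set_option autoImplicit false
open Cfsg

namespace Cfsg.Agent.S4797

open Cfsg.Agent.Lib.Helper83
open scoped ComplexConjugate commutatorElement

/-- A non-perfect finite group has a linear character whose kernel has prime index. -/
theorem exists_prime_codegree_of_not_perfect {G : Type*} [Group G] [Finite G]
    (hG : commutator G ≠ ⊤) :
    ∃ χ : IrrCharacter G, (Nat.card G / (Nat.card {g : G // (χ : G → ℂ) g = (χ : G → ℂ) 1} *
      charDegree (χ : G → ℂ))).Prime := by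
  classical
  -- the abelianization is nontrivial
  have hnt : Nontrivial (Abelianization G) := by
    by_contra hcon
    rw [not_nontrivial_iff_subsingleton] at hcon
    apply hG
    rw [eq_top_iff]
    intro g _
    rw [← Abelianization.ker_of, MonoidHom.mem_ker]
    exact Subsingleton.elim _ _
  haveI : Finite (Abelianization G) := by unfold Abelianization; infer_instance
  haveI : HasEnoughRootsOfUnity ℂ (Monoid.exponent (Abelianization G)) := by
    haveI : NeZero (Monoid.exponent (Abelianization G)) :=
      ⟨(Monoid.exponent_ne_zero_of_finite)⟩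
    haveI : NeZero ((Monoid.exponent (Abelianization G) : ℕ) : ℂ) :=
      ⟨by exact_mod_cast (Monoid.exponent_ne_zero_of_finite (G := Abelianization G))⟩
    infer_instance
  obtain ⟨e⟩ := CommGroup.monoidHom_mulEquiv_of_hasEnoughRootsOfUnity (Abelianization G) ℂ
  haveI : Finite (Abelianization G →* ℂˣ) := Finite.of_equiv _ e.symm.toEquiv
  have hcard : Nat.card (Abelianization G →* ℂˣ) ≠ 1 := by
    rw [Nat.card_congr e.toEquiv]
    intro h
    have := (Nat.card_eq_one_iff_unique.1 h).1
    exact not_nontrivial_iff_subsingleton.2 this hnt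
  obtain ⟨p, hp, hpd⟩ := Nat.exists_prime_and_dvd hcard
  haveI : Fact p.Prime := ⟨hp⟩
  obtain ⟨φ, hφ⟩ := exists_prime_orderOf_dvd_card' p hpd
  -- the range of φ has order p
  have hrange_le : φ.range ≤ rootsOfUnity p ℂ := by
    rintro _ ⟨a, rfl⟩
    rw [mem_rootsOfUnity]
    have : φ ^ p = 1 := by rw [← hφ]; exact pow_orderOf_eq_one φ
    have h2 := congrArg (fun ψ : Abelianization G →* ℂˣ => ψ a) this
    simpa using h2
  haveI : NeZero p := ⟨hp.ne_zero⟩
  have hrange_card : Nat.card φ.range = p := by
    have h1 : Nat.card φ.range ∣ p := by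
      have := Subgroup.card_dvd_of_le hrange_le
      rwa [Complex.card_rootsOfUnity] at this
    rcases (Nat.dvd_prime hp).1 h1 with h | h
    · exfalso
      have hφ1 : φ = 1 := by
        apply MonoidHom.ext
        intro a
        apply Units.ext
        have hsub := (Nat.card_eq_one_iff_unique.1 h).1
        have : (⟨φ a, a, rfl⟩ : φ.range) = 1 := Subsingleton.elim _ _
        have := congrArg Subtype.val this
        simpa using congrArg Units.val this
      rw [hφ1, orderOf_one] at hφ
      exact hp.one_lt.ne' hφ.symm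
    · exact h
  set lam : G →* ℂˣ := φ.comp Abelianization.of with hlam
  have hlam_range : Nat.card lam.range = p := by
    have : lam.range = φ.range := by
      rw [hlam, MonoidHom.range_comp]
      have : (Abelianization.of : G →* Abelianization G).range = ⊤ :=
        MonoidHom.range_eq_top.2 (QuotientGroup.mk_surjective)
      rw [this, ← MonoidHom.range_eq_map]
    rw [this, hrange_card]
  refine ⟨⟨fun g => ((lam g : ℂˣ) : ℂ), isIrrCharacter_of_hom lam⟩, ?_⟩
  have hdeg : charDegree (fun g => ((lam g : ℂˣ) : ℂ)) = 1 := by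
    simp [charDegree]
  have hker : Nat.card {g : G // ((lam g : ℂˣ) : ℂ) = ((lam 1 : ℂˣ) : ℂ)} = Nat.card lam.ker := by
    apply Nat.card_congr
    refine Equiv.subtypeEquivRight ?_
    intro g
    rw [MonoidHom.mem_ker, map_one, Units.val_one, Units.val_eq_one]
  simp only [hdeg, mul_one]
  rw [hker]
  have hidx := Subgroup.index_ker lam
  rw [hlam_range] at hidx
  have hmul := Subgroup.card_mul_index lam.ker
  rw [hidx] at hmul
  rw [← hmul, Nat.mul_div_cancel_left _ Nat.card_pos]
  exact hp

/-- In a perfect group no irreducible character has prime codegree. -/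
theorem not_prime_codegree_of_perfect {G : Type*} [Group G] [Finite G]
    (hG : commutator G = ⊤) (χ : IrrCharacter G) :
    ¬ (Nat.card G / (Nat.card {g : G // (χ : G → ℂ) g = (χ : G → ℂ) 1} *
      charDegree (χ : G → ℂ))).Prime := by
  classical
  intro hprime
  set p := Nat.card G / (Nat.card {g : G // (χ : G → ℂ) g = (χ : G → ℂ) 1} *
      charDegree (χ : G → ℂ)) with hp
  have hχ := IrrCharacter_isCharacter χ
  set K := charKer hχ with hK
  have hdvd := card_ker_mul_degree_dvd χ
  rw [card_charKer hχ] at hdvd hp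
  have hcardG : Nat.card G = p * (Nat.card K * charDegree (χ : G → ℂ)) := by
    rw [hp, Nat.div_mul_cancel hdvd]
  -- the quotient
  have hKmem : ∀ n ∈ K, (χ : G → ℂ) n = (χ : G → ℂ) 1 := fun n hn => hn
  set ψ := irrDeflate K ⟨χ, hKmem⟩ with hψ
  have hψapp : ∀ g : G, (ψ : G ⧸ K → ℂ) (QuotientGroup.mk g) = (χ : G → ℂ) g :=
    fun g => irrDeflate_apply K ⟨χ, hKmem⟩ g
  have hψ1 : (ψ : G ⧸ K → ℂ) 1 = (χ : G → ℂ) 1 := by
    have := hψapp 1
    rwa [QuotientGroup.mk_one] at this
  have hψdeg : charDegree (ψ : G ⧸ K → ℂ) = charDegree (χ : G → ℂ) := by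
    simp only [charDegree, hψ1]
  have hfaith : ∀ q : G ⧸ K, (ψ : G ⧸ K → ℂ) q = (ψ : G ⧸ K → ℂ) 1 → q = 1 := by
    intro q hq
    obtain ⟨g, rfl⟩ := QuotientGroup.mk_surjective q
    rw [hψapp, hψ1] at hq
    exact (QuotientGroup.eq_one_iff g).2 hq
  have hcardQ : Nat.card (G ⧸ K) = p * charDegree (ψ : G ⧸ K → ℂ) := by
    rw [hψdeg]
    have h1 := Subgroup.card_eq_card_quotient_mul_card_subgroup K
    rw [hcardG] at h1
    have hKpos : 0 < Nat.card K := Nat.card_pos
    have : Nat.card (G ⧸ K) * Nat.card K = (p * charDegree (χ : G → ℂ)) * Nat.card K := by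
      rw [← h1]; ring
    exact Nat.eq_of_mul_eq_mul_right hKpos this
  obtain ⟨hlt, P, hPn, hPc, hcent⟩ := prime_codegree_structure ψ hfaith p hprime hcardQ
  haveI := hPn
  -- the quotient is perfect
  have hQperf : commutator (G ⧸ K) = ⊤ := by
    have h1 : Subgroup.map (QuotientGroup.mk' K) (commutator G) = commutator (G ⧸ K) := by
      rw [commutator_def, commutator_def, Subgroup.map_commutator, ← MonoidHom.range_eq_map,
        MonoidHom.range_eq_top.2 (QuotientGroup.mk'_surjective K)]
    rw [← h1, hG, ← MonoidHom.range_eq_map, MonoidHom.range_eq_top.2 (QuotientGroup.mk'_surjective K)]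
  -- P is cyclic, so its automorphism group is commutative
  haveI : Fact p.Prime := ⟨hprime⟩
  haveI : IsCyclic P := isCyclic_of_prime_card hPc
  have hautcomm : ∀ σ τ : MulAut P, σ * τ = τ * σ := by
    intro σ τ
    apply (IsCyclic.mulAutMulEquiv P).injective
    rw [map_mul, map_mul, mul_comm]
  set f : (G ⧸ K) →* MulAut P := MulAut.conjNormal with hf
  have hker : commutator (G ⧸ K) ≤ f.ker := by
    rw [commutator_eq_closure, Subgroup.closure_le]
    rintro _ ⟨a, b, rfl⟩
    rw [SetLike.mem_coe, MonoidHom.mem_ker, map_commutatorElement,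
      commutatorElement_eq_one_iff_commute]
    exact hautcomm (f a) (f b)
  rw [hQperf] at hker
  -- so everything centralizes P
  have hall : ∀ (g : G ⧸ K) (z : G ⧸ K), z ∈ P → g * z = z * g := by
    intro g z hz
    have h1 : f g = 1 := by
      have : g ∈ f.ker := hker (Subgroup.mem_top g)
      exact this
    have h2 := congrArg (fun σ : MulAut P => ((σ ⟨z, hz⟩ : P) : G ⧸ K)) h1
    simp only [hf, MulAut.conjNormal_apply, MulAut.one_apply] at h2
    calc g * z = (g * z * g⁻¹) * g := by group
      _ = z * g := by rw [h2]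
  -- P has a non-identity element
  have hPnt : ∃ z ∈ P, z ≠ 1 := by
    by_contra hcon
    push Not at hcon
    have : P = ⊥ := by
      rw [eq_bot_iff]
      intro z hz
      rw [Subgroup.mem_bot]
      exact hcon z hz
    rw [this, Subgroup.card_bot] at hPc
    exact hprime.one_lt.ne' hPc.symm
  obtain ⟨z, hz, hz1⟩ := hPnt
  have hPtop : P = ⊤ := by
    rw [eq_top_iff]
    intro g _
    exact hcent z hz hz1 g (hall g z hz)
  -- hence the quotient is commutative of order p, not perfect
  have hcomm : ∀ a b : G ⧸ K, a * b = b * a := by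
    intro a b
    have ha : a ∈ P := by rw [hPtop]; trivial
    exact (hall b a ha).symm
  have hbot : commutator (G ⧸ K) = ⊥ := by
    rw [commutator_eq_closure, Subgroup.closure_eq_bot_iff]
    rintro _ ⟨a, b, rfl⟩
    rw [Set.mem_singleton_iff, commutatorElement_eq_one_iff_commute]
    exact hcomm a b
  rw [hQperf] at hbot
  have : Nat.card (⊤ : Subgroup (G ⧸ K)) = 1 := by rw [hbot, Subgroup.card_bot]
  rw [← hPtop, hPc] at this
  exact hprime.one_lt.ne' this

theorem result {G : Type*} [Group G] [Finite G] [Nontrivial G] : commutator G = ⊤ ↔ ∀ χ : Cfsg.IrrCharacter G, ¬ ((Nat.card G / (Nat.card {g : G // (χ : G → ℂ) g = (χ : G → ℂ) 1} * Cfsg.charDegree (χ : G → ℂ)))).Prime := by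
  constructor
  · intro hG χ
    exact not_prime_codegree_of_perfect hG χ
  · intro h
    by_contra hG
    obtain ⟨χ, hχ⟩ := exists_prime_codegree_of_not_perfect hG
    exact h χ hχ

end Cfsg.Agent.S4797
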