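import Cfsg.Statements.S4798
import Cfsg.Agent.Lib.Helper83.Quotient
import Cfsg.Agent.Lib.Helper34.GenChar

set_option autoImplicit false
open Cfsg

namespace Cfsg.Agent.S4798

open Cfsg.Agent.Lib.Helper83 in
/-- Degree of an induced function. -/
theorem indFun_one_eq {G : Type*} [Group G] [Fintype G] (H : Subgroup G) (θ : H → ℂ) :
    Cfsg.indFun H θ 1 = (H.index : ℂ) * θ 1 := by
  classical
  unfold Cfsg.indFun
  have h1 : ∀ x : G, Cfsg.extendByZero H θ (x⁻¹ * 1 * x) = θ 1 := by
    intro x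
    have : x⁻¹ * 1 * x = ((1 : H) : G) := by simp
    rw [this]
    exact Cfsg.Agent.Lib.Helper34.extendByZero_coe H θ 1
  rw [Finset.sum_congr rfl (fun x _ => h1 x), Finset.sum_const, Finset.card_univ, nsmul_eq_mul,
    ← Nat.card_eq_fintype_card, ← Subgroup.card_mul_index H]
  have hH : (Nat.card H : ℂ) ≠ 0 := by
    exact_mod_cast Nat.card_pos.ne'
  push_cast
  field_simp

open Cfsg.Agent.Lib.Helper83 in
/-- A character having an irreducible constituent of at least its own degree equals it. -/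
theorem eq_of_constituent_of_degree_le {G : Type*} [Group G] [Fintype G] {ψ : G → ℂ}
    (hψ : Cfsg.IsCharacter G ψ) (χ : Cfsg.IrrCharacter G)
    (hc : Cfsg.classInner ψ (χ : G → ℂ) ≠ 0)
    (hdeg : Cfsg.charDegree ψ ≤ Cfsg.charDegree (χ : G → ℂ)) : ψ = (χ : G → ℂ) := by
  classical
  haveI : Fintype (Cfsg.IrrCharacter G) := Fintype.ofFinite _
  have hdec := char_eq_sum_irrMult hψ
  have hsum : Cfsg.charDegree ψ =
      ∑ ν : Cfsg.IrrCharacter G, irrMult ψ ν * Cfsg.charDegree (ν : G → ℂ) := by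
    have h1 : (Cfsg.charDegree ψ : ℂ) =
        ((∑ ν : Cfsg.IrrCharacter G, irrMult ψ ν * Cfsg.charDegree (ν : G → ℂ) : ℕ) : ℂ) := by
      rw [charDegree_cast hψ]
      conv_lhs => rw [hdec]
      rw [Finset.sum_apply]
      push_cast
      apply Finset.sum_congr rfl
      intro ν _
      rw [Pi.smul_apply, smul_eq_mul, charDegree_cast (IrrCharacter_isCharacter ν)]
    exact_mod_cast h1
  have hm : 1 ≤ irrMult ψ χ := by
    by_contra h
    have h0 : irrMult ψ χ = 0 := by omega
    apply hc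
    rw [← irrMult_cast hψ χ, h0, Nat.cast_zero]
  rw [← Finset.add_sum_erase _ _ (Finset.mem_univ χ)] at hsum
  have hpos := irr_charDegree_pos χ
  set R := ∑ ν ∈ Finset.univ.erase χ, irrMult ψ ν * Cfsg.charDegree (ν : G → ℂ) with hR
  have hmul : Cfsg.charDegree (χ : G → ℂ) ≤ irrMult ψ χ * Cfsg.charDegree (χ : G → ℂ) :=
    Nat.le_mul_of_pos_left _ hm
  have hR0 : R = 0 := by omega
  have hm1 : irrMult ψ χ = 1 := by
    have : irrMult ψ χ * Cfsg.charDegree (χ : G → ℂ) = 1 * Cfsg.charDegree (χ : G → ℂ) := by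
      omega
    exact Nat.eq_of_mul_eq_mul_right hpos this
  have hzero : ∀ ν ∈ Finset.univ.erase χ, irrMult ψ ν = 0 := by
    intro ν hν
    have := (Finset.sum_eq_zero_iff.1 hR0) ν hν
    rcases Nat.mul_eq_zero.1 this with h | h
    · exact h
    · exact absurd h (irr_charDegree_pos ν).ne'
  rw [hdec, Finset.sum_eq_single χ]
  · rw [hm1, Nat.cast_one, one_smul]
  · intro ν _ hν
    rw [hzero ν (Finset.mem_erase.2 ⟨hν, Finset.mem_univ _⟩), Nat.cast_zero, zero_smul]
  · intro h; exact absurd (Finset.mem_univ _) h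

/-- Let p be a prime and χ a faithful irreducible complex character of the finite group G (χ(g) = χ(1) only for g = 1), so that its codegree is #G / χ(1). Then #G / χ(1) is a power of p if and only if χ is induced from a character of a Sylow p-subgroup of G. -/
theorem result {G : Type*} [Group G] [Fintype G] (p : ℕ) [Fact p.Prime] (χ : Cfsg.IrrCharacter G) (hfaith : ∀ g : G, (χ : G → ℂ) g = (χ : G → ℂ) 1 → g = 1) : (∃ k : ℕ, Nat.card G = p ^ k * Cfsg.charDegree (χ : G → ℂ)) ↔ ∃ (P : Sylow p G) (θ : ↥(P : Subgroup G) → ℂ), Cfsg.IsCharacter ↥(P : Subgroup G) θ ∧ (χ : G → ℂ) = Cfsg.indFun (P : Subgroup G) θ := by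
  classical
  haveI : Fintype (Cfsg.IrrCharacter G) := Fintype.ofFinite _
  have hχc := Cfsg.Agent.Lib.Helper83.IrrCharacter_isCharacter χ
  have hpp : p.Prime := Fact.out
  constructor
  · -- forward direction
    rintro ⟨k, hk⟩
    obtain ⟨P⟩ : Nonempty (Sylow p G) := inferInstance
    obtain ⟨a, ha⟩ := (IsPGroup.iff_card.1 P.2)
    have hidx := Subgroup.card_mul_index (P : Subgroup G)
    have hnd : ¬ p ∣ (P : Subgroup G).index := P.not_dvd_index
    set r := (P : Subgroup G).index with hr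
    set n := Cfsg.charDegree (χ : G → ℂ) with hn
    haveI : Fintype (Cfsg.IrrCharacter ↥(P : Subgroup G)) := Fintype.ofFinite _
    -- restriction
    set ρ : ↥(P : Subgroup G) → ℂ := fun h => (χ : G → ℂ) h with hρ
    have hρc : Cfsg.IsCharacter ↥(P : Subgroup G) ρ :=
      Cfsg.Agent.Lib.Helper83.isCharacter_restrict (P : Subgroup G) hχc
    have hdec := Cfsg.Agent.Lib.Helper83.char_eq_sum_irrMult hρc
    have hsum : n = ∑ μ : Cfsg.IrrCharacter ↥(P : Subgroup G),
        Cfsg.Agent.Lib.Helper83.irrMult ρ μ * Cfsg.charDegree (μ : ↥(P : Subgroup G) → ℂ) := by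
      have h1 : (n : ℂ) = ((∑ μ : Cfsg.IrrCharacter ↥(P : Subgroup G),
          Cfsg.Agent.Lib.Helper83.irrMult ρ μ * Cfsg.charDegree (μ : ↥(P : Subgroup G) → ℂ) : ℕ) : ℂ) := by
        rw [hn, Cfsg.Agent.Lib.Helper83.charDegree_cast hχc]
        have : (χ : G → ℂ) 1 = ρ 1 := rfl
        rw [this]
        conv_lhs => rw [hdec]
        rw [Finset.sum_apply]
        push_cast
        apply Finset.sum_congr rfl
        intro ν _
        rw [Pi.smul_apply, smul_eq_mul, Cfsg.Agent.Lib.Helper83.charDegree_cast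
          (Cfsg.Agent.Lib.Helper83.IrrCharacter_isCharacter ν)]
      exact_mod_cast h1
    -- k ≤ a and n = p^(a-k) * r
    have hcard : p ^ a * r = p ^ k * n := by rw [← ha, hidx, hk]
    have hcop : Nat.Coprime (p ^ k) r := Nat.Coprime.pow_left _ ((Nat.Prime.coprime_iff_not_dvd hpp).2 hnd)
    have hka : k ≤ a := by
      have hdvd : p ^ k ∣ p ^ a * r := ⟨n, hcard⟩
      have := hcop.dvd_of_dvd_mul_right hdvd
      exact (Nat.pow_dvd_pow_iff_le_right hpp.one_lt).1 this
    have hn_eq : n = p ^ (a - k) * r := by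
      have h1 : p ^ a = p ^ k * p ^ (a - k) := by rw [← pow_add]; congr 1; omega
      rw [h1, mul_assoc] at hcard
      exact (Nat.eq_of_mul_eq_mul_left (pow_pos hpp.pos k) hcard).symm
    -- find a constituent of small degree
    have hex : ∃ μ : Cfsg.IrrCharacter ↥(P : Subgroup G), Cfsg.Agent.Lib.Helper83.irrMult ρ μ ≠ 0 ∧
        Cfsg.charDegree (μ : ↥(P : Subgroup G) → ℂ) ∣ p ^ (a - k) := by
      by_contra hcon
      push_neg at hcon
      apply hnd
      have hdiv : p ^ (a - k + 1) ∣ n := by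
        rw [hsum]
        apply Finset.dvd_sum
        intro μ _
        by_cases hm : Cfsg.Agent.Lib.Helper83.irrMult ρ μ = 0
        · rw [hm, zero_mul]; exact dvd_zero _
        · have h1 := hcon μ hm
          have h2 : Cfsg.charDegree (μ : ↥(P : Subgroup G) → ℂ) ∣ p ^ a := by
            rw [← ha]; exact Cfsg.Agent.Lib.Helper83.irr_charDegree_dvd_card μ
          obtain ⟨b, hb, hbe⟩ := (Nat.dvd_prime_pow hpp).1 h2
          rw [hbe] at h1 ⊢
          have hb2 : a - k + 1 ≤ b := by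
            by_contra hlt
            apply h1
            exact pow_dvd_pow p (by omega)
          exact Dvd.dvd.mul_left (pow_dvd_pow p hb2) _
      rw [hn_eq, pow_succ] at hdiv
      exact Nat.dvd_of_mul_dvd_mul_left (pow_pos hpp.pos (a - k)) hdiv
    obtain ⟨μ, hμm, hμd⟩ := hex
    have hμc := Cfsg.Agent.Lib.Helper83.IrrCharacter_isCharacter μ
    refine ⟨P, (μ : ↥(P : Subgroup G) → ℂ), hμc, ?_⟩
    have hψc : Cfsg.IsCharacter G (Cfsg.indFun (P : Subgroup G) (μ : ↥(P : Subgroup G) → ℂ)) :=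
      Cfsg.Agent.Lib.Helper34.isCharacter_indFun (P : Subgroup G) hμc
    symm
    apply eq_of_constituent_of_degree_le hψc χ
    · rw [Cfsg.Agent.Lib.Helper34.classInner_indFun_left (P : Subgroup G) _ _
        (Cfsg.Agent.Lib.Helper83.isClassFunction_irr χ)]
      intro h0
      apply hμm
      have h1 := Cfsg.Agent.Lib.Helper83.irrMult_cast hρc μ
      have h2 : Cfsg.classInner ρ (μ : ↥(P : Subgroup G) → ℂ) = 0 := by
        rw [← Cfsg.Agent.Lib.Helper83.classInner_conj_symm, h0, map_zero]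
      rw [h2] at h1
      exact_mod_cast h1
    · have h1 : (Cfsg.charDegree (Cfsg.indFun (P : Subgroup G) (μ : ↥(P : Subgroup G) → ℂ)) : ℂ)
          = ((r * Cfsg.charDegree (μ : ↥(P : Subgroup G) → ℂ) : ℕ) : ℂ) := by
        rw [Cfsg.Agent.Lib.Helper83.charDegree_cast hψc, indFun_one_eq]
        push_cast
        rw [Cfsg.Agent.Lib.Helper83.charDegree_cast hμc]
      have h2 : Cfsg.charDegree (Cfsg.indFun (P : Subgroup G) (μ : ↥(P : Subgroup G) → ℂ))
          = r * Cfsg.charDegree (μ : ↥(P : Subgroup G) → ℂ) := by exact_mod_cast h1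
      rw [h2, ← hn, hn_eq, mul_comm]
      exact Nat.mul_le_mul_right r (Nat.le_of_dvd (pow_pos hpp.pos _) hμd)
  · -- reverse direction
    rintro ⟨P, θ, hθ, hχθ⟩
    obtain ⟨a, ha⟩ := (IsPGroup.iff_card.1 P.2)
    have hidx := Subgroup.card_mul_index (P : Subgroup G)
    set r := (P : Subgroup G).index with hr
    set n := Cfsg.charDegree (χ : G → ℂ) with hn
    obtain ⟨m, hm⟩ := Cfsg.Agent.Lib.Helper83.char_one_eq_nat hθ
    have hnm : n = r * m := by
      have h1 : (n : ℂ) = ((r * m : ℕ) : ℂ) := by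
        rw [hn, Cfsg.Agent.Lib.Helper83.charDegree_cast hχc, hχθ, indFun_one_eq, hm]
        push_cast; rfl
      exact_mod_cast h1
    have hdvd : n ∣ Nat.card G := Cfsg.Agent.Lib.Helper83.irr_charDegree_dvd_card χ
    have hrpos : 0 < r := Nat.pos_of_ne_zero (Subgroup.index_ne_zero_of_finite)
    rw [← hidx, ha, hnm, mul_comm r m] at hdvd
    have hmd : m ∣ p ^ a := Nat.dvd_of_mul_dvd_mul_right hrpos hdvd
    obtain ⟨b, hb, hbe⟩ := (Nat.dvd_prime_pow hpp).1 hmd
    refine ⟨a - b, ?_⟩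
    rw [← hidx, ha, hnm, hbe, ← mul_assoc, mul_comm (p ^ (a - b)) r, mul_assoc, ← pow_add,
      mul_comm]
    congr 2
    omega

end Cfsg.Agent.S4798
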