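import Cfsg.Statements.S4801
import Cfsg.Agent.Lib.Helper83.Quotient

set_option autoImplicit false
open Cfsg

namespace Cfsg.Agent.S4801

open Cfsg.Agent.Lib.Helper83
open scoped ComplexConjugate

/-- Natural-number form of the sum of squares of the degrees. -/
theorem sum_charDegree_sq {G : Type*} [Group G] [Fintype G] [Fintype (IrrCharacter G)] :
    ∑ χ : IrrCharacter G, (charDegree (χ : G → ℂ)) ^ 2 = Nat.card G := by
  have h := sum_irr_degree_sq (G := G)
  have : ((∑ χ : IrrCharacter G, (charDegree (χ : G → ℂ)) ^ 2 : ℕ) : ℂ) = (Nat.card G : ℂ) := by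
    push_cast
    rw [← h]
    apply Finset.sum_congr rfl
    intro χ _
    rw [charDegree_cast (IrrCharacter_isCharacter χ)]
  exact_mod_cast this

/-- An irreducible character which is constant equal to its degree is the trivial character. -/
theorem eq_trivChar_of_ker_top {G : Type*} [Group G] [Finite G] (χ : IrrCharacter G)
    (h : ∀ g : G, (χ : G → ℂ) g = (χ : G → ℂ) 1) : χ = trivChar G := by
  haveI := Fintype.ofFinite G
  by_contra hne
  have h1 := irr_inner_ne hne
  rw [classInner_def] at h1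
  simp only [trivChar_apply, map_one, mul_one, h, Finset.sum_const, Finset.card_univ,
    nsmul_eq_mul] at h1
  have hd := irr_degree_ne_zero χ
  have hG : (Fintype.card G : ℂ) ≠ 0 := by simp
  have hG' := card_ne_zero_complex (G := G)
  rcases mul_eq_zero.1 h1 with h2 | h2
  · exact hG' (inv_eq_zero.1 h2)
  · rcases mul_eq_zero.1 h2 with h3 | h3
    · exact hG h3
    · exact hd h3

theorem result {S : Type*} [Group S] [Finite S] (hS : IsSimpleGroup S) {G : Type*} [Group G] [Finite G] (hsub : ∀ χ : Cfsg.IrrCharacter S, ∃ ψ : Cfsg.IrrCharacter G, (Nat.card S / (Nat.card {g : S // (χ : S → ℂ) g = (χ : S → ℂ) 1} * Cfsg.charDegree (χ : S → ℂ))) = (Nat.card G / (Nat.card {g : G // (ψ : G → ℂ) g = (ψ : G → ℂ) 1} * Cfsg.charDegree (ψ : G → ℂ)))) : Nat.card S ∣ Nat.card G := by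
  classical
  haveI := Fintype.ofFinite S
  haveI : Fintype (IrrCharacter S) := Fintype.ofFinite _
  rw [Nat.dvd_iff_prime_pow_dvd_dvd]
  intro q k hq hqk
  rcases Nat.eq_zero_or_pos k with hk | hk
  · subst hk; simp
  have hqS : q ∣ Nat.card S := dvd_trans (dvd_pow_self q hk.ne') hqk
  -- a nontrivial irreducible character of degree prime to q
  have hex : ∃ χ : IrrCharacter S, χ ≠ trivChar S ∧ ¬ q ∣ charDegree (χ : S → ℂ) := by
    by_contra hcon
    push Not at hcon
    have hsum := sum_charDegree_sq (G := S)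
    rw [← Finset.add_sum_erase _ _ (Finset.mem_univ (trivChar S))] at hsum
    have h1 : charDegree (trivChar S : S → ℂ) = 1 := by
      simp [charDegree, trivChar_apply]
    rw [h1] at hsum
    have h2 : q ∣ ∑ χ ∈ Finset.univ.erase (trivChar S), (charDegree (χ : S → ℂ)) ^ 2 := by
      apply Finset.dvd_sum
      intro χ hχ
      exact dvd_pow (hcon χ (Finset.ne_of_mem_erase hχ)) (by norm_num)
    have h3 : q ∣ 1 := by
      have : q ∣ 1 ^ 2 + ∑ χ ∈ Finset.univ.erase (trivChar S), (charDegree (χ : S → ℂ)) ^ 2 := by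
        rw [hsum]; exact hqS
      exact (Nat.dvd_add_left h2).1 (by simpa using this)
    exact hq.one_lt.ne' (Nat.dvd_one.1 h3)
  obtain ⟨χ, hχne, hχq⟩ := hex
  -- its kernel is trivial
  have hker : Nat.card {g : S // (χ : S → ℂ) g = (χ : S → ℂ) 1} = 1 := by
    rw [card_charKer (IrrCharacter_isCharacter χ)]
    rcases hS.eq_bot_or_eq_top_of_normal (charKer (IrrCharacter_isCharacter χ)) inferInstance with hb | ht
    · rw [hb]; simp
    · exfalso
      apply hχne
      apply eq_trivChar_of_ker_top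
      intro g
      have : g ∈ charKer (IrrCharacter_isCharacter χ) := by rw [ht]; trivial
      exact this
  obtain ⟨ψ, hψ⟩ := hsub χ
  rw [hker, one_mul] at hψ
  have hdS := irr_charDegree_dvd_card χ
  have hdG := card_ker_mul_degree_dvd ψ
  -- q^k divides |S| / χ(1)
  have h1 : q ^ k ∣ Nat.card S / charDegree (χ : S → ℂ) := by
    obtain ⟨m, hm⟩ := hdS
    have hpos := irr_charDegree_pos χ
    rw [hm, Nat.mul_div_cancel_left _ hpos]
    rw [hm] at hqk
    have hcop : Nat.Coprime (q ^ k) (charDegree (χ : S → ℂ)) :=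
      Nat.Coprime.pow_left k ((Nat.Prime.coprime_iff_not_dvd hq).2 hχq)
    exact hcop.dvd_of_dvd_mul_left hqk
  rw [hψ] at h1
  exact dvd_trans h1 (Nat.div_dvd_of_dvd hdG)

end Cfsg.Agent.S4801
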