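import Cfsg.Statements.S4802
import Cfsg.Agent.Lib.Helper83.Quotient

set_option autoImplicit false
open Cfsg

namespace Cfsg.Agent.S4802

open Cfsg.Agent.Lib.Helper83
open scoped ComplexConjugate

theorem result {G : Type*} [Group G] [Finite G] (N M : Subgroup G) [N.Normal] [M.Normal] (hNM : N < M) (g : G) (hgM : g ∈ M) (hgN : g ∉ N) : {h : G | IsConj g h} = (M : Set G) \ (N : Set G) ↔ ((∀ χ : Cfsg.IrrCharacter G, (∀ x ∈ N, (χ : G → ℂ) x = (χ : G → ℂ) 1) → ∀ x ∈ M, x ∉ N → ∀ y ∈ M, y ∉ N → (χ : G → ℂ) x = (χ : G → ℂ) y) ∧ (∀ χ : Cfsg.IrrCharacter G, (∃ x ∈ N, (χ : G → ℂ) x ≠ (χ : G → ℂ) 1) → (χ : G → ℂ) g = 0)) := by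
  classical
  haveI := Fintype.ofFinite G
  haveI : Fintype (IrrCharacter G) := Fintype.ofFinite _
  have hconj_val : ∀ (χ : IrrCharacter G) (x : G), IsConj g x → (χ : G → ℂ) x = (χ : G → ℂ) g := by
    intro χ x hx
    obtain ⟨c, hc⟩ := isConj_iff.1 hx
    rw [← hc, isClassFunction_irr χ g c]
  constructor
  · intro hcl
    have hmem : ∀ x : G, x ∈ M → x ∉ N → IsConj g x := by
      intro x hxM hxN
      have : x ∈ (M : Set G) \ (N : Set G) := ⟨hxM, hxN⟩
      rw [← hcl] at this
      exact this
    refine ⟨?_, ?_⟩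
    · intro χ _ x hxM hxN y hyM hyN
      rw [hconj_val χ x (hmem x hxM hxN), hconj_val χ y (hmem y hyM hyN)]
    · intro χ hχ
      have h0 := irr_sum_coset_eq_zero χ N hχ g
      have hterm : ∀ n : N, (χ : G → ℂ) (g * n) = (χ : G → ℂ) g := by
        intro n
        apply hconj_val
        apply hmem
        · exact M.mul_mem hgM (hNM.le n.2)
        · intro h
          apply hgN
          have := N.mul_mem h (N.inv_mem n.2)
          simpa using this
      simp only [hterm, Finset.sum_const, Finset.card_univ, nsmul_eq_mul] at h0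
      rcases mul_eq_zero.1 h0 with h1 | h1
      · exfalso
        have : Fintype.card N ≠ 0 := Fintype.card_ne_zero
        exact this (by exact_mod_cast h1)
      · exact h1
  · rintro ⟨ha, hb⟩
    ext h
    simp only [Set.mem_ofPred_eq, Set.mem_sdiff, SetLike.mem_coe]
    constructor
    · intro hc
      obtain ⟨c, rfl⟩ := isConj_iff.1 hc
      refine ⟨Subgroup.Normal.conj_mem inferInstance g hgM c, ?_⟩
      intro hN
      apply hgN
      have := Subgroup.Normal.conj_mem (inferInstance : N.Normal) _ hN c⁻¹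
      simpa [mul_assoc] using this
    · rintro ⟨hM, hN⟩
      by_contra hnc
      have h2 := second_orthogonality (G := G) h g
      rw [if_neg (fun hc => hnc hc.symm)] at h2
      have hterm : ∀ χ : IrrCharacter G, (χ : G → ℂ) h * conj ((χ : G → ℂ) g)
          = (((if (∀ x ∈ N, (χ : G → ℂ) x = (χ : G → ℂ) 1) then Complex.normSq ((χ : G → ℂ) g) else 0 : ℝ)) : ℂ) := by
        intro χ
        split_ifs with hk
        · rw [ha χ hk h hM hN g hgM hgN, Complex.mul_conj]
        · push Not at hk
          rw [hb χ hk, map_zero, mul_zero, Complex.ofReal_zero]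
      simp only [hterm] at h2
      rw [← Complex.ofReal_sum, Complex.ofReal_eq_zero] at h2
      have hnonneg : ∀ χ ∈ (Finset.univ : Finset (IrrCharacter G)),
          0 ≤ (if (∀ x ∈ N, (χ : G → ℂ) x = (χ : G → ℂ) 1) then Complex.normSq ((χ : G → ℂ) g) else 0 : ℝ) := by
        intro χ _
        split_ifs
        · exact Complex.normSq_nonneg _
        · exact le_refl _
      have h3 := (Finset.sum_eq_zero_iff_of_nonneg hnonneg).1 h2 (trivChar G) (Finset.mem_univ _)
      have hk : ∀ x ∈ N, (trivChar G : G → ℂ) x = (trivChar G : G → ℂ) 1 := fun x _ => rfl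
      rw [if_pos hk] at h3
      simp [trivChar_apply] at h3

end Cfsg.Agent.S4802
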