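import Cfsg.Statements.S4808
import Cfsg.Agent.Lib.Helper83.Abelian
import Cfsg.Agent.S0165

set_option autoImplicit false
open Cfsg

namespace Cfsg.Agent.S4808

open Cfsg.Agent.Lib.Helper83 in
/-- If `p` does not divide the codegree of `χ`, then `χ` vanishes at every element of order `p`
outside its kernel. -/
theorem vanish_of_not_dvd_codegree {G : Type*} [Group G] [Finite G] (p : ℕ) (hp : p.Prime)
    (χ : Cfsg.IrrCharacter G)
    (hcod : ¬ p ∣ (Nat.card G / (Nat.card {g : G // (χ : G → ℂ) g = (χ : G → ℂ) 1} *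
      Cfsg.charDegree (χ : G → ℂ))))
    (x : G) (hxo : orderOf x = p) (hx : (χ : G → ℂ) x ≠ (χ : G → ℂ) 1) :
    (χ : G → ℂ) x = 0 := by
  classical
  set N := charKer (IrrCharacter_isCharacter χ) with hN
  obtain ⟨ψ, hψ, hψχ⟩ := exists_isIrrCharacter_quotient N χ.2 (fun n hn => hn)
  obtain ⟨m, ρ, hρ, hρψ⟩ := hψ
  haveI := hρ
  -- degree
  have hm : m = Cfsg.charDegree (χ : G → ℂ) := by
    have h1 : (m : ℂ) = (Cfsg.charDegree (χ : G → ℂ) : ℂ) := by
      rw [charDegree_cast (IrrCharacter_isCharacter χ), ← hψχ 1, ← hρψ]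
      have := Representation.char_one ρ
      rw [QuotientGroup.mk_one, this]
      simp
    exact_mod_cast h1
  have hfin : Module.finrank ℂ (Fin m → ℂ) = m := by simp
  -- the order of the quotient
  have hdvd := card_ker_mul_degree_dvd χ
  rw [card_charKer (IrrCharacter_isCharacter χ)] at hdvd hcod
  set c := Nat.card G / (Nat.card N * Cfsg.charDegree (χ : G → ℂ)) with hc
  have hG : Nat.card G = Nat.card N * Cfsg.charDegree (χ : G → ℂ) * c :=
    (Nat.mul_div_cancel' hdvd).symm
  have hidx : Nat.card (G ⧸ N) = Cfsg.charDegree (χ : G → ℂ) * c := by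
    have h1 := Subgroup.card_mul_index N
    rw [hG, mul_assoc] at h1
    have hNpos : 0 < Nat.card N := Nat.card_pos
    have := Nat.eq_of_mul_eq_mul_left hNpos h1
    rw [← this]
    rfl
  have hQpos : Nat.card (G ⧸ N) ≠ 0 := Nat.card_pos.ne'
  set n := (Nat.card (G ⧸ N)).factorization p with hn
  have hn1 : p ^ n ∣ Nat.card (G ⧸ N) := Nat.ordProj_dvd _ _
  have hn2 : ¬ p ^ (n + 1) ∣ Nat.card (G ⧸ N) :=
    Nat.pow_succ_factorization_not_dvd hQpos hp
  have hdeg : p ^ n ∣ Module.finrank ℂ (Fin m → ℂ) := by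
    rw [hfin, hm]
    rw [hidx, mul_comm] at hn1
    have hcop : Nat.Coprime (p ^ n) c :=
      Nat.Coprime.pow_left _ ((Nat.Prime.coprime_iff_not_dvd hp).2 hcod)
    exact hcop.dvd_of_dvd_mul_left hn1
  -- the order of the image of `x`
  have hxN : (QuotientGroup.mk x : G ⧸ N) ≠ 1 := by
    intro h
    rw [QuotientGroup.eq_one_iff] at h
    exact hx h
  have hord : p ∣ orderOf (QuotientGroup.mk x : G ⧸ N) := by
    have h1 : orderOf (QuotientGroup.mk x : G ⧸ N) ∣ p := by
      apply orderOf_dvd_of_pow_eq_one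
      rw [← QuotientGroup.mk_pow, ← hxo, pow_orderOf_eq_one, QuotientGroup.mk_one]
    rcases (Nat.dvd_prime hp).1 h1 with h2 | h2
    · exact absurd (orderOf_eq_one_iff.1 h2) hxN
    · rw [h2]
  have := Cfsg.Agent.S0165.result ρ p n hp hn1 hn2 hdeg (QuotientGroup.mk x) hord
  rw [← hψχ x, ← hρψ]
  exact this

/-- The codegree of an irreducible complex character χ of a finite group G is [G : ker χ] / χ(1), where ker χ is the set of elements at which χ takes the value χ(1). A prime divides the order of G if and only if it divides the codegree of some irreducible complex character of G. -/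
theorem result {G : Type*} [Group G] [Finite G] (p : ℕ) (hp : p.Prime) : p ∣ Nat.card G ↔ ∃ χ : Cfsg.IrrCharacter G, p ∣ (Nat.card G / (Nat.card {g : G // (χ : G → ℂ) g = (χ : G → ℂ) 1} * Cfsg.charDegree (χ : G → ℂ))) := by
  classical
  haveI := Fintype.ofFinite G
  haveI : Fintype (Cfsg.IrrCharacter G) := Fintype.ofFinite _
  constructor
  · intro hpG
    by_contra hcon
    push_neg at hcon
    haveI : Fact p.Prime := ⟨hp⟩
    obtain ⟨x, hx⟩ := exists_prime_orderOf_dvd_card' (G := G) p hpG
    have hx1 : x ≠ 1 := by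
      intro h
      rw [h, orderOf_one] at hx
      exact hp.one_lt.ne hx
    have horth := Cfsg.Agent.Lib.Helper83.second_orthogonality (G := G) x 1
    have hnc : ¬ IsConj x 1 := fun h => hx1 (isConj_one_left.1 h)
    rw [if_neg hnc] at horth
    have hre := congrArg Complex.re horth
    rw [Complex.re_sum, Complex.zero_re] at hre
    have hnonneg : ∀ χ ∈ (Finset.univ : Finset (Cfsg.IrrCharacter G)),
        0 ≤ ((χ : G → ℂ) x * (starRingEnd ℂ) ((χ : G → ℂ) 1)).re := by
      intro χ _
      by_cases hk : (χ : G → ℂ) x = (χ : G → ℂ) 1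
      · rw [hk, Complex.mul_conj]
        simp only [Complex.ofReal_re]
        exact Complex.normSq_nonneg _
      · rw [vanish_of_not_dvd_codegree p hp χ (hcon χ) x hx hk, zero_mul, Complex.zero_re]
    have hle := Finset.single_le_sum hnonneg (Finset.mem_univ (Cfsg.Agent.Lib.Helper83.trivChar G))
    rw [hre] at hle
    simp only [Cfsg.Agent.Lib.Helper83.trivChar_apply, map_one, mul_one, Complex.one_re] at hle
    linarith
  · rintro ⟨χ, hχ⟩
    have hdvd := Cfsg.Agent.Lib.Helper83.card_ker_mul_degree_dvd χ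
    have h1 : Nat.card G / (Nat.card {g : G // (χ : G → ℂ) g = (χ : G → ℂ) 1} *
        Cfsg.charDegree (χ : G → ℂ)) ∣ Nat.card G := Nat.div_dvd_of_dvd hdvd
    exact dvd_trans hχ h1

end Cfsg.Agent.S4808
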