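import Cfsg.Statements.S4812
import Cfsg.Agent.Lib.Helper45.SL2DegSet

set_option autoImplicit false
open Cfsg

namespace Cfsg.Agent.S4812

open Cfsg.Agent.Lib.Helper45 Cfsg.Agent.Lib

/-- two distinct primes divide a number iff their product does -/
theorem prime_mul_dvd_iff {r s d : ℕ} (hr : r.Prime) (hs : s.Prime) (hne : r ≠ s) :
    r * s ∣ d ↔ (r ∣ d ∧ s ∣ d) := by
  constructor
  · intro h
    exact ⟨dvd_trans (dvd_mul_right r s) h, dvd_trans (dvd_mul_left s r) h⟩
  · rintro ⟨h1, h2⟩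
    exact Nat.Coprime.mul_dvd_of_dvd_of_dvd ((Nat.coprime_primes hr hs).mpr hne) h1 h2

/-- Let F be a finite field of characteristic 2 with q ≥ 4 elements and let S be isomorphic to PSL(2,F) or to SL(2,F). Then the vertices of the character degree graph of S are the primes dividing q(q²−1), and two distinct primes are adjacent exactly when both divide q + 1 or both divide q − 1; so the graph has the three connected components {2}, the primes dividing q + 1 and the primes dividing q − 1, each complete. -/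
theorem result (F : Type*) [Field F] [Fintype F] [CharP F 2] (q : ℕ) (hq : Fintype.card F = q) (h4 : 4 ≤ q) {S : Type*} [Group S] [Finite S] (hS : Nonempty (S ≃* Matrix.ProjectiveSpecialLinearGroup (Fin 2) F) ∨ Nonempty (S ≃* Matrix.SpecialLinearGroup (Fin 2) F)) : Cfsg.degreePrimes S = {r : ℕ | r.Prime ∧ r ∣ q * (q ^ 2 - 1)} ∧ ∀ r s : ℕ, (Cfsg.degreeGraph S).Adj r s ↔ (r ≠ s ∧ r.Prime ∧ s.Prime ∧ ((r ∣ q + 1 ∧ s ∣ q + 1) ∨ (r ∣ q - 1 ∧ s ∣ q - 1))) := by
  classical
  subst hq
  -- the degrees of S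
  have hdeg : charDegrees S =
      {1, Fintype.card F, Fintype.card F + 1, Fintype.card F - 1} := by
    rcases hS with ⟨⟨e⟩⟩ | ⟨⟨e⟩⟩
    · rw [charDegrees_congr e, charDegrees_PSL2, ← charDegrees_SL2_even h4]
      ext d
      constructor
      · rintro ⟨θ, -, hd⟩
        exact ⟨θ, hd⟩
      · rintro ⟨θ, hd⟩
        refine ⟨θ, ?_, hd⟩
        intro z hz
        rw [center_SL2_char_two hz]
    · rw [charDegrees_congr e, charDegrees_SL2_even h4]
  obtain ⟨k, -, hk⟩ := FiniteField.card F 2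
  have hsq : Fintype.card F ^ 2 - 1 = (Fintype.card F - 1) * (Fintype.card F + 1) := by
    have : 1 ≤ Fintype.card F := by omega
    obtain ⟨m, hm⟩ : ∃ m, Fintype.card F = m + 1 := ⟨Fintype.card F - 1, by omega⟩
    rw [hm]
    simp only [Nat.add_sub_cancel]
    have : (m + 1) ^ 2 = m * (m + 1 + 1) + 1 := by ring
    omega
  constructor
  · ext r
    simp only [degreePrimes, hdeg, Set.mem_ofPred_eq, Set.mem_insert_iff, Set.mem_singleton_iff]
    constructor
    · rintro ⟨hr, d, (rfl | rfl | rfl | rfl), hd⟩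
      · exact absurd (Nat.dvd_one.mp hd) hr.one_lt.ne'
      · exact ⟨hr, dvd_mul_of_dvd_left hd _⟩
      · refine ⟨hr, dvd_mul_of_dvd_right ?_ _⟩
        rw [hsq]
        exact dvd_mul_of_dvd_right hd _
      · refine ⟨hr, dvd_mul_of_dvd_right ?_ _⟩
        rw [hsq]
        exact dvd_mul_of_dvd_left hd _
    · rintro ⟨hr, hd⟩
      refine ⟨hr, ?_⟩
      rw [hsq] at hd
      rcases (Nat.Prime.dvd_mul hr).mp hd with h | h
      · exact ⟨_, Or.inr (Or.inl rfl), h⟩
      · rcases (Nat.Prime.dvd_mul hr).mp h with h | h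
        · exact ⟨_, Or.inr (Or.inr (Or.inr rfl)), h⟩
        · exact ⟨_, Or.inr (Or.inr (Or.inl rfl)), h⟩
  · intro r s
    simp only [degreeGraph, hdeg, Set.mem_insert_iff, Set.mem_singleton_iff]
    constructor
    · rintro ⟨hne, hr, hs, d, (rfl | rfl | rfl | rfl), hd⟩
      · exfalso
        have := (prime_mul_dvd_iff hr hs hne).mp hd
        exact absurd (Nat.dvd_one.mp this.1) hr.one_lt.ne'
      · exfalso
        have := (prime_mul_dvd_iff hr hs hne).mp hd
        rw [hk] at this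
        have h1 := (Nat.prime_dvd_prime_iff_eq hr Nat.prime_two).mp (hr.dvd_of_dvd_pow this.1)
        have h2 := (Nat.prime_dvd_prime_iff_eq hs Nat.prime_two).mp (hs.dvd_of_dvd_pow this.2)
        exact hne (h1.trans h2.symm)
      · exact ⟨hne, hr, hs, Or.inl ((prime_mul_dvd_iff hr hs hne).mp hd)⟩
      · exact ⟨hne, hr, hs, Or.inr ((prime_mul_dvd_iff hr hs hne).mp hd)⟩
    · rintro ⟨hne, hr, hs, h | h⟩
      · exact ⟨hne, hr, hs, _, Or.inr (Or.inr (Or.inl rfl)), (prime_mul_dvd_iff hr hs hne).mpr h⟩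
      · exact ⟨hne, hr, hs, _, Or.inr (Or.inr (Or.inr rfl)), (prime_mul_dvd_iff hr hs hne).mpr h⟩

end Cfsg.Agent.S4812
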