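import Cfsg.Statements.S4813
import Cfsg.Agent.S4466
import Cfsg.Agent.S4811
import Cfsg.Agent.Lib.Helper05.CharDecomp

set_option autoImplicit false
set_option linter.style.haveILetI false
open Cfsg

namespace Cfsg.Agent.S4813

/-- If every irreducible complex character of the finite group G of degree greater than one has prime degree, then G has at most three distinct irreducible character degrees. -/
theorem result {G : Type*} [Group G] [Finite G] (hprime : ∀ d ∈ Cfsg.charDegrees G, d = 1 ∨ d.Prime) : Nat.card ↥(Cfsg.charDegrees G) ≤ 3 := by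
  classical
  -- solvability from S4466
  haveI hsolv : Group.IsSolvable G :=
    Cfsg.Agent.S4466.result (fun χ hne => (hprime _ ⟨χ, rfl⟩).resolve_left hne)
  -- at most two components from S4811
  have h2 : Nat.card ((Cfsg.degreeGraph G).induce (Cfsg.degreePrimes G)).ConnectedComponent ≤ 2 :=
    Cfsg.Agent.S4811.result
  -- finiteness of the degree set
  haveI hfinIrr : Finite (Cfsg.IrrCharacter G) := Cfsg.Agent.Lib.Helper05.finite_irrCharacter
  have hdeg_fin : (Cfsg.charDegrees G).Finite := by
    have : Cfsg.charDegrees G = Set.range (fun χ : Cfsg.IrrCharacter G => Cfsg.charDegree (χ : G → ℂ)) := by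
      ext d; simp [Cfsg.charDegrees]
    rw [this]
    exact Set.finite_range _
  -- the vertices are exactly the prime degrees
  have hvert : ∀ p, p ∈ Cfsg.degreePrimes G ↔ p.Prime ∧ p ∈ Cfsg.charDegrees G := by
    intro p
    constructor
    · rintro ⟨hp, d, hd, hpd⟩
      refine ⟨hp, ?_⟩
      rcases hprime d hd with h1 | hdp
      · subst h1
        exact absurd (Nat.dvd_one.mp hpd) hp.one_lt.ne'
      · have : p = d := (Nat.prime_dvd_prime_iff_eq hp hdp).mp hpd
        rw [this]; exact hd
    · rintro ⟨hp, hd⟩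
      exact ⟨hp, p, hd, dvd_rfl⟩
  have hprimes_fin : (Cfsg.degreePrimes G).Finite :=
    hdeg_fin.subset (fun p hp => ((hvert p).mp hp).2)
  -- the graph has no edges
  have hnoedge : ∀ a b : ↥(Cfsg.degreePrimes G),
      ¬ ((Cfsg.degreeGraph G).induce (Cfsg.degreePrimes G)).Adj a b := by
    rintro a b ⟨hne, hpa, hpb, d, hd, hdvd⟩
    rcases hprime d hd with h1 | hdp
    · subst h1
      have := Nat.dvd_one.mp hdvd
      have h1a : (a : ℕ) = 1 := Nat.eq_one_of_mul_eq_one_right this
      exact hpa.one_lt.ne' h1a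
    · have ha : (a : ℕ) ∣ d := Dvd.dvd.trans (Dvd.intro _ rfl) hdvd
      have hb : (b : ℕ) ∣ d := Dvd.dvd.trans (Dvd.intro_left _ rfl) hdvd
      have ea : (a : ℕ) = d := (Nat.prime_dvd_prime_iff_eq hpa hdp).mp ha
      have eb : (b : ℕ) = d := (Nat.prime_dvd_prime_iff_eq hpb hdp).mp hb
      exact hne (ea.trans eb.symm)
  -- hence reachability is equality
  have hreach : ∀ a b : ↥(Cfsg.degreePrimes G),
      ((Cfsg.degreeGraph G).induce (Cfsg.degreePrimes G)).Reachable a b → a = b := by
    intro a b hab
    obtain ⟨w⟩ := hab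
    cases w with
    | nil => rfl
    | cons h _ => exact absurd h (hnoedge _ _)
  -- so the vertex set injects into the set of components
  haveI : Finite ↥(Cfsg.degreePrimes G) := hprimes_fin.to_subtype
  haveI : Finite ((Cfsg.degreeGraph G).induce (Cfsg.degreePrimes G)).ConnectedComponent :=
    Finite.of_surjective
      ((Cfsg.degreeGraph G).induce (Cfsg.degreePrimes G)).connectedComponentMk
      (fun c => c.ind (fun v => ⟨v, rfl⟩))
  have hinj : Function.Injective
      ((Cfsg.degreeGraph G).induce (Cfsg.degreePrimes G)).connectedComponentMk := by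
    intro a b hab
    exact hreach a b (SimpleGraph.ConnectedComponent.exact hab)
  have hcardP : Nat.card ↥(Cfsg.degreePrimes G) ≤ 2 :=
    (Nat.card_le_card_of_injective _ hinj).trans h2
  -- the degree set is contained in {1} ∪ primes
  have hsub : Cfsg.charDegrees G ⊆ insert 1 (Cfsg.degreePrimes G) := by
    intro d hd
    rcases hprime d hd with h1 | hdp
    · exact Or.inl h1
    · exact Or.inr ((hvert d).mpr ⟨hdp, hd⟩)
  have hfin_ins : (insert 1 (Cfsg.degreePrimes G) : Set ℕ).Finite := hprimes_fin.insert 1
  calc Nat.card ↥(Cfsg.charDegrees G) = (Cfsg.charDegrees G).ncard := rfl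
    _ ≤ (insert 1 (Cfsg.degreePrimes G) : Set ℕ).ncard := Set.ncard_le_ncard hsub hfin_ins
    _ ≤ (Cfsg.degreePrimes G).ncard + 1 := Set.ncard_insert_le _ _
    _ = Nat.card ↥(Cfsg.degreePrimes G) + 1 := rfl
    _ ≤ 3 := by omega

end Cfsg.Agent.S4813
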