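import Cfsg.Statements.S4814
import Cfsg.Agent.Lib.Helper83.Quotient
import Cfsg.Agent.Lib.Helper84.Frobenius

set_option autoImplicit false
open Cfsg

namespace Cfsg.Agent.S4814

open Cfsg.Agent.Lib.Helper83
open scoped ComplexConjugate

/-- `‖χ g‖ ≤ ‖χ 1‖` for a character. -/
theorem char_norm_le {G : Type*} [Group G] [Finite G] {χ : G → ℂ} (hχ : IsCharacter G χ) (g : G) :
    ‖χ g‖ ≤ ‖χ 1‖ := by
  obtain ⟨n, ρ, rfl⟩ := hχ
  have h := Cfsg.Agent.Lib.Helper04.norm_char_le ρ g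
  rw [Representation.char_one, Complex.norm_natCast]
  exact h

/-- Let G be a finite group such that the sum, over the irreducible complex characters χ of G, of 1/χ(1)² is less than 2. Then every element of G is a product of two commutators. -/
theorem result {G : Type*} [Group G] [Finite G]
    (h : ∑ᶠ χ : Cfsg.IrrCharacter G, 1 / ‖(χ : G → ℂ) 1‖ ^ 2 < (2 : ℝ)) (g : G) :
    ∃ a b c d : G, (a * b * a⁻¹ * b⁻¹) * (c * d * c⁻¹ * d⁻¹) = g := by
  classical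
  haveI := Fintype.ofFinite G
  haveI : Fintype (IrrCharacter G) := Fintype.ofFinite _
  rw [finsum_eq_sum_of_fintype] at h
  by_contra hcon
  push Not at hcon
  -- the regular character vanishes at all [a,b][c,d] g⁻¹
  have hreg : ∀ a b c d : G, ∑ χ : IrrCharacter G,
      (χ : G → ℂ) 1 * (χ : G → ℂ) (a * b * a⁻¹ * b⁻¹ * (c * d * c⁻¹ * d⁻¹ * g⁻¹)) = 0 := by
    intro a b c d
    rw [sum_irr_degree_mul, if_neg]
    intro h1
    apply hcon a b c d
    have : a * b * a⁻¹ * b⁻¹ * (c * d * c⁻¹ * d⁻¹) * g⁻¹ = 1 := by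
      rw [← h1]; group
    exact mul_inv_eq_one.1 this
  have hG : (Fintype.card G : ℂ) ≠ 0 := by simp
  -- sum over all a b c d
  have hsum : ∑ χ : IrrCharacter G, (χ : G → ℂ) 1 *
      ((((Fintype.card G : ℂ) / (χ : G → ℂ) 1) ^ 2) *
        ((((Fintype.card G : ℂ) / (χ : G → ℂ) 1) ^ 2) * (χ : G → ℂ) g⁻¹)) = 0 := by
    have h1 : ∀ χ : IrrCharacter G, (χ : G → ℂ) 1 *
        ((((Fintype.card G : ℂ) / (χ : G → ℂ) 1) ^ 2) *
          ((((Fintype.card G : ℂ) / (χ : G → ℂ) 1) ^ 2) * (χ : G → ℂ) g⁻¹))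
        = ∑ c : G, ∑ d : G, ∑ a : G, ∑ b : G,
            (χ : G → ℂ) 1 * (χ : G → ℂ) (a * b * a⁻¹ * b⁻¹ * (c * d * c⁻¹ * d⁻¹ * g⁻¹)) := by
      intro χ
      rw [← Cfsg.Agent.Lib.Helper84.irr_sum_sum_comm _ χ.2 g⁻¹]
      simp only [Finset.mul_sum]
      apply Finset.sum_congr rfl; intro c _
      apply Finset.sum_congr rfl; intro d _
      rw [← Cfsg.Agent.Lib.Helper84.irr_sum_sum_comm _ χ.2 (c * d * c⁻¹ * d⁻¹ * g⁻¹)]
      simp only [Finset.mul_sum]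
    simp only [h1]
    rw [Finset.sum_comm]
    apply Finset.sum_eq_zero; intro c _
    rw [Finset.sum_comm]
    apply Finset.sum_eq_zero; intro d _
    rw [Finset.sum_comm]
    apply Finset.sum_eq_zero; intro a _
    rw [Finset.sum_comm]
    apply Finset.sum_eq_zero; intro b _
    exact hreg a b c d
  have hsum2 : ∑ χ : IrrCharacter G, (χ : G → ℂ) g⁻¹ / ((χ : G → ℂ) 1) ^ 3 = 0 := by
    have h1 : ∑ χ : IrrCharacter G, (χ : G → ℂ) 1 *
        ((((Fintype.card G : ℂ) / (χ : G → ℂ) 1) ^ 2) *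
          ((((Fintype.card G : ℂ) / (χ : G → ℂ) 1) ^ 2) * (χ : G → ℂ) g⁻¹))
        = (Fintype.card G : ℂ) ^ 4 * ∑ χ : IrrCharacter G, (χ : G → ℂ) g⁻¹ / ((χ : G → ℂ) 1) ^ 3 := by
      rw [Finset.mul_sum]
      apply Finset.sum_congr rfl; intro χ _
      have := irr_degree_ne_zero χ
      field_simp
    rw [h1] at hsum
    rcases mul_eq_zero.1 hsum with h2 | h2
    · exact absurd (pow_eq_zero_iff (by norm_num) |>.1 h2) hG
    · exact h2
  -- split off the trivial character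
  rw [← Finset.add_sum_erase _ _ (Finset.mem_univ (trivChar G))] at hsum2 h
  simp only [trivChar_apply, one_pow, div_one, norm_one] at hsum2 h
  have hbound : ‖∑ χ ∈ Finset.univ.erase (trivChar G), (χ : G → ℂ) g⁻¹ / ((χ : G → ℂ) 1) ^ 3‖
      ≤ ∑ χ ∈ Finset.univ.erase (trivChar G), 1 / ‖(χ : G → ℂ) 1‖ ^ 2 := by
    refine (norm_sum_le _ _).trans (Finset.sum_le_sum ?_)
    intro χ _
    have hd : 0 < ‖(χ : G → ℂ) 1‖ := norm_pos_iff.2 (irr_degree_ne_zero χ)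
    rw [norm_div, norm_pow, div_le_div_iff₀ (pow_pos hd 3) (pow_pos hd 2)]
    have := char_norm_le (IrrCharacter_isCharacter χ) g⁻¹
    calc ‖(χ : G → ℂ) g⁻¹‖ * ‖(χ : G → ℂ) 1‖ ^ 2 ≤ ‖(χ : G → ℂ) 1‖ * ‖(χ : G → ℂ) 1‖ ^ 2 :=
          mul_le_mul_of_nonneg_right this (by positivity)
      _ = 1 * ‖(χ : G → ℂ) 1‖ ^ 3 := by ring
  have h3 : ∑ χ ∈ Finset.univ.erase (trivChar G), (χ : G → ℂ) g⁻¹ / ((χ : G → ℂ) 1) ^ 3 = -1 := by
    linear_combination hsum2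
  rw [h3, norm_neg, norm_one] at hbound
  linarith

end Cfsg.Agent.S4814
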