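import Cfsg.Statements.S4825
import Cfsg.Agent.S4558
import Cfsg.Agent.Lib.Helper84.CliffordDegree
import Cfsg.Agent.Lib.Helper82.BlockOrthFull
import Cfsg.Agent.Lib.Helper22.DefectConj
import Cfsg.Agent.Lib.Helper21.Osima

set_option autoImplicit false
open Cfsg

namespace Cfsg.Agent.S4825

open scoped ComplexConjugate

/-- For `p ∈ {2, 3}` every nonzero residue squares to `1`. -/
theorem sq_eq_one_two : ∀ x : ZMod 2, x ≠ 0 → x ^ 2 = 1 := by decide

/-- For `p = 3` every nonzero residue squares to `1`. -/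
theorem sq_eq_one_three : ∀ x : ZMod 3, x ≠ 0 → x ^ 2 = 1 := by decide

/-- For `p ∈ {2, 3}` every nonzero residue squares to `1`. -/
theorem sq_eq_one_of_le_three (p : ℕ) (hp : p.Prime) (hp3 : p ≤ 3) (x : ZMod p) (hx : x ≠ 0) :
    x ^ 2 = 1 := by
  have h2 : 2 ≤ p := hp.two_le
  have h23 : p = 2 ∨ p = 3 := by omega
  rcases h23 with rfl | rfl
  · exact sq_eq_one_two x hx
  · exact sq_eq_one_three x hx

/-- Let p be a prime, G a finite group with Sylow p-subgroup P, M a maximal ideal of the algebraic integers containing p, and B a p-block of G with defect group P. Let N be a normal subgroup of G not containing P and θ an irreducible character of N. Then the number of irreducible characters in B of degree prime to p lying over θ (having θ as a constituent on restriction to N) is either 0 or at least 2, and when p ≤ 3 it is divisible by p. -/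
theorem result {G : Type*} [Group G] [Fintype G] (p : ℕ) [Fact p.Prime] (P : Sylow p G) (M : Ideal Cfsg.AlgInt) (hM : Cfsg.IsPModular p M) (B : Set (Cfsg.IrrCharacter G)) (hB : Cfsg.IsPBlock M B) (hBP : Cfsg.IsDefectGroup p M B P) (N : Subgroup G) [N.Normal] [Fintype N] (hPN : ¬ (P : Subgroup G) ≤ N) (θ : Cfsg.IrrCharacter N) :
    (Nat.card {χ : Cfsg.IrrCharacter G // χ ∈ B ∧ ¬ p ∣ Cfsg.charDegree (χ : G → ℂ) ∧ Cfsg.classInner (fun n : N => (χ : G → ℂ) n) (θ : N → ℂ) ≠ 0} = 0 ∨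
      2 ≤ Nat.card {χ : Cfsg.IrrCharacter G // χ ∈ B ∧ ¬ p ∣ Cfsg.charDegree (χ : G → ℂ) ∧ Cfsg.classInner (fun n : N => (χ : G → ℂ) n) (θ : N → ℂ) ≠ 0}) ∧
    (p ≤ 3 → p ∣ Nat.card {χ : Cfsg.IrrCharacter G // χ ∈ B ∧ ¬ p ∣ Cfsg.charDegree (χ : G → ℂ) ∧ Cfsg.classInner (fun n : N => (χ : G → ℂ) n) (θ : N → ℂ) ≠ 0}) := by
  classical
  have hp : p.Prime := Fact.out
  have : Fintype (IrrCharacter G) := Fintype.ofFinite _
  have hNn : N.Normal := inferInstance
  obtain ⟨χ₀, hBeq⟩ := hB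
  -- an element of `P` outside `N`
  obtain ⟨y, hyP, hyN⟩ := SetLike.not_le_iff_exists.mp hPN
  have hyord : ∃ j : ℕ, orderOf y = p ^ j := by
    obtain ⟨k, hk⟩ := (IsPGroup.iff_orderOf.mp P.2) ⟨y, hyP⟩
    exact ⟨k, by rw [← hk, Subgroup.orderOf_mk]⟩
  -- multiplicities of `θ`
  have hnat : ∀ χ : IrrCharacter G, ∃ m : ℕ,
      classInner (fun n : N => (χ : G → ℂ) n) (θ : N → ℂ) = m := fun χ =>
    Cfsg.Agent.Lib.Helper83.classInner_char_nat
      (Cfsg.Agent.Lib.Helper83.isCharacter_restrict N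
        (Cfsg.Agent.Lib.Helper83.IrrCharacter_isCharacter χ))
      (Cfsg.Agent.Lib.Helper83.IrrCharacter_isCharacter θ)
  choose e he using hnat
  have he0 : ∀ χ : IrrCharacter G, e χ ≠ 0 ↔
      classInner (fun n : N => (χ : G → ℂ) n) (θ : N → ℂ) ≠ 0 := by
    intro χ
    rw [he χ]
    exact_mod_cast Iff.rfl
  -- the character `Ψ = Σ_{χ ∈ B} e_χ χ`
  set Ψ : G → ℂ := ∑ χ : IrrCharacter G,
    (((if χ ∈ B then e χ else 0 : ℕ)) : ℂ) • (χ : G → ℂ) with hΨdef
  have hΨc : IsCharacter G Ψ :=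
    Cfsg.Agent.Lib.Helper83.isCharacter_sum _ _ (fun χ _ =>
      Cfsg.Agent.Lib.Helper83.isCharacter_nsmul _
        (Cfsg.Agent.Lib.Helper83.IrrCharacter_isCharacter χ))
  have hyy : IsPPart p y y :=
    ⟨1, mul_one y, Commute.one_right y, hyord, by
      rw [orderOf_one]; exact fun h => hp.one_lt.ne' (Nat.dvd_one.mp h)⟩
  -- block orthogonality between `y` and the elements of `N`
  have horth : ∀ n : N, ∑ χ : IrrCharacter G,
      (if χ ∈ B then (χ : G → ℂ) y * (χ : G → ℂ) n else 0) = 0 := by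
    intro n
    obtain ⟨z, hz⟩ := Cfsg.Agent.Lib.Helper82.exists_isPPart hp ((n : G)⁻¹) (orderOf_pos _)
    have hzN : z ∈ N := by
      have h1 := Cfsg.Agent.Lib.Helper22.IsPPart.mem_zpowers hp hz
      exact (Subgroup.zpowers_le.mpr (N.inv_mem n.2)) h1
    have hnc : ¬ IsConj y z := by
      intro hc
      obtain ⟨c, hc⟩ := isConj_iff.mp hc
      apply hyN
      have h1 : y = c⁻¹ * z * c⁻¹⁻¹ := by rw [← hc]; group
      rw [h1]
      exact hNn.conj_mem z hzN c⁻¹
    have h2 := Cfsg.Agent.Lib.Helper82.sum_block_mul_eq_zero_of_not_isConj hM χ₀ y (n : G) y z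
      hyy hz hnc
    rw [Cfsg.Agent.Lib.Helper21.finsum_mem_eq_sum_ite] at h2
    rw [hBeq]
    exact h2
  have hcardN : (Nat.card N : ℂ) ≠ 0 := by exact_mod_cast Nat.card_pos.ne'
  have hΨy : Ψ y = 0 := by
    have h1 : Ψ y = (Nat.card N : ℂ)⁻¹ * ∑ n : N, conj ((θ : N → ℂ) n) *
        ∑ χ : IrrCharacter G, (if χ ∈ B then (χ : G → ℂ) y * (χ : G → ℂ) n else 0) := by
      simp only [hΨdef, Finset.sum_apply, Pi.smul_apply, smul_eq_mul]
      simp_rw [Finset.mul_sum]
      rw [Finset.sum_comm]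
      refine Finset.sum_congr rfl fun χ _ => ?_
      split_ifs with hχ
      · rw [← he χ, Cfsg.Agent.Lib.Helper83.classInner_def, Finset.mul_sum, Finset.sum_mul]
        refine Finset.sum_congr rfl fun n _ => ?_
        ring
      · simp
    rw [h1]
    simp only [horth, mul_zero, Finset.sum_const_zero]
  -- `p` divides the degree of `Ψ`
  have hdvd := Cfsg.Agent.S4558.result p Ψ hΨc y hyord hΨy
  have hdegΨ : charDegree Ψ = ∑ χ : IrrCharacter G,
      (if χ ∈ B then e χ else 0) * charDegree (χ : G → ℂ) := by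
    apply Nat.cast_injective (R := ℂ)
    rw [Cfsg.Agent.Lib.Helper83.charDegree_cast hΨc]
    push_cast
    simp only [hΨdef, Finset.sum_apply, Pi.smul_apply, smul_eq_mul]
    refine Finset.sum_congr rfl fun χ _ => ?_
    rw [Cfsg.Agent.Lib.Helper83.charDegree_cast
      (Cfsg.Agent.Lib.Helper83.IrrCharacter_isCharacter χ)]
    split_ifs <;> simp
  -- Clifford's degree formula
  set c : ℕ := (Cfsg.Agent.Lib.Helper85.conjStab hNn (θ : N → ℂ)).index *
    charDegree (θ : N → ℂ) with hc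
  have hcl : ∀ χ : IrrCharacter G, e χ ≠ 0 → charDegree (χ : G → ℂ) = e χ * c := fun χ h =>
    Cfsg.Agent.Lib.Helper84.clifford_degree hNn χ θ (e χ) (he χ) h
  -- the set of characters counted
  set X : Finset (IrrCharacter G) := Finset.univ.filter (fun χ => χ ∈ B ∧
    ¬ p ∣ charDegree (χ : G → ℂ) ∧
    classInner (fun n : N => (χ : G → ℂ) n) (θ : N → ℂ) ≠ 0) with hX
  have hcard : Nat.card {χ : IrrCharacter G // χ ∈ B ∧ ¬ p ∣ charDegree (χ : G → ℂ) ∧
      classInner (fun n : N => (χ : G → ℂ) n) (θ : N → ℂ) ≠ 0} = X.card := by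
    rw [Nat.card_eq_fintype_card, Fintype.card_subtype]
  rw [hcard]
  -- the key congruence
  have hkey : (c : ZMod p) * ∑ χ ∈ X, (e χ : ZMod p) ^ 2 = 0 := by
    have h0 : ((∑ χ : IrrCharacter G,
        (if χ ∈ B then e χ else 0) * charDegree (χ : G → ℂ) : ℕ) : ZMod p) = 0 := by
      rw [← hdegΨ]; exact (ZMod.natCast_eq_zero_iff _ _).mpr hdvd
    rw [Nat.cast_sum] at h0
    rw [← h0, Finset.mul_sum, hX, Finset.sum_filter]
    refine Finset.sum_congr rfl fun χ _ => ?_
    by_cases hχB : χ ∈ B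
    · by_cases hχe : e χ = 0
      · have h1 : ¬ (χ ∈ B ∧ ¬ p ∣ charDegree (χ : G → ℂ) ∧
            classInner (fun n : N => (χ : G → ℂ) n) (θ : N → ℂ) ≠ 0) := by
          intro h
          exact (he0 χ).mpr h.2.2 hχe
        rw [if_neg h1, if_pos hχB, hχe]
        simp
      · by_cases hχp : p ∣ charDegree (χ : G → ℂ)
        · have h1 : ¬ (χ ∈ B ∧ ¬ p ∣ charDegree (χ : G → ℂ) ∧
              classInner (fun n : N => (χ : G → ℂ) n) (θ : N → ℂ) ≠ 0) := fun h => h.2.1 hχp
          rw [if_neg h1, if_pos hχB]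
          push_cast
          rw [(ZMod.natCast_eq_zero_iff _ _).mpr hχp, mul_zero]
        · have h1 : χ ∈ B ∧ ¬ p ∣ charDegree (χ : G → ℂ) ∧
              classInner (fun n : N => (χ : G → ℂ) n) (θ : N → ℂ) ≠ 0 :=
            ⟨hχB, hχp, (he0 χ).mp hχe⟩
          rw [if_pos h1, if_pos hχB, hcl χ hχe]
          push_cast
          ring
    · have h1 : ¬ (χ ∈ B ∧ ¬ p ∣ charDegree (χ : G → ℂ) ∧
          classInner (fun n : N => (χ : G → ℂ) n) (θ : N → ℂ) ≠ 0) := fun h => hχB h.1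
      rw [if_neg h1, if_neg hχB]
      simp
  -- members of `X` have `e` and `c` prime to `p`
  have hXe : ∀ χ ∈ X, (e χ : ZMod p) ≠ 0 ∧ (c : ZMod p) ≠ 0 := by
    intro χ hχ
    rw [hX, Finset.mem_filter] at hχ
    obtain ⟨-, -, hχp, hχe⟩ := hχ
    have hχe' := (he0 χ).mpr hχe
    rw [hcl χ hχe'] at hχp
    constructor
    · intro h
      exact hχp (Dvd.dvd.mul_right ((ZMod.natCast_eq_zero_iff _ _).mp h) _)
    · intro h
      exact hχp (Dvd.dvd.mul_left ((ZMod.natCast_eq_zero_iff _ _).mp h) _)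
  constructor
  · rcases Nat.lt_or_ge X.card 2 with hlt | hge
    · left
      interval_cases hXc : X.card
      · rfl
      · exfalso
        obtain ⟨χ₁, hχ₁⟩ := Finset.card_eq_one.mp hXc
        have hmem : χ₁ ∈ X := by rw [hχ₁]; exact Finset.mem_singleton_self _
        obtain ⟨h1, h2⟩ := hXe χ₁ hmem
        rw [hχ₁, Finset.sum_singleton] at hkey
        rcases mul_eq_zero.mp hkey with h | h
        · exact h2 h
        · exact h1 ((pow_eq_zero_iff two_ne_zero).mp h)
    · right; exact hge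
  · intro hp3
    rcases Finset.eq_empty_or_nonempty X with hXe' | ⟨χ₁, hχ₁⟩
    · rw [hXe', Finset.card_empty]; exact dvd_zero p
    · have hc0 := (hXe χ₁ hχ₁).2
      have hsum : ∑ χ ∈ X, (e χ : ZMod p) ^ 2 = 0 := by
        rcases mul_eq_zero.mp hkey with h | h
        · exact absurd h hc0
        · exact h
      have hsum' : ∑ χ ∈ X, (e χ : ZMod p) ^ 2 = (X.card : ZMod p) := by
        rw [Finset.sum_congr rfl (fun χ hχ =>
          sq_eq_one_of_le_three p hp hp3 _ (hXe χ hχ).1)]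
        simp
      rw [hsum'] at hsum
      exact (ZMod.natCast_eq_zero_iff _ _).mp hsum

end Cfsg.Agent.S4825
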