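import Cfsg.Statements.S4835
import Cfsg.Agent.Lib.Helper83.Gagola

set_option autoImplicit false
open Cfsg

namespace Cfsg.Agent.S4835

/-- Let G be a finite group of order greater than 2 with an irreducible character χ that is nonzero on exactly two conjugacy classes. Then G has a unique minimal normal subgroup N; N is an elementary abelian p-group for some prime p; χ is nonzero exactly at the elements of N; and any two nonidentity elements of N are conjugate in G. -/
theorem result {G : Type*} [Group G] [Finite G] (hG : 2 < Nat.card G) (χ : Cfsg.IrrCharacter G) (hχ : Nat.card {C : ConjClasses G // ∃ g ∈ C.carrier, (χ : G → ℂ) g ≠ 0} = 2) :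
    ∃ N : Subgroup G, N.Normal ∧ N ≠ ⊥ ∧ (∀ K : Subgroup G, K.Normal → K ≠ ⊥ → N ≤ K) ∧
      (∃ p : ℕ, p.Prime ∧ Cfsg.IsElementaryAbelian p N) ∧
      (∀ g : G, (χ : G → ℂ) g ≠ 0 ↔ g ∈ N) ∧
      (∀ x ∈ N, ∀ y ∈ N, x ≠ 1 → y ≠ 1 → ∃ g : G, g * x * g⁻¹ = y) := by
  classical
  haveI := Fintype.ofFinite G
  obtain ⟨g, hg1, hgχ, hsupp⟩ := Cfsg.Agent.Lib.Helper83.two_classes_extract χ hχ
  have hne := Cfsg.Agent.Lib.Helper83.gagola_ne_triv χ g hg1 hsupp hG
  obtain ⟨N, hNn, hN⟩ := Cfsg.Agent.Lib.Helper83.gagola_subgroup χ g hg1 hgχ hsupp hne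
  have hgN : g ∈ N := (hN g).2 (Or.inr (IsConj.refl g))
  refine ⟨N, hNn, ?_, ?_, ?_, ?_, ?_⟩
  · intro h
    rw [h, Subgroup.mem_bot] at hgN
    exact hg1 hgN
  · intro K hKn hK x hx
    haveI := hKn
    have hgK := Cfsg.Agent.Lib.Helper83.gagola_minimal χ g hsupp K hK
    rcases (hN x).1 hx with h | h
    · rw [h]; exact K.one_mem
    · obtain ⟨c, hc⟩ := isConj_iff.1 h
      rw [← hc]
      exact hKn.conj_mem g hgK c
  · haveI := hNn
    exact Cfsg.Agent.Lib.Helper83.elemAbelian_of_single_class N g hg1 hN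
  · intro x
    constructor
    · intro hx
      exact (hN x).2 (hsupp x hx)
    · intro hx
      rcases (hN x).1 hx with h | h
      · rw [h]; exact Cfsg.Agent.Lib.Helper83.irr_degree_ne_zero χ
      · rw [Cfsg.Agent.Lib.Helper83.gagola_val χ g h]; exact hgχ
  · intro x hx y hy hx1 hy1
    have hcx : IsConj g x := by
      rcases (hN x).1 hx with h | h
      · exact absurd h hx1
      · exact h
    have hcy : IsConj g y := by
      rcases (hN y).1 hy with h | h
      · exact absurd h hy1
      · exact h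
    exact isConj_iff.1 (hcx.symm.trans hcy)

end Cfsg.Agent.S4835
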