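import Cfsg.Statements.S4836
import Cfsg.Agent.Lib.Helper83.Gagola

set_option autoImplicit false
open Cfsg

namespace Cfsg.Agent.S4836

/-- Let G be a finite group of order greater than 2 with an irreducible character χ that is nonzero on exactly two conjugacy classes. Then χ is faithful (it takes the value χ(1) only at the identity), it is the only faithful irreducible character of G, and it is the only irreducible character of G that is nonzero on exactly two conjugacy classes. -/
theorem result {G : Type*} [Group G] [Finite G] (hG : 2 < Nat.card G) (χ : Cfsg.IrrCharacter G) (hχ : Nat.card {C : ConjClasses G // ∃ g ∈ C.carrier, (χ : G → ℂ) g ≠ 0} = 2) :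
    (∀ g : G, (χ : G → ℂ) g = (χ : G → ℂ) 1 → g = 1) ∧
      (∀ ψ : Cfsg.IrrCharacter G, (∀ g : G, (ψ : G → ℂ) g = (ψ : G → ℂ) 1 → g = 1) → ψ = χ) ∧
      (∀ ψ : Cfsg.IrrCharacter G, Nat.card {C : ConjClasses G // ∃ g ∈ C.carrier, (ψ : G → ℂ) g ≠ 0} = 2 → ψ = χ) := by
  classical
  haveI := Fintype.ofFinite G
  obtain ⟨g, hg1, hgχ, hsupp⟩ := Cfsg.Agent.Lib.Helper83.two_classes_extract χ hχ
  have hne := Cfsg.Agent.Lib.Helper83.gagola_ne_triv χ g hg1 hsupp hG
  have hfaith := Cfsg.Agent.Lib.Helper83.gagola_faithful χ g hg1 hgχ hsupp hne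
  have huniq := Cfsg.Agent.Lib.Helper83.gagola_unique_faithful χ g hg1 hgχ hsupp hne
  refine ⟨hfaith, huniq, ?_⟩
  intro ψ hψ
  obtain ⟨g', hg1', hgχ', hsupp'⟩ := Cfsg.Agent.Lib.Helper83.two_classes_extract ψ hψ
  have hne' := Cfsg.Agent.Lib.Helper83.gagola_ne_triv ψ g' hg1' hsupp' hG
  exact huniq ψ (Cfsg.Agent.Lib.Helper83.gagola_faithful ψ g' hg1' hgχ' hsupp' hne')

end Cfsg.Agent.S4836
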