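import Cfsg.Statements.S4837
import Cfsg.Agent.Lib.Helper83.Gagola2

set_option autoImplicit false
open Cfsg

namespace Cfsg.Agent.S4837

/-- Let G be a finite group of order greater than 2 with an irreducible character χ nonzero on exactly two conjugacy classes, and let N be the set of elements where χ is nonzero, given as a nontrivial normal p-subgroup of G for the prime p. Then for every nonidentity x in N the centralizer C_G(x) is a Sylow p-subgroup of G, and for every irreducible character λ ≠ 1 of N the stabilizer of λ in G (its inertia group) is a Sylow p-subgroup of G. -/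
theorem result {G : Type*} [Group G] [Finite G] (hG : 2 < Nat.card G) (χ : Cfsg.IrrCharacter G) (hχ : Nat.card {C : ConjClasses G // ∃ g ∈ C.carrier, (χ : G → ℂ) g ≠ 0} = 2) (p : ℕ) [Fact p.Prime] (N : Subgroup G) [N.Normal] (hN : ∀ g : G, g ∈ N ↔ (χ : G → ℂ) g ≠ 0) (hNp : IsPGroup p N) (hN1 : N ≠ ⊥) :
    (∀ x ∈ N, x ≠ 1 → ∃ P : Sylow p G, Subgroup.centralizer ({x} : Set G) = P) ∧
      (∀ μ : Cfsg.IrrCharacter N, (μ : N → ℂ) ≠ (fun _ => (1 : ℂ)) → ∃ P : Sylow p G, ∀ g : G, g ∈ (P : Subgroup G) ↔ ∀ n n' : N, (n' : G) = g * n * g⁻¹ → (μ : N → ℂ) n' = (μ : N → ℂ) n) := by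
  classical
  haveI := Fintype.ofFinite G
  obtain ⟨g, hg1, hgχ, hsupp⟩ := Cfsg.Agent.Lib.Helper83.two_classes_extract χ hχ
  have hne := Cfsg.Agent.Lib.Helper83.gagola_ne_triv χ g hg1 hsupp hG
  have hN' : ∀ x, x ∈ N ↔ (x = 1 ∨ IsConj g x) := by
    intro x
    rw [hN x]
    constructor
    · exact hsupp x
    · rintro (rfl | h)
      · exact Cfsg.Agent.Lib.Helper83.irr_degree_ne_zero χ
      · rw [Cfsg.Agent.Lib.Helper83.gagola_val χ g h]; exact hgχ
  obtain ⟨p', -, hcm, -⟩ := Cfsg.Agent.Lib.Helper83.elemAbelian_of_single_class N g hg1 hN'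
  have hcomm : ∀ a b : N, a * b = b * a := fun a b => hcm.is_comm.comm a b
  have hNn : N.Normal := inferInstance
  refine ⟨?_, ?_⟩
  · intro x hxN hx1
    obtain ⟨P, hP⟩ := Cfsg.Agent.Lib.Helper83.gagola_centralizer_sylow χ g hg1 hsupp N hN' hne
      hcomm p hNp x hxN hx1
    exact ⟨P, hP.symm⟩
  · intro μ hμ
    have hμ' : μ ≠ Cfsg.Agent.Lib.Helper83.trivChar N := by
      rintro rfl
      apply hμ
      funext n
      exact Cfsg.Agent.Lib.Helper83.trivChar_apply n
    obtain ⟨P, hP⟩ := Cfsg.Agent.Lib.Helper83.gagola_inertia_sylow χ g hg1 hsupp N hN' hne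
      hcomm p hNp hNn μ hμ'
    refine ⟨P, fun x => ?_⟩
    rw [hP x]
    constructor
    · intro h n n' hn'
      have h1 := congrFun h n
      rw [Cfsg.Agent.Lib.Helper85.conjFun_apply] at h1
      rw [← h1]
      exact congrArg _ (Subtype.ext hn')
    · intro h
      funext n
      rw [Cfsg.Agent.Lib.Helper85.conjFun_apply]
      exact h n ⟨x * n * x⁻¹, hNn.conj_mem n n.2 x⟩ rfl

end Cfsg.Agent.S4837
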