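import Cfsg.Statements.S4838
import Cfsg.Agent.Lib.Helper83.Gagola2

set_option autoImplicit false
open Cfsg

namespace Cfsg.Agent.S4838

/-- Let G be a finite group of order greater than 2 with an irreducible character χ nonzero on exactly two conjugacy classes, N the normal p-subgroup of elements where χ is nonzero, and P a Sylow p-subgroup of G. Then (a) for every x outside N the centralizer of x in G has the same order as the centralizer of xN in G/N; (b) the centre of P lies in N, and equals N exactly when P is normal in G; (c) N, viewed inside P, is a term of the upper central series of P. -/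
theorem result {G : Type*} [Group G] [Finite G] (hG : 2 < Nat.card G) (χ : Cfsg.IrrCharacter G) (hχ : Nat.card {C : ConjClasses G // ∃ g ∈ C.carrier, (χ : G → ℂ) g ≠ 0} = 2) (p : ℕ) [Fact p.Prime] (N : Subgroup G) [N.Normal] (hN : ∀ g : G, g ∈ N ↔ (χ : G → ℂ) g ≠ 0) (hNp : IsPGroup p N) (hN1 : N ≠ ⊥) (P : Sylow p G) :
    (∀ x : G, x ∉ N → Nat.card (Subgroup.centralizer ({x} : Set G)) = Nat.card (Subgroup.centralizer ({(x : G ⧸ N)} : Set (G ⧸ N)))) ∧
      ((Subgroup.center ↥(P : Subgroup G)).map (P : Subgroup G).subtype ≤ N ∧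
        ((Subgroup.center ↥(P : Subgroup G)).map (P : Subgroup G).subtype = N ↔ (P : Subgroup G).Normal)) ∧
      (∃ i : ℕ, Subgroup.upperCentralSeries ↥(P : Subgroup G) i = N.subgroupOf (P : Subgroup G)) := by
  classical
  haveI := Fintype.ofFinite G
  obtain ⟨g, hg1, hgχ, hsupp⟩ := Cfsg.Agent.Lib.Helper83.two_classes_extract χ hχ
  have hne := Cfsg.Agent.Lib.Helper83.gagola_ne_triv χ g hg1 hsupp hG
  have hN' : ∀ x, x ∈ N ↔ (x = 1 ∨ IsConj g x) := by
    intro x
    rw [hN x]
    constructor
    · exact hsupp x
    · rintro (rfl | h)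
      · exact Cfsg.Agent.Lib.Helper83.irr_degree_ne_zero χ
      · rw [Cfsg.Agent.Lib.Helper83.gagola_val χ g h]; exact hgχ
  obtain ⟨p', -, hcm, -⟩ := Cfsg.Agent.Lib.Helper83.elemAbelian_of_single_class N g hg1 hN'
  have hcomm : ∀ a b : N, a * b = b * a := fun a b => hcm.is_comm.comm a b
  have hNn : N.Normal := inferInstance
  have hgN : g ∈ N := (hN' g).2 (Or.inr (IsConj.refl g))
  have hNP : N ≤ (P : Subgroup G) := hNp.le_sylow_of_normal P
  have hbound := Cfsg.Agent.Lib.Helper83.gagola_card_centralizer_sylow χ g hg1 hgχ hsupp N hN' hne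
    hcomm p hNp P
  -- (b1)
  have hb1 : (Subgroup.center ↥(P : Subgroup G)).map (P : Subgroup G).subtype ≤ N := by
    rintro _ ⟨z, hz, rfl⟩
    by_contra hzN
    have h1 := hbound z hzN
    have h2 : Subgroup.centralizer ({z} : Set (P : Subgroup G)) = ⊤ := by
      rw [Subgroup.centralizer_eq_top_iff_subset]
      intro w hw
      rw [Set.mem_singleton_iff.1 hw]
      exact hz
    rw [h2, Subgroup.card_top] at h1
    have hPpos : 0 < Nat.card (P : Subgroup G) := Nat.card_pos
    have h3 : Nat.card N ≤ 1 := by
      by_contra h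
      have : 2 ≤ Nat.card N := by omega
      nlinarith
    exact hN1 (Subgroup.eq_bot_of_card_le N h3)
  refine ⟨?_, ⟨hb1, ?_⟩, ?_⟩
  · intro x hx
    exact Cfsg.Agent.Lib.Helper83.gagola_card_centralizer χ g hg1 hgχ hsupp N hN' hne x hx
  · constructor
    · intro hZ
      have hcent : ∀ x ∈ N, x ≠ 1 → (P : Subgroup G) = Subgroup.centralizer ({x} : Set G) := by
        intro x hxN hx1
        obtain ⟨P₁, hP₁⟩ := Cfsg.Agent.Lib.Helper83.gagola_centralizer_sylow χ g hg1 hsupp N hN'
          hne hcomm p hNp x hxN hx1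
        have hle : (P : Subgroup G) ≤ (P₁ : Subgroup G) := by
          rw [hP₁]
          intro w hw
          rw [Subgroup.mem_centralizer_iff]
          intro y hy
          rw [Set.mem_singleton_iff.1 hy]
          rw [← hZ] at hxN
          obtain ⟨z, hz, rfl⟩ := hxN
          have := (Subgroup.mem_center_iff.1 hz) ⟨w, hw⟩
          have h2 := congrArg Subtype.val this
          simpa using h2.symm
        have := P.is_maximal' P₁.isPGroup' hle
        rw [← hP₁, this]
      constructor
      intro n hn y
      have hx1 : y⁻¹ * g * y ≠ 1 := by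
        intro h
        apply hg1
        have : g = y * (y⁻¹ * g * y) * y⁻¹ := by group
        rw [this, h]; group
      have hxN : y⁻¹ * g * y ∈ N := by
        have := hNn.conj_mem g hgN y⁻¹
        rwa [inv_inv] at this
      have h1 := hcent _ hxN hx1
      have h2 := hcent g hgN hg1
      rw [h1] at hn
      rw [h2]
      rw [Subgroup.mem_centralizer_iff] at hn ⊢
      intro w hw
      rw [Set.mem_singleton_iff.1 hw]
      have h3 := hn _ rfl
      have h4 : g = y * (y⁻¹ * g * y) * y⁻¹ := by group
      calc g * (y * n * y⁻¹) = y * ((y⁻¹ * g * y) * n) * y⁻¹ := by group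
        _ = y * (n * (y⁻¹ * g * y)) * y⁻¹ := by rw [h3]
        _ = y * n * y⁻¹ * g := by group
    · intro hPn
      apply le_antisymm hb1
      haveI := hPn
      have hZn : ((Subgroup.center ↥(P : Subgroup G)).map (P : Subgroup G).subtype).Normal :=
        inferInstance
      have hPnt : Nontrivial (P : Subgroup G) :=
        ⟨⟨⟨g, hNP hgN⟩, 1, fun h => hg1 (congrArg Subtype.val h)⟩⟩
      have hcnt : Nontrivial (Subgroup.center ↥(P : Subgroup G)) := P.isPGroup'.center_nontrivial
      have hZ1 : (Subgroup.center ↥(P : Subgroup G)).map (P : Subgroup G).subtype ≠ ⊥ := by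
        intro h
        rw [(Subgroup.map_eq_bot_iff_of_injective _ (Subgroup.subtype_injective _))] at h
        rw [h] at hcnt
        exact not_nontrivial _ hcnt
      have hgZ := Cfsg.Agent.Lib.Helper83.gagola_minimal χ g hsupp _ hZ1
      intro n hn
      rcases (hN' n).1 hn with h | h
      · rw [h]; exact Subgroup.one_mem _
      · obtain ⟨c, hc⟩ := isConj_iff.1 h
        rw [← hc]
        exact hZn.conj_mem g hgZ c
  · haveI : Group.IsNilpotent (P : Subgroup G) := P.isPGroup'.isNilpotent
    apply Cfsg.Agent.Lib.Helper83.exists_upperCentralSeries_eq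
    intro z hz
    rw [Subgroup.mem_subgroupOf] at hz
    rw [Nat.card_congr (Subgroup.subgroupOfEquivOfLe hNP).toEquiv]
    exact hbound z hz

end Cfsg.Agent.S4838
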