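import Cfsg.Statements.S4839
import Cfsg.Agent.S4838
import Cfsg.Agent.Lib.Helper32.GagGlue

set_option autoImplicit false
open Cfsg

namespace Cfsg.Agent.S4839

/-- Let G be a finite group of order greater than 2 with an irreducible character χ nonzero on exactly two conjugacy classes, and let N be the normal p-subgroup of elements where χ is nonzero. Then N is the whole p-core O_p(G) if and only if G is a doubly transitive Frobenius group with kernel N: G has a Frobenius complement H whose Frobenius kernel is N and whose order is one less than that of N. -/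
theorem result {G : Type*} [Group G] [Finite G] (hG : 2 < Nat.card G) (χ : Cfsg.IrrCharacter G) (hχ : Nat.card {C : ConjClasses G // ∃ g ∈ C.carrier, (χ : G → ℂ) g ≠ 0} = 2) (p : ℕ) [Fact p.Prime] (N : Subgroup G) [N.Normal] (hN : ∀ g : G, g ∈ N ↔ (χ : G → ℂ) g ≠ 0) (hNp : IsPGroup p N) (hN1 : N ≠ ⊥) :
    N = Cfsg.pCore p G ↔ ∃ H : Subgroup G, Cfsg.IsFrobeniusComplement H ∧ Cfsg.frobeniusKernel H = (N : Set G) ∧ Nat.card H + 1 = Nat.card N := by
  classical
  obtain ⟨g, hg1, hgχ, hsupp⟩ := Cfsg.Agent.Lib.Helper83.two_classes_extract χ hχ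
  have hN' : ∀ x, x ∈ N → (x = 1 ∨ IsConj g x) := fun x hx => hsupp x ((hN x).1 hx)
  have hconj : ∀ x ∈ N, ∀ y ∈ N, x ≠ 1 → y ≠ 1 → IsConj x y := by
    intro x hx y hy hx1 hy1
    rcases hN' x hx with h | h
    · exact absurd h hx1
    · rcases hN' y hy with h' | h'
      · exact absurd h' hy1
      · exact h.symm.trans h'
  obtain ⟨P⟩ := (inferInstance : Nonempty (Sylow p G))
  have ha := (Cfsg.Agent.S4838.result hG χ hχ p N hN hNp hN1 P).1
  have hcam := Cfsg.Agent.Lib.Helper32.GagSpec.camina_of_card N ha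
  have hcp : ∀ x ∈ N, x ≠ 1 → IsPGroup p (Subgroup.centralizer ({x} : Set G)) :=
    fun x hx hx1 => Cfsg.Agent.Lib.Helper32.GagSpec.centralizer_isPGroup N hNp hcam x hx hx1
  have hidx : ∀ x ∈ N, x ≠ 1 → (Subgroup.centralizer ({x} : Set G)).index + 1 = Nat.card N :=
    fun x hx hx1 => Cfsg.Agent.Lib.Helper32.GagSpec.index_centralizer N hconj x hx hx1
  have hcomm := Cfsg.Agent.Lib.Helper32.GagSpec.comm_of_conj N hNp hconj
  have hpow := Cfsg.Agent.Lib.Helper32.GagSpec.pow_p_of_conj N hNp hconj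
  constructor
  · intro hO
    have hhall : ¬ p ∣ N.index := by
      by_cases hp2 : p = 2
      · subst hp2
        exact Cfsg.Agent.Lib.Helper32.GagGlue.even_kill N hNp hN1 hcam hcp
          (fun n hn => by have := hpow n hn; rwa [pow_two] at this) hO
      · exact Cfsg.Agent.Lib.Helper32.GagGlue.odd_kill hp2 N hNp hN1 hcam hcp hcomm hidx hO
    exact Cfsg.Agent.Lib.Helper32.GagGlue.frobenius_glue hG N hNp hN1 hcomm hcp hidx hhall
  · rintro ⟨H, hH, hker, _⟩
    exact Cfsg.Agent.Lib.Helper32.GagSpec.pCore_eq_of_frobenius N hNp hN1 H hH hker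

end Cfsg.Agent.S4839
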