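import Cfsg.Statements.S4840
import Cfsg.Agent.S4835
import Cfsg.Agent.S4837
import Cfsg.Agent.Lib.Helper01.PCore
import Cfsg.Agent.Lib.Helper83.GSMain
import Cfsg.Agent.Lib.Helper27.GSTop

set_option autoImplicit false
open Cfsg

namespace Cfsg.Agent.S4840

/-- Let G be a finite solvable group of order greater than 2 with an irreducible character nonzero on exactly two conjugacy classes. Then there is exactly one prime p with O_p(G) ≠ 1, and the quotient G/O_p(G) has a normal p-complement and commutative Sylow p-subgroups. -/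
theorem result {G : Type*} [Group G] [Finite G] [hs : Group.IsSolvable G] (hG : 2 < Nat.card G) (χ : Cfsg.IrrCharacter G) (hχ : Nat.card {C : ConjClasses G // ∃ g ∈ C.carrier, (χ : G → ℂ) g ≠ 0} = 2) :
    ∃ p : ℕ, p.Prime ∧ (∀ q : ℕ, q.Prime → (Cfsg.pCore q G ≠ ⊥ ↔ q = p)) ∧
      Cfsg.HasNormalPComplement p (G ⧸ Cfsg.pCore p G) ∧ ∀ Q : Sylow p (G ⧸ Cfsg.pCore p G), IsMulCommutative (Q : Subgroup (G ⧸ Cfsg.pCore p G)) := by
  obtain ⟨N, hNn, hN1, hNmin, ⟨p, hp, hel⟩, hNχ, hconj⟩ := Cfsg.Agent.S4835.result hG χ hχ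
  have := hNn
  have : Fact p.Prime := ⟨hp⟩
  have hNp : IsPGroup p N := by
    rintro ⟨a, ha⟩
    refine ⟨1, ?_⟩
    apply Subtype.ext
    simpa using hel.2 a ha
  have hsyl := (Cfsg.Agent.S4837.result hG χ hχ p N (fun g => (hNχ g).symm) hNp hN1).1
  refine ⟨p, hp, ?_, ?_⟩
  · intro q hq
    constructor
    · intro hne
      have : Fact q.Prime := ⟨hq⟩
      have hle : N ≤ Cfsg.pCore q G :=
        hNmin _ (Cfsg.Agent.Lib.Helper01.pCore_normal q) hne
      have hNq : IsPGroup q N := (Cfsg.Agent.Lib.Helper01.pCore_isPGroup q).to_le hle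
      -- a nontrivial group cannot be both a `p`-group and a `q`-group unless `p = q`
      obtain ⟨a, ha⟩ := hNp.exists_card_eq
      obtain ⟨b, hb⟩ := hNq.exists_card_eq
      have hcard1 : Nat.card N ≠ 1 := by
        intro h1
        exact hN1 (Subgroup.card_eq_one.1 h1)
      have ha0 : a ≠ 0 := by
        rintro rfl
        exact hcard1 (by rw [ha, pow_zero])
      have hdvd : p ∣ q ^ b := by
        rw [← hb, ha]
        exact dvd_pow_self p ha0
      have hpq : p ∣ q := hp.dvd_of_dvd_pow hdvd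
      exact ((Nat.prime_dvd_prime_iff_eq hp hq).1 hpq).symm
    · rintro rfl
      intro hbot
      apply hN1
      have hle : N ≤ Cfsg.pCore q G := Cfsg.Agent.Lib.Helper01.le_pCore hNn hNp
      rw [hbot] at hle
      exact le_bot_iff.1 hle
  · obtain ⟨ρ, hinj, htrans, hstab⟩ :=
      Cfsg.Agent.Lib.Helper27.GS.exists_action p N hN1 hconj hsyl
    have hcomm : IsMulCommutative N := hel.1
    let _ : CommGroup N :=
      { (inferInstance : Group N) with mul_comm := fun a b => mul_comm' a b }
    have hnt : Nontrivial N := (Subgroup.nontrivial_iff_ne_bot N).2 hN1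
    have hVp : ∀ v : N, v ^ p = 1 := by
      rintro ⟨a, ha⟩
      apply Subtype.ext
      simpa using hel.2 a ha
    have hsolq : Group.IsSolvable (G ⧸ Cfsg.pCore p G) := inferInstance
    exact Cfsg.Agent.Lib.Helper83.GS.main_abstract hsolq p hNp hVp ρ hinj htrans hstab

end Cfsg.Agent.S4840
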