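import Cfsg.Statements.S4859
import Cfsg.Agent.Lib.Helper05.CharBasic
import Cfsg.Agent.Lib.Helper83.SecondOrth
import Cfsg.Agent.Lib.Helper84.FrobSchur

set_option autoImplicit false
open Cfsg

namespace Cfsg.Agent.S4859

theorem not_square {G : Type*} [Group G] [Finite G] (p : ℕ) [Fact p.Prime] (hp : p ≠ 2) (x : G)
    (hx : ∃ k : ℕ, orderOf x = p ^ k)
    (heven : Even (Nat.card (Subgroup.centralizer ({x} : Set G)))) (y : G)
    (hy : y ∈ Subgroup.centralizer ({x} : Set G)) (hy2 : ∃ k : ℕ, orderOf y = 2 ^ k)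
    (hmax : ∀ z ∈ Subgroup.centralizer ({x} : Set G), (∃ k : ℕ, orderOf z = 2 ^ k) →
      orderOf z ≤ orderOf y) : ¬ ∃ u : G, u * u = x * y := by
  obtain ⟨k, hk⟩ := hx
  obtain ⟨l, hl⟩ := hy2
  have hpp : p.Prime := Fact.out
  have hxy : Commute x y := by
    have := (Subgroup.mem_centralizer_iff.mp hy) x (Set.mem_singleton x)
    exact this
  -- the order of y is at least two
  have hl1 : 1 ≤ l := by
    have : Fact (Nat.Prime 2) := ⟨Nat.prime_two⟩
    obtain ⟨z, hz⟩ := exists_prime_orderOf_dvd_card' (G := ↥(Subgroup.centralizer ({x} : Set G))) 2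
      heven.two_dvd
    have hz' : orderOf (z : G) = 2 := by rw [Subgroup.orderOf_coe, hz]
    have := hmax (z : G) z.2 ⟨1, by rw [hz', pow_one]⟩
    rw [hz', hl] at this
    by_contra hcon
    have : l = 0 := by omega
    subst this
    simp at this
  have hcop : Nat.Coprime (p ^ k) (2 ^ l) := by
    apply Nat.Coprime.pow
    rw [Nat.coprime_primes hpp Nat.prime_two]
    exact hp
  rintro ⟨u, hu⟩
  have hux : Commute u (x * y) := by
    rw [← hu]
    exact (Commute.refl u).mul_right (Commute.refl u)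
  have hpowx : (x * y) ^ (2 ^ l) = x ^ (2 ^ l) := by
    rw [hxy.mul_pow, ← hl, pow_orderOf_eq_one, mul_one]
  have hpowy : (x * y) ^ (p ^ k) = y ^ (p ^ k) := by
    rw [hxy.mul_pow, ← hk, pow_orderOf_eq_one, one_mul]
  obtain ⟨m, hm⟩ := exists_pow_eq_self_of_coprime (x := x) (n := 2 ^ l) (by rw [hk]; exact hcop.symm)
  obtain ⟨m', hm'⟩ := exists_pow_eq_self_of_coprime (x := y) (n := p ^ k) (by rw [hl]; exact hcop)
  have hucx : Commute u x := by
    rw [← hm, ← hpowx]
    exact (hux.pow_right _).pow_right _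
  set v := (u ^ (p ^ k)) ^ m' with hv
  have hvv : v * v = y := by
    rw [hv, ← pow_two, ← pow_mul, ← pow_mul,
      show p ^ k * (m' * 2) = 2 * p ^ k * m' by ring, pow_mul, pow_mul,
      pow_two, hu, hpowy, hm']
  have hvx : v ∈ Subgroup.centralizer ({x} : Set G) := by
    rw [Subgroup.mem_centralizer_iff]
    intro h hh
    rw [Set.mem_singleton_iff] at hh
    subst hh
    exact (((hucx.pow_left _).pow_left _).eq).symm
  have hdvd1 : orderOf y ∣ orderOf v := by
    apply orderOf_dvd_of_pow_eq_one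
    rw [← hvv, ← pow_two, ← pow_mul, mul_comm, pow_mul, pow_orderOf_eq_one, one_pow]
  have hv2 : v ^ (2 ^ (l + 1)) = 1 := by
    rw [pow_succ, mul_comm, pow_mul, pow_two, hvv, ← hl, pow_orderOf_eq_one]
  have hvpos : 0 < orderOf v := orderOf_pos v
  obtain ⟨j, -, hj⟩ := (Nat.dvd_prime_pow Nat.prime_two).1 (orderOf_dvd_of_pow_eq_one hv2)
  have hle := hmax v hvx ⟨j, hj⟩
  have heq : orderOf v = 2 ^ l := by
    rw [← hl]
    exact Nat.le_antisymm hle (Nat.le_of_dvd hvpos hdvd1)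
  have hy1 : y ^ (2 ^ (l - 1)) = 1 := by
    rw [← hvv, ← pow_two, ← pow_mul, ← pow_succ', Nat.sub_add_cancel hl1, ← heq,
      pow_orderOf_eq_one]
  have := orderOf_dvd_of_pow_eq_one hy1
  rw [hl, Nat.pow_dvd_pow_iff_le_right (by norm_num)] at this
  omega

theorem exists_real_char {G : Type*} [Group G] [Finite G] (w : G)
    (hw : ¬ ∃ u : G, u * u = w) :
    ∃ χ : Cfsg.IrrCharacter G, ¬ ((χ : G → ℂ) = fun _ => (1 : ℂ)) ∧
      (∀ g : G, ((χ : G → ℂ) g).im = 0) ∧ (χ : G → ℂ) w ≠ 0 := by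
  classical
  have : Fintype G := Fintype.ofFinite G
  have : Fintype (Cfsg.IrrCharacter G) := Fintype.ofFinite _
  have hG : (Fintype.card G : ℂ) ≠ 0 := by simp
  have hcount := Cfsg.Agent.Lib.Helper84.root_count_of_regular (G := G)
    (by rw [finsum_eq_sum_of_fintype, Cfsg.Agent.Lib.Helper83.sum_irr_degree_mul, if_pos rfl,
      Nat.card_eq_fintype_card])
    (by
      intro u hu
      rw [finsum_eq_sum_of_fintype, Cfsg.Agent.Lib.Helper83.sum_irr_degree_mul, if_neg hu]) w
  have hempty : IsEmpty {u : G // u * u = w} := ⟨fun u => hw ⟨u.1, u.2⟩⟩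
  rw [Nat.card_of_isEmpty, Nat.cast_zero, finsum_eq_sum_of_fintype] at hcount
  let χ₀ : Cfsg.IrrCharacter G := ⟨fun _ => (1 : ℂ), Cfsg.Agent.Lib.Helper05.isIrrCharacter_one⟩
  rw [← Finset.add_sum_erase _ _ (Finset.mem_univ χ₀)] at hcount
  have h0 : ((Nat.card G : ℂ)⁻¹ * ∑ᶠ u : G, (χ₀ : G → ℂ) (u * u)) * (χ₀ : G → ℂ) w = 1 := by
    rw [finsum_eq_sum_of_fintype]
    simp only [χ₀, Finset.sum_const, Finset.card_univ, nsmul_eq_mul, mul_one,
      Nat.card_eq_fintype_card]
    exact inv_mul_cancel₀ hG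
  rw [h0] at hcount
  have hne : ∑ χ ∈ Finset.univ.erase χ₀,
      ((Nat.card G : ℂ)⁻¹ * ∑ᶠ u : G, (χ : G → ℂ) (u * u)) * (χ : G → ℂ) w ≠ 0 := by
    intro h
    rw [h, add_zero] at hcount
    exact zero_ne_one hcount
  obtain ⟨χ, hχmem, hχ⟩ := Finset.exists_ne_zero_of_sum_ne_zero hne
  refine ⟨χ, ?_, ?_, right_ne_zero_of_mul hχ⟩
  · intro h
    apply Finset.ne_of_mem_erase hχmem
    exact Subtype.ext h
  · have h1 := left_ne_zero_of_mul hχ
    have h2 := right_ne_zero_of_mul h1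
    rw [finsum_eq_sum_of_fintype] at h2
    exact Cfsg.Agent.Lib.Helper84.irr_real_of_sum_sq_ne_zero χ.1 χ.2 h2

/-- Let p be an odd prime, G a finite group and x an element of G whose order is a power of p (possibly 1) and whose centralizer has even order. Let y be a 2-element of the centralizer of x whose order is largest among the 2-elements of that centralizer. Then x * y is not a square in G, and some non-principal real-valued irreducible character of G does not vanish at x * y. -/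
theorem result {G : Type*} [Group G] [Finite G] (p : ℕ) [Fact p.Prime] (hp : p ≠ 2) (x : G) (hx : ∃ k : ℕ, orderOf x = p ^ k) (heven : Even (Nat.card (Subgroup.centralizer ({x} : Set G)))) (y : G) (hy : y ∈ Subgroup.centralizer ({x} : Set G)) (hy2 : ∃ k : ℕ, orderOf y = 2 ^ k) (hmax : ∀ z ∈ Subgroup.centralizer ({x} : Set G), (∃ k : ℕ, orderOf z = 2 ^ k) → orderOf z ≤ orderOf y) : (¬ ∃ u : G, u * u = x * y) ∧ ∃ χ : Cfsg.IrrCharacter G, ¬ ((χ : G → ℂ) = fun _ => (1 : ℂ)) ∧ (∀ g : G, ((χ : G → ℂ) g).im = 0) ∧ (χ : G → ℂ) (x * y) ≠ 0 := by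
  have h1 := not_square p hp x hx heven y hy hy2 hmax
  exact ⟨h1, exists_real_char (x * y) h1⟩

end Cfsg.Agent.S4859
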