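import Cfsg.Statements.S4866
import Cfsg.Agent.Lib.Helper84.Brauer
import Cfsg.Agent.Lib.Helper84.OrbitCount
import Cfsg.Agent.Lib.Helper84.NormalAction

set_option autoImplicit false
open Cfsg

namespace Cfsg.Agent.S4866

open Cfsg.Agent.Lib.Helper84
open scoped ComplexConjugate

section

variable {G : Type*} [Group G] [Finite G] (K : Subgroup G) [K.Normal]

theorem conjNormal_inv_apply_coe (g : G) (k : K) :
    (((MulAut.conjNormal g⁻¹ : MulAut K) k : K) : G) = g⁻¹ * k * g := by
  rw [MulAut.conjNormal_apply, inv_inv]

theorem irr_classFun (θ : Cfsg.IrrCharacter K) {a b : K} (h : IsConj a b) :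
    (θ : K → ℂ) a = (θ : K → ℂ) b := by
  rw [isConj_iff] at h
  obtain ⟨c, rfl⟩ := h
  exact (Cfsg.Agent.Lib.Helper83.char_conj_eq (Cfsg.Agent.Lib.Helper83.IrrCharacter_isCharacter θ) a c).symm

theorem le_stabilizer_irr (θ : Cfsg.IrrCharacter K) :
    K ≤ (letI := irrAction K; MulAction.stabilizer G θ) := by
  letI := irrAction K
  intro g hg
  rw [MulAction.mem_stabilizer_iff]
  apply Subtype.ext
  funext k
  rw [irrAction_apply]
  apply irr_classFun
  rw [isConj_iff]
  refine ⟨⟨g, hg⟩, Subtype.ext ?_⟩
  simp [mul_assoc]

theorem le_stabilizer_class (C : ConjClasses K) :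
    K ≤ (letI := classAction K; MulAction.stabilizer G C) := by
  letI := classAction K
  intro g hg
  rw [MulAction.mem_stabilizer_iff]
  obtain ⟨k, rfl⟩ := ConjClasses.exists_rep C
  rw [classAction_mk, ConjClasses.mk_eq_mk_iff_isConj, isConj_comm, isConj_iff]
  refine ⟨⟨g, hg⟩, Subtype.ext ?_⟩
  simp [MulAut.conjNormal_apply]

theorem odd_orbit_of_le_stabilizer {X : Type*} [MulAction G X] (hodd : Odd K.index) (x : X)
    (h : K ≤ MulAction.stabilizer G x) : Odd (Nat.card (MulAction.orbit G x)) := by
  have h1 : (MulAction.stabilizer G x).index ∣ K.index := Subgroup.index_dvd_of_le h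
  rw [MulAction.index_stabilizer] at h1
  rw [Nat.card_coe_set_eq]
  exact Odd.of_dvd_nat hodd h1

end

/-- Let K be a normal subgroup of odd index in the finite group G. Then G has as many orbits on the real-valued irreducible complex characters of K (acting by conjugation) as it has orbits on the conjugacy classes of K that are real in K; equivalently, the number of G-orbits of real-valued irreducible characters of K equals the number of G-conjugacy classes of elements of K that are conjugate in K to their inverses. -/
theorem result {G : Type*} [Group G] [Finite G] (K : Subgroup G) [K.Normal] (hodd : Odd K.index) : Nat.card (Quot (fun θ η : {θ : Cfsg.IrrCharacter ↥K // (∀ k : ↥K, ((θ : ↥K → ℂ) k).im = 0)} => ∃ g : G, ∀ k k' : ↥K, (k' : G) = g * (k : G) * g⁻¹ → (η.1 : ↥K → ℂ) k' = (θ.1 : ↥K → ℂ) k)) = Nat.card (Quot (fun x y : {x : ↥K // IsConj x x⁻¹} => ∃ g : G, (y.1 : G) = g * x.1 * g⁻¹)) := by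
  classical
  letI actX : MulAction G (Cfsg.IrrCharacter K) := irrAction K
  letI actY : MulAction G (ConjClasses K) := classAction K
  have hcommX : ∀ (g : G) (θ : Cfsg.IrrCharacter K), irrConj (g • θ) = g • irrConj θ := by
    intro g θ
    rfl
  have hcommY : ∀ (g : G) (C : ConjClasses K), classInv (g • C) = g • classInv C := by
    intro g C
    obtain ⟨k, rfl⟩ := ConjClasses.exists_rep C
    rw [classAction_mk, classInv_mk, classInv_mk, classAction_mk, map_inv]
  have hX := card_mul_card_quot_fixed (Γ := G) (X := Cfsg.IrrCharacter K) irrConj irrConj_involutive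
    hcommX (fun θ => odd_orbit_of_le_stabilizer K hodd θ (le_stabilizer_irr K θ))
  have hY := card_mul_card_quot_fixed (Γ := G) (X := ConjClasses K) classInv classInv_involutive
    hcommY (fun C => odd_orbit_of_le_stabilizer K hodd C (le_stabilizer_class K C))
  -- Brauer, termwise
  have hB : ∀ g : G, Nat.card {θ : Cfsg.IrrCharacter K // g • θ = irrConj θ} =
      Nat.card {C : ConjClasses K // g • C = classInv C} := by
    intro g
    have key := brauer_pair (G := K) (fun θ => irrConj (g • θ))
      ((MulAction.toPerm g).trans (classInv_involutive (K := K)).toPerm) ?_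
    · have e1 : Nat.card {θ : Cfsg.IrrCharacter K // g • θ = irrConj θ} =
          Nat.card {θ : Cfsg.IrrCharacter K // irrConj (g • θ) = θ} := by
        apply Nat.card_congr
        refine Equiv.subtypeEquivRight fun θ => ?_
        constructor
        · intro h
          rw [h, irrConj_involutive]
        · intro h
          rw [← h, irrConj_involutive, h]
      have e2 : Nat.card {C : ConjClasses K // g • C = classInv C} =
          Nat.card {C : ConjClasses K //
            ((MulAction.toPerm g).trans (classInv_involutive (K := K)).toPerm) C = C} := by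
        apply Nat.card_congr
        refine Equiv.subtypeEquivRight fun C => ?_
        change g • C = classInv C ↔ classInv (g • C) = C
        constructor
        · intro h
          rw [h, classInv_involutive]
        · intro h
          rw [← h, classInv_involutive, h]
      rw [e1, e2]
      exact key
    · intro θ k k' hk
      change ConjClasses.mk k' = classInv (g • ConjClasses.mk k) at hk
      rw [classAction_mk, classInv_mk, ConjClasses.mk_eq_mk_iff_isConj] at hk
      change conj (((g • θ : Cfsg.IrrCharacter K) : K → ℂ) k') = (θ : K → ℂ) k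
      rw [irr_classFun K (g • θ) hk, irrAction_apply, map_inv (MulAut.conjNormal g⁻¹ : MulAut K),
        map_inv (MulAut.conjNormal : G →* MulAut K), MulAut.inv_apply_self,
        Cfsg.Agent.Lib.Helper83.char_inv (Cfsg.Agent.Lib.Helper83.IrrCharacter_isCharacter θ),
        Complex.conj_conj]
  -- the two counts agree
  have hcount : Nat.card (Quot (fun x y : {x : Cfsg.IrrCharacter K // irrConj x = x} =>
        ∃ g : G, g • x.1 = y.1)) =
      Nat.card (Quot (fun x y : {x : ConjClasses K // classInv x = x} => ∃ g : G, g • x.1 = y.1)) := by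
    have hG : 0 < Nat.card G := Nat.card_pos
    apply Nat.eq_of_mul_eq_mul_right hG
    rw [hX, hY]
    exact finsum_congr hB
  -- left side
  have hL : Nat.card (Quot (fun θ η : {θ : Cfsg.IrrCharacter ↥K // (∀ k : ↥K, ((θ : ↥K → ℂ) k).im = 0)} =>
        ∃ g : G, ∀ k k' : ↥K, (k' : G) = g * (k : G) * g⁻¹ → (η.1 : ↥K → ℂ) k' = (θ.1 : ↥K → ℂ) k)) =
      Nat.card (Quot (fun x y : {x : Cfsg.IrrCharacter K // irrConj x = x} =>
        ∃ g : G, g • x.1 = y.1)) := by
    have hreal : ∀ θ : Cfsg.IrrCharacter K,
        (∀ k : ↥K, ((θ : ↥K → ℂ) k).im = 0) ↔ irrConj θ = θ := by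
      intro θ
      constructor
      · intro h
        apply Subtype.ext
        funext k
        rw [irrConj_apply]
        exact Complex.conj_eq_iff_im.mpr (h k)
      · intro h k
        have := congrFun (congrArg Subtype.val h) k
        rw [irrConj_apply] at this
        exact Complex.conj_eq_iff_im.mp this
    apply card_quot_congr _ _ (smulRel_equivalence irrConj)
      (fun θ => (⟨θ.1, (hreal θ.1).mp θ.2⟩ : {x : Cfsg.IrrCharacter K // irrConj x = x}))
    · rintro ⟨θ, hθ⟩
      exact ⟨⟨θ, (hreal θ).mpr hθ⟩, rfl⟩
    · rintro ⟨θ, hθ⟩ ⟨η, hη⟩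
      change (∃ g : G, ∀ k k' : ↥K, (k' : G) = g * (k : G) * g⁻¹ → (η : ↥K → ℂ) k' = (θ : ↥K → ℂ) k) ↔
        ∃ g : G, g • θ = η
      constructor
      · rintro ⟨g, hg⟩
        refine ⟨g, Subtype.ext ?_⟩
        funext k'
        rw [irrAction_apply]
        refine (hg _ k' ?_).symm
        rw [conjNormal_inv_apply_coe]
        group
      · rintro ⟨g, rfl⟩
        refine ⟨g, fun k k' hk => ?_⟩
        rw [irrAction_apply]
        have : (MulAut.conjNormal g⁻¹ : MulAut K) k' = k := by
          apply Subtype.ext
          rw [conjNormal_inv_apply_coe, hk]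
          group
        rw [this]
  -- right side
  have hR : Nat.card (Quot (fun x y : {x : ↥K // IsConj x x⁻¹} => ∃ g : G, (y.1 : G) = g * x.1 * g⁻¹)) =
      Nat.card (Quot (fun x y : {x : ConjClasses K // classInv x = x} => ∃ g : G, g • x.1 = y.1)) := by
    apply card_quot_congr _ _ (smulRel_equivalence classInv)
      (fun x => (⟨ConjClasses.mk x.1, by
        rw [classInv_mk, ConjClasses.mk_eq_mk_iff_isConj]
        exact x.2.symm⟩ : {x : ConjClasses K // classInv x = x}))
    · rintro ⟨C, hC⟩
      obtain ⟨k, rfl⟩ := ConjClasses.exists_rep C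
      rw [classInv_mk, ConjClasses.mk_eq_mk_iff_isConj] at hC
      exact ⟨⟨k, hC.symm⟩, rfl⟩
    · rintro ⟨a, ha⟩ ⟨b, hb⟩
      change (∃ g : G, (b : G) = g * a * g⁻¹) ↔ ∃ g : G, g • ConjClasses.mk a = ConjClasses.mk b
      constructor
      · rintro ⟨g, hg⟩
        refine ⟨g, ?_⟩
        rw [classAction_mk]
        congr 1
        apply Subtype.ext
        rw [MulAut.conjNormal_apply, hg]
      · rintro ⟨g, hg⟩
        rw [classAction_mk, ConjClasses.mk_eq_mk_iff_isConj, isConj_iff] at hg
        obtain ⟨c, hc⟩ := hg
        refine ⟨c * g, ?_⟩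
        have := congrArg Subtype.val hc
        simp only [Subgroup.coe_mul, MulAut.conjNormal_apply, Subgroup.coe_inv] at this
        rw [← this]
        group
  rw [hL, hR, hcount]

end Cfsg.Agent.S4866
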