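import Cfsg.Statements.S4870
import Cfsg.Agent.Lib.Helper84.CosetAvg
import Cfsg.Agent.Lib.Helper84.CliffordInj
import Cfsg.Agent.Lib.Helper85.CliffordCorr

set_option autoImplicit false
open Cfsg

namespace Cfsg.Agent.S4870

open Cfsg.Agent.Lib.Helper84

section Aux

universe u

variable {G : Type u} [Group G] [Fintype G]

/-- The number of linear characters of `G` with a prescribed restriction to a subgroup `I` is at
most the index of `I`. -/
theorem card_linear_with_restriction_le [Fintype (IrrCharacter G)] [DecidableEq (IrrCharacter G)]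
    (I : Subgroup G) [Fintype I] (κ : I → ℂ)
    (S : Finset (IrrCharacter G))
    (hS : ∀ lam ∈ S, (lam : G → ℂ) 1 = 1 ∧ (fun t : I => (lam : G → ℂ) t) = κ) :
    S.card ≤ I.index := by
  classical
  rcases S.eq_empty_or_nonempty with h0 | ⟨lam0, hlam0⟩
  · rw [h0]; exact Nat.zero_le _
  have hκc : IsCharacter I κ := by
    rw [← (hS lam0 hlam0).2]
    exact Cfsg.Agent.Lib.Helper83.isCharacter_restrict I
      (Cfsg.Agent.Lib.Helper83.IrrCharacter_isCharacter lam0)
  have hκ1 : κ 1 = 1 := by
    rw [← (hS lam0 hlam0).2]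
    exact (hS lam0 hlam0).1
  have hκirr : IsIrrCharacter I κ := Cfsg.Agent.Lib.Helper83.isIrrCharacter_of_deg_one hκc hκ1
  have hΘ : IsCharacter G (indFun I κ) := Cfsg.Agent.Lib.Helper34.isCharacter_indFun I hκc
  have hdec := Cfsg.Agent.Lib.Helper83.char_eq_sum_irrMult hΘ
  have h1 := congrFun hdec 1
  rw [Cfsg.Agent.Lib.Helper85.indFun_apply_one, hκ1, mul_one, Finset.sum_apply] at h1
  have h2 : (I.index : ℂ) = ((∑ χ : IrrCharacter G,
      Cfsg.Agent.Lib.Helper83.irrMult (indFun I κ) χ * charDegree (χ : G → ℂ) : ℕ) : ℂ) := by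
    rw [h1]
    push_cast
    refine Finset.sum_congr rfl fun χ _ => ?_
    rw [Pi.smul_apply, smul_eq_mul,
      Cfsg.Agent.Lib.Helper83.charDegree_cast (Cfsg.Agent.Lib.Helper83.IrrCharacter_isCharacter χ)]
  have h3 : I.index = ∑ χ : IrrCharacter G,
      Cfsg.Agent.Lib.Helper83.irrMult (indFun I κ) χ * charDegree (χ : G → ℂ) := by
    exact_mod_cast h2
  rw [h3]
  calc S.card = ∑ χ ∈ S, 1 := by simp
    _ ≤ ∑ χ ∈ S, Cfsg.Agent.Lib.Helper83.irrMult (indFun I κ) χ * charDegree (χ : G → ℂ) := by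
        refine Finset.sum_le_sum fun lam hlam => ?_
        obtain ⟨hl1, hlκ⟩ := hS lam hlam
        have hm : (Cfsg.Agent.Lib.Helper83.irrMult (indFun I κ) lam : ℂ) = 1 := by
          rw [Cfsg.Agent.Lib.Helper83.irrMult_cast hΘ,
            Cfsg.Agent.Lib.Helper34.classInner_indFun_left I κ _
              (Cfsg.Agent.Lib.Helper83.isClassFunction_irr lam), hlκ,
            Cfsg.Agent.Lib.Helper83.irr_inner_self ⟨κ, hκirr⟩]
        have hm' : Cfsg.Agent.Lib.Helper83.irrMult (indFun I κ) lam = 1 := by exact_mod_cast hm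
        have hd : (charDegree (lam : G → ℂ) : ℂ) = 1 := by
          rw [Cfsg.Agent.Lib.Helper83.charDegree_cast
            (Cfsg.Agent.Lib.Helper83.IrrCharacter_isCharacter lam), hl1]
        have hd' : charDegree (lam : G → ℂ) = 1 := by exact_mod_cast hd
        rw [hm', hd']
    _ ≤ ∑ χ : IrrCharacter G,
          Cfsg.Agent.Lib.Helper83.irrMult (indFun I κ) χ * charDegree (χ : G → ℂ) :=
        Finset.sum_le_sum_of_subset (Finset.subset_univ S)

end Aux

/-- Let G be a finite group with a non-abelian minimal normal subgroup N, and let φ be an irreducible complex character of N with stabilizer I in G (the elements g with φ(g n g⁻¹) = φ(n) for all n ∈ N) such that φ extends to an irreducible character of I. Put d = φ(1)·[G : I]. Then the number of linear characters of G is at most [G : I] times the number of irreducible characters of G of degree d. -/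
theorem result {G : Type*} [Group G] [Finite G] (N : Subgroup G) (hN : N.Normal) (hN1 : N ≠ ⊥) (hmin : ∀ M : Subgroup G, M.Normal → M ≤ N → M = ⊥ ∨ M = N) (hna : ¬ IsMulCommutative ↥N) (φ : Cfsg.IrrCharacter ↥N) (I : Subgroup G) (hI : ∀ g : G, g ∈ I ↔ ∀ n n' : ↥N, (n' : G) = g * (n : G) * g⁻¹ → (φ : ↥N → ℂ) n' = (φ : ↥N → ℂ) n) (hNI : N ≤ I) (hext : ∃ ψ : Cfsg.IrrCharacter ↥I, ∀ n : ↥N, (ψ : ↥I → ℂ) (Subgroup.inclusion hNI n) = (φ : ↥N → ℂ) n) : Nat.card {χ : Cfsg.IrrCharacter G // Cfsg.charDegree (χ : G → ℂ) = 1} ≤ I.index * Nat.card {χ : Cfsg.IrrCharacter G // Cfsg.charDegree (χ : G → ℂ) = Cfsg.charDegree (φ : ↥N → ℂ) * I.index} := by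
  classical
  have := hN
  have : Fintype G := Fintype.ofFinite _
  have : Fintype N := Fintype.ofFinite _
  have : Fintype I := Fintype.ofFinite _
  have : Fintype (IrrCharacter G) := Fintype.ofFinite _
  obtain ⟨ψ, hψ⟩ := hext
  have hφc := Cfsg.Agent.Lib.Helper83.IrrCharacter_isCharacter φ
  have hψc := Cfsg.Agent.Lib.Helper83.IrrCharacter_isCharacter ψ
  -- the stabilizer hypothesis in the shape of the library
  have hT : ∀ g : G, g ∈ I ↔ ∀ n : N, conjFun N g (φ : N → ℂ) n = (φ : N → ℂ) n := by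
    intro g
    rw [hI]
    constructor
    · intro h n
      exact h n ⟨g * n * g⁻¹, hN.conj_mem n n.2 g⟩ rfl
    · intro h n n' hn'
      have : n' = ⟨g * n * g⁻¹, hN.conj_mem n n.2 g⟩ := Subtype.ext hn'
      rw [this]
      exact h n
  -- N is perfect, so linear characters are trivial on N
  have hperf : N ≤ commutator G := by
    have hnorm : (⁅N, N⁆ : Subgroup G).Normal := inferInstance
    have hle : (⁅N, N⁆ : Subgroup G) ≤ N := Subgroup.commutator_le_left N N
    rcases hmin _ hnorm hle with h | h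
    · exfalso
      apply hna
      refine ⟨⟨fun a b => ?_⟩⟩
      have hab : (a : G) * (b : G) * (a : G)⁻¹ * (b : G)⁻¹ ∈ (⁅N, N⁆ : Subgroup G) :=
        Subgroup.commutator_mem_commutator a.2 b.2
      rw [h, Subgroup.mem_bot] at hab
      apply Subtype.ext
      have h2 : (a : G) * (b : G) = (b : G) * (a : G) := by
        have h3 := congrArg (fun x => x * (b : G) * (a : G)) hab
        simpa [mul_assoc] using h3
      exact h2
    · rw [← h, commutator_def]
      exact Subgroup.commutator_mono le_top le_top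
  have htriv : ∀ lam : IrrCharacter G, (lam : G → ℂ) 1 = 1 → ∀ n ∈ N, (lam : G → ℂ) n = 1 :=
    fun lam h1 n hn => Cfsg.Agent.Lib.Helper83.char_deg_one_commutator
      (Cfsg.Agent.Lib.Helper83.IrrCharacter_isCharacter lam) h1 (hperf hn)
  have hdeg1 : ∀ lam : IrrCharacter G, charDegree (lam : G → ℂ) = 1 → (lam : G → ℂ) 1 = 1 := by
    intro lam h
    rw [← Cfsg.Agent.Lib.Helper83.charDegree_cast
      (Cfsg.Agent.Lib.Helper83.IrrCharacter_isCharacter lam), h, Nat.cast_one]
  -- the restriction of ψ to N is φ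
  have hres : resFun N I hNI (ψ : I → ℂ) = (φ : N → ℂ) := funext hψ
  -- the twisted characters
  have hκc : ∀ lam : IrrCharacter G, IsCharacter I (fun t : I => (lam : G → ℂ) t) := fun lam =>
    Cfsg.Agent.Lib.Helper83.isCharacter_restrict I
      (Cfsg.Agent.Lib.Helper83.IrrCharacter_isCharacter lam)
  have htw : ∀ lam : IrrCharacter G, (lam : G → ℂ) 1 = 1 →
      IsIrrCharacter I ((ψ : I → ℂ) * fun t : I => (lam : G → ℂ) t) := fun lam h1 =>
    isIrrCharacter_mul_linear (hκc lam) h1 ψ.2
  have htwres : ∀ lam : IrrCharacter G, (lam : G → ℂ) 1 = 1 →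
      resFun N I hNI ((ψ : I → ℂ) * fun t : I => (lam : G → ℂ) t) = (φ : N → ℂ) := by
    intro lam h1
    funext n
    have h2 := congrFun hres n
    rw [resFun_apply] at h2 ⊢
    rw [Pi.mul_apply, h2]
    change (φ : N → ℂ) n * (lam : G → ℂ) (n : G) = _
    rw [htriv lam h1 n n.2, mul_one]
  have htwne : ∀ lam : IrrCharacter G, (lam : G → ℂ) 1 = 1 →
      classInner (resFun N I hNI ((ψ : I → ℂ) * fun t : I => (lam : G → ℂ) t))
        (φ : N → ℂ) ≠ 0 := by
    intro lam h1
    rw [htwres lam h1, Cfsg.Agent.Lib.Helper83.irr_inner_self φ]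
    exact one_ne_zero
  have hind : ∀ lam : IrrCharacter G, (lam : G → ℂ) 1 = 1 →
      IsIrrCharacter G (indFun I ((ψ : I → ℂ) * fun t : I => (lam : G → ℂ) t)) := fun lam h1 =>
    isIrrCharacter_indFun_inertia N I hNI φ.2 hT (htw lam h1) (htwne lam h1)
  have hinddeg : ∀ lam : IrrCharacter G, (lam : G → ℂ) 1 = 1 →
      charDegree (indFun I ((ψ : I → ℂ) * fun t : I => (lam : G → ℂ) t)) =
        charDegree (φ : N → ℂ) * I.index := by
    intro lam h1
    have h2 : ((charDegree (indFun I ((ψ : I → ℂ) * fun t : I => (lam : G → ℂ) t)) : ℕ) : ℂ) =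
        ((charDegree (φ : N → ℂ) * I.index : ℕ) : ℂ) := by
      rw [Cfsg.Agent.Lib.Helper83.charDegree_cast
        (Cfsg.Agent.Lib.Helper83.isCharacter_of_irr (hind lam h1)),
        Cfsg.Agent.Lib.Helper85.indFun_apply_one]
      push_cast
      rw [Cfsg.Agent.Lib.Helper83.charDegree_cast hφc]
      have h3 := congrFun (htwres lam h1) 1
      rw [resFun_apply] at h3
      have h4 : (⟨((1 : N) : G), hNI (1 : N).2⟩ : I) = 1 := rfl
      rw [h4] at h3
      rw [h3]
      ring
    exact_mod_cast h2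
  -- the map
  let F : {χ : IrrCharacter G // charDegree (χ : G → ℂ) = 1} →
      {χ : IrrCharacter G // charDegree (χ : G → ℂ) = charDegree (φ : N → ℂ) * I.index} :=
    fun lam => ⟨⟨_, hind lam.1 (hdeg1 lam.1 lam.2)⟩, hinddeg lam.1 (hdeg1 lam.1 lam.2)⟩
  -- fibres have constant restriction to I
  have hfib : ∀ lam lam' : {χ : IrrCharacter G // charDegree (χ : G → ℂ) = 1}, F lam = F lam' →
      (fun t : I => (lam.1 : G → ℂ) t) = fun t : I => (lam'.1 : G → ℂ) t := by
    intro lam lam' hF
    have h1 := hdeg1 lam.1 lam.2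
    have h1' := hdeg1 lam'.1 lam'.2
    have hF' : indFun I ((ψ : I → ℂ) * fun t : I => (lam.1 : G → ℂ) t) =
        indFun I ((ψ : I → ℂ) * fun t : I => (lam'.1 : G → ℂ) t) :=
      congrArg (fun x => (x.1 : G → ℂ)) hF
    have heq := indFun_inertia_injective N I hNI φ.2 hT (htw lam.1 h1) (htw lam'.1 h1')
      (htwne lam.1 h1) (htwne lam'.1 h1') hF'
    -- Gallagher in I over N
    have : Fintype (N.subgroupOf I) := Fintype.ofFinite _
    have hψN : IsIrrCharacter (N.subgroupOf I) (fun n : N.subgroupOf I => (ψ : I → ℂ) n) := by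
      have e1 : (fun n : N.subgroupOf I => (ψ : I → ℂ) n) =
          fun n : N.subgroupOf I => (φ : N → ℂ) (Subgroup.subgroupOfEquivOfLe hNI n) := by
        funext n
        rw [← hψ]
        rfl
      rw [e1]
      exact isIrrCharacter_comp_mulEquiv (Subgroup.subgroupOfEquivOfLe hNI) φ.2
    exact mul_linear_injective (N.subgroupOf I) hψc hψN (hκc lam.1) (hκc lam'.1) h1 h1'
      (fun n hn => htriv lam.1 h1 _ (Subgroup.mem_subgroupOf.mp hn))
      (fun n hn => htriv lam'.1 h1' _ (Subgroup.mem_subgroupOf.mp hn)) heq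
  -- counting
  rw [Nat.card_eq_fintype_card, Nat.card_eq_fintype_card]
  have hcount := Finset.card_le_mul_card_image (f := F) Finset.univ I.index (by
    intro χ _
    -- the fibre over χ
    rcases (Finset.univ.filter fun x => F x = χ).eq_empty_or_nonempty with h0 | ⟨lam0, hlam0⟩
    · rw [h0]; exact Nat.zero_le _
    have hF0 : F lam0 = χ := (Finset.mem_filter.mp hlam0).2
    have hinj : Function.Injective
        (Subtype.val : {χ : IrrCharacter G // charDegree (χ : G → ℂ) = 1} → IrrCharacter G) :=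
      Subtype.val_injective
    rw [← Finset.card_image_of_injective _ hinj]
    apply card_linear_with_restriction_le I (fun t : I => (lam0.1 : G → ℂ) t)
    intro lam hlam
    obtain ⟨lam', hlam', rfl⟩ := Finset.mem_image.mp hlam
    have hF' : F lam' = χ := (Finset.mem_filter.mp hlam').2
    exact ⟨hdeg1 lam'.1 lam'.2, hfib lam' lam0 (hF'.trans hF0.symm)⟩)
  calc Fintype.card {χ : IrrCharacter G // charDegree (χ : G → ℂ) = 1}
      = (Finset.univ : Finset {χ : IrrCharacter G // charDegree (χ : G → ℂ) = 1}).card := rfl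
    _ ≤ I.index * (Finset.univ.image F).card := hcount
    _ ≤ I.index * Fintype.card {χ : IrrCharacter G //
          charDegree (χ : G → ℂ) = charDegree (φ : N → ℂ) * I.index} :=
        Nat.mul_le_mul_left _ (Finset.card_le_univ _)

end Cfsg.Agent.S4870
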