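import Cfsg.Statements.S4871
import Cfsg.Agent.Lib.Helper85.StrongRealAvg
import Cfsg.Agent.Lib.Helper85.StrongRealGrp

set_option autoImplicit false
open Cfsg

namespace Cfsg.Agent.S4871

/-- Let G be a finite group that is the semidirect product of a normal elementary abelian subgroup N of odd order by a non-trivial 2-subgroup P, with N the unique minimal normal subgroup of G. Consider the strongly real irreducible complex characters of G (Frobenius–Schur indicator +1) whose degree is 1 or even. Then their average degree is at least 4/3: four times their number is at most three times the sum of their degrees. -/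
theorem result {G : Type*} [Group G] [Finite G] (N P : Subgroup G) (hN : N.Normal) (q : ℕ) [Fact q.Prime] (hq : q ≠ 2) (hNel : Cfsg.IsElementaryAbelian q N) (hP : IsPGroup 2 ↥P) (hP1 : P ≠ ⊥) (hdisj : N ⊓ P = ⊥) (hprod : N ⊔ P = ⊤) (hmin : N ≠ ⊥ ∧ ∀ M : Subgroup G, M.Normal → M ≠ ⊥ → N ≤ M) : 4 * Nat.card {χ : Cfsg.IrrCharacter G // (Cfsg.charDegree (χ : G → ℂ) = 1 ∨ 2 ∣ Cfsg.charDegree (χ : G → ℂ)) ∧ (Nat.card G : ℂ)⁻¹ * ∑ᶠ g : G, (χ : G → ℂ) (g * g) = 1} ≤ 3 * (∑ᶠ χ : {χ : Cfsg.IrrCharacter G // (Cfsg.charDegree (χ : G → ℂ) = 1 ∨ 2 ∣ Cfsg.charDegree (χ : G → ℂ)) ∧ (Nat.card G : ℂ)⁻¹ * ∑ᶠ g : G, (χ : G → ℂ) (g * g) = 1}, Cfsg.charDegree (χ.1 : G → ℂ)) := by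
  classical
  haveI : Fintype G := Fintype.ofFinite G
  haveI := hN
  obtain ⟨hNab, hNq⟩ := hNel
  haveI := hNab
  obtain ⟨⟨k, hidx, hpow⟩, z, hz2, hzN, hzc⟩ :=
    Cfsg.Agent.Lib.Helper85.StrongRealGrp.setup N P hN hNab hP hP1 hdisj hprod hmin
  obtain ⟨d, hd2, hle⟩ := Cfsg.Agent.Lib.Helper85.StrongRealAvg.card_real_linear_le N q
    Fact.out hq hNq hmin.1 k hidx hpow z hz2 hzN hzc
  have hfsG : ∀ χ : G → ℂ, (Nat.card G : ℂ)⁻¹ * ∑ᶠ g : G, χ (g * g) =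
      Cfsg.Agent.Lib.Helper79.fsInd χ := by
    intro χ; unfold Cfsg.Agent.Lib.Helper79.fsInd; rw [finsum_eq_sum_of_fintype]
  haveI : Finite (Cfsg.IrrCharacter G) := Cfsg.Agent.Lib.Helper04.irr_finite
  haveI : Fintype (Cfsg.IrrCharacter G) := Fintype.ofFinite _
  have key := Cfsg.Agent.Lib.Helper85.StrongRealGrp.avg_arith
    (fun χ : Cfsg.IrrCharacter G => Cfsg.charDegree (χ : G → ℂ))
    (fun χ : Cfsg.IrrCharacter G => Cfsg.Agent.Lib.Helper79.fsInd (χ : G → ℂ) = 1)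
    (fun χ => Cfsg.Agent.Lib.Helper83.irr_charDegree_pos χ) d hd2 hle
  have hpred : (fun χ : Cfsg.IrrCharacter G =>
      (Cfsg.charDegree (χ : G → ℂ) = 1 ∨ 2 ∣ Cfsg.charDegree (χ : G → ℂ)) ∧
        (Nat.card G : ℂ)⁻¹ * ∑ᶠ g : G, (χ : G → ℂ) (g * g) = 1) =
      (fun χ : Cfsg.IrrCharacter G =>
      (Cfsg.charDegree (χ : G → ℂ) = 1 ∨ 2 ∣ Cfsg.charDegree (χ : G → ℂ)) ∧
        Cfsg.Agent.Lib.Helper79.fsInd (χ : G → ℂ) = 1) := by
    funext χ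
    rw [hfsG]
  have gen : ∀ p₁ p₂ : Cfsg.IrrCharacter G → Prop, p₁ = p₂ →
      4 * Nat.card {χ // p₂ χ} ≤ 3 * ∑ᶠ χ : {χ // p₂ χ}, Cfsg.charDegree (χ.1 : G → ℂ) →
      4 * Nat.card {χ // p₁ χ} ≤ 3 * ∑ᶠ χ : {χ // p₁ χ}, Cfsg.charDegree (χ.1 : G → ℂ) := by
    intro p₁ p₂ h
    subst h
    exact id
  exact gen _ _ hpred key

end Cfsg.Agent.S4871
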