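import Cfsg.Statements.S4873
import Cfsg.Agent.Lib.Helper84.Clifford
import Cfsg.Agent.Lib.Helper84.OddIndexParity
import Cfsg.Agent.Lib.Helper79.PermFS

set_option autoImplicit false
open Cfsg

namespace Cfsg.Agent.S4873

open Cfsg.Agent.Lib.Helper84
open scoped ComplexConjugate

section

universe u

variable {G : Type u} [Group G] [Fintype G] (N : Subgroup G) [hN : N.Normal] [Fintype N]

/-- Parseval for two class functions. -/
theorem classInner_eq_sum_irr {K : Type u} [Group K] [Fintype K] [Fintype (IrrCharacter K)]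
    {A B : K → ℂ} (hA : IsClassFunction K A) :
    classInner A B = ∑ θ : IrrCharacter K, classInner A (θ : K → ℂ) *
      conj (classInner B (θ : K → ℂ)) := by
  conv_lhs => rw [Cfsg.Agent.Lib.Helper83.classFunction_eq_sum_irr hA]
  rw [Cfsg.Agent.Lib.Helper83.classInner_sum_left]
  refine Finset.sum_congr rfl fun θ _ => ?_
  rw [Cfsg.Agent.Lib.Helper83.classInner_smul_left,
    Cfsg.Agent.Lib.Helper83.classInner_conj_symm]

/-- Clifford: the multiplicities of the restriction of an irreducible character to `N`. -/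
theorem restrict_mult (χ : IrrCharacter G) (φ : IrrCharacter N)
    (θ : IrrCharacter N) [Decidable (∃ g : G, Cfsg.Agent.Lib.Helper84.conjFun N g (φ : N → ℂ) = (θ : N → ℂ))]
    (h : classInner (fun n : N => (χ : G → ℂ) n) (φ : N → ℂ) ≠ 0) :
    classInner (fun n : N => (χ : G → ℂ) n) (θ : N → ℂ) =
      if ∃ g : G, Cfsg.Agent.Lib.Helper84.conjFun N g (φ : N → ℂ) = (θ : N → ℂ) then
        classInner (fun n : N => (χ : G → ℂ) n) (φ : N → ℂ) else 0 := by
  split_ifs with hθ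
  · obtain ⟨g, hg⟩ := hθ
    rw [← hg]
    exact classInner_restrict_conjFun N (Cfsg.Agent.Lib.Helper83.isClassFunction_irr χ) g _
  · by_contra hne
    exact hθ (clifford_exists_conj N χ.2 φ.2 θ.2 h hne)

/-- `[χ|_N, χ'|_N] = m m' t` for two irreducible characters lying over `φ`. -/
theorem classInner_restrict_restrict (χ χ' : IrrCharacter G) (φ : IrrCharacter N) (m m' : ℕ)
    (hm : classInner (fun n : N => (χ : G → ℂ) n) (φ : N → ℂ) = m)
    (hm' : classInner (fun n : N => (χ' : G → ℂ) n) (φ : N → ℂ) = m') (hm0 : m ≠ 0)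
    (hm0' : m' ≠ 0) [Fintype (IrrCharacter N)]
    [DecidablePred (fun θ : IrrCharacter N =>
      ∃ g : G, Cfsg.Agent.Lib.Helper84.conjFun N g (φ : N → ℂ) = (θ : N → ℂ))] :
    classInner (fun n : N => (χ : G → ℂ) n) (fun n : N => (χ' : G → ℂ) n) =
      ((m * m' * (Finset.univ.filter (fun θ : IrrCharacter N =>
        ∃ g : G, Cfsg.Agent.Lib.Helper84.conjFun N g (φ : N → ℂ) = (θ : N → ℂ))).card : ℕ) : ℂ) := by
  have hcl : IsClassFunction N (fun n : N => (χ : G → ℂ) n) :=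
    Cfsg.Agent.Lib.Helper83.char_isClassFunction
      (Cfsg.Agent.Lib.Helper83.isCharacter_restrict N
        (Cfsg.Agent.Lib.Helper83.IrrCharacter_isCharacter χ))
  have hc : classInner (fun n : N => (χ : G → ℂ) n) (φ : N → ℂ) ≠ 0 := by
    rw [hm]; exact_mod_cast hm0
  have hc' : classInner (fun n : N => (χ' : G → ℂ) n) (φ : N → ℂ) ≠ 0 := by
    rw [hm']; exact_mod_cast hm0'
  rw [classInner_eq_sum_irr hcl]
  have hterm : ∀ θ : IrrCharacter N,
      classInner (fun n : N => (χ : G → ℂ) n) (θ : N → ℂ) *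
        conj (classInner (fun n : N => (χ' : G → ℂ) n) (θ : N → ℂ)) =
      if ∃ g : G, Cfsg.Agent.Lib.Helper84.conjFun N g (φ : N → ℂ) = (θ : N → ℂ) then
        ((m * m' : ℕ) : ℂ) else 0 := by
    intro θ
    rw [restrict_mult N χ φ θ hc, restrict_mult N χ' φ θ hc']
    split_ifs with h
    · rw [hm, hm', Complex.conj_natCast]
      push_cast; rfl
    · rw [zero_mul]
  rw [Finset.sum_congr rfl (fun θ _ => hterm θ), Finset.sum_ite, Finset.sum_const_zero, add_zero,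
    Finset.sum_const, nsmul_eq_mul]
  push_cast
  ring

/-- Uniqueness of a real-valued irreducible character over `φ` when the index is odd. -/
theorem unique_real_over (hodd : Odd N.index) (χ₁ χ₂ : IrrCharacter G) (φ : IrrCharacter N)
    (h1 : ∀ g : G, ((χ₁ : G → ℂ) g).im = 0) (h2 : ∀ g : G, ((χ₂ : G → ℂ) g).im = 0)
    (hc1 : classInner (fun n : N => (χ₁ : G → ℂ) n) (φ : N → ℂ) ≠ 0)
    (hc2 : classInner (fun n : N => (χ₂ : G → ℂ) n) (φ : N → ℂ) ≠ 0) : χ₁ = χ₂ := by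
  classical
  have : Fintype (IrrCharacter N) := Fintype.ofFinite _
  have hres : ∀ χ : IrrCharacter G, IsCharacter N (fun n : N => (χ : G → ℂ) n) := fun χ =>
    Cfsg.Agent.Lib.Helper83.isCharacter_restrict N
      (Cfsg.Agent.Lib.Helper83.IrrCharacter_isCharacter χ)
  obtain ⟨m₁, hm₁⟩ := Cfsg.Agent.Lib.Helper83.classInner_char_nat (hres χ₁)
    (Cfsg.Agent.Lib.Helper83.IrrCharacter_isCharacter φ)
  obtain ⟨m₂, hm₂⟩ := Cfsg.Agent.Lib.Helper83.classInner_char_nat (hres χ₂)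
    (Cfsg.Agent.Lib.Helper83.IrrCharacter_isCharacter φ)
  have hm₁0 : m₁ ≠ 0 := by
    intro h; apply hc1; rw [hm₁, h, Nat.cast_zero]
  have hm₂0 : m₂ ≠ 0 := by
    intro h; apply hc2; rw [hm₂, h, Nat.cast_zero]
  set t := (Finset.univ.filter (fun θ : IrrCharacter N =>
        ∃ g : G, Cfsg.Agent.Lib.Helper84.conjFun N g (φ : N → ℂ) = (θ : N → ℂ))).card with ht
  have e11 := classInner_restrict_restrict N χ₁ χ₁ φ m₁ m₁ hm₁ hm₁ hm₁0 hm₁0
  have e22 := classInner_restrict_restrict N χ₂ χ₂ φ m₂ m₂ hm₂ hm₂ hm₂0 hm₂0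
  have e12 := classInner_restrict_restrict N χ₁ χ₂ φ m₁ m₂ hm₁ hm₂ hm₁0 hm₂0
  obtain ⟨a11, ha11, hp11⟩ := parity_real_pair N hodd χ₁ χ₁ h1 h1
  obtain ⟨a22, ha22, hp22⟩ := parity_real_pair N hodd χ₂ χ₂ h2 h2
  obtain ⟨a12, ha12, hp12⟩ := parity_real_pair N hodd χ₁ χ₂ h1 h2
  rw [e11] at ha11
  rw [e22] at ha22
  rw [e12] at ha12
  have f11 : m₁ * m₁ * t = a11 := by exact_mod_cast ha11
  have f22 : m₂ * m₂ * t = a22 := by exact_mod_cast ha22
  have f12 : m₁ * m₂ * t = a12 := by exact_mod_cast ha12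
  rw [if_pos rfl, ← f11] at hp11
  rw [if_pos rfl, ← f22] at hp22
  rw [← f12] at hp12
  have o11 : Odd (m₁ * m₁ * t) := Nat.odd_iff.mpr hp11
  have o22 : Odd (m₂ * m₂ * t) := Nat.odd_iff.mpr hp22
  obtain ⟨o1, ot⟩ := Nat.odd_mul.mp o11
  obtain ⟨o1', _⟩ := Nat.odd_mul.mp o1
  obtain ⟨o2, _⟩ := Nat.odd_mul.mp o22
  obtain ⟨o2', _⟩ := Nat.odd_mul.mp o2
  have o12 : Odd (m₁ * m₂ * t) := (o1'.mul o2').mul ot
  by_contra hne
  rw [if_neg hne] at hp12
  have := Nat.odd_iff.mp o12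
  omega

omit [Fintype G] [Fintype N] in
/-- square roots of elements of `N` lie in `N` when the index is odd. -/
theorem mem_of_sq_mem [Finite G] (hodd : Odd N.index) (u : G) (h : u * u ∈ N) : u ∈ N := by
  have h1 : ((u : G ⧸ N)) ^ 2 = 1 := by
    rw [pow_two, ← QuotientGroup.mk_mul]
    exact (QuotientGroup.eq_one_iff _).mpr h
  have hodd' : Odd (Nat.card (G ⧸ N)) := by
    rw [← Subgroup.index_eq_card]; exact hodd
  have h2 : orderOf (u : G ⧸ N) ∣ 2 := orderOf_dvd_of_pow_eq_one h1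
  have h3 : Odd (orderOf (u : G ⧸ N)) := Odd.of_dvd_nat hodd' (orderOf_dvd_natCard _)
  have h4 : orderOf (u : G ⧸ N) = 1 := by
    rcases (Nat.dvd_prime Nat.prime_two).mp h2 with h | h
    · exact h
    · rw [h] at h3; exact absurd h3 (by decide)
  exact (QuotientGroup.eq_one_iff u).mp (orderOf_eq_one_iff.mp h4)

/-- The Frobenius–Schur relation between `G` and a normal subgroup of odd index. -/
theorem sum_fsInd_mult (hodd : Odd N.index) [Fintype (IrrCharacter G)] (φ : IrrCharacter N) :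
    ∑ χ : IrrCharacter G, Cfsg.Agent.Lib.Helper79.fsInd (χ : G → ℂ) *
      classInner (fun n : N => (χ : G → ℂ) n) (φ : N → ℂ) =
      Cfsg.Agent.Lib.Helper79.fsInd (φ : N → ℂ) := by
  classical
  have : Fintype (IrrCharacter N) := Fintype.ofFinite _
  have hfun : (∑ χ : IrrCharacter G, Cfsg.Agent.Lib.Helper79.fsInd (χ : G → ℂ) •
        (fun n : N => (χ : G → ℂ) n)) =
      ∑ θ : IrrCharacter N, Cfsg.Agent.Lib.Helper79.fsInd (θ : N → ℂ) • (θ : N → ℂ) := by
    funext n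
    simp only [Finset.sum_apply, Pi.smul_apply, smul_eq_mul]
    rw [← Cfsg.Agent.Lib.Helper79.card_sqrt_eq (n : G), ← Cfsg.Agent.Lib.Helper79.card_sqrt_eq n]
    congr 1
    apply Nat.card_congr
    exact
      { toFun := fun u => ⟨⟨u.1, mem_of_sq_mem N hodd u.1 (by rw [u.2]; exact n.2)⟩,
          Subtype.ext u.2⟩
        invFun := fun v => ⟨(v.1 : G), congrArg Subtype.val v.2⟩
        left_inv := fun u => rfl
        right_inv := fun v => rfl }
  have h1 := congrArg (fun f : N → ℂ => classInner f (φ : N → ℂ)) hfun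
  rw [Cfsg.Agent.Lib.Helper83.classInner_sum_left, Cfsg.Agent.Lib.Helper83.classInner_sum_left] at h1
  simp only [Cfsg.Agent.Lib.Helper83.classInner_smul_left] at h1
  rw [h1]
  simp only [Cfsg.Agent.Lib.Helper83.irr_orthonormal]
  simp

end

/-- Let N be a normal subgroup of odd index in the finite group G. Then every irreducible complex character of N with Frobenius–Schur indicator +1 lies under exactly one irreducible character of G with Frobenius–Schur indicator +1. -/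
theorem result {G : Type*} [Group G] [Finite G] (N : Subgroup G) [N.Normal] (hodd : Odd N.index) (φ : Cfsg.IrrCharacter ↥N) (hφ : (Nat.card ↥N : ℂ)⁻¹ * ∑ᶠ g : ↥N, (φ : ↥N → ℂ) (g * g) = 1) : ∃! χ : Cfsg.IrrCharacter G, (Nat.card G : ℂ)⁻¹ * ∑ᶠ g : G, (χ : G → ℂ) (g * g) = 1 ∧ (∑ᶠ n : ↥N, (χ : G → ℂ) n * (starRingEnd ℂ) ((φ : ↥N → ℂ) n)) ≠ 0 := by
  classical
  have : Fintype G := Fintype.ofFinite G
  have : Fintype N := Fintype.ofFinite N
  have : Fintype (Cfsg.IrrCharacter G) := Fintype.ofFinite _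
  have hν : ∀ χ : Cfsg.IrrCharacter G, (Nat.card G : ℂ)⁻¹ * ∑ᶠ g : G, (χ : G → ℂ) (g * g) =
      Cfsg.Agent.Lib.Helper79.fsInd (χ : G → ℂ) := by
    intro χ
    rw [finsum_eq_sum_of_fintype]
    rfl
  have hνφ : Cfsg.Agent.Lib.Helper79.fsInd (φ : ↥N → ℂ) = 1 := by
    rw [← hφ, finsum_eq_sum_of_fintype]
    rfl
  have hNc : (Nat.card ↥N : ℂ) ≠ 0 := Cfsg.Agent.Lib.Helper83.card_ne_zero_complex
  have hcon : ∀ χ : Cfsg.IrrCharacter G,
      (∑ᶠ n : ↥N, (χ : G → ℂ) n * (starRingEnd ℂ) ((φ : ↥N → ℂ) n)) ≠ 0 ↔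
      Cfsg.classInner (fun n : ↥N => (χ : G → ℂ) n) (φ : ↥N → ℂ) ≠ 0 := by
    intro χ
    rw [finsum_eq_sum_of_fintype, Cfsg.Agent.Lib.Helper83.classInner_def]
    constructor
    · intro h
      exact mul_ne_zero (inv_ne_zero hNc) h
    · intro h
      exact right_ne_zero_of_mul h
  have hsum := sum_fsInd_mult N hodd φ
  rw [hνφ] at hsum
  -- existence
  have hex : ∃ χ : Cfsg.IrrCharacter G, Cfsg.Agent.Lib.Helper79.fsInd (χ : G → ℂ) = 1 ∧
      Cfsg.classInner (fun n : ↥N => (χ : G → ℂ) n) (φ : ↥N → ℂ) ≠ 0 := by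
    by_contra hno
    push Not at hno
    have hre : (∑ χ : Cfsg.IrrCharacter G, Cfsg.Agent.Lib.Helper79.fsInd (χ : G → ℂ) *
        Cfsg.classInner (fun n : ↥N => (χ : G → ℂ) n) (φ : ↥N → ℂ)).re ≤ 0 := by
      rw [Complex.re_sum]
      apply Finset.sum_nonpos
      intro χ _
      obtain ⟨m, hm⟩ := Cfsg.Agent.Lib.Helper83.classInner_char_nat
        (Cfsg.Agent.Lib.Helper83.isCharacter_restrict N
          (Cfsg.Agent.Lib.Helper83.IrrCharacter_isCharacter χ))
        (Cfsg.Agent.Lib.Helper83.IrrCharacter_isCharacter φ)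
      rcases (Cfsg.Agent.Lib.Helper79.fsInd_irr_cases χ).1 with h | h | h
      · rw [h, zero_mul]; simp
      · rw [hno χ h, mul_zero]; simp
      · rw [h, hm]
        simp
    rw [hsum] at hre
    simp at hre
    linarith
  obtain ⟨χ₀, h0ν, h0c⟩ := hex
  refine ⟨χ₀, ⟨by rw [hν]; exact h0ν, (hcon χ₀).mpr h0c⟩, ?_⟩
  rintro χ' ⟨h1ν, h1c⟩
  rw [hν] at h1ν
  have hr0 := (Cfsg.Agent.Lib.Helper79.fsInd_irr_cases χ₀).2 (by rw [h0ν]; exact one_ne_zero)
  have hr1 := (Cfsg.Agent.Lib.Helper79.fsInd_irr_cases χ').2 (by rw [h1ν]; exact one_ne_zero)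
  exact unique_real_over N hodd χ' χ₀ φ hr1 hr0 ((hcon χ').mp h1c) h0c

end Cfsg.Agent.S4873
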