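import Cfsg.Statements.S4885
import Cfsg.Agent.Lib.Helper04.PrincipalPQ
import Cfsg.Agent.Lib.Helper81.PSolvable

set_option autoImplicit false
open Cfsg

namespace Cfsg.Agent.S4885

/-- Let p and q be primes dividing the order of the finite group G, and suppose G is p-solvable and q-solvable. Fix maximal ideals of the algebraic integers containing p and q, defining the principal p-block and the principal q-block. If the irreducible characters of degree prime to p in the principal p-block are exactly the irreducible characters of degree prime to q in the principal q-block, then p = q. -/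
theorem result {G : Type*} [Group G] [Finite G] (p q : ℕ) [Fact p.Prime] [Fact q.Prime] (hp : p ∣ Nat.card G) (hq : q ∣ Nat.card G) (hps : Cfsg.IsPSolvable p G) (hqs : Cfsg.IsPSolvable q G) (Mp Mq : Ideal Cfsg.AlgInt) (hMp : Cfsg.IsPModular p Mp) (hMq : Cfsg.IsPModular q Mq) (h : ∀ χ : Cfsg.IrrCharacter G, (χ ∈ Cfsg.principalBlock Mp G ∧ ¬ p ∣ Cfsg.charDegree (χ : G → ℂ)) ↔ (χ ∈ Cfsg.principalBlock Mq G ∧ ¬ q ∣ Cfsg.charDegree (χ : G → ℂ))) : p = q := by
  classical
  by_contra hpq
  obtain ⟨P⟩ : Nonempty (Sylow p (G ⧸ Cfsg.pPrimeCore p G)) := inferInstance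
  obtain ⟨Q⟩ : Nonempty (Sylow q (G ⧸ Cfsg.pPrimeCore q G)) := inferInstance
  have hK : Cfsg.Agent.Lib.Helper04.ppKer p P = Cfsg.Agent.Lib.Helper04.ppKer q Q := by
    ext g
    rw [Cfsg.Agent.Lib.Helper04.mem_ppKer_iff p hps Mp hMp P g,
      Cfsg.Agent.Lib.Helper04.mem_ppKer_iff q hqs Mq hMq Q g]
    constructor
    · intro h1 χ hχ
      exact h1 χ ((h χ).mpr hχ)
    · intro h1 χ hχ
      exact h1 χ ((h χ).mp hχ)
  have hne := Cfsg.Agent.Lib.Helper04.ppKer_ne_top p hp P
  obtain ⟨Y, hYn, hKY, _, hne', hcase⟩ :=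
    Cfsg.Agent.Lib.Helper81.IsPSolvable.exists_normal_between (Fact.out : p.Prime) hps
      (Cfsg.Agent.Lib.Helper04.ppKer p P) ⊤ le_top hne
  rcases hcase with ⟨m, hm⟩ | hcop
  · have hcop : ((Cfsg.Agent.Lib.Helper04.ppKer q Q).relIndex Y).Coprime q := by
      rw [← hK, hm]
      apply Nat.Coprime.pow_left
      exact (Nat.coprime_primes (Fact.out : p.Prime) (Fact.out : q.Prime)).mpr hpq
    have hle := Cfsg.Agent.Lib.Helper04.le_ppKer_of_coprime_relIndex q Q Y hYn (hK ▸ hKY) hcop
    rw [← hK] at hle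
    exact hne' (le_antisymm hKY hle)
  · have hle := Cfsg.Agent.Lib.Helper04.le_ppKer_of_coprime_relIndex p P Y hYn hKY hcop
    exact hne' (le_antisymm hKY hle)

end Cfsg.Agent.S4885
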