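import Cfsg.Statements.S4888
import Cfsg.Agent.Lib.Helper84.PNilpBlock
import Cfsg.Agent.Lib.Helper79.PSolvPrincipal

set_option autoImplicit false
open Cfsg

namespace Cfsg.Agent.S4888

/-- The least `p`-exponent of a degree in the principal block is zero. -/
theorem sInf_principal {G : Type*} [Group G] [Finite G] (p : ℕ) (M : Ideal Cfsg.AlgInt)
    (hM : M.IsPrime) :
    sInf ((fun ψ : Cfsg.IrrCharacter G => (Cfsg.charDegree (ψ : G → ℂ)).factorization p) ''
      (Cfsg.principalBlock M G)) = 0 := by
  apply Nat.sInf_eq_zero.mpr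
  left
  refine ⟨Cfsg.Agent.Lib.Helper83.trivChar G,
    Cfsg.Agent.Lib.Helper81.trivChar_mem_principalBlock hM, ?_⟩
  simp only [Cfsg.Agent.Lib.Helper83.charDegree_trivChar, Nat.factorization_one,
    Finsupp.coe_zero, Pi.zero_apply]

/-- Let G be a finite group, p a prime and M a maximal ideal of the algebraic integers containing p. Then all height-zero irreducible characters of the principal p-block of G (equivalently, all its characters of degree prime to p) have the same degree if and only if G has a normal p-complement. -/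
theorem result {G : Type*} [Group G] [Finite G] (p : ℕ) [Fact p.Prime] (M : Ideal Cfsg.AlgInt) (hM : Cfsg.IsPModular p M) : (∃ d : ℕ, ∀ χ : Cfsg.IrrCharacter G, χ ∈ (Cfsg.principalBlock M G) → Cfsg.blockHeight p (Cfsg.principalBlock M G) (χ : G → ℂ) = 0 → Cfsg.charDegree (χ : G → ℂ) = d) ↔ Cfsg.HasNormalPComplement p G := by
  classical
  have hp : p.Prime := Fact.out
  have hMprime : M.IsPrime := hM.2.1.isPrime
  have hinf := sInf_principal (G := G) p M hMprime
  constructor
  · rintro ⟨d, hd⟩
    -- the trivial character has height zero and degree one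
    have hd1 : d = 1 := by
      have h1 := hd (Cfsg.Agent.Lib.Helper83.trivChar G)
        (Cfsg.Agent.Lib.Helper81.trivChar_mem_principalBlock hMprime) (by
          unfold Cfsg.blockHeight
          rw [Cfsg.Agent.Lib.Helper83.charDegree_trivChar]
          simp)
      rw [Cfsg.Agent.Lib.Helper83.charDegree_trivChar] at h1
      exact h1.symm
    apply Cfsg.Agent.Lib.Helper84.hasNormalPComplement_of_principalBlock_linear p M hM
    intro χ hχ hpχ
    have hh : Cfsg.blockHeight p (Cfsg.principalBlock M G) (χ : G → ℂ) = 0 := by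
      unfold Cfsg.blockHeight
      rw [Nat.factorization_eq_zero_of_not_dvd hpχ, Nat.zero_sub]
    have h2 := hd χ hχ hh
    rw [hd1] at h2
    rw [← Cfsg.Agent.Lib.Helper83.charDegree_cast
      (Cfsg.Agent.Lib.Helper83.IrrCharacter_isCharacter χ), h2, Nat.cast_one]
  · rintro ⟨P, N, hNn, hNP⟩
    refine ⟨1, fun χ hχ hh => ?_⟩
    have hker := Cfsg.Agent.Lib.Helper79.principalBlock_ker p M hM χ hχ
    have hNcard : Nat.card N = (P : Subgroup G).index := hNP.index_eq_card.symm
    have hNcop : (Nat.card N).Coprime p := by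
      rw [hNcard, Nat.coprime_comm, Nat.Prime.coprime_iff_not_dvd hp]
      exact P.not_dvd_index
    have hNle : N ≤ Cfsg.pPrimeCore p G := le_sSup ⟨hNn, hNcop⟩
    have hdvd := Cfsg.Agent.Lib.Helper83.irr_charDegree_dvd_index χ N
      (fun n hn => hker n (hNle hn))
    have hidx : N.index = Nat.card (P : Subgroup G) := hNP.symm.index_eq_card
    rw [hidx, P.card_eq_multiplicity] at hdvd
    obtain ⟨i, -, hi⟩ := (Nat.dvd_prime_pow hp).mp hdvd
    unfold Cfsg.blockHeight at hh
    rw [hinf, Nat.sub_zero, hi, hp.factorization_pow, Finsupp.single_eq_same] at hh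
    rw [hi, hh, pow_zero]

end Cfsg.Agent.S4888
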