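import Cfsg.Statements.S4892
import Cfsg.Agent.Lib.Helper05.PRat
import Cfsg.Agent.Lib.Helper05.PRatCore
import Cfsg.Agent.Lib.Helper05.PRatExt
import Cfsg.Agent.Lib.Helper84.PResCount
import Cfsg.Agent.Lib.Helper80.DetCanon

set_option autoImplicit false
set_option linter.unusedSectionVars false
set_option linter.unusedVariables false
set_option linter.style.haveILetI false
open Cfsg

namespace Cfsg.Agent.S4892

open Cfsg.Agent.Lib.Helper05.PRat Cfsg.Agent.Lib.Helper05.PRatExt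

/-- `N C_G(Q)` is normal in `G` for a Sylow subgroup `Q` of the normal subgroup `N` -/
theorem normal_sup_centralizer {G : Type*} [Group G] [Finite G] (p : ℕ) [Fact p.Prime]
    (N : Subgroup G) [hN : N.Normal] (Q : Sylow p ↥N) :
    (N ⊔ Subgroup.centralizer (((Q : Subgroup ↥N).map N.subtype : Subgroup G) : Set G)).Normal := by
  set D : Subgroup G := (Q : Subgroup ↥N).map N.subtype with hD
  set C := Subgroup.centralizer (D : Set G) with hC
  have hfr : Subgroup.normalizer (D : Set G) ⊔ N = ⊤ := Sylow.normalizer_sup_eq_top Q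
  -- conjugation by elements of the normalizer preserves `N ⊔ C`
  have key : ∀ h ∈ Subgroup.normalizer (D : Set G), ∀ x ∈ N ⊔ C, h * x * h⁻¹ ∈ N ⊔ C := by
    intro h hh x hx
    have hle : N ⊔ C ≤ (N ⊔ C).comap (MulAut.conj h).toMonoidHom := by
      apply sup_le
      · intro n hn
        rw [Subgroup.mem_comap]
        exact Subgroup.mem_sup_left (hN.conj_mem n hn h)
      · intro c hc
        rw [Subgroup.mem_comap]
        apply Subgroup.mem_sup_right
        show h * c * h⁻¹ ∈ C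
        rw [hC, Subgroup.mem_centralizer_iff]
        intro d hd
        have hd' : h⁻¹ * d * h ∈ D := by
          have := (Subgroup.mem_normalizer_iff.mp (Subgroup.inv_mem _ hh) d).mp hd
          simpa using this
        have hcd := Subgroup.mem_centralizer_iff.mp hc (h⁻¹ * d * h) hd'
        calc d * (h * c * h⁻¹) = h * ((h⁻¹ * d * h) * c) * h⁻¹ := by group
          _ = h * (c * (h⁻¹ * d * h)) * h⁻¹ := by rw [hcd]
          _ = h * c * h⁻¹ * d := by group
    exact hle hx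
  constructor
  intro x hx g
  have hg : g ∈ Subgroup.normalizer (D : Set G) ⊔ N := by rw [hfr]; trivial
  rw [Subgroup.mem_sup_of_normal_right] at hg
  obtain ⟨h, hh, n, hn, rfl⟩ := hg
  have h1 : n * x * n⁻¹ ∈ N ⊔ C :=
    Subgroup.mul_mem _ (Subgroup.mul_mem _ (Subgroup.mem_sup_left hn) hx)
      (Subgroup.inv_mem _ (Subgroup.mem_sup_left hn))
  have h2 := key h hh _ h1
  have e : h * n * x * (h * n)⁻¹ = h * (n * x * n⁻¹) * h⁻¹ := by group
  rw [e]
  exact h2

/-- Let p be an odd prime, M a maximal ideal of the algebraic integers containing p, N a normal subgroup of the finite group G, and θ an irreducible character of N that is G-invariant, of degree prime to p, p-rational (values in the field generated over ℚ by a root of unity of order prime to p) and lies in the principal p-block of N. Let Q be a Sylow p-subgroup of N and suppose the index of N·C_G(Q) in G is a power of p. Then θ extends to a p-rational irreducible character of G lying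 in the principal p-block of G. -/
theorem result {G : Type*} [Group G] [Finite G] (p : ℕ) [Fact p.Prime] (hp : p ≠ 2) (M : Ideal Cfsg.AlgInt) (hM : Cfsg.IsPModular p M) (N : Subgroup G) [N.Normal] (θ : Cfsg.IrrCharacter ↥N) (hinv : ∀ g : G, ∀ n n' : ↥N, (n' : G) = g * (n : G) * g⁻¹ → (θ : ↥N → ℂ) n' = (θ : ↥N → ℂ) n) (hdeg : ¬ p ∣ Cfsg.charDegree (θ : ↥N → ℂ)) (hrat : ∃ m : ℕ, ¬ p ∣ m ∧ ∀ n : ↥N, (θ : ↥N → ℂ) n ∈ IntermediateField.adjoin ℚ ({Complex.exp (2 * Real.pi * Complex.I / m)} : Set ℂ)) (hB : θ ∈ Cfsg.principalBlock M ↥N) (Q : Sylow p ↥N) (hidx : ∃ a : ℕ, (N ⊔ Subgroup.centralizer (((Q : Subgroup ↥N).map N.subtype : Subgroup G) : Set G)).index = p ^ a) : ∃ χ : Cfsg.IrrCharacter G, χ ∈ (Cfsg.principalBlock M G) ∧ (∃ n : ℕ, ¬ p ∣ n ∧ ∀ g : G, (χ : G → ℂ) g ∈ IntermediateField.adjoin ℚ ({Complex.exp (2 * Real.pi * Complex.I / n)} : Set ℂ)) ∧ ∀ n : ↥N, (χ : G → ℂ) n = (θ : ↥N → ℂ) n := by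
  classical
  have hpp : p.Prime := Fact.out
  haveI : Fintype G := Fintype.ofFinite G
  have hN : N.Normal := inferInstance
  set D : Subgroup G := (Q : Subgroup ↥N).map N.subtype with hD
  set M₀ : Subgroup G := N ⊔ Subgroup.centralizer (D : Set G) with hM₀
  haveI hM₀n : M₀.Normal := normal_sup_centralizer p N Q
  have hNM : N ≤ M₀ := le_sup_left
  have hDN : D ≤ N := Subgroup.map_subtype_le _
  have hrel : ¬ p ∣ D.relIndex N := by
    have h1 : D.subgroupOf N = (Q : Subgroup N) := by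
      rw [hD]
      exact Subgroup.comap_map_eq_self_of_injective N.subtype_injective _
    show ¬ p ∣ (D.subgroupOf N).index
    rw [h1]
    exact Q.not_dvd_index
  have hH' : Hyp' p (N.subgroupOf M₀) (D.subgroupOf M₀) :=
    hyp'_subgroupOf N D M₀ hDN hrel hNM le_rfl
  -- the data of `θ`
  have hθc : IsCharacter N (θ : N → ℂ) := Cfsg.Agent.Lib.Helper82.IsIrrCharacter.isCharacter θ.2
  obtain ⟨d, hd⟩ := Cfsg.Agent.Lib.Helper84.exists_degree_nat hθc
  have hpd : ¬ p ∣ d := by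
    rw [← Cfsg.Agent.Lib.Helper84.charDegree_eq_of_one hd]
    exact hdeg
  obtain ⟨m, hm, hratm⟩ := hrat
  have hpr : PR p (θ : N → ℂ) := pr_of_adjoin p hθc m hm hratm
  -- transport to `M₀`
  set e : N.subgroupOf M₀ ≃* N := Subgroup.subgroupOfEquivOfLe hNM with he
  obtain ⟨θ', hθ'B, hθ'eq⟩ := Cfsg.Agent.Lib.Helper05.ADTower.exists_transport e M θ hB
  have hd' : (θ' : N.subgroupOf M₀ → ℂ) 1 = d := by rw [hθ'eq, map_one, hd]
  have hpr' : PR p (θ' : N.subgroupOf M₀ → ℂ) := by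
    have h1 := pr_comp_mulEquiv p e hpr
    have h2 : (θ' : N.subgroupOf M₀ → ℂ) = fun h => (θ : N → ℂ) (e h) := funext hθ'eq
    rw [h2]
    exact h1
  have hinvG : ∀ (g : G) (n' n'' : N.subgroupOf M₀),
      ((n'' : M₀) : G) = g * ((n' : M₀) : G) * g⁻¹ →
      (θ' : N.subgroupOf M₀ → ℂ) n'' = (θ' : N.subgroupOf M₀ → ℂ) n' := by
    intro g n' n'' h
    rw [hθ'eq, hθ'eq]
    exact hinv g (e n') (e n'') h
  have hinv' : ∀ (g : M₀) (n : N.subgroupOf M₀),
      (θ' : N.subgroupOf M₀ → ℂ)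
        ⟨g * n * g⁻¹, (inferInstance : (N.subgroupOf M₀).Normal).conj_mem (n : M₀) n.2 g⟩
        = (θ' : N.subgroupOf M₀ → ℂ) n := by
    intro g n
    exact hinvG (g : G) n _ rfl
  obtain ⟨χ₀, hχ₀, hχ₀N, hχ₀B, hχ₀det, hχ₀pr, hχ₀sym⟩ := middle p hp M hM (N.subgroupOf M₀)
    (D.subgroupOf M₀) hH' θ' hθ'B hinv' d hd' hpd hpr'
  -- invariance of `χ₀` in `G`
  have hχ₀inv : ∀ (g : G) (m : M₀), χ₀ ⟨g * m * g⁻¹, hM₀n.conj_mem (m : G) m.2 g⟩ = χ₀ m := by
    intro g m
    set φ : M₀ ≃* M₀ := MulAut.conjNormal g with hφ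
    have hφapp : ∀ x : M₀, ((φ x : M₀) : G) = g * x * g⁻¹ := fun x => MulAut.conjNormal_apply g x
    have h1 := hχ₀sym φ ?_ ?_ m
    · rw [← h1]
      congr 1
    · intro x
      rw [Subgroup.mem_subgroupOf, Subgroup.mem_subgroupOf, hφapp]
      constructor
      · intro h
        have := hN.conj_mem _ h g⁻¹
        simpa [mul_assoc] using this
      · intro h
        exact hN.conj_mem _ h g
    · intro n hn
      exact hinvG g n ⟨φ n, hn⟩ (hφapp n)
  -- the canonical extension to `G`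
  obtain ⟨a, ha⟩ := hidx
  have hχ₀1 : χ₀ 1 = d := by
    have := hχ₀N 1
    rw [hd'] at this
    exact this
  have hcop : Nat.Coprime M₀.index (detOrder χ₀ * d) := by
    rw [ha]
    apply Nat.Coprime.pow_left
    rw [Nat.Prime.coprime_iff_not_dvd hpp]
    intro hdvd
    rcases (Nat.Prime.dvd_mul hpp).mp hdvd with h | h
    · exact hχ₀det h
    · exact hpd h
  obtain ⟨χ, ⟨hχ, hχres, hχord⟩, huniq⟩ :=
    Cfsg.Agent.Lib.Helper80.exists_canonical_ext M₀ χ₀ hχ₀ hχ₀inv d hχ₀1 hcop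
  have hχc : IsCharacter G χ := Cfsg.Agent.Lib.Helper82.IsIrrCharacter.isCharacter hχ
  have hχpr : PR p χ := by
    intro k hk hk1 g
    have h1 : IsIrrCharacter G (fun g => χ (g ^ k)) :=
      Cfsg.Agent.Lib.Helper80.isIrrCharacter_pow_coprime hχ k hk
    obtain ⟨hk', hk1'⟩ := exp_sub p M₀ hk hk1
    have h2 : ∀ m : M₀, (fun g => χ (g ^ k)) (m : G) = χ₀ m := by
      intro m
      have h3 : ((m : G) ^ k) = ((m ^ k : M₀) : G) := by simp
      show χ ((m : G) ^ k) = χ₀ m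
      rw [h3, hχres, hχ₀pr k hk' hk1' m]
    have h3 : Nat.Coprime M₀.index (detOrder (fun g => χ (g ^ k))) := by
      apply Nat.Coprime.coprime_dvd_right
        (Cfsg.Agent.Lib.Helper84.detOrder_pow_coprime_dvd hχc k hk)
      rw [hχord]
      exact Nat.Coprime.coprime_mul_right_right hcop
    exact congrFun (huniq _ h1 h2 h3) g
  -- the block
  haveI : Fintype M₀ := Fintype.ofFinite _
  have hover : classInner (fun m : M₀ => χ m) χ₀ ≠ 0 := by
    have : (fun m : M₀ => χ m) = χ₀ := funext hχres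
    rw [this, Cfsg.Agent.Lib.Helper05.classInner_irr_self hχ₀]
    exact one_ne_zero
  have hχB : (⟨χ, hχ⟩ : IrrCharacter G) ∈ principalBlock M G :=
    Cfsg.Agent.Lib.Helper84.mem_principalBlock_of_over M₀ p hM ⟨a, ha⟩ (χ := ⟨χ, hχ⟩)
      (θ := ⟨χ₀, hχ₀⟩) hχ₀B hover
  refine ⟨⟨χ, hχ⟩, hχB, ⟨ordCompl[p] (Nat.card G), Nat.not_dvd_ordCompl hpp Nat.card_pos.ne',
    fun g => mem_adjoin_of_pr p hχc hχpr g⟩, ?_⟩
  intro n
  show χ (n : G) = (θ : N → ℂ) n
  have h1 := hχres ⟨n, hNM n.2⟩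
  have h2 := hχ₀N ⟨⟨n, hNM n.2⟩, Subgroup.mem_subgroupOf.mpr n.2⟩
  rw [hθ'eq] at h2
  have h3 : e ⟨⟨n, hNM n.2⟩, Subgroup.mem_subgroupOf.mpr n.2⟩ = n := Subtype.ext rfl
  rw [h3] at h2
  rw [← h2]
  exact h1

end Cfsg.Agent.S4892
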