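import Cfsg.Statements.S4911
import Cfsg.Agent.Lib.Helper04.GlaubInd
import Cfsg.Agent.Lib.Helper84.RealCount
import Cfsg.Agent.Lib.Helper84.PGroupFix

set_option autoImplicit false
open Cfsg

namespace Cfsg.Agent.S4911

open Cfsg.Agent.Lib.Helper84
open scoped ComplexConjugate

section

universe u

variable {G : Type u} [Group G]

theorem isConj_inv_inv {a b : G} (h : IsConj a b) : IsConj a⁻¹ b⁻¹ := by
  obtain ⟨c, hc⟩ := isConj_iff.mp h
  exact isConj_iff.mpr ⟨c, by rw [← hc]; group⟩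

/-- being real is a property of the class. -/
theorem real_of_isConj {a b : G} (h : IsConj a b) (ha : IsConj a a⁻¹) : IsConj b b⁻¹ :=
  (h.symm.trans ha).trans (isConj_inv_inv h)

variable (p : ℕ) [Fact p.Prime] (P K : Subgroup G)

/-- the fixed points of `P` in `K`. -/
def fixSub : Subgroup G := K ⊓ Subgroup.centralizer (P : Set G)

theorem fixSub_le : fixSub P K ≤ K := inf_le_left

theorem mem_fixSub_iff (g : G) : g ∈ fixSub P K ↔ g ∈ K ∧ ∀ x ∈ P, x * g * x⁻¹ = g := by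
  change g ∈ K ⊓ Subgroup.centralizer (P : Set G) ↔ _
  rw [Subgroup.mem_inf, Subgroup.mem_centralizer_iff]
  constructor
  · rintro ⟨h1, h2⟩
    refine ⟨h1, fun x hx => ?_⟩
    rw [h2 x hx, mul_inv_cancel_right]
  · rintro ⟨h1, h2⟩
    refine ⟨h1, fun x hx => ?_⟩
    have := h2 x hx
    calc x * g = x * g * x⁻¹ * x := by group
      _ = g * x := by rw [this]

variable [Finite G]

/-- two `P`-fixed elements of `K` conjugate in `K` are conjugate by a `P`-fixed element. -/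
theorem conj_in_fixSub (hP : IsPGroup p P) (hK : ¬ p ∣ Nat.card K)
    (hnorm : ∀ x ∈ P, ∀ k ∈ K, x * k * x⁻¹ ∈ K) (c c' : K)
    (hc : ∀ x ∈ P, x * (c : G) * x⁻¹ = c) (hc' : ∀ x ∈ P, x * (c' : G) * x⁻¹ = c')
    (h : ∃ k : K, k * c * k⁻¹ = c') :
    ∃ k : K, (∀ x ∈ P, x * (k : G) * x⁻¹ = k) ∧ k * c * k⁻¹ = c' := by
  have hdvd := card_conj_transporter_dvd c c' h
  have hcard : ¬ p ∣ Nat.card ({k : K | k * c * k⁻¹ = c'} : Set K) := fun hd => hK (hd.trans hdvd)
  obtain ⟨k, hkS, hk⟩ := exists_fixed_conj_pgroup p P K hP hnorm {k : K | k * c * k⁻¹ = c'} (by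
    intro x hx k hk k' hk'
    have hk1 : k * c * k⁻¹ = c' := hk
    have hk2 := congrArg (Subtype.val : K → G) hk1
    change k' * c * k'⁻¹ = c'
    apply Subtype.ext
    simp only [Subgroup.coe_mul, Subgroup.coe_inv] at hk2 ⊢
    rw [hk']
    calc x * ↑k * x⁻¹ * ↑c * (x * ↑k * x⁻¹)⁻¹
        = x * (↑k * (x⁻¹ * ↑c * x) * (↑k)⁻¹) * x⁻¹ := by group
      _ = x * (↑k * ↑c * (↑k)⁻¹) * x⁻¹ := by
          have := hc x⁻¹ (P.inv_mem hx)
          rw [inv_inv] at this
          rw [this]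
      _ = ↑c' := by rw [hk2, hc' x hx]) hcard
  exact ⟨k, hk, hkS⟩

/-- a `P`-invariant class of `K` contains a `P`-fixed element. -/
theorem exists_fixed_in_class (hP : IsPGroup p P) (hK : ¬ p ∣ Nat.card K)
    (hnorm : ∀ x ∈ P, ∀ k ∈ K, x * k * x⁻¹ ∈ K) (cK : ConjClasses K)
    (hinv : ∀ k : K, ConjClasses.mk k = cK → ∀ x ∈ P, ∀ k' : K, (k' : G) = x * (k : G) * x⁻¹ →
      ConjClasses.mk k' = cK) :
    ∃ k : K, ConjClasses.mk k = cK ∧ ∀ x ∈ P, x * (k : G) * x⁻¹ = k := by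
  have hdvd := card_class_carrier_dvd cK
  have hcard : ¬ p ∣ Nat.card ({k : K | ConjClasses.mk k = cK} : Set K) :=
    fun hd => hK (hd.trans hdvd)
  obtain ⟨k, hkS, hk⟩ := exists_fixed_conj_pgroup p P K hP hnorm {k : K | ConjClasses.mk k = cK}
    (fun x hx k hk k' hk' => hinv k hk x hx k' hk') hcard
  exact ⟨k, hkS, hk⟩

/-- the map from the real classes of `C_K(P)` to the real `P`-invariant classes of `K` is a
bijection. -/
theorem class_bij (hP : IsPGroup p P) (hK : ¬ p ∣ Nat.card K)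
    (hnorm : ∀ x ∈ P, ∀ k ∈ K, x * k * x⁻¹ ∈ K) :
    Nat.card {cC : ConjClasses (fixSub P K) // ∀ k : fixSub P K, ConjClasses.mk k = cC →
        IsConj k k⁻¹} =
      Nat.card {c : ConjClasses K // (∀ k : K, ConjClasses.mk k = c → IsConj k k⁻¹) ∧
        ∀ k : K, ConjClasses.mk k = c → ∀ x ∈ P, ∀ k' : K, (k' : G) = x * (k : G) * x⁻¹ →
          ConjClasses.mk k' = c} := by
  classical
  let ι : fixSub P K →* K := Subgroup.inclusion (fixSub_le P K)
  have hιfix : ∀ c : fixSub P K, ∀ x ∈ P, x * ((ι c : K) : G) * x⁻¹ = ((ι c : K) : G) := by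
    intro c x hx
    exact ((mem_fixSub_iff P K (c : G)).mp c.2).2 x hx
  -- conjugacy in `K` of elements of `C` descends to `C`
  have hdesc : ∀ c c' : fixSub P K, IsConj (ι c) (ι c') → IsConj c c' := by
    intro c c' h
    obtain ⟨k, hkfix, hk⟩ := conj_in_fixSub p P K hP hK hnorm (ι c) (ι c') (hιfix c) (hιfix c')
      (isConj_iff.mp h)
    have hkC : (k : G) ∈ fixSub P K := (mem_fixSub_iff P K _).mpr ⟨k.2, hkfix⟩
    refine isConj_iff.mpr ⟨⟨(k : G), hkC⟩, ?_⟩
    apply Subtype.ext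
    have := congrArg (Subtype.val : K → G) hk
    simp only [Subgroup.coe_mul, Subgroup.coe_inv] at this ⊢
    exact this
  let F : {cC : ConjClasses (fixSub P K) // ∀ k : fixSub P K, ConjClasses.mk k = cC →
        IsConj k k⁻¹} →
      {c : ConjClasses K // (∀ k : K, ConjClasses.mk k = c → IsConj k k⁻¹) ∧
        ∀ k : K, ConjClasses.mk k = c → ∀ x ∈ P, ∀ k' : K, (k' : G) = x * (k : G) * x⁻¹ →
          ConjClasses.mk k' = c} := fun cC =>
    ⟨ConjClasses.map ι cC.1, by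
      obtain ⟨cC, hreal⟩ := cC
      obtain ⟨c, rfl⟩ := ConjClasses.mk_surjective cC
      have hc : IsConj c c⁻¹ := hreal c rfl
      have hιc : IsConj (ι c) (ι c)⁻¹ := by
        have := ι.map_isConj hc
        rwa [map_inv] at this
      constructor
      · intro k hk
        change ConjClasses.mk k = ConjClasses.mk (ι c) at hk
        rw [ConjClasses.mk_eq_mk_iff_isConj] at hk
        exact real_of_isConj hk.symm hιc
      · intro k hk x hx k' hk'
        change ConjClasses.mk k = ConjClasses.mk (ι c) at hk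
        change ConjClasses.mk k' = ConjClasses.mk (ι c)
        rw [ConjClasses.mk_eq_mk_iff_isConj] at hk ⊢
        obtain ⟨a, ha⟩ := isConj_iff.mp hk.symm
        refine (isConj_iff.mpr ⟨⟨x * (a : G) * x⁻¹, hnorm x hx a a.2⟩, ?_⟩).symm
        apply Subtype.ext
        have ha' := congrArg (Subtype.val : K → G) ha
        simp only [Subgroup.coe_mul, Subgroup.coe_inv] at ha' ⊢
        rw [hk', ← ha']
        have h1 := hιfix c x⁻¹ (P.inv_mem hx)
        rw [inv_inv] at h1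
        calc x * ↑a * x⁻¹ * ↑(ι c) * (x * ↑a * x⁻¹)⁻¹
            = x * (↑a * (x⁻¹ * ↑(ι c) * x) * (↑a)⁻¹) * x⁻¹ := by group
          _ = x * (↑a * ↑(ι c) * (↑a)⁻¹) * x⁻¹ := by rw [h1]⟩
  have hF : Function.Bijective F := by
    constructor
    · rintro ⟨cC, hreal⟩ ⟨cC', hreal'⟩ hFF
      obtain ⟨c, rfl⟩ := ConjClasses.mk_surjective cC
      obtain ⟨c', rfl⟩ := ConjClasses.mk_surjective cC'
      have h1 : ConjClasses.mk (ι c) = ConjClasses.mk (ι c') := congrArg Subtype.val hFF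
      rw [ConjClasses.mk_eq_mk_iff_isConj] at h1
      apply Subtype.ext
      change ConjClasses.mk c = ConjClasses.mk c'
      rw [ConjClasses.mk_eq_mk_iff_isConj]
      exact hdesc c c' h1
    · rintro ⟨cK, hreal, hinv⟩
      obtain ⟨k₀, hk₀, hfix⟩ := exists_fixed_in_class p P K hP hK hnorm cK hinv
      have hk₀C : (k₀ : G) ∈ fixSub P K := (mem_fixSub_iff P K _).mpr ⟨k₀.2, hfix⟩
      have hιk₀ : ι ⟨(k₀ : G), hk₀C⟩ = k₀ := Subtype.ext rfl
      refine ⟨⟨ConjClasses.mk ⟨(k₀ : G), hk₀C⟩, ?_⟩, ?_⟩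
      · intro k hk
        rw [ConjClasses.mk_eq_mk_iff_isConj] at hk
        refine real_of_isConj hk.symm ?_
        apply hdesc
        rw [map_inv, hιk₀]
        exact hreal k₀ hk₀
      · apply Subtype.ext
        change ConjClasses.mk (ι ⟨(k₀ : G), hk₀C⟩) = cK
        rw [hιk₀, hk₀]
  exact Nat.card_eq_of_bijective F hF

theorem classInner_conj_conj' {C : Type*} [Group C] [Fintype C] (φ ψ : C → ℂ) :
    classInner (fun g => conj (φ g)) (fun g => conj (ψ g)) = conj (classInner φ ψ) := by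
  simp only [classInner, map_mul, map_inv₀, Complex.conj_natCast, map_sum, Complex.conj_conj]

/-- the Glauberman correspondence restricts to a bijection on real characters. -/
theorem char_bij (hP : IsPGroup p P) (hK : ¬ p ∣ Nat.card K)
    (hnorm : ∀ x ∈ P, ∀ k ∈ K, x * k * x⁻¹ ∈ K) :
    Nat.card {θ : IrrCharacter K // (∀ k : K, ((θ : K → ℂ) k).im = 0) ∧
        (∀ x ∈ P, ∀ k k' : K, (k' : G) = x * (k : G) * x⁻¹ → (θ : K → ℂ) k' = (θ : K → ℂ) k)} =
      Nat.card {β : IrrCharacter (fixSub P K) // ∀ c : fixSub P K,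
        ((β : fixSub P K → ℂ) c).im = 0} := by
  classical
  have : Fintype (fixSub P K) := Fintype.ofFinite _
  obtain ⟨n, hn⟩ := IsPGroup.iff_card.mp hP
  have hcop : (Nat.card K).Coprime p :=
    ((Nat.Prime.coprime_iff_not_dvd (Fact.out : p.Prime)).mpr hK).symm
  have hcorr : Cfsg.Agent.Lib.Helper04.GlaubCorr p K P (fixSub P K) (fixSub_le P K) :=
    Cfsg.Agent.Lib.Helper04.glaub_rel p n K P ⊥ (fixSub P K) (fixSub_le P K) hnorm
      (fun _ => hcop) bot_le
      (fun s _ t ht => by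
        rw [Subgroup.mem_bot] at ht ⊢
        rw [ht]; group)
      (fun t ht g _ => by
        rw [Subgroup.mem_bot] at ht
        rw [ht, one_mul, mul_one])
      (by rw [Subgroup.relIndex_bot_left, hn]) rfl
  obtain ⟨f, hfbij, hfm⟩ := hcorr
  -- complex conjugation on invariant characters
  let bar : {χ : IrrCharacter K // Cfsg.Agent.Lib.Helper04.SetInv K P (χ : K → ℂ)} →
      {χ : IrrCharacter K // Cfsg.Agent.Lib.Helper04.SetInv K P (χ : K → ℂ)} := fun χ =>
    ⟨conjIrr' χ.1, by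
      intro s hs g g' hg
      change conj ((χ.1 : K → ℂ) g') = conj ((χ.1 : K → ℂ) g)
      rw [χ.2 s hs g g' hg]⟩
  have hfbar : ∀ χ, f (bar χ) = conjIrr' (f χ) := by
    intro χ
    obtain ⟨m, hm, hcase⟩ := hfm χ (f χ)
    have hnd : ¬ p ∣ m := by
      rcases hcase with ⟨_, h⟩ | ⟨h, _⟩
      · exact Cfsg.Agent.Lib.Helper04.not_dvd_of_pm_one h
      · exact absurd rfl h
    obtain ⟨m', hm', hcase'⟩ := hfm (bar χ) (conjIrr' (f χ))
    have hmm : m' = m := by
      have h1 : classInner (fun c : fixSub P K => ((bar χ).1 : K → ℂ) ⟨c, fixSub_le P K c.2⟩)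
          ((conjIrr' (f χ) : IrrCharacter (fixSub P K)) : fixSub P K → ℂ) =
          conj (classInner (fun c : fixSub P K => (χ.1 : K → ℂ) ⟨c, fixSub_le P K c.2⟩)
            ((f χ : IrrCharacter (fixSub P K)) : fixSub P K → ℂ)) :=
        classInner_conj_conj' _ _
      rw [hm, hm', Complex.conj_natCast] at h1
      exact_mod_cast h1
    rcases hcase' with ⟨h, _⟩ | ⟨_, h⟩
    · exact h.symm
    · rw [hmm] at h
      exact absurd h hnd
  let g : {θ : IrrCharacter K // (∀ k : K, ((θ : K → ℂ) k).im = 0) ∧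
        (∀ x ∈ P, ∀ k k' : K, (k' : G) = x * (k : G) * x⁻¹ → (θ : K → ℂ) k' = (θ : K → ℂ) k)} →
      {β : IrrCharacter (fixSub P K) // ∀ c : fixSub P K,
        ((β : fixSub P K → ℂ) c).im = 0} := fun θ =>
    ⟨f ⟨θ.1, θ.2.2⟩, by
      rw [← conjIrr'_eq_iff, ← hfbar]
      congr 1
      apply Subtype.ext
      exact (conjIrr'_eq_iff θ.1).mpr θ.2.1⟩
  have hg : Function.Bijective g := by
    constructor
    · intro θ θ' h
      have h1 : f ⟨θ.1, θ.2.2⟩ = f ⟨θ'.1, θ'.2.2⟩ := congrArg Subtype.val h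
      have h2 := hfbij.1 h1
      apply Subtype.ext
      exact congrArg (fun z : {χ : IrrCharacter K //
        Cfsg.Agent.Lib.Helper04.SetInv K P (χ : K → ℂ)} => z.1) h2
    · rintro ⟨β, hβ⟩
      obtain ⟨χ, hχ⟩ := hfbij.2 β
      have h1 : f (bar χ) = f χ := by
        rw [hfbar, hχ]
        exact (conjIrr'_eq_iff β).mpr hβ
      have h2 := hfbij.1 h1
      have h3 : conjIrr' χ.1 = χ.1 := congrArg Subtype.val h2
      refine ⟨⟨χ.1, (conjIrr'_eq_iff χ.1).mp h3, χ.2⟩, ?_⟩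
      apply Subtype.ext
      exact hχ
  exact Nat.card_eq_of_bijective g hg

end

/-- Let P and K be subgroups of a finite group with P a p-group normalizing K and K of order prime to p. Then the number of P-invariant real-valued irreducible complex characters of K equals the number of conjugacy classes of K that are real (closed under inversion) and P-invariant. Moreover, if every real-valued irreducible character of K is P-invariant, then every real element of K (one conjugate in K to its inverse) is conjugate in K to an element centralized by P. -/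
theorem result {G : Type*} [Group G] [Finite G] (p : ℕ) [Fact p.Prime] (P K : Subgroup G) (hP : IsPGroup p ↥P) (hK : ¬ p ∣ Nat.card ↥K) (hPK : P ≤ Subgroup.normalizer (K : Set G)) : Nat.card {θ : Cfsg.IrrCharacter ↥K // (∀ k : ↥K, ((θ : ↥K → ℂ) k).im = 0) ∧ (∀ x ∈ P, ∀ k k' : ↥K, (k' : G) = x * (k : G) * x⁻¹ → (θ : ↥K → ℂ) k' = (θ : ↥K → ℂ) k)} = Nat.card {c : ConjClasses ↥K // (∀ k : ↥K, ConjClasses.mk k = c → IsConj k k⁻¹) ∧ ∀ k : ↥K, ConjClasses.mk k = c → ∀ x ∈ P, ∀ k' : ↥K, (k' : G) = x * (k : G) * x⁻¹ → ConjClasses.mk k' = c} ∧ ((∀ θ : Cfsg.IrrCharacter ↥K, (∀ k : ↥K, ((θ : ↥K → ℂ) k).im = 0) → (∀ x ∈ P, ∀ k k' : ↥K, (k' : G) = x * (k : G) * x⁻¹ → (θ : ↥K → ℂ) k' = (θ : ↥K → ℂ) k)) → ∀ k : ↥K, IsConj k k⁻¹ → ∃ k' : ↥K, IsConj k k' ∧ ∀ x ∈ P, x * (k' : G) * x⁻¹ = (k' : G)) := by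
  classical
  have hnorm : ∀ x ∈ P, ∀ k ∈ K, x * k * x⁻¹ ∈ K := by
    intro x hx k hk
    have := (Subgroup.mem_normalizer_iff.mp (hPK hx)) k
    exact this.mp hk
  have hmain : Nat.card {θ : Cfsg.IrrCharacter ↥K // (∀ k : ↥K, ((θ : ↥K → ℂ) k).im = 0) ∧
      (∀ x ∈ P, ∀ k k' : ↥K, (k' : G) = x * (k : G) * x⁻¹ →
        (θ : ↥K → ℂ) k' = (θ : ↥K → ℂ) k)} =
      Nat.card {c : ConjClasses ↥K // (∀ k : ↥K, ConjClasses.mk k = c → IsConj k k⁻¹) ∧
        ∀ k : ↥K, ConjClasses.mk k = c → ∀ x ∈ P, ∀ k' : ↥K, (k' : G) = x * (k : G) * x⁻¹ →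
          ConjClasses.mk k' = c} := by
    rw [char_bij p P K hP hK hnorm, card_real_irr_eq_card_real_classes,
      class_bij p P K hP hK hnorm]
  refine ⟨hmain, ?_⟩
  intro hall k hk
  -- all real classes are `P`-invariant
  have h1 : Nat.card {θ : Cfsg.IrrCharacter ↥K // ∀ k : ↥K, ((θ : ↥K → ℂ) k).im = 0} =
      Nat.card {θ : Cfsg.IrrCharacter ↥K // (∀ k : ↥K, ((θ : ↥K → ℂ) k).im = 0) ∧
      (∀ x ∈ P, ∀ k k' : ↥K, (k' : G) = x * (k : G) * x⁻¹ →
        (θ : ↥K → ℂ) k' = (θ : ↥K → ℂ) k)} := by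
    apply Nat.card_congr
    apply Equiv.subtypeEquivRight
    intro θ
    constructor
    · intro h; exact ⟨h, hall θ h⟩
    · intro h; exact h.1
  rw [hmain, card_real_irr_eq_card_real_classes] at h1
  set A : Set (ConjClasses ↥K) := {c | ∀ k : ↥K, ConjClasses.mk k = c → IsConj k k⁻¹} with hA
  set B : Set (ConjClasses ↥K) := {c | (∀ k : ↥K, ConjClasses.mk k = c → IsConj k k⁻¹) ∧
        ∀ k : ↥K, ConjClasses.mk k = c → ∀ x ∈ P, ∀ k' : ↥K, (k' : G) = x * (k : G) * x⁻¹ →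
          ConjClasses.mk k' = c} with hB
  have hBA : B ⊆ A := fun c hc => hc.1
  have hcard : A.ncard ≤ B.ncard := by
    have e1 : Nat.card A = A.ncard := Nat.card_coe_set_eq A
    have e2 : Nat.card B = B.ncard := Nat.card_coe_set_eq B
    rw [← e1, ← e2]
    exact le_of_eq h1
  have hEq : B = A := Set.eq_of_subset_of_ncard_le hBA hcard (Set.toFinite A)
  have hkA : ConjClasses.mk k ∈ A := by
    intro k' hk'
    rw [ConjClasses.mk_eq_mk_iff_isConj] at hk'
    exact real_of_isConj hk'.symm hk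
  rw [← hEq] at hkA
  obtain ⟨k₀, hk₀, hfix⟩ := exists_fixed_in_class p P K hP hK hnorm (ConjClasses.mk k) hkA.2
  refine ⟨k₀, ?_, hfix⟩
  rw [ConjClasses.mk_eq_mk_iff_isConj] at hk₀
  exact hk₀.symm

end Cfsg.Agent.S4911
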