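import Cfsg.Statements.S4912
import Cfsg.Agent.Lib.Helper33.RealInd
import Cfsg.Agent.Lib.Helper84.Clifford
import Cfsg.Agent.Lib.Helper84.Gallagher
import Cfsg.Agent.Lib.Helper84.CosetAvg
import Cfsg.Agent.Lib.Helper84.NormalAction
import Cfsg.Agent.Lib.Helper84.LinearTwist
import Cfsg.Agent.Lib.Helper83.CharBasic
import Cfsg.Agent.Lib.Helper83.Decompose
import Cfsg.Agent.Lib.Helper83.Linear
import Cfsg.Agent.Lib.Helper34.Induction
import Cfsg.Agent.Lib.Helper33.Constituent
import Cfsg.Agent.Lib.Helper79.FrobSchurCount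
import Cfsg.Agent.Lib.Helper04.Orthonormal
import Cfsg.Agent.S1489
-- import your own Cfsg.Agent.* helpers here

set_option autoImplicit false
open Cfsg

namespace Cfsg.Agent.S4912

open Cfsg.Agent.Lib.Helper84 in
/-- Let G be a finite group with a non-abelian minimal normal subgroup N, and let φ be an irreducible complex character of N with stabilizer I in G such that φ extends to an irreducible character of I with Frobenius–Schur indicator +1. Put d = φ(1)·[G : I]. Then the number of linear characters of G with Frobenius–Schur indicator +1 is at most [G : I] times the number of irreducible characters of G of degree d with Frobenius–Schur indicator +1. -/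
theorem result {G : Type*} [Group G] [Finite G] (N : Subgroup G) (hN : N.Normal) (hN1 : N ≠ ⊥) (hmin : ∀ M : Subgroup G, M.Normal → M ≤ N → M = ⊥ ∨ M = N) (hna : ¬ IsMulCommutative ↥N) (φ : Cfsg.IrrCharacter ↥N) (I : Subgroup G) (hI : ∀ g : G, g ∈ I ↔ ∀ n n' : ↥N, (n' : G) = g * (n : G) * g⁻¹ → (φ : ↥N → ℂ) n' = (φ : ↥N → ℂ) n) (hNI : N ≤ I) (hext : ∃ ψ : Cfsg.IrrCharacter ↥I, (Nat.card ↥I : ℂ)⁻¹ * ∑ᶠ g : ↥I, (ψ : ↥I → ℂ) (g * g) = 1 ∧ ∀ n : ↥N, (ψ : ↥I → ℂ) (Subgroup.inclusion hNI n) = (φ : ↥N → ℂ) n) : Nat.card {χ : Cfsg.IrrCharacter G // Cfsg.charDegree (χ : G → ℂ) = 1 ∧ (Nat.card G : ℂ)⁻¹ * ∑ᶠ g : G, (χ : G → ℂ) (g * g) = 1} ≤ I.index * Nat.card {χ : Cfsg.IrrCharacter G // Cfsg.charDegree (χ : G → ℂ) = Cfsg.charDegree (φ : ↥N → ℂ) * I.index ∧ (Nat.card G : ℂ)⁻¹ * ∑ᶠ g : G, (χ : G → ℂ) (g * g) = 1} := by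
  classical
  haveI : Fintype G := Fintype.ofFinite G
  haveI : Fintype N := Fintype.ofFinite _
  haveI : Fintype I := Fintype.ofFinite _
  haveI := hN
  obtain ⟨ψ, hψν, hψφ⟩ := hext
  -- indicators in terms of `Cfsg.Agent.Lib.Helper79.fsInd`
  have hfsG : ∀ χ : G → ℂ, (Nat.card G : ℂ)⁻¹ * ∑ᶠ g : G, χ (g * g) = Cfsg.Agent.Lib.Helper79.fsInd χ := by
    intro χ; unfold Cfsg.Agent.Lib.Helper79.fsInd; rw [finsum_eq_sum_of_fintype]
  have hfsI : ∀ χ : I → ℂ, (Nat.card I : ℂ)⁻¹ * ∑ᶠ g : I, χ (g * g) = Cfsg.Agent.Lib.Helper79.fsInd χ := by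
    intro χ; unfold Cfsg.Agent.Lib.Helper79.fsInd; rw [finsum_eq_sum_of_fintype]
  simp only [hfsG]
  rw [hfsI] at hψν
  set ψf : I → ℂ := (ψ : I → ℂ) with hψf
  have hψirr : IsIrrCharacter I ψf := ψ.2
  have hφirr : IsIrrCharacter N (φ : N → ℂ) := φ.2
  -- `N` is perfect
  have hperf : ⁅N, N⁆ = N := by
    have hle : ⁅N, N⁆ ≤ N := Subgroup.commutator_le_left N N
    rcases hmin ⁅N, N⁆ inferInstance hle with h | h
    · exfalso
      apply hna
      have hc := Subgroup.commutator_eq_bot_iff_le_centralizer.1 h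
      refine ⟨⟨fun a b => ?_⟩⟩
      have := hc a.2
      rw [Subgroup.mem_centralizer_iff] at this
      exact Subtype.ext (this b b.2).symm
    · exact h
  have htrivN : ∀ lam : G → ℂ, IsCharacter G lam → lam 1 = 1 → ∀ n ∈ N, lam n = 1 := by
    intro lam hl h1 n hn
    apply Cfsg.Agent.Lib.Helper83.char_deg_one_commutator hl h1
    rw [← hperf] at hn
    exact Subgroup.commutator_mono le_top le_top hn
  -- inertia group in `conjFun` form
  have hT : ∀ g : G, g ∈ I ↔ ∀ n : N, Cfsg.Agent.Lib.Helper84.conjFun N g (φ : N → ℂ) n = (φ : N → ℂ) n := by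
    intro g
    rw [hI g]
    constructor
    · intro h n
      rw [Cfsg.Agent.Lib.Helper84.conjFun_apply]
      exact h n ⟨g * n * g⁻¹, hN.conj_mem n n.2 g⟩ rfl
    · intro h n n' hn'
      have := h n
      rw [Cfsg.Agent.Lib.Helper84.conjFun_apply] at this
      have e : n' = ⟨g * n * g⁻¹, hN.conj_mem n n.2 g⟩ := Subtype.ext hn'
      rw [e]
      exact this
  -- the real linear characters and their twists
  have hkey : ∀ lam : G → ℂ, IsIrrCharacter G lam → charDegree lam = 1 → Cfsg.Agent.Lib.Helper79.fsInd lam = 1 →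
      IsCharacter G lam ∧ lam 1 = 1 ∧ (∀ g, lam g * lam g = 1) := by
    intro lam hl hd hν
    have hlc : IsCharacter G lam := Cfsg.Agent.Lib.Helper83.isCharacter_of_irr hl
    have h1 : lam 1 = 1 := by
      rw [← Cfsg.Agent.Lib.Helper83.charDegree_cast hlc, hd]; simp
    refine ⟨hlc, h1, fun g => ?_⟩
    have hreal := (Cfsg.Agent.Lib.Helper79.fsInd_irr_cases ⟨lam, hl⟩).2 (by
      show Cfsg.Agent.Lib.Helper79.fsInd lam ≠ 0
      rw [hν]; exact one_ne_zero) g
    have hc := Cfsg.Agent.Lib.Helper83.char_deg_one_conj_mul hlc h1 g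
    have hconj : (starRingEnd ℂ) (lam g) = lam g := Complex.conj_eq_iff_im.2 hreal
    rw [hconj] at hc
    exact hc
  have htw : ∀ lam : G → ℂ, IsCharacter G lam → lam 1 = 1 → (∀ g, lam g * lam g = 1) →
      IsIrrCharacter I (ψf * fun i : I => lam i) ∧
      resFun N I hNI (ψf * fun i : I => lam i) = (φ : N → ℂ) ∧
      indFun I (ψf * fun i : I => lam i) = indFun I ψf * lam ∧
      IsIrrCharacter G (indFun I ψf * lam) ∧ Cfsg.Agent.Lib.Helper79.fsInd (indFun I ψf * lam) = 1 ∧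
      charDegree (indFun I ψf * lam) = charDegree (φ : N → ℂ) * I.index := by
    intro lam hlc h1 hsq
    have hlI : IsCharacter I (fun i : I => lam i) := Cfsg.Agent.Lib.Helper83.isCharacter_restrict I hlc
    have hirr' : IsIrrCharacter I (ψf * fun i : I => lam i) :=
      isIrrCharacter_mul_linear hlI h1 hψirr
    have hres : resFun N I hNI (ψf * fun i : I => lam i) = (φ : N → ℂ) := by
      funext n
      rw [resFun_apply]
      show ψf ⟨(n : G), hNI n.2⟩ * lam (n : G) = _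
      rw [htrivN lam hlc h1 n n.2, mul_one]
      exact hψφ n
    have hind : indFun I (ψf * fun i : I => lam i) = indFun I ψf * lam :=
      indFun_mul_restrict I ψf (Cfsg.Agent.Lib.Helper83.char_isClassFunction hlc)
    have hirrG : IsIrrCharacter G (indFun I (ψf * fun i : I => lam i)) := by
      apply isIrrCharacter_indFun_inertia N I hNI hφirr hT hirr'
      rw [hres, Cfsg.Agent.Lib.Helper83.irr_inner_self φ]
      exact one_ne_zero
    have hν' : Cfsg.Agent.Lib.Helper79.fsInd (ψf * fun i : I => lam i) = 1 := by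
      rw [← hψν]
      unfold Cfsg.Agent.Lib.Helper79.fsInd
      congr 1
      apply Finset.sum_congr rfl
      intro u _
      show ψf (u * u) * lam ((u * u : I) : G) = ψf (u * u)
      have : lam ((u * u : I) : G) = 1 := by
        rw [Subgroup.coe_mul, Cfsg.Agent.Lib.Helper83.char_deg_one_mul hlc h1, hsq]
      rw [this, mul_one]
    have hνG := Cfsg.Agent.Lib.Helper33.RealInd.fsInd_indFun_eq_one I hirr' hν' hirrG
    have hdeg : charDegree (indFun I (ψf * fun i : I => lam i)) =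
        charDegree (φ : N → ℂ) * I.index := by
      have h1' : (ψf * fun i : I => lam i) 1 = (φ : N → ℂ) 1 := by
        show ψf 1 * lam ((1 : I) : G) = _
        rw [Subgroup.coe_one, h1, mul_one]
        have := hψφ 1
        rwa [map_one] at this
      have h2 : indFun I (ψf * fun i : I => lam i) 1 =
          ((charDegree (φ : N → ℂ) * I.index : ℕ) : ℂ) := by
        rw [Cfsg.Agent.Lib.Helper33.indFun_one, h1',
          ← Cfsg.Agent.Lib.Helper83.charDegree_cast (Cfsg.Agent.Lib.Helper83.isCharacter_of_irr hφirr)]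
        push_cast
        ring
      have h3 : charDegree (indFun I (ψf * fun i : I => lam i)) =
          ⌊(indFun I (ψf * fun i : I => lam i) 1).re⌋₊ := rfl
      rw [h3, h2, Complex.natCast_re, Nat.floor_natCast]
    rw [hind] at hirrG hνG hdeg
    exact ⟨hirr', hres, hind, hirrG, hνG, hdeg⟩
  -- the map `F`
  let Λ := {χ : Cfsg.IrrCharacter G // Cfsg.charDegree (χ : G → ℂ) = 1 ∧ Cfsg.Agent.Lib.Helper79.fsInd (χ : G → ℂ) = 1}
  let T := {χ : Cfsg.IrrCharacter G // Cfsg.charDegree (χ : G → ℂ) =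
    Cfsg.charDegree (φ : ↥N → ℂ) * I.index ∧ Cfsg.Agent.Lib.Helper79.fsInd (χ : G → ℂ) = 1}
  have hΛ : ∀ l : Λ, IsCharacter G (l.1 : G → ℂ) ∧ (l.1 : G → ℂ) 1 = 1 ∧
      (∀ g, (l.1 : G → ℂ) g * (l.1 : G → ℂ) g = 1) := fun l => hkey _ l.1.2 l.2.1 l.2.2
  let F : Λ → T := fun l =>
    ⟨⟨indFun I ψf * (l.1 : G → ℂ), (htw _ (hΛ l).1 (hΛ l).2.1 (hΛ l).2.2).2.2.2.1⟩,
      (htw _ (hΛ l).1 (hΛ l).2.1 (hΛ l).2.2).2.2.2.2.2, (htw _ (hΛ l).1 (hΛ l).2.1 (hΛ l).2.2).2.2.2.2.1⟩
  -- fibres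
  have hfib : ∀ l l' : Λ, F l = F l' → ∀ i ∈ I, (l.1 : G → ℂ) i = (l'.1 : G → ℂ) i := by
    intro l l' hF i hi
    have hF' : indFun I ψf * (l.1 : G → ℂ) = indFun I ψf * (l'.1 : G → ℂ) :=
      congrArg (fun t : T => (t.1 : G → ℂ)) hF
    obtain ⟨hl1, hl2, hl3⟩ := hΛ l
    obtain ⟨hm1, hm2, hm3⟩ := hΛ l'
    obtain ⟨a1, a2, a3, -, -, -⟩ := htw _ hl1 hl2 hl3
    obtain ⟨b1, b2, b3, -, -, -⟩ := htw _ hm1 hm2 hm3
    rw [← a3, ← b3] at hF'
    -- Clifford correspondence
    have hconv : ∀ ψ' : I → ℂ, IsIrrCharacter I ψ' → resFun N I hNI ψ' = (φ : N → ℂ) →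
        classInner (indFun (N.subgroupOf I)
          (fun x => (φ : N → ℂ) ⟨(x : I), Subgroup.mem_subgroupOf.mp x.2⟩)) ψ' ≠ 0 := by
      intro ψ' hψ' hres
      haveI : Fintype (N.subgroupOf I) := Fintype.ofFinite _
      rw [Cfsg.Agent.Lib.Helper34.classInner_indFun_left (N.subgroupOf I) _ ψ'
        (Cfsg.Agent.Lib.Helper83.char_isClassFunction (Cfsg.Agent.Lib.Helper83.isCharacter_of_irr hψ'))]
      have h1 : (fun x : N.subgroupOf I => (φ : N → ℂ) ⟨(x : I), Subgroup.mem_subgroupOf.mp x.2⟩) =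
          fun x : N.subgroupOf I => (φ : N → ℂ) (Subgroup.subgroupOfEquivOfLe hNI x) := rfl
      have h2 : (fun h : N.subgroupOf I => ψ' h) =
          fun x : N.subgroupOf I => resFun N I hNI ψ' (Subgroup.subgroupOfEquivOfLe hNI x) := rfl
      rw [h1, h2, classInner_subgroupOf, hres, Cfsg.Agent.Lib.Helper83.irr_inner_self φ]
      exact one_ne_zero
    have hTS : ∀ g : G, g ∈ I ↔ ∀ h : N, (φ : N → ℂ) ⟨g * h * g⁻¹, hN.conj_mem h h.2 g⟩ = (φ : N → ℂ) h := by
      intro g
      rw [hT g]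
      constructor
      · intro h n; have := h n; rwa [Cfsg.Agent.Lib.Helper84.conjFun_apply] at this
      · intro h n; rw [Cfsg.Agent.Lib.Helper84.conjFun_apply]; exact h n
    have hcl := (Cfsg.Agent.S1489.result N I (φ : N → ℂ) hφirr hTS hNI _ _ a1 b1
      (hconv _ a1 a2) (hconv _ b1 b2)).2 hF'
    -- Gallagher injectivity
    haveI : Fintype (N.subgroupOf I) := Fintype.ofFinite _
    have hψN : IsIrrCharacter (N.subgroupOf I) (fun n : N.subgroupOf I => ψf n) := by
      have h0 : (fun n : N.subgroupOf I => ψf n) =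
          fun n : N.subgroupOf I => (φ : N → ℂ) (Subgroup.subgroupOfEquivOfLe hNI n) := by
        funext n
        exact hψφ (Subgroup.subgroupOfEquivOfLe hNI n)
      rw [h0]
      exact isIrrCharacter_comp_mulEquiv (Subgroup.subgroupOfEquivOfLe hNI) hφirr
    have hκ : ∀ lam : G → ℂ, IsCharacter G lam → lam 1 = 1 →
        ∀ n ∈ N.subgroupOf I, (fun i : I => lam i) n = 1 := by
      intro lam hlc h1 n hn
      exact htrivN lam hlc h1 n (Subgroup.mem_subgroupOf.mp hn)
    have hlin := mul_linear_injective (N.subgroupOf I)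
      (Cfsg.Agent.Lib.Helper83.isCharacter_of_irr hψirr) hψN
      (Cfsg.Agent.Lib.Helper83.isCharacter_restrict I hl1)
      (Cfsg.Agent.Lib.Helper83.isCharacter_restrict I hm1)
      (by show (l.1 : G → ℂ) ((1 : I) : G) = 1; rw [Subgroup.coe_one]; exact hl2)
      (by show (l'.1 : G → ℂ) ((1 : I) : G) = 1; rw [Subgroup.coe_one]; exact hm2)
      (hκ _ hl1 hl2) (hκ _ hm1 hm2) hcl
    exact congrFun hlin ⟨i, hi⟩
  -- counting
  haveI : Finite (Cfsg.IrrCharacter G) := Cfsg.Agent.Lib.Helper04.irr_finite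
  haveI : Fintype Λ := Fintype.ofFinite _
  haveI : Fintype T := Fintype.ofFinite _
  have hbound : ∀ l₀ : Λ, (Finset.univ.filter (fun l : Λ => F l = F l₀)).card ≤ I.index := by
    intro l₀
    rw [← Fintype.card_subtype]
    have := Cfsg.Agent.Lib.Helper33.RealInd.card_le_index_of_restrict_eq I
      (ι := {l : Λ // F l = F l₀}) (fun s => (s.1.1 : G → ℂ))
      (fun s t hst => Subtype.ext (Subtype.ext (Subtype.ext hst)))
      (fun s => (hΛ s.1).1) (fun s => (hΛ s.1).2.1)
      (fun s t i hi => by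
        rw [hfib s.1 l₀ s.2 i hi, hfib t.1 l₀ t.2 i hi])
    rwa [Nat.card_eq_fintype_card] at this
  have hmain := Finset.card_le_mul_card_image (f := F) (Finset.univ : Finset Λ) I.index (by
    intro a ha
    obtain ⟨l₀, -, rfl⟩ := Finset.mem_image.1 ha
    exact hbound l₀)
  show Nat.card Λ ≤ I.index * Nat.card T
  rw [Nat.card_eq_fintype_card, Nat.card_eq_fintype_card]
  calc Fintype.card Λ = (Finset.univ : Finset Λ).card := Finset.card_univ.symm
    _ ≤ I.index * ((Finset.univ : Finset Λ).image F).card := hmain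
    _ ≤ I.index * Fintype.card T := Nat.mul_le_mul_left _ (Finset.card_le_univ _)

end Cfsg.Agent.S4912
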