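import Cfsg.Statements.S4914
import Cfsg.Agent.Lib.Helper04.RelSylGlobal

set_option autoImplicit false
open Cfsg

namespace Cfsg.Agent.S4914

/-- Let P and K be subgroups of a finite group G with P a p-group normalizing K, and suppose K has a normal Sylow p-subgroup Q. Let C be the subgroup of those k ∈ K whose commutator with every element of P lies in Q (so that C/Q is the fixed-point subgroup of P on K/Q). Then there is a bijection f from the P-invariant irreducible complex characters of K onto the P-invariant irreducible complex characters of C such that, for every P-invariant irreducible character χ of K, the multiplicity of f(χ) in the restriction of χ to C is a natural number congruent to 1 or to −1 modulo p, every other P-invariant irreducible character of C occurs in that restriction with multiplicity divisible by p, and the degrees of χ and f(χ) are congruent modulo p up to sign. -/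
theorem result {G : Type*} [Group G] [Finite G] (p : ℕ) [Fact p.Prime] (P K Q C : Subgroup G) (hP : IsPGroup p ↥P) (hPK : P ≤ Subgroup.normalizer (K : Set G)) (hQK : Q ≤ K) (hQn : ∀ k ∈ K, ∀ q ∈ Q, k * q * k⁻¹ ∈ Q) (hQp : ∃ a : ℕ, Nat.card ↥Q = p ^ a) (hQsyl : ¬ p ∣ Q.relIndex K) (hCK : C ≤ K) (hC : ∀ k : G, k ∈ C ↔ (k ∈ K ∧ ∀ x ∈ P, x * k * x⁻¹ * k⁻¹ ∈ Q)) : ∃ f : {χ : Cfsg.IrrCharacter ↥K // (∀ x ∈ P, ∀ k k' : ↥K, (k' : G) = x * (k : G) * x⁻¹ → (χ : ↥K → ℂ) k' = (χ : ↥K → ℂ) k)} → {ξ : Cfsg.IrrCharacter ↥C // (∀ x ∈ P, ∀ k k' : ↥C, (k' : G) = x * (k : G) * x⁻¹ → (ξ : ↥C → ℂ) k' = (ξ : ↥C → ℂ) k)}, Function.Bijective f ∧ ∀ χ, (∀ ξ : {ξ : Cfsg.IrrCharacter ↥C // (∀ x ∈ P, ∀ k k' : ↥C, (k' : G) = x * (k : G) * x⁻¹ → (ξ : ↥C → ℂ) k' = (ξ : ↥C → ℂ) k)}, ∃ m : ℕ, (Nat.card ↥C : ℂ)⁻¹ * ∑ᶠ c : ↥C, (χ.1 : ↥K → ℂ) (Subgroup.inclusion hCK c) * (starRingEnd ℂ) ((ξ.1 : ↥C → ℂ) c) = (m : ℂ) ∧ (ξ = f χ → ((m : ZMod p) = 1 ∨ (m : ZMod p) = -1))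 ∧ (ξ ≠ f χ → p ∣ m)) ∧ ((Cfsg.charDegree ((f χ).1 : ↥C → ℂ) : ZMod p) = (Cfsg.charDegree (χ.1 : ↥K → ℂ) : ZMod p) ∨ (Cfsg.charDegree ((f χ).1 : ↥C → ℂ) : ZMod p) = -(Cfsg.charDegree (χ.1 : ↥K → ℂ) : ZMod p)) := by
  classical
  have : Fintype G := Fintype.ofFinite G
  have : Fintype K := Fintype.ofFinite _
  have : Fintype C := Fintype.ofFinite _
  have : Fintype Q := Fintype.ofFinite _
  have hPK' : ∀ x ∈ P, ∀ k ∈ K, x * k * x⁻¹ ∈ K := by
    intro x hx k hk
    exact (Subgroup.mem_normalizer_iff.mp (hPK hx) k).mp hk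
  obtain ⟨f, hfbij, hf⟩ := Cfsg.Agent.Lib.Helper04.rel_syl_corr p K Q P C hQK hQn hQp hQsyl hP hPK'
    hCK hC
  refine ⟨f, hfbij, ?_⟩
  intro χ
  obtain ⟨h1, h2⟩ := hf χ
  refine ⟨?_, ?_⟩
  · intro ξ
    obtain ⟨m, hm, hcase⟩ := h1 ξ
    refine ⟨m, ?_, ?_, ?_⟩
    · rw [finsum_eq_sum_of_fintype]
      exact hm
    · intro hξ
      rcases hcase with ⟨_, h | h⟩ | ⟨hne, _⟩
      · left
        have := (ZMod.intCast_eq_intCast_iff _ _ _).mpr h
        simpa using this
      · right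
        have := (ZMod.intCast_eq_intCast_iff _ _ _).mpr h
        simpa using this
      · exact absurd hξ hne
    · intro hξ
      rcases hcase with ⟨he, _⟩ | ⟨_, h⟩
      · exact absurd he hξ
      · exact h
  · rcases h2 with h | h
    · left
      have := (ZMod.intCast_eq_intCast_iff _ _ _).mpr h
      simpa using this
    · right
      have := (ZMod.intCast_eq_intCast_iff _ _ _).mpr h
      simpa using this

end Cfsg.Agent.S4914
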