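import Cfsg.Statements.S4916
import Cfsg.Agent.Lib.Helper79.BlockDegSq
import Cfsg.Agent.Lib.Helper22.BlockRegular
import Cfsg.Agent.Lib.Helper83.Decompose

set_option autoImplicit false
open Cfsg

namespace Cfsg.Agent.S4916

/-- Let G be a finite group, p a prime and M a maximal ideal of the algebraic integers containing p. Then the principal character is the only irreducible character of degree prime to p in the principal p-block of G if and only if p does not divide the order of G. -/
theorem result {G : Type*} [Group G] [Finite G] (p : ℕ) [Fact p.Prime] (M : Ideal Cfsg.AlgInt) (hM : Cfsg.IsPModular p M) : (∀ χ : Cfsg.IrrCharacter G, χ ∈ Cfsg.principalBlock M G → ¬ p ∣ Cfsg.charDegree (χ : G → ℂ) → (χ : G → ℂ) = fun _ => (1 : ℂ)) ↔ ¬ p ∣ Nat.card G := by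
  classical
  let _ : Fintype G := Fintype.ofFinite G
  let _ : Fintype (IrrCharacter G) := Fintype.ofFinite _
  have hp : p.Prime := hM.1
  have hMp : M.IsPrime := hM.2.1.isPrime
  set τ : IrrCharacter G := Cfsg.Agent.Lib.Helper83.trivChar G with hτ
  have hτf : (τ : G → ℂ) = fun _ => (1 : ℂ) := rfl
  have hpb : principalBlock M G = blockOf M (τ : G → ℂ) := rfl
  constructor
  · intro h hdvd
    obtain ⟨P⟩ : Nonempty (Sylow p G) := inferInstance
    have h1 := Cfsg.Agent.Lib.Helper79.card_pSubgroup_dvd_sum_sq hM τ (P : Subgroup G) P.2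
    have hpP : p ∣ Nat.card (P : Subgroup G) := by
      rw [P.card_eq_multiplicity]
      apply dvd_pow_self
      intro h0
      have := (Nat.factorization_eq_zero_iff (Nat.card G) p).mp h0
      rcases this with h | h | h
      · exact h hp
      · exact h hdvd
      · exact Nat.card_pos.ne' h
    have h2 := dvd_trans hpP h1
    -- split off the trivial character
    rw [← Finset.add_sum_erase Finset.univ _ (Finset.mem_univ τ)] at h2
    have hτmem : τ ∈ blockOf M (τ : G → ℂ) := Cfsg.Agent.Lib.Helper82.mem_blockOf_self hMp τ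
    have hτdeg : charDegree (τ : G → ℂ) = 1 := by
      have h3 := Cfsg.Agent.Lib.Helper82.IsCharacter.charDegree_cast
        (Cfsg.Agent.Lib.Helper82.IsIrrCharacter.isCharacter τ.2)
      have h4 : (τ : G → ℂ) 1 = 1 := rfl
      rw [h4] at h3
      exact_mod_cast h3
    rw [if_pos hτmem, hτdeg, one_pow] at h2
    have h3 : p ∣ ∑ χ ∈ Finset.univ.erase τ,
        if χ ∈ blockOf M (τ : G → ℂ) then charDegree (χ : G → ℂ) ^ 2 else 0 := by
      apply Finset.dvd_sum
      intro χ hχ
      split_ifs with hχB
      · by_cases hd : p ∣ charDegree (χ : G → ℂ)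
        · exact Dvd.dvd.pow hd two_ne_zero
        · exfalso
          have := h χ (by rw [hpb]; exact hχB) hd
          apply (Finset.mem_erase.mp hχ).1
          apply Subtype.ext
          rw [this, hτf]
      · exact dvd_zero p
    have h4 : p ∣ 1 := (Nat.dvd_add_left h3).mp h2
    exact hp.one_lt.ne' (Nat.dvd_one.mp h4)
  · intro hG χ hχ _
    rw [hpb] at hχ
    have := Cfsg.Agent.Lib.Helper22.eq_of_sameBlock_of_pprime hM hG τ χ hχ
    rw [← this, hτf]


end Cfsg.Agent.S4916
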