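import Cfsg.Statements.S4931
import Cfsg.Agent.Lib.Helper04.SylNormExt

set_option autoImplicit false
open Cfsg

namespace Cfsg.Agent.S4931

/-- Let G be a finite group, p a prime and P a Sylow p-subgroup of G with normalizer N. Then every irreducible complex character of N of degree not divisible by p is the restriction of an irreducible character of G if and only if there is a normal subgroup K of G with KN = G and K ∩ N = 1. -/
theorem result {G : Type*} [Group G] [Finite G] (p : ℕ) [Fact p.Prime] (P : Sylow p G) :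
    (∀ θ : Cfsg.IrrCharacter ↥(Subgroup.normalizer ((P : Subgroup G) : Set G)), ¬ p ∣ Cfsg.charDegree (θ : ↥(Subgroup.normalizer ((P : Subgroup G) : Set G)) → ℂ) →
        ∃ χ : Cfsg.IrrCharacter G, ∀ x : ↥(Subgroup.normalizer ((P : Subgroup G) : Set G)), (χ : G → ℂ) x = (θ : ↥(Subgroup.normalizer ((P : Subgroup G) : Set G)) → ℂ) x) ↔
      ∃ K : Subgroup G, K.Normal ∧ K ⊔ Subgroup.normalizer ((P : Subgroup G) : Set G) = ⊤ ∧ K ⊓ Subgroup.normalizer ((P : Subgroup G) : Set G) = ⊥ := by
  constructor
  · intro h
    exact Cfsg.Agent.Lib.Helper04.exists_normal_complement_of_ext p P h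
  · rintro ⟨K, hKn, hsup, hinf⟩ θ _
    haveI := hKn
    -- the isomorphism of the normalizer onto the quotient by `K`
    let φ : ↥(Subgroup.normalizer ((P : Subgroup G) : Set G)) →* G ⧸ K :=
      (QuotientGroup.mk' K).comp (Subgroup.normalizer ((P : Subgroup G) : Set G)).subtype
    have hinj : Function.Injective φ := by
      rw [injective_iff_map_eq_one]
      intro x hx
      have h1 : (x : G) ∈ K := (QuotientGroup.eq_one_iff _).mp hx
      have h2 : (x : G) ∈ K ⊓ Subgroup.normalizer ((P : Subgroup G) : Set G) :=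
        Subgroup.mem_inf.mpr ⟨h1, x.2⟩
      rw [hinf, Subgroup.mem_bot] at h2
      exact Subtype.ext h2
    have hsurj : Function.Surjective φ := by
      intro y
      obtain ⟨g, rfl⟩ := QuotientGroup.mk'_surjective K y
      have hg : g ∈ K ⊔ Subgroup.normalizer ((P : Subgroup G) : Set G) := by
        rw [hsup]
        exact Subgroup.mem_top g
      rw [← SetLike.mem_coe, Subgroup.normal_mul, Set.mem_mul] at hg
      obtain ⟨k, hk, n, hn, rfl⟩ := hg
      refine ⟨⟨n, hn⟩, ?_⟩
      show (QuotientGroup.mk' K) n = (QuotientGroup.mk' K) (k * n)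
      rw [map_mul]
      have : (QuotientGroup.mk' K) k = 1 := (QuotientGroup.eq_one_iff _).mpr hk
      rw [this, one_mul]
    let e : ↥(Subgroup.normalizer ((P : Subgroup G) : Set G)) ≃* G ⧸ K :=
      MulEquiv.ofBijective φ ⟨hinj, hsurj⟩
    let r : G →* ↥(Subgroup.normalizer ((P : Subgroup G) : Set G)) :=
      e.symm.toMonoidHom.comp (QuotientGroup.mk' K)
    have hr : Function.Surjective r := by
      intro x
      refine ⟨x, ?_⟩
      show e.symm ((QuotientGroup.mk' K) (x : G)) = x
      have : (QuotientGroup.mk' K) (x : G) = e x := rfl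
      rw [this, MulEquiv.symm_apply_apply]
    have hirr := Cfsg.Agent.Lib.Helper33.isIrrCharacter_comp_of_surjective r hr θ.2
    refine ⟨⟨_, hirr⟩, ?_⟩
    intro x
    show (θ : ↥(Subgroup.normalizer ((P : Subgroup G) : Set G)) → ℂ) (r (x : G)) = _
    have : r (x : G) = x := by
      show e.symm ((QuotientGroup.mk' K) (x : G)) = x
      have h : (QuotientGroup.mk' K) (x : G) = e x := rfl
      rw [h, MulEquiv.symm_apply_apply]
    rw [this]

end Cfsg.Agent.S4931
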