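import Cfsg.Statements.S4958
import Cfsg.Agent.Lib.Helper04.KnorrMain

set_option autoImplicit false
open Cfsg

namespace Cfsg.Agent.S4958

/-- Let X be a finite group and V a normal subgroup of X in which every element has order dividing the prime p, whose index in X is prime to p and which is its own centralizer in X; so V is an elementary abelian normal Sylow p-subgroup, and any complement G to V in X is a group of order prime to p acting faithfully on the vector space V by conjugation (the coprime linear setting of the k(GV) problem). Let G be a complement to V in X and suppose that for some v in V the centralizer of v in G is abelian. Then the number of conjugacy classes of X is at most the order of V (the abelian-stabilizer criterion for the k(GV) problem). -/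
theorem result {X : Type*} [Group X] [Finite X] (p : ℕ) [Fact p.Prime] (V : Subgroup X) [V.Normal] (hVexp : ∀ v ∈ V, v ^ p = 1) (hidx : ¬ p ∣ V.index) (hself : Subgroup.centralizer (V : Set X) = V) (G : Subgroup X) (hGV : Subgroup.IsComplement' V G) (v : X) (hv : v ∈ V) (hab : ∀ a ∈ G ⊓ Subgroup.centralizer ({v} : Set X), ∀ b ∈ G ⊓ Subgroup.centralizer ({v} : Set X), a * b = b * a) : Nat.card (ConjClasses X) ≤ Nat.card V := by
  classical
  by_cases hv1 : v = 1
  · subst hv1
    have hGab : ∀ a ∈ G, ∀ b ∈ G, a * b = b * a := by
      intro a ha b hb
      have h1 : ∀ g : X, g ∈ Subgroup.centralizer ({1} : Set X) := by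
        intro g
        rw [Subgroup.mem_centralizer_iff]
        intro h hh
        rw [Set.mem_singleton_iff] at hh
        subst hh
        simp
      exact hab a ⟨ha, h1 a⟩ b ⟨hb, h1 b⟩
    by_cases hV : V = ⊥
    · have htop : (⊤ : Subgroup X) = ⊥ := by
        rw [← hV, ← hself, hV]
        ext g
        simp only [Subgroup.mem_top, true_iff]
        rw [Subgroup.mem_centralizer_iff]
        intro h hh
        have : h = 1 := by simpa using hh
        subst this
        simp
      have hsub : Subsingleton X := by
        constructor
        intro a b
        have ha : a ∈ (⊤ : Subgroup X) := Subgroup.mem_top a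
        have hb : b ∈ (⊤ : Subgroup X) := Subgroup.mem_top b
        rw [htop, Subgroup.mem_bot] at ha hb
        rw [ha, hb]
      have h1 : Nat.card (ConjClasses X) ≤ Nat.card X :=
        Nat.card_le_card_of_surjective ConjClasses.mk ConjClasses.mk_surjective
      have h2 : Nat.card X = 1 := Nat.card_of_subsingleton 1
      have h3 : 0 < Nat.card V := Nat.card_pos
      omega
    · obtain ⟨v', hv', hv'1⟩ : ∃ v' ∈ V, v' ≠ 1 := by
        by_contra hcon
        push Not at hcon
        apply hV
        rw [eq_bot_iff]
        intro x hx
        rw [Subgroup.mem_bot]
        exact hcon x hx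
      exact Cfsg.Agent.Lib.Helper04.Knorr.knorr_main p V hVexp hidx hself G hGV v' hv' hv'1
        (fun a ha b hb => hGab a ha.1 b hb.1)
  · exact Cfsg.Agent.Lib.Helper04.Knorr.knorr_main p V hVexp hidx hself G hGV v hv hv1 hab

end Cfsg.Agent.S4958
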