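import Mathlib
import Cfsg.Statements.S4965

set_option autoImplicit false
open Cfsg

namespace Cfsg.Agent.S4965

section
variable {X : Type*} [Group X] (V : Subgroup X) [V.Normal]

/-- A chosen commuting pair of lifts of `(a, b)`, if there is one. -/
noncomputable def base (a b : X ⧸ V) : X × X :=
  open Classical in
  if h : ∃ q : X × X, Commute q.1 q.2 ∧ (QuotientGroup.mk q.1 : X ⧸ V) = a ∧
      (QuotientGroup.mk q.2 : X ⧸ V) = b then Classical.choose h else (1, 1)

omit [V.Normal] in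
theorem base_spec (a b : X ⧸ V)
    (h : ∃ q : X × X, Commute q.1 q.2 ∧ (QuotientGroup.mk q.1 : X ⧸ V) = a ∧
      (QuotientGroup.mk q.2 : X ⧸ V) = b) :
    Commute (base V a b).1 (base V a b).2 ∧ (QuotientGroup.mk (base V a b).1 : X ⧸ V) = a ∧
      (QuotientGroup.mk (base V a b).2 : X ⧸ V) = b := by
  unfold base
  rw [dif_pos h]
  exact Classical.choose_spec h

theorem mem_of_mk_eq (x y : X) (h : (QuotientGroup.mk x : X ⧸ V) = QuotientGroup.mk y) :
    x * y⁻¹ ∈ V := by
  have h1 : (QuotientGroup.mk (x * y⁻¹) : X ⧸ V) = 1 := by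
    rw [QuotientGroup.mk_mul, QuotientGroup.mk_inv, h, mul_inv_cancel]
  exact (QuotientGroup.eq_one_iff _).mp h1

theorem phi_coe (φ : X ⧸ V →* MulAut ↥V)
    (hφ : ∀ (x : X) (v : ↥V), ((φ (QuotientGroup.mk x) v : ↥V) : X) = x * v * x⁻¹)
    (a : X ⧸ V) (x₁ : X) (h : (QuotientGroup.mk x₁ : X ⧸ V) = a) (w : ↥V) :
    ((φ a w : ↥V) : X) = x₁ * w * x₁⁻¹ := by
  subst h
  exact hφ x₁ w

/-- The key commutation computation. -/
theorem key (φ : X ⧸ V →* MulAut ↥V)
    (hφ : ∀ (x : X) (v : ↥V), ((φ (QuotientGroup.mk x) v : ↥V) : X) = x * v * x⁻¹)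
    (x y x₁ y₁ : X) (hxy : x * y = y * x) (hc : x₁ * y₁ = y₁ * x₁)
    (a b : X ⧸ V) (hxa : (QuotientGroup.mk x : X ⧸ V) = a) (hyb : (QuotientGroup.mk y : X ⧸ V) = b)
    (h1 : (QuotientGroup.mk x₁ : X ⧸ V) = a) (h2 : (QuotientGroup.mk y₁ : X ⧸ V) = b)
    (hu : x * x₁⁻¹ ∈ V) (hw : y * y₁⁻¹ ∈ V) :
    (⟨⟨x * x₁⁻¹, hu⟩, a⟩ : SemidirectProduct ↥V (X ⧸ V) φ) * ⟨⟨y * y₁⁻¹, hw⟩, b⟩ =
      ⟨⟨y * y₁⁻¹, hw⟩, b⟩ * ⟨⟨x * x₁⁻¹, hu⟩, a⟩ := by
  apply SemidirectProduct.ext
  · simp only [SemidirectProduct.mul_left]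
    apply Subtype.ext
    simp only [Subgroup.coe_mul]
    rw [phi_coe V φ hφ a x₁ h1, phi_coe V φ hφ b y₁ h2]
    simp only [mul_assoc, inv_mul_cancel_left]
    rw [← mul_assoc x y, hxy, mul_assoc y x]
    congr 2
    have : (x₁ * y₁)⁻¹ = (y₁ * x₁)⁻¹ := by rw [hc]
    simpa [mul_inv_rev] using this
  · simp only [SemidirectProduct.mul_right]
    rw [← hxa, ← hyb, ← QuotientGroup.mk_mul, ← QuotientGroup.mk_mul, hxy]

end

/-- Let X be a finite group with an abelian normal subgroup V (any two elements of V commute), and let φ be the action of X ⧸ V on V induced by conjugation (well defined because V is abelian; the hypothesis hφ says that the class of x acts as conjugation by x). Then X has at most as many conjugacy classes as the semidirect product of V by X ⧸ V formed with this action: the split extension has the largest class number among extensions with the given action. -/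
theorem result {X : Type*} [Group X] [Finite X] (V : Subgroup X) [V.Normal] (hab : ∀ a ∈ V, ∀ b ∈ V, a * b = b * a) (φ : X ⧸ V →* MulAut ↥V) (hφ : ∀ (x : X) (v : ↥V), ((φ (QuotientGroup.mk x) v : ↥V) : X) = x * v * x⁻¹) : Nat.card (ConjClasses X) ≤ Nat.card (ConjClasses (SemidirectProduct ↥V (X ⧸ V) φ)) := by
  classical
  have hfinS : Finite (SemidirectProduct ↥V (X ⧸ V) φ) :=
    Finite.of_equiv _ SemidirectProduct.equivProd.symm
  -- existence of base points
  have hex : ∀ p : {p : X × X // Commute p.1 p.2},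
      ∃ q : X × X, Commute q.1 q.2 ∧ (QuotientGroup.mk q.1 : X ⧸ V) = QuotientGroup.mk p.1.1 ∧
        (QuotientGroup.mk q.2 : X ⧸ V) = QuotientGroup.mk p.1.2 :=
    fun p => ⟨p.1, p.2, rfl, rfl⟩
  -- the injection
  let Φ : {p : X × X // Commute p.1 p.2} →
      {q : SemidirectProduct ↥V (X ⧸ V) φ × SemidirectProduct ↥V (X ⧸ V) φ // Commute q.1 q.2} :=
    fun p =>
      ⟨(⟨⟨p.1.1 * (base V (QuotientGroup.mk p.1.1) (QuotientGroup.mk p.1.2)).1⁻¹,
            mem_of_mk_eq V _ _ (base_spec V _ _ (hex p)).2.1.symm⟩, QuotientGroup.mk p.1.1⟩,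
        ⟨⟨p.1.2 * (base V (QuotientGroup.mk p.1.1) (QuotientGroup.mk p.1.2)).2⁻¹,
            mem_of_mk_eq V _ _ (base_spec V _ _ (hex p)).2.2.symm⟩, QuotientGroup.mk p.1.2⟩),
        key V φ hφ _ _ _ _ p.2 (base_spec V _ _ (hex p)).1 _ _ rfl rfl
          (base_spec V _ _ (hex p)).2.1 (base_spec V _ _ (hex p)).2.2 _ _⟩
  have hΦ : Function.Injective Φ := by
    rintro ⟨⟨x, y⟩, hxy⟩ ⟨⟨x', y'⟩, hxy'⟩ h
    have h' := congrArg Subtype.val h
    simp only [Φ, Prod.mk.injEq] at h'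
    obtain ⟨ha, hb⟩ := h'
    have h2 := congrArg SemidirectProduct.right ha
    have h4 := congrArg SemidirectProduct.right hb
    have h1 := congrArg (fun z => ((SemidirectProduct.left z : ↥V) : X)) ha
    have h3 := congrArg (fun z => ((SemidirectProduct.left z : ↥V) : X)) hb
    simp only at h1 h2 h3 h4
    rw [h2, h4] at h1 h3
    have e1 : x = x' := mul_right_cancel h1
    have e2 : y = y' := mul_right_cancel h3
    subst e1 e2
    rfl
  have hle := Nat.card_le_card_of_injective Φ hΦ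
  rw [card_comm_eq_card_conjClasses_mul_card, card_comm_eq_card_conjClasses_mul_card,
    SemidirectProduct.card, V.card_eq_card_quotient_mul_card_subgroup,
    mul_comm (Nat.card (X ⧸ V))] at hle
  have hpos : 0 < Nat.card ↥V * Nat.card (X ⧸ V) := Nat.mul_pos Nat.card_pos Nat.card_pos
  exact Nat.le_of_mul_le_mul_right hle hpos

end Cfsg.Agent.S4965
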