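import Cfsg.Statements.S4966
import Cfsg.Agent.Lib.Helper69.SelfDual

set_option autoImplicit false
open Cfsg

namespace Cfsg.Agent.S4966

open Cfsg.Agent.Lib.Helper69.SelfDual

/-- the case of characteristic different from 2, via the Fitting decomposition of the
asymmetry of the form -/
theorem odd_case {F : Type*} [Field F] (h2 : (2 : F) ≠ 0) {G : Type*} [Group G]
    {V : Type*} [AddCommGroup V] [Module F V] [FiniteDimensional F V]
    (ρ : Representation F G V) (B : LinearMap.BilinForm F V) (hB : B.Nondegenerate)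
    (hBinv : ∀ g : G, ∀ x y : V, B (ρ g x) (ρ g y) = B x y) :
    ∃ U W : Submodule F V, IsCompl U W ∧ (∀ g : G, ∀ u ∈ U, ρ g u ∈ U) ∧
      (∀ g : G, ∀ w ∈ W, ρ g w ∈ W) ∧
      (∃ A : LinearMap.BilinForm F V, (∀ x : V, A x x = 0) ∧
        (∀ g : G, ∀ x ∈ U, ∀ y ∈ U, A (ρ g x) (ρ g y) = A x y) ∧
        (∀ x ∈ U, (∀ y ∈ U, A x y = 0) → x = 0)) ∧
      (∃ S : LinearMap.BilinForm F V, (∀ x y : V, S x y = S y x) ∧
        (∀ g : G, ∀ x ∈ W, ∀ y ∈ W, S (ρ g x) (ρ g y) = S x y) ∧
        (∀ x ∈ W, (∀ y ∈ W, S x y = 0) → x = 0)) := by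
  -- the asymmetry
  let τ : Module.End F V := LinearMap.BilinForm.symmCompOfNondegenerate B B.flip hB.flip
  have hτ : ∀ v w, B v (τ w) = B w v := by
    intro v w
    have := LinearMap.BilinForm.symmCompOfNondegenerate_left_apply B hB.flip v w
    rw [LinearMap.BilinForm.flip_apply] at this
    exact this
  have hsepR : ∀ a : V, (∀ v, B v a = 0) → a = 0 := fun a h => hB.2 a h
  have hsepR' : ∀ a b : V, (∀ v, B v a = B v b) → a = b := by
    intro a b h
    have := hsepR (a - b) (fun v => by rw [map_sub, h v, sub_self])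
    exact sub_eq_zero.mp this
  have hτiso : ∀ x y, B (τ x) (τ y) = B x y := by
    intro x y
    rw [hτ, hτ]
  have hτG : ∀ g w, τ (ρ g w) = ρ g (τ w) := by
    intro g w
    apply hsepR'
    intro v
    rw [hτ, ← hBinv g⁻¹ (ρ g w) v, rho_inv_apply', ← hτ (ρ g⁻¹ v) w,
      ← hBinv g (ρ g⁻¹ v) (τ w), rho_inv_apply]
  let N : Module.End F V := τ - 1
  have hN : ∀ x, N x = τ x - x := fun x => rfl
  have hNG : ∀ g w, N (ρ g w) = ρ g (N w) := by
    intro g w
    rw [hN, hN, hτG, map_sub]
  have hNpowG : ∀ (k : ℕ) g w, (N ^ k) (ρ g w) = ρ g ((N ^ k) w) := by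
    intro k
    induction k with
    | zero => intro g w; simp
    | succ k ih =>
      intro g w
      rw [pow_succ, Module.End.mul_apply, Module.End.mul_apply, hNG, ih]
  have hcomm : Commute N τ := (Commute.refl τ).sub_left (Commute.one_left τ)
  have hNpowτ : ∀ (k : ℕ) y, (N ^ k) (τ y) = τ ((N ^ k) y) := by
    intro k y
    have := (hcomm.pow_left k).eq
    have h' := congrArg (fun f : Module.End F V => f y) this
    simpa [Module.End.mul_apply] using h'
  have hkey : ∀ x y, B (N x) (τ y) = - B x (N y) := by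
    intro x y
    rw [hN, hN, map_sub, LinearMap.sub_apply, hτiso, map_sub]
    ring
  have hpow : ∀ (k : ℕ) x y, B ((N ^ k) x) ((τ ^ k) y) = (-1) ^ k * B x ((N ^ k) y) := by
    intro k
    induction k with
    | zero => intro x y; simp
    | succ k ih =>
      intro x y
      have e1 : (N ^ (k + 1)) x = (N ^ k) (N x) := by rw [pow_succ, Module.End.mul_apply]
      have e2 : (τ ^ (k + 1)) y = (τ ^ k) (τ y) := by rw [pow_succ, Module.End.mul_apply]
      have e3 : (N ^ (k + 1)) y = N ((N ^ k) y) := by rw [pow_succ', Module.End.mul_apply]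
      rw [e1, e2, e3, ih, hNpowτ, hkey, pow_succ]
      ring
  -- Fitting decomposition
  obtain ⟨a, ha⟩ := Filter.eventually_atTop.mp (LinearMap.eventually_isCompl_ker_pow_range_pow N)
  have hc := ha (a + 1) (Nat.le_succ a)
  set n := a + 1 with hn
  have hker : ∀ x, x ∈ LinearMap.ker (N ^ n) ↔ (N ^ n) x = 0 := fun x => LinearMap.mem_ker
  -- orthogonality
  have horth1 : ∀ w ∈ LinearMap.ker (N ^ n), ∀ u ∈ LinearMap.range (N ^ n), B w u = 0 := by
    intro w hw u hu
    obtain ⟨u', rfl⟩ := hu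
    have h1 := hpow n w u'
    rw [(hker w).mp hw, map_zero, LinearMap.zero_apply] at h1
    have h3 : ((-1 : F)) ^ n ≠ 0 := pow_ne_zero _ (neg_ne_zero.mpr one_ne_zero)
    exact ((mul_eq_zero.mp h1.symm).resolve_left h3)
  have hτrange : ∀ u ∈ LinearMap.range (N ^ n), τ u ∈ LinearMap.range (N ^ n) := by
    intro u hu
    obtain ⟨u', rfl⟩ := hu
    exact ⟨τ u', hNpowτ n u'⟩
  have horth2 : ∀ w ∈ LinearMap.ker (N ^ n), ∀ u ∈ LinearMap.range (N ^ n), B u w = 0 := by
    intro w hw u hu
    rw [← hτ w u]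
    exact horth1 w hw _ (hτrange u hu)
  have hdecomp : ∀ v : V, ∃ w ∈ LinearMap.ker (N ^ n), ∃ u ∈ LinearMap.range (N ^ n),
      w + u = v := by
    intro v
    have : v ∈ LinearMap.ker (N ^ n) ⊔ LinearMap.range (N ^ n) := by
      rw [hc.sup_eq_top]
      exact Submodule.mem_top
    exact Submodule.mem_sup.mp this
  refine ⟨LinearMap.range (N ^ n), LinearMap.ker (N ^ n), hc.symm, ?_, ?_,
    ⟨B - B.flip, ?_, ?_, ?_⟩, ⟨B + B.flip, ?_, ?_, ?_⟩⟩
  · rintro g u ⟨u', rfl⟩
    exact ⟨ρ g u', hNpowG n g u'⟩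
  · intro g w hw
    rw [hker] at hw ⊢
    rw [hNpowG, hw, map_zero]
  · intro x
    show B x x - B x x = 0
    exact sub_self _
  · intro g x _ y _
    show B (ρ g x) (ρ g y) - B (ρ g y) (ρ g x) = B x y - B y x
    rw [hBinv, hBinv]
  · intro x hx hxy
    have hNx : N x ∈ LinearMap.range (N ^ n) := by
      obtain ⟨u', rfl⟩ := hx
      refine ⟨N u', ?_⟩
      rw [← Module.End.mul_apply, ← pow_succ, pow_succ', Module.End.mul_apply]
    have hz : N x = 0 := by
      apply hsepR
      intro v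
      obtain ⟨w, hw, u, hu, rfl⟩ := hdecomp v
      rw [map_add, LinearMap.add_apply, horth1 w hw _ hNx, zero_add, hN, map_sub, hτ]
      exact hxy u hu
    have hxker : x ∈ LinearMap.ker (N ^ n) := by
      rw [hker, hn, pow_succ, Module.End.mul_apply, hz, map_zero]
    have : x ∈ LinearMap.ker (N ^ n) ⊓ LinearMap.range (N ^ n) := ⟨hxker, hx⟩
    rw [hc.inf_eq_bot] at this
    exact (Submodule.mem_bot F).mp this
  · intro x y
    show B x y + B y x = B y x + B x y
    exact add_comm _ _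
  · intro g x _ y _
    show B (ρ g x) (ρ g y) + B (ρ g y) (ρ g x) = B x y + B y x
    rw [hBinv, hBinv]
  · intro x hx hxy
    have hzker : τ x + x ∈ LinearMap.ker (N ^ n) := by
      rw [hker] at hx ⊢
      rw [map_add, hNpowτ, hx, map_zero, add_zero]
    have hz : τ x + x = 0 := by
      apply hsepR
      intro v
      obtain ⟨w, hw, u, hu, rfl⟩ := hdecomp v
      rw [LinearMap.map_add₂, horth2 _ hzker u hu, add_zero, map_add, hτ]
      exact hxy w hw
    have hτx : τ x = -x := eq_neg_of_add_eq_zero_left hz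
    have hpowx : ∀ k : ℕ, (N ^ k) x = ((-2 : F)) ^ k • x := by
      intro k
      induction k with
      | zero => simp
      | succ k ih =>
        rw [pow_succ', Module.End.mul_apply, ih, map_smul, hN, hτx, pow_succ, mul_smul]
        congr 1
        rw [neg_smul, two_smul]
        abel
    have h0 := (hker x).mp hx
    rw [hpowx] at h0
    have h3 : ((-2 : F)) ^ n ≠ 0 := pow_ne_zero _ (neg_ne_zero.mpr h2)
    exact (smul_eq_zero.mp h0).resolve_left h3

/-- Let F be a finite field of characteristic p, G a finite group of order prime to p, and V a finite-dimensional representation of G over F carrying a nondegenerate G-invariant bilinear form (equivalently, V is self-dual). Then V is the direct sum of two G-invariant subspaces U and W such that U carries a G-invariant alternating bilinear form that is nondegenerate on U and W carries a G-invariant symmetric bilinear form that is nondegenerate on W; moreover when p = 2 the decomposition can be chosen with G acting trivially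 on W. -/
theorem result {F : Type*} [Field F] [Fintype F] (p : ℕ) [Fact p.Prime] [CharP F p] {G : Type*} [Group G] [Finite G] (hcop : ¬ p ∣ Nat.card G) {V : Type*} [AddCommGroup V] [Module F V] [FiniteDimensional F V] (ρ : Representation F G V) (B : LinearMap.BilinForm F V) (hB : B.Nondegenerate) (hBinv : ∀ g : G, ∀ x y : V, B (ρ g x) (ρ g y) = B x y) : ∃ U W : Submodule F V, IsCompl U W ∧ (∀ g : G, ∀ u ∈ U, ρ g u ∈ U) ∧ (∀ g : G, ∀ w ∈ W, ρ g w ∈ W) ∧ (∃ A : LinearMap.BilinForm F V, (∀ x : V, A x x = 0) ∧ (∀ g : G, ∀ x ∈ U, ∀ y ∈ U, A (ρ g x) (ρ g y) = A x y) ∧ (∀ x ∈ U, (∀ y ∈ U, A x y = 0) → x = 0)) ∧ (∃ S : LinearMap.BilinForm F V, (∀ x y : V, S x y = S y x) ∧ (∀ g : G, ∀ x ∈ W, ∀ y ∈ W, S (ρ g x) (ρ g y) = S x y) ∧ (∀ x ∈ W, (∀ y ∈ W, S x y = 0) → x = 0)) ∧ (p = 2 → ∀ g : G, ∀ w ∈ W, ρ g w = w) := by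
  by_cases hp : p = 2
  · subst hp
    have hG : (Nat.card G : F) ≠ 0 := by
      intro h
      exact hcop ((CharP.cast_eq_zero_iff F 2 _).mp h)
    obtain ⟨U, W, h1, h2, h3, h4, h5, h6⟩ := char_two_case hG ρ B hBinv
      (fun x _ hx => hB.2 x (fun y => hx y Submodule.mem_top))
    exact ⟨U, W, h1, h2, h3, h4, h5, fun _ => h6⟩
  · have h2 : (2 : F) ≠ 0 := by
      intro h
      have h' : ((2 : ℕ) : F) = 0 := by exact_mod_cast h
      have hdvd := (CharP.cast_eq_zero_iff F p 2).mp h'
      exact hp ((Nat.prime_dvd_prime_iff_eq (Fact.out : p.Prime) Nat.prime_two).mp hdvd)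
    obtain ⟨U, W, h1, h2', h3, h4, h5⟩ := odd_case h2 ρ B hB hBinv
    exact ⟨U, W, h1, h2', h3, h4, h5, fun h => absurd h hp⟩

end Cfsg.Agent.S4966
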