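import Cfsg.Statements.S4967
import Cfsg.Agent.Lib.Helper69.AbelianIrred

set_option autoImplicit false
open Cfsg

namespace Cfsg.Agent.S4967

open Cfsg.Agent.Lib.Helper69.AbelianIrred in
/-- Let F be a finite field with r elements and of characteristic p, H a finite abelian group of order prime to p, and V a faithful irreducible representation of H over F of dimension n (faithful: distinct elements act differently; irreducible: the only H-invariant subspaces are 0 and V). Call V self-dual when it carries a nondegenerate H-invariant bilinear form. If n = 1 and V is self-dual then H has order at most 2. If n ≥ 2 then V is self-dual if and only if n is even and the order of H divides r^(n/2) + 1. -/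
theorem result {F : Type*} [Field F] [Fintype F] (p : ℕ) [Fact p.Prime] [CharP F p] {H : Type*} [CommGroup H] [Finite H] (hcop : ¬ p ∣ Nat.card H) {V : Type*} [AddCommGroup V] [Module F V] [FiniteDimensional F V] (ρ : Representation F H V) (hfaith : Function.Injective ρ) (hirr : ∀ U : Submodule F V, (∀ h : H, ∀ u ∈ U, ρ h u ∈ U) → U = ⊥ ∨ U = ⊤) : (Module.finrank F V = 1 → (∃ B : LinearMap.BilinForm F V, B.Nondegenerate ∧ ∀ h : H, ∀ x y : V, B (ρ h x) (ρ h y) = B x y) → Nat.card H ≤ 2) ∧ (2 ≤ Module.finrank F V → ((∃ B : LinearMap.BilinForm F V, B.Nondegenerate ∧ ∀ h : H, ∀ x y : V, B (ρ h x) (ρ h y) = B x y) ↔ (Even (Module.finrank F V) ∧ Nat.card H ∣ Fintype.card F ^ (Module.finrank F V / 2) + 1))) := by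
  have hirr' : Irr ρ := hirr
  constructor
  · intro hn ⟨B, hB, hBinv⟩
    haveI : Nontrivial V := Module.nontrivial_of_finrank_pos (R := F) (by omega)
    obtain ⟨j, hj, hpow, -⟩ := forward ρ hirr' hfaith B hB.1 hBinv
    have hj0 : j = 0 := by omega
    subst hj0
    have hd : Nat.card H ∣ 2 := by
      apply card_dvd_of_forall_pow ρ hirr' hfaith
      intro h
      simpa using hpow h
    exact Nat.le_of_dvd (by norm_num) hd
  · intro hn
    haveI : Nontrivial V := Module.nontrivial_of_finrank_pos (R := F) (by omega)
    constructor
    · rintro ⟨B, hB, hBinv⟩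
      obtain ⟨j, hj, hpow, hdvd⟩ := forward ρ hirr' hfaith B hB.1 hBinv
      have hj0 : j ≠ 0 := by
        rintro rfl
        have h1 := finrank_eq_one_of_sq ρ hirr' (fun h => by simpa using hpow h)
        omega
      obtain ⟨c, hc⟩ := hdvd
      have hc1 : c = 1 := by
        have h1 : c ≠ 0 := by
          rintro rfl
          omega
        have h2 : c < 2 := by
          by_contra hge
          have : 2 ≤ c := by omega
          have : Module.finrank F V * 2 ≤ Module.finrank F V * c := Nat.mul_le_mul_left _ this
          omega
        omega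
      subst hc1
      have hn2 : Module.finrank F V = 2 * j := by omega
      refine ⟨⟨j, by omega⟩, ?_⟩
      have hdiv : Module.finrank F V / 2 = j := by omega
      rw [hdiv]
      exact card_dvd_of_forall_pow ρ hirr' hfaith _ hpow
    · rintro ⟨-, hdvd⟩
      exact backward ρ hirr' _ (fun h => forall_pow_of_card_dvd _ hdvd h)

end Cfsg.Agent.S4967
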