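import Cfsg.Statements.S4996
import Mathlib
import Cfsg.Agent.Lib.Helper85.Ramification
import Cfsg.Agent.Lib.Helper77.ConjUnion
import Cfsg.Agent.S0191

set_option autoImplicit false
open Cfsg

namespace Cfsg.Agent.S4996

open Cfsg.Agent.Lib.Helper83 Cfsg.Agent.Lib.Helper85
open scoped ComplexConjugate

/-- If `χ|_N` is irreducible then `χ` vanishes on no coset of `N`. -/
theorem not_vanish_coset {G : Type*} [Group G] [Finite G] (N : Subgroup G) [hN : N.Normal]
    (χ : Cfsg.IrrCharacter G)
    (hirr : Cfsg.IsIrrCharacter ↥N (fun n : ↥N => (χ : G → ℂ) n)) (x : G)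
    (hx : ∀ n : ↥N, (χ : G → ℂ) ((n : G) * x) = 0) : False := by
  classical
  have : Fintype G := Fintype.ofFinite G
  have : Fintype N := Fintype.ofFinite N
  have : Fintype (G ⧸ N) := Fintype.ofFinite _
  have : Fintype (IrrCharacter (G ⧸ N)) := Fintype.ofFinite _
  have hχc : IsCharacter G (χ : G → ℂ) := IrrCharacter_isCharacter χ
  set q : G ⧸ N := QuotientGroup.mk x with hq
  set F : IrrCharacter (G ⧸ N) → G → ℂ :=
    fun β g => (β : G ⧸ N → ℂ) (QuotientGroup.mk g) * (χ : G → ℂ) g with hF
  set Z : G → ℂ := ∑ β : IrrCharacter (G ⧸ N), conj ((β : G ⧸ N → ℂ) q) • F β with hZ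
  have hZ0 : Z = 0 := by
    funext g
    simp only [hZ, hF, Finset.sum_apply, Pi.smul_apply, smul_eq_mul, Pi.zero_apply]
    have h1 : ∑ β : IrrCharacter (G ⧸ N), conj ((β : G ⧸ N → ℂ) q) *
        ((β : G ⧸ N → ℂ) (QuotientGroup.mk g) * (χ : G → ℂ) g) =
        (∑ β : IrrCharacter (G ⧸ N), (β : G ⧸ N → ℂ) (QuotientGroup.mk g) *
          conj ((β : G ⧸ N → ℂ) q)) * (χ : G → ℂ) g := by
      rw [Finset.sum_mul]
      apply Finset.sum_congr rfl
      intro β _
      ring
    rw [h1, second_orthogonality]
    split_ifs with hconj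
    · obtain ⟨c, hc⟩ := isConj_iff.mp hconj
      obtain ⟨y, rfl⟩ := QuotientGroup.mk_surjective c
      have hn : y * g * y⁻¹ * x⁻¹ ∈ N := by
        rw [← QuotientGroup.eq_one_iff]
        have : ((y * g * y⁻¹ * x⁻¹ : G) : G ⧸ N) =
            (QuotientGroup.mk y : G ⧸ N) * QuotientGroup.mk g * (QuotientGroup.mk y)⁻¹ * q⁻¹ := by
          simp [hq]
        rw [this, hc, mul_inv_cancel]
      have h2 := hx ⟨_, hn⟩
      have h3 : y * g * y⁻¹ * x⁻¹ * x = y * g * y⁻¹ := by group
      rw [h3, char_conj_eq hχc] at h2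
      rw [h2, mul_zero]
    · rw [zero_mul]
  have hinner : classInner Z (F (trivChar (G ⧸ N))) = 1 := by
    rw [hZ, classInner_sum_left]
    have h2 : ∀ β : IrrCharacter (G ⧸ N),
        classInner (conj ((β : G ⧸ N → ℂ) q) • F β) (F (trivChar (G ⧸ N))) =
        if β = trivChar (G ⧸ N) then 1 else 0 := by
      intro β
      rw [classInner_smul_left, gallagher_inner N χ.2 hirr β (trivChar (G ⧸ N))]
      split_ifs with h
      · rw [h, trivChar_apply, map_one, mul_one]
      · rw [mul_zero]
    simp only [h2, Finset.sum_ite_eq', Finset.mem_univ, if_true]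
  rw [hZ0, classInner_zero_left] at hinner
  exact zero_ne_one hinner

/-- Let N be a normal subgroup of the finite group G and χ an irreducible complex character of G. Then the restriction of χ to N is not irreducible if and only if χ vanishes on some whole coset Nx of N in G. -/
theorem result {G : Type*} [Group G] [Finite G] (N : Subgroup G) [N.Normal] (χ : Cfsg.IrrCharacter G) : ¬ Cfsg.IsIrrCharacter ↥N (fun n : ↥N => (χ : G → ℂ) n) ↔ ∃ x : G, ∀ n : ↥N, (χ : G → ℂ) ((n : G) * x) = 0 := by
  classical
  constructor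
  · intro hnot
    have : Fintype G := Fintype.ofFinite G
    have : Fintype N := Fintype.ofFinite N
    have hN : N.Normal := inferInstance
    have hχc : IsCharacter G (χ : G → ℂ) := IrrCharacter_isCharacter χ
    have hχN : IsCharacter N (fun n : N => (χ : G → ℂ) n) := isCharacter_restrict N hχc
    have h1 : (fun n : N => (χ : G → ℂ) n) 1 ≠ 0 := irr_degree_ne_zero χ
    obtain ⟨ϑ, hϑ, hcon⟩ := exists_irr_constituent hχN h1
    have hϑc := isCharacter_of_irr hϑ
    by_cases hT : conjStab hN ϑ = ⊤
    · -- invariant case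
      have hcl := clifford_finset hN χ.2 hϑ hcon
      have himage : Finset.univ.image (fun g : G => conjFun hN ϑ g) = {ϑ} := by
        ext f
        simp only [Finset.mem_image, Finset.mem_univ, true_and, Finset.mem_singleton]
        constructor
        · rintro ⟨g, rfl⟩
          exact (mem_conjStab hN ϑ g).mp (by rw [hT]; trivial)
        · intro hf
          rw [hf]
          exact ⟨1, (mem_conjStab hN ϑ 1).mp (by rw [hT]; trivial)⟩
      rw [himage, Finset.sum_singleton] at hcl
      obtain ⟨k, hk⟩ := classInner_char_nat hχN hϑc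
      rw [hk] at hcl
      have hk1 : k ≠ 1 := by
        rintro rfl
        apply hnot
        rw [hcl, Nat.cast_one, one_smul]
        exact hϑ
      have hk0 : k ≠ 0 := by
        rintro rfl
        apply hcon
        rw [hk, Nat.cast_zero]
      obtain ⟨d, Θ, hΘirr, hΘ⟩ := hϑ
      have := hΘirr
      rw [← hΘ] at hcl
      have hinv := character_invariant_of_restrict N χ.2 Θ k hcl
      have hfin : Finite (liftGroup N Θ) := liftGroup_finite N Θ hinv
      obtain ⟨β, hβ1, hβ⟩ := exists_lift_factor N χ.2 Θ k hcl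
      obtain ⟨k', σ, hσirr, hσ⟩ := β.2
      have := hσirr
      have hk' : k' = k := by
        have h2 := congrFun hσ 1
        rw [Representation.char_one, Module.finrank_fin_fun, hβ1] at h2
        exact_mod_cast h2
      have hdeg : 1 < Module.finrank ℂ (Fin k' → ℂ) := by
        rw [Module.finrank_fin_fun, hk']
        omega
      obtain ⟨q, hq⟩ := Cfsg.Agent.S0191.result σ hdeg
      rw [hσ] at hq
      obtain ⟨γ, rfl⟩ := QuotientGroup.mk_surjective q
      refine ⟨liftProj N Θ γ, ?_⟩
      intro n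
      have h2 := hβ (liftEmb N Θ n * γ)
      rw [map_mul] at h2
      have h3 : liftProj N Θ (liftEmb N Θ n) = n := rfl
      rw [h3] at h2
      rw [h2]
      have h4 : (QuotientGroup.mk (liftEmb N Θ n * γ) : liftGroup N Θ ⧸ liftN N Θ) =
          QuotientGroup.mk γ := by
        rw [QuotientGroup.mk_mul]
        have : (QuotientGroup.mk (liftEmb N Θ n) : liftGroup N Θ ⧸ liftN N Θ) = 1 := by
          rw [QuotientGroup.eq_one_iff]
          exact (mem_liftN N Θ _).mpr ⟨n, rfl⟩
        rw [this, one_mul]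
      rw [h4, hq, zero_mul]
    · -- induced case
      obtain ⟨x, hx⟩ := Cfsg.Agent.Lib.Helper77.exists_not_mem_conj (conjStab hN ϑ) hT
      have hNT : N ≤ conjStab hN ϑ := le_conjStab hN (char_isClassFunction hϑc)
      obtain ⟨ψ, hψ, -, hind⟩ := exists_irr_conjStab hN χ.2 hϑ hcon
      refine ⟨x, ?_⟩
      intro n
      rw [hind, Cfsg.Agent.Lib.Helper04.indFun_apply]
      have h2 : ∀ y : G, extendByZero (conjStab hN ϑ) ψ (y⁻¹ * ((n : G) * x) * y) = 0 := by
        intro y
        apply Cfsg.Agent.Lib.Helper04.extendByZero_apply_not_mem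
        intro hmem
        apply hx y
        rw [Cfsg.Agent.Lib.Helper77.mem_conj_smul_iff]
        have h3 : y⁻¹ * x * y = (y⁻¹ * (n : G)⁻¹ * y) * (y⁻¹ * ((n : G) * x) * y) := by group
        rw [h3]
        apply Subgroup.mul_mem _ _ hmem
        apply hNT
        have := hN.conj_mem _ (N.inv_mem n.2) y⁻¹
        rwa [inv_inv] at this
      simp only [h2, Finset.sum_const_zero, mul_zero]
  · rintro ⟨x, hx⟩ hirr
    exact not_vanish_coset N χ hirr x hx

end Cfsg.Agent.S4996
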