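import Cfsg.Statements.S5001
import Mathlib
import Cfsg.Agent.Lib.Helper85.CosetExpand
import Cfsg.Agent.Lib.Helper22.DefectClass
import Cfsg.Agent.Lib.Helper82.LocalRing
import Cfsg.Agent.Lib.Helper82.CharSchur

set_option autoImplicit false
open Cfsg

namespace Cfsg.Agent.S5001

/-- Let p be a prime, G a finite group and B a p-block of G (relative to a maximal ideal M of the algebraic integers containing p) with defect group D. Let Z be a central p-subgroup of G contained in D and λ a linear character of Z (a homomorphism to the nonzero complex numbers). Say an irreducible character χ of G lies over λ when χ(z) = χ(1)λ(z) for all z ∈ Z. If some irreducible character in B lying over λ has height zero, then λ extends to a linear character of D. -/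
theorem result {G : Type*} [Group G] [Finite G] (p : ℕ) [Fact p.Prime] (M : Ideal Cfsg.AlgInt) (hM : Cfsg.IsPModular p M) (B : Set (Cfsg.IrrCharacter G)) (hB : Cfsg.IsPBlock M B) (D : Subgroup G) (hD : Cfsg.IsDefectGroup p M B D) (Z : Subgroup G) (hZc : Z ≤ Subgroup.center G) (hZp : IsPGroup p ↥Z) (hZD : Z ≤ D) (lam : ↥Z →* ℂˣ) (χ : Cfsg.IrrCharacter G) (hχ : χ ∈ B) (hover : (∀ z : ↥Z, (χ : G → ℂ) z = (χ : G → ℂ) 1 * (lam z : ℂ))) (h0 : Cfsg.blockHeight p B (χ : G → ℂ) = 0) : (∃ μ : ↥D →* ℂˣ, ∀ z : ↥Z, μ ⟨(z : G), hZD z.2⟩ = lam z) := by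
  classical
  obtain ⟨g, hgdef, P, hDP⟩ := hD
  have hpr : p.Prime := Fact.out
  have hMprime : M.IsPrime := hM.2.1.isPrime
  have hχg : ¬ MemLocalIdeal M ((χ : G → ℂ) g) :=
    Cfsg.Agent.Lib.Helper22.not_memLocalIdeal_apply_of_height_zero hM hB hgdef hχ h0
  -- `D` centralizes `g`
  have hDg : ∀ u ∈ D, g * u = u * g := by
    intro u hu
    rw [hDP] at hu
    obtain ⟨c, _, rfl⟩ := hu
    exact Subgroup.mem_centralizer_iff.1 c.2 g (Set.mem_singleton g)
  -- `D` is a `p`-group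
  have hDp : IsPGroup p D := by
    rw [hDP]
    exact P.isPGroup'.map _
  by_contra hno
  let _ : Fintype D := Fintype.ofFinite _
  let _ : Fintype (IrrCharacter D) := Fintype.ofFinite _
  have hχ1 : (χ : G → ℂ) 1 ≠ 0 := Cfsg.Agent.Lib.Helper83.irr_degree_ne_zero χ
  -- each coefficient vanishes or has degree divisible by `p`
  have hkey : ∀ μ : IrrCharacter D, ∃ c : ℕ,
      (μ : D → ℂ) 1 * Cfsg.Agent.Lib.Helper85.cosetCoeff D (χ : G → ℂ) g (μ : D → ℂ) =
        (p : ℂ) * ((c : ℂ) * Cfsg.Agent.Lib.Helper85.cosetCoeff D (χ : G → ℂ) g (μ : D → ℂ)) := by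
    intro μ
    by_cases hb : Cfsg.Agent.Lib.Helper85.cosetCoeff D (χ : G → ℂ) g (μ : D → ℂ) = 0
    · exact ⟨0, by rw [hb]; ring⟩
    have hμ1 : (μ : D → ℂ) 1 ≠ 0 := Cfsg.Agent.Lib.Helper83.irr_degree_ne_zero μ
    have hμc : IsCharacter D (μ : D → ℂ) := Cfsg.Agent.Lib.Helper83.IrrCharacter_isCharacter μ
    -- `μ` lies over the inverse of `lam`
    have hover' : ∀ z : Z, (lam z : ℂ) * ((μ : D → ℂ) ⟨(z : G), hZD z.2⟩) = (μ : D → ℂ) 1 := by
      intro z
      have h := Cfsg.Agent.Lib.Helper85.cosetCoeff_central D χ μ g (hZc z.2) (hZD z.2)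
      rw [hover z] at h
      have h' : ((χ : G → ℂ) 1 * (lam z : ℂ) / (χ : G → ℂ) 1) *
          ((μ : D → ℂ) ⟨(z : G), hZD z.2⟩ / (μ : D → ℂ) 1) = 1 := by
        have h2 : (1 - ((χ : G → ℂ) 1 * (lam z : ℂ) / (χ : G → ℂ) 1) *
          ((μ : D → ℂ) ⟨(z : G), hZD z.2⟩ / (μ : D → ℂ) 1)) *
            Cfsg.Agent.Lib.Helper85.cosetCoeff D (χ : G → ℂ) g (μ : D → ℂ) = 0 := by
          rw [sub_mul, one_mul, ← h, sub_self]
        rcases mul_eq_zero.1 h2 with h3 | h3
        · exact (sub_eq_zero.1 h3).symm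
        · exact absurd h3 hb
      field_simp at h'
      exact h'
    have hne : (μ : D → ℂ) 1 ≠ 1 := by
      intro h1
      apply hno
      let ν : D →* ℂˣ := (Cfsg.Agent.Lib.Helper83.linCharHom hμc h1).toHomUnits
      have hν : ∀ u : D, ((ν u : ℂˣ) : ℂ) = (μ : D → ℂ) u := fun u => rfl
      refine ⟨ν⁻¹, ?_⟩
      intro z
      have h2 := hover' z
      rw [h1, ← hν] at h2
      rw [MonoidHom.inv_apply]
      apply Units.ext
      rw [Units.val_inv_eq_inv_val]
      have hν0 : ((ν ⟨(z : G), hZD z.2⟩ : ℂˣ) : ℂ) ≠ 0 := Units.ne_zero _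
      field_simp
      rw [← h2]
      ring
    have hdvd : charDegree (μ : D → ℂ) ∣ Nat.card D :=
      Cfsg.Agent.Lib.Helper82.IsIrrCharacter.charDegree_dvd_card μ.2
    have hcast : (charDegree (μ : D → ℂ) : ℂ) = (μ : D → ℂ) 1 :=
      Cfsg.Agent.Lib.Helper82.IsCharacter.charDegree_cast hμc
    obtain ⟨k, hk⟩ := IsPGroup.iff_card.1 hDp
    rw [hk] at hdvd
    obtain ⟨j, hj, hj'⟩ := (Nat.dvd_prime_pow hpr).1 hdvd
    rcases Nat.eq_zero_or_pos j with rfl | hjpos
    · exfalso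
      apply hne
      rw [← hcast, hj']
      simp
    · obtain ⟨j', rfl⟩ : ∃ j', j = j' + 1 := ⟨j - 1, by omega⟩
      refine ⟨p ^ j', ?_⟩
      rw [← hcast, hj']
      push_cast
      ring
  choose c hc using hkey
  have hexp := Cfsg.Agent.Lib.Helper85.apply_eq_sum_cosetCoeff D (χ : G → ℂ) g
  rw [Finset.sum_congr rfl (fun μ _ => hc μ), ← Finset.mul_sum] at hexp
  have hint : IsIntegral ℤ (∑ μ : IrrCharacter D,
      ((c μ : ℂ) * Cfsg.Agent.Lib.Helper85.cosetCoeff D (χ : G → ℂ) g (μ : D → ℂ))) := by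
    apply IsIntegral.sum
    intro μ _
    apply IsIntegral.mul
    · exact isIntegral_algebraMap (R := ℤ) (A := ℂ) (x := (c μ : ℤ)) |> fun h => by simpa using h
    · exact Cfsg.Agent.Lib.Helper85.isIntegral_cosetCoeff D
        (Cfsg.Agent.Lib.Helper83.IrrCharacter_isCharacter χ)
        (Cfsg.Agent.Lib.Helper83.IrrCharacter_isCharacter μ) g hDg
  apply hχg
  rw [hexp]
  exact Cfsg.Agent.Lib.Helper82.memLocalIdeal_mul_right hMprime
    ((Cfsg.Agent.Lib.Helper82.memLocalIdeal_natCast_iff hM p).2 dvd_rfl)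
    (Cfsg.Agent.Lib.Helper82.memLocalRing_of_isIntegral hMprime hint)

end Cfsg.Agent.S5001
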