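import Cfsg.Statements.S5015
import Cfsg.Agent.Lib.Helper86.RootSets2

set_option autoImplicit false
open Cfsg

namespace Cfsg.Agent.S5015

open Cfsg.Agent.Lib.Helper86

/-- Let a group Y act doubly transitively on a set Ω with at least three points, and suppose that the stabilizer of a point α contains a nilpotent subgroup A, normalized by that stabilizer, which acts regularly on the points other than α. Then for any y in Y moving α, the subgroups A and y A y⁻¹ are the unipotent subgroups of a rank one group, and the normal closure of A in Y (the subgroup generated by all conjugates of A) is generated by A and y A y⁻¹ alone. -/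
theorem result {Y Ω : Type*} [Group Y] [MulAction Y Ω]
    (h2 : MulAction.IsMultiplyPretransitive Y Ω 2) (hΩ : 3 ≤ ENat.card Ω) (α : Ω) (A : Subgroup Y)
    (hA : A ≤ MulAction.stabilizer Y α) (hAn : ∀ y ∈ MulAction.stabilizer Y α, Cfsg.conjBy A y = A)
    (hnil : Group.IsNilpotent A) (hreg : ∀ β γ : Ω, β ≠ α → γ ≠ α → ∃! a : Y, a ∈ A ∧ a • β = γ)
    (y : Y) (hy : y ∉ MulAction.stabilizer Y α) :
    Cfsg.IsRankOnePair A (Cfsg.conjBy A y) ∧ Subgroup.normalClosure (A : Set Y) = A ⊔ Cfsg.conjBy A y := by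
  -- F1: conjugates of A depend only on the image of α
  have F1 : ∀ g g' : Y, g • α = g' • α → conjBy A g = conjBy A g' := by
    intro g g' hgg
    have h1 : g'⁻¹ * g ∈ MulAction.stabilizer Y α := by
      rw [MulAction.mem_stabilizer_iff, mul_smul, hgg, inv_smul_smul]
    have h3 := hAn _ h1
    have h4 : g = g' * (g'⁻¹ * g) := by group
    rw [h4, ← conjBy_conjBy, h3]
  have hyα : y • α ≠ α := fun h => hy (MulAction.mem_stabilizer_iff.mpr h)
  have hyα' : y⁻¹ • α ≠ α := by
    intro h
    apply hyα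
    rw [← h, smul_inv_smul, h]
  have hAfix : ∀ a ∈ A, a • α = α := fun a ha => MulAction.mem_stabilizer_iff.mp (hA ha)
  -- F2: nontrivial elements of A move every point other than α
  have F2 : ∀ a ∈ A, a ≠ 1 → ∀ γ : Ω, γ ≠ α → a • γ ≠ γ := by
    intro a ha ha1 γ hγ h
    obtain ⟨a0, -, huniq⟩ := hreg γ γ hγ hγ
    have e1 := huniq a ⟨ha, h⟩
    have e2 := huniq 1 ⟨A.one_mem, one_smul _ _⟩
    exact ha1 (e1.trans e2.symm)
  -- description of B
  have hBmem : ∀ b ∈ conjBy A y, ∃ a ∈ A, b = y * a * y⁻¹ := by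
    intro b hb
    rw [mem_conjBy] at hb
    exact ⟨_, hb, by group⟩
  have hBfix : ∀ b ∈ conjBy A y, b • (y • α) = y • α := by
    intro b hb
    obtain ⟨a, ha, rfl⟩ := hBmem b hb
    rw [mul_smul, mul_smul, inv_smul_smul, hAfix a ha]
  have F2' : ∀ b ∈ conjBy A y, b ≠ 1 → ∀ γ : Ω, γ ≠ y • α → b • γ ≠ γ := by
    intro b hb hb1 γ hγ h
    obtain ⟨a, ha, rfl⟩ := hBmem b hb
    have ha1 : a ≠ 1 := by
      rintro rfl
      apply hb1; group
    have hγ' : y⁻¹ • γ ≠ α := by
      intro h'
      apply hγ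
      rw [← h', smul_inv_smul]
    apply F2 a ha ha1 _ hγ'
    rw [mul_smul, mul_smul] at h
    have := congrArg (fun x => y⁻¹ • x) h
    simpa using this
  -- F4: B is transitive from α
  have F4 : ∀ γ : Ω, γ ≠ y • α → ∃ b ∈ conjBy A y, b • α = γ := by
    intro γ hγ
    have hγ' : y⁻¹ • γ ≠ α := by
      intro h'
      apply hγ
      rw [← h', smul_inv_smul]
    obtain ⟨a0, ⟨ha0, ha0'⟩, -⟩ := hreg (y⁻¹ • α) (y⁻¹ • γ) hyα' hγ'
    refine ⟨y * a0 * y⁻¹, conj_mem_conjBy ha0, ?_⟩
    rw [mul_smul, mul_smul, ha0', smul_inv_smul]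
  -- third point
  have hthird : ∃ γ : Ω, γ ≠ α ∧ γ ≠ y • α := by
    by_contra hcon
    push Not at hcon
    have hsub : (Set.univ : Set Ω) ⊆ {α, y • α} := by
      intro γ _
      by_cases h : γ = α
      · left; exact h
      · right; exact hcon γ h
    have h1 : ENat.card Ω ≤ 2 := by
      rw [← Set.encard_univ]
      exact (Set.encard_le_encard hsub).trans (by rw [Set.encard_pair (Ne.symm hyα)])
    have h3 : (3 : ℕ∞) ≤ 2 := hΩ.trans h1
    exact absurd h3 (by decide)
  have hne : A ≠ conjBy A y := by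
    intro heq
    obtain ⟨γ, hγα, hγβ⟩ := hthird
    obtain ⟨a, ⟨ha, haγ⟩, -⟩ := hreg (y • α) γ hyα hγα
    rw [heq] at ha
    rw [hBfix a ha] at haγ
    exact hγβ haγ.symm
  have hrank : IsRankOnePair A (conjBy A y) := by
    refine ⟨hne, hnil, ?_, ?_, ?_⟩
    · exact Group.nilpotent_of_mulEquiv
        (A.equivMapOfInjective (MulAut.conj y).toMonoidHom (MulAut.conj y).injective)
    · intro a ha ha1
      have ha1' : a⁻¹ ≠ 1 := by simpa using ha1
      have hγα : a⁻¹ • y • α ≠ α := by
        intro h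
        apply hyα
        have := congrArg (fun x => a • x) h
        simp only [smul_inv_smul] at this
        rw [this, hAfix a ha]
      have hγβ : a⁻¹ • y • α ≠ y • α := F2 a⁻¹ (A.inv_mem ha) ha1' _ hyα
      obtain ⟨b', hb', hb'γ⟩ := F4 _ hγβ
      refine ⟨b'⁻¹, Subgroup.inv_mem _ hb', ?_, ?_⟩
      · intro h
        have : b' = 1 := by simpa using h
        rw [this, one_smul] at hb'γ
        exact hγα hb'γ.symm
      · rw [inv_inv, conjBy_conjBy]
        apply F1
        rw [hb'γ, mul_smul]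
    · intro b hb hb1
      have hb1' : b⁻¹ ≠ 1 := by simpa using hb1
      have hδα : b⁻¹ • α ≠ α := F2' b⁻¹ (Subgroup.inv_mem _ hb) hb1' α (Ne.symm hyα)
      have hδβ : b⁻¹ • α ≠ y • α := by
        intro h
        apply hyα
        have := congrArg (fun x => b • x) h
        simp only [smul_inv_smul] at this
        rw [hBfix b hb] at this
        exact this.symm
      obtain ⟨a', ⟨ha', ha'δ⟩, -⟩ := hreg (y • α) (b⁻¹ • α) hyα hδα
      refine ⟨a'⁻¹, A.inv_mem ha', ?_, ?_⟩
      · intro h
        have : a' = 1 := by simpa using h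
        rw [this, one_smul] at ha'δ
        exact hδβ ha'δ.symm
      · rw [inv_inv, conjBy_conjBy]
        apply F1
        rw [mul_smul, ha'δ]
  refine ⟨hrank, ?_⟩
  apply le_antisymm
  · rw [Subgroup.normalClosure, Subgroup.closure_le]
    intro x hx
    rw [Group.mem_conjugatesOfSet_iff] at hx
    obtain ⟨a, ha, hax⟩ := hx
    rw [isConj_iff] at hax
    obtain ⟨g, rfl⟩ := hax
    have hmem : g * a * g⁻¹ ∈ conjBy A g := conj_mem_conjBy ha
    by_cases hg : g • α = α
    · have : conjBy A g = A := hAn g (MulAction.mem_stabilizer_iff.mpr hg)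
      rw [this] at hmem
      exact Subgroup.mem_sup_left hmem
    · obtain ⟨a', ⟨ha', ha'δ⟩, -⟩ := hreg (y • α) (g • α) hyα hg
      have h1 : conjBy A g = conjBy A (a' * y) := by
        apply F1
        rw [mul_smul, ha'δ]
      rw [h1, ← conjBy_conjBy] at hmem
      exact conjBy_le_of_mem le_sup_right (Subgroup.mem_sup_left ha') hmem
  · apply sup_le Subgroup.le_normalClosure
    intro x hx
    rw [mem_conjBy] at hx
    have h1 : y⁻¹ * x * y ∈ Subgroup.normalClosure (A : Set Y) := Subgroup.le_normalClosure hx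
    have h2 := Subgroup.normalClosure_normal.conj_mem _ h1 y
    simpa [mul_assoc] using h2

end Cfsg.Agent.S5015
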