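import Cfsg.Statements.S5017
import Cfsg.Agent.Lib.Helper86.RankOne

set_option autoImplicit false
open Cfsg

namespace Cfsg.Agent.S5017

open Cfsg.Agent.Lib.Helper86

/-- Let X be a rank one group with unipotent subgroups A and B and N a normal subgroup of X. Then either X = N A or N lies in the centre of X. Consequently a perfect rank one group is quasisimple. -/
theorem result {X : Type*} [Group X] {A B : Subgroup X} (h : Cfsg.IsRankOneGroup X A B) :
    (∀ N : Subgroup X, N.Normal → N ⊔ A = ⊤ ∨ N ≤ Subgroup.center X) ∧
    (Group.IsPerfect X → Cfsg.IsQuasisimple X) := by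
  obtain ⟨htop, hp⟩ := h
  have hcen : Subgroup.centralizer ((A ⊔ B : Subgroup X) : Set X) = Subgroup.center X := by
    rw [htop, Subgroup.coe_top, Subgroup.centralizer_univ]
  have part1 : ∀ N : Subgroup X, N.Normal → N ⊔ A = ⊤ ∨ N ≤ Subgroup.center X := by
    intro N hN
    have hNn : A ⊔ B ≤ Subgroup.normalizer (N : Set X) := by
      rw [Subgroup.normalizer_eq_top_iff.mpr hN]; exact le_top
    rcases rk1_normal_dichotomy hp hNn (by rw [htop]; exact le_top) with h1 | h1
    · left
      rw [eq_top_iff, ← htop]
      exact sup_le le_sup_right h1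
    · right
      rw [← hcen]; exact h1
  refine ⟨part1, ?_⟩
  intro hperf
  refine ⟨hperf, ?_⟩
  have hcne : Subgroup.center X ≠ ⊤ := by
    intro h3
    apply rk1_left_ne_bot hp
    rw [← rk1_inf_normalizer hp]
    symm
    apply inf_of_le_left
    intro a _
    apply Subgroup.centralizer_le_normalizer
    apply Subgroup.center_le_centralizer
    rw [h3]; exact Subgroup.mem_top a
  have : Nontrivial (X ⧸ Subgroup.center X) := by
    rw [QuotientGroup.nontrivial_iff]
    exact hcne
  refine ⟨?_⟩
  intro M hM
  have hN : (M.comap (QuotientGroup.mk' (Subgroup.center X))).Normal := hM.comap _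
  rcases part1 _ hN with h1 | h1
  · right
    set N := M.comap (QuotientGroup.mk' (Subgroup.center X)) with hNdef
    have := hN
    -- X ⧸ N is nilpotent and perfect, hence trivial
    have hsurj : Function.Surjective ((QuotientGroup.mk' N).comp A.subtype) := by
      intro q
      obtain ⟨x, rfl⟩ := QuotientGroup.mk'_surjective N q
      have hx : x ∈ N ⊔ A := by rw [h1]; exact Subgroup.mem_top x
      rw [← SetLike.mem_coe, Subgroup.normal_mul] at hx
      obtain ⟨n, hn, a, ha, rfl⟩ := Set.mem_mul.mp hx
      refine ⟨⟨a, ha⟩, ?_⟩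
      simp only [MonoidHom.coe_comp, Function.comp_apply, Subgroup.coe_subtype, QuotientGroup.mk'_apply]
      rw [QuotientGroup.eq]
      have := hN.conj_mem n hn a⁻¹
      simpa [mul_assoc] using this
    have := hp.nilpotent_left
    have hnil : Group.IsNilpotent (X ⧸ N) := Group.nilpotent_of_surjective _ hsurj
    have : Group.IsPerfect (X ⧸ N) := Group.IsPerfect.instQuotientSubgroup
    have hsub : Subsingleton (X ⧸ N) := by
      by_contra hns
      rw [not_subsingleton_iff_nontrivial] at hns
      exact Group.IsPerfect.not_isNilpotent (X ⧸ N) hnil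
    have hNtop : N = ⊤ := by
      exact QuotientGroup.subgroup_eq_top_of_subsingleton N hsub
    rw [eq_top_iff]
    intro q _
    obtain ⟨x, rfl⟩ := QuotientGroup.mk'_surjective (Subgroup.center X) q
    have : x ∈ N := by rw [hNtop]; exact Subgroup.mem_top x
    exact this
  · left
    rw [eq_bot_iff]
    intro q hq
    obtain ⟨x, rfl⟩ := QuotientGroup.mk'_surjective (Subgroup.center X) q
    have hx : x ∈ Subgroup.center X := h1 hq
    rw [Subgroup.mem_bot]
    exact (QuotientGroup.eq_one_iff x).mpr hx

end Cfsg.Agent.S5017
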