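import Cfsg.Statements.S5018
import Cfsg.Agent.Lib.Helper86.RankOne

set_option autoImplicit false
open Cfsg

namespace Cfsg.Agent.S5018

open Cfsg.Agent.Lib.Helper86

/-- A rank one group is not nilpotent, and its second centre equals its centre. -/
theorem result {X : Type*} [Group X] {A B : Subgroup X} (h : Cfsg.IsRankOneGroup X A B) :
    Subgroup.upperCentralSeries X 2 = Subgroup.center X ∧ ¬ Group.IsNilpotent X := by
  obtain ⟨htop, hp⟩ := h
  have hcen : Subgroup.centralizer ((A ⊔ B : Subgroup X) : Set X) = Subgroup.center X := by
    rw [htop, Subgroup.coe_top, Subgroup.centralizer_univ]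
  have h2 : Subgroup.upperCentralSeries X 2 = Subgroup.center X := by
    apply le_antisymm
    · intro z hz
      rw [← hcen]
      apply rk1_second_center hp (by rw [htop]; exact Subgroup.mem_top z)
      intro y _
      rw [hcen, ← Subgroup.upperCentralSeries_one]
      exact Subgroup.mem_upperCentralSeries_succ_iff.mp hz y
    · rw [← Subgroup.upperCentralSeries_one]
      exact Subgroup.upperCentralSeries_mono X (by norm_num)
  refine ⟨h2, ?_⟩
  intro hnil
  have h3 : Subgroup.upperCentralSeries X 1 = ⊤ :=
    Subgroup.upperCentralSeries.eq_top (by norm_num : (1 : ℕ) ≠ 2)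
      (by rw [h2, Subgroup.upperCentralSeries_one])
  rw [Subgroup.upperCentralSeries_one] at h3
  apply rk1_left_ne_bot hp
  rw [← rk1_inf_normalizer hp]
  symm
  apply inf_of_le_left
  intro a _
  apply Subgroup.centralizer_le_normalizer
  apply Subgroup.center_le_centralizer
  rw [h3]; exact Subgroup.mem_top a

end Cfsg.Agent.S5018
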