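import Cfsg.Statements.S5020
import Cfsg.Agent.Lib.Helper86.Rk1Quasi3

set_option autoImplicit false
open Cfsg

namespace Cfsg.Agent.S5020

open Cfsg.Agent.Lib.Helper86

/-- Let X be a special rank one group with abelian unipotent subgroups A and B, and H = N(A) ∩ N(B) its diagonal subgroup. Then either A has at most three elements and X is isomorphic to SL₂(2), SL₂(3) or PSL₂(3); or X = X' A with the commutator subgroup X' quasisimple and the commutator subgroup ⁅A, H⁆ having more than three elements. -/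
theorem result {X : Type*} [Group X] {A B : Subgroup X} (h : Cfsg.IsRankOneGroup X A B)
    (hs : Cfsg.IsSpecialRankOnePair A B) (hab : Cfsg.HasAbelianUnipotents A B) :
    (ENat.card A ≤ 3 ∧ (Nonempty (X ≃* Matrix.SpecialLinearGroup (Fin 2) (ZMod 2)) ∨
        Nonempty (X ≃* Matrix.SpecialLinearGroup (Fin 2) (ZMod 3)) ∨
        Nonempty (X ≃* Matrix.ProjectiveSpecialLinearGroup (Fin 2) (ZMod 3)))) ∨
    (commutator X ⊔ A = ⊤ ∧ Cfsg.IsQuasisimple (commutator X) ∧
      3 < ENat.card ↥(⁅A, Cfsg.rankOneDiagonal A B⁆ : Subgroup X)) := by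
  by_cases hcard : ENat.card A ≤ 3
  · left
    refine ⟨hcard, ?_⟩
    obtain ⟨hfin, hpos, hle, -⟩ := enat_card_le_three hcard
    have hne : A ≠ ⊥ := rk1_left_ne_bot h.2
    have h2 : 2 ≤ Nat.card A := by
      by_contra hlt
      push Not at hlt
      have h1 : Nat.card A = 1 := by omega
      exact hne (Subgroup.card_eq_one.mp h1)
    have h23 : Nat.card A = 2 ∨ Nat.card A = 3 := by omega
    rcases h23 with h2' | h3'
    · rcases rk1_small_case h hs hab 2 h2' with ⟨⟨e⟩⟩ | ⟨⟨e⟩⟩
      · left; exact ⟨e⟩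
      · left
        obtain ⟨e'⟩ := psl_two_two
        exact ⟨e.trans e'⟩
    · rcases rk1_small_case h hs hab 3 h3' with ⟨⟨e⟩⟩ | ⟨⟨e⟩⟩
      · right; left; exact ⟨e⟩
      · right; right; exact ⟨e⟩
  · right
    push Not at hcard
    exact ⟨rk1_comm_sup h, rk1_comm_quasisimple h hs hab.1 hab.2 hcard,
      comm_diag_card hs hab.1 hab.2 hcard⟩

end Cfsg.Agent.S5020
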