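import Cfsg.Statements.S5021
import Cfsg.Agent.Lib.Helper86.SpecialRk1

set_option autoImplicit false
open Cfsg Cfsg.Agent.Lib.Helper86

namespace Cfsg.Agent.S5021

/-- In a special rank one group with abelian unipotent subgroups A and B, either A is an elementary abelian p-group for some prime p, or A is torsion-free and divisible (every element of A has an n-th root in A for every positive n). -/
theorem result {X : Type*} [Group X] {A B : Subgroup X} (h : Cfsg.IsRankOneGroup X A B)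
    (hs : Cfsg.IsSpecialRankOnePair A B) (hab : Cfsg.HasAbelianUnipotents A B) :
    (∃ p : ℕ, p.Prime ∧ Cfsg.IsElementaryAbelian p A) ∨
    ((∀ a ∈ A, a ≠ 1 → ¬ IsOfFinOrder a) ∧ ∀ a ∈ A, ∀ n : ℕ, 0 < n → ∃ c ∈ A, c ^ n = a) := by
  have hp := h.2
  by_cases htors : ∃ a ∈ A, a ≠ 1 ∧ IsOfFinOrder a
  · left
    obtain ⟨a₀, ha₀, ha₀1, hfin⟩ := htors
    have hm : 0 < orderOf a₀ := hfin.orderOf_pos
    have hm1 : orderOf a₀ ≠ 1 := by rwa [Ne, orderOf_eq_one_iff]
    obtain ⟨p, hp', hpd⟩ := Nat.exists_prime_and_dvd hm1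
    obtain ⟨a, haeq⟩ : ∃ a, a = a₀ ^ (orderOf a₀ / p) := ⟨_, rfl⟩
    have hap : orderOf a = p := by rw [haeq]; exact orderOf_pow_orderOf_div hm.ne' hpd
    have haA : a ∈ A := by rw [haeq]; exact A.pow_mem ha₀ _
    have ha1 : a ≠ 1 := by
      intro h0; rw [h0, orderOf_one] at hap; exact hp'.one_lt.ne' hap.symm
    have hapow : a ^ p = 1 := by rw [← hap]; exact pow_orderOf_eq_one a
    refine ⟨p, hp', hab.1, ?_⟩
    intro a' ha'
    by_contra hne
    have hcomm : Commute a a' := comm_of_isMulCommutative hab.1 haA ha'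
    have haa' : (a * a') ^ p = a' ^ p := by rw [hcomm.mul_pow, hapow, one_mul]
    have ha'1 : a' ≠ 1 := by intro h0; apply hne; rw [h0, one_pow]
    have haa'1 : a * a' ≠ 1 := by
      intro h0; apply hne; rw [← haa', h0, one_pow]
    obtain ⟨d, hd⟩ := ptn_exists_left hp (A.pow_mem ha' p) hne
    obtain ⟨b', hb'⟩ := ptn_exists_left hp ha' ha'1
    obtain ⟨b'', hb''⟩ := ptn_exists_left hp (A.mul_mem haA ha') haa'1
    have e1 : d ^ p = b' := pow_partner hs hab.2 hb' hd
    have e2 : d ^ p = b'' := pow_partner hs hab.2 hb'' (by rw [haa']; exact hd)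
    rw [← e2, e1] at hb''
    have e3 : a' = a * a' := ptn_unique_left hp hb' hb''
    apply ha1
    have := congrArg (fun y => y * a'⁻¹) e3
    simpa using this.symm
  · right
    push Not at htors
    refine ⟨htors, ?_⟩
    intro a ha n hn
    by_cases ha1 : a = 1
    · exact ⟨1, A.one_mem, by rw [ha1, one_pow]⟩
    obtain ⟨b, hb⟩ := ptn_exists_left hp ha ha1
    have hbn : b ^ n ≠ 1 := by
      intro h0
      have h2 : a ^ n = 1 := (ptn_pow_eq_one_iff hs hb n).mpr h0
      exact htors a ha ha1 (isOfFinOrder_iff_pow_eq_one.mpr ⟨n, hn, h2⟩)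
    obtain ⟨c, hc⟩ := ptn_exists_right hp (B.pow_mem hb.2.2.1 n) hbn
    exact ⟨c, hc.1, pow_partner (special_symm hs) hab.1 (ptn_swap hb) (ptn_swap hc)⟩

end Cfsg.Agent.S5021
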