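import Cfsg.Statements.S5023
import Cfsg.Agent.Lib.Helper86.Quadratic

set_option autoImplicit false
open Cfsg

namespace Cfsg.Agent.S5023

open Cfsg.Agent.Lib.Helper86

/-- Let X be a rank one group with unipotent subgroups A and B that acts faithfully on an abelian group V (written additively) with A acting quadratically: a' • (a • v − v) = a • v − v for all a, a' in A and v in V. Then A is either torsion-free or an elementary abelian p-group for some prime p. -/
theorem result {X : Type*} [Group X] {A B : Subgroup X} (h : Cfsg.IsRankOneGroup X A B)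
    {V : Type*} [AddCommGroup V] [DistribMulAction X V] (hf : ∀ x : X, (∀ v : V, x • v = v) → x = 1)
    (hq : ∀ a ∈ A, ∀ a' ∈ A, ∀ v : V, a' • (a • v - v) = a • v - v) :
    (∀ a ∈ A, a ≠ 1 → ¬ IsOfFinOrder a) ∨ ∃ p : ℕ, p.Prime ∧ Cfsg.IsElementaryAbelian p A := by
  by_cases hfin : ∀ a ∈ A, a ≠ 1 → ¬ IsOfFinOrder a
  · left; exact hfin
  · right
    push Not at hfin
    obtain ⟨a0, ha0, ha01, hfo⟩ := hfin
    have hm0 : 0 < orderOf a0 := hfo.orderOf_pos
    have hm1 : orderOf a0 ≠ 1 := by rw [Ne, orderOf_eq_one_iff]; exact ha01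
    have hpp : (orderOf a0).minFac.Prime := Nat.minFac_prime hm1
    have hpm : (orderOf a0).minFac ∣ orderOf a0 := Nat.minFac_dvd _
    obtain ⟨p, hpdef⟩ : ∃ p, p = (orderOf a0).minFac := ⟨_, rfl⟩
    rw [← hpdef] at hpp hpm
    obtain ⟨r, hr⟩ := hpm
    have hr0 : 0 < r := by
      rcases Nat.eq_zero_or_pos r with h0 | h0
      · rw [h0, mul_zero] at hr; omega
      · exact h0
    have hrlt : r < orderOf a0 := by
      rw [hr]
      have := hpp.one_lt
      nlinarith
    have ha1 : a0 ^ r ≠ 1 := pow_ne_one_of_lt_orderOf hr0.ne' hrlt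
    have hap1 : (a0 ^ r) ^ p = 1 := by
      rw [← pow_mul, mul_comm, ← hr, pow_orderOf_eq_one]
    have haA : a0 ^ r ∈ A := A.pow_mem ha0 r
    have hap : ∀ v : V, p • ((a0 ^ r) • v - v) = 0 := by
      intro v
      have h1 := quad_pow (hq _ haA _ haA) p v
      rw [hap1, one_smul] at h1
      have h2 : v + p • ((a0 ^ r) • v - v) = v + 0 := by rw [← h1, add_zero]
      exact add_left_cancel h2
    have hexp := quad_exponent h hf hq haA ha1 hap
    have hAc := quad_comm hf hq
    exact ⟨p, hpp, ⟨⟨fun x y => Subtype.ext (hAc x x.2 y y.2)⟩⟩, hexp⟩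

end Cfsg.Agent.S5023
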