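import Cfsg.Statements.S5026
import Cfsg.Agent.Lib.Helper86.RootSets

set_option autoImplicit false
open Cfsg

namespace Cfsg.Agent.S5026

open Cfsg.Agent.Lib.Helper86

theorem le_centralizer_zpowers_iff {G : Type*} [Group G] {E : Subgroup G} {x : G} :
    E ≤ Subgroup.centralizer ((Subgroup.zpowers x : Subgroup G) : Set G) ↔ ∀ e ∈ E, e * x = x * e := by
  rw [Subgroup.le_centralizer_iff, Subgroup.zpowers_le, Subgroup.mem_centralizer_iff]
  rfl

theorem key {G : Type*} [Group G] {S : Set (Subgroup G)} (hS : Cfsg.IsRootSubgroupSet S)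
    (hdeg : Cfsg.IsDegenerateRootSet S)
    {a b : G} (ha : a ∈ Cfsg.rootElements S) (hb : b ∈ Cfsg.rootElements S) (hab : a * b = b * a)
    (hab1 : a * b ≠ 1) {E : Subgroup G} (hE : E ∈ S) (hc : ∀ e ∈ E, e * (a * b) = (a * b) * e) :
    ∀ e ∈ E, e * a = a * e := by
  obtain ⟨ha1, A, hA, haA⟩ := ha
  obtain ⟨hb1, B, hB, hbB⟩ := hb
  by_contra hna
  have hnb : ¬ ∀ e ∈ E, e * b = b * e := by
    intro h1
    apply hna
    intro e he
    have h2 := hc e he
    have h3 := h1 e he
    rw [hab, ← mul_assoc, h3, mul_assoc, mul_assoc] at h2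
    exact mul_left_cancel h2
  have h1 : IsRankOnePair E A := by
    rcases hS.pair E hE A hA with h | h | h
    · exfalso
      rw [commutator_eq_bot_iff_comm] at h
      exact hna fun e he => h e he a haA
    · exact h
    · exact absurd h (hdeg E hE A hA)
  have h2 : IsRankOnePair E B := by
    rcases hS.pair E hE B hB with h | h | h
    · exfalso
      rw [commutator_eq_bot_iff_comm] at h
      exact hnb fun e he => h e he b hbB
    · exact h
    · exact absurd h (hdeg E hE B hB)
  have h3 : ∀ x ∈ A, ∀ y ∈ B, x * y = y * x := by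
    rcases hS.pair A hA B hB with h | h | h
    · rwa [commutator_eq_bot_iff_comm] at h
    · exact absurd hab (rk1_abelian_no_commute h (hS.commutative A hA) haA ha1 hbB hb1)
    · exact absurd h (hdeg A hA B hB)
  have h4 : conjBy E (a * b) = E := by
    apply mem_normalizer_iff_conjBy.mp
    apply Subgroup.centralizer_le_normalizer
    exact Subgroup.mem_centralizer_iff.mpr hc
  have h5 : conjBy E b = conjBy E a⁻¹ := by
    rw [← conjBy_conjBy, conjBy_eq_iff] at h4
    exact h4
  obtain ⟨e, he, he1, he2⟩ := rk1_cond' h1 (A.inv_mem haA) (by simpa using ha1)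
  obtain ⟨e', he', he1', he2'⟩ := rk1_cond' h2 hbB hb1
  have h6 : A = conjBy B (e⁻¹ * e') := by
    rw [← conjBy_conjBy, ← he2', h5, he2, conjBy_conjBy]; simp [conjBy_one]
  by_cases h7 : e⁻¹ * e' = 1
  · rw [h7, conjBy_one] at h6
    have : a * b ∈ A ⊓ Subgroup.normalizer (E : Set G) := by
      refine ⟨A.mul_mem haA (h6 ▸ hbB), ?_⟩
      apply Subgroup.centralizer_le_normalizer
      exact Subgroup.mem_centralizer_iff.mpr hc
    rw [rk1_inf_normalizer' h1, Subgroup.mem_bot] at this
    exact hab1 this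
  · obtain ⟨b1, hb1B, -, h8⟩ := rk1_cond h2 (E.mul_mem (E.inv_mem he) he') h7
    rw [h8] at h6
    have h9 : conjBy A b1⁻¹ = A := by
      apply mem_normalizer_iff_conjBy.mp
      apply Subgroup.centralizer_le_normalizer
      exact Subgroup.mem_centralizer_iff.mpr fun x hx => h3 x hx _ (B.inv_mem hb1B)
    have h10 : A = E := by
      rw [← h9]
      conv_lhs => rw [h6]
      rw [conjBy_conjBy]; simp [conjBy_one]
    exact h1.ne h10.symm

/-- Let S be a degenerate set of abstract root subgroups of G (a set of abstract transvection groups) and let a, b be commuting non-identity elements of members of S with a b ≠ 1. Then the members of S centralizing a b are exactly those centralizing both a and b. -/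
theorem result {G : Type*} [Group G] {S : Set (Subgroup G)} (hS : Cfsg.IsRootSubgroupSet S) (hdeg : Cfsg.IsDegenerateRootSet S)
    {a b : G} (ha : a ∈ Cfsg.rootElements S) (hb : b ∈ Cfsg.rootElements S) (hab : a * b = b * a) (hab1 : a * b ≠ 1) :
    Cfsg.centralizingMembers S (Subgroup.zpowers (a * b)) =
      Cfsg.centralizingMembers S (Subgroup.zpowers a) ∩ Cfsg.centralizingMembers S (Subgroup.zpowers b) := by
  ext E
  simp only [centralizingMembers, Set.mem_inter_iff, Set.mem_ofPred_eq, le_centralizer_zpowers_iff]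
  constructor
  · rintro ⟨hE, hc⟩
    have h1 := key hS hdeg ha hb hab hab1 hE hc
    have hab' : b * a ≠ 1 := by rw [← hab]; exact hab1
    have hc' : ∀ e ∈ E, e * (b * a) = (b * a) * e := by rw [← hab]; exact hc
    have h2 := key hS hdeg hb ha hab.symm hab' hE hc'
    exact ⟨⟨hE, h1⟩, ⟨hE, h2⟩⟩
  · rintro ⟨⟨hE, h1⟩, ⟨-, h2⟩⟩
    refine ⟨hE, fun e he => ?_⟩
    rw [← mul_assoc, h1 e he, mul_assoc, h2 e he, mul_assoc]

end Cfsg.Agent.S5026
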