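import Cfsg.Statements.S5027
import Cfsg.Agent.Lib.Helper86.RootSets

set_option autoImplicit false
open Cfsg

namespace Cfsg.Agent.S5027

open Cfsg.Agent.Lib.Helper86

/-- Let S be a set of abstract root subgroups of G such that every member of S has a rank one partner in S (the graph of rank one pairs on S has no isolated vertex). Then the second centre of G equals its centre. -/
theorem result {G : Type*} [Group G] {S : Set (Subgroup G)} (hS : Cfsg.IsRootSubgroupSet S)
    (hF : ∀ A ∈ S, ¬ Cfsg.IsIsolatedIn (Cfsg.FAdj S) S A) : Subgroup.upperCentralSeries G 2 = Subgroup.center G := by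
  apply le_antisymm
  · intro z hz
    -- z commutes with every member of S
    have key : ∀ A ∈ S, ∀ a ∈ A, a * z = z * a := by
      intro A hA a ha
      obtain ⟨B, hB, h⟩ := nonisolated_exists hA (hF A hA)
      by_contra hne
      have ha1 : a ≠ 1 := by
        rintro rfl
        exact hne (by simp)
      have hc : z * a * z⁻¹ * a⁻¹ ∈ Subgroup.center G := by
        rw [← Subgroup.upperCentralSeries_one]
        exact Subgroup.mem_upperCentralSeries_succ_iff.mp hz a
      have hc1 : z * a * z⁻¹ * a⁻¹ ≠ 1 := by
        intro h1
        apply hne
        have := congrArg (fun x => x * a * z) h1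
        simpa [mul_assoc] using this.symm
      have hcc : z * a * z⁻¹ * a⁻¹ ∈ Subgroup.centralizer ((A ⊔ B : Subgroup G) : Set G) :=
        Subgroup.center_le_centralizer _ hc
      have h2 := root_central_translate hS hA hB h hcc hc1 ha ha1
      apply h2
      have e : z * a * z⁻¹ * a⁻¹ * a = z * a * z⁻¹ := by group
      rw [e]
      refine ⟨?_, conjBy A z, hS.conj_mem A hA z, conj_mem_conjBy ha⟩
      intro h3
      apply ha1
      have := congrArg (fun x => z⁻¹ * x * z) h3
      simpa [mul_assoc] using this
    have h1 : (⨆ A ∈ S, A) ≤ Subgroup.centralizer ((Subgroup.zpowers z : Subgroup G) : Set G) := by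
      apply iSup₂_le
      intro A hA
      rw [Subgroup.le_centralizer_iff, Subgroup.zpowers_le]
      exact Subgroup.mem_centralizer_iff.mpr fun a ha => key A hA a ha
    rw [hS.generates, Subgroup.le_centralizer_iff, Subgroup.zpowers_le, Subgroup.coe_top,
      Subgroup.centralizer_univ] at h1
    exact h1
  · rw [← Subgroup.upperCentralSeries_one]
    exact Subgroup.upperCentralSeries_mono G (by norm_num)

end Cfsg.Agent.S5027
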