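import Cfsg.Statements.S5030
import Cfsg.Agent.Lib.Helper86.Lines3
import Cfsg.Agent.Lib.Helper86.Ucs

set_option autoImplicit false
open Cfsg
open Cfsg.Agent.Lib.Helper86

namespace Cfsg.Agent.S5030

open scoped commutatorElement

section
variable {G : Type*} [Group G] {S : Set (Subgroup G)}

/-- `A` commutes with `P ⊔ Q` if it commutes with `P` and `Q` -/
theorem comm_sup_right {A P Q : Subgroup G} (hP : ∀ a ∈ A, ∀ p ∈ P, a * p = p * a)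
    (hQ : ∀ a ∈ A, ∀ q ∈ Q, a * q = q * a) : ∀ a ∈ A, ∀ y ∈ P ⊔ Q, a * y = y * a := by
  intro a ha y hy
  have : a ∈ Subgroup.centralizer ((P ⊔ Q : Subgroup G) : Set G) := by
    rw [mem_centralizer_sup_iff]
    exact ⟨fun p hp => (hP a ha p hp).symm, fun q hq => (hQ a ha q hq).symm⟩
  exact (Subgroup.mem_centralizer_iff.mp this y hy).symm

/-- elementwise commuting is symmetric -/
theorem comm_symm' {P Q : Subgroup G} (h : ∀ p ∈ P, ∀ q ∈ Q, p * q = q * p) :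
    ∀ q ∈ Q, ∀ p ∈ P, q * p = p * q := fun q hq p hp => (h p hp q hq).symm

/-- Step I: `A` and a `B`-conjugate of `C` never form a rank one pair. -/
theorem not_rk1 (hS : IsRootSubgroupSet S) {A B C : Subgroup G} (hA : A ∈ S) (hC : C ∈ S)
    (h2 : RootCommutatorCase S B C) (hcomm : ∀ a ∈ A, ∀ c ∈ C, a * c = c * a)
    {b : G} (hb : b ∈ B) : ¬ IsRankOnePair A (conjBy C b⁻¹) := by
  intro hr
  have hAc := hS.commutative A hA
  have hCc := hS.commutative C hC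
  have hC1 : conjBy C b⁻¹ ∈ S := hS.conj_mem C hC b⁻¹
  have hCF : ∀ c ∈ C, ∀ f ∈ ⁅B, C⁆, c * f = f * c := commcase_comm_right h2
  have hC1le : conjBy C b⁻¹ ≤ C ⊔ ⁅B, C⁆ := by
    have := commcase_conj_le C B (B.inv_mem hb)
    rwa [Subgroup.commutator_comm C B] at this
  -- C centralizes C1 ⊔ A
  have hCcen : ∀ c ∈ C, c ∈ Subgroup.centralizer ((conjBy C b⁻¹ ⊔ A : Subgroup G) : Set G) := by
    intro c hc
    rw [mem_centralizer_sup_iff]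
    refine ⟨fun x hx => ?_, fun a ha => hcomm a ha c hc⟩
    have := comm_sup_right (A := C) (P := C) (Q := ⁅B, C⁆)
      (fun c hc c' hc' => comm_of_isMulCommutative hCc hc hc') hCF c hc x (hC1le hx)
    exact this.symm
  obtain ⟨c', hc', hc'1⟩ := exists_ne_one_of_ne_bot (hS.ne_bot C hC)
  obtain ⟨a, ha, ha1⟩ := rk1_exists_ne_one hr
  have hx : b⁻¹ * c' * b ∈ conjBy C b⁻¹ := by
    have := conj_mem_conjBy (g := b⁻¹) hc'
    simpa using this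
  have hx1 : b⁻¹ * c' * b ≠ 1 := by
    intro h
    apply hc'1
    have := congrArg (fun t => b * t * b⁻¹) h
    simpa [mul_assoc] using this
  have hf : c'⁻¹ * b⁻¹ * c' * b ∈ ⁅C, B⁆ := by
    have := Subgroup.commutator_mem_commutator (C.inv_mem hc') (B.inv_mem hb)
    simpa [commutatorElement_def] using this
  have hnot := root_central_translate hS hC1 hA (RankOnePair_symm hr) (hCcen c' hc') hc'1 hx hx1
  apply hnot
  by_cases hsq : c' * c' = 1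
  · -- c' * x = f
    have e1 : c' * (b⁻¹ * c' * b) = c'⁻¹ * b⁻¹ * c' * b := by
      have : c' = c'⁻¹ := by
        have := congrArg (fun t => t * c'⁻¹) hsq
        simpa [mul_assoc] using this
      calc c' * (b⁻¹ * c' * b) = c' * b⁻¹ * c' * b := by group
        _ = c'⁻¹ * b⁻¹ * c' * b := by rw [← this]
    by_cases hf1 : c'⁻¹ * b⁻¹ * c' * b = 1
    · exfalso
      -- then x = c' ∈ C commutes with a
      have e2 : b⁻¹ * c' * b = c' := by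
        have := congrArg (fun t => c' * t) hf1
        simpa [mul_assoc] using this
      rw [e2] at hx
      exact rk1_abelian_no_commute hr hAc ha ha1 hx hc'1 (hcomm a ha c' hc')
    · rw [e1]
      refine ⟨hf1, ⁅B, C⁆, h2.1, ?_⟩
      rw [Subgroup.commutator_comm]
      exact hf
  · -- c'² ≠ 1
    obtain ⟨b₂, hb₂, hb₂e⟩ := commcase_conj (commcase_symm h2) (C.mul_mem hc' hc') hsq hf
    have e1 : c' * (b⁻¹ * c' * b) = b₂ * (c' * c') * b₂⁻¹ := by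
      rw [hb₂e]; group
    rw [e1]
    refine ⟨?_, conjBy C b₂, hS.conj_mem C hC b₂, conj_mem_conjBy (C.mul_mem hc' hc')⟩
    intro h
    apply hsq
    have := congrArg (fun t => b₂⁻¹ * t * b₂) h
    simpa [mul_assoc] using this

/-- commutators in `P ⊔ Q` for a pair which is not a rank one pair lie in the centre of `P ⊔ Q` -/
theorem pair_class_two (hS : IsRootSubgroupSet S) {P Q : Subgroup G} (hP : P ∈ S) (hQ : Q ∈ S)
    (hnr : ¬ IsRankOnePair P Q) :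
    ∀ x ∈ P ⊔ Q, ∀ y ∈ P ⊔ Q, x * y * x⁻¹ * y⁻¹ ∈ Subgroup.centralizer ((P ⊔ Q : Subgroup G) : Set G) := by
  have hPc := hS.commutative P hP
  have hQc := hS.commutative Q hQ
  -- ⁅P, Q⁆ is central in P ⊔ Q
  have hcen : ⁅P, Q⁆ ≤ Subgroup.centralizer ((P ⊔ Q : Subgroup G) : Set G) := by
    rcases hS.pair P hP Q hQ with h | h | h
    · rw [h]; exact bot_le
    · exact absurd h hnr
    · intro c hc
      rw [Subgroup.mem_centralizer_iff]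
      intro x hx
      exact (h.2.1 c hc x hx).symm
  have hn : P ⊔ Q ≤ Subgroup.normalizer
      ((Subgroup.centralizer ((P ⊔ Q : Subgroup G) : Set G) : Subgroup G) : Set G) := by
    intro y hy
    rw [Subgroup.mem_normalizer_iff]
    intro z
    constructor
    · intro hz
      rw [Subgroup.mem_centralizer_iff] at hz ⊢
      intro n hn
      have h5 : y⁻¹ * n * y ∈ P ⊔ Q :=
        Subgroup.mul_mem _ (Subgroup.mul_mem _ (Subgroup.inv_mem _ hy) hn) hy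
      have h6 := hz _ h5
      calc n * (y * z * y⁻¹) = y * ((y⁻¹ * n * y) * z) * y⁻¹ := by group
        _ = y * (z * (y⁻¹ * n * y)) * y⁻¹ := by rw [h6]
        _ = y * z * y⁻¹ * n := by group
    · intro hz
      rw [Subgroup.mem_centralizer_iff] at hz ⊢
      intro n hn
      have h5 : y * n * y⁻¹ ∈ P ⊔ Q :=
        Subgroup.mul_mem _ (Subgroup.mul_mem _ hy hn) (Subgroup.inv_mem _ hy)
      have h6 := hz _ h5
      have := congrArg (fun t => y⁻¹ * t * y) h6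
      simpa [mul_assoc] using this
  have hPn := le_sup_left.trans hn
  have hQn := le_sup_right.trans hn
  -- generators
  have hgenP : ∀ p ∈ P, ∀ y ∈ P ⊔ Q,
      p * y * p⁻¹ * y⁻¹ ∈ Subgroup.centralizer ((P ⊔ Q : Subgroup G) : Set G) := by
    intro p hp
    refine comm_mem_sup hPn hQn ?_ ?_
    · intro p' hp'
      have : p * p' * p⁻¹ * p'⁻¹ = 1 := by
        rw [comm_of_isMulCommutative hPc hp hp']; group
      rw [this]; exact Subgroup.one_mem _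
    · intro q hq
      apply hcen
      have := Subgroup.commutator_mem_commutator hp hq
      rwa [commutatorElement_def] at this
  have hgenQ : ∀ q ∈ Q, ∀ y ∈ P ⊔ Q,
      q * y * q⁻¹ * y⁻¹ ∈ Subgroup.centralizer ((P ⊔ Q : Subgroup G) : Set G) := by
    intro q hq
    refine comm_mem_sup hPn hQn ?_ ?_
    · intro p hp
      apply hcen
      have := Subgroup.inv_mem _ (Subgroup.commutator_mem_commutator hp hq)
      have e : (⁅p, q⁆)⁻¹ = q * p * q⁻¹ * p⁻¹ := by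
        simp only [commutatorElement_def]; group
      rwa [e] at this
    · intro q' hq'
      have : q * q' * q⁻¹ * q'⁻¹ = 1 := by
        rw [comm_of_isMulCommutative hQc hq hq']; group
      rw [this]; exact Subgroup.one_mem _
  intro x hx y hy
  have hinv : ∀ u v : G, u * v * u⁻¹ * v⁻¹ = (v * u * v⁻¹ * u⁻¹)⁻¹ := by intro u v; group
  have h1 : ∀ z ∈ P ⊔ Q, y * z * y⁻¹ * z⁻¹ ∈ Subgroup.centralizer ((P ⊔ Q : Subgroup G) : Set G) := by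
    refine comm_mem_sup hPn hQn ?_ ?_
    · intro p hp
      rw [hinv]
      exact Subgroup.inv_mem _ (hgenP p hp y hy)
    · intro q hq
      rw [hinv]
      exact Subgroup.inv_mem _ (hgenQ q hq y hy)
  rw [hinv]
  exact Subgroup.inv_mem _ (h1 x hx)

end

section
variable {G : Type*} [Group G] {S : Set (Subgroup G)}

theorem sup_commutative_of_comm (hS : IsRootSubgroupSet S) {P Q : Subgroup G} (hP : P ∈ S)
    (hQ : Q ∈ S) (h : ⁅P, Q⁆ = ⊥) : IsMulCommutative ↥(P ⊔ Q) := by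
  rw [commutator_eq_bot_iff_comm] at h
  have hPc := hS.commutative P hP
  have hQc := hS.commutative Q hQ
  have h1 : ∀ p ∈ P, ∀ y ∈ P ⊔ Q, p * y = y * p :=
    comm_sup_right (fun p hp p' hp' => comm_of_isMulCommutative hPc hp hp') h
  have h2 : ∀ q ∈ Q, ∀ y ∈ P ⊔ Q, q * y = y * q :=
    comm_sup_right (comm_symm' h) (fun q hq q' hq' => comm_of_isMulCommutative hQc hq hq')
  have h3 : ∀ y ∈ P ⊔ Q, ∀ x ∈ P ⊔ Q, y * x = x * y :=
    comm_sup_right (comm_symm' h1) (comm_symm' h2)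
  refine ⟨⟨?_⟩⟩
  rintro ⟨x, hx⟩ ⟨y, hy⟩
  apply Subtype.ext
  exact h3 x hx y hy

theorem not_commutative_of_ne_bot {P Q : Subgroup G} (h : ⁅P, Q⁆ ≠ ⊥) :
    ¬ IsMulCommutative ↥(P ⊔ Q) := by
  intro hc
  apply h
  rw [commutator_eq_bot_iff_comm]
  intro p hp q hq
  exact comm_of_isMulCommutative hc (Subgroup.mem_sup_left hp) (Subgroup.mem_sup_right hq)

theorem class_two_of_pair (hS : IsRootSubgroupSet S) {P Q : Subgroup G} (hP : P ∈ S) (hQ : Q ∈ S)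
    (hnr : ¬ IsRankOnePair P Q) : ⁅⁅P ⊔ Q, P ⊔ Q⁆, P ⊔ Q⁆ = ⊥ := by
  rw [Subgroup.commutator_eq_bot_iff_le_centralizer, Subgroup.commutator_le]
  intro x hx y hy
  rw [commutatorElement_def]
  exact pair_class_two hS hP hQ hnr x hx y hy

theorem self_le_normalizer_centralizer (M : Subgroup G) :
    M ≤ Subgroup.normalizer ((Subgroup.centralizer (M : Set G) : Subgroup G) : Set G) := by
  intro y hy
  rw [Subgroup.mem_normalizer_iff]
  intro z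
  constructor
  · intro hz
    rw [Subgroup.mem_centralizer_iff] at hz ⊢
    intro n hn
    have h5 : y⁻¹ * n * y ∈ M := M.mul_mem (M.mul_mem (M.inv_mem hy) hn) hy
    have h6 := hz _ h5
    calc n * (y * z * y⁻¹) = y * ((y⁻¹ * n * y) * z) * y⁻¹ := by group
      _ = y * (z * (y⁻¹ * n * y)) * y⁻¹ := by rw [h6]
      _ = y * z * y⁻¹ * n := by group
  · intro hz
    rw [Subgroup.mem_centralizer_iff] at hz ⊢
    intro n hn
    have h5 : y * n * y⁻¹ ∈ M := M.mul_mem (M.mul_mem hy hn) (M.inv_mem hy)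
    have h6 := hz _ h5
    have := congrArg (fun t => y⁻¹ * t * y) h6
    simpa [mul_assoc] using this

/-- the join of two commuting subgroups of class at most two has class at most two -/
theorem class_two_sup {X Y : Subgroup G} (hXY : ∀ x ∈ X, ∀ y ∈ Y, x * y = y * x)
    (hX : ∀ x ∈ X, ∀ x' ∈ X, x * x' * x⁻¹ * x'⁻¹ ∈ Subgroup.centralizer (X : Set G))
    (hY : ∀ y ∈ Y, ∀ y' ∈ Y, y * y' * y⁻¹ * y'⁻¹ ∈ Subgroup.centralizer (Y : Set G)) :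
    ∀ m ∈ X ⊔ Y, ∀ m' ∈ X ⊔ Y,
      m * m' * m⁻¹ * m'⁻¹ ∈ Subgroup.centralizer ((X ⊔ Y : Subgroup G) : Set G) := by
  have hn := self_le_normalizer_centralizer (X ⊔ Y)
  have hXn := le_sup_left.trans hn
  have hYn := le_sup_right.trans hn
  have hXX : ∀ x ∈ X, ∀ x' ∈ X,
      x * x' * x⁻¹ * x'⁻¹ ∈ Subgroup.centralizer ((X ⊔ Y : Subgroup G) : Set G) := by
    intro x hx x' hx'
    rw [mem_centralizer_sup_iff]
    refine ⟨fun p hp => Subgroup.mem_centralizer_iff.mp (hX x hx x' hx') p hp, fun q hq => ?_⟩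
    have e1 := hXY x hx q hq
    have e2 := hXY x' hx' q hq
    have e3 := hXY x⁻¹ (X.inv_mem hx) q hq
    have e4 := hXY x'⁻¹ (X.inv_mem hx') q hq
    calc q * (x * x' * x⁻¹ * x'⁻¹) = (q * x) * x' * x⁻¹ * x'⁻¹ := by group
      _ = x * (q * x') * x⁻¹ * x'⁻¹ := by rw [← e1]; group
      _ = x * x' * (q * x⁻¹) * x'⁻¹ := by rw [← e2]; group
      _ = x * x' * x⁻¹ * (q * x'⁻¹) := by rw [← e3]; group
      _ = x * x' * x⁻¹ * x'⁻¹ * q := by rw [← e4]; group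
  have hYY : ∀ y ∈ Y, ∀ y' ∈ Y,
      y * y' * y⁻¹ * y'⁻¹ ∈ Subgroup.centralizer ((X ⊔ Y : Subgroup G) : Set G) := by
    intro y hy y' hy'
    rw [mem_centralizer_sup_iff]
    refine ⟨fun p hp => ?_, fun q hq => Subgroup.mem_centralizer_iff.mp (hY y hy y' hy') q hq⟩
    have e1 := hXY p hp y hy
    have e2 := hXY p hp y' hy'
    have e3 := hXY p hp y⁻¹ (Y.inv_mem hy)
    have e4 := hXY p hp y'⁻¹ (Y.inv_mem hy')
    calc p * (y * y' * y⁻¹ * y'⁻¹) = (p * y) * y' * y⁻¹ * y'⁻¹ := by group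
      _ = y * (p * y') * y⁻¹ * y'⁻¹ := by rw [e1]; group
      _ = y * y' * (p * y⁻¹) * y'⁻¹ := by rw [e2]; group
      _ = y * y' * y⁻¹ * (p * y'⁻¹) := by rw [e3]; group
      _ = y * y' * y⁻¹ * y'⁻¹ * p := by rw [e4]; group
  have hone : ∀ x ∈ X, ∀ y ∈ Y, x * y * x⁻¹ * y⁻¹ = 1 := by
    intro x hx y hy
    rw [hXY x hx y hy]; group
  have hone' : ∀ y ∈ Y, ∀ x ∈ X, y * x * y⁻¹ * x⁻¹ = 1 := by
    intro y hy x hx
    rw [← hXY x hx y hy]; group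
  intro m hm m' hm'
  refine comm_mem_sup_left hXn hYn ?_ ?_ m hm
  · intro x hx
    refine comm_mem_sup hXn hYn (hXX x hx) ?_ m' hm'
    intro q hq
    rw [hone x hx q hq]; exact Subgroup.one_mem _
  · intro y hy
    refine comm_mem_sup hXn hYn ?_ (hYY y hy) m' hm'
    intro p hp
    rw [hone' y hy p hp]; exact Subgroup.one_mem _

end

/-- Let S be a set of abstract root subgroups of G and A, B, C ∈ S with ⁅A, B⁆ ∈ S and ⁅B, C⁆ ∈ S, where A and C are different and commute. For a non-identity b ∈ B put X = ⟨A, b⁻¹ C b⟩ and Y = ⟨b⁻¹ A b, C⟩ and R = ⟨A, B, C⟩. Then X and Y are either both abelian or both nilpotent of class exactly two; X and Y commute elementwise; XY is normal in R with R = (XY) B; and R is nilpotent. -/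
theorem result {G : Type*} [Group G] {S : Set (Subgroup G)} (hS : Cfsg.IsRootSubgroupSet S)
    {A B C : Subgroup G} (hA : A ∈ S) (hB : B ∈ S) (hC : C ∈ S) (hAB : ⁅A, B⁆ ∈ S) (hBC : ⁅B, C⁆ ∈ S)
    (hAC : C ∈ Cfsg.commutingPartners S A)
    {b : G} (hb : b ∈ B) (hb1 : b ≠ 1) :
    ((IsMulCommutative ↥(A ⊔ Cfsg.conjBy C b⁻¹) ∧ IsMulCommutative ↥(Cfsg.conjBy A b⁻¹ ⊔ C)) ∨
      ((¬ IsMulCommutative ↥(A ⊔ Cfsg.conjBy C b⁻¹) ∧
          ⁅⁅A ⊔ Cfsg.conjBy C b⁻¹, A ⊔ Cfsg.conjBy C b⁻¹⁆, A ⊔ Cfsg.conjBy C b⁻¹⁆ = ⊥) ∧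
        (¬ IsMulCommutative ↥(Cfsg.conjBy A b⁻¹ ⊔ C) ∧
          ⁅⁅Cfsg.conjBy A b⁻¹ ⊔ C, Cfsg.conjBy A b⁻¹ ⊔ C⁆, Cfsg.conjBy A b⁻¹ ⊔ C⁆ = ⊥))) ∧
    ⁅A ⊔ Cfsg.conjBy C b⁻¹, Cfsg.conjBy A b⁻¹ ⊔ C⁆ = ⊥ ∧
    (∀ r ∈ A ⊔ B ⊔ C, Cfsg.conjBy ((A ⊔ Cfsg.conjBy C b⁻¹) ⊔ (Cfsg.conjBy A b⁻¹ ⊔ C)) r =
      (A ⊔ Cfsg.conjBy C b⁻¹) ⊔ (Cfsg.conjBy A b⁻¹ ⊔ C)) ∧
    ((A ⊔ Cfsg.conjBy C b⁻¹) ⊔ (Cfsg.conjBy A b⁻¹ ⊔ C)) ⊔ B = A ⊔ B ⊔ C ∧
    Group.IsNilpotent ↥(A ⊔ B ⊔ C) := by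
  obtain ⟨-, hCA, hACcomm⟩ := hAC
  have hcomm : ∀ a ∈ A, ∀ c ∈ C, a * c = c * a := commutator_eq_bot_iff_comm.mp hACcomm
  have h1 : RootCommutatorCase S A B := commcase_of_comm_mem hS hA hB hAB
  have h2 : RootCommutatorCase S B C := commcase_of_comm_mem hS hB hC hBC
  have hbi : b⁻¹ ∈ B := B.inv_mem hb
  have hbi1 : b⁻¹ ≠ 1 := by simpa using hb1
  have hAc := hS.commutative A hA
  have hBc := hS.commutative B hB
  have hCc := hS.commutative C hC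
  have hAA : ∀ a ∈ A, ∀ a' ∈ A, a * a' = a' * a := fun a ha a' ha' => comm_of_isMulCommutative hAc ha ha'
  have hCC : ∀ c ∈ C, ∀ c' ∈ C, c * c' = c' * c := fun c hc c' hc' => comm_of_isMulCommutative hCc hc hc'
  have hAE : ∀ a ∈ A, ∀ e ∈ ⁅A, B⁆, a * e = e * a := commcase_comm_left h1
  have hBE : ∀ b ∈ B, ∀ e ∈ ⁅A, B⁆, b * e = e * b := commcase_comm_right h1
  have hBF : ∀ b ∈ B, ∀ f ∈ ⁅B, C⁆, b * f = f * b := commcase_comm_left h2
  have hCF : ∀ c ∈ C, ∀ f ∈ ⁅B, C⁆, c * f = f * c := commcase_comm_right h2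
  obtain ⟨C1, hC1def⟩ : ∃ C1, C1 = conjBy C b⁻¹ := ⟨_, rfl⟩
  obtain ⟨A1, hA1def⟩ : ∃ A1, A1 = conjBy A b⁻¹ := ⟨_, rfl⟩
  rw [← hC1def, ← hA1def]
  have hC1S : C1 ∈ S := hC1def ▸ hS.conj_mem C hC b⁻¹
  have hA1S : A1 ∈ S := hA1def ▸ hS.conj_mem A hA b⁻¹
  have hC1le : C1 ≤ C ⊔ ⁅B, C⁆ := by
    have := commcase_conj_le C B hbi
    rwa [Subgroup.commutator_comm C B, ← hC1def] at this
  have hA1le : A1 ≤ A ⊔ ⁅A, B⁆ := by
    have := commcase_conj_le A B hbi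
    rwa [← hA1def] at this
  have hnr1 : ¬ IsRankOnePair A C1 := hC1def ▸ not_rk1 hS hA hC h2 hcomm hb
  have hnr2 : ¬ IsRankOnePair A1 C := by
    intro h
    rw [hA1def] at h
    exact not_rk1 hS hC hA (commcase_symm h1) (comm_symm' hcomm) hb (RankOnePair_symm h)
  -- E ≤ A ⊔ A1 and F ≤ C1 ⊔ C
  have hE_le : ⁅A, B⁆ ≤ A ⊔ A1 := by
    rw [← h1.2.2.2 b⁻¹ hbi hbi1, Subgroup.closure_le]
    rintro _ ⟨a, ha, rfl⟩
    have e : a * b⁻¹ * a⁻¹ * b⁻¹⁻¹ = a * (b⁻¹ * a⁻¹ * b⁻¹⁻¹) := by group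
    change a * b⁻¹ * a⁻¹ * b⁻¹⁻¹ ∈ A ⊔ A1
    rw [e]
    exact Subgroup.mul_mem _ (Subgroup.mem_sup_left ha)
      (Subgroup.mem_sup_right (hA1def ▸ conj_mem_conjBy (A.inv_mem ha)))
  have hF_le : ⁅B, C⁆ ≤ C1 ⊔ C := by
    rw [← h2.2.2.1 b⁻¹ hbi hbi1, Subgroup.closure_le]
    rintro _ ⟨c, hc, rfl⟩
    change b⁻¹ * c * b⁻¹⁻¹ * c⁻¹ ∈ C1 ⊔ C
    exact Subgroup.mul_mem _ (Subgroup.mem_sup_left (hC1def ▸ conj_mem_conjBy hc))
      (Subgroup.mem_sup_right (C.inv_mem hc))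
  -- C commutes with C ⊔ F, A commutes with A ⊔ E
  have hC_CF : ∀ c ∈ C, ∀ y ∈ C ⊔ ⁅B, C⁆, c * y = y * c := comm_sup_right hCC hCF
  have hA_AE : ∀ a ∈ A, ∀ y ∈ A ⊔ ⁅A, B⁆, a * y = y * a := comm_sup_right hAA hAE
  -- the equivalences
  have hX_iff : ⁅A, C1⁆ = ⊥ ↔ ⁅A, ⁅B, C⁆⁆ = ⊥ := by
    constructor
    · intro h
      rw [commutator_eq_bot_iff_comm] at h
      rw [Subgroup.commutator_comm, Subgroup.commutator_eq_bot_iff_le_centralizer,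
        ← h2.2.2.1 b⁻¹ hbi hbi1, Subgroup.closure_le]
      rintro _ ⟨c, hc, rfl⟩
      rw [SetLike.mem_coe, Subgroup.mem_centralizer_iff]
      intro a ha
      have e1 := h a ha (b⁻¹ * c * b⁻¹⁻¹) (hC1def ▸ conj_mem_conjBy hc)
      have e2 := hcomm a ha c⁻¹ (C.inv_mem hc)
      change a * (b⁻¹ * c * b⁻¹⁻¹ * c⁻¹) = b⁻¹ * c * b⁻¹⁻¹ * c⁻¹ * a
      calc a * (b⁻¹ * c * b⁻¹⁻¹ * c⁻¹) = (a * (b⁻¹ * c * b⁻¹⁻¹)) * c⁻¹ := by group
        _ = (b⁻¹ * c * b⁻¹⁻¹) * (a * c⁻¹) := by rw [e1]; group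
        _ = b⁻¹ * c * b⁻¹⁻¹ * c⁻¹ * a := by rw [e2]; group
    · intro h
      rw [commutator_eq_bot_iff_comm] at h ⊢
      intro a ha x hx
      exact comm_sup_right hcomm h a ha x (hC1le hx)
  have hY_iff : ⁅A1, C⁆ = ⊥ ↔ ⁅⁅A, B⁆, C⁆ = ⊥ := by
    constructor
    · intro h
      rw [commutator_eq_bot_iff_comm] at h
      rw [Subgroup.commutator_eq_bot_iff_le_centralizer,
        ← h1.2.2.2 b⁻¹ hbi hbi1, Subgroup.closure_le]
      rintro _ ⟨a, ha, rfl⟩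
      rw [SetLike.mem_coe, Subgroup.mem_centralizer_iff]
      intro c hc
      have e1 := h (b⁻¹ * a⁻¹ * b⁻¹⁻¹) (hA1def ▸ conj_mem_conjBy (A.inv_mem ha)) c hc
      have e2 := hcomm a ha c hc
      change c * (a * b⁻¹ * a⁻¹ * b⁻¹⁻¹) = a * b⁻¹ * a⁻¹ * b⁻¹⁻¹ * c
      calc c * (a * b⁻¹ * a⁻¹ * b⁻¹⁻¹) = (c * a) * (b⁻¹ * a⁻¹ * b⁻¹⁻¹) := by group
        _ = a * (c * (b⁻¹ * a⁻¹ * b⁻¹⁻¹)) := by rw [← e2]; group
        _ = a * b⁻¹ * a⁻¹ * b⁻¹⁻¹ * c := by rw [← e1]; group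
    · intro h
      rw [commutator_eq_bot_iff_comm] at h ⊢
      intro x hx c hc
      exact (comm_sup_right (comm_symm' hcomm) (comm_symm' h) c hc x (hA1le hx)).symm
  have h3sub : ⁅A, ⁅B, C⁆⁆ = ⊥ ↔ ⁅⁅A, B⁆, C⁆ = ⊥ := by
    have hCA' : ⁅⁅C, A⁆, B⁆ = ⊥ := by
      rw [Subgroup.commutator_comm C A, hACcomm, Subgroup.commutator_bot_left]
    constructor
    · intro h
      apply Subgroup.commutator_commutator_eq_bot_of_rotate _ hCA'
      rw [Subgroup.commutator_comm]; exact h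
    · intro h
      rw [Subgroup.commutator_comm]
      exact Subgroup.commutator_commutator_eq_bot_of_rotate hCA' h
  -- X and Y commute
  have hXY : ∀ x ∈ A ⊔ C1, ∀ y ∈ A1 ⊔ C, x * y = y * x := by
    have hA_Y : ∀ a ∈ A, ∀ y ∈ A1 ⊔ C, a * y = y * a :=
      comm_sup_right (fun a ha y hy => hA_AE a ha y (hA1le hy)) hcomm
    have hC1A1 : ∀ x ∈ C1, ∀ y ∈ A1, x * y = y * x := by
      have : ⁅C1, A1⁆ = ⊥ := by
        rw [hC1def, hA1def, conjBy_commutator, Subgroup.commutator_comm C A, hACcomm, conjBy_bot]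
      exact commutator_eq_bot_iff_comm.mp this
    have hC1_Y : ∀ x ∈ C1, ∀ y ∈ A1 ⊔ C, x * y = y * x :=
      comm_sup_right hC1A1 (fun x hx c hc => (hC_CF c hc x (hC1le hx)).symm)
    exact comm_symm' (comm_sup_right (comm_symm' hA_Y) (comm_symm' hC1_Y))
  -- M
  have hM : (A ⊔ C1) ⊔ (A1 ⊔ C) = A ⊔ C ⊔ ⁅A, B⁆ ⊔ ⁅B, C⁆ := by
    apply le_antisymm
    · apply sup_le
      · apply sup_le
        · exact (le_sup_left.trans le_sup_left).trans le_sup_left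
        · apply hC1le.trans
          exact sup_le ((le_sup_right.trans le_sup_left).trans le_sup_left) le_sup_right
      · apply sup_le
        · apply hA1le.trans
          exact sup_le ((le_sup_left.trans le_sup_left).trans le_sup_left)
            (le_sup_right.trans le_sup_left)
        · exact (le_sup_right.trans le_sup_left).trans le_sup_left
    · apply sup_le
      · apply sup_le
        · apply sup_le
          · exact le_sup_left.trans le_sup_left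
          · exact le_sup_right.trans le_sup_right
        · apply hE_le.trans
          exact sup_le (le_sup_left.trans le_sup_left) (le_sup_left.trans le_sup_right)
      · apply hF_le.trans
        exact sup_le (le_sup_right.trans le_sup_left) (le_sup_right.trans le_sup_right)
  -- g1
  have g1 : (IsMulCommutative ↥(A ⊔ C1) ∧ IsMulCommutative ↥(A1 ⊔ C)) ∨
      ((¬ IsMulCommutative ↥(A ⊔ C1) ∧ ⁅⁅A ⊔ C1, A ⊔ C1⁆, A ⊔ C1⁆ = ⊥) ∧
        (¬ IsMulCommutative ↥(A1 ⊔ C) ∧ ⁅⁅A1 ⊔ C, A1 ⊔ C⁆, A1 ⊔ C⁆ = ⊥)) := by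
    by_cases hK : ⁅A, ⁅B, C⁆⁆ = ⊥
    · left
      exact ⟨sup_commutative_of_comm hS hA hC1S (hX_iff.mpr hK),
        sup_commutative_of_comm hS hA1S hC (hY_iff.mpr (h3sub.mp hK))⟩
    · right
      exact ⟨⟨not_commutative_of_ne_bot (fun h => hK (hX_iff.mp h)),
          class_two_of_pair hS hA hC1S hnr1⟩,
        ⟨not_commutative_of_ne_bot (fun h => hK (h3sub.mpr (hY_iff.mp h))),
          class_two_of_pair hS hA1S hC hnr2⟩⟩
  have g2 : ⁅A ⊔ C1, A1 ⊔ C⁆ = ⊥ := commutator_eq_bot_iff_comm.mpr hXY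
  -- memberships in M
  have hAM : A ≤ A ⊔ C ⊔ ⁅A, B⁆ ⊔ ⁅B, C⁆ := (le_sup_left.trans le_sup_left).trans le_sup_left
  have hCM : C ≤ A ⊔ C ⊔ ⁅A, B⁆ ⊔ ⁅B, C⁆ := (le_sup_right.trans le_sup_left).trans le_sup_left
  have hEM : ⁅A, B⁆ ≤ A ⊔ C ⊔ ⁅A, B⁆ ⊔ ⁅B, C⁆ := le_sup_right.trans le_sup_left
  have hFM : ⁅B, C⁆ ≤ A ⊔ C ⊔ ⁅A, B⁆ ⊔ ⁅B, C⁆ := le_sup_right
  have hcl : ∀ P Q : Subgroup G, ⁅P, Q⁆ ≤ P ⊔ Q := fun P Q =>
    Subgroup.commutator_le.mpr fun p hp q hq =>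
      Subgroup.mul_mem _ (Subgroup.mul_mem _ (Subgroup.mul_mem _ (Subgroup.mem_sup_left hp)
        (Subgroup.mem_sup_right hq)) (Subgroup.inv_mem _ (Subgroup.mem_sup_left hp)))
        (Subgroup.inv_mem _ (Subgroup.mem_sup_right hq))
  have hAR : A ≤ A ⊔ B ⊔ C := le_sup_left.trans le_sup_left
  have hBR : B ≤ A ⊔ B ⊔ C := le_sup_right.trans le_sup_left
  have hCR : C ≤ A ⊔ B ⊔ C := le_sup_right
  have hER : ⁅A, B⁆ ≤ A ⊔ B ⊔ C := (hcl A B).trans le_sup_left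
  have hFR : ⁅B, C⁆ ≤ A ⊔ B ⊔ C := (hcl B C).trans (sup_le hBR hCR)
  have hMR : A ⊔ C ⊔ ⁅A, B⁆ ⊔ ⁅B, C⁆ ≤ A ⊔ B ⊔ C := sup_le (sup_le (sup_le hAR hCR) hER) hFR
  -- B normalizes M
  have hBn : B ≤ Subgroup.normalizer ((A ⊔ C ⊔ ⁅A, B⁆ ⊔ ⁅B, C⁆ : Subgroup G) : Set G) := by
    apply le_normalizer_of_conjBy_le
    intro b' hb'
    rw [conjBy_sup, conjBy_sup, conjBy_sup]
    refine sup_le (sup_le (sup_le ?_ ?_) ?_) ?_
    · exact (commcase_conj_le A B hb').trans (sup_le hAM hEM)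
    · have := commcase_conj_le C B hb'
      rw [Subgroup.commutator_comm C B] at this
      exact this.trans (sup_le hCM hFM)
    · rw [conjBy_eq_of_commute fun x hx => (hBE b' hb' x hx).symm]
      exact hEM
    · rw [conjBy_eq_of_commute fun x hx => (hBF b' hb' x hx).symm]
      exact hFM
  have hRn : A ⊔ B ⊔ C ≤ Subgroup.normalizer ((A ⊔ C ⊔ ⁅A, B⁆ ⊔ ⁅B, C⁆ : Subgroup G) : Set G) :=
    sup_le (sup_le (hAM.trans Subgroup.le_normalizer) hBn) (hCM.trans Subgroup.le_normalizer)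
  have g3 : ∀ r ∈ A ⊔ B ⊔ C, conjBy ((A ⊔ C1) ⊔ (A1 ⊔ C)) r = (A ⊔ C1) ⊔ (A1 ⊔ C) := by
    intro r hr
    rw [hM]
    exact mem_normalizer_iff_conjBy.mp (hRn hr)
  have g4 : ((A ⊔ C1) ⊔ (A1 ⊔ C)) ⊔ B = A ⊔ B ⊔ C := by
    rw [hM]
    apply le_antisymm
    · exact sup_le hMR hBR
    · exact sup_le (sup_le (hAM.trans le_sup_left) le_sup_right) (hCM.trans le_sup_left)
  refine ⟨g1, g2, g3, g4, ?_⟩
  -- nilpotency
  have hMcl : ∀ m ∈ A ⊔ C ⊔ ⁅A, B⁆ ⊔ ⁅B, C⁆, ∀ m' ∈ A ⊔ C ⊔ ⁅A, B⁆ ⊔ ⁅B, C⁆,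
      m * m' * m⁻¹ * m'⁻¹ ∈
        Subgroup.centralizer ((A ⊔ C ⊔ ⁅A, B⁆ ⊔ ⁅B, C⁆ : Subgroup G) : Set G) := by
    have := class_two_sup hXY (pair_class_two hS hA hC1S hnr1) (pair_class_two hS hA1S hC hnr2)
    rw [hM] at this
    exact this
  -- commutators of elements of M commute with A, C, E, F
  have hMclA : ∀ m ∈ A ⊔ C ⊔ ⁅A, B⁆ ⊔ ⁅B, C⁆, ∀ m' ∈ A ⊔ C ⊔ ⁅A, B⁆ ⊔ ⁅B, C⁆,
      ∀ y ∈ A ⊔ C ⊔ ⁅A, B⁆ ⊔ ⁅B, C⁆, (m * m' * m⁻¹ * m'⁻¹) * y = y * (m * m' * m⁻¹ * m'⁻¹) :=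
    fun m hm m' hm' y hy => (Subgroup.mem_centralizer_iff.mp (hMcl m hm m' hm') y hy).symm
  -- level 1 : J
  have hJ : ∀ e ∈ ⁅A, B⁆, ∀ f ∈ ⁅B, C⁆, e * f * e⁻¹ * f⁻¹ ∈ ucs (A ⊔ B ⊔ C) 1 := by
    intro e he f hf
    have hjR : e * f * e⁻¹ * f⁻¹ ∈ A ⊔ B ⊔ C :=
      Subgroup.mul_mem _ (Subgroup.mul_mem _ (Subgroup.mul_mem _ (hER he) (hFR hf))
        (Subgroup.inv_mem _ (hER he))) (Subgroup.inv_mem _ (hFR hf))
    have hone : ∀ y : G, (e * f * e⁻¹ * f⁻¹) * y = y * (e * f * e⁻¹ * f⁻¹) →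
        (e * f * e⁻¹ * f⁻¹) * y * (e * f * e⁻¹ * f⁻¹)⁻¹ * y⁻¹ ∈ ucs (A ⊔ B ⊔ C) 0 := by
      intro y hy
      have : (e * f * e⁻¹ * f⁻¹) * y * (e * f * e⁻¹ * f⁻¹)⁻¹ * y⁻¹ = 1 := by rw [hy]; group
      rw [this]; exact Subgroup.one_mem _
    apply mem_ucs_succ_of_gen hjR
    · intro a ha
      exact hone a (hMclA e (hEM he) f (hFM hf) a (hAM ha))
    · intro b' hb'
      apply hone
      have e1 := hBE b' hb' e he
      have e2 := hBF b' hb' f hf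
      have e3 := hBE b' hb' e⁻¹ (Subgroup.inv_mem _ he)
      have e4 := hBF b' hb' f⁻¹ (Subgroup.inv_mem _ hf)
      calc e * f * e⁻¹ * f⁻¹ * b' = e * f * e⁻¹ * (f⁻¹ * b') := by group
        _ = e * f * (e⁻¹ * b') * f⁻¹ := by rw [← e4]; group
        _ = e * (f * b') * e⁻¹ * f⁻¹ := by rw [← e3]; group
        _ = (e * b') * f * e⁻¹ * f⁻¹ := by rw [← e2]; group
        _ = b' * (e * f * e⁻¹ * f⁻¹) := by rw [← e1]; group
    · intro c hc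
      exact hone c (hMclA e (hEM he) f (hFM hf) c (hCM hc))
  have hone : ∀ (n : ℕ) (x y : G), x * y = y * x → x * y * x⁻¹ * y⁻¹ ∈ ucs (A ⊔ B ⊔ C) n := by
    intro n x y hxy
    have : x * y * x⁻¹ * y⁻¹ = 1 := by rw [hxy]; group
    rw [this]; exact Subgroup.one_mem _
  have hinv : ∀ u v : G, u * v * u⁻¹ * v⁻¹ = (v * u * v⁻¹ * u⁻¹)⁻¹ := by intro u v; group
  -- level 2 : K
  have hK : ∀ a ∈ A, ∀ f ∈ ⁅B, C⁆, a * f * a⁻¹ * f⁻¹ ∈ ucs (A ⊔ B ⊔ C) 2 := by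
    intro a ha f hf
    have hkR : a * f * a⁻¹ * f⁻¹ ∈ A ⊔ B ⊔ C :=
      Subgroup.mul_mem _ (Subgroup.mul_mem _ (Subgroup.mul_mem _ (hAR ha) (hFR hf))
        (Subgroup.inv_mem _ (hAR ha))) (Subgroup.inv_mem _ (hFR hf))
    apply mem_ucs_succ_of_gen hkR
    · intro a' ha'
      exact hone 1 _ _ (hMclA a (hAM ha) f (hFM hf) a' (hAM ha'))
    · intro b' hb'
      -- e1 = a⁻¹ b' a b'⁻¹ ∈ E
      have he1 : a⁻¹ * b' * a * b'⁻¹ ∈ ⁅A, B⁆ := by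
        have := Subgroup.commutator_mem_commutator (A.inv_mem ha) hb'
        simpa [commutatorElement_def] using this
      have hj := hJ _ he1 f hf
      have hbf : b' * f * b'⁻¹ = f := by
        rw [hBF b' hb' f hf]; group
      have hja := hMclA _ (hEM he1) f (hFM hf) a (hAM ha)
      have e_conj : b' * (a * f * a⁻¹ * f⁻¹) * b'⁻¹ =
          (a⁻¹ * b' * a * b'⁻¹ * f * (a⁻¹ * b' * a * b'⁻¹)⁻¹ * f⁻¹) * (a * f * a⁻¹ * f⁻¹) := by
        calc b' * (a * f * a⁻¹ * f⁻¹) * b'⁻¹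
            = b' * a * (b'⁻¹ * (b' * f * b'⁻¹) * b') * a⁻¹ * (b'⁻¹ * (b' * f * b'⁻¹)⁻¹ * b') * b'⁻¹ := by
              group
          _ = b' * a * (b'⁻¹ * f * b') * a⁻¹ * (b'⁻¹ * f⁻¹ * b') * b'⁻¹ := by rw [hbf]
          _ = a * (a⁻¹ * b' * a * b'⁻¹ * f * (a⁻¹ * b' * a * b'⁻¹)⁻¹ * f⁻¹) * (f * a⁻¹ * f⁻¹) := by
              group
          _ = (a⁻¹ * b' * a * b'⁻¹ * f * (a⁻¹ * b' * a * b'⁻¹)⁻¹ * f⁻¹) * a * (f * a⁻¹ * f⁻¹) := by
              rw [hja]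
          _ = _ := by group
      have e_fin : (a * f * a⁻¹ * f⁻¹) * b' * (a * f * a⁻¹ * f⁻¹)⁻¹ * b'⁻¹ =
          (a⁻¹ * b' * a * b'⁻¹ * f * (a⁻¹ * b' * a * b'⁻¹)⁻¹ * f⁻¹)⁻¹ := by
        calc (a * f * a⁻¹ * f⁻¹) * b' * (a * f * a⁻¹ * f⁻¹)⁻¹ * b'⁻¹
            = (a * f * a⁻¹ * f⁻¹) * (b' * (a * f * a⁻¹ * f⁻¹) * b'⁻¹)⁻¹ := by group
          _ = _ := by rw [e_conj]; group
      rw [e_fin]
      exact Subgroup.inv_mem _ hj
    · intro c hc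
      exact hone 1 _ _ (hMclA a (hAM ha) f (hFM hf) c (hCM hc))
  -- level 2 : K'
  have hK' : ∀ e ∈ ⁅A, B⁆, ∀ c ∈ C, e * c * e⁻¹ * c⁻¹ ∈ ucs (A ⊔ B ⊔ C) 2 := by
    intro e he c hc
    have hkR : e * c * e⁻¹ * c⁻¹ ∈ A ⊔ B ⊔ C :=
      Subgroup.mul_mem _ (Subgroup.mul_mem _ (Subgroup.mul_mem _ (hER he) (hCR hc))
        (Subgroup.inv_mem _ (hER he))) (Subgroup.inv_mem _ (hCR hc))
    apply mem_ucs_succ_of_gen hkR
    · intro a' ha'
      exact hone 1 _ _ (hMclA e (hEM he) c (hCM hc) a' (hAM ha'))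
    · intro b' hb'
      -- f1 = c⁻¹ b' c b'⁻¹ ∈ F
      have hf1 : c⁻¹ * b' * c * b'⁻¹ ∈ ⁅B, C⁆ := by
        have := Subgroup.commutator_mem_commutator (C.inv_mem hc) hb'
        rw [Subgroup.commutator_comm] at this
        simpa [commutatorElement_def] using this
      have hj := hJ e he _ hf1
      have hbe : b' * e * b'⁻¹ = e := by
        rw [hBE b' hb' e he]; group
      have hjc := hMclA e (hEM he) _ (hFM hf1) c (hCM hc)
      have e_conj : b' * (e * c * e⁻¹ * c⁻¹) * b'⁻¹ =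
          (e * c * e⁻¹ * c⁻¹) * (e * (c⁻¹ * b' * c * b'⁻¹) * e⁻¹ * (c⁻¹ * b' * c * b'⁻¹)⁻¹) := by
        calc b' * (e * c * e⁻¹ * c⁻¹) * b'⁻¹
            = (b' * e * b'⁻¹) * (b' * c * b'⁻¹) * (b' * e * b'⁻¹)⁻¹ * (b' * c * b'⁻¹)⁻¹ := by group
          _ = e * (b' * c * b'⁻¹) * e⁻¹ * (b' * c * b'⁻¹)⁻¹ := by rw [hbe]
          _ = e * c * e⁻¹ * ((e * (c⁻¹ * b' * c * b'⁻¹) * e⁻¹ * (c⁻¹ * b' * c * b'⁻¹)⁻¹) * c⁻¹) := by
              group
          _ = e * c * e⁻¹ * (c⁻¹ * (e * (c⁻¹ * b' * c * b'⁻¹) * e⁻¹ * (c⁻¹ * b' * c * b'⁻¹)⁻¹)) := by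
              rw [hMclA e (hEM he) _ (hFM hf1) c⁻¹ (hCM (C.inv_mem hc))]
          _ = _ := by group
      have e_fin : (e * c * e⁻¹ * c⁻¹) * b' * (e * c * e⁻¹ * c⁻¹)⁻¹ * b'⁻¹ =
          (e * c * e⁻¹ * c⁻¹) * (e * (c⁻¹ * b' * c * b'⁻¹) * e⁻¹ * (c⁻¹ * b' * c * b'⁻¹)⁻¹)⁻¹ *
            (e * c * e⁻¹ * c⁻¹)⁻¹ := by
        calc (e * c * e⁻¹ * c⁻¹) * b' * (e * c * e⁻¹ * c⁻¹)⁻¹ * b'⁻¹
            = (e * c * e⁻¹ * c⁻¹) * (b' * (e * c * e⁻¹ * c⁻¹) * b'⁻¹)⁻¹ := by group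
          _ = _ := by rw [e_conj]; group
      rw [e_fin]
      have hn := ucs_normalized (A ⊔ B ⊔ C) 1
      exact (Subgroup.mem_normalizer_iff.mp (hn hkR) _).mp (Subgroup.inv_mem _ hj)
    · intro c' hc'
      exact hone 1 _ _ (hMclA e (hEM he) c (hCM hc) c' (hCM hc'))
  -- level 3 : E and F
  have hE3 : ∀ e ∈ ⁅A, B⁆, e ∈ ucs (A ⊔ B ⊔ C) 3 := by
    intro e he
    apply mem_ucs_succ_of_gen (hER he)
    · intro a ha
      exact hone 2 _ _ (hAE a ha e he).symm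
    · intro b' hb'
      exact hone 2 _ _ (hBE b' hb' e he).symm
    · intro c hc
      exact hK' e he c hc
  have hF3 : ∀ f ∈ ⁅B, C⁆, f ∈ ucs (A ⊔ B ⊔ C) 3 := by
    intro f hf
    apply mem_ucs_succ_of_gen (hFR hf)
    · intro a ha
      rw [hinv]
      exact Subgroup.inv_mem _ (hK a ha f hf)
    · intro b' hb'
      exact hone 2 _ _ (hBF b' hb' f hf).symm
    · intro c hc
      exact hone 2 _ _ (hCF c hc f hf).symm
  -- level 4
  have hA4 : A ≤ ucs (A ⊔ B ⊔ C) 4 := by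
    intro a ha
    apply mem_ucs_succ_of_gen (hAR ha)
    · intro a' ha'
      exact hone 3 _ _ (hAA a ha a' ha')
    · intro b' hb'
      apply hE3
      have := Subgroup.commutator_mem_commutator ha hb'
      rwa [commutatorElement_def] at this
    · intro c hc
      exact hone 3 _ _ (hcomm a ha c hc)
  have hB4 : B ≤ ucs (A ⊔ B ⊔ C) 4 := by
    intro b' hb'
    apply mem_ucs_succ_of_gen (hBR hb')
    · intro a ha
      apply hE3
      have := Subgroup.commutator_mem_commutator hb' ha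
      rwa [commutatorElement_def, Subgroup.commutator_comm] at this
    · intro b'' hb''
      exact hone 3 _ _ (comm_of_isMulCommutative hBc hb' hb'')
    · intro c hc
      apply hF3
      have := Subgroup.commutator_mem_commutator hb' hc
      rwa [commutatorElement_def] at this
  have hC4 : C ≤ ucs (A ⊔ B ⊔ C) 4 := by
    intro c hc
    apply mem_ucs_succ_of_gen (hCR hc)
    · intro a ha
      exact hone 3 _ _ (hcomm a ha c hc).symm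
    · intro b' hb'
      apply hF3
      have := Subgroup.commutator_mem_commutator hc hb'
      rwa [commutatorElement_def, Subgroup.commutator_comm] at this
    · intro c' hc'
      exact hone 3 _ _ (hCC c hc c' hc')
  exact nilpotent_of_le_ucs (sup_le (sup_le hA4 hB4) hC4)

end Cfsg.Agent.S5030
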