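import Cfsg.Statements.S5035
import Cfsg.Agent.Lib.Helper86.Components
import Cfsg.Agent.S5032

set_option autoImplicit false
open Cfsg
open Cfsg.Agent.Lib.Helper86

namespace Cfsg.Agent.S5035

variable {G H : Type*} [Group G] [Group H]

theorem map_conjBy (f : G →* H) (A : Subgroup G) (g : G) :
    (conjBy A g).map f = conjBy (A.map f) (f g) := by
  unfold conjBy
  rw [Subgroup.map_map, Subgroup.map_map]
  congr 1
  ext x
  simp [MulAut.conj_apply]

theorem rk1_map (f : G →* H) {A B : Subgroup G} (h : IsRankOnePair A B)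
    (hne : A.map f ≠ B.map f) : IsRankOnePair (A.map f) (B.map f) := by
  have key : ∀ {A B : Subgroup G}, IsRankOnePair A B → A.map f ≠ B.map f →
      RankOneCondition (A.map f) (B.map f) := by
    intro A B h hne a' ha' ha1'
    obtain ⟨a, ha, rfl⟩ := ha'
    have ha1 : a ≠ 1 := by
      rintro rfl
      exact ha1' (map_one f)
    obtain ⟨b, hb, hb1, hb2⟩ := h.cond_left a ha ha1
    refine ⟨f b, ⟨b, hb, rfl⟩, ?_, ?_⟩
    · intro hfb
      have h1 := congrArg (fun X => X.map f) hb2
      simp only [map_conjBy, map_inv, hfb, inv_one, conjBy_one] at h1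
      apply hne
      have h2 : conjBy (A.map f) (f a) = B.map f := by
        rw [conjBy_eq_iff]; exact h1
      rw [← h2, conjBy_self_mem (Subgroup.mem_map_of_mem f ha)]
    · have h1 := congrArg (fun X => X.map f) hb2
      simpa only [map_conjBy, map_inv] using h1
  refine ⟨hne, ?_, ?_, key h hne, key (RankOnePair_symm h) hne.symm⟩
  · have := h.nilpotent_left
    exact Group.nilpotent_of_surjective (f.subgroupMap A) (f.subgroupMap_surjective A)
  · have := h.nilpotent_right
    exact Group.nilpotent_of_surjective (f.subgroupMap B) (f.subgroupMap_surjective B)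

theorem commcase_map (f : G →* H) {S : Set (Subgroup G)} {A B : Subgroup G}
    (h : RootCommutatorCase S A B) :
    RootCommutatorCase ((fun A : Subgroup G => A.map f) '' S) (A.map f) (B.map f) := by
  obtain ⟨h1, h2, h3, h4⟩ := h
  have hcomm : ⁅A.map f, B.map f⁆ = (⁅A, B⁆ : Subgroup G).map f := (Subgroup.map_commutator A B f).symm
  refine ⟨?_, ?_, ?_, ?_⟩
  · rw [hcomm]; exact ⟨_, h1, rfl⟩
  · rw [hcomm, ← Subgroup.map_sup]
    rintro _ ⟨c, hc, rfl⟩ _ ⟨x, hx, rfl⟩
    rw [← map_mul, ← map_mul, h2 c hc x hx]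
  · rintro _ ⟨a, ha, rfl⟩ ha1
    have ha1' : a ≠ 1 := by
      rintro rfl
      exact ha1 (map_one f)
    rw [hcomm, ← h3 a ha ha1', MonoidHom.map_closure]
    congr 1
    ext x
    simp only [Set.mem_image, SetLike.mem_coe, Subgroup.mem_map]
    constructor
    · rintro ⟨_, ⟨b, hb, rfl⟩, rfl⟩
      exact ⟨_, ⟨b, hb, rfl⟩, by simp⟩
    · rintro ⟨_, ⟨b, hb, rfl⟩, rfl⟩
      exact ⟨_, ⟨b, hb, rfl⟩, by simp⟩
  · rintro _ ⟨b, hb, rfl⟩ hb1
    have hb1' : b ≠ 1 := by
      rintro rfl
      exact hb1 (map_one f)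
    rw [hcomm, ← h4 b hb hb1', MonoidHom.map_closure]
    congr 1
    ext x
    simp only [Set.mem_image, SetLike.mem_coe, Subgroup.mem_map]
    constructor
    · rintro ⟨_, ⟨a, ha, rfl⟩, rfl⟩
      exact ⟨_, ⟨a, ha, rfl⟩, by simp⟩
    · rintro ⟨_, ⟨a, ha, rfl⟩, rfl⟩
      exact ⟨_, ⟨a, ha, rfl⟩, by simp⟩

theorem rootset_map {S : Set (Subgroup G)} (hS : IsRootSubgroupSet S) (f : G →* H)
    (hf : Function.Surjective f) (hne : ∀ A ∈ S, A.map f ≠ ⊥) :
    IsRootSubgroupSet ((fun A : Subgroup G => A.map f) '' S) := by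
  refine ⟨?_, ?_, ?_, ?_, ?_⟩
  · rintro _ ⟨A, hA, rfl⟩
    have hAc := hS.commutative A hA
    refine ⟨⟨?_⟩⟩
    rintro ⟨_, ⟨x, hx, rfl⟩⟩ ⟨_, ⟨y, hy, rfl⟩⟩
    apply Subtype.ext
    simp only [Subgroup.coe_mul]
    rw [← map_mul, ← map_mul, comm_of_isMulCommutative hAc hx hy]
  · rintro _ ⟨A, hA, rfl⟩
    exact hne A hA
  · rw [eq_top_iff, ← Subgroup.map_top_of_surjective f hf, ← hS.generates, Subgroup.map_iSup]
    apply iSup_le
    intro A
    rw [Subgroup.map_iSup]
    apply iSup_le
    intro hA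
    exact le_iSup₂_of_le (A.map f) ⟨A, hA, rfl⟩ le_rfl
  · rintro _ ⟨A, hA, rfl⟩ h
    obtain ⟨g, rfl⟩ := hf h
    exact ⟨conjBy A g, hS.conj_mem A hA g, map_conjBy f A g⟩
  · rintro _ ⟨A, hA, rfl⟩ _ ⟨B, hB, rfl⟩
    change ⁅A.map f, B.map f⁆ = ⊥ ∨ IsRankOnePair (A.map f) (B.map f) ∨
      RootCommutatorCase _ (A.map f) (B.map f)
    rcases hS.pair A hA B hB with h | h | h
    · left
      rw [← Subgroup.map_commutator, h, Subgroup.map_bot]
    · by_cases hAB : A.map f = B.map f
      · left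
        rw [← hAB, ← Subgroup.map_commutator]
        have : ⁅A, A⁆ = ⊥ := by
          rw [commutator_eq_bot_iff_comm]
          intro x hx y hy
          exact comm_of_isMulCommutative (hS.commutative A hA) hx hy
        rw [this, Subgroup.map_bot]
      · right; left
        exact rk1_map f h hAB
    · right; right
      exact commcase_map f h

theorem reach_map {S : Set (Subgroup G)} (f : G →* H) {A B : Subgroup G}
    (h : Relation.ReflTransGen (FAdj S) A B) :
    Relation.ReflTransGen (FAdj ((fun A : Subgroup G => A.map f) '' S)) (A.map f) (B.map f) := by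
  induction h with
  | refl => exact Relation.ReflTransGen.refl
  | @tail B C _ hbc ih =>
    by_cases hBC : B.map f = C.map f
    · rw [← hBC]; exact ih
    · exact ih.tail ⟨⟨B, hbc.1, rfl⟩, ⟨C, hbc.2.1, rfl⟩, rk1_map f hbc.2.2 hBC⟩

/-- Let S be a set of abstract root subgroups of G whose graph of rank one pairs is connected, and f a homomorphism from G onto a group H. Then either the images of the members of S form a set of abstract root subgroups of H whose graph of rank one pairs is again connected, or H equals the image of a member of S. -/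
theorem result {G H : Type*} [Group G] [Group H] {S : Set (Subgroup G)} (hS : Cfsg.IsRootSubgroupSet S)
    (hc : Cfsg.IsConnectedFamily (Cfsg.FAdj S) S) (f : G →* H) (hf : Function.Surjective f) :
    (Cfsg.IsRootSubgroupSet ((fun A : Subgroup G => A.map f) '' S) ∧
      Cfsg.IsConnectedFamily (Cfsg.FAdj ((fun A : Subgroup G => A.map f) '' S)) ((fun A : Subgroup G => A.map f) '' S)) ∨
    ∃ A ∈ S, A.map f = ⊤ := by
  by_cases hne : ∀ A ∈ S, A.map f ≠ ⊥
  · left
    refine ⟨rootset_map hS f hf hne, ?_⟩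
    rintro _ ⟨A, hA, rfl⟩ _ ⟨B, hB, rfl⟩
    exact reach_map f (hc A hA B hB)
  · right
    push Not at hne
    obtain ⟨A, hA, hAbot⟩ := hne
    refine ⟨A, hA, ?_⟩
    rw [hAbot]
    symm
    rw [eq_bot_iff, ← Subgroup.map_top_of_surjective f hf, ← hS.generates, Subgroup.map_iSup]
    apply iSup_le
    intro B
    rw [Subgroup.map_iSup]
    apply iSup_le
    intro hB
    obtain ⟨g, rfl⟩ := Cfsg.Agent.S5032.conj_of_reach (hc A hA B hB)
    rw [map_conjBy, hAbot, conjBy_bot]

end Cfsg.Agent.S5035
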