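import Cfsg.Statements.S5036
import Cfsg.Agent.Lib.Helper86.Lines3

set_option autoImplicit false
open Cfsg
open Cfsg.Agent.Lib.Helper86

namespace Cfsg.Agent.S5036

open scoped commutatorElement

section
variable {G : Type*} [Group G] {S : Set (Subgroup G)}

/-- in the commutator case `P` meets `⁅P, Q⁆` trivially -/
theorem commcase_inf_left {P Q : Subgroup G} (hS : IsRootSubgroupSet S)
    (hc : RootCommutatorCase S P Q) : P ⊓ ⁅P, Q⁆ = ⊥ := by
  rw [eq_bot_iff]
  intro x hx
  rw [Subgroup.mem_bot]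
  by_contra hx1
  apply hS.ne_bot _ hc.1
  rw [← hc.2.2.1 x hx.1 hx1, Subgroup.closure_eq_bot_iff]
  rintro _ ⟨q, hq, rfl⟩
  have h1 := hc.2.1 x hx.2 q (Subgroup.mem_sup_right hq)
  have h2 : x * q * x⁻¹ * q⁻¹ = 1 := by rw [h1]; group
  exact h2

theorem commcase_inf_right {P Q : Subgroup G} (hS : IsRootSubgroupSet S)
    (hc : RootCommutatorCase S P Q) : Q ⊓ ⁅P, Q⁆ = ⊥ := by
  have := commcase_inf_left hS (commcase_symm hc)
  rwa [Subgroup.commutator_comm] at this

/-- a member of `S` normalizing another member centralizes it -/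
theorem comm_of_normalizes (hS : IsRootSubgroupSet S) {P Q : Subgroup G} (hP : P ∈ S) (hQ : Q ∈ S)
    (hn : P ≤ Subgroup.normalizer (Q : Set G)) : ∀ p ∈ P, ∀ q ∈ Q, p * q = q * p := by
  rcases hS.pair P hP Q hQ with h | h | h
  · exact commutator_eq_bot_iff_comm.mp h
  · exfalso
    apply rk1_left_ne_bot h
    rw [← rk1_inf_normalizer h]
    exact (inf_of_le_left hn).symm
  · exfalso
    apply hS.ne_bot _ h.1
    rw [eq_bot_iff, ← commcase_inf_right hS h]
    apply le_inf _ le_rfl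
    rw [Subgroup.commutator_le]
    intro p hp q hq
    have := (Subgroup.mem_normalizer_iff.mp (hn hp) q).mp hq
    rw [commutatorElement_def]
    exact Q.mul_mem this (Q.inv_mem hq)

/-- centralizers in a normalized subgroup under conjugation -/
theorem cen_conj {N : Subgroup G} {g : G} (hg : g ∈ Subgroup.normalizer (N : Set G)) (y : G) :
    N ⊓ Subgroup.centralizer {g * y * g⁻¹} = conjBy (N ⊓ Subgroup.centralizer {y}) g := by
  ext x
  rw [Subgroup.mem_inf, mem_conjBy, Subgroup.mem_inf, Subgroup.mem_centralizer_singleton_iff,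
    Subgroup.mem_centralizer_singleton_iff, ← Subgroup.mem_normalizer_iff''.mp hg x]
  apply and_congr_right
  intro _
  constructor
  · intro h
    calc g⁻¹ * x * g * y = g⁻¹ * (x * (g * y * g⁻¹)) * g := by group
      _ = g⁻¹ * (g * y * g⁻¹ * x) * g := by rw [h]
      _ = y * (g⁻¹ * x * g) := by group
  · intro h
    calc x * (g * y * g⁻¹) = g * (g⁻¹ * x * g * y) * g⁻¹ := by group
      _ = g * (y * (g⁻¹ * x * g)) * g⁻¹ := by rw [h]
      _ = g * y * g⁻¹ * x := by group

end

/-- Let S be a set of abstract root subgroups of G, A, B ∈ S with C = ⁅A, B⁆ ∈ S, and D ∈ S with ⁅D, C⁆ = A. Put X = ⟨B, D⟩ and N = AC. Then B, D form a rank one pair; the conjugates of A under X are the conjugates of C under X, namely the conjugates of A by elements of B together with C, equally the conjugates of C by elements of D together with A, and they partition N; and the centralizer of N in X is central in X. -/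
theorem result {G : Type*} [Group G] {S : Set (Subgroup G)} (hS : Cfsg.IsRootSubgroupSet S)
    {A B D : Subgroup G} (hA : A ∈ S) (hB : B ∈ S) (hC : ⁅A, B⁆ ∈ S) (hD : D ∈ S) (hDC : ⁅D, ⁅A, B⁆⁆ = A) :
    Cfsg.IsRankOnePair B D ∧
    {E | ∃ x ∈ B ⊔ D, E = Cfsg.conjBy A x} = {E | ∃ x ∈ B ⊔ D, E = Cfsg.conjBy ⁅A, B⁆ x} ∧
    {E | ∃ x ∈ B ⊔ D, E = Cfsg.conjBy A x} = (fun b : G => Cfsg.conjBy A b) '' (B : Set G) ∪ {⁅A, B⁆} ∧
    {E | ∃ x ∈ B ⊔ D, E = Cfsg.conjBy A x} = (fun d : G => Cfsg.conjBy ⁅A, B⁆ d) '' (D : Set G) ∪ {A} ∧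
    Cfsg.IsSubgroupPartition (A ⊔ ⁅A, B⁆) {E | ∃ x ∈ B ⊔ D, E = Cfsg.conjBy A x} ∧
    ∀ x ∈ (B ⊔ D) ⊓ Subgroup.centralizer ((A ⊔ ⁅A, B⁆ : Subgroup G) : Set G), ∀ y ∈ B ⊔ D, x * y = y * x := by
  have h1 : RootCommutatorCase S A B := commcase_of_comm_mem hS hA hB hC
  have hA' : ⁅D, ⁅A, B⁆⁆ ∈ S := by rw [hDC]; exact hA
  have h2 : RootCommutatorCase S D ⁅A, B⁆ := commcase_of_comm_mem hS hD hC hA'
  have hAc := hS.commutative A hA
  have hCc := hS.commutative _ hC
  -- basic commutation facts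
  have hAC : ∀ a ∈ A, ∀ c ∈ ⁅A, B⁆, a * c = c * a := commcase_comm_left h1
  have hBC : ∀ b ∈ B, ∀ c ∈ ⁅A, B⁆, b * c = c * b := commcase_comm_right h1
  have hDA : ∀ d ∈ D, ∀ a ∈ A, d * a = a * d := by
    intro d hd a ha
    rw [← hDC] at ha
    exact commcase_comm_left h2 d hd a ha
  have hinfAC : A ⊓ ⁅A, B⁆ = ⊥ := commcase_inf_left hS h1
  -- N is normalized by B and D
  have hBn : B ≤ Subgroup.normalizer ((A ⊔ ⁅A, B⁆ : Subgroup G) : Set G) := by
    apply le_normalizer_of_conjBy_le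
    intro b hb
    rw [conjBy_sup]
    apply sup_le (commcase_conj_le A B hb)
    rw [conjBy_eq_of_commute fun x hx => (hBC b hb x hx).symm]
    exact le_sup_right
  have hDn : D ≤ Subgroup.normalizer ((A ⊔ ⁅A, B⁆ : Subgroup G) : Set G) := by
    apply le_normalizer_of_conjBy_le
    intro d hd
    rw [conjBy_sup]
    apply sup_le
    · rw [conjBy_eq_of_commute fun x hx => (hDA d hd x hx).symm]
      exact le_sup_left
    · have := commcase_conj_le ⁅A, B⁆ D hd
      rw [Subgroup.commutator_comm ⁅A, B⁆ D, hDC, sup_comm] at this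
      exact this
  have hXn : B ⊔ D ≤ Subgroup.normalizer ((A ⊔ ⁅A, B⁆ : Subgroup G) : Set G) := sup_le hBn hDn
  -- rank one pair
  have hBD : IsRankOnePair B D := by
    rcases hS.pair B hB D hD with h | h | h
    · -- B and D commute
      exfalso
      rw [commutator_eq_bot_iff_comm] at h
      apply hS.ne_bot _ hC
      rw [commutator_eq_bot_iff_comm]
      intro a ha b hb
      have hle : ⁅D, ⁅A, B⁆⁆ ≤ Subgroup.centralizer {b} := by
        rw [Subgroup.commutator_le]
        intro d hd c hc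
        rw [commutatorElement_def]
        have e1 : d ∈ Subgroup.centralizer {b} :=
          Subgroup.mem_centralizer_singleton_iff.mpr (h b hb d hd).symm
        have e2 : c ∈ Subgroup.centralizer {b} :=
          Subgroup.mem_centralizer_singleton_iff.mpr (hBC b hb c hc).symm
        exact Subgroup.mul_mem _ (Subgroup.mul_mem _ (Subgroup.mul_mem _ e1 e2)
          (Subgroup.inv_mem _ e1)) (Subgroup.inv_mem _ e2)
      rw [hDC] at hle
      exact Subgroup.mem_centralizer_singleton_iff.mp (hle ha)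
    · exact h
    · -- commutator case: impossible
      exfalso
      have hKS := h.1
      have hKX : ⁅B, D⁆ ≤ B ⊔ D := Subgroup.commutator_le.mpr fun b hb d hd =>
        Subgroup.mul_mem _ (Subgroup.mul_mem _ (Subgroup.mul_mem _ (Subgroup.mem_sup_left hb)
          (Subgroup.mem_sup_right hd)) (Subgroup.inv_mem _ (Subgroup.mem_sup_left hb)))
          (Subgroup.inv_mem _ (Subgroup.mem_sup_right hd))
      have hKB : ∀ k ∈ ⁅B, D⁆, ∀ b ∈ B, b * k = k * b :=
        fun k hk b hb => (h.2.1 k hk b (Subgroup.mem_sup_left hb)).symm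
      have hKD : ∀ k ∈ ⁅B, D⁆, ∀ d ∈ D, d * k = k * d :=
        fun k hk d hd => (h.2.1 k hk d (Subgroup.mem_sup_right hd)).symm
      -- ⁅N, B⁆ = C and ⁅N, D⁆ = A
      have hNB : ⁅A ⊔ ⁅A, B⁆, B⁆ = ⁅A, B⁆ := by
        apply le_antisymm
        · rw [Subgroup.commutator_le]
          intro n hn b hb
          obtain ⟨a, ha, c, hc, rfl⟩ := (mem_sup_of_commute hAC).mp hn
          have e1 := hBC b hb c hc
          have : ⁅a * c, b⁆ = ⁅a, b⁆ := by
            simp only [commutatorElement_def]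
            calc a * c * b * (a * c)⁻¹ * b⁻¹ = a * (c * b) * c⁻¹ * a⁻¹ * b⁻¹ := by group
              _ = a * (b * c) * c⁻¹ * a⁻¹ * b⁻¹ := by rw [e1]
              _ = a * b * a⁻¹ * b⁻¹ := by group
          rw [this]
          exact Subgroup.commutator_mem_commutator ha hb
        · exact Subgroup.commutator_mono le_sup_left le_rfl
      have hND : ⁅A ⊔ ⁅A, B⁆, D⁆ = A := by
        apply le_antisymm
        · rw [Subgroup.commutator_le]
          intro n hn d hd
          obtain ⟨a, ha, c, hc, rfl⟩ := (mem_sup_of_commute hAC).mp hn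
          have e1 := hDA d hd a⁻¹ (A.inv_mem ha)
          have hcd : ⁅c, d⁆ ∈ A := by
            have := Subgroup.commutator_mem_commutator hc hd
            rwa [Subgroup.commutator_comm, hDC] at this
          have e2 := comm_of_isMulCommutative hAc ha hcd
          have : ⁅a * c, d⁆ = ⁅c, d⁆ := by
            have e3 : ⁅a * c, d⁆ = a * ⁅c, d⁆ * (d * a⁻¹) * d⁻¹ := by
              simp only [commutatorElement_def]; group
            rw [e3, e1, e2]
            group
          rw [this]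
          exact hcd
        · have : ⁅⁅A, B⁆, D⁆ ≤ ⁅A ⊔ ⁅A, B⁆, D⁆ := Subgroup.commutator_mono le_sup_right le_rfl
          rwa [Subgroup.commutator_comm, hDC] at this
      -- K normalizes A and C
      have hKnN : ∀ k ∈ ⁅B, D⁆, conjBy (A ⊔ ⁅A, B⁆) k = A ⊔ ⁅A, B⁆ :=
        fun k hk => mem_normalizer_iff_conjBy.mp (hXn (hKX hk))
      have hKnA : ⁅B, D⁆ ≤ Subgroup.normalizer (A : Set G) := by
        intro k hk
        rw [mem_normalizer_iff_conjBy]
        have e1 : conjBy D k = D := conjBy_eq_of_commute fun x hx => hKD k hk x hx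
        calc conjBy A k = conjBy ⁅A ⊔ ⁅A, B⁆, D⁆ k := by rw [hND]
          _ = ⁅conjBy (A ⊔ ⁅A, B⁆) k, conjBy D k⁆ := (conjBy_commutator _ _ _).symm
          _ = A := by rw [hKnN k hk, e1, hND]
      have hKnC : ⁅B, D⁆ ≤ Subgroup.normalizer ((⁅A, B⁆ : Subgroup G) : Set G) := by
        intro k hk
        rw [mem_normalizer_iff_conjBy]
        have e1 : conjBy B k = B := conjBy_eq_of_commute fun x hx => hKB k hk x hx
        calc conjBy ⁅A, B⁆ k = conjBy ⁅A ⊔ ⁅A, B⁆, B⁆ k := by rw [hNB]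
          _ = ⁅conjBy (A ⊔ ⁅A, B⁆) k, conjBy B k⁆ := (conjBy_commutator _ _ _).symm
          _ = ⁅A, B⁆ := by rw [hKnN k hk, e1, hNB]
      have hKA := comm_of_normalizes hS hKS hA hKnA
      have hKC := comm_of_normalizes hS hKS hC hKnC
      obtain ⟨b, hb, hb1⟩ := exists_ne_one_of_ne_bot (hS.ne_bot B hB)
      obtain ⟨d, hd, hd1⟩ := exists_ne_one_of_ne_bot (hS.ne_bot D hD)
      have hk : b * d * b⁻¹ * d⁻¹ ∈ ⁅B, D⁆ := by
        have := Subgroup.commutator_mem_commutator hb hd
        rwa [commutatorElement_def] at this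
      -- d commutes with all b a b⁻¹ a⁻¹
      have key : ∀ a ∈ A, d * (b * a * b⁻¹ * a⁻¹) = (b * a * b⁻¹ * a⁻¹) * d := by
        intro a ha
        have hc : b * a * b⁻¹ * a⁻¹ ∈ ⁅A, B⁆ := by
          have := Subgroup.commutator_mem_commutator hb ha
          rwa [commutatorElement_def, Subgroup.commutator_comm] at this
        have hdc : d * (b * a * b⁻¹ * a⁻¹) * d⁻¹ ∈ A ⊔ ⁅A, B⁆ := by
          have := conj_mem_conjBy (g := d) (Subgroup.mem_sup_right hc : _ ∈ A ⊔ ⁅A, B⁆)
          rwa [mem_normalizer_iff_conjBy.mp (hDn hd)] at this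
        have hn : d * (b * a * b⁻¹ * a⁻¹) * d⁻¹ * a ∈ A ⊔ ⁅A, B⁆ :=
          Subgroup.mul_mem _ hdc (Subgroup.mem_sup_left ha)
        obtain ⟨a₂, ha₂, c₂, hc₂, hn2⟩ := (mem_sup_of_commute hAC).mp hn
        have hkn : (b * d * b⁻¹ * d⁻¹) * (d * (b * a * b⁻¹ * a⁻¹) * d⁻¹ * a) =
            (d * (b * a * b⁻¹ * a⁻¹) * d⁻¹ * a) * (b * d * b⁻¹ * d⁻¹) := by
          rw [hn2]
          have e1 := hKA _ hk a₂ ha₂
          have e2 := hKC _ hk c₂ hc₂
          generalize b * d * b⁻¹ * d⁻¹ = k at e1 e2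
          calc k * (a₂ * c₂) = (k * a₂) * c₂ := by group
            _ = a₂ * (k * c₂) := by rw [e1]; group
            _ = a₂ * c₂ * k := by rw [e2]; group
        have e3 : d⁻¹ * a * d = a := by
          rw [mul_assoc, ← hDA d hd a ha, ← mul_assoc, inv_mul_cancel, one_mul]
        have e4 : d * a * d⁻¹ = a := by
          rw [hDA d hd a ha, mul_assoc, mul_inv_cancel, mul_one]
        have e5 : (b * d * b⁻¹ * d⁻¹) * (d * (b * a * b⁻¹ * a⁻¹) * d⁻¹ * a) * (b * d * b⁻¹ * d⁻¹)⁻¹ =
            b * a * b⁻¹ := by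
          calc (b * d * b⁻¹ * d⁻¹) * (d * (b * a * b⁻¹ * a⁻¹) * d⁻¹ * a) * (b * d * b⁻¹ * d⁻¹)⁻¹
              = b * d * b⁻¹ * ((b * a * b⁻¹ * a⁻¹) * (d⁻¹ * a * d)) * b * d⁻¹ * b⁻¹ := by group
            _ = b * d * b⁻¹ * ((b * a * b⁻¹ * a⁻¹) * a) * b * d⁻¹ * b⁻¹ := by rw [e3]
            _ = b * (d * a * d⁻¹) * b⁻¹ := by group
            _ = b * a * b⁻¹ := by rw [e4]
        have e6 : (b * d * b⁻¹ * d⁻¹) * (d * (b * a * b⁻¹ * a⁻¹) * d⁻¹ * a) * (b * d * b⁻¹ * d⁻¹)⁻¹ =
            d * (b * a * b⁻¹ * a⁻¹) * d⁻¹ * a := by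
          rw [hkn]; group
        have e7 : d * (b * a * b⁻¹ * a⁻¹) * d⁻¹ * a = b * a * b⁻¹ := e6.symm.trans e5
        have e8 := congrArg (fun t => t * a⁻¹ * d) e7
        simp only [mul_assoc, mul_inv_cancel, mul_one, inv_mul_cancel] at e8
        simp only [mul_assoc]
        exact e8
      -- so d commutes with C
      have hdC : ∀ c ∈ ⁅A, B⁆, d * c = c * d := by
        intro c hc
        have hle : ⁅A, B⁆ ≤ Subgroup.centralizer {d} := by
          rw [← h1.2.2.2 b hb hb1, Subgroup.closure_le]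
          rintro _ ⟨a, ha, rfl⟩
          rw [SetLike.mem_coe, Subgroup.mem_centralizer_singleton_iff]
          have e1 : a * b * a⁻¹ * b⁻¹ = a * (b * a⁻¹ * b⁻¹ * a⁻¹⁻¹) * a⁻¹ := by group
          have e2 := key a⁻¹ (A.inv_mem ha)
          have e3 := hDA d hd a ha
          have e4 := hDA d hd a⁻¹ (A.inv_mem ha)
          change a * b * a⁻¹ * b⁻¹ * d = d * (a * b * a⁻¹ * b⁻¹)
          rw [e1]
          generalize b * a⁻¹ * b⁻¹ * a⁻¹⁻¹ = X at e2
          calc a * X * a⁻¹ * d = a * X * (a⁻¹ * d) := by group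
            _ = a * X * (d * a⁻¹) := by rw [e4]
            _ = a * (X * d) * a⁻¹ := by group
            _ = a * (d * X) * a⁻¹ := by rw [e2]
            _ = (a * d) * X * a⁻¹ := by group
            _ = (d * a) * X * a⁻¹ := by rw [e3]
            _ = d * (a * X * a⁻¹) := by group
        exact (Subgroup.mem_centralizer_singleton_iff.mp (hle hc)).symm
      apply hS.ne_bot A hA
      rw [← hDC, ← h2.2.2.1 d hd hd1, Subgroup.closure_eq_bot_iff]
      rintro _ ⟨c, hc, rfl⟩
      have h5 : d * c * d⁻¹ * c⁻¹ = 1 := by rw [hdC c hc]; group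
      exact h5
  refine ⟨hBD, ?_⟩
  -- no-commute facts
  have hncB : ∀ b ∈ B, b ≠ 1 → ∀ a ∈ A, a ≠ 1 → b * a ≠ a * b :=
    fun b hb hb1 a ha ha1 => commcase_no_commute hS hB hD hBD (commcase_symm h1) hb hb1 ha ha1
  have hncD : ∀ d ∈ D, d ≠ 1 → ∀ c ∈ ⁅A, B⁆, c ≠ 1 → d * c ≠ c * d :=
    fun d hd hd1 c hc hc1 => commcase_no_commute hS hD hB (RankOnePair_symm hBD) h2 hd hd1 hc hc1
  -- centralizers in N
  have hZb : ∀ b ∈ B, b ≠ 1 → (A ⊔ ⁅A, B⁆) ⊓ Subgroup.centralizer {b} = ⁅A, B⁆ := by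
    intro b hb hb1
    apply le_antisymm
    · intro n hn0
      rw [Subgroup.mem_inf] at hn0
      obtain ⟨hn, hnb⟩ := hn0
      rw [Subgroup.mem_centralizer_singleton_iff] at hnb
      obtain ⟨a, ha, c, hc, rfl⟩ := (mem_sup_of_commute hAC).mp hn
      by_cases ha1 : a = 1
      · rw [ha1, one_mul]; exact hc
      · exfalso
        apply hncB b hb hb1 a ha ha1
        have e1 := hBC b hb c hc
        have : a * b * c = b * a * c := by
          calc a * b * c = a * (b * c) := by group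
            _ = a * (c * b) := by rw [e1]
            _ = a * c * b := by group
            _ = b * (a * c) := hnb
            _ = b * a * c := by group
        exact (mul_right_cancel this).symm
    · intro c hc
      exact ⟨Subgroup.mem_sup_right hc,
        Subgroup.mem_centralizer_singleton_iff.mpr (hBC b hb c hc).symm⟩
  have hZd : ∀ d ∈ D, d ≠ 1 → (A ⊔ ⁅A, B⁆) ⊓ Subgroup.centralizer {d} = A := by
    intro d hd hd1
    apply le_antisymm
    · intro n hn0
      rw [Subgroup.mem_inf] at hn0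
      obtain ⟨hn, hnd⟩ := hn0
      rw [Subgroup.mem_centralizer_singleton_iff] at hnd
      obtain ⟨a, ha, c, hc, rfl⟩ := (mem_sup_of_commute hAC).mp hn
      by_cases hc1 : c = 1
      · rw [hc1, mul_one]; exact ha
      · exfalso
        apply hncD d hd hd1 c hc hc1
        have e1 := hDA d hd a ha
        have : a * (c * d) = a * (d * c) := by
          calc a * (c * d) = a * c * d := by group
            _ = d * (a * c) := hnd
            _ = (d * a) * c := by group
            _ = (a * d) * c := by rw [e1]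
            _ = a * (d * c) := by group
        exact (mul_left_cancel this).symm
    · intro a ha
      exact ⟨Subgroup.mem_sup_left ha,
        Subgroup.mem_centralizer_singleton_iff.mpr (hDA d hd a ha).symm⟩
  -- key relation
  have KL0 : ∀ b ∈ B, b ≠ 1 → ∀ d ∈ D, d ≠ 1 → conjBy D b = conjBy B d →
      conjBy A b = conjBy ⁅A, B⁆ d := by
    intro b hb hb1 d hd hd1 hrel
    have hy : b * d * b⁻¹ ∈ conjBy B d := by rw [← hrel]; exact conj_mem_conjBy hd
    rw [mem_conjBy] at hy
    obtain ⟨b', hb'def⟩ : ∃ b', b' = d⁻¹ * (b * d * b⁻¹) * d := ⟨_, rfl⟩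
    rw [← hb'def] at hy
    have hb'1 : b' ≠ 1 := by
      intro h
      apply hd1
      rw [hb'def] at h
      have h2 : b * d * b⁻¹ = 1 := by
        have := congrArg (fun t => d * t * d⁻¹) h
        simpa [mul_assoc] using this
      have := congrArg (fun t => b⁻¹ * t * b) h2
      simpa [mul_assoc] using this
    have e1 : b * d * b⁻¹ = d * b' * d⁻¹ := by rw [hb'def]; group
    have e2 := cen_conj (hBn hb) d
    have e3 := cen_conj (hDn hd) b'
    rw [hZd d hd hd1] at e2
    rw [hZb b' hy hb'1] at e3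
    rw [← e2, e1, e3]
  -- the two descriptions agree
  have hQQ' : (fun b : G => conjBy A b) '' (B : Set G) ∪ {⁅A, B⁆} =
      (fun d : G => conjBy ⁅A, B⁆ d) '' (D : Set G) ∪ {A} := by
    ext E
    constructor
    · rintro (⟨b, hb, rfl⟩ | hE)
      · by_cases hb1 : b = 1
        · right
          change conjBy A b = A
          rw [hb1, conjBy_one]
        · obtain ⟨d, hd, hd1, hrel⟩ := rk1_cond hBD hb hb1
          left
          exact ⟨d, hd, (KL0 b hb hb1 d hd hd1 hrel).symm⟩
      · left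
        rw [Set.mem_singleton_iff] at hE
        refine ⟨1, D.one_mem, ?_⟩
        change conjBy ⁅A, B⁆ 1 = E
        rw [conjBy_one, hE]
    · rintro (⟨d, hd, rfl⟩ | hE)
      · by_cases hd1 : d = 1
        · right
          change conjBy ⁅A, B⁆ d = ⁅A, B⁆
          rw [hd1, conjBy_one]
        · obtain ⟨b, hb, hb1, hrel⟩ := rk1_cond' hBD hd hd1
          left
          exact ⟨b, hb, KL0 b hb hb1 d hd hd1 hrel.symm⟩
      · left
        rw [Set.mem_singleton_iff] at hE
        refine ⟨1, B.one_mem, ?_⟩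
        change conjBy A 1 = E
        rw [conjBy_one, hE]
  -- invariance under B and D
  have hQB : ∀ b ∈ B, ∀ E ∈ (fun b : G => conjBy A b) '' (B : Set G) ∪ {⁅A, B⁆},
      conjBy E b ∈ (fun b : G => conjBy A b) '' (B : Set G) ∪ {⁅A, B⁆} := by
    rintro b hb E (⟨b', hb', rfl⟩ | hE)
    · left
      exact ⟨b * b', B.mul_mem hb hb', (conjBy_conjBy A b b').symm⟩
    · right
      rw [Set.mem_singleton_iff] at hE ⊢
      rw [hE]
      exact conjBy_eq_of_commute fun x hx => (hBC b hb x hx).symm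
  have hQD : ∀ d ∈ D, ∀ E ∈ (fun b : G => conjBy A b) '' (B : Set G) ∪ {⁅A, B⁆},
      conjBy E d ∈ (fun b : G => conjBy A b) '' (B : Set G) ∪ {⁅A, B⁆} := by
    intro d hd E hE
    rw [hQQ'] at hE ⊢
    rcases hE with ⟨d', hd', rfl⟩ | hE
    · left
      exact ⟨d * d', D.mul_mem hd hd', (conjBy_conjBy ⁅A, B⁆ d d').symm⟩
    · right
      rw [Set.mem_singleton_iff] at hE ⊢
      rw [hE]
      exact conjBy_eq_of_commute fun x hx => (hDA d hd x hx).symm
  have hQinv : ∀ x ∈ B ⊔ D, ∀ E ∈ (fun b : G => conjBy A b) '' (B : Set G) ∪ {⁅A, B⁆},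
      conjBy E x ∈ (fun b : G => conjBy A b) '' (B : Set G) ∪ {⁅A, B⁆} := by
    let T : Subgroup G :=
      { carrier := {g | (∀ E ∈ (fun b : G => conjBy A b) '' (B : Set G) ∪ {⁅A, B⁆},
            conjBy E g ∈ (fun b : G => conjBy A b) '' (B : Set G) ∪ {⁅A, B⁆}) ∧
          (∀ E ∈ (fun b : G => conjBy A b) '' (B : Set G) ∪ {⁅A, B⁆},
            conjBy E g⁻¹ ∈ (fun b : G => conjBy A b) '' (B : Set G) ∪ {⁅A, B⁆})}
        one_mem' := by
          constructor
          · intro E hE; rw [conjBy_one]; exact hE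
          · intro E hE; rw [inv_one, conjBy_one]; exact hE
        mul_mem' := by
          rintro g h ⟨hg1, hg2⟩ ⟨hh1, hh2⟩
          constructor
          · intro E hE
            rw [← conjBy_conjBy]
            exact hg1 _ (hh1 E hE)
          · intro E hE
            rw [mul_inv_rev, ← conjBy_conjBy]
            exact hh2 _ (hg2 E hE)
        inv_mem' := by
          rintro g ⟨hg1, hg2⟩
          refine ⟨hg2, ?_⟩
          intro E hE
          rw [inv_inv]
          exact hg1 E hE }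
    have hBT : B ≤ T := fun b hb => ⟨hQB b hb, hQB b⁻¹ (B.inv_mem hb)⟩
    have hDT : D ≤ T := fun d hd => ⟨hQD d hd, hQD d⁻¹ (D.inv_mem hd)⟩
    intro x hx
    exact ((sup_le hBT hDT) hx).1
  -- C is a conjugate of A
  obtain ⟨b₀, hb₀, hb₀1⟩ := exists_ne_one_of_ne_bot (hS.ne_bot B hB)
  obtain ⟨d₀, hd₀, hd₀1, hrel₀⟩ := rk1_cond hBD hb₀ hb₀1
  have hCconj : ⁅A, B⁆ = conjBy A (d₀⁻¹ * b₀) := by
    rw [← conjBy_conjBy, KL0 b₀ hb₀ hb₀1 d₀ hd₀ hd₀1 hrel₀, conjBy_conjBy]
    simp [conjBy_one]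
  have hx₀ : d₀⁻¹ * b₀ ∈ B ⊔ D :=
    Subgroup.mul_mem _ (Subgroup.inv_mem _ (Subgroup.mem_sup_right hd₀)) (Subgroup.mem_sup_left hb₀)
  have hAconj : A = conjBy ⁅A, B⁆ (d₀⁻¹ * b₀)⁻¹ := by
    rw [← conjBy_eq_iff]; exact hCconj.symm
  have hPQ : {E | ∃ x ∈ B ⊔ D, E = conjBy A x} =
      (fun b : G => conjBy A b) '' (B : Set G) ∪ {⁅A, B⁆} := by
    ext E
    constructor
    · rintro ⟨x, hx, rfl⟩
      apply hQinv x hx A
      left
      refine ⟨1, B.one_mem, ?_⟩
      change conjBy A 1 = A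
      rw [conjBy_one]
    · rintro (⟨b, hb, rfl⟩ | hE)
      · exact ⟨b, Subgroup.mem_sup_left hb, rfl⟩
      · rw [Set.mem_singleton_iff] at hE
        exact ⟨d₀⁻¹ * b₀, hx₀, hE.trans hCconj⟩
  have hP1 : {E | ∃ x ∈ B ⊔ D, E = conjBy A x} = {E | ∃ x ∈ B ⊔ D, E = conjBy ⁅A, B⁆ x} := by
    ext E
    constructor
    · rintro ⟨x, hx, rfl⟩
      refine ⟨x * (d₀⁻¹ * b₀)⁻¹, Subgroup.mul_mem _ hx (Subgroup.inv_mem _ hx₀), ?_⟩
      rw [← conjBy_conjBy, ← hAconj]
    · rintro ⟨x, hx, rfl⟩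
      refine ⟨x * (d₀⁻¹ * b₀), Subgroup.mul_mem _ hx hx₀, ?_⟩
      rw [← conjBy_conjBy, ← hCconj]
  -- partition
  have hpartQ : IsSubgroupPartition (A ⊔ ⁅A, B⁆)
      ((fun b : G => conjBy A b) '' (B : Set G) ∪ {⁅A, B⁆}) := by
    refine ⟨?_, ?_, ?_⟩
    · rintro E (⟨b, hb, rfl⟩ | hE)
      · exact commcase_conj_le A B hb
      · rw [Set.mem_singleton_iff] at hE
        rw [hE]
        exact le_sup_right
    · intro x hx hx1
      obtain ⟨a, ha, c, hc, rfl⟩ := (mem_sup_of_commute hAC).mp hx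
      by_cases ha1 : a = 1
      · exact ⟨_, Or.inr rfl, by rw [ha1, one_mul]; exact hc⟩
      · obtain ⟨b, hb, hb2⟩ := commcase_conj h1 ha ha1 hc
        exact ⟨conjBy A b, Or.inl ⟨b, hb, rfl⟩, by rw [← hb2]; exact conj_mem_conjBy ha⟩
    · have hAb : ∀ b ∈ B, b ≠ 1 → A ⊓ conjBy A b = ⊥ := by
        intro b hb hb1
        rw [eq_bot_iff]
        intro x hx0
        rw [Subgroup.mem_inf] at hx0
        obtain ⟨hxA, hxb⟩ := hx0
        rw [mem_conjBy] at hxb
        rw [Subgroup.mem_bot]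
        by_contra hx1
        have hmem : b⁻¹ * x * b * x⁻¹ ∈ A ⊓ ⁅A, B⁆ := by
          refine ⟨A.mul_mem hxb (A.inv_mem hxA), ?_⟩
          have := Subgroup.commutator_mem_commutator (B.inv_mem hb) hxA
          rw [commutatorElement_def, inv_inv, Subgroup.commutator_comm] at this
          exact this
        rw [hinfAC, Subgroup.mem_bot] at hmem
        apply hncB b hb hb1 x hxA hx1
        have := congrArg (fun t => b * t * x) hmem
        simp only [mul_assoc, inv_mul_cancel, mul_one, mul_inv_cancel_left] at this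
        exact this.symm
      have hCb : ∀ b ∈ B, conjBy A b ⊓ ⁅A, B⁆ = ⊥ := by
        intro b hb
        rw [eq_bot_iff]
        intro x hx0
        rw [Subgroup.mem_inf] at hx0
        obtain ⟨hxb, hxC⟩ := hx0
        rw [mem_conjBy] at hxb
        have e1 := hBC b hb x hxC
        have : b⁻¹ * x * b = x := by
          rw [mul_assoc, ← e1, ← mul_assoc, inv_mul_cancel, one_mul]
        rw [this] at hxb
        have : x ∈ A ⊓ ⁅A, B⁆ := ⟨hxb, hxC⟩
        rwa [hinfAC] at this
      rintro E (⟨b, hb, rfl⟩ | hE) F (⟨b', hb', rfl⟩ | hF) hne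
      · have hbb : b⁻¹ * b' ≠ 1 := by
          intro h
          apply hne
          have : b' = b := by
            have := congrArg (fun t => b * t) h
            simpa using this
          rw [this]
        have h3 := hAb (b⁻¹ * b') (B.mul_mem (B.inv_mem hb) hb') hbb
        have h4 : conjBy (A ⊓ conjBy A (b⁻¹ * b')) b = ⊥ := by rw [h3, conjBy_bot]
        rw [eq_bot_iff] at h4 ⊢
        refine le_trans ?_ h4
        intro x hx0
        rw [Subgroup.mem_inf] at hx0
        obtain ⟨hx1, hx2⟩ := hx0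
        change x ∈ conjBy A b at hx1
        change x ∈ conjBy A b' at hx2
        rw [mem_conjBy] at hx1 hx2 ⊢
        rw [Subgroup.mem_inf]
        refine ⟨hx1, ?_⟩
        rw [mem_conjBy]
        have : (b⁻¹ * b')⁻¹ * (b⁻¹ * x * b) * (b⁻¹ * b') = b'⁻¹ * x * b' := by group
        rw [this]
        exact hx2
      · rw [Set.mem_singleton_iff] at hF
        rw [hF]
        exact hCb b hb
      · rw [Set.mem_singleton_iff] at hE
        rw [hE, inf_comm]
        exact hCb b' hb'
      · rw [Set.mem_singleton_iff] at hE hF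
        exact absurd (hE.trans hF.symm) hne
  -- centralizer of N in X
  have hc5 : ∀ x ∈ (B ⊔ D) ⊓ Subgroup.centralizer ((A ⊔ ⁅A, B⁆ : Subgroup G) : Set G),
      ∀ y ∈ B ⊔ D, x * y = y * x := by
    have hn : B ⊔ D ≤ Subgroup.normalizer
        (((B ⊔ D) ⊓ Subgroup.centralizer ((A ⊔ ⁅A, B⁆ : Subgroup G) : Set G) : Subgroup G) : Set G) := by
      intro y hy
      rw [Subgroup.mem_normalizer_iff]
      intro z
      have hyn := hXn hy
      constructor
      · intro hz
        rw [Subgroup.mem_inf] at hz ⊢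
        obtain ⟨hz1, hz2⟩ := hz
        refine ⟨(B ⊔ D).mul_mem ((B ⊔ D).mul_mem hy hz1) ((B ⊔ D).inv_mem hy), ?_⟩
        rw [Subgroup.mem_centralizer_iff] at hz2 ⊢
        intro n hn
        have h5 : y⁻¹ * n * y ∈ A ⊔ ⁅A, B⁆ := (Subgroup.mem_normalizer_iff''.mp hyn n).mp hn
        have h6 := hz2 _ h5
        calc n * (y * z * y⁻¹) = y * ((y⁻¹ * n * y) * z) * y⁻¹ := by group
          _ = y * (z * (y⁻¹ * n * y)) * y⁻¹ := by rw [h6]
          _ = y * z * y⁻¹ * n := by group
      · intro hz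
        rw [Subgroup.mem_inf] at hz ⊢
        obtain ⟨hz1, hz2⟩ := hz
        refine ⟨?_, ?_⟩
        · have := (B ⊔ D).mul_mem ((B ⊔ D).mul_mem ((B ⊔ D).inv_mem hy) hz1) hy
          simpa [mul_assoc] using this
        · rw [Subgroup.mem_centralizer_iff] at hz2 ⊢
          intro n hn
          have h5 : y * n * y⁻¹ ∈ A ⊔ ⁅A, B⁆ := (Subgroup.mem_normalizer_iff.mp hyn n).mp hn
          have h6 := hz2 _ h5
          have := congrArg (fun t => y⁻¹ * t * y) h6
          simpa [mul_assoc] using this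
    rcases rk1_normal_dichotomy hBD hn inf_le_left with h5 | h5
    · exfalso
      have hle : (B ⊔ D) ⊓ Subgroup.centralizer ((A ⊔ ⁅A, B⁆ : Subgroup G) : Set G) ⊔ B ≤
          Subgroup.centralizer ((⁅A, B⁆ : Subgroup G) : Set G) := by
        apply sup_le
        · intro z hz
          exact Subgroup.centralizer_le (SetLike.coe_subset_coe.mpr le_sup_right) hz.2
        · intro b hb
          rw [Subgroup.mem_centralizer_iff]
          intro c hc
          exact (hBC b hb c hc).symm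
      obtain ⟨d, hd, hd1⟩ := exists_ne_one_of_ne_bot (hS.ne_bot D hD)
      obtain ⟨c, hc, hc1⟩ := exists_ne_one_of_ne_bot (hS.ne_bot _ hC)
      apply hncD d hd hd1 c hc hc1
      have := hle (h5 hd)
      rw [Subgroup.mem_centralizer_iff] at this
      exact (this c hc).symm
    · intro x hx y hy
      have := h5 hx
      rw [Subgroup.mem_centralizer_iff] at this
      exact (this y hy).symm
  exact ⟨hP1, hPQ, hPQ.trans hQQ', by rw [hPQ]; exact hpartQ, hc5⟩

end Cfsg.Agent.S5036
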