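import Cfsg.Statements.S5038
import Cfsg.Agent.Lib.Helper86.Lines3

set_option autoImplicit false
open Cfsg
open Cfsg.Agent.Lib.Helper86

namespace Cfsg.Agent.S5038

/-- the structure of a line seen from one of its points `P` with partner `P'` : there is a point
`E ≠ P` and every point `Q ≠ E` is the image of `P` under an element of `R` fixing `E` -/
theorem line_T {G : Type*} [Group G] {S : Set (Subgroup G)} (hS : IsRootSubgroupSet S)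
    (hall : ∀ A ∈ S, ∃ D ∈ S, IsRankOnePair A D) {P Q₀ : Subgroup G} (hP : P ∈ S)
    (hQ₀ : Q₀ ∈ linePartners S P) :
    ∃ E ∈ membersIn S (P ⊔ Q₀), E ≠ P ∧ P ⊔ E = P ⊔ Q₀ ∧ ∀ Q ∈ membersIn S (P ⊔ Q₀), Q ≠ E →
      ∃ x ∈ ⨆ E' ∈ normalizingMembers S (P ⊔ Q₀), E', conjBy P x = Q ∧ conjBy E x = E := by
  obtain ⟨P', hP', hPP'⟩ := hall P hP
  obtain ⟨E, hE, hEP, h1, h2, h3, h4⟩ := line_structure hS hall hP hP' hPP' hQ₀
  have hm := line_structure_members hS hP hP' hPP' h2 h3 h4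
  refine ⟨E, hE, hEP, h4, ?_⟩
  have hFE : ∀ f ∈ ⁅P', E⁆, conjBy E f = E := fun f hf =>
    conjBy_eq_of_commute fun e he => commcase_comm_right h1 e he f hf
  have hFn : ⁅P', E⁆ ≤ Subgroup.normalizer ((P ⊔ Q₀ : Subgroup G) : Set G) := by
    apply le_normalizer_of_conjBy_le
    intro f hf
    rw [← h4, conjBy_sup, hFE f hf]
    apply sup_le _ le_sup_right
    have := commcase_conj_le P ⁅P', E⁆ hf
    rwa [h3] at this
  have hFR : ⁅P', E⁆ ≤ ⨆ E' ∈ normalizingMembers S (P ⊔ Q₀), E' :=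
    le_iSup₂_of_le ⁅P', E⁆ ⟨h1.1, hFn⟩ le_rfl
  intro Q hQ hQE
  rw [hm] at hQ
  rcases hQ with ⟨f, hf, rfl⟩ | hQ
  · exact ⟨f, hFR hf, rfl, hFE f hf⟩
  · exact absurd hQ hQE

/-- Let S be a set of abstract root subgroups of G in which every member has a rank one partner, A ∈ S and B a line partner of A. Then the subgroup generated by the members of S normalizing AB permutes the members of S inside AB doubly transitively by conjugation. -/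
theorem result {G : Type*} [Group G] {S : Set (Subgroup G)} (hS : Cfsg.IsRootSubgroupSet S)
    (hF : ∀ A ∈ S, ¬ Cfsg.IsIsolatedIn (Cfsg.FAdj S) S A) {A B : Subgroup G} (hA : A ∈ S) (hB : B ∈ Cfsg.linePartners S A) :
    ∀ C₁ ∈ Cfsg.membersIn S (A ⊔ B), ∀ C₂ ∈ Cfsg.membersIn S (A ⊔ B), ∀ D₁ ∈ Cfsg.membersIn S (A ⊔ B),
      ∀ D₂ ∈ Cfsg.membersIn S (A ⊔ B), C₁ ≠ C₂ → D₁ ≠ D₂ →
        ∃ x ∈ ⨆ E ∈ Cfsg.normalizingMembers S (A ⊔ B), E, Cfsg.conjBy C₁ x = D₁ ∧ Cfsg.conjBy C₂ x = D₂ := by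
  have hall : ∀ A ∈ S, ∃ D ∈ S, IsRankOnePair A D := fun A hA => nonisolated_exists hA (hF A hA)
  have hB0 := hB
  obtain ⟨⟨hBS, hBA, hcomm⟩, hpart⟩ := hB
  rw [commutator_eq_bot_iff_comm] at hcomm
  have hAc := hS.commutative A hA
  -- R normalizes N
  have hRn : (⨆ E' ∈ normalizingMembers S (A ⊔ B), E') ≤
      Subgroup.normalizer ((A ⊔ B : Subgroup G) : Set G) := iSup₂_le fun E' hE' => hE'.2
  have hLinv : ∀ x ∈ ⨆ E' ∈ normalizingMembers S (A ⊔ B), E', ∀ Q ∈ membersIn S (A ⊔ B),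
      conjBy Q x ∈ membersIn S (A ⊔ B) := by
    intro x hx Q hQ
    refine ⟨hS.conj_mem Q hQ.1 x, ?_⟩
    have := conjBy_mono hQ.2 x
    rwa [mem_normalizer_iff_conjBy.mp (hRn hx)] at this
  -- first structure
  obtain ⟨E₀, hE₀, hE₀A, hsup₀, hT₀⟩ := line_T hS hall hA hB0
  -- stabilizer of E₀ is transitive on the rest
  have hT₀' : ∀ Q₁ ∈ membersIn S (A ⊔ B), ∀ Q₂ ∈ membersIn S (A ⊔ B), Q₁ ≠ E₀ → Q₂ ≠ E₀ →
      ∃ x ∈ ⨆ E' ∈ normalizingMembers S (A ⊔ B), E', conjBy Q₁ x = Q₂ ∧ conjBy E₀ x = E₀ := by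
    intro Q₁ hQ₁ Q₂ hQ₂ h1 h2
    obtain ⟨x₁, hx₁, e1, e1'⟩ := hT₀ Q₁ hQ₁ h1
    obtain ⟨x₂, hx₂, e2, e2'⟩ := hT₀ Q₂ hQ₂ h2
    refine ⟨x₂ * x₁⁻¹, Subgroup.mul_mem _ hx₂ (Subgroup.inv_mem _ hx₁), ?_, ?_⟩
    · have hQ1 : conjBy Q₁ x₁⁻¹ = A := by
        rw [conjBy_eq_iff, inv_inv]; exact e1.symm
      rw [← conjBy_conjBy, hQ1]
      exact e2
    · rw [← conjBy_conjBy]
      have : conjBy E₀ x₁⁻¹ = E₀ := by
        rw [conjBy_eq_iff, inv_inv]; exact e1'.symm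
      rw [this, e2']
  -- second structure, from E₀
  have heq : E₀ ⊔ A = A ⊔ B := by rw [sup_comm]; exact hsup₀
  have hAE₀ : A ∈ linePartners S E₀ := by
    refine ⟨⟨hA, hE₀A.symm, ?_⟩, ?_⟩
    · rw [commutator_eq_bot_iff_comm]
      intro e he a ha
      exact (comm_sup_of_comm hAc hcomm a ha e (hE₀.2 he)).symm
    · rw [heq]; exact hpart
  obtain ⟨E₂, hE₂, hE₂E₀, -, hT₂⟩ := line_T hS hall hE₀.1 hAE₀
  rw [heq] at hE₂ hT₂
  -- a third point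
  have hthird : ∃ T ∈ membersIn S (A ⊔ B), T ≠ E₀ ∧ T ≠ E₂ := by
    obtain ⟨A', hA', hAA'⟩ := hall A hA
    have hinf : A ⊓ B = ⊥ := (root_inter hS hA hA' hAA' hBS).resolve_right hBA.symm
    obtain ⟨a, ha, ha1⟩ := rk1_exists_ne_one hAA'
    obtain ⟨b, hb, hb1⟩ := exists_ne_one_of_ne_bot (hS.ne_bot B hBS)
    have hab1 : a * b ≠ 1 := by
      intro h
      have h1 : b = a⁻¹ := eq_inv_of_mul_eq_one_right h
      have : b ∈ A ⊓ B := ⟨by rw [h1]; exact A.inv_mem ha, hb⟩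
      rw [hinf, Subgroup.mem_bot] at this
      exact hb1 this
    obtain ⟨P, hP, habP⟩ := hpart.2.1 _
      (Subgroup.mul_mem _ (Subgroup.mem_sup_left ha) (Subgroup.mem_sup_right hb)) hab1
    have hPB : P ≠ B := by
      rintro rfl
      have : a ∈ A ⊓ P := ⟨ha, by
        have := P.mul_mem habP (P.inv_mem hb)
        simpa using this⟩
      rw [hinf, Subgroup.mem_bot] at this
      exact ha1 this
    have hPA : P ≠ A := by
      rintro rfl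
      have : b ∈ P ⊓ B := ⟨by
        have := P.mul_mem (P.inv_mem ha) habP
        simpa using this, hb⟩
      rw [hinf, Subgroup.mem_bot] at this
      exact hb1 this
    have hAmem : A ∈ membersIn S (A ⊔ B) := ⟨hA, le_sup_left⟩
    have hBmem : B ∈ membersIn S (A ⊔ B) := ⟨hBS, le_sup_right⟩
    by_contra hcon
    push Not at hcon
    have hA2 : A = E₂ := hcon A hAmem hE₀A.symm
    have hB0' : B = E₀ := by
      by_contra hne
      exact hBA ((hcon B hBmem hne).trans hA2.symm)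
    by_cases hP0 : P = E₀
    · exact hPB (hP0.trans hB0'.symm)
    · exact hPA ((hcon P hP hP0).trans hA2.symm)
  obtain ⟨T, hT, hTE₀, hTE₂⟩ := hthird
  -- every ordered pair can be moved to (E₀, E₂)
  have hmove : ∀ C₁ ∈ membersIn S (A ⊔ B), ∀ C₂ ∈ membersIn S (A ⊔ B), C₁ ≠ C₂ →
      ∃ x ∈ ⨆ E' ∈ normalizingMembers S (A ⊔ B), E', conjBy C₁ x = E₀ ∧ conjBy C₂ x = E₂ := by
    intro C₁ hC₁ C₂ hC₂ hne
    -- step a
    have stepa : ∃ x₁ ∈ ⨆ E' ∈ normalizingMembers S (A ⊔ B), E', conjBy C₁ x₁ = E₀ := by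
      by_cases h1 : C₁ = E₂
      · obtain ⟨y, hy, ey, -⟩ := hT₀' E₂ hE₂ T hT hE₂E₀ hTE₀
        obtain ⟨x, hx, ex, -⟩ := hT₂ T hT hTE₂
        refine ⟨x⁻¹ * y, Subgroup.mul_mem _ (Subgroup.inv_mem _ hx) hy, ?_⟩
        rw [h1, ← conjBy_conjBy, ey, conjBy_eq_iff, inv_inv]
        exact ex.symm
      · obtain ⟨x, hx, ex, -⟩ := hT₂ C₁ hC₁ h1
        refine ⟨x⁻¹, Subgroup.inv_mem _ hx, ?_⟩
        rw [conjBy_eq_iff, inv_inv]
        exact ex.symm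
    obtain ⟨x₁, hx₁, e1⟩ := stepa
    have hC₂' : conjBy C₂ x₁ ∈ membersIn S (A ⊔ B) := hLinv x₁ hx₁ C₂ hC₂
    have hne' : conjBy C₂ x₁ ≠ E₀ := by
      intro h
      rw [← e1, conjBy_inj] at h
      exact hne h.symm
    obtain ⟨y, hy, ey, ey'⟩ := hT₀' _ hC₂' E₂ hE₂ hne' hE₂E₀
    refine ⟨y * x₁, Subgroup.mul_mem _ hy hx₁, ?_, ?_⟩
    · rw [← conjBy_conjBy, e1, ey']
    · rw [← conjBy_conjBy, ey]
  intro C₁ hC₁ C₂ hC₂ D₁ hD₁ D₂ hD₂ hC hD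
  obtain ⟨x, hx, ex1, ex2⟩ := hmove C₁ hC₁ C₂ hC₂ hC
  obtain ⟨y, hy, ey1, ey2⟩ := hmove D₁ hD₁ D₂ hD₂ hD
  refine ⟨y⁻¹ * x, Subgroup.mul_mem _ (Subgroup.inv_mem _ hy) hx, ?_, ?_⟩
  · rw [← conjBy_conjBy, ex1, conjBy_eq_iff, inv_inv]
    exact ey1.symm
  · rw [← conjBy_conjBy, ex2, conjBy_eq_iff, inv_inv]
    exact ey2.symm

end Cfsg.Agent.S5038
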