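import Cfsg.Statements.S5041
import Cfsg.Agent.Lib.Helper86.Connect

set_option autoImplicit false
open Cfsg
open Cfsg.Agent.Lib.Helper86

namespace Cfsg.Agent.S5041

theorem psi_reach {G : Type*} [Group G] {S : Set (Subgroup G)} (hS : IsRootSubgroupSet S)
    (hall : ∀ A ∈ S, ∃ D ∈ S, IsRankOnePair A D) {A B : Subgroup G} (hA : A ∈ S) (hB : B ∈ S)
    (hC : ⁅A, B⁆ ∈ S) : Relation.ReflTransGen (EAdj S S) A B := by
  obtain ⟨A', hA', hAA'⟩ := hall A hA
  obtain ⟨B', hB', hBB'⟩ := hall B hB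
  have h1 : A ∈ linePartners S ⁅A, B⁆ :=
    (Cfsg.Agent.S5029.result hS (not_isolated_of_partner' hA hA' hAA') hA hB hC).2.2.1
  have hC2 : ⁅B, A⁆ ∈ S := by rw [Subgroup.commutator_comm]; exact hC
  have h2 : B ∈ linePartners S ⁅A, B⁆ := by
    have := (Cfsg.Agent.S5029.result hS (not_isolated_of_partner' hB hB' hBB') hB hA hC2).2.2.1
    rwa [Subgroup.commutator_comm] at this
  exact (Relation.ReflTransGen.single ⟨hA, hC, linePartners_symm hC h1⟩).tail ⟨hC, hB, h2⟩

/-- Let S be a non-degenerate class of abstract root subgroups of G. Then the graph on S joining A to its line partners, and the commuting graph on S, are both connected. -/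
theorem result {G : Type*} [Group G] {S : Set (Subgroup G)} (hS : Cfsg.IsRootSubgroupClass S) (hnd : Cfsg.IsNondegenerateRootSet S) :
    Cfsg.IsConnectedFamily (Cfsg.EAdj S S) S ∧ Cfsg.IsConnectedFamily (Cfsg.DAdj S) S := by
  obtain ⟨hS0, hconj⟩ := hS
  obtain ⟨A₀, hA₀, B₀, hB₀, hAB₀⟩ := hnd.2.1
  have hall := all_partners_of_class hS0 hconj hA₀ hB₀ hAB₀
  have hsymm : ∀ A B, EAdj S S A B → EAdj S S B A :=
    fun A B h => ⟨h.2.1, h.1, linePartners_symm h.1 h.2.2⟩
  have hE : ∀ A ∈ S, ∀ B ∈ S, Relation.ReflTransGen (EAdj S S) A B := by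
    apply orbit_connect hS0 hconj (EAdj S S) hsymm
    · intro A B g h
      exact ⟨hS0.conj_mem A h.1 g, hS0.conj_mem B h.2.1 g, linePartners_conj hS0 h.2.2 g⟩
    · intro A hA B hB hne
      rcases hS0.pair A hA B hB with h | h | h
      · exact absurd h hne
      · obtain ⟨C₀, hC₀⟩ := exists_linePartner hS0 hconj hnd hA hB h
        obtain ⟨E, hE, hEA, h1, h2, h3, -⟩ := line_structure hS0 hall hA hB h hC₀
        obtain ⟨h4, -⟩ := line_structure_special hS0 hA hB h hE.1 hEA h1 h2 h3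
        have p1 : Relation.ReflTransGen (EAdj S S) A E :=
          Relation.ReflTransGen.single ⟨hA, hE.1, h4⟩
        have p2 : Relation.ReflTransGen (EAdj S S) B E := psi_reach hS0 hall hB hE.1 h1.1
        exact p1.trans (reach_symm_gen hsymm p2)
      · exact psi_reach hS0 hall hA hB h.1
  refine ⟨hE, ?_⟩
  intro A hA B hB
  have hr := hE A hA B hB
  induction hr with
  | refl => exact Relation.ReflTransGen.refl
  | tail _ h ih => exact (ih h.1).tail ⟨h.1, h.2.1, h.2.2.1.2.1.symm, h.2.2.1.2.2⟩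

end Cfsg.Agent.S5041
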