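import Cfsg.Statements.S5042
import Cfsg.Agent.Lib.Helper86.Connect
import Cfsg.Agent.S5036
import Cfsg.Agent.S5038
import Cfsg.Agent.S5041

set_option autoImplicit false
open Cfsg

namespace Cfsg.Agent.S5042

open Cfsg.Agent.Lib.Helper86
open scoped commutatorElement

theorem commutator_le_of_le {G : Type*} [Group G] {P Q Y : Subgroup G} (hP : P ≤ Y) (hQ : Q ≤ Y) :
    ⁅P, Q⁆ ≤ Y := by
  rw [Subgroup.commutator_le]
  intro p hp q hq
  rw [commutatorElement_def]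
  exact Y.mul_mem (Y.mul_mem (Y.mul_mem (hP hp) (hQ hq)) (Y.inv_mem (hP hp))) (Y.inv_mem (hQ hq))

/-- every line partner `E` of `A` has a line partner `C₂` of `A` with `⁅E, C₂⁆ = A` -/
theorem exists_comm_to {G : Type*} [Group G] {S : Set (Subgroup G)} (hS : IsRootSubgroupSet S)
    (hall : ∀ A ∈ S, ∃ D ∈ S, IsRankOnePair A D) {A E : Subgroup G} (hA : A ∈ S)
    (hE : E ∈ linePartners S A) : ∃ C₂ ∈ linePartners S A, ⁅E, C₂⁆ = A := by
  have hF : ∀ A ∈ S, ¬ IsIsolatedIn (FAdj S) S A := fun A hA => by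
    obtain ⟨D, hD, h⟩ := hall A hA
    exact not_isolated_of_partner' hA hD h
  have hES : E ∈ S := hE.1.1
  have hAE : A ∈ linePartners S E := linePartners_symm hA hE
  obtain ⟨E'', hE''S, hEE''⟩ := hall E hES
  obtain ⟨E₁, hE₁mem, hE₁ne, h1, h2, h3, h4⟩ := line_structure hS hall hES hE''S hEE'' hAE
  have hx : ∃ x : G, conjBy E x = E ∧ conjBy E₁ x = A := by
    by_cases hE₁A : E₁ = A
    · exact ⟨1, conjBy_one E, by rw [conjBy_one]; exact hE₁A⟩
    · obtain ⟨x, -, hx1, hx2⟩ := Cfsg.Agent.S5038.result hS hF hES hAE E ⟨hES, le_sup_left⟩ E₁ hE₁mem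
        E ⟨hES, le_sup_left⟩ A ⟨hA, le_sup_right⟩ hE₁ne.symm hE.1.2.1
      exact ⟨x, hx1, hx2⟩
  obtain ⟨x, hx1, hx2⟩ := hx
  have ha : ⁅conjBy E'' x, A⁆ ∈ S := by
    rw [← hx2, conjBy_commutator]
    exact hS.conj_mem _ h1.1 x
  have hb : ⁅E, ⁅conjBy E'' x, A⁆⁆ = A := by
    conv_lhs => rw [← hx1, ← hx2, conjBy_commutator, conjBy_commutator, h3]
    exact hx2
  refine ⟨⁅conjBy E'' x, A⁆, ?_, hb⟩
  have hC : ⁅A, conjBy E'' x⁆ ∈ S := by rw [Subgroup.commutator_comm]; exact ha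
  have h29 := (Cfsg.Agent.S5029.result hS (hF A hA) hA (hS.conj_mem E'' hE''S x) hC).2.2.1
  have := linePartners_symm hC h29
  rw [Subgroup.commutator_comm] at this
  exact this

/-- Let S be a non-degenerate class of abstract root subgroups of G, A ∈ S and B a rank one partner of A. Then G is generated by the line partners of A together with B. -/
theorem result {G : Type*} [Group G] {S : Set (Subgroup G)} (hS : Cfsg.IsRootSubgroupClass S) (hnd : Cfsg.IsNondegenerateRootSet S)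
    {A B : Subgroup G} (hA : A ∈ S) (hB : B ∈ Cfsg.rankOnePartners S A) :
    (⨆ C ∈ Cfsg.linePartners S A, C) ⊔ B = ⊤ := by
  obtain ⟨hSet, hClass⟩ := hS
  obtain ⟨hBS, hAB⟩ := hB
  have hall := all_partners_of_class hSet hClass hA hBS hAB
  set Y := (⨆ C ∈ Cfsg.linePartners S A, C) ⊔ B with hY
  have hΛY : ∀ C ∈ linePartners S A, C ≤ Y := fun C hC =>
    le_trans (le_iSup₂ (f := fun C (_ : C ∈ linePartners S A) => C) C hC) le_sup_left
  have hBY : B ≤ Y := le_sup_right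
  have step1 : ∀ L ∈ linePartners S A, A ≤ Y ∧ ∃ y ∈ Y, L = conjBy A y := by
    intro L hL
    obtain ⟨E, hEmem, hEne, h1, h2, h3, h4⟩ := line_structure hSet hall hA hBS hAB hL
    have hEΛ : E ∈ linePartners S A :=
      (line_structure_special hSet hA hBS hAB hEmem.1 hEne h1 h2 h3).1
    have hEY : E ≤ Y := hΛY E hEΛ
    have hFY : ⁅B, E⁆ ≤ Y := commutator_le_of_le hBY hEY
    obtain ⟨C₂, hC₂Λ, hC₂⟩ := exists_comm_to hSet hall hA hEΛ
    have hC₂Y := hΛY C₂ hC₂Λ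
    have hAY : A ≤ Y := by rw [← hC₂]; exact commutator_le_of_le hEY hC₂Y
    have hCS : ⁅A, ⁅B, E⁆⁆ ∈ S := by rw [h3]; exact hEmem.1
    have hDC : ⁅C₂, ⁅A, ⁅B, E⁆⁆⁆ = A := by rw [h3, Subgroup.commutator_comm]; exact hC₂
    have h36 := (Cfsg.Agent.S5036.result hSet hA h1.1 hCS hC₂Λ.1.1 hDC).2.1
    have hEin : E ∈ {E' | ∃ x ∈ ⁅B, E⁆ ⊔ C₂, E' = conjBy ⁅A, ⁅B, E⁆⁆ x} :=
      ⟨1, Subgroup.one_mem _, by rw [h3, conjBy_one]⟩
    rw [← h36] at hEin
    obtain ⟨x, hx, hEx⟩ := hEin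
    have hxY : x ∈ Y := (sup_le hFY hC₂Y) hx
    have hmem := line_structure_members hSet hA hBS hAB h2 h3 h4
    have hLmem : L ∈ membersIn S (A ⊔ L) := ⟨hL.1.1, le_sup_right⟩
    rw [hmem] at hLmem
    refine ⟨hAY, ?_⟩
    rcases hLmem with ⟨f, hf, rfl⟩ | hLE
    · exact ⟨f, hFY hf, rfl⟩
    · rw [Set.mem_singleton_iff] at hLE
      rw [hLE]
      exact ⟨x, hxY, hEx⟩
  obtain ⟨C₀, hC₀⟩ := exists_linePartner hSet hClass hnd hA hBS hAB
  have hAY : A ≤ Y := (step1 C₀ hC₀).1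
  have hreach : ∀ C, Relation.ReflTransGen (EAdj S S) A C → ∃ y ∈ Y, C = conjBy A y := by
    intro C h
    induction h with
    | refl => exact ⟨1, Y.one_mem, (conjBy_one A).symm⟩
    | tail _ hbc ih =>
      obtain ⟨y, hy, rfl⟩ := ih
      have h5 := linePartners_conj hSet hbc.2.2 y⁻¹
      rw [conjBy_conjBy, inv_mul_cancel, conjBy_one] at h5
      obtain ⟨y', hy', h'⟩ := (step1 _ h5).2
      refine ⟨y * y', Y.mul_mem hy hy', ?_⟩
      rw [← conjBy_conjBy, ← h', conjBy_conjBy, mul_inv_cancel, conjBy_one]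
  rw [eq_top_iff, ← hSet.generates]
  apply iSup₂_le
  intro C hC
  obtain ⟨y, hy, rfl⟩ := hreach C ((Cfsg.Agent.S5041.result ⟨hSet, hClass⟩ hnd).1 A hA C hC)
  exact conjBy_le_of_mem hAY hy

end Cfsg.Agent.S5042
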