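import Cfsg.Statements.S5037
import Cfsg.Agent.Lib.Helper86.LocalSpecial
import Cfsg.Agent.S5034
import Cfsg.Agent.S5036
import Cfsg.Agent.S5042

set_option autoImplicit false
open Cfsg Cfsg.Agent.Lib.Helper86

namespace Cfsg.Agent.S5037

theorem gamma_conj {G : Type*} [Group G] {S : Set (Subgroup G)} (hS : IsRootSubgroupSet S)
    (X D : Subgroup G) (g : G) (h : D ∈ centralizingMembers S X) :
    conjBy D g ∈ centralizingMembers S (conjBy X g) := by
  refine ⟨hS.conj_mem D h.1 g, ?_⟩
  intro d hd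
  rw [Subgroup.mem_centralizer_iff]
  intro x hx
  rw [SetLike.mem_coe, mem_conjBy] at hx
  rw [mem_conjBy] at hd
  have h1 := Subgroup.mem_centralizer_iff.mp (h.2 hd) _ hx
  calc x * d = g * ((g⁻¹ * x * g) * (g⁻¹ * d * g)) * g⁻¹ := by group
    _ = g * ((g⁻¹ * d * g) * (g⁻¹ * x * g)) * g⁻¹ := by rw [h1]
    _ = d * x := by group

theorem omega_conj {G : Type*} [Group G] {S : Set (Subgroup G)} (hS : IsRootSubgroupSet S)
    (X D : Subgroup G) (g : G) (h : D ∈ rankOnePartners S X) :
    conjBy D g ∈ rankOnePartners S (conjBy X g) :=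
  ⟨hS.conj_mem D h.1 g, rk1_conj h.2 g⟩

theorem le_centralizer_of_comm {G : Type*} [Group G] {A L : Subgroup G} (h : ⁅A, L⁆ = ⊥) :
    L ≤ Subgroup.centralizer (A : Set G) := by
  rw [Subgroup.commutator_comm] at h
  exact Subgroup.commutator_eq_bot_iff_le_centralizer.mp h

theorem comm_of_le_centralizer {G : Type*} [Group G] {A L : Subgroup G}
    (h : L ≤ Subgroup.centralizer (A : Set G)) : ⁅A, L⁆ = ⊥ := by
  rw [Subgroup.commutator_comm]
  exact Subgroup.commutator_eq_bot_iff_le_centralizer.mpr h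

/-- in a degenerate class with two members some rank one pair exists -/
theorem exists_rk1_deg {G : Type*} [Group G] {S : Set (Subgroup G)} (hS : IsRootSubgroupSet S)
    (hcl : IsConjClassOfSubgroups S) (hdeg : IsDegenerateRootSet S) {A C : Subgroup G}
    (hA : A ∈ S) (hC : C ∈ S) (hAC : A ≠ C) : ∃ P ∈ S, ∃ Q ∈ S, IsRankOnePair P Q := by
  by_contra hcon
  push Not at hcon
  apply hAC
  have hcen : Subgroup.centralizer (A : Set G) = ⊤ := by
    rw [eq_top_iff, ← hS.generates]
    apply iSup₂_le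
    intro X hX
    rcases hS.pair A hA X hX with h | h | h
    · exact le_centralizer_of_comm h
    · exact absurd h (hcon A hA X hX)
    · exact absurd h (hdeg A hA X hX)
  obtain ⟨g, rfl⟩ := hcl.2 A hA C hC
  symm
  apply conjBy_eq_of_commute
  intro x hx
  have : g ∈ Subgroup.centralizer (A : Set G) := by rw [hcen]; exact Subgroup.mem_top g
  exact (Subgroup.mem_centralizer_iff.mp this x hx)

/-- non-degenerate case, part (1): a common rank one partner -/
theorem nondeg_B1 {G : Type*} [Group G] {S : Set (Subgroup G)} (hS : IsRootSubgroupSet S)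
    (hcl : IsConjClassOfSubgroups S) (hnd : IsNondegenerateRootSet S) {A C : Subgroup G}
    (hA : A ∈ S) (hC : C ∈ S)
    (hsub : centralizingMembers S A ⊆ centralizingMembers S C) :
    ∃ B ∈ S, IsRankOnePair A B ∧ IsRankOnePair C B := by
  obtain ⟨P, hP, Q, hQ, hPQ⟩ := hnd.2.1
  have hall := all_partners_of_class hS hcl hP hQ hPQ
  have hF : ∀ X ∈ S, ¬ IsIsolatedIn (FAdj S) S X := fun X hX => by
    obtain ⟨D, hD, h⟩ := hall X hX
    exact not_isolated_of_partner' hX hD h
  obtain ⟨B, hBS, hAB⟩ := hall A hA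
  -- F1
  have hF1 : ¬ B ≤ Subgroup.centralizer (C : Set G) := by
    intro hBC
    have h42 := Cfsg.Agent.S5042.result ⟨hS, hcl⟩ hnd hA ⟨hBS, hAB⟩
    have htop : (⊤ : Subgroup G) ≤ Subgroup.centralizer (C : Set G) := by
      rw [← h42]
      apply sup_le _ hBC
      apply iSup₂_le
      intro L hL
      have h1 : L ∈ centralizingMembers S A := ⟨hL.1.1, le_centralizer_of_comm hL.1.2.2⟩
      exact (hsub h1).2
    obtain ⟨D, hD, hCD⟩ := hall C hC
    exact rk1_not_comm hCD (comm_of_le_centralizer (le_trans le_top htop))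
  rcases hS.pair B hBS C hC with h | h | hBC
  · exact absurd (le_centralizer_of_comm (by rwa [Subgroup.commutator_comm])) hF1
  · exact ⟨B, hBS, hAB, RankOnePair_symm h⟩
  -- commutator case
  have hD : ⁅B, C⁆ ∈ S := hBC.1
  have h29 := (Cfsg.Agent.S5029.result hS (hF B hBS) hBS hC hD).2.2.1
  have hDlp : ⁅B, C⁆ ∈ linePartners S B := linePartners_symm hD h29
  obtain ⟨C₂, hC₂lp, hC₂⟩ := Cfsg.Agent.S5042.exists_comm_to hS hall hBS hDlp
  have hC₂S : C₂ ∈ S := hC₂lp.1.1
  have h36 : IsRankOnePair C C₂ :=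
    (Cfsg.Agent.S5036.result hS hBS hC hD hC₂S (by rw [Subgroup.commutator_comm]; exact hC₂)).1
  have hBc := hS.commutative B hBS
  have hcommBC₂ : ∀ b ∈ B, ∀ c ∈ C₂, b * c = c * b := commutator_eq_bot_iff_comm.mp hC₂lp.1.2.2
  have hpart := hC₂lp.2
  -- products are root elements
  have hrootgen : ∀ x ∈ B ⊔ C₂, ∃ E ∈ S, x ∈ E := by
    intro x hx
    by_cases hx1 : x = 1
    · exact ⟨B, hBS, hx1 ▸ B.one_mem⟩
    · obtain ⟨E, hE, hxE⟩ := hpart.2.1 x hx hx1
      exact ⟨E, hE.1, hxE⟩
  -- (a) partners of C on the line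
  have hlineC : ∀ E ∈ membersIn S (B ⊔ C₂), E ≠ B → IsRankOnePair C E := by
    intro E hE hEB
    have hE' : E ∈ membersIn S (C₂ ⊔ B) := by rw [sup_comm]; exact hE
    exact line_members hS hC₂S hC hBS hA (RankOnePair_symm h36) (RankOnePair_symm hAB)
      (fun a ha b hb => (hcommBC₂ b hb a ha).symm) hC₂lp.1.2.1
      (fun a ha _ b hb _ => hrootgen _ (Subgroup.mul_mem _ (Subgroup.mem_sup_right ha)
        (Subgroup.mem_sup_left hb)))
      (commcase_not_rk1 (hS.commutative C hC) (commcase_symm hBC)) hE' hEB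
  -- (b) partners of A on the line
  obtain ⟨E₀, hE₀mem, hE₀ne, h1, h2, h3, h4⟩ :=
    line_structure hS hall hBS hA (RankOnePair_symm hAB) hC₂lp
  have hmembers := line_structure_members hS hBS hA (RankOnePair_symm hAB) h2 h3 h4
  obtain ⟨E₀', hE₀'S, hE₀E₀'⟩ := hall E₀ hE₀mem.1
  have hcommBsup : ∀ b ∈ B, ∀ x ∈ B ⊔ C₂, b * x = x * b := comm_sup_of_comm hBc hcommBC₂
  have hlineA : ∀ E ∈ membersIn S (B ⊔ C₂), E ≠ E₀ → IsRankOnePair A E := by
    intro E hE hEE₀
    have hE' : E ∈ membersIn S (B ⊔ E₀) := by rw [h4]; exact hE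
    exact line_members hS hBS hA hE₀mem.1 hE₀'S (RankOnePair_symm hAB) hE₀E₀'
      (fun b hb e he => hcommBsup b hb e (hE₀mem.2 he)) hE₀ne.symm
      (fun b hb _ e he _ => hrootgen _ (Subgroup.mul_mem _ (Subgroup.mem_sup_left hb)
        (hE₀mem.2 he)))
      (commcase_not_rk1 (hS.commutative A hA) h1) hE' hEE₀
  -- a third point
  have hFS : ⁅A, E₀⁆ ∈ S := h1.1
  obtain ⟨f, hf, hf1⟩ := exists_ne_one_of_ne_bot (hS.ne_bot _ hFS)
  have hB'mem : conjBy B f ∈ membersIn S (B ⊔ C₂) := by
    rw [hmembers]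
    exact Or.inl ⟨f, hf, rfl⟩
  have hB'E₀ : conjBy B f ≠ E₀ := by
    intro h5
    apply hE₀ne
    have hn := commutator_normalized B ⁅A, E₀⁆
    have hfn : f⁻¹ ∈ Subgroup.normalizer ((⁅B, ⁅A, E₀⁆⁆ : Subgroup G) : Set G) :=
      Subgroup.inv_mem _ (hn (Subgroup.mem_sup_right hf))
    rw [h3, mem_normalizer_iff_conjBy] at hfn
    rw [← hfn, ← h5, conjBy_conjBy, inv_mul_cancel, conjBy_one]
  have hB'B : conjBy B f ≠ B := by
    intro h5
    obtain ⟨b, hb, hb1⟩ := exists_ne_one_of_ne_bot (hS.ne_bot _ hBS)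
    obtain ⟨D', hD', hBD'⟩ := hall B hBS
    apply commcase_no_commute hS hBS hD' hBD' h2 hb hb1 hf hf1
    have hfb : f * b * f⁻¹ ∈ B := by
      have := conj_mem_conjBy (g := f) hb
      rwa [h5] at this
    have hc1 : f * b * f⁻¹ * b⁻¹ ∈ B := B.mul_mem hfb (B.inv_mem hb)
    have hc2 : f * b * f⁻¹ * b⁻¹ ∈ E₀ := by
      rw [← h3, Subgroup.commutator_comm]
      have := Subgroup.commutator_mem_commutator hf hb
      simpa [commutatorElement_def] using this
    have hinf : B ⊓ E₀ = ⊥ := hpart.2.2 B ⟨hBS, le_sup_left⟩ E₀ hE₀mem hE₀ne.symm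
    have hc3 : f * b * f⁻¹ * b⁻¹ ∈ B ⊓ E₀ := ⟨hc1, hc2⟩
    rw [hinf, Subgroup.mem_bot] at hc3
    have := congrArg (fun x => x * b * f) hc3
    simp only [one_mul] at this
    rw [← this]; group
  exact ⟨conjBy B f, hB'mem.1, hlineA _ hB'mem hB'E₀, hlineC _ hB'mem hB'B⟩

/-- non-degenerate case, part (2): `A` and `C` commute -/
theorem nondeg_comm2 {G : Type*} [Group G] {S : Set (Subgroup G)} (hS : IsRootSubgroupSet S)
    (hcl : IsConjClassOfSubgroups S) (hnd : IsNondegenerateRootSet S) {A C : Subgroup G}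
    (hA : A ∈ S) (hC : C ∈ S)
    (hsub : rankOnePartners S A ⊆ rankOnePartners S C) : ⁅A, C⁆ = ⊥ := by
  obtain ⟨P, hP, Q, hQ, hPQ⟩ := hnd.2.1
  have hall := all_partners_of_class hS hcl hP hQ hPQ
  have hF : ∀ X ∈ S, ¬ IsIsolatedIn (FAdj S) S X := fun X hX => by
    obtain ⟨D, hD, h⟩ := hall X hX
    exact not_isolated_of_partner' hX hD h
  rcases hS.pair A hA C hC with h | h | hACc
  · exact h
  · exact absurd rfl (hsub ⟨hC, h⟩).2.ne
  · exfalso
    have hD' : ⁅C, A⁆ ∈ S := by rw [Subgroup.commutator_comm]; exact hACc.1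
    have h29 := (Cfsg.Agent.S5029.result hS (hF C hC) hC hA hD').2.2.1
    have hDlp : ⁅C, A⁆ ∈ linePartners S C := linePartners_symm hD' h29
    obtain ⟨C₂, hC₂lp, hC₂⟩ := Cfsg.Agent.S5042.exists_comm_to hS hall hC hDlp
    have hC₂S : C₂ ∈ S := hC₂lp.1.1
    have h36 : IsRankOnePair A C₂ :=
      (Cfsg.Agent.S5036.result hS hC hA hD' hC₂S (by rw [Subgroup.commutator_comm]; exact hC₂)).1
    have h5 := (hsub ⟨hC₂S, h36⟩).2
    exact rk1_not_comm h5 hC₂lp.1.2.2

/-- Let S be a class of abstract root subgroups of G that is either degenerate or non-degenerate (so either the commutator case never occurs, or all three cases occur), and A ≠ C members of S. If every member of S commuting with A commutes with C, then A and C have the same commuting members of S; and if every rank one partner of A is a rank one partner of C, then A and C commute and have the same rank one partners. -/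
theorem result {G : Type*} [Group G] {S : Set (Subgroup G)} (hS : Cfsg.IsRootSubgroupClass S)
    (hdn : Cfsg.IsDegenerateRootSet S ∨ Cfsg.IsNondegenerateRootSet S)
    {A C : Subgroup G} (hA : A ∈ S) (hC : C ∈ S) (hAC : A ≠ C) :
    (Cfsg.centralizingMembers S A ⊆ Cfsg.centralizingMembers S C →
      Cfsg.centralizingMembers S A = Cfsg.centralizingMembers S C) ∧
    (Cfsg.rankOnePartners S A ⊆ Cfsg.rankOnePartners S C →
      ⁅A, C⁆ = ⊥ ∧ Cfsg.rankOnePartners S A = Cfsg.rankOnePartners S C) := by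
  obtain ⟨hSet, hClass⟩ := hS
  -- every member has a rank one partner
  have hall : ∀ X ∈ S, ∃ D ∈ S, IsRankOnePair X D := by
    rcases hdn with hdeg | hnd
    · obtain ⟨P, hP, Q, hQ, hPQ⟩ := exists_rk1_deg hSet hClass hdeg hA hC hAC
      exact all_partners_of_class hSet hClass hP hQ hPQ
    · obtain ⟨P, hP, Q, hQ, hPQ⟩ := hnd.2.1
      exact all_partners_of_class hSet hClass hP hQ hPQ
  have hAc := hSet.commutative A hA
  have hCc := hSet.commutative C hC
  -- the common conclusion from a common partner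
  have hmain : ∀ B ∈ S, IsRankOnePair A B → IsRankOnePair C B → ⁅A, C⁆ = ⊥ →
      IsSpecialRankOnePair A B ∧ IsSpecialRankOnePair C B := by
    intro B hBS hAB hCB hcomm
    rcases hdn with hdeg | hnd
    · have hBc := hSet.commutative B hBS
      exact ⟨special_of_triple hAB hCB hAc hBc hCc hcomm hAC,
        special_of_triple hCB hAB hCc hBc hAc (by rw [Subgroup.commutator_comm]; exact hcomm)
          hAC.symm⟩
    · exact ⟨(Cfsg.Agent.S5034.result ⟨hSet, hClass⟩ hnd hA ⟨hBS, hAB⟩).2,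
        (Cfsg.Agent.S5034.result ⟨hSet, hClass⟩ hnd hC ⟨hBS, hCB⟩).2⟩
  constructor
  · intro hsub
    have hAΓ : A ∈ centralizingMembers S A :=
      ⟨hA, fun x hx => Subgroup.mem_centralizer_iff.mpr
        (fun y hy => comm_of_isMulCommutative hAc hy hx)⟩
    have hcomm : ⁅A, C⁆ = ⊥ := by
      rw [Subgroup.commutator_comm]
      exact comm_of_le_centralizer (hsub hAΓ).2
    have hB : ∃ B ∈ S, IsRankOnePair A B ∧ IsRankOnePair C B := by
      rcases hdn with hdeg | hnd
      · obtain ⟨B, hBS, hCB⟩ := hall C hC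
        refine ⟨B, hBS, ?_, hCB⟩
        rcases hSet.pair A hA B hBS with h | h | h
        · exfalso
          have h1 : B ∈ centralizingMembers S A := ⟨hBS, le_centralizer_of_comm h⟩
          exact rk1_not_comm hCB (comm_of_le_centralizer (hsub h1).2)
        · exact h
        · exact absurd h (hdeg A hA B hBS)
      · exact nondeg_B1 hSet hClass hnd hA hC hsub
    obtain ⟨B, hBS, hAB, hCB⟩ := hB
    obtain ⟨hsA, hsC⟩ := hmain B hBS hAB hCB hcomm
    apply Set.Subset.antisymm hsub
    intro D hD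
    exact family_transfer (P := fun X D => D ∈ centralizingMembers S X) (gamma_conj hSet)
      hsA hsC (commutator_eq_bot_iff_comm.mp hcomm) (fun D hD => hsub hD) D hD
  · intro hsub
    have hcomm : ⁅A, C⁆ = ⊥ := by
      rcases hdn with hdeg | hnd
      · rcases hSet.pair A hA C hC with h | h | h
        · exact h
        · exact absurd rfl (hsub ⟨hC, h⟩).2.ne
        · exact absurd h (hdeg A hA C hC)
      · exact nondeg_comm2 hSet hClass hnd hA hC hsub
    refine ⟨hcomm, ?_⟩
    obtain ⟨B, hBS, hAB⟩ := hall A hA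
    have hCB : IsRankOnePair C B := (hsub ⟨hBS, hAB⟩).2
    obtain ⟨hsA, hsC⟩ := hmain B hBS hAB hCB hcomm
    apply Set.Subset.antisymm hsub
    intro D hD
    exact family_transfer (P := fun X D => D ∈ rankOnePartners S X) (omega_conj hSet)
      hsA hsC (commutator_eq_bot_iff_comm.mp hcomm) (fun D hD => hsub hD) D hD

end Cfsg.Agent.S5037
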