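import Cfsg.Statements.S5039
import Cfsg.Agent.Lib.Helper86.Siegel2
import Cfsg.Agent.S5016
import Cfsg.Agent.S5032
import Cfsg.Agent.S5034

set_option autoImplicit false
universe u
open Cfsg

namespace Cfsg.Agent.S5039

open Cfsg.Agent.Lib.Helper86

theorem exists_common_partner {G : Type*} [Group G] {S : Set (Subgroup G)}
    (hS : IsRootSubgroupSet S) (hdeg : IsDegenerateRootSet S)
    (hconn : IsConnectedFamily (FAdj S) S) {A C : Subgroup G}
    (hA : A ∈ S) (hC : C ∈ S) (hAC : ⁅A, C⁆ = ⊥) (hne : A ≠ C) :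
    ∃ E ∈ S, IsRankOnePair A E ∧ IsRankOnePair C E := by
  by_contra hcon
  push Not at hcon
  have claim : ∀ D, Relation.ReflTransGen (FAdj S) A D →
      (D ∈ S ∧ ⁅D, C⁆ = ⊥ ∧ D ≠ C ∧ ∀ E ∈ S, IsRankOnePair D E → ¬ IsRankOnePair C E) := by
    intro D hD
    induction hD with
    | refl => exact ⟨hA, hAC, hne, hcon⟩
    | @tail D D' _ hstep ih =>
      obtain ⟨hDS, hDC, hDne, hDall⟩ := ih
      obtain ⟨-, hD'S, hDD'⟩ := hstep
      have h1 : ¬ IsRankOnePair C D' := hDall D' hD'S hDD'
      have h2 : D' ≠ C := by rintro rfl; exact rk1_not_comm hDD' hDC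
      have h3 : ⁅D', C⁆ = ⊥ := by
        rcases hS.pair D' hD'S C hC with h | h | h
        · exact h
        · exact absurd (RankOnePair_symm h) h1
        · exact absurd h (hdeg D' hD'S C hC)
      refine ⟨hD'S, h3, h2, ?_⟩
      obtain ⟨d, hd, hd1⟩ := rk1_exists_ne_one hDD'
      obtain ⟨d', hp⟩ := ptn_exists_left hDD' hd hd1
      have hxD : conjBy D' (d' * d⁻¹) = D := by
        rw [← conjBy_conjBy, ← hp.2.2.2.2, conjBy_conjBy, mul_inv_cancel, conjBy_one]
      have hxC : conjBy C (d' * d⁻¹) = C := by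
        apply conjBy_eq_of_commute
        intro y hy
        have c1 := commutator_eq_bot_iff_comm.mp h3 d' hp.2.2.1 y hy
        have c2 := commutator_eq_bot_iff_comm.mp hDC d⁻¹ (D.inv_mem hd) y hy
        calc y * (d' * d⁻¹) = (y * d') * d⁻¹ := by group
          _ = (d' * y) * d⁻¹ := by rw [c1]
          _ = d' * (y * d⁻¹) := by group
          _ = d' * (d⁻¹ * y) := by rw [c2]
          _ = d' * d⁻¹ * y := by group
      intro E hE hD'E hCE
      have r1 := rk1_conj hD'E (d' * d⁻¹)
      have r2 := rk1_conj hCE (d' * d⁻¹)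
      rw [hxD] at r1
      rw [hxC] at r2
      exact hDall _ (hS.conj_mem E hE _) r1 r2
  exact (claim C (hconn A hA C hC)).2.2.1 rfl

theorem exists_notMem_of_card {k : Type*} (hk : 3 < ENat.card k) (s : Finset k)
    (hs : s.card ≤ 3) : ∃ x, x ∉ s := by
  by_contra h
  push Not at h
  letI : Fintype k := ⟨s, h⟩
  have e1 : ENat.card k = (Fintype.card k : ℕ∞) := ENat.card_eq_coe_fintype_card
  rw [e1] at hk
  have h2 : Fintype.card k = s.card := rfl
  rw [h2] at hk
  have h3 : 3 < s.card := by exact_mod_cast hk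
  omega

section SL2
open Cfsg.Agent.S5016
variable {k : Type*} [Field k]

theorem Uel_mul' (c c' : k) : Uel c * Uel c' = Uel (c + c') := by
  apply sl2_ext <;> simp [Cfsg.Agent.S5016.mul_apply', add_comm]

theorem Lel_mul' (c c' : k) : Lel c * Lel c' = Lel (c + c') := by
  apply sl2_ext <;> simp [Cfsg.Agent.S5016.mul_apply', add_comm]

theorem Uel_center {c : k}
    (h : Uel c ∈ Subgroup.center (Matrix.SpecialLinearGroup (Fin 2) k)) :
    c = 0 := by
  have h1 := Subgroup.mem_center_iff.mp h (Lel 1)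
  have h2 := congrArg (fun g : Matrix.SpecialLinearGroup (Fin 2) k => g 0 0) h1
  simp only [Cfsg.Agent.S5016.mul_apply', Lel_00, Lel_01, Lel_10, Uel_00, Uel_01, Uel_10] at h2
  linear_combination -h2

theorem Lel_center {c : k}
    (h : Lel c ∈ Subgroup.center (Matrix.SpecialLinearGroup (Fin 2) k)) :
    c = 0 := by
  have h1 := Subgroup.mem_center_iff.mp h (Uel 1)
  have h2 := congrArg (fun g : Matrix.SpecialLinearGroup (Fin 2) k => g 1 1) h1
  simp only [Cfsg.Agent.S5016.mul_apply', Lel_11, Lel_01, Lel_10, Uel_11, Uel_01, Uel_10] at h2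
  linear_combination -h2

end SL2

/-- Let S be a class of abstract root subgroups of G containing two different commuting members. Suppose that, in case S is degenerate and every element of every member of S has order at most 3, the following holds: for every A ∈ S and every rank one partner B of A there are subgroups A₀ ≤ A and B₀ ≤ B generating an image of SL₂(k) with central kernel, k a field with at least four elements, A₀ and B₀ being the images of the unitriangular subgroups. Then every rank one pair A, B in S is special. -/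
theorem result {G : Type u} [Group G] {S : Set (Subgroup G)} (hS : Cfsg.IsRootSubgroupClass S)
    (hcomm : ∃ A ∈ S, ∃ C ∈ S, A ≠ C ∧ ⁅A, C⁆ = ⊥)
    (hH : Cfsg.IsDegenerateRootSet S → (∀ A ∈ S, ∀ a ∈ A, 0 < orderOf a ∧ orderOf a ≤ 3) →
      ∀ A ∈ S, ∀ B ∈ Cfsg.rankOnePartners S A, ∃ A₀ B₀ : Subgroup G, A₀ ≤ A ∧ B₀ ≤ B ∧
        ∃ (k : Type u) (_ : Field k), 3 < ENat.card k ∧ Cfsg.IsPSL2PairOver k A₀ B₀)
    {A B : Subgroup G} (hA : A ∈ S) (hB : B ∈ Cfsg.rankOnePartners S A) : Cfsg.IsSpecialRankOnePair A B := by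
  obtain ⟨hSet, hClass⟩ := hS
  obtain ⟨hBS, hAB⟩ := hB
  by_cases hdeg : IsDegenerateRootSet S
  swap
  · have hnd : IsNondegenerateRootSet S := by
      refine ⟨hcomm, ⟨A, hA, B, hBS, hAB⟩, ?_⟩
      unfold IsDegenerateRootSet at hdeg
      push Not at hdeg
      exact hdeg
    exact (Cfsg.Agent.S5034.result ⟨hSet, hClass⟩ hnd hA ⟨hBS, hAB⟩).2
  have hAc := hSet.commutative A hA
  have hBc := hSet.commutative B hBS
  by_cases h1 : ∃ C ∈ S, ⁅A, C⁆ = ⊥ ∧ A ≠ C ∧ IsRankOnePair C B
  · obtain ⟨C, hC, hAC, hne, hCB⟩ := h1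
    exact special_of_triple hAB hCB hAc hBc (hSet.commutative C hC) hAC hne
  push Not at h1
  have hsub : ∀ D ∈ S, ⁅D, A⁆ = ⊥ → D ≠ A → D ≤ Subgroup.centralizer (B : Set G) := by
    intro D hD hDA hDne
    rcases hSet.pair D hD B hBS with h | h | h
    · exact Subgroup.commutator_eq_bot_iff_le_centralizer.mp h
    · exact absurd h (h1 D hD (by rwa [Subgroup.commutator_comm]) (Ne.symm hDne))
    · exact absurd h (hdeg D hD B hBS)
  obtain ⟨A', hA', C', hC', hne', hc'⟩ := hcomm
  obtain ⟨x, hx⟩ := hClass.2 A' hA' A hA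
  have hCS : conjBy C' x ∈ S := hSet.conj_mem C' hC' x
  have hAC : ⁅A, conjBy C' x⁆ = ⊥ := by rw [hx, conjBy_commutator, hc', conjBy_bot]
  have hneAC : A ≠ conjBy C' x := by
    rw [hx]; intro h; exact hne' (conjBy_inj.mp h)
  have hconn : IsConnectedFamily (FAdj S) S :=
    (Cfsg.Agent.S5032.result hSet ⟨A, hA, B, hBS, hAB.ne⟩).mpr
      ⟨hClass, A, hA, not_isolated_of_partner' hA hBS hAB⟩
  obtain ⟨E, hES, hAE, hCE⟩ := exists_common_partner hSet hdeg hconn hA hCS hAC hneAC
  have hEc := hSet.commutative E hES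
  have hCc := hSet.commutative _ hCS
  have hsAE : IsSpecialRankOnePair A E := special_of_triple hAE hCE hAc hEc hCc hAC hneAC
  obtain ⟨g, hgA, hEg, hEne⟩ := siegel_exists hAE hCE hAc hAC hneAC
  by_cases hP : FreeTriple E
  · exfalso
    obtain ⟨e₂, h2, e₃, h3, e₄, h4, n2, n3, n4, n23, n24, n34, n234⟩ := hP
    have hle : A ≤ Subgroup.centralizer (B : Set G) := by
      refine siegel_main hsAE hAc hEc hgA (by rw [Subgroup.commutator_comm]; exact hEg)
        (Ne.symm hEne) h2 h3 h4 n2 n3 n4 n23 n24 n34 n234 _ ?_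
      intro y hc hn
      exact hsub _ (hSet.conj_mem A hA y⁻¹) hc hn
    exact rk1_not_comm hAB (Subgroup.commutator_eq_bot_iff_le_centralizer.mpr hle)
  · have hPD : ∀ D ∈ S, ¬ FreeTriple D := by
      intro D hD h
      obtain ⟨y, hy⟩ := hClass.2 D hD E hES
      apply hP
      rw [hy]
      exact freeTriple_conj h y
    have hord : ∀ D ∈ S, ∀ d ∈ D, 0 < orderOf d ∧ orderOf d ≤ 3 :=
      fun D hD d hd => order_le_three_of_not_freeTriple (hPD D hD) hd
    obtain ⟨A₀, B₀, hA₀, hB₀, k, _, hk, φ, -, hker, hU, hL⟩ :=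
      hH hdeg hord A hA B ⟨hBS, hAB⟩
    classical
    obtain ⟨s, hs⟩ := exists_notMem_of_card hk {0, -1} (Finset.card_le_two.trans (by norm_num))
    have hs0 : s ≠ 0 := by intro h; apply hs; simp [h]
    have hs1 : 1 + s ≠ 0 := by
      intro h; apply hs
      have : s = -1 := by linear_combination h
      simp [this]
    have hφU : ∀ c : k, φ (Cfsg.Agent.S5016.Uel c) = 1 → c = 0 := by
      intro c hc
      exact Uel_center (hker (MonoidHom.mem_ker.mpr hc))
    have hφL : ∀ c : k, φ (Cfsg.Agent.S5016.Lel c) = 1 → c = 0 := by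
      intro c hc
      exact Lel_center (hker (MonoidHom.mem_ker.mpr hc))
    have hUmem : ∀ c : k, φ (Cfsg.Agent.S5016.Uel c) ∈ A₀ := by
      intro c
      rw [← hU, Cfsg.Agent.S5016.upper_eq]
      exact Subgroup.mem_map_of_mem φ (Cfsg.Agent.S5016.Uel_mem c)
    have hLmem : ∀ c : k, φ (Cfsg.Agent.S5016.Lel c) ∈ B₀ := by
      intro c
      rw [← hL, Cfsg.Agent.S5016.lower_eq]
      exact Subgroup.mem_map_of_mem φ (Cfsg.Agent.S5016.Lel_mem c)
    have hAeq : A₀ = A := by
      apply le_antisymm hA₀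
      refine le_of_not_freeTriple (hPD A hA) hA₀ (hUmem 1) (hUmem s) ?_ ?_ ?_
      · intro h; exact one_ne_zero (hφU 1 h)
      · intro h; exact hs0 (hφU s h)
      · rw [← map_mul, Uel_mul']
        intro h; exact hs1 (hφU _ h)
    have hBeq : B₀ = B := by
      apply le_antisymm hB₀
      refine le_of_not_freeTriple (hPD B hBS) hB₀ (hLmem 1) (hLmem s) ?_ ?_ ?_
      · intro h; exact one_ne_zero (hφL 1 h)
      · intro h; exact hs0 (hφL s h)
      · rw [← map_mul, Lel_mul']
        intro h; exact hs1 (hφL _ h)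
    have hsp := special_symm (Cfsg.Agent.S5016.result k).2.1
    have hrk : IsRankOnePair ((upperUnipotentSL2 k).map φ) ((lowerUnipotentSL2 k).map φ) := by
      rw [hU, hL, hAeq, hBeq]; exact hAB
    have := special_of_hom hsp φ hker hrk
    rwa [hU, hL, hAeq, hBeq] at this

end Cfsg.Agent.S5039
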