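import Cfsg.Statements.S5040
import Cfsg.Agent.Lib.Helper86.Connect
import Cfsg.Agent.S5042

set_option autoImplicit false
open Cfsg

namespace Cfsg.Agent.S5040

open Cfsg.Agent.Lib.Helper86
open scoped commutatorElement

/-- the stabilizer of a family of subgroups under conjugation -/
def famStab {G : Type*} [Group G] (Δ : Set (Subgroup G)) : Subgroup G where
  carrier := {g | ∀ A, A ∈ Δ ↔ conjBy A g ∈ Δ}
  one_mem' := fun A => by rw [conjBy_one]
  mul_mem' := by
    intro g h hg hh A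
    rw [← conjBy_conjBy]
    exact (hh A).trans (hg _)
  inv_mem' := by
    intro g hg A
    have := hg (conjBy A g⁻¹)
    rw [conjBy_conjBy, mul_inv_cancel, conjBy_one] at this
    exact this.symm

theorem mem_famStab {G : Type*} [Group G] {Δ : Set (Subgroup G)} {g : G} :
    g ∈ famStab Δ ↔ ∀ A, A ∈ Δ ↔ conjBy A g ∈ Δ := Iff.rfl

theorem mem_famStab_of_fix {G : Type*} [Group G] {S Δ : Set (Subgroup G)}
    (hΔ : IsWeakTISubset S Δ) {A' D : Subgroup G} (hA' : A' ∈ Δ) (hD : D ∈ S) {d : G} (hd : d ∈ D)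
    (hfix : conjBy A' d = A') : d ∈ famStab Δ := by
  by_cases hd1 : d = 1
  · rw [hd1]; exact Subgroup.one_mem _
  · have hroot : d ∈ rootElements S := ⟨hd1, D, hD, hd⟩
    rcases hΔ.2.2.2 d hroot with h | h
    · intro A
      constructor
      · intro hA
        rw [← h]
        exact ⟨A, hA, rfl⟩
      · intro hA
        rw [← h] at hA
        obtain ⟨A₁, hA₁, he⟩ := hA
        have : A₁ = A := conjBy_inj.mp he
        rw [← this]; exact hA₁
    · exfalso
      have h1 : A' ∈ (fun A => conjBy A d) '' Δ := ⟨A', hA', hfix⟩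
      exact Set.disjoint_left.mp h h1 hA'

theorem le_famStab_of_comm {G : Type*} [Group G] {S Δ : Set (Subgroup G)}
    (hΔ : IsWeakTISubset S Δ) {A' D : Subgroup G} (hA' : A' ∈ Δ) (hD : D ∈ S)
    (hcomm : ∀ x ∈ A', ∀ d ∈ D, x * d = d * x) : D ≤ famStab Δ := by
  intro d hd
  exact mem_famStab_of_fix hΔ hA' hD hd (conjBy_eq_of_commute fun x hx => hcomm x hx d hd)

theorem self_le_famStab {G : Type*} [Group G] {S Δ : Set (Subgroup G)}
    (hΔ : IsWeakTISubset S Δ) {A' : Subgroup G} (hA' : A' ∈ Δ) : A' ≤ famStab Δ := by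
  intro d hd
  exact mem_famStab_of_fix hΔ hA' (hΔ.1 hA') hd (conjBy_self_mem hd)

/-- a weak TI-subset of a non-degenerate class contains no rank one pair -/
theorem no_rk1 {G : Type*} [Group G] {S : Set (Subgroup G)} (hS : Cfsg.IsRootSubgroupClass S)
    (hnd : Cfsg.IsNondegenerateRootSet S) {Δ : Set (Subgroup G)} (hΔ : Cfsg.IsWeakTISubset S Δ)
    {A B : Subgroup G} (hA : A ∈ Δ) (hB : B ∈ Δ) (hAB : IsRankOnePair A B) : False := by
  have hAS := hΔ.1 hA
  have hBS := hΔ.1 hB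
  have htop := Cfsg.Agent.S5042.result hS hnd hAS ⟨hBS, hAB⟩
  have hle : (⨆ C ∈ Cfsg.linePartners S A, C) ⊔ B ≤ famStab Δ := by
    apply sup_le
    · apply iSup₂_le
      intro L hL
      have hcomm := commutator_eq_bot_iff_comm.mp hL.1.2.2
      exact le_famStab_of_comm hΔ hA hL.1.1 hcomm
    · exact self_le_famStab hΔ hB
  rw [htop] at hle
  apply hΔ.2.2.1
  apply Set.Subset.antisymm hΔ.1
  intro C hC
  obtain ⟨g, rfl⟩ := hS.2.2 A hAS C hC
  exact (mem_famStab.mp (hle (Subgroup.mem_top g)) A).mp hA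

/-- Let S be a non-degenerate class of abstract root subgroups of G and Δ a weak TI-subset of S. Then the members of Δ commute with one another elementwise. -/
theorem result {G : Type*} [Group G] {S : Set (Subgroup G)} (hS : Cfsg.IsRootSubgroupClass S) (hnd : Cfsg.IsNondegenerateRootSet S)
    {Δ : Set (Subgroup G)} (hΔ : Cfsg.IsWeakTISubset S Δ) : Cfsg.IsAbelianFamily Δ := by
  obtain ⟨P, hP, Q, hQ, hPQ⟩ := hnd.2.1
  have hall := all_partners_of_class hS.1 hS.2 hP hQ hPQ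
  have hF : ∀ A ∈ S, ¬ IsIsolatedIn (FAdj S) S A := fun A hA => by
    obtain ⟨D, hD, h⟩ := hall A hA
    exact not_isolated_of_partner' hA hD h
  intro A hA B hB
  have hAS := hΔ.1 hA
  have hBS := hΔ.1 hB
  rcases hS.1.pair A hAS B hBS with h | h | h
  · exact commutator_eq_bot_iff_comm.mp h
  · exact (no_rk1 hS hnd hΔ hA hB h).elim
  · exfalso
    have hC : ⁅B, A⁆ ∈ S := by rw [Subgroup.commutator_comm]; exact h.1
    have h29 := (Cfsg.Agent.S5029.result hS.1 (hF B hBS) hBS hAS hC).2.2.1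
    have hFΛ : ⁅B, A⁆ ∈ linePartners S B := linePartners_symm hC h29
    obtain ⟨C₂, hC₂Λ, hC₂⟩ := Cfsg.Agent.S5042.exists_comm_to hS.1 hall hBS hFΛ
    have hDC : ⁅C₂, ⁅B, A⁆⁆ = B := by rw [Subgroup.commutator_comm]; exact hC₂
    have hrk : IsRankOnePair A C₂ := (Cfsg.Agent.S5036.result hS.1 hBS hAS hC hC₂Λ.1.1 hDC).1
    have hcomm := commutator_eq_bot_iff_comm.mp hC₂Λ.1.2.2
    have h1 : C₂ ≤ famStab Δ := le_famStab_of_comm hΔ hB hC₂Λ.1.1 hcomm
    have h2 : A ≤ famStab Δ := self_le_famStab hΔ hA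
    obtain ⟨x, hx, hCx⟩ := rk1_B_mem_unipotent hrk
    have hx' : x ∈ famStab Δ := (sup_le h2 h1) hx
    have hC₂Δ : C₂ ∈ Δ := by
      rw [hCx]
      exact (mem_famStab.mp hx' A).mp hA
    exact no_rk1 hS hnd hΔ hA hC₂Δ hrk

end Cfsg.Agent.S5040
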