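import Cfsg.Statements.S5043
import Cfsg.Agent.Lib.Helper86.Transv2
import Cfsg.Agent.Lib.Helper07.SLGen
import Cfsg.Agent.S5016

set_option autoImplicit false
open Cfsg

namespace Cfsg.Agent.S5043

open Cfsg.Agent.Lib.Helper86 Matrix

section Hom
variable {ι : Type*} [Fintype ι] [DecidableEq ι] {k : Type*} [Field k]

/-- the `ι × 2` matrix with columns `v`, `w` -/
def Lm (v w : ι → k) : Matrix ι (Fin 2) k := Matrix.of fun i j => if j = 0 then v i else w i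

/-- the `2 × ι` matrix with rows `ψ'`, `φ'` -/
def Rm (ψ' φ' : ι → k) : Matrix (Fin 2) ι k := Matrix.of fun j i => if j = 0 then ψ' i else φ' i

theorem Rm_mul_Lm (v w ψ' φ' : ι → k) (h1 : ψ' ⬝ᵥ v = 1) (h2 : ψ' ⬝ᵥ w = 0) (h3 : φ' ⬝ᵥ v = 0)
    (h4 : φ' ⬝ᵥ w = 1) : Rm ψ' φ' * Lm v w = 1 := by
  ext a b
  fin_cases a <;> fin_cases b <;> simp [Matrix.mul_apply, Rm, Lm]
  · exact h1
  · exact h2
  · exact h3
  · exact h4

/-- the embedded matrix -/
def embM (L : Matrix ι (Fin 2) k) (R : Matrix (Fin 2) ι k) (g : Matrix (Fin 2) (Fin 2) k) :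
    Matrix ι ι k := 1 + L * (g - 1) * R

theorem embM_det {L : Matrix ι (Fin 2) k} {R : Matrix (Fin 2) ι k} (hRL : R * L = 1)
    (g : Matrix (Fin 2) (Fin 2) k) : (embM L R g).det = g.det := by
  unfold embM
  rw [Matrix.mul_assoc, Matrix.det_one_add_mul_comm, Matrix.mul_assoc, hRL, Matrix.mul_one,
    add_sub_cancel]

theorem embM_mul {L : Matrix ι (Fin 2) k} {R : Matrix (Fin 2) ι k} (hRL : R * L = 1)
    (g h : Matrix (Fin 2) (Fin 2) k) : embM L R (g * h) = embM L R g * embM L R h := by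
  unfold embM
  have e1 : L * (g - 1) * R * (L * (h - 1) * R) = L * ((g - 1) * (h - 1)) * R := by
    simp only [Matrix.mul_assoc]
    rw [← Matrix.mul_assoc R L, hRL, Matrix.one_mul]
  have e2 : g * h - 1 = (g - 1) + (h - 1) + (g - 1) * (h - 1) := by noncomm_ring
  rw [mul_add, add_mul, add_mul, one_mul, mul_one, one_mul, e1, e2, Matrix.mul_add, Matrix.mul_add,
    Matrix.add_mul, Matrix.add_mul]
  abel

theorem embM_one (L : Matrix ι (Fin 2) k) (R : Matrix (Fin 2) ι k) : embM L R 1 = 1 := by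
  unfold embM
  rw [sub_self, Matrix.mul_zero, Matrix.zero_mul, add_zero]

/-- the embedding of `SL₂` attached to a hyperbolic pair -/
def emb (L : Matrix ι (Fin 2) k) (R : Matrix (Fin 2) ι k) (hRL : R * L = 1) :
    Matrix.SpecialLinearGroup (Fin 2) k →* Matrix.SpecialLinearGroup ι k :=
  MonoidHom.mk' (fun g => ⟨embM L R g.1, by rw [embM_det hRL, g.2]⟩)
    (fun g h => Subtype.ext (by
      simp only [Matrix.SpecialLinearGroup.coe_mul]
      exact embM_mul hRL g.1 h.1))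

theorem emb_coe (L : Matrix ι (Fin 2) k) (R : Matrix (Fin 2) ι k) (hRL : R * L = 1)
    (g : Matrix.SpecialLinearGroup (Fin 2) k) :
    ((emb L R hRL g : Matrix.SpecialLinearGroup ι k) : Matrix ι ι k) = embM L R g.1 := rfl

theorem emb_injective (L : Matrix ι (Fin 2) k) (R : Matrix (Fin 2) ι k) (hRL : R * L = 1) :
    Function.Injective (emb L R hRL) := by
  rw [injective_iff_map_eq_one]
  intro g hg
  have h1 := congrArg (fun x : Matrix.SpecialLinearGroup ι k => (x : Matrix ι ι k)) hg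
  simp only [emb_coe, Matrix.SpecialLinearGroup.coe_one] at h1
  unfold embM at h1
  have h2 : L * (g.1 - 1) * R = 0 := by
    have := add_left_cancel (a := (1 : Matrix ι ι k)) (b := L * (g.1 - 1) * R) (c := 0)
      (by rw [h1, add_zero])
    exact this
  have h3 : R * (L * (g.1 - 1) * R) * L = 0 := by rw [h2, Matrix.mul_zero, Matrix.zero_mul]
  have h4 : R * (L * (g.1 - 1) * R) * L = g.1 - 1 := by
    simp only [Matrix.mul_assoc]
    rw [hRL, Matrix.mul_one, ← Matrix.mul_assoc, hRL, Matrix.one_mul]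
  rw [h4] at h3
  apply Subtype.ext
  rw [Matrix.SpecialLinearGroup.coe_one]
  exact sub_eq_zero.mp h3

open Cfsg.Agent.S5016 in
theorem emb_Uel (v w ψ' φ' : ι → k) (hRL : Rm ψ' φ' * Lm v w = 1) (s : k)
    (h : φ' ⬝ᵥ (s • v) = 0) :
    emb (Lm v w) (Rm ψ' φ') hRL (Uel s) = tvS (s • v) φ' h := by
  apply Subtype.ext
  rw [emb_coe, tvS_coe]
  unfold embM
  congr 1
  ext i j
  simp [Matrix.mul_apply, Fin.sum_univ_two, Lm, Rm, vecMulVec_apply, Uel]
  left; ring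

open Cfsg.Agent.S5016 in
theorem emb_Lel (v w ψ' φ' : ι → k) (hRL : Rm ψ' φ' * Lm v w = 1) (t : k)
    (h : ψ' ⬝ᵥ (t • w) = 0) :
    emb (Lm v w) (Rm ψ' φ') hRL (Lel t) = tvS (t • w) ψ' h := by
  apply Subtype.ext
  rw [emb_coe, tvS_coe]
  unfold embM
  congr 1
  ext i j
  simp [Matrix.mul_apply, Fin.sum_univ_two, Lm, Rm, vecMulVec_apply, Lel]
  left; ring

open Cfsg.Agent.S5016 in
theorem TV_psl2 (v φ w ψ : ι → k) (h : φ ⬝ᵥ v = 0) (h' : ψ ⬝ᵥ w = 0)
    (hα : φ ⬝ᵥ w ≠ 0) (hβ : ψ ⬝ᵥ v ≠ 0) :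
    IsPSL2PairOver k (TV v φ h) (TV w ψ h') := by
  set α := φ ⬝ᵥ w with hαdef
  set β := ψ ⬝ᵥ v with hβdef
  have hRL : Rm (β⁻¹ • ψ) (α⁻¹ • φ) * Lm v w = 1 := by
    apply Rm_mul_Lm
    · rw [smul_dotProduct, ← hβdef, smul_eq_mul, inv_mul_cancel₀ hβ]
    · rw [smul_dotProduct, h', smul_zero]
    · rw [smul_dotProduct, h, smul_zero]
    · rw [smul_dotProduct, ← hαdef, smul_eq_mul, inv_mul_cancel₀ hα]
  have hφ' : (α⁻¹ • φ) ⬝ᵥ v = 0 := by rw [smul_dotProduct, h, smul_zero]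
  have hψ' : (β⁻¹ • ψ) ⬝ᵥ w = 0 := by rw [smul_dotProduct, h', smul_zero]
  have hA : TV v (α⁻¹ • φ) hφ' = TV v φ h := by
    have := TV_smul v φ h 1 α⁻¹ one_ne_zero (inv_ne_zero hα) (by rw [one_smul]; exact hφ')
    rw [← this]
    exact TV_congr _ (one_smul k v).symm rfl
  have hB : TV w (β⁻¹ • ψ) hψ' = TV w ψ h' := by
    have := TV_smul w ψ h' 1 β⁻¹ one_ne_zero (inv_ne_zero hβ) (by rw [one_smul]; exact hψ')
    rw [← this]
    exact TV_congr _ (one_smul k w).symm rfl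
  set Φ := emb (Lm v w) (Rm (β⁻¹ • ψ) (α⁻¹ • φ)) hRL with hΦ
  have hU : (upperUnipotentSL2 k).map Φ = TV v φ h := by
    rw [upper_eq, ← hA]
    ext x
    rw [Subgroup.mem_map]
    constructor
    · rintro ⟨g, hg, rfl⟩
      rw [eq_Uel hg, hΦ, emb_Uel v w _ _ hRL _ (dot_smul_zero hφ' _)]
      exact ⟨_, rfl⟩
    · rintro ⟨c, rfl⟩
      exact ⟨Uel c, Uel_mem c, emb_Uel v w _ _ hRL c _⟩
  have hL : (lowerUnipotentSL2 k).map Φ = TV w ψ h' := by
    rw [lower_eq, ← hB]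
    ext x
    rw [Subgroup.mem_map]
    constructor
    · rintro ⟨g, hg, rfl⟩
      rw [eq_Lel hg, hΦ, emb_Lel v w _ _ hRL _ (dot_smul_zero hψ' _)]
      exact ⟨_, rfl⟩
    · rintro ⟨c, rfl⟩
      exact ⟨Lel c, Lel_mem c, emb_Lel v w _ _ hRL c _⟩
  refine ⟨Φ, ?_, ?_, hU, hL⟩
  · rw [MonoidHom.range_eq_map, ← sl2_gen, Subgroup.map_sup, ← lower_eq, ← upper_eq, hU, hL, sup_comm]
  · have : Φ.ker = ⊥ := (MonoidHom.ker_eq_bot_iff Φ).mpr (emb_injective _ _ hRL)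
    rw [this]
    exact bot_le

end Hom

section Class
variable {ι : Type*} [Fintype ι] [DecidableEq ι] {k : Type*} [Field k]

/-- all transvection subgroups -/
def tvSubs (ι : Type*) [Fintype ι] [DecidableEq ι] (k : Type*) [Field k] :
    Set (Subgroup (Matrix.SpecialLinearGroup ι k)) :=
  {A | ∃ (v φ : ι → k) (h : φ ⬝ᵥ v = 0), v ≠ 0 ∧ φ ≠ 0 ∧ A = TV v φ h}

theorem TV_mem_tvSubs (v φ : ι → k) (h : φ ⬝ᵥ v = 0) (hv : v ≠ 0) (hφ : φ ≠ 0) :
    TV v φ h ∈ tvSubs ι k := ⟨v, φ, h, hv, hφ, rfl⟩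

theorem tvSubs_conj {A : Subgroup (Matrix.SpecialLinearGroup ι k)} (hA : A ∈ tvSubs ι k)
    (g : Matrix.SpecialLinearGroup ι k) : conjBy A g ∈ tvSubs ι k := by
  obtain ⟨v, φ, h, hv, hφ, rfl⟩ := hA
  rw [conjBy_TV g v φ h ((sl_conj_dot g v φ).trans h)]
  exact TV_mem_tvSubs _ _ _ (fun h0 => hv (sl_mulVec_eq_zero g h0))
    (fun h0 => hφ (sl_vecMul_eq_zero g⁻¹ h0))

theorem tvSubs_pair {A B : Subgroup (Matrix.SpecialLinearGroup ι k)} (hA : A ∈ tvSubs ι k)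
    (hB : B ∈ tvSubs ι k) :
    ⁅A, B⁆ = ⊥ ∨ IsRankOnePair A B ∨ RootCommutatorCase (tvSubs ι k) A B := by
  obtain ⟨v, φ, h, hv, hφ, rfl⟩ := hA
  obtain ⟨w, ψ, h', hw, hψ, rfl⟩ := hB
  by_cases hα : φ ⬝ᵥ w = 0
  · by_cases hβ : ψ ⬝ᵥ v = 0
    · left; exact commutator_eq_bot_iff_comm.mpr (TV_commute v φ w ψ h h' hα hβ)
    · right; right
      exact commcase_symm (TV_commcase _ w ψ v φ h' h hβ hα (TV_mem_tvSubs w φ hα hw hφ))
  · by_cases hβ : ψ ⬝ᵥ v = 0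
    · right; right; exact TV_commcase _ v φ w ψ h h' hα hβ (TV_mem_tvSubs v ψ hβ hv hψ)
    · right; left; exact TV_rankOnePair v φ w ψ h h' hα hβ hv hφ hw hψ

theorem tvSubs_generates : (⨆ A ∈ tvSubs ι k, A) = ⊤ := by
  apply Cfsg.Agent.Lib.Helper07.eq_top_of_transvection_mem
  intro i j hij c
  have hmem := sl_transvection_mem_TV (k := k) hij c
  have hle : TV (Pi.single i (1 : k)) (Pi.single j (1 : k)) (single_dot_single_ne hij) ≤
      ⨆ A ∈ tvSubs ι k, A :=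
    le_iSup₂ (f := fun A (_ : A ∈ tvSubs ι k) => A) _
      (TV_mem_tvSubs _ _ _ (pi_single_ne_zero' i one_ne_zero) (pi_single_ne_zero' j one_ne_zero))
  exact hle hmem

theorem tvSubs_rootSet : IsRootSubgroupSet (tvSubs ι k) where
  commutative := by rintro _ ⟨v, φ, h, -, -, rfl⟩; exact TV_comm v φ h
  ne_bot := by rintro _ ⟨v, φ, h, hv, hφ, rfl⟩; exact TV_ne_bot v φ h hv hφ
  generates := tvSubs_generates
  conj_mem := fun A hA g => tvSubs_conj hA g
  pair := fun A hA B hB => tvSubs_pair hA hB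

theorem tvSubs_conj_std (i0 i1 i2 : ι) (h01 : i0 ≠ i1) (h02 : i0 ≠ i2) (h12 : i1 ≠ i2)
    {A : Subgroup (Matrix.SpecialLinearGroup ι k)} (hA : A ∈ tvSubs ι k) :
    ∃ g, conjBy A g = TV (Pi.single i0 (1 : k)) (Pi.single i1 (1 : k)) (single_dot_single_ne h01) := by
  obtain ⟨v, φ, h, hv, hφ, rfl⟩ := hA
  obtain ⟨g, hg1, hg2⟩ := tv_transitive_vec i0 i1 i2 h01 h02 h12 v φ hv hφ h
  refine ⟨g, ?_⟩
  rw [conjBy_TV g v φ h ((sl_conj_dot g v φ).trans h)]
  exact TV_congr _ hg1 hg2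

theorem tvSubs_class (i0 i1 i2 : ι) (h01 : i0 ≠ i1) (h02 : i0 ≠ i2) (h12 : i1 ≠ i2) :
    IsConjClassOfSubgroups (tvSubs ι k) := by
  refine ⟨⟨_, TV_mem_tvSubs _ _ (single_dot_single_ne h01) (pi_single_ne_zero' i0 one_ne_zero)
    (pi_single_ne_zero' i1 one_ne_zero)⟩, ?_⟩
  intro A hA B hB
  obtain ⟨g₁, hg₁⟩ := tvSubs_conj_std i0 i1 i2 h01 h02 h12 hA
  obtain ⟨g₂, hg₂⟩ := tvSubs_conj_std i0 i1 i2 h01 h02 h12 hB
  refine ⟨g₂⁻¹ * g₁, ?_⟩
  rw [← conjBy_conjBy, hg₁, ← hg₂, conjBy_conjBy, inv_mul_cancel, conjBy_one]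

theorem single_dot_self (i : ι) : (Pi.single i (1 : k)) ⬝ᵥ (Pi.single i (1 : k) : ι → k) = 1 := by
  rw [single_one_dotProduct]
  simp

theorem tvSubs_nondeg (i0 i1 i2 : ι) (h01 : i0 ≠ i1) (h02 : i0 ≠ i2) (h12 : i1 ≠ i2) :
    IsNondegenerateRootSet (tvSubs ι k) := by
  have e : ∀ i : ι, (Pi.single i (1 : k) : ι → k) ≠ 0 := fun i => pi_single_ne_zero' i one_ne_zero
  refine ⟨?_, ?_, ?_⟩
  · refine ⟨TV (Pi.single i0 (1 : k)) (Pi.single i1 (1 : k)) (single_dot_single_ne h01),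
      TV_mem_tvSubs _ _ _ (e i0) (e i1),
      TV (Pi.single i2 (1 : k)) (Pi.single i1 (1 : k)) (single_dot_single_ne h12.symm),
      TV_mem_tvSubs _ _ _ (e i2) (e i1), ?_, ?_⟩
    · intro heq
      have h1 : tvS (Pi.single i0 (1 : k)) (Pi.single i1 (1 : k)) (single_dot_single_ne h01) ∈
          TV (Pi.single i2 (1 : k)) (Pi.single i1 (1 : k)) (single_dot_single_ne h12.symm) :=
        heq ▸ tvS_mem_TV _ _ _
      obtain ⟨c, hc⟩ := h1
      have h2 := congrArg (fun x : Matrix.SpecialLinearGroup ι k =>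
        ((x : Matrix ι ι k) *ᵥ (Pi.single i1 (1 : k))) i0) hc
      simp only [tvS_mulVec, single_dot_self] at h2
      simp [Pi.single_apply, h01, h02, h01.symm, h02.symm] at h2
    · exact commutator_eq_bot_iff_comm.mpr
        (TV_commute _ _ _ _ _ _ (single_dot_single_ne h12.symm) (single_dot_single_ne h01))
  · refine ⟨TV (Pi.single i0 (1 : k)) (Pi.single i1 (1 : k)) (single_dot_single_ne h01),
      TV_mem_tvSubs _ _ _ (e i0) (e i1),
      TV (Pi.single i1 (1 : k)) (Pi.single i0 (1 : k)) (single_dot_single_ne h01.symm),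
      TV_mem_tvSubs _ _ _ (e i1) (e i0), ?_⟩
    apply TV_rankOnePair _ _ _ _ _ _ _ _ (e i0) (e i1) (e i1) (e i0)
    · rw [single_dot_self]; exact one_ne_zero
    · rw [single_dot_self]; exact one_ne_zero
  · refine ⟨TV (Pi.single i0 (1 : k)) (Pi.single i1 (1 : k)) (single_dot_single_ne h01),
      TV_mem_tvSubs _ _ _ (e i0) (e i1),
      TV (Pi.single i1 (1 : k)) (Pi.single i2 (1 : k)) (single_dot_single_ne h12),
      TV_mem_tvSubs _ _ _ (e i1) (e i2), ?_⟩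
    apply TV_commcase _ _ _ _ _ _ _ _ (single_dot_single_ne h02)
    · exact TV_mem_tvSubs _ _ _ (e i0) (e i2)
    · rw [single_dot_self]; exact one_ne_zero

theorem tvSubs_kroot : IsKRootSubgroupSet k (tvSubs ι k) := by
  refine ⟨tvSubs_rootSet, ?_⟩
  rintro _ ⟨v, φ, h, hv, hφ, rfl⟩ _ ⟨w, ψ, h', hw, hψ, rfl⟩ hr
  obtain ⟨hα, hβ⟩ := TV_rankOne_imp (tvSubs ι k)
    (fun v φ h hv hφ => TV_mem_tvSubs v φ h hv hφ) v φ w ψ h h' hv hφ hw hψ hr
  exact TV_psl2 v φ w ψ h h' hα hβ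

theorem exists_both_ne {M : Type*} [Add M] (f g : M → k)
    (hf : ∀ x y, f (x + y) = f x + f y) (hg : ∀ x y, g (x + y) = g x + g y)
    (P : M → Prop) (hadd : ∀ x y, P x → P y → P (x + y)) (x y : M) (hx : P x) (hy : P y)
    (hfx : f x ≠ 0) (hgy : g y ≠ 0) : ∃ z, P z ∧ f z ≠ 0 ∧ g z ≠ 0 := by
  by_cases h1 : g x = 0
  · by_cases h2 : f y = 0
    · refine ⟨x + y, hadd x y hx hy, ?_, ?_⟩
      · rw [hf, h2, add_zero]; exact hfx
      · rw [hg, h1, zero_add]; exact hgy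
    · exact ⟨y, hy, h2, hgy⟩
  · exact ⟨x, hx, hfx, h1⟩

theorem exists_dot_ne {φ : ι → k} (hφ : φ ≠ 0) : ∃ i, φ i ≠ 0 := by
  by_contra hne
  apply hφ
  ext i
  by_contra hi
  exact hne ⟨i, hi⟩

theorem tvSubs_connected : IsConnectedFamily (FAdj (tvSubs ι k)) (tvSubs ι k) := by
  rintro _ ⟨v, φ, h, hv, hφ, rfl⟩ _ ⟨w, ψ, h', hw, hψ, rfl⟩
  -- a vector outside both hyperplanes
  obtain ⟨i, hi⟩ := exists_dot_ne hφ
  obtain ⟨j, hj⟩ := exists_dot_ne hψ
  obtain ⟨r, -, hr1, hr2⟩ := exists_both_ne (fun x : ι → k => φ ⬝ᵥ x) (fun x => ψ ⬝ᵥ x)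
    (fun x y => dotProduct_add φ x y) (fun x y => dotProduct_add ψ x y) (fun _ => True)
    (fun _ _ _ _ => trivial) (Pi.single i 1) (Pi.single j 1) trivial trivial
    (by simp only [dotProduct_single_one]; exact hi) (by simp only [dotProduct_single_one]; exact hj)
  -- a functional vanishing on r, but not on v and w
  obtain ⟨a, ha⟩ := exists_dot_ne hv
  obtain ⟨b, hb⟩ := exists_dot_ne hw
  set χ₁ : ι → k := Pi.single a 1 - ((Pi.single a (1 : k)) ⬝ᵥ r / (φ ⬝ᵥ r)) • φ with hχ₁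
  set χ₂ : ι → k := Pi.single b 1 - ((Pi.single b (1 : k)) ⬝ᵥ r / (ψ ⬝ᵥ r)) • ψ with hχ₂
  have h11 : χ₁ ⬝ᵥ r = 0 := by
    rw [hχ₁, sub_dotProduct, smul_dotProduct, smul_eq_mul, div_mul_cancel₀ _ hr1, sub_self]
  have h12 : χ₁ ⬝ᵥ v ≠ 0 := by
    rw [hχ₁, sub_dotProduct, smul_dotProduct, h, smul_zero, sub_zero, single_one_dotProduct]
    exact ha
  have h21 : χ₂ ⬝ᵥ r = 0 := by
    rw [hχ₂, sub_dotProduct, smul_dotProduct, smul_eq_mul, div_mul_cancel₀ _ hr2, sub_self]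
  have h22 : χ₂ ⬝ᵥ w ≠ 0 := by
    rw [hχ₂, sub_dotProduct, smul_dotProduct, h', smul_zero, sub_zero, single_one_dotProduct]
    exact hb
  obtain ⟨χ, hχr, hχv, hχw⟩ := exists_both_ne (fun x : ι → k => x ⬝ᵥ v) (fun x => x ⬝ᵥ w)
    (fun x y => add_dotProduct x y v) (fun x y => add_dotProduct x y w) (fun x => x ⬝ᵥ r = 0)
    (fun x y hx hy => by rw [add_dotProduct, hx, hy, add_zero]) χ₁ χ₂ h11 h21 h12 h22
  have hr0 : r ≠ 0 := by
    rintro rfl
    exact hr1 (dotProduct_zero φ)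
  have hχ0 : χ ≠ 0 := by
    rintro rfl
    exact hχv (zero_dotProduct v)
  have hC : TV r χ hχr ∈ tvSubs ι k := TV_mem_tvSubs r χ hχr hr0 hχ0
  have s1 : FAdj (tvSubs ι k) (TV v φ h) (TV r χ hχr) :=
    ⟨TV_mem_tvSubs v φ h hv hφ, hC, TV_rankOnePair v φ r χ h hχr hr1 hχv hv hφ hr0 hχ0⟩
  have s2 : FAdj (tvSubs ι k) (TV r χ hχr) (TV w ψ h') :=
    ⟨hC, TV_mem_tvSubs w ψ h' hw hψ, TV_rankOnePair r χ w ψ hχr h' hχw hr2 hr0 hχ0 hw hψ⟩
  exact Relation.ReflTransGen.tail (Relation.ReflTransGen.single s1) s2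

theorem std_closure_eq (i0 i1 : ι) (h01 : i0 ≠ i1) :
    Subgroup.closure {t : Matrix.SpecialLinearGroup ι k |
      ∃ c : k, (t : Matrix ι ι k) = Matrix.transvection i0 i1 c} =
      TV (Pi.single i0 (1 : k)) (Pi.single i1 (1 : k)) (single_dot_single_ne h01) := by
  have hset : {t : Matrix.SpecialLinearGroup ι k |
      ∃ c : k, (t : Matrix ι ι k) = Matrix.transvection i0 i1 c} =
      ((TV (Pi.single i0 (1 : k)) (Pi.single i1 (1 : k)) (single_dot_single_ne h01) :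
        Subgroup (Matrix.SpecialLinearGroup ι k)) : Set (Matrix.SpecialLinearGroup ι k)) := by
    ext t
    constructor
    · rintro ⟨c, hc⟩
      refine ⟨c, ?_⟩
      apply Subtype.ext
      rw [hc, tvS_coe, ← pi_single_eq_smul, ← single_eq_vecMulVec]
      rfl
    · rintro ⟨c, rfl⟩
      refine ⟨c, ?_⟩
      rw [tvS_coe, ← pi_single_eq_smul, ← single_eq_vecMulVec]
      rfl
  rw [hset]
  exact Subgroup.closure_eq _

end Class

theorem fin_ne (n : ℕ) : (0 : Fin (n + 3)) ≠ 1 ∧ (0 : Fin (n + 3)) ≠ 2 ∧ (1 : Fin (n + 3)) ≠ 2 := by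
  refine ⟨?_, ?_, ?_⟩
  · intro h; have := congrArg Fin.val h; simp at this
  · intro h; have := congrArg Fin.val h; simp at this
    rw [Nat.mod_eq_of_lt (by omega)] at this; omega
  · intro h; have := congrArg Fin.val h; simp at this
    rw [Nat.mod_eq_of_lt (by omega)] at this; omega

theorem set_eq (k : Type*) [Field k] (n : ℕ) :
    {A : Subgroup (Matrix.SpecialLinearGroup (Fin (n + 3)) k) |
        ∃ g : Matrix.SpecialLinearGroup (Fin (n + 3)) k,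
          A = Cfsg.conjBy (Subgroup.closure {t : Matrix.SpecialLinearGroup (Fin (n + 3)) k |
            ∃ c : k, (t : Matrix (Fin (n + 3)) (Fin (n + 3)) k) = Matrix.transvection 0 1 c}) g} =
      tvSubs (Fin (n + 3)) k := by
  obtain ⟨h01, h02, h12⟩ := fin_ne n
  rw [std_closure_eq 0 1 h01]
  ext A
  constructor
  · rintro ⟨g, rfl⟩
    exact tvSubs_conj (TV_mem_tvSubs _ _ _ (pi_single_ne_zero' 0 one_ne_zero)
      (pi_single_ne_zero' 1 one_ne_zero)) g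
  · intro hA
    obtain ⟨g, hg⟩ := tvSubs_conj_std 0 1 2 h01 h02 h12 hA
    exact ⟨g⁻¹, conjBy_eq_iff.mp hg⟩

/-- Let k be a field and n a natural number. In SL_{n+3}(k) (so in every dimension at least 3) the conjugates of the root subgroup of elementary transvections 1 + c E₁₂ (c ∈ k) — that is, the groups of transvections attached to an incident point–hyperplane pair — form a non-degenerate class of abstract k-root subgroups of SL_{n+3}(k) whose graph of rank one pairs is connected. -/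
theorem result (k : Type*) [Field k] (n : ℕ) :
    Cfsg.IsRootSubgroupClass {A : Subgroup (Matrix.SpecialLinearGroup (Fin (n + 3)) k) |
        ∃ g : Matrix.SpecialLinearGroup (Fin (n + 3)) k,
          A = Cfsg.conjBy (Subgroup.closure {t : Matrix.SpecialLinearGroup (Fin (n + 3)) k |
            ∃ c : k, (t : Matrix (Fin (n + 3)) (Fin (n + 3)) k) = Matrix.transvection 0 1 c}) g} ∧
    Cfsg.IsNondegenerateRootSet {A : Subgroup (Matrix.SpecialLinearGroup (Fin (n + 3)) k) |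
        ∃ g : Matrix.SpecialLinearGroup (Fin (n + 3)) k,
          A = Cfsg.conjBy (Subgroup.closure {t : Matrix.SpecialLinearGroup (Fin (n + 3)) k |
            ∃ c : k, (t : Matrix (Fin (n + 3)) (Fin (n + 3)) k) = Matrix.transvection 0 1 c}) g} ∧
    Cfsg.IsKRootSubgroupSet k {A : Subgroup (Matrix.SpecialLinearGroup (Fin (n + 3)) k) |
        ∃ g : Matrix.SpecialLinearGroup (Fin (n + 3)) k,
          A = Cfsg.conjBy (Subgroup.closure {t : Matrix.SpecialLinearGroup (Fin (n + 3)) k |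
            ∃ c : k, (t : Matrix (Fin (n + 3)) (Fin (n + 3)) k) = Matrix.transvection 0 1 c}) g} ∧
    Cfsg.IsConnectedFamily (Cfsg.FAdj {A : Subgroup (Matrix.SpecialLinearGroup (Fin (n + 3)) k) |
        ∃ g : Matrix.SpecialLinearGroup (Fin (n + 3)) k,
          A = Cfsg.conjBy (Subgroup.closure {t : Matrix.SpecialLinearGroup (Fin (n + 3)) k |
            ∃ c : k, (t : Matrix (Fin (n + 3)) (Fin (n + 3)) k) = Matrix.transvection 0 1 c}) g})
      {A : Subgroup (Matrix.SpecialLinearGroup (Fin (n + 3)) k) |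
        ∃ g : Matrix.SpecialLinearGroup (Fin (n + 3)) k,
          A = Cfsg.conjBy (Subgroup.closure {t : Matrix.SpecialLinearGroup (Fin (n + 3)) k |
            ∃ c : k, (t : Matrix (Fin (n + 3)) (Fin (n + 3)) k) = Matrix.transvection 0 1 c}) g} := by
  obtain ⟨h01, h02, h12⟩ := fin_ne n
  rw [set_eq k n]
  exact ⟨⟨tvSubs_rootSet, tvSubs_class 0 1 2 h01 h02 h12⟩, tvSubs_nondeg 0 1 2 h01 h02 h12,
    tvSubs_kroot, tvSubs_connected⟩

end Cfsg.Agent.S5043
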