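import Cfsg.Statements.S5045
import Cfsg.Agent.Lib.Helper86.RootInv
import Cfsg.Agent.Lib.Helper06.BaerSuzuki
import Cfsg.Agent.Lib.Helper06.Isolated

set_option autoImplicit false
open Cfsg

namespace Cfsg.Agent.S5045

open Cfsg.Agent.Lib.Helper86

theorem iso_conj {G : Type*} [Group G] {D : Set G} (hD : Cfsg.IsRootInvolutionSet D) {w : G}
    (hw : Cfsg.IsIsolatedElem (Cfsg.OddAdj D) D w) (g : G) :
    Cfsg.IsIsolatedElem (Cfsg.OddAdj D) D (g * w * g⁻¹) := by
  refine ⟨hD.conj_mem w hw.1 g, fun b => ⟨fun h => ?_, fun h => ?_⟩⟩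
  · have := oddAdj_conj hD h g⁻¹
    have e : g⁻¹ * (g * w * g⁻¹) * g⁻¹⁻¹ = w := by group
    rw [e] at this
    exact (hw.2 _).1 this
  · have := oddAdj_conj hD h g⁻¹
    have e : g⁻¹ * (g * w * g⁻¹) * g⁻¹⁻¹ = w := by group
    rw [e] at this
    exact (hw.2 _).2 this

theorem iso_pair_pow {G : Type*} [Group G] {D : Set G} (hD : Cfsg.IsRootInvolutionSet D) {w b : G}
    (hw : Cfsg.IsIsolatedElem (Cfsg.OddAdj D) D w) (hb : b ∈ D) : (w * b) ^ (2 ^ 2) = 1 := by
  rcases hD.pair w hw.1 b hb with h | h | ⟨h, _⟩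
  · have h2 : (w * b) ^ 2 = 1 := by
      rw [pow_two]
      calc w * b * (w * b) = w * b * (b * w) := by rw [h]
        _ = w * (b * b) * w := by simp only [mul_assoc]
        _ = 1 := by rw [ri_sq hD hb, mul_one, ri_sq hD hw.1]
    have e4 : (2 : ℕ) ^ 2 = 2 * 2 := by norm_num
    rw [e4, pow_mul, h2, one_pow]
  · by_cases e : w = b
    · rw [← e, ri_sq hD hw.1, one_pow]
    · exact absurd ⟨hw.1, hb, e, h⟩ (hw.2 b).1
  · have : (2 : ℕ) ^ 2 = 4 := by norm_num
    rw [this, ← h]; exact pow_orderOf_eq_one _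

theorem iso_closure_pgroup {G : Type*} [Group G] [Finite G] {D : Set G}
    (hD : Cfsg.IsRootInvolutionSet D) :
    IsPGroup 2 ↥(Subgroup.closure {w | Cfsg.IsIsolatedElem (Cfsg.OddAdj D) D w}) := by
  obtain ⟨N, _, hN2, hKN⟩ := Cfsg.Agent.Lib.Helper06.baer_suzuki_set (p := 2)
    {w | Cfsg.IsIsolatedElem (Cfsg.OddAdj D) D w}
    (fun g k hk => iso_conj hD hk g)
    (fun a ha b hb => Cfsg.Agent.Lib.Helper06.pgroup_closure_pair (ri_sq hD ha.1) (ri_sq hD hb.1) 2
      (iso_pair_pow hD ha hb.1))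
  have hle : Subgroup.closure {w | Cfsg.IsIsolatedElem (Cfsg.OddAdj D) D w} ≤ N :=
    (Subgroup.closure_le N).mpr hKN
  exact hN2.to_le hle

theorem iso_of_mem_normal_pgroup {G : Type*} [Group G] {D : Set G}
    (hD : Cfsg.IsRootInvolutionSet D) {N : Subgroup G} (hN : N.Normal) (hN2 : IsPGroup 2 N)
    {d : G} (hd : d ∈ D) (hdN : d ∈ N) : Cfsg.IsIsolatedElem (Cfsg.OddAdj D) D d := by
  have key : ∀ b, ¬ Cfsg.OddAdj D d b := by
    rintro b ⟨_, hb, hne, hodd⟩
    have hmem : (d * b) ^ 2 ∈ N := by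
      have : (d * b) ^ 2 = d * (b * d * b⁻¹) := by
        rw [pow_two, ri_inv hD hb]; simp only [mul_assoc]
      rw [this]
      exact N.mul_mem hdN (hN.conj_mem d hdN b)
    obtain ⟨k, hk⟩ := hN2 ⟨(d * b) ^ 2, hmem⟩
    have hk' : ((d * b) ^ 2) ^ (2 ^ k) = 1 := by
      have := congrArg Subtype.val hk
      simpa using this
    have hd1 : orderOf ((d * b) ^ 2) ∣ 2 ^ k := orderOf_dvd_of_pow_eq_one hk'
    have hd2 : orderOf ((d * b) ^ 2) ∣ orderOf (d * b) := orderOf_pow_dvd 2
    have hcop : Nat.Coprime (orderOf (d * b)) (2 ^ k) :=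
      Nat.Coprime.pow_right k (Nat.coprime_two_right.mpr hodd)
    have h1 : orderOf ((d * b) ^ 2) = 1 :=
      Nat.eq_one_of_dvd_coprimes hcop hd2 hd1
    have h2 : (d * b) ^ 2 = 1 := orderOf_eq_one_iff.mp h1
    have hdvd := orderOf_dvd_of_pow_eq_one h2
    have hle : orderOf (d * b) ≤ 2 := Nat.le_of_dvd (by norm_num) hdvd
    obtain ⟨j, hj⟩ := hodd
    have h3 : orderOf (d * b) = 1 := by omega
    exact ri_mul_ne_one hD hd hb hne (orderOf_eq_one_iff.mp h3)
  exact ⟨hd, fun b => ⟨key b, fun h => key b (oddAdj_symm h)⟩⟩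


/-- Let G be a finite group generated by a set D of root involutions, and W the set of members of D whose product with every other member of D has even order or is trivial (the isolated vertices of the odd-order-product graph on D). Then W is conjugation-invariant and generates a normal 2-subgroup of G meeting D in exactly W; the commutator of two members of D lying in different connected components of that graph, each with more than one member, lies in the subgroup generated by W; and for a in such a component, every member of D commuting with a, different from a and with product with a in D, lies in that component or in W. -/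
theorem result {G : Type*} [Group G] [Finite G] {D : Set G} (hD : Cfsg.IsRootInvolutionSet D) :
    (∀ w ∈ {w | Cfsg.IsIsolatedElem (Cfsg.OddAdj D) D w}, ∀ g : G, g * w * g⁻¹ ∈ {w | Cfsg.IsIsolatedElem (Cfsg.OddAdj D) D w}) ∧
    (Subgroup.closure {w | Cfsg.IsIsolatedElem (Cfsg.OddAdj D) D w}).Normal ∧
    IsPGroup 2 ↥(Subgroup.closure {w | Cfsg.IsIsolatedElem (Cfsg.OddAdj D) D w}) ∧
    (Subgroup.closure {w | Cfsg.IsIsolatedElem (Cfsg.OddAdj D) D w} : Set G) ∩ D = {w | Cfsg.IsIsolatedElem (Cfsg.OddAdj D) D w} ∧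
    (∀ a ∈ D, ∀ b ∈ D, (∃ a' ∈ Cfsg.elemComponentOf (Cfsg.OddAdj D) D a, a' ≠ a) →
      (∃ b' ∈ Cfsg.elemComponentOf (Cfsg.OddAdj D) D b, b' ≠ b) →
      Cfsg.elemComponentOf (Cfsg.OddAdj D) D a ≠ Cfsg.elemComponentOf (Cfsg.OddAdj D) D b →
        a * b * a⁻¹ * b⁻¹ ∈ Subgroup.closure {w | Cfsg.IsIsolatedElem (Cfsg.OddAdj D) D w}) ∧
    (∀ a ∈ D, (∃ a' ∈ Cfsg.elemComponentOf (Cfsg.OddAdj D) D a, a' ≠ a) →
      Cfsg.productPartners D a ⊆ Cfsg.elemComponentOf (Cfsg.OddAdj D) D a ∪ {w | Cfsg.IsIsolatedElem (Cfsg.OddAdj D) D w}) := by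
  have hcl := ri_closure_normal (K := {w | Cfsg.IsIsolatedElem (Cfsg.OddAdj D) D w})
    (fun k hk g => iso_conj hD hk g)
  have hp := iso_closure_pgroup hD
  refine ⟨fun w hw g => iso_conj hD hw g, hcl, hp, ?_, ?_, ?_⟩
  · ext d
    constructor
    · rintro ⟨hdN, hdD⟩
      exact iso_of_mem_normal_pgroup hD hcl hp hdD hdN
    · intro hd
      exact ⟨Subgroup.subset_closure hd, hd.1⟩
  · intro a ha b hb _ _ hne
    rcases hD.pair a ha b hb with h | h | ⟨h4, hz⟩
    · have : a * b * a⁻¹ * b⁻¹ = 1 := by rw [h]; group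
      rw [this]; exact Subgroup.one_mem _
    · exact absurd (oddComp_eq_of_reach (oddLink ha hb h)) hne
    · have e : a * b * a⁻¹ * b⁻¹ = (a * b) ^ 2 := by
        rw [ri_inv hD ha, ri_inv hD hb, pow_two]; simp only [mul_assoc]
      rw [e]
      apply Subgroup.subset_closure
      have key : ∀ e', e' ∈ D → e' ≠ (a * b) ^ 2 → ¬ Odd (orderOf (e' * (a * b) ^ 2)) := by
        intro e' he' hne' hodd
        obtain ⟨x, hx, h1, h2, _, _⟩ := ri_hexagon hD ha hb h4 hz he' hodd hne'
        exact hne (oddComp_eq_of_reach ((oddLink ha hx h1).trans (oddLink hx hb h2)))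
      refine ⟨hz, fun e' => ⟨?_, ?_⟩⟩
      · rintro ⟨_, he', hne', hodd⟩
        rw [ri_orderOf_mul_comm] at hodd
        exact key e' he' (Ne.symm hne') hodd
      · rintro ⟨he', _, hne', hodd⟩
        exact key e' he' hne' hodd
  · intro a ha hcomp x hx
    obtain ⟨a', ha', hne'⟩ := hcomp
    -- a neighbour c of a
    obtain ⟨c, hac⟩ : ∃ c, Cfsg.OddAdj D a c := by
      rcases Relation.ReflTransGen.cases_head ha'.2 with h | ⟨c, hc, _⟩
      · exact absurd h.symm hne'
      · exact ⟨c, hc⟩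
    obtain ⟨⟨hxD, hxa, hxne⟩, hxaD⟩ := hx
    by_cases hW : Cfsg.IsIsolatedElem (Cfsg.OddAdj D) D x
    · exact Or.inr hW
    · left
      refine ⟨hxD, ?_⟩
      -- some e adjacent to x
      have : ∃ e ∈ D, e ≠ x ∧ Odd (orderOf (e * x)) := by
        by_contra hcon
        apply hW
        refine ⟨hxD, fun b => ⟨?_, ?_⟩⟩
        · rintro ⟨_, hb, hne, hodd⟩
          rw [ri_orderOf_mul_comm] at hodd
          exact hcon ⟨b, hb, Ne.symm hne, hodd⟩
        · rintro ⟨hb, _, hne, hodd⟩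
          exact hcon ⟨b, hb, hne, hodd⟩
      obtain ⟨e, he, hex, hodd⟩ := this
      have hax : a * x = x * a := hxa.symm
      have haxD : a * x ∈ D := by rw [hax]; exact hxaD
      rcases ri_line_odd hD hxD ha hax haxD he hodd hex with h1 | h1
      · -- a ~ e ~ x
        rw [ri_orderOf_mul_comm] at h1
        exact (oddLink ha he h1).trans (oddLink he hxD hodd)
      · -- use c
        have hc : c ∈ D := hac.2.1
        have hca : Odd (orderOf (c * a)) := by
          rw [ri_orderOf_mul_comm]; exact hac.2.2.2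
        rcases ri_line_odd hD ha hxD hxa hxaD hc hca (Ne.symm hac.2.2.1) with h2 | h2
        · exact (oddLink ha hc hac.2.2.2).trans (oddLink hc hxD h2)
        · have h3 : Odd (orderOf (x * a * e)) := by
            rw [ri_orderOf_mul_comm, ← hax]; exact h1
          exact ((oddLink ha hc hac.2.2.2).trans (oddLink hc hxaD h2)).trans
            ((oddLink hxaD he h3).trans (oddLink he hxD hodd))

end Cfsg.Agent.S5045
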