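import Cfsg.Statements.S5048
import Cfsg.Agent.Lib.Helper86.RootInv
import Cfsg.Agent.Lib.Helper86.RootInv2

set_option autoImplicit false
open Cfsg

namespace Cfsg.Agent.S5048

open Cfsg.Agent.Lib.Helper86

theorem exists_partner {G : Type*} [Group G] {D : Set G} (hD : Cfsg.IsRootInvolutionSet D)
    (hc : Cfsg.IsConnectedSet (Cfsg.OddAdj D) D)
    (hDD : (D ∩ Cfsg.commutingProducts D).Nonempty) {d : G} (hd : d ∈ D) :
    ∃ b ∈ D, b * d = d * b ∧ b ≠ d ∧ b * d ∈ D := by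
  obtain ⟨x, hx, a0, ha0, b0, hb0, hcomm, hne1, rfl⟩ := hDD
  obtain ⟨g, rfl⟩ := ri_conj_of_reach hD (hc a0 ha0 d hd)
  refine ⟨g * b0 * g⁻¹, hD.conj_mem b0 hb0 g, ?_, ?_, ?_⟩
  · have e1 : g * b0 * g⁻¹ * (g * a0 * g⁻¹) = g * (b0 * a0) * g⁻¹ := by group
    have e2 : g * a0 * g⁻¹ * (g * b0 * g⁻¹) = g * (a0 * b0) * g⁻¹ := by group
    rw [e1, e2, hcomm]
  · intro h
    have : b0 = a0 := by simpa using h
    apply hne1; rw [this]; exact ri_sq hD ha0
  · have e1 : g * b0 * g⁻¹ * (g * a0 * g⁻¹) = g * (a0 * b0) * g⁻¹ := by rw [hcomm]; group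
    rw [e1]; exact hD.conj_mem _ hx g

theorem comm_conj {G : Type*} [Group G] {D : Set G} (hD : Cfsg.IsRootInvolutionSet D)
    {N : Subgroup G} (hN : N.Normal) (hND : ∀ d ∈ D, d ∉ N) {d b : G} (hd : d ∈ D) (hb : b ∈ D)
    (hbd : b * d = d * b) (hbdD : b * d ∈ D) {n : G} (hn : n ∈ N) :
    d * (n * d * n⁻¹) = (n * d * n⁻¹) * d := by
  haveI := hN
  have heD : n * d * n⁻¹ ∈ D := hD.conj_mem d hd n
  have hπn : (QuotientGroup.mk' N) n = 1 := (QuotientGroup.eq_one_iff n).mpr hn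
  have hπe : (QuotientGroup.mk' N) (n * d * n⁻¹) = (QuotientGroup.mk' N) d := by
    rw [map_mul, map_mul, map_inv, hπn]; simp
  have hd2 := ri_sq hD hd
  have hb2 := ri_sq hD hb
  have hdb2 : (d * b) ^ 2 = 1 := by
    rw [pow_two]
    calc d * b * (d * b) = d * (b * d) * b := by simp only [mul_assoc]
      _ = d * (d * b) * b := by rw [hbd]
      _ = (d * d) * (b * b) := by simp only [mul_assoc]
      _ = 1 := by rw [hd2, hb2, one_mul]
  have hde : d * (n * d * n⁻¹) ∈ N := by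
    apply (QuotientGroup.eq_one_iff _).mp
    show (QuotientGroup.mk' N) _ = 1
    rw [map_mul, hπe, ← map_mul, hd2, map_one]
  rcases hD.pair d hd _ heD with h | h | ⟨_, hz⟩
  · exact h
  · by_cases hed : n * d * n⁻¹ = d
    · rw [hed]
    · exfalso
      have hodd' : Odd (orderOf (n * d * n⁻¹ * d)) := by rw [ri_orderOf_mul_comm]; exact h
      have hncomm := ri_line_not_comm hD hd hb hbd hbdD heD hodd' hed
      have hsq : (n * d * n⁻¹ * b) ^ 2 ∈ N := by
        apply (QuotientGroup.eq_one_iff _).mp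
        show (QuotientGroup.mk' N) _ = 1
        rw [map_pow, map_mul, hπe, ← map_mul, ← map_pow, hdb2, map_one]
      rcases hD.pair _ heD b hb with h' | h' | ⟨_, hz'⟩
      · exact hncomm h'
      · have hmem : n * d * n⁻¹ * b ∈ N := ri_mem_of_sq_mem h' N hsq
        have hdb : d * b ∈ N := by
          apply (QuotientGroup.eq_one_iff _).mp
          have : (QuotientGroup.mk' N) (n * d * n⁻¹ * b) = 1 := (QuotientGroup.eq_one_iff _).mpr hmem
          rw [map_mul, hπe, ← map_mul] at this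
          exact this
        exact hND (b * d) hbdD (by rw [hbd]; exact hdb)
      · exact hND _ hz' hsq
  · exfalso; exact hND _ hz (N.pow_mem hde 2)

theorem comm_mem_pCore {G : Type*} [Group G] {D : Set G} (hD : Cfsg.IsRootInvolutionSet D)
    {N : Subgroup G} (hN : N.Normal) (hND : ∀ d ∈ D, d ∉ N) {d b : G} (hd : d ∈ D) (hb : b ∈ D)
    (hbd : b * d = d * b) (hbdD : b * d ∈ D) {m : G} (hm : m ∈ N) :
    d * (m * d * m⁻¹) ∈ Cfsg.pCore 2 G := by
  haveI := hN
  set S : Set G := {x | ∃ k ∈ N, x = k * d * k⁻¹} with hS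
  have hsq : ∀ x ∈ S, x * x = 1 := by
    rintro x ⟨k, _, rfl⟩
    exact ri_sq hD (hD.conj_mem d hd k)
  have hcomm : ∀ x ∈ S, ∀ y ∈ S, x * y = y * x := by
    rintro x ⟨k1, hk1, rfl⟩ y ⟨k2, hk2, rfl⟩
    have hmem : k1⁻¹ * k2 ∈ N := N.mul_mem (N.inv_mem hk1) hk2
    have h0 : Commute d ((k1⁻¹ * k2) * d * (k1⁻¹ * k2)⁻¹) :=
      comm_conj hD hN hND hd hb hbd hbdD hmem
    have h1 := (Commute.conj_iff k1).mpr h0
    have e : k1 * ((k1⁻¹ * k2) * d * (k1⁻¹ * k2)⁻¹) * k1⁻¹ = k2 * d * k2⁻¹ := by group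
    rw [e] at h1
    exact h1.eq
  obtain ⟨_, hexp⟩ := ri_closure_exp_two hsq hcomm
  have hRN : Subgroup.closure S ⊓ N ≤ N := inf_le_right
  have hR2 : IsPGroup 2 ↥(Subgroup.closure S ⊓ N) := by
    intro g
    refine ⟨1, ?_⟩
    apply Subtype.ext
    have := hexp g.1 g.2.1
    rw [pow_one, Subgroup.coe_pow, pow_two, this]
    rfl
  have hconjS : ∀ k ∈ S, ∀ g ∈ N, g * k * g⁻¹ ∈ S := by
    rintro k ⟨k0, hk0, rfl⟩ g hg
    exact ⟨g * k0, N.mul_mem hg hk0, by group⟩
  have hnorm : ∀ x ∈ Subgroup.closure S ⊓ N, ∀ g ∈ N, g * x * g⁻¹ ∈ Subgroup.closure S ⊓ N := by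
    intro x hx g hg
    exact ⟨ri_closure_conj_by N hconjS x hx.1 g hg,
      N.mul_mem (N.mul_mem hg hx.2) (N.inv_mem hg)⟩
  have hle := ri_le_pCore_of_normalized 2 N (Subgroup.closure S ⊓ N) hRN hR2 hnorm
  apply hle
  constructor
  · apply Subgroup.mul_mem
    · exact Subgroup.subset_closure ⟨1, N.one_mem, by simp⟩
    · exact Subgroup.subset_closure ⟨m, hm, rfl⟩
  · have : d * (m * d * m⁻¹) = (d * m * d⁻¹) * m⁻¹ := by
      rw [ri_inv hD hd]; simp only [mul_assoc]
    rw [this]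
    exact N.mul_mem (hN.conj_mem m hm d) (N.inv_mem hm)

theorem le_twoZCore {G : Type*} [Group G] {D : Set G} (hD : Cfsg.IsRootInvolutionSet D)
    (hc : Cfsg.IsConnectedSet (Cfsg.OddAdj D) D)
    (hDD : (D ∩ Cfsg.commutingProducts D).Nonempty)
    {N : Subgroup G} (hN : N.Normal) (hND : ∀ d ∈ D, d ∉ N) : N ≤ Cfsg.twoZCore G := by
  intro n hn
  haveI := Cfsg.Agent.Lib.Helper52.pCore_normal 2 G
  show (QuotientGroup.mk' (Cfsg.pCore 2 G)) n ∈ Subgroup.center _
  rw [Subgroup.mem_center_iff]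
  intro x
  obtain ⟨g, rfl⟩ := QuotientGroup.mk'_surjective _ x
  have hg : g ∈ Subgroup.closure D := by rw [hD.generates]; trivial
  have key : Commute ((QuotientGroup.mk' (Cfsg.pCore 2 G)) g)
      ((QuotientGroup.mk' (Cfsg.pCore 2 G)) n) := by
    induction hg using Subgroup.closure_induction with
    | mem d hd =>
      obtain ⟨b, hb, hbd, _, hbdD⟩ := exists_partner hD hc hDD hd
      have h1 := comm_mem_pCore hD hN hND hd hb hbd hbdD (N.inv_mem hn)
      have h2 : Commute d (n⁻¹ * d * n⁻¹⁻¹) :=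
        comm_conj hD hN hND hd hb hbd hbdD (N.inv_mem hn)
      show (QuotientGroup.mk' (Cfsg.pCore 2 G)) d * (QuotientGroup.mk' (Cfsg.pCore 2 G)) n
        = (QuotientGroup.mk' (Cfsg.pCore 2 G)) n * (QuotientGroup.mk' (Cfsg.pCore 2 G)) d
      rw [← map_mul, ← map_mul]
      apply (QuotientGroup.eq).mpr
      have e : (d * n)⁻¹ * (n * d) = (n⁻¹ * d * n⁻¹⁻¹) * d := by
        rw [mul_inv_rev, ri_inv hD hd, inv_inv]; simp only [mul_assoc]
      rw [e, ← h2.eq]
      exact h1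
    | one => rw [map_one]; exact Commute.one_left _
    | mul a b _ _ ha hb => rw [map_mul]; exact Commute.mul_left ha hb
    | inv a _ ha => rw [map_inv]; exact Commute.inv_left ha
  exact key.eq

theorem normal_dichotomy {G : Type*} [Group G] {D : Set G} (hD : Cfsg.IsRootInvolutionSet D)
    (hc : Cfsg.IsConnectedSet (Cfsg.OddAdj D) D) {N : Subgroup G} (hN : N.Normal) :
    (∀ d ∈ D, d ∉ N) ∨ N = ⊤ := by
  by_cases h : ∃ d ∈ D, d ∈ N
  · right
    obtain ⟨d, hd, hdN⟩ := h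
    rw [eq_top_iff, ← hD.generates, Subgroup.closure_le]
    intro x hx
    obtain ⟨g, rfl⟩ := ri_conj_of_reach hD (hc d hd x hx)
    exact hN.conj_mem d hdN g
  · left
    intro d hd hdN
    exact h ⟨d, hd, hdN⟩

theorem not_comm_quotient {G : Type*} [Group G] {D : Set G} (hD : Cfsg.IsRootInvolutionSet D)
    (hc : Cfsg.IsConnectedSet (Cfsg.OddAdj D) D)
    (hDD : (D ∩ Cfsg.commutingProducts D).Nonempty) :
    ¬ (∀ x y : G ⧸ Cfsg.twoZCore G, x * y = y * x) := by
  intro hab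
  haveI := Cfsg.Agent.Lib.Helper52.pCore_normal 2 G
  obtain ⟨x, _, a0, ha0, b0, hb0, _, hne1, rfl⟩ := hDD
  have hab0 : a0 ≠ b0 := by
    intro h; apply hne1; rw [← h]; exact ri_sq hD ha0
  obtain ⟨c, hac⟩ : ∃ c, Cfsg.OddAdj D a0 c := by
    rcases Relation.ReflTransGen.cases_head (hc a0 ha0 b0 hb0) with h | ⟨c, hc', _⟩
    · exact absurd h hab0
    · exact ⟨c, hc'⟩
  obtain ⟨_, hcD, hne, hodd⟩ := hac
  apply hne
  apply ri_eq_of_odd_of_sq_mem hD (Cfsg.Agent.Lib.Helper52.pCore_isPGroup 2 G) ha0 hcD hodd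
  -- c = g a0 g⁻¹
  obtain ⟨g, hg⟩ := ri_conj_of_reach hD
    (Relation.ReflTransGen.single (⟨ha0, hcD, hne, hodd⟩ : Cfsg.OddAdj D a0 c))
  have hw : a0 * c ∈ Cfsg.twoZCore G := by
    have h1 : (QuotientGroup.mk' (Cfsg.twoZCore G)) c = (QuotientGroup.mk' (Cfsg.twoZCore G)) a0 := by
      rw [hg, map_mul, map_mul, hab _ ((QuotientGroup.mk' (Cfsg.twoZCore G)) a0), map_inv]
      simp
    apply (QuotientGroup.eq_one_iff _).mp
    have : ((QuotientGroup.mk' (Cfsg.twoZCore G)) (a0 * c)) = 1 := by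
      rw [map_mul, h1, ← map_mul, ri_sq hD ha0, map_one]
    exact this
  have hcen : (QuotientGroup.mk' (Cfsg.pCore 2 G)) (a0 * c) ∈ Subgroup.center _ := hw
  rw [Subgroup.mem_center_iff] at hcen
  have h2 := hcen ((QuotientGroup.mk' (Cfsg.pCore 2 G)) a0)
  rw [← map_mul, ← map_mul] at h2
  have h3 := (QuotientGroup.eq).mp h2
  -- (a0 * (a0 * c))⁻¹ * (a0 * c * a0) = c⁻¹ a0⁻¹ a0⁻¹ a0 c a0 = c a0 c a0 = ((a0 c)^2)⁻¹
  have e : (a0 * (a0 * c))⁻¹ * (a0 * c * a0) = ((a0 * c) ^ 2)⁻¹ := by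
    rw [pow_two]
    simp only [mul_inv_rev, ri_inv hD ha0, ri_inv hD hcD, mul_assoc]
    rw [← mul_assoc a0 a0, ri_sq hD ha0, one_mul]
  rw [e] at h3
  exact (Subgroup.inv_mem_iff _).mp h3

theorem twoZCore_solvable {G : Type*} [Group G] [Finite G] :
    Group.IsSolvable ↥(Cfsg.twoZCore G) := by
  haveI := Cfsg.Agent.Lib.Helper52.pCore_normal 2 G
  have hle : Cfsg.pCore 2 G ≤ Cfsg.twoZCore G := by
    intro x hx
    show (QuotientGroup.mk' (Cfsg.pCore 2 G)) x ∈ Subgroup.center _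
    have : (QuotientGroup.mk' (Cfsg.pCore 2 G)) x = 1 := (QuotientGroup.eq_one_iff x).mpr hx
    rw [this]
    exact Subgroup.one_mem _
  let g : ↥(Cfsg.twoZCore G) →* ↥(Subgroup.center (G ⧸ Cfsg.pCore 2 G)) :=
    ((QuotientGroup.mk' (Cfsg.pCore 2 G)).comp (Cfsg.twoZCore G).subtype).codRestrict _
      (fun x => x.2)
  haveI : Fact (Nat.Prime 2) := ⟨Nat.prime_two⟩
  haveI : Group.IsNilpotent ↥(Cfsg.pCore 2 G) :=
    (Cfsg.Agent.Lib.Helper52.pCore_isPGroup 2 G).isNilpotent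
  haveI : Group.IsSolvable ↥(Subgroup.center (G ⧸ Cfsg.pCore 2 G)) :=
    Group.isSolvable_of_comm (fun a b => Subtype.ext (Subgroup.mem_center_iff.mp b.2 a.1))
  refine Group.isSolvable_of_ker_le_range (Subgroup.inclusion hle) g ?_
  intro x hx
  have hx1 : (QuotientGroup.mk' (Cfsg.pCore 2 G)) x.1 = 1 := by
    have := congrArg Subtype.val (MonoidHom.mem_ker.mp hx)
    exact this
  exact ⟨⟨x.1, (QuotientGroup.eq_one_iff _).mp hx1⟩, Subtype.ext rfl⟩


/-- Let G be a finite group generated by a set D of root involutions whose odd-order-product graph is connected, with some product of two different commuting members of D again in D. Then the largest solvable normal subgroup of G is the preimage of the centre of G/O₂(G), and the quotient of G by it is a simple group. -/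
theorem result {G : Type*} [Group G] [Finite G] {D : Set G} (hD : Cfsg.IsRootInvolutionSet D)
    (hc : Cfsg.IsConnectedSet (Cfsg.OddAdj D) D) (hDD : (D ∩ Cfsg.commutingProducts D).Nonempty) :
    Cfsg.solvableRadical G = Cfsg.twoZCore G ∧ IsSimpleGroup (G ⧸ Cfsg.twoZCore G) := by
  have hncomm := not_comm_quotient hD hc hDD
  have hsimple : IsSimpleGroup (G ⧸ Cfsg.twoZCore G) := by
    haveI : Nontrivial (G ⧸ Cfsg.twoZCore G) := by
      by_contra hnt
      rw [not_nontrivial_iff_subsingleton] at hnt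
      apply hncomm
      intro x y
      exact Subsingleton.elim _ _
    refine ⟨fun H hH => ?_⟩
    have hNn : (H.comap (QuotientGroup.mk' (Cfsg.twoZCore G))).Normal := hH.comap _
    rcases normal_dichotomy hD hc hNn with h | h
    · left
      have hle := le_twoZCore hD hc hDD hNn h
      rw [eq_bot_iff]
      intro x hx
      obtain ⟨g, rfl⟩ := QuotientGroup.mk'_surjective _ x
      have : g ∈ Cfsg.twoZCore G := hle (Subgroup.mem_comap.mpr hx)
      rw [Subgroup.mem_bot]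
      exact (QuotientGroup.eq_one_iff g).mpr this
    · right
      rw [eq_top_iff]
      intro x _
      obtain ⟨g, rfl⟩ := QuotientGroup.mk'_surjective _ x
      have : g ∈ H.comap (QuotientGroup.mk' (Cfsg.twoZCore G)) := by rw [h]; trivial
      exact Subgroup.mem_comap.mp this
  refine ⟨?_, hsimple⟩
  apply le_antisymm
  · apply sSup_le
    rintro N ⟨hNn, hNs⟩
    rcases normal_dichotomy hD hc hNn with h | h
    · exact le_twoZCore hD hc hDD hNn h
    · exfalso
      subst h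
      haveI : Group.IsSolvable G :=
        Group.isSolvable_of_surjective (f := (Subgroup.topEquiv (G := G)).toMonoidHom)
          Subgroup.topEquiv.surjective
      haveI : Group.IsSolvable (G ⧸ Cfsg.twoZCore G) := inferInstance
      exact hncomm (IsSimpleGroup.comm_iff_isSolvable.mpr inferInstance)
  · apply le_sSup
    exact ⟨Cfsg.twoZCore_normal G, twoZCore_solvable⟩

end Cfsg.Agent.S5048
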