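import Cfsg.Statements.S5049

set_option autoImplicit false
open Cfsg

namespace Cfsg.Agent.S5049

open scoped Pointwise

theorem pCore_le_sylow' {G : Type*} [Group G] [Finite G] (p : ℕ) [Fact p.Prime] (P : Sylow p G) :
    pCore p G ≤ P := by
  unfold pCore
  apply sSup_le
  rintro N ⟨hN, hNp⟩
  obtain ⟨Q, hQ⟩ := hNp.exists_le_sylow
  obtain ⟨g, hg⟩ := MulAction.exists_smul_eq G Q P
  intro x hx
  have h1 : g⁻¹ * x * g⁻¹⁻¹ ∈ N := hN.conj_mem x hx g⁻¹
  have h2 : g⁻¹ * x * g⁻¹⁻¹ ∈ (Q : Subgroup G) := hQ h1
  rw [← hg]
  show x ∈ MulAut.conj g • (Q : Subgroup G)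
  rw [Subgroup.mem_pointwise_smul_iff_inv_smul_mem]
  simp only [inv_inv] at h2
  simpa [MulAut.smul_def, MulAut.conj_apply] using h2

theorem pCore_isPGroup' {G : Type*} [Group G] [Finite G] (p : ℕ) [Fact p.Prime] :
    IsPGroup p (pCore p G) := by
  obtain ⟨P⟩ : Nonempty (Sylow p G) := inferInstance
  exact P.isPGroup'.to_le (pCore_le_sylow' p P)

section
variable {G : Type*} [Group G]

theorem eq_one_of_odd_of_mem {Q : Subgroup G} (hQ : IsPGroup 2 Q) {x : G} (hx : x ∈ Q)
    (hodd : Odd (orderOf x)) : x = 1 := by
  obtain ⟨k, hk⟩ := hQ ⟨x, hx⟩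
  have h1 : x ^ (2 ^ k) = 1 := by
    have := congrArg Subtype.val hk
    simpa using this
  have h2 : orderOf x ∣ 2 ^ k := orderOf_dvd_of_pow_eq_one h1
  have h3 : Nat.Coprime (orderOf x) (2 ^ k) := Nat.Coprime.pow_right k hodd.coprime_two_right
  have h4 : orderOf x = 1 := Nat.Coprime.eq_one_of_dvd h3 h2
  exact orderOf_eq_one_iff.mp h4

theorem eq_one_of_odd_of_sq_mem {Q : Subgroup G} (hQ : IsPGroup 2 Q) {x : G} (hx : x ^ 2 ∈ Q)
    (hodd : Odd (orderOf x)) : x = 1 := by
  have h1 : Odd (orderOf (x ^ 2)) := Odd.of_dvd_nat hodd (orderOf_pow_dvd 2)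
  have h2 : x ^ 2 = 1 := eq_one_of_odd_of_mem hQ hx h1
  have h3 : orderOf x ∣ 2 := orderOf_dvd_of_pow_eq_one h2
  have h4 : Nat.Coprime (orderOf x) 2 := hodd.coprime_two_right
  have h5 : orderOf x = 1 := Nat.Coprime.eq_one_of_dvd h4 h3
  exact orderOf_eq_one_iff.mp h5

theorem invol_sq {d : G} (h : orderOf d = 2) : d * d = 1 := by
  have := pow_orderOf_eq_one d
  rw [h, pow_two] at this
  exact this

theorem invol_inv {d : G} (h : orderOf d = 2) : d⁻¹ = d :=
  inv_eq_of_mul_eq_one_left (invol_sq h)

theorem invol_ne_one {d : G} (h : orderOf d = 2) : d ≠ 1 := by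
  rintro rfl
  simp at h

end

/-- Two odd transpositions commute or have product of odd order. -/
theorem comm_or_odd {G : Type*} [Group G] {D : Set G} (hD : Cfsg.IsOddTranspositionSet D) {x y : G}
    (hx : x ∈ D) (hy : y ∈ D) : x * y = y * x ∨ Odd (orderOf (x * y)) := by
  rcases hD.1.pair x hx y hy with h | h | h
  · exact Or.inl h
  · exact Or.inr h
  · exact absurd h.1 (hD.2 x hx y hy)

/-- A member commuting with `a` commutes with every conjugate of `a` under `O_2(G)`. -/
theorem comm_conj {G : Type*} [Group G] [Finite G] {D : Set G} (hD : Cfsg.IsOddTranspositionSet D)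
    {a e q : G} (ha : a ∈ D) (he : e ∈ D) (hea : e * a = a * e) (hq : q ∈ pCore 2 G) :
    e * (q * a * q⁻¹) = (q * a * q⁻¹) * e := by
  have : Fact (Nat.Prime 2) := ⟨Nat.prime_two⟩
  have hQ : IsPGroup 2 (pCore 2 G) := pCore_isPGroup' 2
  have ha' : q * a * q⁻¹ ∈ D := hD.1.conj_mem a ha q
  have hao := hD.1.orderOf_eq a ha
  have heo := hD.1.orderOf_eq e he
  rcases comm_or_odd hD he ha' with h | h
  · exact h
  · -- (e a')^2 ∈ Q
    have hc : q * a * q⁻¹ * a⁻¹ ∈ pCore 2 G := by
      have h1 : a * q⁻¹ * a⁻¹ ∈ pCore 2 G :=
        (pCore_normal 2 G).conj_mem _ (Subgroup.inv_mem _ hq) a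
      have := Subgroup.mul_mem _ hq h1
      simpa [mul_assoc] using this
    set c := q * a * q⁻¹ * a⁻¹ with hcdef
    have hca : q * a * q⁻¹ = c * a := by rw [hcdef]; group
    have hsq : (e * (q * a * q⁻¹)) ^ 2 ∈ pCore 2 G := by
      have h1 : e * c * e⁻¹ ∈ pCore 2 G := (pCore_normal 2 G).conj_mem _ hc e
      have h2 : a * c * a⁻¹ ∈ pCore 2 G := (pCore_normal 2 G).conj_mem _ hc a
      have h3 : (e * (q * a * q⁻¹)) ^ 2 = (e * c * e⁻¹) * (a * c * a⁻¹) := by
        rw [hca, pow_two, invol_inv heo, invol_inv hao]
        calc e * (c * a) * (e * (c * a)) = e * c * (a * e) * c * a := by group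
          _ = e * c * (e * a) * c * a := by rw [hea]
          _ = e * c * e * (a * c * a) := by group
      rw [h3]
      exact Subgroup.mul_mem _ h1 h2
    have h1 := eq_one_of_odd_of_sq_mem hQ hsq h
    have h2 : q * a * q⁻¹ = e := by
      have : e⁻¹ = q * a * q⁻¹ := inv_eq_of_mul_eq_one_right h1
      rw [← this, invol_inv heo]
    rw [h2]


/-- Let G be a finite group generated by a set D of odd transpositions (root involutions with no product of order 4), Q = O₂(G), and for a ∈ D let Q_a be the commutator subgroup of Q with a. Then every member of D commuting with a centralizes Q_a; and for b ∈ D with ab of odd order greater than 1, the centralizer of ab in Q is the intersection of the centralizers of a and b in Q. -/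
theorem result {G : Type*} [Group G] [Finite G] {D : Set G} (hD : Cfsg.IsOddTranspositionSet D) {a : G} (ha : a ∈ D) :
    (∀ e ∈ Cfsg.commutingMembers D a, ∀ q ∈ ⁅Cfsg.pCore 2 G, Subgroup.zpowers a⁆, e * q = q * e) ∧
    (∀ b ∈ Cfsg.oddPartners D a,
      Cfsg.pCore 2 G ⊓ Subgroup.centralizer {a * b} = Cfsg.pCore 2 G ⊓ Subgroup.centralizer {a} ⊓ Subgroup.centralizer {b}) := by
  have : Fact (Nat.Prime 2) := ⟨Nat.prime_two⟩
  have hQ : IsPGroup 2 (pCore 2 G) := pCore_isPGroup' 2
  have hao := hD.1.orderOf_eq a ha
  refine ⟨?_, ?_⟩
  · rintro e ⟨he, hea⟩ q hq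
    have hle : ⁅pCore 2 G, Subgroup.zpowers a⁆ ≤ Subgroup.centralizer {e} := by
      rw [Subgroup.commutator_le]
      intro g₁ hg₁ g₂ hg₂
      rw [Subgroup.mem_centralizer_iff]
      intro x hx
      rw [Set.mem_singleton_iff] at hx
      subst hx
      obtain ⟨k, rfl⟩ := Subgroup.mem_zpowers_iff.mp hg₂
      have hk : a ^ k = 1 ∨ a ^ k = a := by
        rw [← zpow_mod_orderOf, hao]
        rcases Int.emod_two_eq_zero_or_one k with h | h
        · left; rw [Nat.cast_ofNat, h, zpow_zero]
        · right; rw [Nat.cast_ofNat, h, zpow_one]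
      rcases hk with hk | hk
      · rw [hk, commutatorElement_def]; simp
      · rw [hk, commutatorElement_def]
        have h1 := comm_conj hD ha he hea hg₁
        have h2 : x * a⁻¹ = a⁻¹ * x := by rw [invol_inv hao]; exact hea
        calc x * (g₁ * a * g₁⁻¹ * a⁻¹) = (x * (g₁ * a * g₁⁻¹)) * a⁻¹ := by group
          _ = (g₁ * a * g₁⁻¹) * x * a⁻¹ := by rw [h1]
          _ = (g₁ * a * g₁⁻¹) * (x * a⁻¹) := by group
          _ = (g₁ * a * g₁⁻¹) * (a⁻¹ * x) := by rw [h2]
          _ = g₁ * a * g₁⁻¹ * a⁻¹ * x := by group
    have := hle hq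
    rw [Subgroup.mem_centralizer_iff] at this
    exact this e rfl
  · rintro b ⟨hb, hba, hodd⟩
    have hbo := hD.1.orderOf_eq b hb
    apply le_antisymm
    · rintro q ⟨hqQ, hqr⟩
      have hqQ' : q ∈ pCore 2 G := hqQ
      have hqr' : (a * b) * q = q * (a * b) := Subgroup.mem_centralizer_iff.mp hqr _ rfl
      -- main claim: q commutes with a
      have hqa : a * q = q * a := by
        have ha' : q⁻¹ * a * q ∈ D := by
          have := hD.1.conj_mem a ha q⁻¹
          simpa using this
        have ht : a * (q⁻¹ * a * q) ∈ pCore 2 G := by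
          have h1 : a * q⁻¹ * a⁻¹ ∈ pCore 2 G :=
            (pCore_normal 2 G).conj_mem _ (Subgroup.inv_mem _ hqQ') a
          have := Subgroup.mul_mem _ h1 hqQ'
          rw [invol_inv hao] at this
          simpa [mul_assoc] using this
        have hgoal : a * (q⁻¹ * a * q) = 1 → a * q = q * a := by
          intro h1
          have h2 : q⁻¹ * a * q = a := by
            have := inv_eq_of_mul_eq_one_right h1
            rw [invol_inv hao] at this
            exact this.symm
          have := congrArg (fun x => q * x) h2
          simpa [mul_assoc] using this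
        rcases comm_or_odd hD ha ha' with h | h
        · -- commuting case
          by_contra hne
          have ht1 : a * (q⁻¹ * a * q) ≠ 1 := fun h1 => hne (hgoal h1)
          obtain ⟨a', ha'def⟩ : ∃ a', a' = q⁻¹ * a * q := ⟨_, rfl⟩
          rw [← ha'def] at ha' ht hgoal h ht1
          obtain ⟨t, htdef⟩ : ∃ t, t = a * a' := ⟨_, rfl⟩
          rw [← htdef] at ht ht1
          have ha'o := hD.1.orderOf_eq a' ha'
          have ht2 : t * t = 1 := by
            rw [htdef]
            calc a * a' * (a * a') = a * (a' * a) * a' := by group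
              _ = a * (a * a') * a' := by rw [h]
              _ = (a * a) * (a' * a') := by group
              _ = 1 := by rw [invol_sq hao, invol_sq ha'o, one_mul]
          have hta : t * a = a * t := by
            rw [htdef]
            calc a * a' * a = a * (a' * a) := by group
              _ = a * (a * a') := by rw [h]
          have har : a * (a * b) * a = (a * b)⁻¹ := by
            rw [mul_inv_rev, invol_inv hao, invol_inv hbo]
            calc a * (a * b) * a = (a * a) * b * a := by group
              _ = b * a := by rw [invol_sq hao, one_mul]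
          have ha'r : a' * (a * b) * a' = (a * b)⁻¹ := by
            rw [ha'def]
            calc q⁻¹ * a * q * (a * b) * (q⁻¹ * a * q)
                = q⁻¹ * a * (q * (a * b)) * q⁻¹ * a * q := by group
              _ = q⁻¹ * a * ((a * b) * q) * q⁻¹ * a * q := by rw [hqr']
              _ = q⁻¹ * (a * (a * b) * a) * q := by group
              _ = q⁻¹ * (a * b)⁻¹ * q := by rw [har]
              _ = (q⁻¹ * (a * b) * q)⁻¹ := by group
              _ = (q⁻¹ * (q * (a * b)))⁻¹ := by rw [mul_assoc q⁻¹, hqr']
              _ = (a * b)⁻¹ := by group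
          have htr : t * (a * b) = (a * b) * t := by
            have h1 : t * (a * b) * t⁻¹ = a * b := by
              have e1 : t⁻¹ = a' * a := by
                rw [htdef, mul_inv_rev, invol_inv hao, invol_inv ha'o]
              rw [e1, htdef]
              calc a * a' * (a * b) * (a' * a) = a * (a' * (a * b) * a') * a := by group
                _ = a * (a * b)⁻¹ * a := by rw [ha'r]
                _ = (a * (a * b) * a)⁻¹ := by
                    have h2 : (a * (a * b) * a)⁻¹ = a⁻¹ * (a * b)⁻¹ * a⁻¹ := by group
                    rw [h2, invol_inv hao]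
                _ = a * b := by rw [har, inv_inv]
            have := congrArg (fun x => x * t) h1
            simpa [mul_assoc] using this
          have htb : t * b = b * t := by
            have e1 : b = a * (a * b) := by
              rw [← mul_assoc, invol_sq hao, one_mul]
            calc t * b = t * (a * (a * b)) := by rw [← e1]
              _ = (t * a) * (a * b) := by group
              _ = (a * t) * (a * b) := by rw [hta]
              _ = a * (t * (a * b)) := by group
              _ = a * ((a * b) * t) := by rw [htr]
              _ = (a * (a * b)) * t := by group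
              _ = b * t := by rw [← e1]
          have hat : a' = t * a := by
            rw [hta, htdef, ← mul_assoc, invol_sq hao, one_mul]
          rcases comm_or_odd hD ha' hb with h5 | h5
          · -- a' b = b a'  gives ab = ba
            have h6 : a * b = b * a := by
              rw [hat] at h5
              have : t * (a * b) = t * (b * a) := by
                calc t * (a * b) = t * a * b := by group
                  _ = b * (t * a) := h5
                  _ = (b * t) * a := by group
                  _ = (t * b) * a := by rw [htb]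
                  _ = t * (b * a) := by group
              exact mul_left_cancel this
            have h7 : (a * b) ^ 2 = 1 := by
              rw [pow_two]
              calc a * b * (a * b) = a * (b * a) * b := by group
                _ = a * (a * b) * b := by rw [h6]
                _ = (a * a) * (b * b) := by group
                _ = 1 := by rw [invol_sq hao, invol_sq hbo, one_mul]
            have h8 : orderOf (a * b) ∣ 2 := orderOf_dvd_of_pow_eq_one h7
            have h9 : orderOf (a * b) = 1 :=
              Nat.Coprime.eq_one_of_dvd hodd.coprime_two_right h8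
            have h10 : a * b = 1 := orderOf_eq_one_iff.mp h9
            apply hba
            have := inv_eq_of_mul_eq_one_right h10
            rw [invol_inv hao] at this
            exact this.symm
          · -- a' b = t r has odd order: impossible
            have e1 : a' * b = t * (a * b) := by rw [hat]; group
            rw [e1] at h5
            set m := orderOf (t * (a * b)) with hm
            have h6 : (t * (a * b)) ^ m = 1 := pow_orderOf_eq_one _
            have hcomm : Commute t (a * b) := htr
            rw [hcomm.mul_pow] at h6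
            have h7 : t ^ m = t := by
              obtain ⟨k, hk⟩ := h5
              rw [hk, pow_succ, pow_mul, pow_two, ht2, one_pow, one_mul]
            rw [h7] at h6
            -- t = ((a b)^m)⁻¹ has odd order
            have h8 : t = ((a * b) ^ m)⁻¹ := eq_inv_of_mul_eq_one_left h6
            have h9 : Odd (orderOf t) := by
              rw [h8, orderOf_inv]
              exact Odd.of_dvd_nat hodd (orderOf_pow_dvd m)
            have h10 : t = 1 := eq_one_of_odd_of_mem hQ ht h9
            exact ht1 h10
        · exact hgoal (eq_one_of_odd_of_mem hQ ht h)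
      have hqb : b * q = q * b := by
        have e1 : b = a * (a * b) := by
          rw [← mul_assoc, invol_sq hao, one_mul]
        calc b * q = a * (a * b) * q := by rw [← e1]
          _ = a * ((a * b) * q) := by group
          _ = a * (q * (a * b)) := by rw [hqr']
          _ = (a * q) * (a * b) := by group
          _ = (q * a) * (a * b) := by rw [hqa]
          _ = q * (a * (a * b)) := by group
          _ = q * b := by rw [← e1]
      refine ⟨⟨hqQ, ?_⟩, ?_⟩
      · exact Subgroup.mem_centralizer_iff.mpr fun x hx => by
          rw [Set.mem_singleton_iff] at hx; rw [hx]; exact hqa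
      · exact Subgroup.mem_centralizer_iff.mpr fun x hx => by
          rw [Set.mem_singleton_iff] at hx; rw [hx]; exact hqb
    · rintro q ⟨⟨hqQ, hqa⟩, hqb⟩
      refine ⟨hqQ, ?_⟩
      have hqa' : a * q = q * a := Subgroup.mem_centralizer_iff.mp hqa _ rfl
      have hqb' : b * q = q * b := Subgroup.mem_centralizer_iff.mp hqb _ rfl
      apply Subgroup.mem_centralizer_iff.mpr
      intro x hx
      rw [Set.mem_singleton_iff] at hx
      rw [hx, mul_assoc, hqb', ← mul_assoc, hqa', mul_assoc]

end Cfsg.Agent.S5049
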