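import Cfsg.Statements.S5057

set_option autoImplicit false
open Cfsg

namespace Cfsg.Agent.S5057

open Equiv

set_option maxRecDepth 1000000 in
set_option maxHeartbeats 4000000 in
theorem a6_pow : ∀ g : Perm (Fin 6), Perm.sign g = 1 → g ^ 4 = 1 ∨ g ^ 3 = 1 ∨ g ^ 5 = 1 := by
  decide +kernel

theorem a6_pow' (g : alternatingGroup (Fin 6)) : g ^ 4 = 1 ∨ g ^ 3 = 1 ∨ g ^ 5 = 1 := by
  have hg : Perm.sign (g : Perm (Fin 6)) = 1 := Perm.mem_alternatingGroup.mp g.2
  rcases a6_pow g hg with h | h | h
  · left; exact Subtype.ext (by simpa using h)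
  · right; left; exact Subtype.ext (by simpa using h)
  · right; right; exact Subtype.ext (by simpa using h)

theorem orderOf_cases (g : alternatingGroup (Fin 6)) :
    orderOf g = 1 ∨ orderOf g = 2 ∨ orderOf g = 3 ∨ orderOf g = 4 ∨ orderOf g = 5 := by
  rcases a6_pow' g with h | h | h
  · have h4 : orderOf g ∣ 2 ^ 2 := orderOf_dvd_of_pow_eq_one h
    rw [Nat.dvd_prime_pow Nat.prime_two] at h4
    obtain ⟨k, hk, h4⟩ := h4
    interval_cases k <;> simp [h4]
  · rcases (Nat.dvd_prime Nat.prime_three).mp (orderOf_dvd_of_pow_eq_one h) with h | h <;> simp [h]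
  · rcases (Nat.dvd_prime Nat.prime_five).mp (orderOf_dvd_of_pow_eq_one h) with h | h <;> simp [h]

theorem cycleType_of_orderOf_two (g : alternatingGroup (Fin 6)) (h : orderOf g = 2) :
    (g : Perm (Fin 6)).cycleType = {2, 2} := by
  have h' : orderOf (g : Perm (Fin 6)) = 2 := by rw [Subgroup.orderOf_coe]; exact h
  have hall : ∀ n ∈ (g : Perm (Fin 6)).cycleType, n = 2 := by
    intro n hn
    have h1 := Perm.dvd_of_mem_cycleType hn
    have h2 := Perm.two_le_of_mem_cycleType hn
    rw [h'] at h1
    exact le_antisymm (Nat.le_of_dvd (by norm_num) h1) h2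
  rw [← Multiset.eq_replicate_card] at hall
  set k := Multiset.card (g : Perm (Fin 6)).cycleType with hk
  have hsum : 2 * k ≤ 6 := by
    have := Perm.sum_cycleType_le (g : Perm (Fin 6))
    rw [hall, Multiset.sum_replicate, smul_eq_mul, Fintype.card_fin] at this
    omega
  have hk0 : k ≠ 0 := by
    intro h0
    rw [hk, Perm.card_cycleType_eq_zero] at h0
    rw [h0, orderOf_one] at h'
    omega
  have hsign : Perm.sign (g : Perm (Fin 6)) = 1 := Perm.mem_alternatingGroup.mp g.2
  rw [Perm.sign_of_cycleType, hall, Multiset.sum_replicate, smul_eq_mul, Multiset.card_replicate] at hsign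
  have hk2 : k = 2 := by
    have hk3 : k ≤ 3 := by omega
    interval_cases k
    · exact absurd rfl hk0
    · exfalso; revert hsign; decide
    · rfl
    · exfalso; revert hsign; decide
  rw [hall, hk2]
  rfl

theorem orderOf_of_cycleType (g : alternatingGroup (Fin 6)) (h : (g : Perm (Fin 6)).cycleType = {2, 2}) :
    orderOf g = 2 := by
  rw [← Subgroup.orderOf_coe, ← Perm.lcm_cycleType, h]
  rfl

theorem D_eq : {g : alternatingGroup (Fin 6) | orderOf g = 2} =
    {g : alternatingGroup (Fin 6) | (g : Perm (Fin 6)).cycleType = {2, 2}} := by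
  ext g
  exact ⟨cycleType_of_orderOf_two g, orderOf_of_cycleType g⟩


/-- The involutions of the alternating group of degree 6 form a class of root involutions (a single conjugacy class of involutions generating the group, any two of which commute, have product of odd order, or have product of order 4 whose square is again an involution of the class), and the product of any two of them has order at most 5. -/
theorem result :
    Cfsg.IsRootInvolutionClass {g : ↥(alternatingGroup (Fin 6)) | orderOf g = 2} ∧
    ∀ d ∈ {g : ↥(alternatingGroup (Fin 6)) | orderOf g = 2}, ∀ e ∈ {g : ↥(alternatingGroup (Fin 6)) | orderOf g = 2},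
      orderOf (d * e) ≤ 5 := by
  have hpair : ∀ a ∈ {g : ↥(alternatingGroup (Fin 6)) | orderOf g = 2},
      ∀ b ∈ {g : ↥(alternatingGroup (Fin 6)) | orderOf g = 2},
      a * b = b * a ∨ Odd (orderOf (a * b)) ∨
        (orderOf (a * b) = 4 ∧ (a * b) ^ 2 ∈ {g : ↥(alternatingGroup (Fin 6)) | orderOf g = 2}) := by
    intro a ha b hb
    have ha2 : a * a = 1 := by
      have := pow_orderOf_eq_one a
      rwa [ha, pow_two] at this
    have hb2 : b * b = 1 := by
      have := pow_orderOf_eq_one b
      rwa [hb, pow_two] at this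
    rcases orderOf_cases (a * b) with h | h | h | h | h
    · right; left; rw [h]; decide
    · left
      have h1 : (a * b) ^ 2 = 1 := by rw [← h]; exact pow_orderOf_eq_one _
      have h2 : a * b * (a * b) = 1 := by rwa [pow_two] at h1
      calc a * b = a * b * (a * b) * (b * a) := by
            have : a * b * (a * b) * (b * a) = a * b * (a * (b * b) * a) := by group
            rw [this, hb2, mul_one, ha2, mul_one]
        _ = b * a := by rw [h2, one_mul]
    · right; left; rw [h]; decide
    · right; right
      refine ⟨h, ?_⟩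
      show orderOf ((a * b) ^ 2) = 2
      rw [orderOf_pow' _ (by norm_num), h]
      decide
    · right; left; rw [h]; decide
  refine ⟨⟨⟨fun d hd => hd, ?_, ?_, hpair⟩, ?_, ?_⟩, ?_⟩
  · rw [D_eq]
    exact alternatingGroup.closure_cycleType_eq_two_two_eq_top (by simp)
  · intro d hd g
    show orderOf (g * d * g⁻¹) = 2
    have := MulEquiv.orderOf_eq (MulAut.conj g) d
    rw [MulAut.conj_apply] at this
    rw [this]
    exact hd
  · rw [D_eq]
    refine ⟨⟨swap 0 1 * swap 2 3, Perm.mem_alternatingGroup.mpr (by decide)⟩, ?_⟩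
    show (swap (0 : Fin 6) 1 * swap 2 3).cycleType = {2, 2}
    have hd : Perm.Disjoint (swap (0 : Fin 6) 1) (swap 2 3) := by
      rw [Perm.disjoint_iff_disjoint_support, Perm.support_swap (by decide), Perm.support_swap (by decide)]
      decide
    rw [hd.cycleType_mul, (Perm.isCycle_swap (by decide)).cycleType, (Perm.isCycle_swap (by decide)).cycleType,
      Perm.support_swap (by decide), Perm.support_swap (by decide)]
    rfl
  · intro a ha b hb
    have hca := cycleType_of_orderOf_two a ha
    have hcb := cycleType_of_orderOf_two b hb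
    have hconj : IsConj (a : Perm (Fin 6)) (b : Perm (Fin 6)) :=
      Perm.isConj_iff_cycleType_eq.mpr (hca.trans hcb.symm)
    have hsupp : (a : Perm (Fin 6)).support.card + 2 ≤ Fintype.card (Fin 6) := by
      rw [← Perm.sum_cycleType, hca, Fintype.card_fin]
      decide
    have h1 := alternatingGroup.isConj_of hconj hsupp
    obtain ⟨c, hc⟩ := isConj_iff.mp h1
    exact ⟨c, hc.symm⟩
  · intro d _ e _
    rcases orderOf_cases (d * e) with h | h | h | h | h <;> omega

end Cfsg.Agent.S5057
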