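import Cfsg.Statements.S5058
import Cfsg.Agent.Lib.Helper86.Transv
import Cfsg.Agent.Lib.Helper07.SLGen

set_option autoImplicit false
open Matrix
open Cfsg
open Cfsg.Agent.Lib.Helper86

namespace Cfsg.Agent.S5058

section
variable {ι : Type*} [Fintype ι] [DecidableEq ι] {F : Type*} [Field F]

theorem single_eq_vmv (i j : ι) (c : F) :
    Matrix.single i j c = vecMulVec (Pi.single i c) (Pi.single j (1 : F)) := by
  ext a b
  simp only [Matrix.single_apply, vecMulVec_apply, Pi.single_apply]
  by_cases ha : i = a <;> by_cases hb : j = b <;> simp [ha, hb, eq_comm]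

theorem single_dot_single' {i j : ι} (hij : i ≠ j) (c : F) :
    (Pi.single j (1 : F)) ⬝ᵥ (Pi.single i c : ι → F) = 0 := by
  rw [single_one_dotProduct]
  simp [Pi.single_apply, hij.symm]

theorem transvection_eq_tvS {i j : ι} (hij : i ≠ j) (c : F) :
    Matrix.SpecialLinearGroup.transvection hij c =
      tvS (Pi.single i c) (Pi.single j (1 : F)) (single_dot_single' hij c) := by
  apply Subtype.ext
  rw [tvS_coe, ← single_eq_vmv]
  rfl

theorem pi_single_ne_zero (i : ι) {c : F} (hc : c ≠ 0) : (Pi.single i c : ι → F) ≠ 0 := by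
  intro h
  have := congrFun h i
  simp at this
  exact hc this

theorem tvSet_closure (ι : Type*) [Fintype ι] [DecidableEq ι] (F : Type*) [Field F] :
    Subgroup.closure (tvSet ι F) = ⊤ := by
  apply Cfsg.Agent.Lib.Helper07.eq_top_of_transvection_mem
  intro i j hij c
  by_cases hc : c = 0
  · rw [hc, Matrix.SpecialLinearGroup.transvection_coeff_zero]
    exact Subgroup.one_mem _
  · apply Subgroup.subset_closure
    rw [transvection_eq_tvS hij c]
    exact tvS_mem_tvSet _ _ _ (pi_single_ne_zero i hc) (pi_single_ne_zero j one_ne_zero)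

theorem tvSet_rootInvolutionSet [Fintype F] [CharP F 2] [Nonempty ι] :
    Cfsg.IsRootInvolutionSet (tvSet ι F) := by
  refine ⟨fun d hd => tvSet_orderOf hd, tvSet_closure ι F, fun d hd g => tvSet_conj hd g, ?_⟩
  intro a ha b hb
  rcases tvSet_pair ha hb with h | h | h
  · exact Or.inl h
  · exact Or.inr (Or.inr h)
  · right; left
    have hdvd := orderOf_dvd_of_pow_eq_one h
    refine Odd.of_dvd_nat ?_ hdvd
    obtain ⟨m, -, hq⟩ := FiniteField.card F 2
    have hev : Even (Fintype.card F ^ 2) := by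
      rw [hq, ← pow_mul]
      exact (Nat.even_pow.mpr ⟨even_two, by positivity⟩)
    exact Nat.Even.sub_odd (Nat.one_le_iff_ne_zero.mpr (by positivity)) hev odd_one

theorem tvSet_class [Fintype F] [CharP F 2] (i0 i1 i2 : ι) (h01 : i0 ≠ i1) (h02 : i0 ≠ i2)
    (h12 : i1 ≠ i2) : Cfsg.IsRootInvolutionClass (tvSet ι F) := by
  haveI : Nonempty ι := ⟨i0⟩
  refine ⟨tvSet_rootInvolutionSet, ?_, ?_⟩
  · exact ⟨_, tvS_mem_tvSet _ _ (single_dot_single_ne h01) (pi_single_ne_zero i0 one_ne_zero)
      (pi_single_ne_zero i1 one_ne_zero)⟩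
  · intro a ha b hb
    obtain ⟨v, φ, h, hv, hφ, rfl⟩ := ha
    obtain ⟨w, ψ, h', hw, hψ, rfl⟩ := hb
    obtain ⟨g₁, hg₁⟩ := tv_transitive i0 i1 i2 h01 h02 h12 v φ hv hφ h
    obtain ⟨g₂, hg₂⟩ := tv_transitive i0 i1 i2 h01 h02 h12 w ψ hw hψ h'
    refine ⟨g₂⁻¹ * g₁, ?_⟩
    have : tvS w ψ h' = g₂⁻¹ * (g₂ * tvS w ψ h' * g₂⁻¹) * g₂ := by group
    rw [this, hg₂, ← hg₁]
    group

theorem tvSet_threeFour [Fintype F] [CharP F 2] [Nonempty ι] (hF : Fintype.card F = 2) :
    Cfsg.IsThreeFourPlusTranspositionSet (tvSet ι F) := by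
  refine ⟨tvSet_rootInvolutionSet, ?_⟩
  intro a ha b hb hodd
  rcases tvSet_pair ha hb with h | h | h
  · left
    have haa := tvSet_mul_self ha
    have hbb := tvSet_mul_self hb
    have h2 : (a * b) ^ 2 = 1 := by
      rw [pow_two]
      calc a * b * (a * b) = a * (b * a) * b := by group
        _ = a * (a * b) * b := by rw [h]
        _ = (a * a) * (b * b) := by group
        _ = 1 := by rw [haa, hbb, one_mul]
    have hdvd := orderOf_dvd_of_pow_eq_one h2
    rcases (Nat.dvd_prime Nat.prime_two).mp hdvd with h1 | h1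
    · exact h1
    · rw [h1] at hodd
      exact absurd hodd (by decide)
  · rw [h.1] at hodd
    exact absurd hodd (by decide)
  · rw [hF] at h
    have hdvd := orderOf_dvd_of_pow_eq_one h
    exact (Nat.dvd_prime Nat.prime_three).mp hdvd

end

theorem set_eq (F : Type*) [Field F] (n : ℕ) :
    {t : Matrix.SpecialLinearGroup (Fin (n + 3)) F | ∃ c : F, c ≠ 0 ∧
        ∃ g : Matrix.SpecialLinearGroup (Fin (n + 3)) F, ((g⁻¹ * t * g : Matrix.SpecialLinearGroup (Fin (n + 3)) F) :
          Matrix (Fin (n + 3)) (Fin (n + 3)) F) = Matrix.transvection 0 1 c} = tvSet (Fin (n + 3)) F := by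
  have h01 : (0 : Fin (n + 3)) ≠ 1 := by
    intro h; have := congrArg Fin.val h; simp at this
  have h02 : (0 : Fin (n + 3)) ≠ 2 := by
    intro h; have := congrArg Fin.val h; simp at this
    rw [Nat.mod_eq_of_lt (by omega)] at this; omega
  have h12 : (1 : Fin (n + 3)) ≠ 2 := by
    intro h; have := congrArg Fin.val h; simp at this
    rw [Nat.mod_eq_of_lt (by omega)] at this; omega
  ext t
  constructor
  · rintro ⟨c, hc, g, hg⟩
    have h1 : g⁻¹ * t * g = tvS (Pi.single 0 c) (Pi.single 1 (1 : F)) (single_dot_single' h01 c) := by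
      apply Subtype.ext
      rw [hg, tvS_coe, ← single_eq_vmv]
      rfl
    have h2 : t = g * (g⁻¹ * t * g) * g⁻¹ := by group
    rw [h2, h1]
    exact tvSet_conj (tvS_mem_tvSet _ _ _ (pi_single_ne_zero 0 hc) (pi_single_ne_zero 1 one_ne_zero)) g
  · rintro ⟨v, φ, h, hv, hφ, rfl⟩
    obtain ⟨g, hg⟩ := tv_transitive 0 1 2 h01 h02 h12 v φ hv hφ h
    refine ⟨1, one_ne_zero, g⁻¹, ?_⟩
    rw [inv_inv, hg, tvS_coe, ← single_eq_vmv]
    rfl

/-- Let F be a finite field of characteristic 2 and n a natural number. Then the transvections of SL_{n+3}(F) (so in every dimension at least 3) (the conjugates of the elementary matrices 1 + c E₁₂, c ≠ 0) form a class of root involutions of SL_{n+3}(F); when F has two elements they form a class of {3,4}⁺-transpositions (every product of odd order has order 1 or 3). -/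
theorem result (F : Type*) [Field F] [Fintype F] [CharP F 2] (n : ℕ) :
    Cfsg.IsRootInvolutionClass {t : Matrix.SpecialLinearGroup (Fin (n + 3)) F | ∃ c : F, c ≠ 0 ∧
        ∃ g : Matrix.SpecialLinearGroup (Fin (n + 3)) F, ((g⁻¹ * t * g : Matrix.SpecialLinearGroup (Fin (n + 3)) F) :
          Matrix (Fin (n + 3)) (Fin (n + 3)) F) = Matrix.transvection 0 1 c} ∧
    (Fintype.card F = 2 → Cfsg.IsThreeFourPlusTranspositionSet {t : Matrix.SpecialLinearGroup (Fin (n + 3)) F | ∃ c : F, c ≠ 0 ∧
        ∃ g : Matrix.SpecialLinearGroup (Fin (n + 3)) F, ((g⁻¹ * t * g : Matrix.SpecialLinearGroup (Fin (n + 3)) F) :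
          Matrix (Fin (n + 3)) (Fin (n + 3)) F) = Matrix.transvection 0 1 c}) := by
  have h01 : (0 : Fin (n + 3)) ≠ 1 := by
    intro h; have := congrArg Fin.val h; simp at this
  have h02 : (0 : Fin (n + 3)) ≠ 2 := by
    intro h; have := congrArg Fin.val h; simp at this
    rw [Nat.mod_eq_of_lt (by omega)] at this; omega
  have h12 : (1 : Fin (n + 3)) ≠ 2 := by
    intro h; have := congrArg Fin.val h; simp at this
    rw [Nat.mod_eq_of_lt (by omega)] at this; omega
  rw [set_eq F n]
  exact ⟨tvSet_class 0 1 2 h01 h02 h12, fun hF => tvSet_threeFour hF⟩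

end Cfsg.Agent.S5058
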