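import Cfsg.Statements.S5059

set_option autoImplicit false
universe u
open Cfsg

namespace Cfsg.Agent.S5059

variable {k : Type u} [Field k] {M : Type u} [AddCommGroup M] [Module k M]

local notation "GLM" => LinearMap.GeneralLinearGroup k M

/-- `τ - 1` as an endomorphism. -/
def nn (τ : GLM) : Module.End k M := (τ : M →ₗ[k] M) - 1

theorem val_eq (τ : GLM) : (τ : M →ₗ[k] M) = 1 + nn τ := by
  unfold nn; abel

/-- The unit `1 + n` for `n` with `n * n = 0`. -/
def unitOf (n : Module.End k M) (hn : n * n = 0) : GLM where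
  val := 1 + n
  inv := 1 - n
  val_inv := by
    have : (1 + n) * (1 - n) = 1 - n * n := by noncomm_ring
    rw [this, hn, sub_zero]
  inv_val := by
    have : (1 - n) * (1 + n) = 1 - n * n := by noncomm_ring
    rw [this, hn, sub_zero]

/-- The candidate subgroup: elements of `G` whose scalar family lies in `G`, with
`range (τ - 1) ≤ R` and `C ≤ ker (τ - 1)`, where `R ≤ C`. -/
def cand (G : Subgroup GLM) (R C : Submodule k M) (hRC : R ≤ C) : Subgroup GLM where
  carrier := {τ | τ ∈ G ∧ scalarFamily τ ⊆ (G : Set GLM) ∧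
    LinearMap.range (nn τ) ≤ R ∧ C ≤ LinearMap.ker (nn τ)}
  one_mem' := by
    refine ⟨G.one_mem, ?_, ?_, ?_⟩
    · rintro τ ⟨c, hc⟩
      have : τ = 1 := by
        apply Units.ext
        rw [hc]; simp
      rw [this]; exact G.one_mem
    · have : nn (1 : GLM) = 0 := by unfold nn; simp
      rw [this]; simp
    · have : nn (1 : GLM) = 0 := by unfold nn; simp
      rw [this]; simp
  mul_mem' := by
    rintro a b ⟨haG, haS, haR, haC⟩ ⟨hbG, hbS, hbR, hbC⟩
    have hab : nn a * nn b = 0 := by
      ext m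
      have h1 : nn b m ∈ R := hbR ⟨m, rfl⟩
      have h2 : nn b m ∈ LinearMap.ker (nn a) := haC (hRC h1)
      exact h2
    have haa : nn a * nn a = 0 := by
      ext m
      have h1 : nn a m ∈ R := haR ⟨m, rfl⟩
      exact haC (hRC h1)
    have hbb : nn b * nn b = 0 := by
      ext m
      have h1 : nn b m ∈ R := hbR ⟨m, rfl⟩
      exact hbC (hRC h1)
    have hnn : nn (a * b) = nn a + nn b := by
      have h1 : ((a * b : GLM) : M →ₗ[k] M) = (1 + nn a) * (1 + nn b) := by
        rw [← val_eq, ← val_eq]; rfl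
      have h2 : (1 + nn a) * (1 + nn b) = 1 + nn a + nn b + nn a * nn b := by noncomm_ring
      unfold nn at h1 h2 hab ⊢
      rw [h1, h2, hab]; abel
    refine ⟨G.mul_mem haG hbG, ?_, ?_, ?_⟩
    · rintro ρ ⟨c, hc⟩
      have h1 : (c • nn a) * (c • nn a) = 0 := by
        rw [smul_mul_smul_comm, haa, smul_zero]
      have h2 : (c • nn b) * (c • nn b) = 0 := by
        rw [smul_mul_smul_comm, hbb, smul_zero]
      have h3 : unitOf (c • nn a) h1 ∈ G := haS ⟨c, rfl⟩
      have h4 : unitOf (c • nn b) h2 ∈ G := hbS ⟨c, rfl⟩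
      have h5 : ρ = unitOf (c • nn a) h1 * unitOf (c • nn b) h2 := by
        apply Units.ext
        show (ρ : M →ₗ[k] M) = (1 + c • nn a) * (1 + c • nn b)
        have h6 : (1 + c • nn a) * (1 + c • nn b) =
            1 + c • nn a + c • nn b + (c • nn a) * (c • nn b) := by
          rw [mul_add, add_mul, add_mul, one_mul, one_mul, mul_one]; abel
        rw [hc, h6, smul_mul_smul_comm, hab, smul_zero]
        have : ((a * b : GLM) : M →ₗ[k] M) - 1 = nn (a * b) := rfl
        rw [this, hnn, smul_add]; abel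
      rw [h5]; exact G.mul_mem h3 h4
    · rw [hnn]
      rintro _ ⟨m, rfl⟩
      exact R.add_mem (haR ⟨m, rfl⟩) (hbR ⟨m, rfl⟩)
    · rw [hnn]
      intro m hm
      have h1 : nn a m = 0 := haC hm
      have h2 : nn b m = 0 := hbC hm
      show (nn a + nn b) m = 0
      rw [LinearMap.add_apply, h1, h2, add_zero]
  inv_mem' := by
    rintro a ⟨haG, haS, haR, haC⟩
    have haa : nn a * nn a = 0 := by
      ext m
      have h1 : nn a m ∈ R := haR ⟨m, rfl⟩
      exact haC (hRC h1)
    have hinv : a⁻¹ = unitOf (-nn a) (by rw [neg_mul_neg]; exact haa) := by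
      rw [inv_eq_iff_eq_inv, eq_comm, inv_eq_iff_mul_eq_one]
      apply Units.ext
      show (1 + -nn a) * (a : M →ₗ[k] M) = 1
      rw [val_eq a]
      have : (1 + -nn a) * (1 + nn a) = 1 - nn a * nn a := by noncomm_ring
      rw [this, haa, sub_zero]
    have hnn : nn a⁻¹ = -nn a := by
      rw [hinv]
      show (1 + -nn a) - 1 = -nn a
      abel
    refine ⟨G.inv_mem haG, ?_, ?_, ?_⟩
    · rintro ρ ⟨c, hc⟩
      apply haS
      refine ⟨-c, ?_⟩
      rw [hc]
      have : ((a⁻¹ : GLM) : M →ₗ[k] M) - 1 = nn a⁻¹ := rfl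
      rw [this, hnn]
      have : ((a : GLM) : M →ₗ[k] M) - 1 = nn a := rfl
      rw [this, smul_neg, neg_smul]
    · rw [hnn]
      rintro _ ⟨m, rfl⟩
      show (-nn a) m ∈ R
      rw [LinearMap.neg_apply]
      exact R.neg_mem (haR ⟨m, rfl⟩)
    · rw [hnn]
      intro m hm
      have h1 : nn a m = 0 := haC hm
      show (-nn a) m = 0
      rw [LinearMap.neg_apply, h1, neg_zero]

theorem mem_cand {G : Subgroup GLM} {R C : Submodule k M} {hRC : R ≤ C} {τ : GLM} :
    τ ∈ cand G R C hRC ↔ τ ∈ G ∧ scalarFamily τ ⊆ (G : Set GLM) ∧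
      LinearMap.range (nn τ) ≤ R ∧ C ≤ LinearMap.ker (nn τ) := Iff.rfl

theorem nn_mul_nn {G : Subgroup GLM} {R C : Submodule k M} {hRC : R ≤ C} {a b : GLM}
    (ha : a ∈ cand G R C hRC) (hb : b ∈ cand G R C hRC) : nn a * nn b = 0 := by
  obtain ⟨-, -, -, haC⟩ := ha
  obtain ⟨-, -, hbR, -⟩ := hb
  ext m
  have h1 : nn b m ∈ R := hbR ⟨m, rfl⟩
  exact haC (hRC h1)

theorem cand_comm {G : Subgroup GLM} {R C : Submodule k M} {hRC : R ≤ C} {a b : GLM}
    (ha : a ∈ cand G R C hRC) (hb : b ∈ cand G R C hRC) : a * b = b * a := by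
  apply Units.ext
  show (a : M →ₗ[k] M) * (b : M →ₗ[k] M) = (b : M →ₗ[k] M) * (a : M →ₗ[k] M)
  rw [val_eq a, val_eq b]
  have h1 : (1 + nn a) * (1 + nn b) = 1 + nn a + nn b + nn a * nn b := by noncomm_ring
  have h2 : (1 + nn b) * (1 + nn a) = 1 + nn a + nn b + nn b * nn a := by noncomm_ring
  rw [h1, h2, nn_mul_nn ha hb, nn_mul_nn hb ha]

theorem cand_pow {G : Subgroup GLM} {R C : Submodule k M} {hRC : R ≤ C} {a : GLM}
    (ha : a ∈ cand G R C hRC) (n : ℕ) : ((a ^ n : GLM) : M →ₗ[k] M) = 1 + (n : k) • nn a := by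
  induction n with
  | zero => simp
  | succ n ih =>
    rw [pow_succ]
    show ((a ^ n : GLM) : M →ₗ[k] M) * (a : M →ₗ[k] M) = _
    rw [ih, val_eq a]
    have h1 : (1 + (n : k) • nn a) * (1 + nn a) =
        1 + (n : k) • nn a + nn a + ((n : k) • nn a) * nn a := by noncomm_ring
    rw [h1, smul_mul_assoc, nn_mul_nn ha ha, smul_zero, add_zero]
    push_cast
    rw [add_smul, one_smul]; abel

/-- Let k be a field of characteristic not 2 with k not of order 3, M a finite-dimensional k-vector space and G ≤ GL(M) such that (G, M) is a quadratic pair (M irreducible for G, and G generated by its quadratically acting elements σ whose scalar family 1 + c(σ − 1), c ∈ k, lies in G). Write 𝒬_d for the quadratic elements of G of minimal commutator rank, E(σ) for the subgroup generated by the members of 𝒬_d with the same fixed space and commutator space as σ, and Σ for the set of these subgroups. Then for σ ∈ 𝒬_d the subgroup E(σ) consists exactly of those members together with the identity, it is abelian,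 and if k has prime characteristic p every element of E(σ) has order dividing p. -/
theorem result {k : Type u} [Field k] (hk2 : ringChar k ≠ 2) (hk3 : Nat.card k ≠ 3)
    {M : Type u} [AddCommGroup M] [Module k M] [FiniteDimensional k M]
    {G : Subgroup (LinearMap.GeneralLinearGroup k M)} (hG : Cfsg.IsQuadraticPair G)
    {σ : LinearMap.GeneralLinearGroup k M} (hσ : σ ∈ Cfsg.minimalQuadraticElements G) :
    (Cfsg.sameActionSubgroup G σ : Set (LinearMap.GeneralLinearGroup k M)) = Cfsg.sameActionClass G σ ∪ {1} ∧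
    IsMulCommutative ↥(Cfsg.sameActionSubgroup G σ) ∧
    (∀ p : ℕ, p.Prime → ringChar k = p → ∀ x ∈ Cfsg.sameActionSubgroup G σ, x ^ p = 1) := by
  set R := LinearMap.range (nn σ) with hR
  set C := LinearMap.ker (nn σ) with hC
  obtain ⟨⟨hσG, ⟨hσq, hσne⟩, hσS⟩, hσmin⟩ := hσ
  have hRC : R ≤ C := by
    rintro _ ⟨m, rfl⟩
    show nn σ (nn σ m) = 0
    have := congrArg (fun f : Module.End k M => f m) hσq
    exact this
  -- E_σ ⊆ cand
  have hsub : sameActionClass G σ ⊆ (cand G R C hRC : Set (LinearMap.GeneralLinearGroup k M)) := by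
    rintro τ ⟨⟨⟨hτG, -, hτS⟩, -⟩, hker, hrange⟩
    refine ⟨hτG, hτS, ?_, ?_⟩
    · show LinearMap.range ((τ : M →ₗ[k] M) - 1) ≤ R
      rw [hrange]; exact le_rfl
    · show C ≤ LinearMap.ker ((τ : M →ₗ[k] M) - 1)
      rw [hker]; exact le_rfl
  have hle : sameActionSubgroup G σ ≤ cand G R C hRC := by
    unfold sameActionSubgroup
    rw [Subgroup.closure_le]
    exact hsub
  -- elements of cand other than 1 lie in E_σ
  have hcand : ∀ τ ∈ cand G R C hRC, τ ≠ 1 → τ ∈ sameActionClass G σ := by
    rintro τ ⟨hτG, hτS, hτR, hτC⟩ hτ1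
    have hττ : nn τ * nn τ = 0 := by
      ext m
      have h1 : nn τ m ∈ R := hτR ⟨m, rfl⟩
      exact hτC (hRC h1)
    have hτq : τ ∈ quadraticElements G := by
      refine ⟨hτG, ⟨hττ, ?_⟩, hτS⟩
      intro h0
      apply hτ1
      apply Units.ext
      have : (τ : M →ₗ[k] M) = 1 + nn τ := val_eq τ
      rw [this]
      have h0' : nn τ = 0 := h0
      rw [h0']; simp
    have h1 : Module.finrank k (LinearMap.range (nn τ)) ≤ Module.finrank k R :=
      Submodule.finrank_mono hτR
    have h2 : Module.finrank k R ≤ Module.finrank k (LinearMap.range (nn τ)) := hσmin τ hτq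
    have hrange : LinearMap.range (nn τ) = R := Submodule.eq_of_le_of_finrank_le hτR h2
    have hker : LinearMap.ker (nn τ) = C := by
      symm
      apply Submodule.eq_of_le_of_finrank_le hτC
      have e1 := LinearMap.finrank_range_add_finrank_ker (nn τ)
      have e2 := LinearMap.finrank_range_add_finrank_ker (nn σ)
      rw [hrange] at e1
      have e3 : Module.finrank k (LinearMap.range (nn σ)) = Module.finrank k R := rfl
      have e4 : Module.finrank k (LinearMap.ker (nn σ)) = Module.finrank k C := rfl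
      omega
    refine ⟨⟨hτq, fun ρ hρ => ?_⟩, hker, hrange⟩
    have : commutatorRank τ = Module.finrank k (LinearMap.range (nn τ)) := rfl
    rw [this, hrange]
    exact hσmin ρ hρ
  refine ⟨?_, ?_, ?_⟩
  · ext τ
    constructor
    · intro hτ
      by_cases h1 : τ = 1
      · right; exact h1
      · left; exact hcand τ (hle hτ) h1
    · rintro (hτ | hτ)
      · exact Subgroup.subset_closure hτ
      · rw [Set.mem_singleton_iff] at hτ
        rw [hτ]; exact Subgroup.one_mem _
  · refine ⟨⟨fun a b => ?_⟩⟩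
    apply Subtype.ext
    exact cand_comm (hle a.2) (hle b.2)
  · intro p hp hchar x hx
    apply Units.ext
    rw [cand_pow (hle hx) p]
    have : (p : k) = 0 := by
      have : CharP k p := hchar ▸ ringChar.charP k
      exact CharP.cast_eq_zero k p
    rw [this, zero_smul, add_zero]
    rfl

end Cfsg.Agent.S5059
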