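import Cfsg.Statements.S5067

set_option autoImplicit false
open Cfsg

namespace Cfsg.Agent.S5067

open scoped commutatorElement

variable {P : Type*} [Group P]

/-- The derived subgroup is central modulo the third term of the lower central series, so the
join of an abelian subgroup with the derived subgroup has its commutator subgroup inside it. -/
theorem comm_sup_le (E : Subgroup P) (hE : IsMulCommutative ↥E) :
    ⁅E ⊔ (⊤ : Subgroup P).lowerCentralSeries 1, E ⊔ (⊤ : Subgroup P).lowerCentralSeries 1⁆ ≤
      (⊤ : Subgroup P).lowerCentralSeries 2 := by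
  set D := (⊤ : Subgroup P).lowerCentralSeries 1 with hD
  set K := (⊤ : Subgroup P).lowerCentralSeries 2 with hK
  have hKD : K = ⁅D, ⊤⁆ := rfl
  set π := QuotientGroup.mk' K with hπ
  -- images
  have hDc : D.map π ≤ Subgroup.center (P ⧸ K) := by
    rintro _ ⟨d, hd, rfl⟩
    rw [Subgroup.mem_center_iff]
    intro y
    obtain ⟨g, rfl⟩ := QuotientGroup.mk'_surjective K y
    have h1 : ⁅d, g⁆ ∈ K := by
      rw [hKD]; exact Subgroup.commutator_mem_commutator hd (Subgroup.mem_top g)
    have h2 : π ⁅d, g⁆ = 1 := (QuotientGroup.eq_one_iff _).mpr h1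
    rw [map_commutatorElement, commutatorElement_eq_one_iff_mul_comm] at h2
    exact h2.symm
  have hEc : E.map π ≤ Subgroup.centralizer ((E.map π : Subgroup (P ⧸ K)) : Set (P ⧸ K)) := by
    rw [Subgroup.le_centralizer_iff_isMulCommutative]
    exact Subgroup.map_isMulCommutative E π
  set A' := E.map π ⊔ D.map π with hA'
  have hA'c : A' ≤ Subgroup.centralizer ((A' : Subgroup (P ⧸ K)) : Set (P ⧸ K)) := by
    refine sup_le ?_ (hDc.trans (Subgroup.center_le_centralizer _))
    rw [Subgroup.le_centralizer_iff]
    exact sup_le hEc (hDc.trans (Subgroup.center_le_centralizer _))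
  rw [Subgroup.commutator_le]
  intro x hx y hy
  have hx' : π x ∈ A' := by
    rw [hA', ← Subgroup.map_sup]; exact Subgroup.mem_map_of_mem π hx
  have hy' : π y ∈ A' := by
    rw [hA', ← Subgroup.map_sup]; exact Subgroup.mem_map_of_mem π hy
  have hc : π y * π x = π x * π y := (Subgroup.mem_centralizer_iff.mp (hA'c hx')) _ hy'
  have : π ⁅x, y⁆ = 1 := by
    rw [map_commutatorElement, commutatorElement_eq_one_iff_mul_comm]
    exact hc.symm
  exact (QuotientGroup.eq_one_iff _).mp this

theorem normalClosure_le_sup (E : Subgroup P) :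
    Subgroup.normalClosure (E : Set P) ≤ E ⊔ (⊤ : Subgroup P).lowerCentralSeries 1 := by
  unfold Subgroup.normalClosure
  rw [Subgroup.closure_le]
  intro x hx
  rw [Group.mem_conjugatesOfSet_iff] at hx
  obtain ⟨e, he, hex⟩ := hx
  rw [isConj_iff] at hex
  obtain ⟨g, rfl⟩ := hex
  have h1 : g * e * g⁻¹ = ⁅g, e⁆ * e := by
    rw [commutatorElement_def]; group
  rw [h1]
  refine Subgroup.mul_mem _ ?_ ((le_sup_left : E ≤ E ⊔ _) he)
  apply (le_sup_right : (⊤ : Subgroup P).lowerCentralSeries 1 ≤ E ⊔ _)
  rw [Subgroup.lowerCentralSeries_succ, Subgroup.lowerCentralSeries_zero]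
  exact Subgroup.commutator_mem_commutator (Subgroup.mem_top g) (Subgroup.mem_top e)

theorem lcs_normalClosure_le (E : Subgroup P) (hE : IsMulCommutative ↥E) (k : ℕ) :
    (Subgroup.normalClosure (E : Set P)).lowerCentralSeries (k + 1) ≤
      (⊤ : Subgroup P).lowerCentralSeries (k + 2) := by
  induction k with
  | zero =>
    rw [Subgroup.lowerCentralSeries_succ, Subgroup.lowerCentralSeries_zero]
    exact (Subgroup.commutator_mono (normalClosure_le_sup E) (normalClosure_le_sup E)).trans
      (comm_sup_le E hE)
  | succ k ih =>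
    rw [Subgroup.lowerCentralSeries_succ, Subgroup.lowerCentralSeries_succ _ (k + 2)]
    exact Subgroup.commutator_mono ih le_top

theorem key [Group.IsNilpotent P] (hna : ¬ IsMulCommutative P) (E : Subgroup P)
    (hE : IsMulCommutative ↥E) :
    Group.nilpotencyClass ↥(Subgroup.normalClosure (E : Set P)) < Group.nilpotencyClass P := by
  have hc : 2 ≤ Group.nilpotencyClass P := by
    by_contra h
    push Not at h
    exact hna (Group.IsNilpotent.nilpotencyClass_le_one_iff.mp (by omega))
  obtain ⟨k, hk⟩ : ∃ k, Group.nilpotencyClass P = k + 2 := ⟨Group.nilpotencyClass P - 2, by omega⟩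
  have h1 : (⊤ : Subgroup P).lowerCentralSeries (k + 2) = ⊥ := by
    rw [← hk]; exact Subgroup.lowerCentralSeries_nilpotencyClass
  have h2 : (Subgroup.normalClosure (E : Set P)).lowerCentralSeries (k + 1) = ⊥ := by
    rw [eq_bot_iff, ← h1]; exact lcs_normalClosure_le E hE k
  have h3 : (⊤ : Subgroup ↥(Subgroup.normalClosure (E : Set P))).lowerCentralSeries (k + 1) = ⊥ := by
    rw [← Subgroup.top_subtype_lowerCentralSeries] at h2
    exact (Subgroup.map_eq_bot_iff_of_injective _ (Subgroup.subtype_injective _)).mp h2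
  have h4 := Subgroup.lowerCentralSeries_eq_bot_iff_nilpotencyClass_le.mp h3
  omega

/-- Let P be a non-abelian nilpotent p-group (every element of p-power order; P possibly infinite) generated by two abelian subgroups E and F. Then the normal closure of E in P, and likewise that of F, has nilpotency class strictly smaller than that of P. -/
theorem result {P : Type*} [Group P] {p : ℕ} [Fact p.Prime] (hP : IsPGroup p P) [Group.IsNilpotent P]
    (hna : ¬ IsMulCommutative P) {E F : Subgroup P} (hE : IsMulCommutative ↥E) (hF : IsMulCommutative ↥F) (hgen : E ⊔ F = ⊤) :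
    Group.nilpotencyClass ↥(Subgroup.normalClosure (E : Set P)) < Group.nilpotencyClass P ∧
    Group.nilpotencyClass ↥(Subgroup.normalClosure (F : Set P)) < Group.nilpotencyClass P :=
  ⟨key hna E hE, key hna F hF⟩

end Cfsg.Agent.S5067
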