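import Cfsg.Statements.S5078
import Cfsg.Agent.Lib.Helper87.FusionBasic

set_option autoImplicit false
open Cfsg

namespace Cfsg.Agent.S5078

open Cfsg.Agent.Lib.Helper87 Cfsg.FusionSystem

/-- In any fusion system over a finite subgroup S, a receptive subgroup is fully centralized. -/
theorem result {Ω : Type*} [Group Ω] {S : Subgroup Ω} [Finite S] (F : Cfsg.FusionSystem S) (P : Subgroup Ω) (hP : F.IsReceptive P) : F.IsFullyCentralized P := by
  obtain ⟨hPS, hrec⟩ := hP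
  refine ⟨hPS, fun Q hQ => ?_⟩
  obtain ⟨φ, hφ, hφr⟩ := hQ
  obtain ⟨ψ, hψ, hψφ, hψr⟩ := inv_mem' F hφ hφr
  obtain ⟨χ, hχ, hχψ⟩ := hrec Q ψ hψ hψr
  have hQS : Q ≤ S := hom_le F hψ
  have hQN : Q ≤ extender S Q ψ := le_extender hQS (hom_mem F hψ)
  have hCN : centralizerIn S Q ≤ extender S Q ψ := centralizerIn_le_extender S Q ψ
  have hχinj := F.injective_of_mem hχ
  have hmem : ∀ c : centralizerIn S Q, χ ⟨c, hCN c.2⟩ ∈ centralizerIn S P := by
    intro c
    rw [mem_centralizerIn]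
    refine ⟨hom_mem F hχ _, fun y hy => ?_⟩
    rw [← hψr] at hy
    obtain ⟨q, rfl⟩ := hy
    rw [← hχψ q q.2 (hQN q.2)]
    rw [← map_mul, ← map_mul]
    congr 1
    apply Subtype.ext
    show (q : Ω) * c = c * q
    exact (mem_centralizerIn.mp c.2).2 q q.2
  haveI : Finite (centralizerIn S P) := finite_of_le (centralizerIn_le S P)
  refine Nat.card_le_card_of_injective (fun c => (⟨χ ⟨c, hCN c.2⟩, hmem c⟩ : centralizerIn S P)) ?_
  intro a b hab
  have h1 : χ ⟨a, hCN a.2⟩ = χ ⟨b, hCN b.2⟩ := congrArg Subtype.val hab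
  have h2 := hχinj h1
  exact Subtype.ext (congrArg (fun z : ↥(extender S Q ψ) => (z : Ω)) h2)

end Cfsg.Agent.S5078
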