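import Cfsg.Statements.S5102
import Cfsg.Agent.Lib.Helper87.FusionBasic

set_option autoImplicit false
open Cfsg

namespace Cfsg.Agent.S5102

open Cfsg.Agent.Lib.Helper87

/-- A normal p-subgroup of a finite group G is normal in the fusion system of G on a Sylow p-subgroup. -/
theorem result {G : Type*} [Group G] [Finite G] (p : ℕ) [Fact p.Prime] (S : Sylow p G) (R : Subgroup G) [R.Normal] (hR : IsPGroup p R) : (Cfsg.groupFusionSystem (S : Subgroup G)).IsNormal R := by
  have hRS : R ≤ (S : Subgroup G) := hR.le_sylow_of_normal S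
  refine ⟨hRS, fun P φ hφ => ?_⟩
  obtain ⟨hPS, hφS, g, hg⟩ := hφ
  have hsup : P ⊔ R ≤ (S : Subgroup G) := sup_le hPS hRS
  have hconj : P ⊔ R ≤ (S : Subgroup G).comap (MulAut.conj g).toMonoidHom := by
    refine sup_le ?_ ?_
    · intro x hx
      have := hφS ⟨x, hx⟩
      rw [hg] at this
      simpa using this
    · intro x hx
      have : g * x * g⁻¹ ∈ R := ‹R.Normal›.conj_mem x hx g
      simpa using hRS this
  refine ⟨conjHom (P ⊔ R) g, ⟨hsup, fun x => ?_, g, fun x => rfl⟩, fun x => ?_, ?_⟩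
  · have := hconj x.2
    simpa [conjHom] using this
  · rw [hg]; rfl
  · ext y
    constructor
    · rintro ⟨x, hx, rfl⟩
      have hxR : (x : G) ∈ R := hx
      exact ‹R.Normal›.conj_mem _ hxR g
    · intro hy
      have h1 : g⁻¹ * y * g ∈ R := by
        have := ‹R.Normal›.conj_mem y hy g⁻¹
        simpa using this
      refine ⟨⟨g⁻¹ * y * g, (le_sup_right : R ≤ P ⊔ R) h1⟩, h1, ?_⟩
      show g * (g⁻¹ * y * g) * g⁻¹ = y
      group

end Cfsg.Agent.S5102
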