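import Cfsg.Statements.S5104
import Cfsg.Agent.Lib.Helper87.FusionSaturated

set_option autoImplicit false
open Cfsg

namespace Cfsg.Agent.S5104

open Cfsg.Agent.Lib.Helper87 Cfsg.FusionSystem

/-- In a saturated fusion system over a finite p-group S, a fully centralized subgroup U with C_S(U) ≤ U is centric. -/
theorem result {Ω : Type*} [Group Ω] {S : Subgroup Ω} [Finite S] (p : ℕ) [Fact p.Prime] (hS : IsPGroup p S) (F : Cfsg.FusionSystem S) (hF : F.IsSaturated p) (U : Subgroup Ω) (hU : F.IsFullyCentralized U) (hC : Cfsg.FusionSystem.centralizerIn S U ≤ U) : F.IsCentric U := by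
  have hrec := isReceptive_of_isFullyCentralized p hS F hF U hU
  refine ⟨hU.1, fun Q hQ => ?_⟩
  -- an F-map Q → U with range U
  obtain ⟨ψ, hψ, hψr⟩ := isConj_symm F hQ
  obtain ⟨χ, hχ, hχψ⟩ := hrec.2 Q ψ hψ hψr
  have hQS : Q ≤ S := hom_le F hψ
  have hQN : Q ≤ extender S Q ψ := le_extender hQS (hom_mem F hψ)
  have hCN : centralizerIn S Q ≤ extender S Q ψ := centralizerIn_le_extender S Q ψ
  have hχinj := F.injective_of_mem hχ
  intro c hc
  -- χ c ∈ C_S(U) ≤ U = ψ(Q)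
  have h1 : χ ⟨c, hCN hc⟩ ∈ centralizerIn S U := by
    rw [mem_centralizerIn]
    refine ⟨hom_mem F hχ _, fun y hy => ?_⟩
    rw [← hψr] at hy
    obtain ⟨q, rfl⟩ := hy
    rw [← hχψ q q.2 (hQN q.2), ← map_mul, ← map_mul]
    congr 1
    apply Subtype.ext
    show (q : Ω) * c = c * q
    exact (mem_centralizerIn.mp hc).2 q q.2
  have h2 : χ ⟨c, hCN hc⟩ ∈ ψ.range := hψr ▸ hC h1
  obtain ⟨q, hq⟩ := h2
  rw [← hχψ q q.2 (hQN q.2)] at hq
  have h3 := hχinj hq
  have h4 : (q : Ω) = c := congrArg (fun z : ↥(extender S Q ψ) => (z : Ω)) h3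
  rw [← h4]; exact q.2

end Cfsg.Agent.S5104
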