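import Cfsg.Statements.S5107
import Cfsg.Agent.S5076
import Cfsg.Agent.S5088

set_option autoImplicit false
open Cfsg

namespace Cfsg.Agent.S5107

open Cfsg.Agent.Lib.Helper87 (hom_le hom_mem restrict_mem finite_of_le hom_congr subtype_mem mem_centralizerIn isConj_refl centralizerIn_le)
open Cfsg.FusionSystem
open scoped commutatorElement

/-- If a Sylow p-subgroup S of a finite group G has nilpotency class at most two and its centre is strongly closed in S with respect to G, then every map of the fusion system of G on S is conjugation by an element of N_G(S), and S is the largest subgroup normal in that fusion system. -/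
theorem result {G : Type*} [Group G] [Finite G] (p : ℕ) [Fact p.Prime] (S : Sylow p G) (hcl : ⁅(S : Subgroup G), (S : Subgroup G)⁆ ≤ (S : Subgroup G) ⊓ Subgroup.centralizer ((S : Subgroup G) : Set G)) (hZ : Cfsg.IsStronglyClosed ((S : Subgroup G) ⊓ Subgroup.centralizer ((S : Subgroup G) : Set G)) (S : Subgroup G)) : (∀ (P : Subgroup G) (φ : P →* G), φ ∈ (Cfsg.groupFusionSystem (S : Subgroup G)).Hom P → ∃ g ∈ Subgroup.normalizer ((S : Subgroup G) : Set G), ∀ x : P, φ x = g * (x : G) * g⁻¹) ∧ (Cfsg.groupFusionSystem (S : Subgroup G)).core = S := by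
  set T : Subgroup G := (S : Subgroup G) with hT
  set F := Cfsg.groupFusionSystem T with hF
  set Z : Subgroup G := T ⊓ Subgroup.centralizer (T : Set G) with hZdef
  have hsat : F.IsSaturated p := Cfsg.Agent.S5076.result p S
  have hTp : IsPGroup p T := S.isPGroup'
  have hZsc : F.StronglyClosed Z := by
    refine ⟨hZ.1, fun R hR φ hφ x => ?_⟩
    obtain ⟨-, hφS, g, hg⟩ := hφ
    rw [hg x]
    apply hZ.2 _ (hR x.2) g
    rw [← hg x]
    exact hφS x
  have hTsc : F.StronglyClosed T := ⟨le_rfl, fun R _ φ hφ x => hφ.2.1 x⟩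
  have hnorm : F.IsNormal T := by
    rw [Cfsg.Agent.S5088.result p hTp F hsat T]
    refine ⟨2, ![⊥, Z, T], rfl, rfl, ?_, ?_⟩
    · intro i j hij
      fin_cases i <;> fin_cases j <;> first | exact le_rfl | exact bot_le | exact hZ.1 | (exfalso; revert hij; decide)
    · intro i
      fin_cases i
      · refine ⟨hZsc, ?_⟩
        show ⁅T, Z⁆ ≤ ⊥
        rw [Subgroup.commutator_le]
        intro a ha b hb
        rw [Subgroup.mem_bot, commutatorElement_eq_one_iff_commute]
        exact ((Subgroup.mem_centralizer_iff.mp hb.2) a ha)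
      · exact ⟨hTsc, hcl⟩
  refine ⟨fun P φ hφ => ?_, ?_⟩
  · obtain ⟨ψ, hψ, hψφ, hψT⟩ := hnorm.2 P φ hφ
    obtain ⟨-, hψS, g, hg⟩ := hψ
    refine ⟨g, ?_, fun x => ?_⟩
    · rw [Subgroup.mem_normalizer_iff]
      intro h
      constructor
      · intro hh
        have hmem : h ∈ P ⊔ T := (le_sup_right : T ≤ P ⊔ T) hh
        have := hψS ⟨h, hmem⟩
        rwa [hg] at this
      · intro hh
        rw [← hψT] at hh
        obtain ⟨y, hy, hyh⟩ := hh
        rw [hg] at hyh
        have : (y : G) = h := by
          have := mul_left_cancel (mul_right_cancel hyh)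
          exact this
        rw [← this]
        exact Subgroup.mem_subgroupOf.mp hy
    · rw [← hψφ x, hg]
      rfl
  · apply le_antisymm
    · exact sSup_le (fun Q hQ => hQ.1)
    · exact le_sSup hnorm

end Cfsg.Agent.S5107
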