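import Cfsg.Statements.S5112
import Cfsg.Agent.Lib.Helper88.AutTwoGroup
import Cfsg.Agent.Lib.Helper88.SylowLocal2

set_option autoImplicit false
open Cfsg

namespace Cfsg.Agent.S5112

open Cfsg.Agent.Lib.Helper88

/-- If S is a dihedral or generalized quaternion 2-group of order at least 16, then in every saturated fusion system over S (at the prime 2) the automorphism group Aut_F(S) consists of the inner automorphisms of S. -/
theorem result {Ω : Type*} [Group Ω] {S : Subgroup Ω} [Finite S] (n : ℕ) (hn : 4 ≤ n) (hshape : Nonempty (S ≃* DihedralGroup (2 ^ (n - 1))) ∨ Nonempty (S ≃* QuaternionGroup (2 ^ (n - 2)))) (F : Cfsg.FusionSystem S) (hF : F.IsSaturated 2) : F.autGroup S = Cfsg.Inn S := by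
  -- Aut(S) is a 2-group
  have hAut : IsPGroup 2 (MulAut S) := by
    rcases hshape with ⟨⟨e⟩⟩ | ⟨⟨e⟩⟩
    · exact (isPGroup_two_mulAut_dihedral (n - 1) (by omega)).of_equiv (MulAut.congr e).symm
    · have h := isPGroup_two_mulAut_quaternion (n - 1) (by omega)
      rw [show n - 1 - 1 = n - 2 by omega] at h
      exact h.of_equiv (MulAut.congr e).symm
  -- S is fully automized
  obtain ⟨Q, ⟨φ, hφ, hφQ⟩, hQaut, -⟩ := hF S le_rfl
  have hQS : Q ≤ S := by
    rw [← hφQ]
    rintro _ ⟨x, rfl⟩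
    exact (F.le_of_mem hφ).2 x
  have hQeq : Q = S := by
    apply Subgroup.eq_of_le_of_card_ge hQS
    rw [← hφQ]
    exact (Nat.card_congr (MonoidHom.ofInjective (F.injective_of_mem hφ)).toEquiv).le
  subst hQeq
  obtain ⟨-, R, hR⟩ := hQaut
  -- the Sylow subgroup is everything
  have hA : IsPGroup 2 (F.autGroup Q) := hAut.to_subgroup _
  have htop : IsPGroup 2 (⊤ : Subgroup (F.autGroup Q)) := hA.to_subgroup _
  have hRtop : (⊤ : Subgroup (F.autGroup Q)) = R := R.is_maximal' htop le_top
  apply le_antisymm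
  · intro α hα
    have h1 : (⟨α, hα⟩ : F.autGroup Q) ∈ (R : Subgroup (F.autGroup Q)) := by
      rw [← hRtop]; exact Subgroup.mem_top _
    rw [hR, Subgroup.mem_subgroupOf] at h1
    obtain ⟨g, hg, hgα⟩ := (mem_autInducedBy_iff α).mp h1
    refine ⟨⟨g, hg⟩, ?_⟩
    ext x
    rw [hgα x]
    rfl
  · rintro _ ⟨s, rfl⟩
    apply Subgroup.subset_closure
    show Q.subtype.comp (MulAut.conj s).toMonoidHom ∈ F.Hom Q
    have : Q.subtype.comp (MulAut.conj s).toMonoidHom = conjHom Q (s : Ω) := by
      ext x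
      rfl
    rw [this]
    exact F.conj_mem le_rfl s.2

end Cfsg.Agent.S5112
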