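import Cfsg.Statements.S5115
import Cfsg.Agent.Lib.Helper87.SubnormalFusion
import Cfsg.Agent.S5342
import Cfsg.Agent.S0542

set_option autoImplicit false
open Cfsg

namespace Cfsg.Agent.S5115

open Cfsg.Agent.Lib.Helper87 in
/-- General prime version: the fusion system of a subnormal subgroup of a group with constrained
fusion system is constrained. -/
theorem constrained_of_subnormal {G : Type*} [Group G] [Finite G] (p : ℕ) [Fact p.Prime]
    (S : Sylow p G)
    (hF : (Cfsg.groupFusionSystem (S : Subgroup G)).IsConstrained p) (H : Subgroup G)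
    (hH : H.IsSubnormal) :
    (Cfsg.groupFusionSystem ((S : Subgroup G).subgroupOf H)).IsConstrained p := by
  have hsyl : ∀ K : Subgroup G, K.IsSubnormal →
      ∃ Q : Sylow p K, (Q : Subgroup K) = (S : Subgroup G).subgroupOf K :=
    fun K hK => Cfsg.Agent.S0542.result p K hK S
  have hsub := relFusionSystem_isSubnormalIn p S H hH hsyl
  have hc : (relFusionSystem H ((S : Subgroup G) ⊓ H) inf_le_right).IsConstrained p :=
    Cfsg.Agent.S5342.result p S.isPGroup' _ hF _ hsub
  obtain ⟨Q, hQ⟩ := hsyl H hH
  have hι := relFusionSystem_realized H ((S : Subgroup G) ⊓ H) inf_le_right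
  have hι' := groupFusionSystem_isRealizedBy ((S : Subgroup G).subgroupOf H)
  have hr : (Subgroup.inclusion (inf_le_right : (S : Subgroup G) ⊓ H ≤ H)).range
      = ((S : Subgroup G).subgroupOf H).subtype.range := by
    rw [Subgroup.inclusion_range, Subgroup.inf_subgroupOf_right, Subgroup.range_subtype]
  have hQ' : (Q : Subgroup H) = ((S : Subgroup G).subgroupOf H).subtype.range := by
    rw [hQ, Subgroup.range_subtype]
  exact isConstrained_of_realized p _ _ hι hι' hr Q hQ' hc

/-- If the 2-fusion system of a finite group G on a Sylow 2-subgroup S is constrained, then for every subnormal subgroup H of G the 2-fusion system of H on S ∩ H is constrained. -/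
theorem result {G : Type*} [Group G] [Finite G] (S : Sylow 2 G) (hF : (Cfsg.groupFusionSystem (S : Subgroup G)).IsConstrained 2) (H : Subgroup G) (hH : H.IsSubnormal) : (Cfsg.groupFusionSystem ((S : Subgroup G).subgroupOf H)).IsConstrained 2 := by
  haveI : Fact (Nat.Prime 2) := ⟨Nat.prime_two⟩
  exact constrained_of_subnormal 2 S hF H hH

end Cfsg.Agent.S5115
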