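import Cfsg.Statements.S5125
import Cfsg.Agent.S5086
import Cfsg.Agent.Lib.Helper90.FusionNormal
import Cfsg.Agent.Lib.Helper90.StabChain
import Cfsg.Agent.Lib.Helper90.FusionRadical

set_option autoImplicit false
open Cfsg

namespace Cfsg.Agent.S5125

open Cfsg.Agent.Lib.Helper87 (hom_le hom_mem restrict_mem finite_of_le hom_congr subtype_mem mem_centralizerIn isConj_refl centralizerIn_le)
open Cfsg.Agent.Lib.Helper90 Cfsg.FusionSystem
open scoped commutatorElement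

variable {Ω : Type*} [Group Ω] {S : Subgroup Ω}

/-- The chain `⊥ ≤ Q₁ ∩ P ≤ Q ∩ P ≤ P ≤ …` on `P`. -/
def ch (P Q₁ Q : Subgroup Ω) : ℕ → Subgroup P
  | 0 => ⊥
  | 1 => Q₁.subgroupOf P
  | 2 => Q.subgroupOf P
  | _ + 3 => ⊤

theorem ch_mono (P Q₁ Q : Subgroup Ω) (h : Q₁ ≤ Q) : Monotone (ch P Q₁ Q) := by
  apply monotone_nat_of_le_succ
  intro n
  match n with
  | 0 => exact bot_le
  | 1 => intro x hx; exact Subgroup.mem_subgroupOf.mpr (h (Subgroup.mem_subgroupOf.mp hx))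
  | 2 => exact le_top
  | n + 3 => exact le_top

theorem le_of_centric_radical [Finite S] (p : ℕ) [Fact p.Prime] (hS : IsPGroup p S) (F : FusionSystem S)
    (Q Q₁ : Subgroup Ω) (hQ : F.StronglyClosed Q) (hQ₁Q : Q₁ ≤ Q) (hQ₁sc : F.StronglyClosed Q₁)
    (hab : ⁅Q, Q⁆ ≤ Q₁) (hAut : IsPGroup p ↥(F.autGroup Q₁))
    (P : Subgroup Ω) (hPc : F.IsCentric P) (hPr : F.IsRadical p P) (hQ₁P : Q₁ ≤ P) : Q ≤ P := by
  by_contra hQP
  have hPS := hPc.1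
  have : Finite P := finite_of_le hPS
  have hQn := StronglyClosed.conj_mem F hQ
  obtain ⟨g, hgQ, hgN, hgP⟩ := exists_normalizer_not_mem hS hQ.1 hPS hQn hQP
  apply hgP
  have hc'm := ch_mono P Q₁ Q hQ₁Q
  have hcm : Monotone (fun j => ch P Q₁ Q (j + 1)) := fun a b h => hc'm (Nat.succ_le_succ h)
  have hinv : ∀ α ∈ F.autGroup P, ∀ j, ∀ x ∈ ch P Q₁ Q (j + 1), α x ∈ ch P Q₁ Q (j + 1) := by
    intro α hα j x hx
    match j with
    | 0 =>
      exact Subgroup.mem_subgroupOf.mpr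
        (StronglyClosed.aut_mem F hQ₁sc hPS hα x (Subgroup.mem_subgroupOf.mp hx))
    | 1 =>
      exact Subgroup.mem_subgroupOf.mpr
        (StronglyClosed.aut_mem F hQ hPS hα x (Subgroup.mem_subgroupOf.mp hx))
    | j + 2 => trivial
  let D : Subgroup (F.autGroup P) :=
    (stabChain (fun j => ch P Q₁ Q (j + 1)) hcm).subgroupOf (F.autGroup P)
  have hDn : D.Normal := by
    refine ⟨fun d hd a => ?_⟩
    have hd' : (d : MulAut P) ∈ stabChain (fun j => ch P Q₁ Q (j + 1)) hcm := hd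
    have := stabChain_conj_mem (fun j => ch P Q₁ Q (j + 1)) hcm (a : MulAut P) (hinv a a.2)
      (hinv _ (Subgroup.inv_mem _ a.2)) hd'
    exact this
  have hDp : IsPGroup p D := by
    rintro ⟨β, hβ⟩
    have hβs : (β : MulAut P) ∈ stabChain (fun j => ch P Q₁ Q (j + 1)) hcm := hβ
    have h1 : ∀ x : Q₁, (((β : MulAut P) ⟨x, hQ₁P x.2⟩ : P) : Ω) ∈ Q₁ :=
      fun x => StronglyClosed.aut_mem F hQ₁sc hPS β.2 _ x.2
    have h1' : ∀ x : Q₁, ((((β : MulAut P))⁻¹ ⟨x, hQ₁P x.2⟩ : P) : Ω) ∈ Q₁ :=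
      fun x => StronglyClosed.aut_mem F hQ₁sc hPS (Subgroup.inv_mem _ β.2) _ x.2
    have hr : restrictAut hQ₁P (β : MulAut P) h1 h1' ∈ F.autGroup Q₁ :=
      restrictAut_mem_autGroup F hPS hQ₁P β β.2 h1 h1'
    obtain ⟨k, hk⟩ := hAut ⟨_, hr⟩
    have hk' : (restrictAut hQ₁P (β : MulAut P) h1 h1') ^ (p ^ k) = 1 := congrArg Subtype.val hk
    have hfix : ∀ x ∈ ch P Q₁ Q 1, ((β : MulAut P) ^ (p ^ k)) x = x := by
      intro x hx
      have hxQ : (x : Ω) ∈ Q₁ := Subgroup.mem_subgroupOf.mp hx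
      have h2 := restrictAut_pow_apply hQ₁P (β : MulAut P) h1 h1' (p ^ k) ⟨x, hxQ⟩
      rw [hk'] at h2
      apply Subtype.ext
      exact h2.symm
    have hpow : (β : MulAut P) ^ (p ^ k) ∈ stabChain (fun j => ch P Q₁ Q (j + 1)) hcm :=
      Subgroup.pow_mem _ hβs _
    obtain ⟨e, he⟩ := (hS.to_le hPS).exists_card_eq
    have hm : ∀ x : P, x ^ (p ^ e) = 1 := fun x => by rw [← he]; exact pow_card_eq_one'
    have h3 := stab_chain_pow_eq_one hm (ch P Q₁ Q) rfl hc'm 3 rfl ((β : MulAut P) ^ (p ^ k)) (by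
      intro i x hx
      match i with
      | 0 =>
        rw [hfix x hx]
        simp
      | i + 1 => exact (hpow i x hx).1)
    refine ⟨k + e * 3, ?_⟩
    apply Subtype.ext
    apply Subtype.ext
    show (β : MulAut P) ^ (p ^ (k + e * 3)) = 1
    rw [pow_add, pow_mul p e 3, pow_mul]
    exact h3
  have hconj : ∀ (g : Ω) (_ : g ∈ Q) (hgN : g ∈ Subgroup.normalizer (P : Set Ω)), ∀ i,
      ∀ x ∈ ch P Q₁ Q (i + 1 + 1), x⁻¹ * (P.normalizerMonoidHom ⟨g, hgN⟩) x ∈ ch P Q₁ Q (i + 1) := by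
    intro g hgQ hgN i x hx
    match i with
    | 0 =>
      have hxQ : (x : Ω) ∈ Q := Subgroup.mem_subgroupOf.mp hx
      apply Subgroup.mem_subgroupOf.mpr
      apply hab
      have : ((x⁻¹ * (P.normalizerMonoidHom ⟨g, hgN⟩) x : P) : Ω) = ⁅(x : Ω)⁻¹, g⁆ := by
        show (x : Ω)⁻¹ * (g * (x : Ω) * g⁻¹) = (x : Ω)⁻¹ * g * (x : Ω)⁻¹⁻¹ * g⁻¹
        group
      rw [this]
      exact Subgroup.commutator_mem_commutator (Subgroup.inv_mem _ hxQ) hgQ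
    | 1 =>
      apply Subgroup.mem_subgroupOf.mpr
      show (x : Ω)⁻¹ * (g * (x : Ω) * g⁻¹) ∈ Q
      have h3 : (x : Ω)⁻¹ * g * (x : Ω)⁻¹⁻¹ ∈ Q := hQn _ (S.inv_mem (hPS x.2)) g hgQ
      have e3 : (x : Ω)⁻¹ * (g * (x : Ω) * g⁻¹) = ((x : Ω)⁻¹ * g * (x : Ω)⁻¹⁻¹) * g⁻¹ := by group
      rw [e3]
      exact Q.mul_mem h3 (Q.inv_mem hgQ)
    | i + 2 => trivial
  refine mem_of_conj_mem_normal_pGroup F hPc hPr D hDn hDp g (hQ.1 hgQ) hgN (fun h => ?_)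
  show P.normalizerMonoidHom ⟨g, hgN⟩ ∈ stabChain (fun j => ch P Q₁ Q (j + 1)) hcm
  intro i x hx
  refine ⟨hconj g hgQ hgN i x hx, ?_⟩
  have hginv : g⁻¹ ∈ Subgroup.normalizer (P : Set Ω) := Subgroup.inv_mem _ hgN
  have e : (P.normalizerMonoidHom ⟨g, hgN⟩)⁻¹ = P.normalizerMonoidHom ⟨g⁻¹, hginv⟩ := by
    rw [← map_inv]; rfl
  rw [e]
  exact hconj g⁻¹ (Q.inv_mem hgQ) hginv i x hx

/-- Let F be a saturated fusion system over a finite p-group S and Q a subgroup strongly closed in F. If Q has a subgroup Q₁ that is normal in F, with Q/Q₁ abelian and Aut_F(Q₁) a p-group, then Q is normal in F. -/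
theorem result {Ω : Type*} [Group Ω] {S : Subgroup Ω} [Finite S] (p : ℕ) [Fact p.Prime] (hS : IsPGroup p S) (F : Cfsg.FusionSystem S) (hF : F.IsSaturated p) (Q Q₁ : Subgroup Ω) (hQ : F.StronglyClosed Q) (hQ₁Q : Q₁ ≤ Q) (hQ₁ : F.IsNormal Q₁) (hab : ⁅Q, Q⁆ ≤ Q₁) (hAut : IsPGroup p ↥(F.autGroup Q₁)) : F.IsNormal Q := by
  rw [Cfsg.Agent.S5086.result p hS F hF Q]
  refine ⟨hQ, fun P hPc hPr => ?_⟩
  have hQ₁P : Q₁ ≤ P := ((Cfsg.Agent.S5086.result p hS F hF Q₁).mp hQ₁).2 P hPc hPr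
  exact le_of_centric_radical p hS F Q Q₁ hQ hQ₁Q (IsNormal.stronglyClosed F hQ₁) hab hAut P hPc hPr hQ₁P

end Cfsg.Agent.S5125
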