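import Cfsg.Statements.S5135
import Cfsg.Agent.Lib.Helper88.SylowConj
import Cfsg.Agent.Lib.Helper88.FusionFactor

set_option autoImplicit false
open Cfsg

namespace Cfsg.Agent.S5135

open Cfsg.Agent.Lib.Helper88

/-- Let G be a finite group, S a Sylow p-subgroup and H a normal subgroup of G. Then the fusion system of G/H on the image SH/H of S is the factor system of the fusion system of G on S modulo S ∩ H, read through the quotient map restricted to S: for each subgroup P' of SH/H, the conjugation maps by elements of G/H defined on P' with values in SH/H are exactly the homomorphisms induced by the conjugation maps by elements of G defined on the full preimage of P' in S with values in S. -/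
theorem result {G : Type*} [Group G] [Finite G] (p : ℕ) [Fact p.Prime] (S : Sylow p G) (H : Subgroup G) [H.Normal] : (Cfsg.groupFusionSystem (S : Subgroup G)).IsFactorSystem ((S : Subgroup G) ⊓ H) ((QuotientGroup.mk' H).comp (S : Subgroup G).subtype) (Cfsg.groupFusionSystem ((S : Subgroup G).map (QuotientGroup.mk' H))) := by
  set θ : (S : Subgroup G) →* G ⧸ H := (QuotientGroup.mk' H).comp (S : Subgroup G).subtype with hθ
  have hrange : θ.range = (S : Subgroup G).map (QuotientGroup.mk' H) := by
    rw [hθ, MonoidHom.range_comp, Subgroup.range_subtype]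
  refine ⟨inf_le_left, ?_, hrange, ?_⟩
  · intro s
    show QuotientGroup.mk' H (s : G) = 1 ↔ _
    rw [QuotientGroup.mk'_apply, QuotientGroup.eq_one_iff]
    exact ⟨fun h => ⟨s.2, h⟩, fun h => h.2⟩
  · intro P' φ'
    constructor
    · rintro ⟨hP', hφ'S, g', hg'⟩
      refine ⟨hP', ?_⟩
      obtain ⟨g, rfl⟩ := QuotientGroup.mk'_surjective H g'
      set P := FusionSystem.preimageAlong θ P' with hP
      have hPS : P ≤ S := preimageAlong_le θ P'
      -- the conjugate of `P` by `g` lies in `S H`
      have hP₁ : P.map (MulAut.conj g).toMonoidHom ≤ (S : Subgroup G) ⊔ H := by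
        rintro _ ⟨x, hx, rfl⟩
        obtain ⟨hxS, hxP'⟩ := (mem_preimageAlong θ P' x).mp hx
        have h1 := hφ'S ⟨θ ⟨x, hxS⟩, hxP'⟩
        rw [hg'] at h1
        obtain ⟨s, hs, hs'⟩ := h1
        have h2 : QuotientGroup.mk' H s = QuotientGroup.mk' H (g * x * g⁻¹) := by
          rw [hs']
          simp [hθ]
        have h3 : s⁻¹ * (g * x * g⁻¹) ∈ H := by
          rw [← QuotientGroup.eq]
          exact h2
        have h4 : g * x * g⁻¹ = s * (s⁻¹ * (g * x * g⁻¹)) := by group
        show g * x * g⁻¹ ∈ _
        rw [h4]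
        exact Subgroup.mul_mem _ (Subgroup.mem_sup_left hs) (Subgroup.mem_sup_right h3)
      have hPp : IsPGroup p (P.map (MulAut.conj g).toMonoidHom) :=
        (S.2.to_le hPS).map _
      obtain ⟨h, hh, hconj⟩ := exists_conj_le_sylow_of_le_sup_normal S H hP₁ hPp
      have hval : ∀ x : P, (h * g) * (x : G) * (h * g)⁻¹ ∈ (S : Subgroup G) := by
        intro x
        have := hconj (g * x * g⁻¹) ⟨x, x.2, rfl⟩
        have e : (h * g) * (x : G) * (h * g)⁻¹ = h * (g * x * g⁻¹) * h⁻¹ := by group
        rw [e]
        exact this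
      refine ⟨conjHom P (h * g), ⟨hPS, hval, h * g, fun x => rfl⟩, hPS, hval,
        fun x => ((mem_preimageAlong θ P' x).mp x.2).2, fun x => ?_⟩
      rw [hg']
      show QuotientGroup.mk' H g * QuotientGroup.mk' H (x : G) * (QuotientGroup.mk' H g)⁻¹
        = QuotientGroup.mk' H ((h * g) * (x : G) * (h * g)⁻¹)
      have hh1 : QuotientGroup.mk' H h = 1 := by
        rw [QuotientGroup.mk'_apply, QuotientGroup.eq_one_iff]
        exact hh
      simp only [map_mul, map_inv, hh1, one_mul]
    · rintro ⟨hP', φ, ⟨hPS, hφS, g, hg⟩, hPS2, hφS2, hPP', hind⟩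
      refine ⟨hP', ?_, QuotientGroup.mk' H g, ?_⟩
      · intro y
        obtain ⟨s, hsS, hsP, hs⟩ := exists_preimage θ hrange hP' y
        have h := hind ⟨s, hsP⟩
        have e : (⟨θ ⟨((⟨s, hsP⟩ : FusionSystem.preimageAlong θ P') : G), hPS hsP⟩, hPP' ⟨s, hsP⟩⟩ : P') = y :=
          Subtype.ext hs
        rw [e] at h
        rw [h]
        exact ⟨_, hφS _, rfl⟩
      · intro y
        obtain ⟨s, hsS, hsP, hs⟩ := exists_preimage θ hrange hP' y
        have h := hind ⟨s, hsP⟩
        have e : (⟨θ ⟨((⟨s, hsP⟩ : FusionSystem.preimageAlong θ P') : G), hPS hsP⟩, hPP' ⟨s, hsP⟩⟩ : P') = y :=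
          Subtype.ext hs
        rw [e] at h
        rw [h, ← hs]
        show QuotientGroup.mk' H (φ ⟨s, hsP⟩) = QuotientGroup.mk' H g * QuotientGroup.mk' H s * (QuotientGroup.mk' H g)⁻¹
        rw [hg]
        simp only [map_mul, map_inv]

end Cfsg.Agent.S5135
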