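import Cfsg.Statements.S5139
import Cfsg.Agent.S5093
import Cfsg.Agent.Lib.Helper87.PPowerIndex

set_option autoImplicit false
open Cfsg

namespace Cfsg.Agent.S5139

open Cfsg.FusionSystem Cfsg.Agent.Lib.Helper87

/-- Let G be a finite group with Sylow p-subgroup S and O^p(G) the subgroup generated by the elements of order prime to p. Then the p-residual subsystem of the fusion system of G on S — the saturated subsystem of p-power index over the hyperfocal subgroup — is the fusion system of O^p(G) on S ∩ O^p(G): its maps are exactly the conjugation maps by elements of O^p(G) between subgroups of S ∩ O^p(G). -/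
theorem result {G : Type*} [Group G] [Finite G] (p : ℕ) [Fact p.Prime] (S : Sylow p G) (E : Cfsg.FusionSystem ((Cfsg.groupFusionSystem (S : Subgroup G)).hyperfocalSubgroup p)) (hE : (Cfsg.groupFusionSystem (S : Subgroup G)).IsPResidual p E) : ∃ h : (S : Subgroup G) ⊓ Cfsg.pResidual p G ≤ Cfsg.pResidual p G, ∀ P : Subgroup G, E.Hom P = (Cfsg.fusionSystemOfSubgroup (Cfsg.pResidual p G) ((S : Subgroup G) ⊓ Cfsg.pResidual p G) h).Hom P := by
  refine ⟨inf_le_right, fun P => ?_⟩
  obtain ⟨hEsat, hEsub, -, hEaut⟩ := hE
  have hn := Cfsg.Agent.Lib.Helper42.pResidual_normal p G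
  have hTT := Cfsg.Agent.S5093.result p S
  have hT₂ : IsPGroup p ((S : Subgroup G) ⊓ Cfsg.pResidual p G : Subgroup G) :=
    S.isPGroup'.to_le inf_le_left
  have hT₁ : IsPGroup p ((Cfsg.groupFusionSystem (S : Subgroup G)).hyperfocalSubgroup p) := by
    rw [hTT]; exact hT₂
  have hfin : Finite ((Cfsg.groupFusionSystem (S : Subgroup G)).hyperfocalSubgroup p) := inferInstance
  apply Set.Subset.antisymm
  · exact hom_subset_of_saturated_of_pResidual_le p hT₁ hTT _ E _ hEsat hEsub
      (fun Q hQ => pResidual_autGroup_le_rel p (S : Subgroup G) _ inf_le_right inf_le_left Q hQ) P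
  · exact hom_subset_of_saturated_of_pResidual_le p hT₂ hTT.symm _ _ E
      (fusionSystemOfSubgroup_saturated p S (Cfsg.pResidual p G))
      (fusionSystemOfSubgroup_isSubsystemOf _ _ (S : Subgroup G) inf_le_right inf_le_left)
      hEaut P

end Cfsg.Agent.S5139
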