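import Cfsg.Statements.S5148
import Cfsg.Agent.Lib.Helper88.FusionHypFactor
import Cfsg.Agent.Lib.Helper91.FusionAbelianNormal

set_option autoImplicit false
open Cfsg

namespace Cfsg.Agent.S5148

open Cfsg.FusionSystem Cfsg.Agent.Lib.Helper87 Cfsg.Agent.Lib.Helper88

theorem isCentral_stronglyClosed {Ω : Type*} [Group Ω] {S : Subgroup Ω} (F : Cfsg.FusionSystem S) {Z : Subgroup Ω}
    (hZ : F.IsCentral Z) : F.StronglyClosed Z := by
  refine ⟨hZ.1, fun R hR φ hφ x => ?_⟩
  obtain ⟨ψ, -, h1, h2⟩ := hZ.2 R φ hφ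
  have e : Subgroup.inclusion (le_sup_left : R ≤ R ⊔ Z) x =
      Subgroup.inclusion (le_sup_right : Z ≤ R ⊔ Z) ⟨x, hR x.2⟩ := Subtype.ext rfl
  rw [← h1 x, e, h2]
  exact hR x.2

/-- A quasisimple fusion system over a finite p-group S (saturated, equal to its p-residual subsystem, with simple — in particular nontrivial — factor system modulo its centre) has S nonabelian. -/
theorem result {Ω : Type*} [Group Ω] {S : Subgroup Ω} [Finite S] (p : ℕ) [Fact p.Prime] (hS : IsPGroup p S) (F : Cfsg.FusionSystem S) (hq : F.Quasisimple p) : ¬ IsMulCommutative S := by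
  intro hcomm
  obtain ⟨hF, hhyp, hsimple⟩ := hq
  have hZc : F.IsCentral F.center := isCentral_center F
  have hZ : F.StronglyClosed F.center := isCentral_stronglyClosed F hZc
  have hker : ∀ s : S, QuotientGroup.mk' ((F.center).subgroupOf S) s = 1 ↔ (s : Ω) ∈ F.center := by
    intro s
    rw [QuotientGroup.mk'_apply, QuotientGroup.eq_one_iff]
    exact Subgroup.mem_subgroupOf
  have hrange : (QuotientGroup.mk' ((F.center).subgroupOf S)).range = ⊤ :=
    MonoidHom.range_eq_top.mpr (QuotientGroup.mk'_surjective _)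
  set E := factorSystem F F.center hZ _ hker hrange with hE_def
  have hE : F.IsFactorSystem F.center (QuotientGroup.mk' ((F.center).subgroupOf S)) E :=
    isFactorSystem_factorSystem F F.center hZ _ hker hrange
  obtain ⟨hEsat, hne, hEsimple⟩ := hsimple E hE
  -- the quotient is abelian
  have hab : ∀ x ∈ (⊤ : Subgroup (S ⧸ (F.center).subgroupOf S)), ∀ y ∈ (⊤ : Subgroup (S ⧸ (F.center).subgroupOf S)),
      x * y = y * x := by
    intro x _ y _
    obtain ⟨a, rfl⟩ := QuotientGroup.mk'_surjective ((F.center).subgroupOf S) x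
    obtain ⟨b, rfl⟩ := QuotientGroup.mk'_surjective ((F.center).subgroupOf S) y
    rw [← map_mul, ← map_mul, hcomm.is_comm.comm a b]
  have hfin : Finite (⊤ : Subgroup (S ⧸ (F.center).subgroupOf S)) := inferInstance
  have hnorm := Cfsg.Agent.Lib.Helper91.inner_isNormalIn_of_abelian p E hEsat hab ⊤ le_rfl
    (fun _ _ _ _ => Subgroup.mem_top _)
  rcases hEsimple ⊤ (innerFusionSystem ⊤) hnorm with h | ⟨-, hall⟩
  · exact hne h
  · -- all maps of `E` are inclusions, so the hyperfocal subgroup of `E` is trivial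
    have hhypE : E.hyperfocalSubgroup p = ⊥ := by
      rw [hyperfocalSubgroup_eq, Subgroup.closure_eq_bot_iff]
      rintro _ ⟨P, α, x, hP, -, rfl⟩
      have h1 := (mem_autGroup_iff E hP).mp α.2
      rw [← hall P] at h1
      have h2 := Cfsg.Agent.Lib.Helper91.inner_hom_apply_of_abelian hab h1 x
      have h3 : (((α : MulAut P) x : P) : S ⧸ (F.center).subgroupOf S) = x := h2
      rw [h3, inv_mul_cancel]
      rfl
    have h5 := hyperfocalSubgroup_factor p hS F hF hZ _ hker hrange E hE.2.2.2
    rw [hhypE, hhyp] at h5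
    have h6 : (S.subgroupOf S) = ⊤ := Subgroup.subgroupOf_self S
    rw [h6, ← MonoidHom.range_eq_map, hrange] at h5
    exact hne h5.symm

end Cfsg.Agent.S5148
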