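import Cfsg.Statements.S5154
import Cfsg.Agent.Lib.Helper96.FusTr7

set_option autoImplicit false
open Cfsg

namespace Cfsg.Agent.S5154

open Cfsg.FusionSystem Cfsg.Agent.Lib.Helper96.FusTr Cfsg.Agent.Lib.Helper87

/-- Let F be a saturated fusion system over a finite p-group S, C a component of F over T, and γ a map of F with source T. Then the image of C under γ — the fusion system over γ(T) whose maps are the homomorphisms induced along γ by the maps of C — is again a component of F. -/
theorem result {Ω : Type*} [Group Ω] {S : Subgroup Ω} [Finite S] (p : ℕ) [Fact p.Prime] (hS : IsPGroup p S) (F : Cfsg.FusionSystem S) (hF : F.IsSaturated p) {T : Subgroup Ω} (C : Cfsg.FusionSystem T) (hC : C.IsComponentIn F p) (γ : T →* Ω) (hγ : γ ∈ F.Hom T) (E : Cfsg.FusionSystem γ.range) (hE : C.IsFactorSystem ⊥ γ E) : E.IsComponentIn F p := by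
  have hinj : Function.Injective γ := F.injective_of_mem hγ
  have hs : SameSys (push (MonoidHom.ofInjective hinj) C le_rfl) E := by
    obtain ⟨-, -, -, hiv⟩ := hE
    refine ⟨img_self _, fun P' => Set.ext fun φ' => ?_⟩
    rw [hiv P' φ']
    constructor
    · rintro ⟨P, φ, hφ, c⟩
      have hP'r : P' ≤ γ.range := c.le'
      refine ⟨hP'r, ?_⟩
      have hsrc : P = FusionSystem.preimageAlong γ P' := by
        ext x
        rw [mem_preimageAlong']
        constructor
        · intro hx
          have hxT : x ∈ T := c.1 hx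
          refine ⟨hxT, ?_⟩
          have := c.fwd_mem ⟨x, hx⟩
          rwa [fwd_ofInjective γ hinj hxT] at this
        · rintro ⟨hxT, h⟩
          rw [← fwd_ofInjective γ hinj hxT, c.2.2.1] at h
          exact (fwd_mem_img_iff _ c.1 hxT).1 h
      subst hsrc
      refine ⟨φ, hφ, ?_⟩
      have := inducedAlong_of_corr _ c
      rwa [iota_ofInjective] at this
    · rintro ⟨hP'r, φ, hφ, hind⟩
      refine ⟨_, φ, hφ, corr_of_inducedAlong' _ ?_ (by rw [iota_ofInjective]; exact hind)⟩
      ext y
      rw [mem_img]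
      constructor
      · intro hy
        obtain ⟨x, hx⟩ := hP'r hy
        refine ⟨x, (mem_preimageAlong' γ P' x).2 ⟨x.2, ?_⟩, x.2, ?_⟩
        · rw [show (⟨(x : Ω), x.2⟩ : T) = x from rfl, hx]; exact hy
        · rw [fwd_ofInjective γ hinj x.2]; exact hx
      · rintro ⟨x, hx, hxT, rfl⟩
        obtain ⟨hxT', h⟩ := (mem_preimageAlong' γ P' x).1 hx
        rw [fwd_ofInjective γ hinj hxT]; exact h
  have hq := push_quasisimple (MonoidHom.ofInjective hinj) C le_rfl hC.2
  have hsn := conj_isSubnormalIn hC.1 γ hγ hinj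
  exact hs.elim (fun E => E.IsComponentIn F p) ⟨hsn, hq⟩

end Cfsg.Agent.S5154
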