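import Cfsg.Statements.S5157
import Cfsg.Agent.Lib.Helper88.FusionSolv2
import Cfsg.Agent.Lib.Helper90.FusionNormal

set_option autoImplicit false
open Cfsg

namespace Cfsg.Agent.S5157

open Cfsg.FusionSystem Cfsg.Agent.Lib.Helper87 Cfsg.Agent.Lib.Helper88
open scoped commutatorElement

/-- A saturated fusion system F over a finite p-group S is solvable (for every subgroup R other than S that is strongly closed in F, the factor system of F modulo R has a nontrivial subgroup normal in it) if and only if there is a chain 1 = S₀ ≤ S₁ ≤ ⋯ ≤ Sₘ = S of subgroups strongly closed in F with every quotient Sᵢ₊₁/Sᵢ abelian. -/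
theorem result {Ω : Type*} [Group Ω] {S : Subgroup Ω} [Finite S] (p : ℕ) [Fact p.Prime] (hS : IsPGroup p S) (F : Cfsg.FusionSystem S) (hF : F.IsSaturated p) : F.IsSolvableSystem ↔ ∃ (n : ℕ) (T : Fin (n + 1) → Subgroup Ω), T 0 = ⊥ ∧ T (Fin.last n) = S ∧ Monotone T ∧ (∀ i, F.StronglyClosed (T i)) ∧ ∀ i : Fin n, ⁅T i.succ, T i.succ⁆ ≤ T (Fin.castSucc i) := by
  constructor
  · intro hsolv
    obtain ⟨n, c, hc0, hcn, hcsc, hcle, hccomm⟩ :=
      exists_chain_nat_of_isSolvableSystem p hS F hF hsolv (Nat.card S) ⊥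
        (Cfsg.Agent.Lib.Helper90.stronglyClosed_bot F) (Nat.sub_le _ _)
    refine ⟨n, fun i => c i, ?_, ?_, ?_, fun i => hcsc i, fun i => ?_⟩
    · show c ((0 : Fin (n + 1)) : ℕ) = ⊥
      rw [Fin.val_zero]; exact hc0
    · show c ((Fin.last n : Fin (n + 1)) : ℕ) = S
      rw [Fin.val_last]; exact hcn
    · intro i j hij
      exact monotone_nat_of_le_succ hcle (Fin.le_iff_val_le_val.mp hij)
    · show ⁅c ((i.succ : Fin (n + 1)) : ℕ), c ((i.succ : Fin (n + 1)) : ℕ)⁆ ≤ c ((Fin.castSucc i : Fin (n + 1)) : ℕ)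
      rw [Fin.val_succ, Fin.val_castSucc]
      exact hccomm i
  · rintro ⟨n, T, h0, hlast, hmono, hsc, hcomm⟩
    intro R hR hne hn E hE
    have hker := hE.2.1
    have hrange := hE.2.2.1
    have hEsat : E.IsSaturated p := isSaturated_of_isFactorSystem p hS F hF hR _ E hE
    have hp' : IsPGroup p (⊤ : Subgroup (S ⧸ R.subgroupOf S)) := by
      have h1 : IsPGroup p (S ⧸ R.subgroupOf S) := hS.to_quotient _
      exact h1.to_subgroup ⊤
    have hfin : Finite (⊤ : Subgroup (S ⧸ R.subgroupOf S)) := inferInstance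
    rw [Cfsg.Agent.S5089.result p hp' E hEsat]
    by_contra hno
    have hall : ∀ i : Fin (n + 1), T i ≤ R := by
      intro i
      induction i using Fin.induction with
      | zero => rw [h0]; exact bot_le
      | succ i ih =>
        by_contra hnot
        apply hno
        obtain ⟨x, hxT, hxR⟩ := SetLike.not_le_iff_exists.mp hnot
        have hxS : x ∈ S := (hsc i.succ).1 hxT
        refine ⟨imageAlong (QuotientGroup.mk' (R.subgroupOf S)) (T i.succ), ?_, ?_,
          stronglyClosed_imageAlong p hS F hF hR _ hker hrange E hE.2.2.2 (hsc i.succ)⟩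
        · intro hbot
          have hmem : QuotientGroup.mk' (R.subgroupOf S) ⟨x, hxS⟩ ∈
              imageAlong (QuotientGroup.mk' (R.subgroupOf S)) (T i.succ) :=
            ⟨⟨x, hxS⟩, Subgroup.mem_subgroupOf.mpr hxT, rfl⟩
          rw [hbot, Subgroup.mem_bot] at hmem
          exact hxR ((hker _).mp hmem)
        · refine ⟨⟨fun a b => ?_⟩⟩
          obtain ⟨_, ⟨s, hs, rfl⟩⟩ := a
          obtain ⟨_, ⟨t, ht, rfl⟩⟩ := b
          apply Subtype.ext
          show QuotientGroup.mk' (R.subgroupOf S) s * QuotientGroup.mk' (R.subgroupOf S) t =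
            QuotientGroup.mk' (R.subgroupOf S) t * QuotientGroup.mk' (R.subgroupOf S) s
          have hs' : (s : Ω) ∈ T i.succ := Subgroup.mem_subgroupOf.mp hs
          have ht' : (t : Ω) ∈ T i.succ := Subgroup.mem_subgroupOf.mp ht
          have hc : ⁅(s : Ω), (t : Ω)⁆ ∈ R :=
            ih (hcomm i (Subgroup.commutator_mem_commutator hs' ht'))
          have h1 : QuotientGroup.mk' (R.subgroupOf S) (s * t * s⁻¹ * t⁻¹) = 1 := by
            apply (hker _).mpr
            show (s : Ω) * (t : Ω) * (s : Ω)⁻¹ * (t : Ω)⁻¹ ∈ R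
            rw [← commutatorElement_def]
            exact hc
          rw [map_mul, map_mul, map_mul, map_inv, map_inv] at h1
          have h2 := mul_inv_eq_one.mp h1
          exact mul_inv_eq_iff_eq_mul.mp h2
    have hSR : S ≤ R := by rw [← hlast]; exact hall _
    exact hne (le_antisymm hR.1 hSR)

end Cfsg.Agent.S5157
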