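import Cfsg.Statements.S5158
import Cfsg.Agent.Lib.Helper88.FusionSolv3
import Cfsg.Agent.S5157

set_option autoImplicit false
open Cfsg

namespace Cfsg.Agent.S5158

open Cfsg.FusionSystem Cfsg.Agent.Lib.Helper87 Cfsg.Agent.Lib.Helper88
open scoped commutatorElement

/-- A solvable saturated fusion system over a finite p-group (solvable: for every subgroup R other than S that is strongly closed in F, the factor system of F modulo R has a nontrivial subgroup normal in it) is constrained. -/
theorem result {Ω : Type*} [Group Ω] {S : Subgroup Ω} [Finite S] (p : ℕ) [Fact p.Prime] (hS : IsPGroup p S) (F : Cfsg.FusionSystem S) (hF : F.IsSaturated p) (h : F.IsSolvableSystem) : F.IsConstrained p := by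
  refine ⟨hF, F.core, isNormal_core F, ?_⟩
  have hQ : F.IsNormal F.core := isNormal_core F
  have hC : F.StronglyClosed (centralizerIn S F.core) := stronglyClosed_centralizerIn_of_isNormal hQ
  obtain ⟨n, T, h0, hlast, hmono, hsc, hcomm⟩ := (Cfsg.Agent.S5157.result p hS F hF).mp h
  have hall : ∀ i : Fin (n + 1), T i ⊓ centralizerIn S F.core ≤ F.core := by
    intro i
    induction i using Fin.induction with
    | zero => rw [h0]; exact inf_le_left.trans bot_le
    | succ i ih =>
      have hD : F.StronglyClosed (T i.succ ⊓ centralizerIn S F.core) := stronglyClosed_inf (hsc _) hC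
      have hDQ : ∀ d ∈ T i.succ ⊓ centralizerIn S F.core, ∀ q ∈ F.core, d * q = q * d := by
        intro d hd q hq
        exact ((mem_centralizerIn.mp hd.2).2 q hq).symm
      have hDD : ⁅T i.succ ⊓ centralizerIn S F.core, T i.succ ⊓ centralizerIn S F.core⁆ ≤ F.core := by
        refine le_trans ?_ ih
        refine le_inf ?_ ?_
        · exact (Subgroup.commutator_mono inf_le_left inf_le_left).trans (hcomm i)
        · refine (Subgroup.commutator_mono inf_le_right inf_le_right).trans ?_
          rw [Subgroup.commutator_le]
          intro x hx y hy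
          rw [commutatorElement_def]
          exact Subgroup.mul_mem _ (Subgroup.mul_mem _ (Subgroup.mul_mem _ hx hy) (Subgroup.inv_mem _ hx))
            (Subgroup.inv_mem _ hy)
      have hnorm := isNormal_sup_of_centralizing p hS F hF hQ hD hDQ hDD
      have hle : T i.succ ⊓ centralizerIn S F.core ⊔ F.core ≤ F.core := le_sSup hnorm
      exact le_sup_left.trans hle
  have hCQ : centralizerIn S F.core ≤ F.core := by
    have := hall (Fin.last n)
    rw [hlast] at this
    refine le_trans ?_ this
    exact le_inf (centralizerIn_le S F.core) le_rfl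
  refine ⟨hQ.1, fun Q₂ hconj => ?_⟩
  obtain ⟨φ, hφ, hr⟩ := hconj
  have : Q₂ = F.core := by
    rw [← hr]
    exact Cfsg.Agent.Lib.Helper90.IsNormal.range_eq F hQ hφ
  rw [this]
  exact hCQ

end Cfsg.Agent.S5158
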