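import Cfsg.Statements.S5163
import Cfsg.Agent.Lib.Helper90.PSLFusE

set_option autoImplicit false
open Cfsg

namespace Cfsg.Agent.S5163

/-- For a finite field K of characteristic p and n ≥ 3, the p-fusion system of the projective special linear group PSL_n(K) on a Sylow p-subgroup is simple. -/
theorem result {K : Type*} [Field K] [Fintype K] (p : ℕ) [Fact p.Prime] [CharP K p] (n : ℕ) (hn : 3 ≤ n) (S : Sylow p (Matrix.ProjectiveSpecialLinearGroup (Fin n) K)) : (Cfsg.groupFusionSystem (S : Subgroup (Matrix.ProjectiveSpecialLinearGroup (Fin n) K))).IsSimple p := by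
  classical
  obtain ⟨f, -, hF⟩ := FiniteField.card K p
  have hf1 : 1 ≤ (f : ℕ) := f.pos
  have hn1 : 1 ≤ n := by omega
  obtain ⟨a, ha⟩ : ∃ a : Fin n, ∀ k, a ≤ k := ⟨⟨0, by omega⟩, fun k => Fin.mk_le_of_le_val (Nat.zero_le _)⟩
  obtain ⟨b, hb, hbv⟩ : ∃ b : Fin n, (∀ k, k ≤ b) ∧ b.val = n - 1 :=
    ⟨⟨n - 1, by omega⟩, fun k => Fin.le_def.mpr (by have := k.2; show k.val ≤ n - 1; omega), rfl⟩
  obtain ⟨m, hmv⟩ : ∃ m : Fin n, m.val = 1 := ⟨⟨1, by omega⟩, rfl⟩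
  have hav : a.val = 0 := Nat.le_zero.mp (ha ⟨0, by omega⟩)
  have hab : a ≠ b := fun h => by rw [h] at hav; omega
  have ham : a ≠ m := fun h => by rw [h] at hav; omega
  have hbm : b ≠ m := fun h => by rw [h] at hbv; omega
  have h3 : ∀ i k : Fin n, ∃ j, j ≠ i ∧ j ≠ k := Cfsg.Agent.Lib.Helper90.PSLFus.exists_third_index hn
  have hcoe := Cfsg.Agent.Lib.Helper07.sylUTbar_coe (n := n) (F := K) p hF hf1 hn1
  refine Cfsg.Agent.Lib.Helper90.FSC.isSimple_of_good_explicit p (Cfsg.Agent.Lib.Helper07.UTbar n K) ?_ ?_ ?_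
    {(Cfsg.Agent.Lib.Helper90.PSLFus.Qr a : Subgroup (Matrix.SpecialLinearGroup (Fin n) K)).map
        Cfsg.Agent.Lib.Helper07.prjN,
      (Cfsg.Agent.Lib.Helper90.PSLFus.Qc b : Subgroup (Matrix.SpecialLinearGroup (Fin n) K)).map
        Cfsg.Agent.Lib.Helper07.prjN} ?_ ?_ S
  · rw [← hcoe]
    exact Sylow.card_eq_multiplicity _
  · intro h0
    have h1 : Cfsg.Agent.Lib.Helper07.re (Cfsg.Agent.Lib.Helper07.eb a : Fin n → K) (Cfsg.Agent.Lib.Helper07.eb b) 1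
        ∈ Cfsg.Agent.Lib.Helper07.UTbar n K :=
      ⟨Cfsg.Agent.Lib.Helper07.xe a b 1,
        Cfsg.Agent.Lib.Helper07.xe_mem_UT (lt_of_le_of_ne (ha b) hab) 1, rfl⟩
    rw [h0, Subgroup.mem_bot] at h1
    exact Cfsg.Agent.Lib.Helper07.re_eb_one_ne_one p hab h1
  · intro T hT hT1 hsc
    exact Cfsg.Agent.Lib.Helper90.PSLFus.strongly_closed_eq p hF ha hb hab h3 T hT hT1 hsc
  · rintro R (rfl | rfl)
    · exact Cfsg.Agent.Lib.Helper90.PSLFus.good_Qr p ha hab ham hbm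
    · exact Cfsg.Agent.Lib.Helper90.PSLFus.good_Qc p hb hab.symm hbm ham
  · intro g hg
    exact Cfsg.Agent.Lib.Helper90.PSLFus.normalizer_gen p hF ha hab ham hbm g hg

end Cfsg.Agent.S5163
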