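import Cfsg.Statements.S5164
import Mathlib.GroupTheory.Commutator.Basic
import Mathlib.GroupTheory.RegularWreathProduct
import Mathlib.GroupTheory.IndexNormal
import Mathlib.GroupTheory.SpecificGroups.Cyclic
import Mathlib.GroupTheory.Perm.ViaEmbedding
import Mathlib.GroupTheory.Perm.Sign

set_option autoImplicit false
open Cfsg

namespace Cfsg.Agent.S5164
open scoped commutatorElement

abbrev C (p : ℕ) := Multiplicative (ZMod p)
abbrev W (p : ℕ) := RegularWreathProduct (C p) (C p)

theorem card_C (p : ℕ) : Nat.card (C p) = p := by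
  rw [Nat.card_congr (Multiplicative.toAdd : C p ≃ ZMod p), Nat.card_zmod]

theorem W_isPGroup (p : ℕ) [hp : Fact p.Prime] : IsPGroup p (W p) := by
  have : NeZero p := ⟨hp.out.ne_zero⟩
  have : Finite (W p) := inferInstance
  apply IsPGroup.of_card (n := p + 1)
  rw [RegularWreathProduct.card, card_C, pow_succ]

def unitsToPerm : ℤˣ →* Equiv.Perm (Fin 2) where
  toFun u := if u = 1 then 1 else Equiv.swap 0 1
  map_one' := by simp
  map_mul' := by decide

theorem sign_unitsToPerm (u : ℤˣ) : Equiv.Perm.sign (unitsToPerm u) = u := by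
  revert u; decide

noncomputable def evenHom (X : Type*) [Fintype X] [DecidableEq X] :
    Equiv.Perm X →* Equiv.Perm (X ⊕ Fin 2) :=
  (Equiv.Perm.sumCongrHom X (Fin 2)).comp
    ((MonoidHom.id _).prod (unitsToPerm.comp Equiv.Perm.sign))

theorem evenHom_injective (X : Type*) [Fintype X] [DecidableEq X] :
    Function.Injective (evenHom X) := by
  refine Equiv.Perm.sumCongrHom_injective.comp ?_
  intro a b h
  simpa using congrArg Prod.fst h

theorem sign_evenHom (X : Type*) [Fintype X] [DecidableEq X] (σ : Equiv.Perm X) :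
    Equiv.Perm.sign (evenHom X σ) = 1 := by
  simp only [evenHom, MonoidHom.coe_comp, Function.comp_apply, MonoidHom.prod_apply,
    MonoidHom.id_apply, Equiv.Perm.sumCongrHom_apply, Equiv.Perm.sign_sumCongr, sign_unitsToPerm]
  exact Int.units_mul_self _

theorem sign_viaEmbeddingHom {α β : Type*} [Fintype α] [DecidableEq α] [Fintype β] [DecidableEq β]
    (ι : α ↪ β) (e : Equiv.Perm α) :
    Equiv.Perm.sign (Equiv.Perm.viaEmbeddingHom ι e) = Equiv.Perm.sign e := by
  classical
  rw [Equiv.Perm.viaEmbeddingHom_apply]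
  unfold Equiv.Perm.viaEmbedding
  convert Equiv.Perm.sign_extendDomain e (Equiv.ofInjective ι.1 ι.2)

theorem sign_eq_one_of_odd_prime_pow {α : Type*} [Fintype α] [DecidableEq α] (σ : Equiv.Perm α)
    (p k : ℕ) (hp : Odd p) (h : σ ^ (p ^ k) = 1) : Equiv.Perm.sign σ = 1 := by
  have h1 : (Equiv.Perm.sign σ) ^ (p ^ k) = 1 := by rw [← map_pow, h, map_one]
  rcases Int.units_eq_one_or (Equiv.Perm.sign σ) with h2 | h2
  · exact h2
  · rw [h2, Odd.neg_one_pow (hp.pow)] at h1
    exact absurd h1 (by decide)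

theorem exists_hom (n p : ℕ) [hp : Fact p.Prime] (hn : 6 ≤ n) (hnp : p ^ 2 ≤ n) :
    ∃ f : W p →* alternatingGroup (Fin n), Function.Injective f := by
  classical
  have : NeZero p := ⟨hp.out.ne_zero⟩
  let ρ : W p →* Equiv.Perm (C p × C p) := RegularWreathProduct.toPerm (C p) (C p) (C p)
  have hρ : Function.Injective ρ := RegularWreathProduct.toPermInj (C p) (C p) (C p)
  have hcardC : Fintype.card (C p) = p := by
    rw [← Nat.card_eq_fintype_card, card_C]
  by_cases h2 : p = 2
  · have hcard : Fintype.card ((C p × C p) ⊕ Fin 2) ≤ Fintype.card (Fin n) := by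
      rw [Fintype.card_sum, Fintype.card_prod, hcardC, Fintype.card_fin, Fintype.card_fin, h2]
      omega
    obtain ⟨ι⟩ := Function.Embedding.nonempty_of_card_le hcard
    let g : W p →* Equiv.Perm (Fin n) :=
      (Equiv.Perm.viaEmbeddingHom ι).comp ((evenHom (C p × C p)).comp ρ)
    have hg : Function.Injective g :=
      (Equiv.Perm.viaEmbeddingHom_injective ι).comp ((evenHom_injective _).comp hρ)
    have hmem : ∀ w, g w ∈ alternatingGroup (Fin n) := by
      intro w
      rw [Equiv.Perm.mem_alternatingGroup]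
      show Equiv.Perm.sign (Equiv.Perm.viaEmbeddingHom ι (evenHom _ (ρ w))) = 1
      rw [sign_viaEmbeddingHom, sign_evenHom]
    refine ⟨g.codRestrict _ hmem, ?_⟩
    intro a b hab
    exact hg (congrArg Subtype.val hab)
  · have hodd : Odd p := hp.out.odd_of_ne_two h2
    have hcard : Fintype.card (C p × C p) ≤ Fintype.card (Fin n) := by
      rw [Fintype.card_prod, hcardC, Fintype.card_fin, ← sq]
      exact hnp
    obtain ⟨ι⟩ := Function.Embedding.nonempty_of_card_le hcard
    let g : W p →* Equiv.Perm (Fin n) := (Equiv.Perm.viaEmbeddingHom ι).comp ρ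
    have hg : Function.Injective g := (Equiv.Perm.viaEmbeddingHom_injective ι).comp hρ
    have hmem : ∀ w, g w ∈ alternatingGroup (Fin n) := by
      intro w
      rw [Equiv.Perm.mem_alternatingGroup]
      obtain ⟨k, hk⟩ := W_isPGroup p w
      apply sign_eq_one_of_odd_prime_pow (g w) p k hodd
      rw [← map_pow, hk, map_one]
    refine ⟨g.codRestrict _ hmem, ?_⟩
    intro a b hab
    exact hg (congrArg Subtype.val hab)

theorem W_not_comm (p : ℕ) [hp : Fact p.Prime] : ∃ a b : W p, a * b ≠ b * a := by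
  have : NeZero p := ⟨hp.out.ne_zero⟩
  have : Nontrivial (ZMod p) := ZMod.nontrivial_iff.mpr hp.out.ne_one
  let q : C p := Multiplicative.ofAdd (1 : ZMod p)
  have hq : q ≠ 1 := by
    intro h
    have : (1 : ZMod p) = 0 := by simpa [q] using congrArg Multiplicative.toAdd h
    exact one_ne_zero this
  classical
  refine ⟨⟨1, q⟩, ⟨Pi.mulSingle 1 q, 1⟩, ?_⟩
  intro h
  have h1 := congrArg (fun w => w.left 1) h
  simp only [RegularWreathProduct.mul_left, Pi.mul_apply, Pi.one_apply, one_mul, Pi.mulSingle_eq_same] at h1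
  rw [Pi.mulSingle_apply] at h1
  have hq' : q⁻¹ * 1 ≠ 1 := by simpa using hq
  rw [if_neg hq'] at h1
  exact hq (by simpa using h1.symm)

/-- In a finite `p`-group, a subgroup of index `< p^2` contains every commutator. -/
theorem commutator_mem_of_index_lt {P : Type*} [Group P] [Finite P] {p : ℕ} [hp : Fact p.Prime]
    (hP : IsPGroup p P) (H : Subgroup P) (hH : H.index < p ^ 2) (a b : P) : ⁅a, b⁆ ∈ H := by
  obtain ⟨m, hm⟩ := hP.index H
  have hm2 : m < 2 := by
    rw [hm] at hH
    exact (Nat.pow_lt_pow_iff_right hp.out.one_lt).mp hH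
  interval_cases m
  · rw [pow_zero, Subgroup.index_eq_one] at hm
    rw [hm]; exact Subgroup.mem_top _
  · rw [pow_one] at hm
    have hcard : Nat.card P ≠ 1 := by
      intro h1
      have : H.index ∣ Nat.card P := Subgroup.index_dvd_card H
      rw [hm, h1] at this
      exact hp.out.one_lt.ne' (Nat.dvd_one.mp this)
    obtain ⟨j, hj⟩ := (IsPGroup.iff_card).mp hP
    have hj0 : j ≠ 0 := by
      rintro rfl
      exact hcard (by simpa using hj)
    have hN : H.Normal := by
      apply Subgroup.normal_of_index_eq_minFac_card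
      rw [hm, hj, Nat.Prime.pow_minFac hp.out hj0]
    have hq : Nat.card (P ⧸ H) = p := by rw [← Subgroup.index_eq_card]; exact hm
    have hcyc : IsCyclic (P ⧸ H) := isCyclic_of_prime_card hq
    have hcomm : ∀ x y : P ⧸ H, x * y = y * x := fun x y => by
      let _ := hcyc.commGroup
      exact mul_comm x y
    rw [← QuotientGroup.eq_one_iff, commutatorElement_def]
    simp only [QuotientGroup.mk_mul, QuotientGroup.mk_inv]
    rw [hcomm (a : P ⧸ H) (b : P ⧸ H)]
    group

theorem comm_of_lt (n p : ℕ) [hp : Fact p.Prime] (h : n < p ^ 2)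
    (P : Subgroup (Equiv.Perm (Fin n))) (hP : IsPGroup p P) (a b : Equiv.Perm (Fin n))
    (ha : a ∈ P) (hb : b ∈ P) : a * b = b * a := by
  have key : ⁅a, b⁆ = 1 := by
    ext x
    have hlt : (MulAction.stabilizer P x).index < p ^ 2 := by
      rw [MulAction.index_stabilizer]
      refine lt_of_le_of_lt ?_ h
      calc (MulAction.orbit P x).ncard ≤ (Set.univ : Set (Fin n)).ncard :=
            Set.ncard_le_ncard (Set.subset_univ _)
        _ = n := by simp
    have := commutator_mem_of_index_lt hP (MulAction.stabilizer P x) hlt ⟨a, ha⟩ ⟨b, hb⟩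
    have h2 : (⁅(⟨a, ha⟩ : P), ⟨b, hb⟩⁆ : P) • x = x := MulAction.mem_stabilizer_iff.mp this
    have h3 : ((⁅(⟨a, ha⟩ : P), ⟨b, hb⟩⁆ : P) : Equiv.Perm (Fin n)) = ⁅a, b⁆ := by
      simp [commutatorElement_def]
    rw [Subgroup.smul_def, h3] at h2
    simpa using congrArg Fin.val h2
  exact (commutatorElement_eq_one_iff_mul_comm.mp key)


/-- For n ≥ 6 and a prime p, a nontrivial Sylow p-subgroup of the alternating group of degree n is abelian if and only if n < p². -/
theorem result (n p : ℕ) (hn : 6 ≤ n) [Fact p.Prime] (S : Sylow p (alternatingGroup (Fin n))) (hS : (S : Subgroup (alternatingGroup (Fin n))) ≠ ⊥) : IsMulCommutative S ↔ n < p ^ 2 := by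
  constructor
  · intro hcomm
    by_contra hlt
    have hnp : p ^ 2 ≤ n := not_lt.mp hlt
    obtain ⟨f, hf⟩ := exists_hom n p hn hnp
    obtain ⟨a, b, hab⟩ := W_not_comm p
    have hR : IsPGroup p f.range := (W_isPGroup p).of_surjective f.rangeRestrict f.rangeRestrict_surjective
    obtain ⟨R, hRle⟩ := hR.exists_le_sylow
    let e : R ≃* S := Sylow.equiv R S
    have ha : f a ∈ R := hRle ⟨a, rfl⟩
    have hb : f b ∈ R := hRle ⟨b, rfl⟩
    have h1 : e ⟨f a, ha⟩ * e ⟨f b, hb⟩ = e ⟨f b, hb⟩ * e ⟨f a, ha⟩ := hcomm.is_comm.comm _ _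
    rw [← map_mul, ← map_mul] at h1
    have h2 := e.injective h1
    have h3 : f a * f b = f b * f a := congrArg Subtype.val h2
    rw [← map_mul, ← map_mul] at h3
    exact hab (hf h3)
  · intro hlt
    refine ⟨⟨fun a b => ?_⟩⟩
    have hP : IsPGroup p ((S : Subgroup (alternatingGroup (Fin n))).map (alternatingGroup (Fin n)).subtype) :=
      S.2.map _
    have ha : ((a : alternatingGroup (Fin n)) : Equiv.Perm (Fin n)) ∈
        (S : Subgroup (alternatingGroup (Fin n))).map (alternatingGroup (Fin n)).subtype :=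
      ⟨a, a.2, rfl⟩
    have hb : ((b : alternatingGroup (Fin n)) : Equiv.Perm (Fin n)) ∈
        (S : Subgroup (alternatingGroup (Fin n))).map (alternatingGroup (Fin n)).subtype :=
      ⟨b, b.2, rfl⟩
    have := comm_of_lt n p hlt _ hP _ _ ha hb
    apply Subtype.ext
    apply Subtype.ext
    exact this

end Cfsg.Agent.S5164
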