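import Cfsg.Statements.S5166
import Cfsg.Agent.Lib.Helper10.SylM11

set_option autoImplicit false
open Cfsg

namespace Cfsg.Agent.S5166

open Cfsg.Agent.Lib.Helper10 Cfsg.Agent.Lib.Helper10.SylM11 in
/-- The 2-fusion system of the Mathieu group M₁₁ (as the explicit permutation group carved out of the automorphism group of the binary Golay code) on a Sylow 2-subgroup is simple: saturated, over a nontrivial 2-group, with no normal subsystem other than the trivial one and itself. -/
theorem result (S : Sylow 2 Cfsg.Spor.M11) : (Cfsg.groupFusionSystem (S : Subgroup Cfsg.Spor.M11)).IsSimple 2 := by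
  have : Fact (Nat.Prime 2) := ⟨Nat.prime_two⟩
  exact groupFusion_isSimple_sub Spor.M11 2 (Hs sv 4) S_le 4 (by norm_num) card_S
    (factorization_of_eq _ 2 4 495 Nat.prime_two (by rw [card_M11]; norm_num) (by norm_num))
    strongly_closed normalizer_le S

end Cfsg.Agent.S5166
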