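import Cfsg.Statements.S5185
-- import your own Cfsg.Agent.* helpers here
import Cfsg.Agent.Lib.Helper89.GL2Essential
import Cfsg.Agent.Lib.Helper53.StronglyEmbedded

set_option autoImplicit false
universe u
open Cfsg

namespace Cfsg.Agent.S5185

open Cfsg.Agent.Lib.Helper89

/-- In a finite group with a Sylow `p`-subgroup whose `1`-generated core is proper, there are two
distinct nontrivial `p`-subgroups. -/
theorem exists_two_pSubgroups {X : Type*} [Group X] [Finite X] (p : ℕ) [Fact p.Prime]
    (E : Subgroup X) (hE : IsStronglyPEmbedded p E) :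
    ∃ P₁ P₂ : Subgroup X, IsPGroup p P₁ ∧ IsPGroup p P₂ ∧ P₁ ≠ ⊥ ∧ P₂ ≠ ⊥ ∧ P₁ ≠ P₂ ∧
      ¬ (Subgroup.normalizer (P₁ : Set X) = ⊤) := by
  obtain ⟨hdvd, hEtop, P, hP⟩ := hE
  have hPbot : (P : Subgroup X) ≠ ⊥ := P.ne_bot_of_dvd_card hdvd
  have hN : Subgroup.normalizer ((P : Subgroup X) : Set X) ≤ E :=
    (Cfsg.Agent.Lib.Helper53.kGeneratedCore_one_le_iff P E).mp hP P le_rfl hPbot
  have hNtop : Subgroup.normalizer ((P : Subgroup X) : Set X) ≠ ⊤ := by
    intro h
    apply hEtop
    rw [eq_top_iff, ← h]
    exact hN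
  obtain ⟨g, hg⟩ : ∃ g : X, g ∉ Subgroup.normalizer ((P : Subgroup X) : Set X) := by
    by_contra hcon
    apply hNtop
    rw [eq_top_iff]
    intro g _
    by_contra hg
    exact hcon ⟨g, hg⟩
  have hsm : g • P ≠ P := fun h => hg (Sylow.smul_eq_iff_mem_normalizer.mp h)
  refine ⟨P, (g • P : Sylow p X), P.isPGroup', (g • P).isPGroup', hPbot, ?_, ?_, hNtop⟩
  · exact (g • P).ne_bot_of_dvd_card hdvd
  · intro h
    apply hsm
    exact Sylow.ext h.symm

/-- Let F be a saturated fusion system over a finite p-group S and H an essential subgroup of order p². Then H is elementary abelian (isomorphic to C_p × C_p) and its F-automorphism group contains a subgroup isomorphic to SL(2,p). -/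
theorem result {Ω : Type u} [Group Ω] {S : Subgroup Ω} [Finite S] (p : ℕ) [Fact p.Prime] (hS : IsPGroup p S)
    (F : Cfsg.FusionSystem S) (hF : F.IsSaturated p) (H : Subgroup Ω) (hH : F.IsEssential p H) (hcard : Nat.card H = p ^ 2) :
    Cfsg.IsElementaryAbelian p H ∧
      ∃ K : Subgroup ↥(F.autGroup H), Nonempty (↥K ≃* Matrix.SpecialLinearGroup (Fin 2) (ZMod p)) := by
  have hp : p.Prime := Fact.out
  haveI : Finite H := Nat.finite_of_card_ne_zero (by rw [hcard]; exact pow_ne_zero _ hp.ne_zero)
  have hcommI : IsMulCommutative H := IsPGroup.isMulCommutative_of_card_eq_prime_sq hcard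
  have hcomm : ∀ a b : H, a * b = b * a := fun a b => hcommI.is_comm.comm a b
  obtain ⟨-, -, hnorm, E, hE⟩ := hH
  -- the inner automorphism group is trivial
  have hInn : (Inn H).subgroupOf (F.autGroup H) = ⊥ := by
    rw [eq_bot_iff]
    rintro ⟨α, hα⟩ hmem
    rw [Subgroup.mem_subgroupOf] at hmem
    obtain ⟨h, hh⟩ := hmem
    rw [Subgroup.mem_bot]
    apply Subtype.ext
    change α = 1
    have hh' : MulAut.conj h = α := hh
    rw [← hh']
    ext x
    simp only [MulAut.conj_apply, MulAut.one_apply]
    rw [hcomm h x, mul_inv_cancel_right]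
  -- transport the two p-subgroups to the automorphism group
  let e : (F.autGroup H ⧸ (Inn H).subgroupOf (F.autGroup H)) ≃* F.autGroup H :=
    (QuotientGroup.quotientMulEquivOfEq hInn).trans QuotientGroup.quotientBot
  obtain ⟨P₁, P₂, hp₁, hp₂, hb₁, hb₂, hne, hNtop⟩ := exists_two_pSubgroups p E hE
  have hinj : Function.Injective e.toMonoidHom := e.injective
  -- exponent p
  have hexp : ∀ a : H, a ^ p = 1 := by
    intro a
    by_contra ha
    have hdvd : orderOf a ∣ p ^ 2 := hcard ▸ orderOf_dvd_natCard a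
    obtain ⟨j, hj, hja⟩ := (Nat.dvd_prime_pow hp).mp hdvd
    have hj2 : j = 2 := by
      by_contra hj2
      have hj1 : j ≤ 1 := by omega
      apply ha
      have : orderOf a ∣ p := by
        rw [hja]
        calc p ^ j ∣ p ^ 1 := pow_dvd_pow p hj1
          _ = p := pow_one p
      exact orderOf_dvd_iff_pow_eq_one.mp this
    have hcyc : IsCyclic H := isCyclic_of_orderOf_eq_card a (by rw [hja, hj2, hcard])
    -- then the automorphism group is commutative
    have hautcomm : ∀ α β : MulAut H, α * β = β * α := by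
      intro α β
      apply (IsCyclic.mulAutMulEquiv H).injective
      rw [map_mul, map_mul, mul_comm]
    apply hNtop
    rw [eq_top_iff]
    intro g _
    rw [Subgroup.mem_normalizer_iff]
    intro h
    have hgh : g * h * g⁻¹ = h := by
      have hc : g * h = h * g := by
        apply e.injective
        apply Subtype.ext
        rw [map_mul, map_mul]
        exact hautcomm _ _
      rw [hc, mul_inv_cancel_right]
    rw [hgh]
  constructor
  · exact ⟨hcommI, fun a ha => by
      have := hexp ⟨a, ha⟩
      exact congrArg Subtype.val this⟩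
  · obtain ⟨Φ⟩ := exists_mulAut_equiv_GL (E := H) (p := p) (r := 2) hcomm hexp hcard
    refine exists_subgroup_equiv_SL2 p (Φ.toMonoidHom.comp (F.autGroup H).subtype)
      (Φ.injective.comp Subtype.val_injective) (P₁.map e.toMonoidHom) (P₂.map e.toMonoidHom)
      (hp₁.map _) (hp₂.map _) ?_ ?_ ?_
    · exact fun h => hb₁ ((Subgroup.map_eq_bot_iff_of_injective _ hinj).mp h)
    · exact fun h => hb₂ ((Subgroup.map_eq_bot_iff_of_injective _ hinj).mp h)
    · exact fun h => hne (Subgroup.map_injective hinj h)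

end Cfsg.Agent.S5185
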