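import Cfsg.Statements.S5186
-- import your own Cfsg.Agent.* helpers here
import Cfsg.Agent.Lib.Helper89.ChainSylow
import Cfsg.Agent.Lib.Helper89.OrderPCube

set_option autoImplicit false
universe u
open Cfsg

namespace Cfsg.Agent.S5186

open Cfsg.Agent.Lib.Helper89

/-- Let F be a saturated fusion system over a finite p-group S and H an essential subgroup of order p³. Then H is elementary abelian, or p is odd and H is extraspecial of exponent p, or p = 2 and H is the quaternion group of order 8. -/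
theorem result {Ω : Type u} [Group Ω] {S : Subgroup Ω} [Finite S] (p : ℕ) [Fact p.Prime] (hS : IsPGroup p S)
    (F : Cfsg.FusionSystem S) (hF : F.IsSaturated p) (H : Subgroup Ω) (hH : F.IsEssential p H) (hcard : Nat.card H = p ^ 3) :
    Cfsg.IsElementaryAbelian p H ∨ (Odd p ∧ Cfsg.IsExtraspecial p ↥H ∧ ∀ x ∈ H, x ^ p = 1) ∨
      (p = 2 ∧ Nonempty (↥H ≃* QuaternionGroup 2)) := by
  have hp : p.Prime := Fact.out
  have : Finite H := Nat.finite_of_card_ne_zero (by rw [hcard]; exact pow_ne_zero 3 hp.ne_zero)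
  have hHp : IsPGroup p H := IsPGroup.of_card hcard
  rcases order_p_cube (G := H) hcard with ⟨hc, he⟩ | ⟨hp2, hex, he⟩ | ⟨hp2, hq⟩ | ⟨c, n, hmono, hc0, hcn, hinv, hidx⟩
  · left
    refine ⟨⟨⟨hc⟩⟩, ?_⟩
    intro a ha
    exact congrArg Subtype.val (he ⟨a, ha⟩)
  · right; left
    refine ⟨hp.odd_of_ne_two hp2, hex, ?_⟩
    intro a ha
    exact congrArg Subtype.val (he ⟨a, ha⟩)
  · right; right
    exact ⟨hp2, hq⟩
  · exact absurd hH (not_isEssential_of_chain F H hHp c hmono hc0 n hcn hinv hidx)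

end Cfsg.Agent.S5186
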