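import Cfsg.Statements.S5187
import Cfsg.Agent.S5080
import Cfsg.Agent.Lib.Helper91.AbelianRankTwo
import Cfsg.Agent.Lib.Helper91.Fusion

set_option autoImplicit false
universe u
open Cfsg

namespace Cfsg.Agent.S5187

/-- Let F be a saturated fusion system over a finite p-group S and H an abelian essential subgroup that can be generated by two elements (its Frattini quotient has order at most p²). Then H is elementary abelian of order p², or p ≤ 3 and H is homocyclic of rank two, that is isomorphic to C_{pᵏ} × C_{pᵏ} for some k. -/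
theorem result {Ω : Type u} [Group Ω] {S : Subgroup Ω} [Finite S] (p : ℕ) [Fact p.Prime] (hS : IsPGroup p S)
    (F : Cfsg.FusionSystem S) (hF : F.IsSaturated p) (H : Subgroup Ω) (hH : F.IsEssential p H) (hab : IsMulCommutative ↥H) (hrk : (frattini ↥H).index ≤ p ^ 2) :
    (Cfsg.IsElementaryAbelian p H ∧ Nat.card H = p ^ 2) ∨
      (p ≤ 3 ∧ ∃ k : ℕ, Nonempty (↥H ≃* Multiplicative (ZMod (p ^ k) × ZMod (p ^ k)))) := by
  classical
  have hp : p.Prime := Fact.out
  have hrad := Cfsg.Agent.S5080.result p hS F hF H hH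
  obtain ⟨⟨hHS, -⟩, -, hnorm, E, hE⟩ := hH
  have : Finite H := Cfsg.Agent.Lib.Helper91.finite_of_le hHS
  let _ : CommGroup ↥H := { (inferInstance : Group ↥H) with mul_comm := hab.is_comm.comm }
  have hHp : IsPGroup p ↥H := hS.to_le hHS
  -- `Inn H` is trivial
  have hInn : Inn ↥H = ⊥ := by
    rw [eq_bot_iff]
    rintro _ ⟨x, rfl⟩
    rw [Subgroup.mem_bot]
    ext y
    simp only [MulAut.conj_apply, MulAut.one_apply]
    rw [mul_comm x y, mul_inv_cancel_right]
  have hpc : pCore p (F.autGroup H) = ⊥ := by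
    have h1 := hrad.2
    rw [hInn] at h1
    rw [eq_bot_iff]
    intro g hg
    have h2 : (F.autGroup H).subtype g ∈ (pCore p (F.autGroup H)).map (F.autGroup H).subtype :=
      Subgroup.mem_map_of_mem _ hg
    rw [h1, Subgroup.mem_bot] at h2
    rw [Subgroup.mem_bot]
    exact Subtype.ext h2
  have hcore : ∀ N : Subgroup (F.autGroup H), N.Normal → IsPGroup p N → N = ⊥ := by
    intro N hN hNp
    rw [eq_bot_iff, ← hpc]
    exact le_sSup ⟨hN, hNp⟩
  have hdiv : p ∣ Nat.card (F.autGroup H) := by
    have h1 : p ∣ Nat.card (F.autGroup H ⧸ (Inn ↥H).subgroupOf (F.autGroup H)) := hE.1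
    exact h1.trans (Subgroup.card_quotient_dvd_card _)
  have hW : Nat.card (Cfsg.Agent.Lib.Helper91.omegaOne p ↥H) ≤ p ^ 2 := by
    have h1 : frattini ↥H ≤ (powMonoidHom p : ↥H →* ↥H).range := by
      apply Cfsg.Agent.Lib.Helper54.frattini_le_of_commutator_le_of_pow_mem (p := p)
      · rw [commutator_def, Subgroup.commutator_le]
        intro g₁ _ g₂ _
        rw [commutatorElement_eq_one_iff_mul_comm.mpr (mul_comm g₁ g₂)]
        exact Subgroup.one_mem _
      · intro x
        exact ⟨x, rfl⟩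
    have h2 : (powMonoidHom p : ↥H →* ↥H).range.index ≤ p ^ 2 :=
      (Nat.le_of_dvd (Nat.pos_of_ne_zero Subgroup.index_ne_zero_of_finite)
        (Subgroup.index_dvd_of_le h1)).trans hrk
    have h3 : Nat.card (powMonoidHom p : ↥H →* ↥H).ker * (powMonoidHom p : ↥H →* ↥H).ker.index
        = Nat.card ↥H := Subgroup.card_mul_index _
    have h4 : Nat.card (powMonoidHom p : ↥H →* ↥H).range *
        (powMonoidHom p : ↥H →* ↥H).range.index = Nat.card ↥H := Subgroup.card_mul_index _
    have h5 : (powMonoidHom p : ↥H →* ↥H).ker.index = Nat.card (powMonoidHom p : ↥H →* ↥H).range :=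
      Subgroup.index_ker _
    have h6 : Nat.card (powMonoidHom p : ↥H →* ↥H).ker = (powMonoidHom p : ↥H →* ↥H).range.index := by
      have hpos : 0 < Nat.card (powMonoidHom p : ↥H →* ↥H).range := Nat.card_pos
      rw [h5, ← h4, mul_comm] at h3
      exact Nat.eq_of_mul_eq_mul_left hpos h3
    unfold Cfsg.Agent.Lib.Helper91.omegaOne
    rw [h6]
    exact h2
  rcases Cfsg.Agent.Lib.Helper91.rank_two_core hHp (F.autGroup H) hcore hdiv hW with ⟨hexp, hcard⟩ | h
  · left
    refine ⟨⟨hab, ?_⟩, hcard⟩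
    intro a ha
    exact congrArg Subtype.val (hexp ⟨a, ha⟩)
  · right
    exact h

end Cfsg.Agent.S5187
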