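import Cfsg.Statements.S5188
-- import your own Cfsg.Agent.* helpers here
import Cfsg.Agent.S5080
import Cfsg.Agent.Lib.Helper01.PCore
import Cfsg.Agent.Lib.Helper89.ChainSylow
import Cfsg.Agent.Lib.Helper89.OrderPFour

set_option autoImplicit false
universe u
open Cfsg

namespace Cfsg.Agent.S5188

open Cfsg.Agent.Lib.Helper89

/-- Let F be a saturated fusion system over a finite p-group S and H an essential subgroup of order p⁴. Then H is isomorphic to one of: C_p⁴ or C_{p²} × C_p × C_p (any p); C_{p²} × C_{p²} with p ∈ {2, 3}; p^{1+2}_+ × C_p with p odd (the direct product of an extraspecial group of order p³ and exponent p with a group of order p); Q₈ × C₂ (p = 2); or the non-abelian group of order p⁴ of exponent p² whose centre is cyclic of order p² (the central product of an extraspecial group of order p³ with a cyclic group of order p²; for p = 2 this is D₈ ∘ C₄). -/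
theorem result {Ω : Type u} [Group Ω] {S : Subgroup Ω} [Finite S] (p : ℕ) [Fact p.Prime] (hS : IsPGroup p S)
    (F : Cfsg.FusionSystem S) (hF : F.IsSaturated p) (H : Subgroup Ω) (hH : F.IsEssential p H) (hcard : Nat.card H = p ^ 4) :
    Cfsg.IsElementaryAbelian p H ∨
      Nonempty (↥H ≃* Multiplicative (ZMod (p ^ 2) × ZMod p × ZMod p)) ∨
      ((p = 2 ∨ p = 3) ∧ Nonempty (↥H ≃* Multiplicative (ZMod (p ^ 2) × ZMod (p ^ 2)))) ∨
      (Odd p ∧ ∃ (E : Type) (_ : Group E) (_ : Finite E), Cfsg.IsExtraspecial p E ∧ Nat.card E = p ^ 3 ∧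
        (∀ x : E, x ^ p = 1) ∧ Nonempty (↥H ≃* E × Multiplicative (ZMod p))) ∨
      (p = 2 ∧ Nonempty (↥H ≃* QuaternionGroup 2 × Multiplicative (ZMod 2))) ∨
      (¬ IsMulCommutative ↥H ∧ (∀ x ∈ H, x ^ (p ^ 2) = 1) ∧ IsCyclic ↥(Subgroup.center ↥H) ∧
        Nat.card (Subgroup.center ↥H) = p ^ 2) := by
  have hp : p.Prime := Fact.out
  have hHS : H ≤ S := hH.1.1
  have hfinH : Finite H := Finite.of_injective (Subgroup.inclusion hHS) (Subgroup.inclusion_injective hHS)
  have hHp : IsPGroup p H := hS.to_le hHS
  by_cases hc : ∀ a b : H, a * b = b * a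
  · -- the abelian case
    have hab : IsMulCommutative H := ⟨⟨hc⟩⟩
    letI : CommGroup H := { (inferInstance : Group H) with mul_comm := hc }
    rcases abelian_p_four (G := H) hcard with h | h | h
    · left
      refine ⟨hab, ?_⟩
      intro x hx
      exact congrArg Subtype.val (h ⟨x, hx⟩)
    · right; left
      exact h
    · right; right; left
      have hrad := Cfsg.Agent.S5080.result p hS F hF H hH
      have hInn : Inn H = ⊥ := by
        rw [eq_bot_iff]
        rintro _ ⟨g, rfl⟩
        rw [Subgroup.mem_bot]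
        ext x
        simp [MulAut.conj_apply]
      have hA1 : p ∣ Nat.card (F.autGroup H) := by
        obtain ⟨hn, E, hE⟩ := hH.2.2
        exact hE.1.trans (Subgroup.card_quotient_dvd_card _)
      have hA2 : ∀ N : Subgroup (F.autGroup H), N.Normal → IsPGroup p N → N = ⊥ := by
        intro N hN hNp
        have h1 : N ≤ pCore p (F.autGroup H) := Cfsg.Agent.Lib.Helper01.le_pCore hN hNp
        have h2 : N.map (F.autGroup H).subtype ≤ ⊥ := by
          rw [← hInn, ← hrad.2]
          exact Subgroup.map_mono h1
        rw [le_bot_iff] at h2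
        exact (Subgroup.map_eq_bot_iff_of_injective N (Subgroup.subtype_injective _)).mp h2
      obtain ⟨a, ha1, hexp, hcard', hrange, hstar⟩ := homocyclic_data hHp (F.autGroup H) hA1 hA2 h
      obtain ⟨e⟩ := homocyclic_iso hHp a ha1 hexp hcard' hrange hstar
      have ha2 : a = 2 := by
        have h1 := Nat.card_congr e.toEquiv
        have h2 : Nat.card (Multiplicative (ZMod (p ^ a) × ZMod (p ^ a))) = p ^ a * p ^ a := by
          have : Nat.card (Multiplicative (ZMod (p ^ a) × ZMod (p ^ a))) =
              Nat.card (ZMod (p ^ a) × ZMod (p ^ a)) := Nat.card_congr Multiplicative.toAdd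
          rw [this, Nat.card_prod, Nat.card_zmod]
        rw [hcard, h2, ← pow_add] at h1
        have := Nat.pow_right_injective hp.two_le h1
        omega
      subst ha2
      refine ⟨?_, ⟨e⟩⟩
      by_contra hp23
      have hp5 : 5 ≤ p := by
        by_contra h5
        have h4 : p = 0 ∨ p = 1 ∨ p = 2 ∨ p = 3 ∨ p = 4 := by omega
        rcases h4 with h4 | h4 | h4 | h4 | h4
        · rw [h4] at hp; exact Nat.not_prime_zero hp
        · rw [h4] at hp; exact Nat.not_prime_one hp
        · exact hp23 (Or.inl h4)
        · exact hp23 (Or.inr h4)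
        · rw [h4] at hp; norm_num at hp
      have := exponent_eq_one_of_five_le hHp _ hA1 (faithful_on_omega hHp _ hA2) hp5 2 ha1 hexp
        hcard' hrange hstar
      omega
  · rcases nonabelian_p_four hcard hc with ⟨c, n, hmono, hc0, hcn, hinv, hidx⟩ |
      ⟨hp2, E, i1, i2, h1, h2, h3, h4⟩ | ⟨hp2, h⟩ | ⟨h1, h2, h3⟩
    · exact absurd hH (not_isEssential_of_chain F H hHp c hmono hc0 n hcn hinv hidx)
    · right; right; right; left
      exact ⟨hp.odd_of_ne_two hp2, E, i1, i2, h1, h2, h3, h4⟩
    · right; right; right; right; left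
      exact ⟨hp2, h⟩
    · right; right; right; right; right
      refine ⟨fun hm => hc hm.is_comm.comm, ?_, h2, h3⟩
      intro x hx
      exact congrArg Subtype.val (h1 ⟨x, hx⟩)

end Cfsg.Agent.S5188
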