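import Cfsg.Statements.S5191

set_option autoImplicit false
open Cfsg

namespace Cfsg.Agent.S5191

open scoped Pointwise in
/-- Sylow-type lemma: a `p`-subgroup of `S ⊔ N` (`N` normal, `S` Sylow) is conjugate into `S` by an element of `N`. -/
theorem conj_into_sylow {G : Type*} [Group G] [Finite G] {p : ℕ} [Fact p.Prime]
    (N : Subgroup G) [N.Normal] (S : Sylow p G) (Q : Subgroup G) (hQ : IsPGroup p Q)
    (hQH : Q ≤ (S : Subgroup G) ⊔ N) :
    ∃ n ∈ N, ∀ y ∈ Q, n * y * n⁻¹ ∈ S := by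
  classical
  set H : Subgroup G := (S : Subgroup G) ⊔ N with hH
  have hSH : (S : Subgroup G) ≤ H := le_sup_left
  have hQ' : IsPGroup p (Q.subgroupOf H) := hQ.comap_subtype
  obtain ⟨R, hR⟩ := hQ'.exists_le_sylow
  obtain ⟨h, hh⟩ := MulAction.exists_smul_eq H R (S.subtype hSH)
  have key : ∀ y ∈ Q, (h : G) * y * (h : G)⁻¹ ∈ S := by
    intro y hy
    have hyH : y ∈ H := hQH hy
    have h1 : (⟨y, hyH⟩ : H) ∈ R := hR (Subgroup.mem_subgroupOf.mpr hy)
    have h2 : h * ⟨y, hyH⟩ * h⁻¹ ∈ ((h • R : Sylow p H) : Subgroup H) := by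
      rw [Sylow.smul_def, Sylow.pointwise_smul_def]
      exact ⟨⟨y, hyH⟩, h1, rfl⟩
    rw [hh, Sylow.coe_subtype, Subgroup.mem_subgroupOf] at h2
    exact h2
  obtain ⟨s, hs, n, hn, hsn⟩ := Subgroup.mem_sup_of_normal_right.mp h.2
  refine ⟨n, hn, fun y hy => ?_⟩
  have := key y hy
  rw [← hsn] at this
  have h3 : n * y * n⁻¹ = s⁻¹ * (s * n * y * (s * n)⁻¹) * s := by group
  rw [h3]
  exact (S : Subgroup G).mul_mem ((S : Subgroup G).mul_mem ((S : Subgroup G).inv_mem hs) this) hs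

/-- Fusion in a finite group G and in its quotient by O_{p'}(G) agree. Let S be a Sylow p-subgroup of G, N = O_{p'}(G) and P ≤ S. If an element of G/N conjugates the image of P into the image of S, then some element g of G conjugates P into S and induces the same map on P modulo N. (Together with the injectivity of S → G/N this says that g ↦ gN induces an isomorphism of the fusion system of G on S with that of G/N on SN/N.) -/
theorem result {G : Type*} [Group G] [Finite G] {p : ℕ} [Fact p.Prime]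
    [hN : (Cfsg.pPrimeCore p G).Normal] (S : Sylow p G) (P : Subgroup G) (hP : P ≤ (S : Subgroup G))
    (γ : G ⧸ Cfsg.pPrimeCore p G)
    (hγ : ∀ x ∈ P, γ * QuotientGroup.mk x * γ⁻¹ ∈ ((S : Subgroup G).map (QuotientGroup.mk' (Cfsg.pPrimeCore p G)))) :
    ∃ g : G, ∀ x ∈ P, g * x * g⁻¹ ∈ S ∧
      (QuotientGroup.mk (g * x * g⁻¹) : G ⧸ Cfsg.pPrimeCore p G) = γ * QuotientGroup.mk x * γ⁻¹ := by
  classical
  obtain ⟨g₀, rfl⟩ := QuotientGroup.mk_surjective γ
  let Q : Subgroup G := P.map (MulAut.conj g₀).toMonoidHom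
  have hPp : IsPGroup p P := S.2.to_le hP
  have hQp : IsPGroup p Q := hPp.map _
  have hQH : Q ≤ (S : Subgroup G) ⊔ Cfsg.pPrimeCore p G := by
    rintro _ ⟨x, hx, rfl⟩
    obtain ⟨s, hs, hse⟩ := hγ x hx
    have h1 : (QuotientGroup.mk s : G ⧸ Cfsg.pPrimeCore p G) = QuotientGroup.mk (g₀ * x * g₀⁻¹) := by
      simpa using hse
    have h2 : s⁻¹ * (g₀ * x * g₀⁻¹) ∈ Cfsg.pPrimeCore p G := QuotientGroup.eq.mp h1
    have h3 : (MulAut.conj g₀).toMonoidHom x = s * (s⁻¹ * (g₀ * x * g₀⁻¹)) := by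
      simp [MulAut.conj_apply]
    rw [h3]
    exact Subgroup.mul_mem _ (Subgroup.mem_sup_left hs) (Subgroup.mem_sup_right h2)
  obtain ⟨n, hn, hnQ⟩ := conj_into_sylow (Cfsg.pPrimeCore p G) S Q hQp hQH
  refine ⟨n * g₀, fun x hx => ⟨?_, ?_⟩⟩
  · have := hnQ _ (Subgroup.mem_map_of_mem (MulAut.conj g₀).toMonoidHom hx)
    have h4 : n * g₀ * x * (n * g₀)⁻¹ = n * ((MulAut.conj g₀).toMonoidHom x) * n⁻¹ := by
      simp [MulAut.conj_apply, mul_assoc]
    rw [h4]; exact this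
  · have hn1 : (QuotientGroup.mk n : G ⧸ Cfsg.pPrimeCore p G) = 1 :=
      (QuotientGroup.eq_one_iff n).mpr hn
    simp only [QuotientGroup.mk_mul, QuotientGroup.mk_inv, hn1, one_mul, mul_inv_rev, inv_one, mul_one]

end Cfsg.Agent.S5191
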