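import Cfsg.Statements.S5192
import Cfsg.Agent.Lib.Helper87.BisetThompson2

set_option autoImplicit false
open Cfsg

namespace Cfsg.Agent.S5192

open Cfsg.FusionSystem Cfsg.Agent.Lib.Helper87

/-- The divisibility at a conjugate of `i` lying in `T`. -/
theorem two_mul_card_dvd {Ω : Type*} [Group Ω] [Finite Ω] {S : Subgroup Ω} (hS : IsPGroup 2 ↥S)
    (F : Cfsg.FusionSystem S) (m : Subgroup (↥S × ↥S) → ℕ) (hm : ∀ D, D ∉ twisted F → m D = 0)
    (hbal : ∀ K K', K ∈ twisted F → ERel F K K' → bmark m K = bmark m K')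
    (T : Subgroup Ω) (i : Ω) (hi : i ∈ S) (hi2 : orderOf i = 2)
    (h : ∀ j : Ω, F.IsConjElt i j → F.IsFullyNormalized (Subgroup.zpowers j) → j ∉ T)
    (v : ↥S) (hvT : (v : Ω) ∈ T) (x₀ : BSet m)
    (hx₀ : (((⟨i, hi⟩ : ↥S), v) : ↥S × ↥S) • x₀ = x₀) :
    2 * Nat.card (normalizerIn S (Subgroup.zpowers (v : Ω))) ∣
      Nat.card {x : BSet m // (((⟨i, hi⟩ : ↥S), v) : ↥S × ↥S) • x = x} := by
  classical
  haveI : Fact (Nat.Prime 2) := ⟨Nat.prime_two⟩
  set gv : ↥S × ↥S := ((⟨i, hi⟩ : ↥S), v) with hgv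
  have htw : MulAction.stabilizer (↥S × ↥S) x₀ ∈ twisted F :=
    bset_stabilizer_mem (twisted F) (fun K D h hK => twisted_of_sconj F h hK) m hm x₀
  have hZle : Subgroup.zpowers gv ≤ MulAction.stabilizer (↥S × ↥S) x₀ :=
    Subgroup.zpowers_le.mpr (MulAction.mem_stabilizer_iff.mpr hx₀)
  have hZtw : Subgroup.zpowers gv ∈ twisted F := twisted_of_le F hZle htw
  obtain ⟨R, ρ, hρ, hD⟩ := htw
  obtain ⟨r, e1, e2⟩ := (hD gv).mp (MulAction.mem_stabilizer_iff.mpr hx₀)
  have e1' : i = ρ r := e1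
  have e2' : (v : Ω) = r := e2
  have hsrc : srcOf (Subgroup.zpowers gv) = Subgroup.zpowers (v : Ω) := by
    unfold srcOf
    rw [MonoidHom.map_zpowers, MonoidHom.map_zpowers]
    rfl
  have hi1 : i ≠ 1 := by
    intro h1
    rw [h1, orderOf_one] at hi2
    omega
  have hisq : i ^ 2 = 1 := by rw [← hi2]; exact pow_orderOf_eq_one i
  have hr2 : r ^ 2 = 1 := by
    apply F.injective_of_mem hρ
    rw [map_pow, ← e1', hisq, map_one]
  have hv2 : (v : Ω) ^ 2 = 1 := by
    rw [e2', ← Subgroup.coe_pow, hr2]; rfl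
  have hv1 : (v : Ω) ≠ 1 := by
    intro h1
    apply hi1
    have : r = 1 := Subtype.ext (by rw [← e2', h1]; rfl)
    rw [e1', this, map_one]
  have hov : orderOf (v : Ω) = 2 := orderOf_eq_prime hv2 hv1
  -- `i` is conjugate to `v`
  have hvR : Subgroup.zpowers (v : Ω) ≤ R := by
    rw [Subgroup.zpowers_le, e2']; exact r.2
  set ρv : ↥(Subgroup.zpowers (v : Ω)) →* Ω := ρ.comp (Subgroup.inclusion hvR) with hρv
  have hρvF : ρv ∈ F.Hom (Subgroup.zpowers (v : Ω)) := restrict_mem F hvR hρ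
  have hpow : ∀ (n : ℤ) (hn : (v : Ω) ^ n ∈ Subgroup.zpowers (v : Ω)), ρv ⟨(v : Ω) ^ n, hn⟩ = i ^ n := by
    intro n hn
    have : Subgroup.inclusion hvR ⟨(v : Ω) ^ n, hn⟩ = r ^ n := by
      apply Subtype.ext
      rw [Subgroup.coe_zpow, ← e2']
      rfl
    show ρ (Subgroup.inclusion hvR ⟨(v : Ω) ^ n, hn⟩) = i ^ n
    rw [this, map_zpow, ← e1']
  have hρvr : ρv.range = Subgroup.zpowers i := by
    ext y
    constructor
    · rintro ⟨⟨w, hw⟩, rfl⟩
      obtain ⟨n, rfl⟩ := Subgroup.mem_zpowers_iff.mp hw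
      rw [hpow n hw]
      exact Subgroup.zpow_mem _ (Subgroup.mem_zpowers i) n
    · rintro ⟨n, rfl⟩
      exact ⟨⟨(v : Ω) ^ n, Subgroup.zpow_mem _ (Subgroup.mem_zpowers _) n⟩, hpow n _⟩
  obtain ⟨ψ, hψ, hψx, _⟩ := inv_mem' F hρvF hρvr
  have hconjelt : F.IsConjElt i (v : Ω) := by
    refine ⟨ψ, hψ, ?_⟩
    have hv' : ρv ⟨(v : Ω), Subgroup.mem_zpowers _⟩ = i := by
      show ρ (Subgroup.inclusion hvR ⟨(v : Ω), Subgroup.mem_zpowers _⟩) = i
      have : Subgroup.inclusion hvR ⟨(v : Ω), Subgroup.mem_zpowers _⟩ = r := Subtype.ext e2'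
      rw [this, ← e1']
    exact hψx ⟨(v : Ω), Subgroup.mem_zpowers _⟩ ⟨i, Subgroup.mem_zpowers i⟩ hv'
  -- `⟨v⟩` is not fully normalized
  have hvS : Subgroup.zpowers (v : Ω) ≤ S := Subgroup.zpowers_le.mpr v.2
  have hnfn : ¬ F.IsFullyNormalized (Subgroup.zpowers (v : Ω)) := fun hfn => h _ hconjelt hfn hvT
  unfold IsFullyNormalized at hnfn
  push_neg at hnfn
  obtain ⟨Q, hQconj, hlt⟩ := hnfn hvS
  have hQS : Q ≤ S := isConj_le_right F hQconj
  have hQcard : Nat.card Q = 2 := by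
    obtain ⟨φ, hφ, hφr⟩ := hQconj
    rw [← hφr, ← hov, ← Nat.card_zpowers]
    exact (Nat.card_congr (Equiv.ofInjective φ (F.injective_of_mem hφ))).symm
  -- the marks
  have hmarks : bmark m (Subgroup.zpowers gv) = bmark m (diagOn S Q) := by
    apply hbal _ _ hZtw
    refine Or.inl ⟨hZtw, diagOn_mem_twisted F hQS, ?_⟩
    rw [hsrc, srcOf_diagOn F hQS]
    exact hQconj
  have hfix : Nat.card {x : BSet m // gv • x = x} = bmark m (Subgroup.zpowers gv) := by
    unfold bmark
    apply Nat.card_congr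
    apply Equiv.subtypeEquivRight
    intro x
    rw [← MulAction.mem_stabilizer_iff, ← Subgroup.zpowers_le]
    rfl
  rw [hfix, hmarks]
  have h1 := card_centralizerIn_dvd_bmark_diagOn F m hm Q
  have h2 : Nat.card (normalizerIn S Q) ∣ Nat.card (centralizerIn S Q) :=
    Subgroup.card_dvd_of_le (normalizerIn_le_centralizerIn_of_card_two hQcard)
  obtain ⟨a, ha⟩ := IsPGroup.iff_card.mp (hS.to_le (normalizerIn_le S (Subgroup.zpowers (v : Ω))))
  obtain ⟨b, hb⟩ := IsPGroup.iff_card.mp (hS.to_le (normalizerIn_le S Q))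
  rw [ha, hb] at hlt
  have hab : a < b := (Nat.pow_lt_pow_iff_right (by norm_num)).mp hlt
  have h3 : 2 * Nat.card (normalizerIn S (Subgroup.zpowers (v : Ω))) ∣ Nat.card (normalizerIn S Q) := by
    rw [ha, hb, ← pow_succ']
    exact pow_dvd_pow 2 hab
  exact h3.trans (h2.trans h1)

/-- The centralizer of `v` in `S` (as the stabilizer for the conjugation action) embeds in `N_S(⟨v⟩)`. -/
theorem card_stabilizer_dvd {Ω : Type*} [Group Ω] [Finite Ω] {S : Subgroup Ω} (v : ↥S) :
    Nat.card (MulAction.stabilizer (ConjAct ↥S) v) ∣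
      Nat.card (normalizerIn S (Subgroup.zpowers (v : Ω))) := by
  have hmem : ∀ s : MulAction.stabilizer (ConjAct ↥S) v,
      ((S.subtype.comp (ConjAct.ofConjAct (G := ↥S)).toMonoidHom).comp
        (MulAction.stabilizer (ConjAct ↥S) v).subtype) s ∈ normalizerIn S (Subgroup.zpowers (v : Ω)) := by
    intro s
    set a : ↥S := ConjAct.ofConjAct (s : ConjAct ↥S) with ha
    have hs : (s : ConjAct ↥S) • v = v := MulAction.mem_stabilizer_iff.mp s.2
    rw [ConjAct.smul_def] at hs
    have hs' : (a : Ω) * (v : Ω) * (a : Ω)⁻¹ = v := congrArg (fun z : ↥S => (z : Ω)) hs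
    refine ⟨a.2, ?_⟩
    apply mem_normalizer_of_conj_mem
    rintro _ ⟨n, rfl⟩
    show (a : Ω) * (v : Ω) ^ n * (a : Ω)⁻¹ ∈ Subgroup.zpowers (v : Ω)
    rw [← conj_zpow, hs']
    exact ⟨n, rfl⟩
  apply Subgroup.card_dvd_of_injective
    (((S.subtype.comp (ConjAct.ofConjAct (G := ↥S)).toMonoidHom).comp
      (MulAction.stabilizer (ConjAct ↥S) v).subtype).codRestrict _ hmem)
  intro s s' hss'
  have h1 : ((ConjAct.ofConjAct (s : ConjAct ↥S) : ↥S) : Ω) = ((ConjAct.ofConjAct (s' : ConjAct ↥S) : ↥S) : Ω) :=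
    congrArg (fun z : ↥(normalizerIn S (Subgroup.zpowers (v : Ω))) => (z : Ω)) hss'
  have h2 : ConjAct.ofConjAct (s : ConjAct ↥S) = ConjAct.ofConjAct (s' : ConjAct ↥S) := Subtype.ext h1
  exact Subtype.ext (ConjAct.ofConjAct.injective h2)

/-- The points moved inside their orbits by an element of the index-two subgroup: their number is divisible by `2|S|`. -/
theorem two_mul_card_dvd_moved {Ω : Type*} [Group Ω] [Finite Ω] {S : Subgroup Ω} (hS : IsPGroup 2 ↥S)
    (F : Cfsg.FusionSystem S) (m : Subgroup (↥S × ↥S) → ℕ) (hm : ∀ D, D ∉ twisted F → m D = 0)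
    (hbal : ∀ K K', K ∈ twisted F → ERel F K K' → bmark m K = bmark m K')
    (T : Subgroup Ω) (i : Ω) (hi : i ∈ S) (hi2 : orderOf i = 2)
    (h : ∀ j : Ω, F.IsConjElt i j → F.IsFullyNormalized (Subgroup.zpowers j) → j ∉ T)
    (hTn : (T.subgroupOf S).Normal) :
    2 * Nat.card ↥S ∣ Nat.card {x : BSet m // ∃ c ∈ T.subgroupOf S,
      ((leftHom ↥S (BSet m) ⟨i, hi⟩ : rightAut ↥S (BSet m)) : Equiv.Perm (BSet m)) x =
        (((1 : ↥S), c) : ↥S × ↥S) • x} := by
  classical
  haveI : Fintype ↥S := Fintype.ofFinite _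
  set T' : Subgroup ↥S := T.subgroupOf S with hT'
  set i' : ↥S := ⟨i, hi⟩ with hi'
  have hfree := bset_free F m hm
  -- the set of pairs
  have e1 : {x : BSet m // ∃ c ∈ T', ((leftHom ↥S (BSet m) i' : rightAut ↥S (BSet m)) : Equiv.Perm (BSet m)) x =
      (((1 : ↥S), c) : ↥S × ↥S) • x} ≃
      {q : ↥S × BSet m // q.1 ∈ T' ∧ ((i', q.1) : ↥S × ↥S) • q.2 = q.2} :=
    { toFun := fun x => ⟨((x.2.choose)⁻¹, x.1), T'.inv_mem x.2.choose_spec.1, by
        have h1 : ((i', (1 : ↥S)) : ↥S × ↥S) • x.1 = (((1 : ↥S), x.2.choose) : ↥S × ↥S) • x.1 :=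
          x.2.choose_spec.2
        have : ((i', (x.2.choose)⁻¹) : ↥S × ↥S) = (((1 : ↥S), (x.2.choose)⁻¹) : ↥S × ↥S) * ((i', (1 : ↥S)) : ↥S × ↥S) := by
          simp
        show ((i', (x.2.choose)⁻¹) : ↥S × ↥S) • x.1 = x.1
        rw [this, mul_smul, h1, smul_smul]
        have : ((((1 : ↥S), (x.2.choose)⁻¹) : ↥S × ↥S) * (((1 : ↥S), x.2.choose) : ↥S × ↥S)) = 1 := by simp
        rw [this, one_smul]⟩
      invFun := fun q => ⟨q.1.2, (q.1.1)⁻¹, T'.inv_mem q.2.1, by
        rw [leftHom_apply]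
        have h1 := q.2.2
        have : ((i', (1 : ↥S)) : ↥S × ↥S) = (((1 : ↥S), (q.1.1)⁻¹) : ↥S × ↥S) * ((i', q.1.1) : ↥S × ↥S) := by
          simp
        rw [this, mul_smul, h1]⟩
      left_inv := fun x => Subtype.ext rfl
      right_inv := by
        rintro ⟨⟨v, x⟩, hv, hvx⟩
        apply Subtype.ext
        apply Prod.ext
        · -- uniqueness of the displacement
          set hx : ∃ c ∈ T', ((leftHom ↥S (BSet m) i' : rightAut ↥S (BSet m)) : Equiv.Perm (BSet m)) x =
              (((1 : ↥S), c) : ↥S × ↥S) • x := ⟨v⁻¹, T'.inv_mem hv, by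
            rw [leftHom_apply]
            have : ((i', (1 : ↥S)) : ↥S × ↥S) = (((1 : ↥S), v⁻¹) : ↥S × ↥S) * ((i', v) : ↥S × ↥S) := by simp
            rw [this, mul_smul, hvx]⟩ with hhx
          show (hx.choose)⁻¹ = v
          have h1 : ((i', (1 : ↥S)) : ↥S × ↥S) • x = (((1 : ↥S), hx.choose) : ↥S × ↥S) • x :=
            hx.choose_spec.2
          have h2 : ((i', (1 : ↥S)) : ↥S × ↥S) • x = (((1 : ↥S), v⁻¹) : ↥S × ↥S) • x := by
            have : ((i', (1 : ↥S)) : ↥S × ↥S) = (((1 : ↥S), v⁻¹) : ↥S × ↥S) * ((i', v) : ↥S × ↥S) := by simp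
            rw [this, mul_smul, hvx]
          have h3 : (((1 : ↥S), v * hx.choose) : ↥S × ↥S) • x = x := by
            have : (((1 : ↥S), v * hx.choose) : ↥S × ↥S) =
                (((1 : ↥S), v) : ↥S × ↥S) * (((1 : ↥S), hx.choose) : ↥S × ↥S) := by simp
            rw [this, mul_smul, ← h1, h2, smul_smul]
            have : ((((1 : ↥S), v) : ↥S × ↥S) * (((1 : ↥S), v⁻¹) : ↥S × ↥S)) = 1 := by simp
            rw [this, one_smul]
          have h4 := hfree _ _ h3
          exact inv_eq_of_mul_eq_one_left h4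
        · rfl }
  set f : ↥S → ℕ := fun v => Nat.card {x : BSet m // v ∈ T' ∧ ((i', v) : ↥S × ↥S) • x = x} with hf
  have hcard : Nat.card {x : BSet m // ∃ c ∈ T', ((leftHom ↥S (BSet m) i' : rightAut ↥S (BSet m)) : Equiv.Perm (BSet m)) x =
      (((1 : ↥S), c) : ↥S × ↥S) • x} = ∑ v : ↥S, f v := by
    rw [Nat.card_congr e1,
      Nat.card_congr (Equiv.subtypeProdEquivSigmaSubtype
        (fun (v : ↥S) (x : BSet m) => v ∈ T' ∧ ((i', v) : ↥S × ↥S) • x = x)),
      Nat.card_sigma]
  rw [hcard]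
  have hSc : Nat.card (ConjAct ↥S) = Nat.card ↥S := Nat.card_congr ConjAct.ofConjAct.toEquiv
  rw [← hSc]
  apply dvd_sum_of_stabilizer (G := ConjAct ↥S) f
  · -- invariance
    intro s v
    set a : ↥S := ConjAct.ofConjAct s with ha
    have hsv : s • v = a * v * a⁻¹ := ConjAct.smul_def s v
    rw [hsv]
    simp only [hf]
    apply Nat.card_congr
    refine Equiv.subtypeEquiv (MulAction.toPerm (((1 : ↥S), a⁻¹) : ↥S × ↥S)) (fun x => ?_)
    have hmemiff : a * v * a⁻¹ ∈ T' ↔ v ∈ T' := by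
      constructor
      · intro h1
        have := hTn.conj_mem _ h1 a⁻¹
        simpa [mul_assoc] using this
      · intro h1
        exact hTn.conj_mem _ h1 a
    have hcomm : ((i', v) : ↥S × ↥S) * (((1 : ↥S), a⁻¹) : ↥S × ↥S) =
        (((1 : ↥S), a⁻¹) : ↥S × ↥S) * ((i', a * v * a⁻¹) : ↥S × ↥S) := by
      apply Prod.ext
      · simp
      · show v * a⁻¹ = a⁻¹ * (a * v * a⁻¹)
        group
    rw [hmemiff, MulAction.toPerm_apply, smul_smul, hcomm, mul_smul]
    constructor
    · rintro ⟨h1, h2⟩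
      exact ⟨h1, by rw [h2]⟩
    · rintro ⟨h1, h2⟩
      exact ⟨h1, MulAction.injective _ h2⟩
  · -- the divisibility
    intro v
    by_cases hv : v ∈ T'
    · by_cases hne : Nonempty {x : BSet m // v ∈ T' ∧ ((i', v) : ↥S × ↥S) • x = x}
      · obtain ⟨⟨x₀, _, hx₀⟩⟩ := hne
        have h1 := two_mul_card_dvd hS F m hm hbal T i hi hi2 h v hv x₀ hx₀
        have h2 : f v = Nat.card {x : BSet m // ((i', v) : ↥S × ↥S) • x = x} := by
          simp only [hf]
          apply Nat.card_congr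
          apply Equiv.subtypeEquivRight
          intro x
          exact ⟨fun h => h.2, fun h => ⟨hv, h⟩⟩
        rw [h2]
        exact (Nat.mul_dvd_mul_left 2 (card_stabilizer_dvd v)).trans h1
      · rw [not_nonempty_iff] at hne
        have : f v = 0 := by simp only [hf]; exact Nat.card_of_isEmpty
        rw [this]; exact dvd_zero _
    · have : f v = 0 := by
        simp only [hf]
        rw [Nat.card_eq_zero]
        left
        exact ⟨fun x => hv x.2.1⟩
      rw [this]; exact dvd_zero _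

/-- The sign homomorphism of a subgroup of index two. -/
noncomputable def signHom {G : Type*} [Group G] (N : Subgroup G) (hN : N.index = 2) : G →* ℤˣ := by
  classical
  exact MonoidHom.mk' (fun s => if s ∈ N then 1 else -1) (by
    intro a b
    have hiff := Subgroup.mul_mem_iff_of_index_two hN (a := a) (b := b)
    by_cases ha : a ∈ N <;> by_cases hb : b ∈ N
    · have hab : a * b ∈ N := hiff.mpr (iff_of_true ha hb)
      simp [ha, hb, hab]
    · have hab : a * b ∉ N := fun h => hb ((hiff.mp h).mp ha)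
      simp [ha, hb, hab]
    · have hab : a * b ∉ N := fun h => ha ((hiff.mp h).mpr hb)
      simp [ha, hb, hab]
    · have hab : a * b ∈ N := hiff.mpr (iff_of_false ha hb)
      simp [ha, hb, hab])

theorem signHom_apply {G : Type*} [Group G] (N : Subgroup G) (hN : N.index = 2) [DecidablePred (· ∈ N)] (s : G) :
    signHom N hN s = if s ∈ N then 1 else -1 := by
  unfold signHom
  simp only [MonoidHom.mk'_apply]
  congr

/-- A Thompson-type transfer for saturated fusion systems. Let F be a saturated fusion system on a finite 2-group S, T a subgroup of S of index 2, and i an involution of S such that every fully normalized F-conjugate of i lies in S but outside T. Then i does not lie in the hyperfocal subgroup of F (the Sylow group of the 2-residual subsystem). -/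
theorem result {Ω : Type*} [Group Ω] [Finite Ω] {S : Subgroup Ω}
    (hS : IsPGroup 2 ↥S) (F : Cfsg.FusionSystem S) (hF : F.IsSaturated 2)
    (T : Subgroup Ω) (hTS : T ≤ S) (hT : T.relIndex S = 2)
    (i : Ω) (hi : i ∈ S) (hi2 : orderOf i = 2)
    (h : ∀ j : Ω, F.IsConjElt i j → F.IsFullyNormalized (Subgroup.zpowers j) → j ∉ T) :
    i ∉ F.hyperfocalSubgroup 2 := by
  classical
  haveI : Fact (Nat.Prime 2) := ⟨Nat.prime_two⟩
  obtain ⟨m, hm, hbal, k, hk, hpk⟩ := exists_characteristic_bset 2 hS F hF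
  have hfree : ∀ (t : ↥S) (x : BSet m), (((1 : ↥S), t) : ↥S × ↥S) • x = x → t = 1 := bset_free F m hm
  obtain ⟨σ, hσ⟩ := exists_isSection (S := ↥S) (X := BSet m)
  haveI : Fintype (RightOrb ↥S (BSet m)) := Fintype.ofFinite _
  set T' : Subgroup ↥S := T.subgroupOf S with hT'
  have hT'idx : T'.index = 2 := hT
  haveI hT'n : T'.Normal := Subgroup.normal_of_index_eq_two hT'idx
  set κ : ↥S →* ℤˣ := signHom T' hT'idx with hκ
  set i' : ↥S := ⟨i, hi⟩ with hi'
  set g : rightAut ↥S (BSet m) := leftHom ↥S (BSet m) i' with hg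
  have hgg : g * g = 1 := by
    rw [hg, ← map_mul]
    have : i' * i' = 1 := by
      apply Subtype.ext
      show i * i = 1
      rw [← pow_two, ← hi2]
      exact pow_orderOf_eq_one i
    rw [this, map_one]
  intro hi_hyp
  have hfoc := focal_le_ker_transfer F m hm hbal hσ κ
  obtain ⟨z', hz'ker, hz'z⟩ := hfoc (hyperfocal_le_focal F 2 hi_hyp)
  have hz' : z' = i' := Subtype.ext hz'z
  rw [hz'] at hz'ker
  have hτg : transferHom hσ hfree κ g = 1 := hz'ker
  rw [transferHom_involution hσ hfree κ g hgg] at hτg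
  -- the product is a power of `-1`
  set Fix := Finset.univ.filter (fun j : RightOrb ↥S (BSet m) => orbMap g j = j) with hFix
  have hprod : ∏ j ∈ Fix, κ (coc hσ ((g : Equiv.Perm (BSet m)) (σ j))) =
      (-1) ^ (Fix.filter (fun j => ¬ coc hσ ((g : Equiv.Perm (BSet m)) (σ j)) ∈ T')).card := by
    have h1 : ∀ j ∈ Fix, κ (coc hσ ((g : Equiv.Perm (BSet m)) (σ j))) =
        if coc hσ ((g : Equiv.Perm (BSet m)) (σ j)) ∈ T' then 1 else -1 := by
      intro j _
      rw [hκ, signHom_apply]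
    rw [Finset.prod_congr rfl h1, Finset.prod_ite, Finset.prod_const_one, one_mul, Finset.prod_const]
  rw [hprod] at hτg
  -- the number of fixed orbits is odd
  have hcardI : Fintype.card (RightOrb ↥S (BSet m)) = k := by
    have h1 := card_eq_card_rightOrb_mul hσ hfree
    rw [hk, mul_comm, Nat.card_eq_fintype_card (α := RightOrb ↥S (BSet m))] at h1
    exact (Nat.eq_of_mul_eq_mul_right Nat.card_pos h1).symm
  have hinv : ∀ j : RightOrb ↥S (BSet m), orbMap g (orbMap g j) = j := by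
    intro j
    rw [← orbMap_mul, hgg, orbMap_one]
  have hFixodd : Odd Fix.card := by
    let fE : Function.End (RightOrb ↥S (BSet m)) := orbMap g
    have hf : fE ^ 2 ^ 1 = 1 := by
      rw [pow_one, pow_two]
      funext j
      show orbMap g (orbMap g j) = j
      exact hinv j
    have h1 := Equiv.Perm.card_fixedPoints_modEq (p := 2) (n := 1) hf
    have h2 : Fintype.card (Function.fixedPoints fE) = Fix.card := by
      apply Fintype.card_of_subtype
      intro j
      simp only [hFix, Finset.mem_filter, Finset.mem_univ, true_and]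
      rfl
    rw [hcardI, h2] at h1
    rw [← Nat.not_even_iff_odd, Nat.even_iff]
    have hk2 : k % 2 = 1 := by
      have : ¬ 2 ∣ k := hpk
      omega
    have h4 : k % 2 = Fix.card % 2 := h1
    omega
  -- the number of fixed orbits with cocycle in `T'` is even
  have hFix'even : Even (Fix.filter (fun j => coc hσ ((g : Equiv.Perm (BSet m)) (σ j)) ∈ T')).card := by
    have h1 := card_moved_inside hσ hfree g T'
    have h2 := two_mul_card_dvd_moved hS F m hm hbal T i hi hi2 h hT'n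
    rw [h1] at h2
    have h3 : Fix.filter (fun j => coc hσ ((g : Equiv.Perm (BSet m)) (σ j)) ∈ T') =
        Finset.univ.filter (fun j : RightOrb ↥S (BSet m) => orbMap g j = j ∧
          coc hσ ((g : Equiv.Perm (BSet m)) (σ j)) ∈ T') := by
      rw [hFix, Finset.filter_filter]
    rw [h3]
    have hpos : 0 < Nat.card ↥S := Nat.card_pos
    have h4 := Nat.dvd_of_mul_dvd_mul_right hpos h2
    exact even_iff_two_dvd.mpr h4
  have hsum := Finset.card_filter_add_card_filter_not (s := Fix)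
    (fun j => coc hσ ((g : Equiv.Perm (BSet m)) (σ j)) ∈ T')
  have hodd : Odd (Fix.filter (fun j => ¬ coc hσ ((g : Equiv.Perm (BSet m)) (σ j)) ∈ T')).card := by
    rcases hFix'even with ⟨a, ha⟩
    rcases hFixodd with ⟨b, hb⟩
    rw [ha, hb] at hsum
    exact ⟨b - a, by omega⟩
  rw [Odd.neg_one_pow hodd] at hτg
  exact absurd hτg (by decide)

end Cfsg.Agent.S5192
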