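import Cfsg.Statements.S5199
-- import your own Cfsg.Agent.* helpers here
import Cfsg.Agent.S5077
import Cfsg.Agent.S5082
import Cfsg.Agent.Lib.Helper89.Subsystem
import Cfsg.Agent.Lib.Helper89.FusionConj

set_option autoImplicit false
open Cfsg

namespace Cfsg.Agent.S5199

open Cfsg.FusionSystem Cfsg.Agent.Lib in
/-- Let F be a saturated fusion system over a finite p-group S, E a normal subsystem of F over T, and F₀ a normal subsystem of F over a subgroup U containing both T and the hyperfocal subgroup of F, such that F₀ has p-power index in F. Then E is a subsystem of F₀. -/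
theorem result {Ω : Type*} [Group Ω] {S : Subgroup Ω} [Finite S] (p : ℕ) [Fact p.Prime] (hS : IsPGroup p S) (F : Cfsg.FusionSystem S) (hF : F.IsSaturated p) {T U : Subgroup Ω} (E : Cfsg.FusionSystem T) (hE : E.IsNormalIn F p) (F₀ : Cfsg.FusionSystem U) (hF₀ : F₀.IsNormalIn F p) (hU : T ⊔ F.hyperfocalSubgroup p ≤ U) (hidx : F₀.HasPPowerIndexIn F p) : E.IsSubsystemOf F₀ := by
  obtain ⟨⟨hEsat, -, hEsub, hTsc, -, -⟩, -⟩ := hE
  have hTS : T ≤ S := hTsc.1
  have hTU : T ≤ U := le_sup_left.trans hU
  have : Finite T := Helper87.finite_of_le hTS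
  have hT : IsPGroup p T := hS.to_le hTS
  obtain ⟨h1, -⟩ := (Cfsg.Agent.S5077.result p hT E).mp hEsat
  have key : E ≤ Helper89.fullSubsystem F₀ T hTU := by
    apply Cfsg.Agent.S5082.result p hT E hEsat
    intro P hP
    have hfn : E.IsFullyNormalized P := by
      rcases hP with rfl | hess
      · exact Helper89.isFullyNormalized_self E
      · exact hess.2.1
    have hPT : P ≤ T := hfn.1
    obtain ⟨-, -, R, hR⟩ := h1 P hfn
    rw [Helper89.autGroup_fullSubsystem F₀ T hTU hPT]
    have : Finite P := Helper87.finite_of_le hPT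
    have : Finite (MulAut P) := inferInstance
    have : Finite (E.autGroup P) := inferInstance
    apply Helper89.le_of_sylow_le_of_coprime_le (p := p) (E.autGroup P) (F₀.autGroup P) R
    · intro r hr
      rw [hR] at hr
      have hr' : (r : MulAut P) ∈ autInducedBy T P := hr
      obtain ⟨g, hg, hgr⟩ := (Helper89.mem_autInducedBy_iff T P _).mp hr'
      rw [Helper89.mem_autGroup_iff F₀ (hPT.trans hTU)]
      exact Helper87.hom_congr F₀ (F₀.conj_mem (hPT.trans hTU) (hTU hg)) (fun x => hgr x)
    · intro a ha hco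
      have haF : a ∈ F.autGroup P := by
        rw [Helper89.mem_autGroup_iff F (hPT.trans hTS)]
        exact hEsub P ((Helper89.mem_autGroup_iff E hPT a).mp ha)
      apply hidx.2.2 P (hPT.trans hTU)
      refine ⟨⟨a, haF⟩, ?_, rfl⟩
      apply Subgroup.subset_closure
      show (orderOf (⟨a, haF⟩ : F.autGroup P)).Coprime p
      rw [Subgroup.orderOf_mk]
      exact hco
  intro P φ hφ
  exact (key P hφ).1

end Cfsg.Agent.S5199
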