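import Cfsg.Statements.S5202
-- import your own Cfsg.Agent.* helpers here
import Cfsg.Agent.Lib.Helper88.FusionRD13

set_option autoImplicit false
open Cfsg

namespace Cfsg.Agent.S5202

/-- Let F be a saturated fusion system over a finite p-group S and E a normal subsystem of F over T such that Aut_F(T)/Aut_E(T) is p-solvable. Then there is a normal subsystem F₀ of F over T·C_S(T) containing E, with Aut_{F₀}(T) = Aut_E(T), containing every residual limit of F, and whose residual limits have the same maps as those of F. -/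
theorem result {Ω : Type*} [Group Ω] {S : Subgroup Ω} [Finite S] (p : ℕ) [Fact p.Prime] (hS : IsPGroup p S) (F : Cfsg.FusionSystem S) (hF : F.IsSaturated p) {T : Subgroup Ω} (E : Cfsg.FusionSystem T) (hE : E.IsNormalIn F p) [hn : ((E.autGroup T).subgroupOf (F.autGroup T)).Normal] (hsolv : Cfsg.IsPSolvable p (↥(F.autGroup T) ⧸ (E.autGroup T).subgroupOf (F.autGroup T))) : ∃ F₀ : Cfsg.FusionSystem (T ⊔ Cfsg.FusionSystem.centralizerIn S T), F₀.IsNormalIn F p ∧ E.IsSubsystemOf F₀ ∧ F₀.autGroup T = E.autGroup T ∧ ∀ {U : Subgroup Ω} (Finf : Cfsg.FusionSystem U), Finf.IsResidualLimitOf F p → Finf.IsSubsystemOf F₀ ∧ ∀ {V : Subgroup Ω} (L : Cfsg.FusionSystem V), L.IsResidualLimitOf F₀ p → ∀ P : Subgroup Ω, L.Hom P = Finf.Hom P := by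
  have hp : p.Prime := Fact.out
  have hTS : T ≤ S := hE.1.2.2.2.1.1
  haveI : Finite T := Cfsg.Agent.Lib.Helper87.finite_of_le hTS
  have c₀ : Cfsg.Agent.Lib.Helper88.RedCtx p F E F :=
    ⟨hF, hE.1.1, hE.1.2.2, hF, Cfsg.Agent.Lib.Helper88.isInvariantIn_self F, hE.1.2.2.1, inf_le_left⟩
  have hred : ∀ A : Subgroup (MulAut T), E.autGroup T ≤ A → A ≤ F.autGroup T → A ≠ E.autGroup T →
      Cfsg.Agent.Lib.Helper88.gamP p (E.autGroup T) A ≠ A ∨ Cfsg.Agent.Lib.Helper88.gamQ p (E.autGroup T) A ≠ A :=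
    fun A h1 h2 h3 => Cfsg.Agent.Lib.Helper88.gamP_ne_or_gamQ_ne p hsolv h1 h2 h3
  obtain ⟨S₀, F₀, c, hAut, hlim⟩ := Cfsg.Agent.Lib.Helper88.red_main p hS hred _ S F c₀ le_rfl
  have hS₀ : S₀ = T ⊔ Cfsg.FusionSystem.centralizerIn S T := c.eq_sup_of_autGroup_eq hS hAut
  subst hS₀
  refine ⟨F₀, ?_, c.le, hAut, fun Finf hFinf => ?_⟩
  · apply Cfsg.Agent.Lib.Helper88.isNormalIn_of_isWeaklyNormalIn_of_centralizerIn_le p F F₀ ⟨c.satF, hF, c.invF⟩
    intro g hg
    refine le_sup_right (a := T) ⟨hg.1, ?_⟩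
    exact Subgroup.centralizer_le (fun x hx => le_sup_left (b := Cfsg.FusionSystem.centralizerIn S T) hx) hg.2
  · obtain ⟨h1, h2⟩ := hlim Finf hFinf
    exact ⟨h1, fun L hL P => (h2 L hL).2 P⟩

end Cfsg.Agent.S5202
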