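import Cfsg.Statements.S5204
import Cfsg.Agent.Lib.Helper90.GTMain
import Cfsg.Agent.Lib.Helper54.QdFusionFwd
import Cfsg.Agent.S3082

set_option autoImplicit false
open Cfsg

namespace Cfsg.Agent.S5204

/-- The Glauberman–Thompson normal p-complement criterion for fusion systems, p odd. Let F be a saturated fusion system over a finite p-group S with p odd, and let Z(J(S)) be the centre of the subgroup generated by the abelian subgroups of S of largest order. Then F is the inner fusion system of S if and only if the normalizer fusion system of Z(J(S)) in F is the inner fusion system of N_S(Z(J(S))) = S. -/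
theorem result {Ω : Type*} [Group Ω] {S : Subgroup Ω} [Finite S] (p : ℕ) [Fact p.Prime] (hS : IsPGroup p S) (F : Cfsg.FusionSystem S) (hF : F.IsSaturated p) (hp : p ≠ 2) : (∀ P : Subgroup Ω, F.Hom P = (Cfsg.innerFusionSystem S).Hom P) ↔ ∀ N : Cfsg.FusionSystem (Cfsg.FusionSystem.normalizerIn S (Cfsg.centerThompsonAOf S)), F.IsNormalizerSystem (Cfsg.centerThompsonAOf S) N → ∀ P : Subgroup Ω, N.Hom P = (Cfsg.innerFusionSystem (Cfsg.FusionSystem.normalizerIn S (Cfsg.centerThompsonAOf S))).Hom P := by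
  have hD : F.StronglyClosed S := ⟨le_rfl, fun R _ φ hφ x => (F.le_of_mem hφ).2 x⟩
  have hZS : Cfsg.centerThompsonAOf S ≤ S := by
    rw [← Cfsg.Agent.Lib.Helper54.inducedFunctor_ZJA]
    exact Cfsg.Agent.Lib.Helper90.GT.inducedFunctor_le S
  rw [← Cfsg.Agent.Lib.Helper90.GT.NI_iff F hZS]
  constructor
  · intro h
    exact Cfsg.Agent.Lib.Helper90.GT.NI_of_inner h _
  · intro h
    have hyp : Cfsg.Agent.Lib.Helper90.GT.Hyp Cfsg.Agent.Lib.Helper54.ZJAfun p F S :=
      ⟨hF, hD, by rw [Cfsg.Agent.Lib.Helper54.inducedFunctor_ZJA]; exact h⟩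
    have hin := Cfsg.Agent.Lib.Helper90.GT.inner_of_hyp hS Cfsg.Agent.Lib.Helper54.isCharPFunctor_ZJA
      (fun L _ _ P D' hD' h' => by
        rw [Cfsg.Agent.Lib.Helper54.inducedFunctor_ZJA] at h'
        exact Cfsg.Agent.S3082.result hp P D' hD' (Or.inl h')) F S hyp
    intro P
    rw [hin]

end Cfsg.Agent.S5204
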