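import Cfsg.Statements.S5206
import Cfsg.Agent.Lib.Helper90.QdGroup4
import Cfsg.Agent.S5103
import Cfsg.Agent.S5091

set_option autoImplicit false
universe u
open Cfsg

namespace Cfsg.Agent.S5206

/-- Let p be an odd prime, G a finite group and P a Sylow p-subgroup of G. Then the fusion system of G on P is Qd(p)-free (Qd(p), the natural semidirect product of an elementary abelian group of order p² by SL₂(p), is not involved in any model of the normalizer system of a fully normalized centric subgroup) if and only if Qd(p) is not involved in G. -/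
theorem result {G : Type u} [Group G] [Finite G] {p : ℕ} [Fact p.Prime] (hp : p ≠ 2) (P : Sylow p G) : (Cfsg.groupFusionSystem (P : Subgroup G)).IsSectionFree p ↥(Cfsg.qd p) ↔ ¬ Cfsg.Involves ↥(Cfsg.qd p) G := by
  constructor
  · intro hfree hinv
    obtain ⟨U, U₀, hUp, hU₀U, hUU₀, hnst⟩ := Cfsg.Agent.Lib.Helper90.QG.exists_not_stabH_of_involves hp hinv
    exact hnst (Cfsg.Agent.Lib.Helper90.QG.stabH_of_sectionFree hp P hfree U U₀ hUp hU₀U hUU₀)
  · intro hG Q hfn hcen N hN L _ ι hM hinv
    have hT : IsPGroup p ↥(Cfsg.FusionSystem.normalizerIn (P : Subgroup G) Q) :=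
      P.2.to_le (Cfsg.Agent.Lib.Helper87.normalizerIn_le _ _)
    obtain ⟨X, hX, π, ι', hπ, hM', -⟩ := Cfsg.Agent.Lib.Helper90.QG.exists_local_model P hfn hcen N hN
    have hconstr := Cfsg.Agent.S5103.result p hT N ι' hM'
    obtain ⟨φ, -⟩ := Cfsg.Agent.S5091.result p hT N hconstr ι' ι hM' hM
    apply hG
    have h1 : Cfsg.Involves ↥(Cfsg.qd p) X :=
      Cfsg.Agent.Lib.Helper90.Involves.of_injective_right φ.symm.toMonoidHom φ.symm.injective hinv
    have h2 : Cfsg.Involves ↥(Cfsg.qd p) ↥(Subgroup.normalizer (Q : Set G)) :=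
      Cfsg.Agent.Lib.Helper90.QM.involves_of_surjective π hπ h1
    exact Cfsg.Agent.Lib.Helper90.Involves.of_injective_right (Subgroup.normalizer (Q : Set G)).subtype
      (Subgroup.subtype_injective _) h2

end Cfsg.Agent.S5206
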