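import Cfsg.Statements.S5212
-- import your own Cfsg.Agent.* helpers here
import Cfsg.Agent.S5080
import Cfsg.Agent.S5082
import Cfsg.Agent.Lib.Helper89.Frobenius
import Cfsg.Agent.Lib.Helper89.ChainSylow
import Cfsg.Agent.Lib.Helper89.MetaTwo
import Cfsg.Agent.Lib.Helper89.MetaTwoGlue
import Cfsg.Agent.Lib.Helper42.Meta2
import Cfsg.Agent.Lib.Helper68.MetaActB
import Cfsg.Agent.Lib.Helper75.FrattiniFaithful
import Cfsg.Agent.Lib.Helper01.PCore
import Cfsg.Agent.Lib.Helper03.PGroupFrattini
import Cfsg.Agent.Lib.Helper90.FusionInner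
import Cfsg.Agent.Lib.Helper87.FusionBasic

set_option autoImplicit false
open Cfsg

namespace Cfsg.Agent.S5212

open Cfsg.Agent.Lib.Helper89 Cfsg.FusionSystem

/-- An essential subgroup has an automizer that is not a `p`-group. -/
theorem not_isPGroup_autGroup_of_isEssential {Ω : Type*} [Group Ω] {S : Subgroup Ω}
    (F : FusionSystem S) {p : ℕ} [Fact p.Prime] (P : Subgroup Ω) [Finite P]
    (hess : F.IsEssential p P) : ¬ IsPGroup p (F.autGroup P) := by
  intro hAp
  obtain ⟨-, -, hnorm, E, hE⟩ := hess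
  have : Finite (F.autGroup P) := inferInstance
  refine not_isStronglyPEmbedded_of_normal
    (⊤ : Subgroup (F.autGroup P ⧸ (Inn P).subgroupOf (F.autGroup P))) inferInstance
    ((hAp.to_quotient _).to_subgroup _) ?_ E hE
  rw [Subgroup.index_top]
  exact fun h => (Fact.out : p.Prime).one_lt.ne' (Nat.dvd_one.mp h)

/-- The contradiction from an essential subgroup of a metacyclic 2-group outside the small list. -/
theorem no_essential {Ω : Type*} [Group Ω] {S : Subgroup Ω} [Finite S] (hS : IsPGroup 2 S)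
    (F : Cfsg.FusionSystem S) (hF : F.IsSaturated 2) (hm : Cfsg.IsMetacyclic ↥S)
    (hd : ¬ ∃ m : ℕ, Nonempty (↥S ≃* DihedralGroup m))
    (hq : ¬ ∃ m : ℕ, Nonempty (↥S ≃* QuaternionGroup m)) (hsd : ¬ Cfsg.IsQuasiDihedral ↥S)
    (P : Subgroup Ω) (hPne : P ≠ S) (hess : F.IsEssential 2 P) : False := by
  have : Fact (Nat.Prime 2) := ⟨Nat.prime_two⟩
  have hPS : P ≤ S := hess.1.1
  have hfinP : Finite P :=
    Finite.of_injective (Subgroup.inclusion hPS) (Subgroup.inclusion_injective hPS)
  have hPp : IsPGroup 2 P := hS.to_le hPS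
  have hcentP : centralizerIn S P ≤ P :=
    hess.1.2 P (Cfsg.Agent.Lib.Helper87.isConj_refl F hPS)
  have hA1 : ¬ IsPGroup 2 (F.autGroup P) := not_isPGroup_autGroup_of_isEssential F P hess
  have hA : ¬ IsPGroup 2 (MulAut P) := fun h => hA1 (h.to_subgroup _)
  have hmP : Cfsg.IsMetacyclic ↥P := Cfsg.Agent.Lib.Helper68.MA.isMetacyclic_of_le hPS hm
  obtain ⟨N, hNn, hNc, hQc⟩ := hm
  -- the copy of `P` inside the type `S`
  obtain ⟨R, hRdef⟩ : ∃ R : Subgroup S, R = P.subgroupOf S := ⟨_, rfl⟩
  have hmemR : ∀ s : S, s ∈ R ↔ (s : Ω) ∈ P := fun s => by rw [hRdef]; exact Subgroup.mem_subgroupOf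
  let e0 : R ≃* P := (MulEquiv.subgroupCongr hRdef).trans (Subgroup.subgroupOfEquivOfLe hPS)
  have he0 : ∀ r : R, ((e0 r : P) : Ω) = ((r : S) : Ω) := fun r => rfl
  have hconcl : ((∃ m : ℕ, Nonempty (↥S ≃* DihedralGroup m)) ∨
      (∃ m : ℕ, Nonempty (↥S ≃* QuaternionGroup m)) ∨ Cfsg.IsQuasiDihedral ↥S) → False := by
    rintro (h | h | h)
    · exact hd h
    · exact hq h
    · exact hsd h
  have hcentR : Subgroup.centralizer (R : Set S) ≤ R := by
    intro s hs
    rw [hmemR]
    apply hcentP
    refine ⟨s.2, ?_⟩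
    show (s : Ω) ∈ Subgroup.centralizer (P : Set Ω)
    rw [Subgroup.mem_centralizer_iff]
    intro x hx
    have := Subgroup.mem_centralizer_iff.mp hs ⟨x, hPS hx⟩ ((hmemR _).mpr hx)
    exact congrArg Subtype.val this
  have hRne : R ≠ ⊤ := by
    intro h
    apply hPne
    apply le_antisymm hPS
    intro x hx
    have : (⟨x, hx⟩ : S) ∈ R := h ▸ Subgroup.mem_top _
    exact (hmemR _).mp this
  rcases Cfsg.Agent.Lib.Helper42.Meta2.main hPp hmP hA with ⟨⟨e⟩⟩ | ⟨n, ⟨e⟩⟩
  · exact hconcl (quat_case hS N hQc R (e0.trans e))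
  · -- homocyclic of rank two
    have hcomm : ∀ a b : P, a * b = b * a := by
      intro a b
      apply e.injective
      rw [map_mul, map_mul, mul_comm]
    have hcardP : Nat.card P = 2 ^ n * 2 ^ n := by
      rw [Nat.card_congr e.toEquiv, Nat.card_prod, Nat.card_congr Multiplicative.toAdd,
        Nat.card_zmod]
    have hsq1 : ∀ a : Multiplicative (ZMod (2 ^ n)) × Multiplicative (ZMod (2 ^ n)),
        a * a = 1 ↔ (Multiplicative.toAdd a.1 + Multiplicative.toAdd a.1 = 0 ∧
          Multiplicative.toAdd a.2 + Multiplicative.toAdd a.2 = 0) := by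
      intro a
      rw [Prod.ext_iff]
      exact Iff.rfl
    rcases Nat.lt_or_ge n 2 with hn2 | hn2
    · rcases Nat.eq_zero_or_pos n with hn0 | hnpos
      · -- trivial `P`
        exfalso
        apply hA
        have hc1 : Nat.card P = 1 := by rw [hcardP, hn0]; norm_num
        have : Subsingleton P := (Nat.card_eq_one_iff_unique.mp hc1).1
        intro α
        refine ⟨0, ?_⟩
        rw [pow_zero, pow_one]
        ext x
        exact congrArg Subtype.val (Subsingleton.elim _ _)
      · -- `n = 1`: a four-group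
        have hn1 : n = 1 := by omega
        have hexpP : ∀ a : P, a * a = 1 := by
          intro a
          apply e.injective
          rw [map_mul, map_one, hsq1]
          exact ⟨zmod_two_pow_add_self hn1 _, zmod_two_pow_add_self hn1 _⟩
        have hR4 : Nat.card R = 4 := by
          rw [Nat.card_congr e0.toEquiv, hcardP, hn1]; norm_num
        have hexpR : ∀ r ∈ R, r * r = 1 := by
          intro r hr
          have h := congrArg Subtype.val (hexpP ⟨(r : Ω), (hmemR r).mp hr⟩)
          apply Subtype.ext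
          show ((r : S) : Ω) * ((r : S) : Ω) = 1
          exact h
        exact hconcl (four_case hS N hQc R hR4 hexpR hcentR hRne)
    · -- `n ≥ 2`
      have hF1P : ∀ a : P, a * a = 1 → ∃ s : P, s * s = a := by
        intro a ha
        have h1 : e a * e a = 1 := by rw [← map_mul, ha, map_one]
        obtain ⟨h2, h3⟩ := (hsq1 _).mp h1
        obtain ⟨c1, hc1⟩ := zmod_two_pow_exists_half hn2 _ h2
        obtain ⟨c2, hc2⟩ := zmod_two_pow_exists_half hn2 _ h3
        refine ⟨e.symm (Multiplicative.ofAdd c1, Multiplicative.ofAdd c2), ?_⟩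
        apply e.injective
        rw [map_mul, MulEquiv.apply_symm_apply]
        apply Prod.ext
        · exact congrArg Multiplicative.ofAdd hc1
        · exact congrArg Multiplicative.ofAdd hc2
      obtain ⟨t, htN, htP, htt⟩ := exists_normalizer_sq_mem hS hPS hPne
      have htS : t ∈ S := htN.1
      have htnorm : t ∈ Subgroup.normalizer (P : Set Ω) := htN.2
      have hrad := Cfsg.Agent.S5080.result 2 hS F hF P hess
      have hInn : Inn P = ⊥ := by
        rw [eq_bot_iff]
        rintro _ ⟨g, rfl⟩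
        rw [Subgroup.mem_bot]
        ext x
        have := hcomm g x
        simp only [MulAut.conj_apply, MulAut.one_apply]
        rw [this, mul_assoc, mul_inv_cancel, mul_one]
      have hA2 : ∀ K : Subgroup (F.autGroup P), K.Normal → IsPGroup 2 K → K = ⊥ := by
        intro K hK hKp
        have h1 : K ≤ pCore 2 (F.autGroup P) := Cfsg.Agent.Lib.Helper01.le_pCore hK hKp
        have h2 : K.map (F.autGroup P).subtype ≤ ⊥ := by
          rw [← hInn, ← hrad.2]
          exact Subgroup.map_mono h1
        rw [le_bot_iff] at h2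
        exact (Subgroup.map_eq_bot_iff_of_injective K (Subgroup.subtype_injective _)).mp h2
      obtain ⟨α, hαdef⟩ : ∃ α : MulAut P, α = conjAut P t htnorm := ⟨_, rfl⟩
      have hαapp : ∀ x : P, ((α x : P) : Ω) = t * (x : Ω) * t⁻¹ := by
        intro x; rw [hαdef]; rfl
      have hαF : α ∈ F.autGroup P :=
        hαdef ▸ autInducedBy_le_autGroup F hPS (conjAut_mem_autInducedBy htS htnorm)
      have hα1 : α ≠ 1 := by
        intro h
        apply htP
        apply hcentP
        refine ⟨htS, ?_⟩
        show t ∈ Subgroup.centralizer (P : Set Ω)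
        rw [Subgroup.mem_centralizer_iff]
        intro x hx
        have h1 := hαapp ⟨x, hx⟩
        rw [h, MulAut.one_apply] at h1
        calc x * t = (t * x * t⁻¹) * t := by rw [← h1]
          _ = t * x := by group
      have hker : α ∉ (Cfsg.Agent.S4208.rho P).ker := by
        intro hk
        have hKn : ((Cfsg.Agent.S4208.rho P).ker.subgroupOf (F.autGroup P)).Normal :=
          Subgroup.Normal.subgroupOf inferInstance _
        have hKp : IsPGroup 2 ((Cfsg.Agent.S4208.rho P).ker.subgroupOf (F.autGroup P)) :=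
          (Cfsg.Agent.Lib.Helper75.isPGroup_ker_rho hPp).comap_subtype
        have hK := hA2 _ hKn hKp
        have hmem : (⟨α, hαF⟩ : F.autGroup P) ∈
            (Cfsg.Agent.S4208.rho P).ker.subgroupOf (F.autGroup P) :=
          Subgroup.mem_subgroupOf.mpr hk
        rw [hK, Subgroup.mem_bot] at hmem
        exact hα1 (congrArg Subtype.val hmem)
      have hex : ∃ x : P, α x / x ∉ frattini P := by
        by_contra hno
        apply hker
        rw [MonoidHom.mem_ker]
        ext q
        obtain ⟨x, rfl⟩ := QuotientGroup.mk_surjective q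
        rw [Cfsg.Agent.S4208.rho_apply_mk, MulAut.one_apply]
        have : α x / x ∈ frattini P := by
          by_contra h
          exact hno ⟨x, h⟩
        exact QuotientGroup.eq_iff_div_mem.mpr this
      obtain ⟨x, hx⟩ := hex
      refine no_homocyclic hS N hQc R ?_ ?_ (((frattini P).map P.subtype).subgroupOf S) ?_
        ⟨t, htS⟩ ?_ ?_ ?_
      · intro a ha b hb
        have h := congrArg Subtype.val
          (hcomm ⟨(a : Ω), (hmemR a).mp ha⟩ ⟨(b : Ω), (hmemR b).mp hb⟩)
        apply Subtype.ext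
        show ((a : S) : Ω) * ((b : S) : Ω) = ((b : S) : Ω) * ((a : S) : Ω)
        exact h
      · intro r hr hrr
        have hrr' : ((r : S) : Ω) * ((r : S) : Ω) = 1 := congrArg Subtype.val hrr
        obtain ⟨s, hs⟩ := hF1P ⟨(r : Ω), (hmemR r).mp hr⟩ (Subtype.ext hrr')
        refine ⟨⟨(s : Ω), hPS s.2⟩, (hmemR _).mpr s.2, ?_⟩
        have h := congrArg Subtype.val hs
        apply Subtype.ext
        show ((s : P) : Ω) * ((s : P) : Ω) = ((r : S) : Ω)
        exact h
      · intro s hs
        rw [Subgroup.mem_subgroupOf, Subgroup.mem_map]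
        refine ⟨(⟨(s : Ω), (hmemR s).mp hs⟩ : P) ^ 2,
          Cfsg.Agent.Lib.Helper03.pow_mem_frattini_of_isPGroup hPp _, ?_⟩
        rw [pow_two]
        rfl
      · intro r hr
        rw [hmemR]
        exact (Subgroup.mem_normalizer_iff.mp htnorm (r : Ω)).mp ((hmemR r).mp hr)
      · rw [hmemR]
        exact htt
      · refine ⟨⟨(x : Ω), hPS x.2⟩, (hmemR _).mpr x.2, ?_⟩
        intro hmem
        rw [Subgroup.mem_subgroupOf, Subgroup.mem_map] at hmem
        obtain ⟨f, hf, hfe⟩ := hmem
        apply hx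
        have : f = α x / x := by
          apply Subtype.ext
          rw [div_eq_mul_inv, Subgroup.coe_mul, Subgroup.coe_inv, hαapp]
          exact hfe
        rw [← this]
        exact hf

/-- Let S be a finite metacyclic 2-group that is not homocyclic abelian (a direct product of cyclic groups of one common order), not dihedral, not semidihedral and not generalized quaternion. Then every saturated fusion system over S is the inner fusion system of S. -/
theorem result {Ω : Type*} [Group Ω] {S : Subgroup Ω} [Finite S] (hS : IsPGroup 2 S) (F : Cfsg.FusionSystem S) (hF : F.IsSaturated 2) (hm : Cfsg.IsMetacyclic ↥S) (hh : ¬ ∃ n k : ℕ, Nonempty (↥S ≃* Multiplicative (Fin k → ZMod (2 ^ n)))) (hd : ¬ ∃ m : ℕ, Nonempty (↥S ≃* DihedralGroup m)) (hq : ¬ ∃ m : ℕ, Nonempty (↥S ≃* QuaternionGroup m)) (hsd : ¬ Cfsg.IsQuasiDihedral ↥S) : ∀ P : Subgroup Ω, F.Hom P = (Cfsg.innerFusionSystem S).Hom P := by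
  have : Fact (Nat.Prime 2) := ⟨Nat.prime_two⟩
  have key : F ≤ Cfsg.innerFusionSystem S := by
    apply Cfsg.Agent.S5082.result 2 hS F hF
    intro P hP
    by_cases hPS : P = S
    · rw [hPS]
      have hAut : IsPGroup 2 (MulAut S) := by
        by_contra hA
        rcases Cfsg.Agent.Lib.Helper42.Meta2.main hS hm hA with ⟨⟨e⟩⟩ | ⟨n, ⟨e⟩⟩
        · exact hq ⟨2, ⟨e⟩⟩
        · exact hh ⟨n, 2, ⟨e.trans (prodFinTwo (ZMod (2 ^ n)))⟩⟩
      obtain ⟨Q, ⟨φ, hφ, hφQ⟩, hQaut, -⟩ := hF S le_rfl
      have hQS : Q ≤ S := by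
        rw [← hφQ]
        rintro _ ⟨x, rfl⟩
        exact (F.le_of_mem hφ).2 x
      have hQeq : Q = S := by
        apply Subgroup.eq_of_le_of_card_ge hQS
        rw [← hφQ]
        exact (Nat.card_congr (MonoidHom.ofInjective (F.injective_of_mem hφ)).toEquiv).le
      rw [hQeq] at hQaut
      obtain ⟨-, T, hT⟩ := hQaut
      have hA : IsPGroup 2 (F.autGroup S) := hAut.to_subgroup _
      have htop : IsPGroup 2 (⊤ : Subgroup (F.autGroup S)) := hA.to_subgroup _
      have hTtop : (⊤ : Subgroup (F.autGroup S)) = T := T.is_maximal' htop le_top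
      intro α hα
      have h1 : (⟨α, hα⟩ : F.autGroup S) ∈ (T : Subgroup (F.autGroup S)) := by
        rw [← hTtop]; exact Subgroup.mem_top _
      rw [hT, Subgroup.mem_subgroupOf] at h1
      rw [Cfsg.Agent.Lib.Helper90.autGroup_inner_eq le_rfl]
      exact h1
    · exact (no_essential hS F hF hm hd hq hsd P hPS (hP.resolve_left hPS)).elim
  intro P
  exact Set.Subset.antisymm (key P) (inner_le F P)

end Cfsg.Agent.S5212
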