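import Cfsg.Statements.S5222
import Cfsg.Agent.Lib.Helper90.TateAut
import Cfsg.Agent.Lib.Helper90.FusionExt
import Cfsg.Agent.Lib.Helper87.FusionNormalizer
import Cfsg.Agent.Lib.Helper87.FusionSaturated
import Cfsg.Agent.Lib.Helper89.FusionAut
import Cfsg.Agent.Lib.Helper89.FusionConj

set_option autoImplicit false
open Cfsg

namespace Cfsg.Agent.S5222

open Cfsg.FusionSystem
open Cfsg.Agent.Lib.Helper87 (hom_le hom_mem hom_congr restrict_mem finite_of_le card_le_of_le
  normalizerIn_le mem_normalizerIn le_normalizerIn mem_extender_iff le_extender extender_le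
  centralizerIn_le_extender normalizerSystem normalizerSystem_isNormalizerSystem
  fullyNormalized_props isReceptive_of_isFullyCentralized exists_normalizer_hom finite_autGroup)
open Cfsg.Agent.Lib.Helper90 (mem_autGroup_iff mem_autInducedBy_iff autInducedBy_le_autGroup
  range_eq_of_forall_mem range_eq_top_hom aut_le_autInducedBy)
open scoped commutatorElement

variable {Ω : Type*} [Group Ω] {S : Subgroup Ω}

/-- The automorphisms of `R` stabilizing `Q` (as a set). -/
def stabSub (Q R : Subgroup Ω) : Subgroup (MulAut R) where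
  carrier := {α | ∀ x : R, (x : Ω) ∈ Q ↔ ((α x : R) : Ω) ∈ Q}
  one_mem' := fun _ => Iff.rfl
  mul_mem' := fun {a b} ha hb x => (hb x).trans (ha (b x))
  inv_mem' := fun {a} ha x => by
    have := ha (a⁻¹ x)
    rw [MulAut.apply_inv_self] at this
    exact this.symm

/-- `Aut_F(S) = Inn(S)` from the hypothesis on `N_F(S)`. -/
theorem aut_top_inner [Finite S] (F : Cfsg.FusionSystem S)
    (hN : ∀ N : Cfsg.FusionSystem (Cfsg.FusionSystem.normalizerIn S S), F.IsNormalizerSystem S N →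
      ∀ P : Subgroup Ω, N.Hom P = (Cfsg.innerFusionSystem (Cfsg.FusionSystem.normalizerIn S S)).Hom P) :
    ∀ φ ∈ F.Hom S, ∃ g ∈ S, ∀ x : S, φ x = g * x * g⁻¹ := by
  intro φ hφ
  have hNN := normalizerSystem_isNormalizerSystem F S le_rfl
  have h := hN (normalizerSystem F S le_rfl) hNN S
  have hmem : φ ∈ (normalizerSystem F S le_rfl).Hom S := by
    rw [hNN S]
    have hle : S ⊔ S ≤ S := sup_le le_rfl le_rfl
    refine ⟨hφ, le_normalizerIn le_rfl, fun x => le_normalizerIn le_rfl (hom_mem F hφ x),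
      φ.comp (Subgroup.inclusion hle), restrict_mem F hle hφ, fun x => rfl, ?_⟩
    ext y
    constructor
    · rintro ⟨x, _, rfl⟩
      exact hom_mem F hφ _
    · intro hy
      have : y ∈ φ.range := by rw [range_eq_top_hom F hφ]; exact hy
      obtain ⟨x, rfl⟩ := this
      exact ⟨Subgroup.inclusion le_sup_left x, Subgroup.mem_subgroupOf.mpr x.2, rfl⟩
  rw [h] at hmem
  obtain ⟨_, g, hg, hgφ⟩ := hmem
  exact ⟨g, normalizerIn_le S S hg, hgφ⟩

/-- Subgroups containing the derived subgroup are normal. -/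
theorem conj_mem_of_commutator_le {Q R : Subgroup Ω} (h1 : (commutator ↥S).map S.subtype ≤ Q)
    (hQR : Q ≤ R) (hRS : R ≤ S) {g x : Ω} (hg : g ∈ S) (hx : x ∈ R) : g * x * g⁻¹ ∈ R := by
  have hc : g * x * g⁻¹ * x⁻¹ ∈ Q := by
    apply h1
    refine ⟨⁅(⟨g, hg⟩ : S), ⟨x, hRS hx⟩⁆,
      Subgroup.commutator_mem_commutator (Subgroup.mem_top _) (Subgroup.mem_top _), ?_⟩
    rw [commutatorElement_def]
    rfl
  have := R.mul_mem (hQR hc) hx
  simpa using this

theorem le_normalizer_of_commutator_le {Q R : Subgroup Ω} (h1 : (commutator ↥S).map S.subtype ≤ Q)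
    (hQR : Q ≤ R) (hRS : R ≤ S) : S ≤ Subgroup.normalizer (R : Set Ω) := by
  intro g hg
  rw [Subgroup.mem_normalizer_iff]
  intro x
  constructor
  · exact fun hx => conj_mem_of_commutator_le h1 hQR hRS hg hx
  · intro hx
    have := conj_mem_of_commutator_le h1 hQR hRS (S.inv_mem hg) hx
    have e : g⁻¹ * (g * x * g⁻¹) * g⁻¹⁻¹ = x := by group
    rwa [e] at this

theorem main_claim [Finite S] (p : ℕ) [Fact p.Prime] (hS : IsPGroup p S) (F : Cfsg.FusionSystem S)
    (hF : F.IsSaturated p)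
    (hinn : ∀ φ ∈ F.Hom S, ∃ g ∈ S, ∀ x : S, φ x = g * x * g⁻¹)
    (Q : Subgroup Ω) (h1 : (commutator ↥S).map S.subtype ≤ Q) (h2 : Q ≤ (frattini ↥S).map S.subtype) :
    ∀ (n : ℕ) (R : Subgroup Ω), Q ≤ R → R ≤ S → Nat.card S - Nat.card R = n →
      ∀ ψ ∈ F.Hom R, (Q.subgroupOf R).map ψ = Q → ∃ g ∈ S, ∀ x : R, ψ x = g * x * g⁻¹ := by
  intro n
  induction n using Nat.strong_induction_on with
  | _ n ih =>
  intro R hQR hRS hn ψ hψ hmap
  have hQS : Q ≤ S := hQR.trans hRS
  -- the case R = S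
  by_cases hRtop : S ≤ R
  · obtain ⟨g, hg, hgψ⟩ := hinn _ (restrict_mem F hRtop hψ)
    exact ⟨g, hg, fun x => hgψ ⟨x, hRS x.2⟩⟩
  have hlt : ∃ g ∈ S, g ∉ R := by
    by_contra h
    push_neg at h
    exact hRtop h
  have hRfin : Finite R := finite_of_le hRS
  -- ψ stabilizes Q
  have hψQ : ∀ x : R, (x : Ω) ∈ Q ↔ ψ x ∈ Q := by
    intro x
    constructor
    · intro hx
      rw [← hmap]
      exact ⟨x, Subgroup.mem_subgroupOf.mpr hx, rfl⟩
    · intro hx
      rw [← hmap] at hx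
      obtain ⟨x', hx', hxx'⟩ := hx
      have := F.injective_of_mem hψ hxx'
      rw [← this]
      exact Subgroup.mem_subgroupOf.mp hx'
  -- normality
  have hSNR : S ≤ Subgroup.normalizer (R : Set Ω) := le_normalizer_of_commutator_le h1 hQR hRS
  have hNR : normalizerIn S R = S := le_antisymm (normalizerIn_le S R) (fun g hg => ⟨hg, hSNR hg⟩)
  set R₁ : Subgroup Ω := ψ.range with hR₁
  have hR₁S : R₁ ≤ S := by rintro _ ⟨x, rfl⟩; exact hom_mem F hψ x
  have hQR₁ : Q ≤ R₁ := by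
    intro y hy
    rw [← hmap] at hy
    obtain ⟨x, _, rfl⟩ := hy
    exact ⟨x, rfl⟩
  have hSNR₁ : S ≤ Subgroup.normalizer (R₁ : Set Ω) := le_normalizer_of_commutator_le h1 hQR₁ hR₁S
  have hNR₁ : normalizerIn S R₁ = S :=
    le_antisymm (normalizerIn_le S R₁) (fun g hg => ⟨hg, hSNR₁ hg⟩)
  have hfn : F.IsFullyNormalized R₁ := by
    refine ⟨hR₁S, fun Q' _ => ?_⟩
    rw [hNR₁]
    exact card_le_of_le (normalizerIn_le S Q')
  have props := fullyNormalized_props p hS F hF R₁ hfn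
  have hrec := isReceptive_of_isFullyCentralized p hS F hF R₁ props.1
  have hconj : F.IsConj R R₁ := ⟨ψ, hψ, rfl⟩
  -- ψ(R) = R
  have hR₁R : R₁ ≤ R := by
    obtain ⟨χ, hχ, -, hχmap, -⟩ := exists_normalizer_hom p hS F R₁ R props.2 hrec hconj
    have hle : S ≤ normalizerIn S R := fun g hg => ⟨hg, hSNR hg⟩
    obtain ⟨h, hh, hhχ⟩ := hinn _ (restrict_mem F hle hχ)
    intro y hy
    rw [← hχmap] at hy
    obtain ⟨x, hx, rfl⟩ := hy
    have hxR : (x : Ω) ∈ R := Subgroup.mem_subgroupOf.mp hx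
    have e : χ x = h * (x : Ω) * h⁻¹ := hhχ ⟨x, normalizerIn_le S R x.2⟩
    rw [e]
    exact conj_mem_of_commutator_le h1 hQR hRS hh hxR
  have hrange : ψ.range = R := range_eq_of_forall_mem F hψ (fun x => hR₁R ⟨x, rfl⟩)
  obtain ⟨α, hαF, hαψ⟩ := Cfsg.Agent.Lib.Helper89.exists_aut_of_range_eq F hψ hrange
  -- it suffices that α is induced by S
  suffices hα : α ∈ autInducedBy S R by
    obtain ⟨g, hg, hgα⟩ := (mem_autInducedBy_iff α).mp hα
    exact ⟨g, hg, fun x => (hαψ x).symm.trans (hgα x)⟩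
  rw [hR₁, hrange] at props hrec
  -- the group A
  set A : Subgroup (MulAut R) := F.autGroup R ⊓ stabSub Q R with hA
  have hαA : α ∈ A := ⟨hαF, fun x => by rw [hαψ]; exact hψQ x⟩
  by_cases hAT : A ≤ autInducedBy S R
  · exact hAT hαA
  -- key lemma on extenders
  have hX : ∀ β ∈ A, β ∉ autInducedBy S R →
      ∀ g ∈ extender S R (R.subtype.comp β.toMonoidHom), g ∈ R := by
    intro β hβ hβT g hgE
    by_contra hgR
    apply hβT
    set φβ : R →* Ω := R.subtype.comp β.toMonoidHom with hφβ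
    have hφβF : φβ ∈ F.Hom R := (mem_autGroup_iff F hRS β).mp hβ.1
    have hrng : φβ.range = R := range_eq_of_forall_mem F hφβF (fun x => (β x).2)
    set E : Subgroup Ω := extender S R φβ with hE
    obtain ⟨βb, hβb, hβbe⟩ := hrec.2 R φβ hφβF hrng
    have hRE : R ≤ E := le_extender hRS (fun x => hRS (β x).2)
    have hES : E ≤ S := (extender_le S R φβ).trans (normalizerIn_le S R)
    have hEfin : Finite E := finite_of_le hES
    have hcard : Nat.card R < Nat.card E :=
      Cfsg.Agent.Lib.Helper89.card_lt_of_mem_not_mem hRE hgE hgR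
    have hcardE : Nat.card E ≤ Nat.card S := card_le_of_le hES
    have hmapE : (Q.subgroupOf E).map βb = Q := by
      ext y
      constructor
      · rintro ⟨x, hx, rfl⟩
        have hxQ : (x : Ω) ∈ Q := Subgroup.mem_subgroupOf.mp hx
        rw [hβbe x (hQR hxQ) x.2]
        exact (hβ.2 ⟨x, hQR hxQ⟩).mp hxQ
      · intro hy
        set x : R := β⁻¹ ⟨y, hQR hy⟩ with hx
        have hxQ : (x : Ω) ∈ Q := by
          have := (hβ.2 x)
          rw [hx, MulAut.apply_inv_self] at this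
          exact this.mpr hy
        refine ⟨⟨x, hRE x.2⟩, Subgroup.mem_subgroupOf.mpr hxQ, ?_⟩
        rw [hβbe x x.2 (hRE x.2)]
        show ((β x : R) : Ω) = y
        rw [hx, MulAut.apply_inv_self]
    obtain ⟨h, hh, hhβ⟩ := ih (Nat.card S - Nat.card E) (by omega) E (hQR.trans hRE) hES rfl βb hβb hmapE
    rw [mem_autInducedBy_iff]
    refine ⟨h, hh, fun x => ?_⟩
    have := hhβ ⟨x, hRE x.2⟩
    rw [hβbe x x.2 (hRE x.2)] at this
    exact this
  obtain ⟨α₁, hα₁A, hα₁T⟩ := SetLike.not_le_iff_exists.mp hAT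
  -- hypotheses of the core theorem
  have hcent : centralizerIn S R ≤ R := fun g hg =>
    hX α₁ hα₁A hα₁T g (centralizerIn_le_extender S R _ hg)
  have hTA : autInducedBy S R ≤ A := by
    refine le_inf (autInducedBy_le_autGroup F hRS) ?_
    intro t ht x
    obtain ⟨g, hg, hgt⟩ := (mem_autInducedBy_iff t).mp ht
    rw [hgt]
    constructor
    · exact fun hx => conj_mem_of_commutator_le h1 le_rfl hQS hg hx
    · intro hx
      have := conj_mem_of_commutator_le h1 le_rfl hQS (S.inv_mem hg) hx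
      have e : g⁻¹ * (g * (x : Ω) * g⁻¹) * g⁻¹⁻¹ = x := by group
      rwa [e] at this
  have hidx : ¬ p ∣ (autInducedBy S R).relIndex A := by
    obtain ⟨_, R₀, hR₀⟩ := props.2
    haveI : Finite (F.autGroup R) := finite_autGroup F hRS
    have h3 : ¬ p ∣ (R₀ : Subgroup (F.autGroup R)).index := Sylow.not_dvd_index R₀
    rw [hR₀] at h3
    have h4 : (autInducedBy S R).relIndex A * A.relIndex (F.autGroup R)
        = (autInducedBy S R).relIndex (F.autGroup R) :=
      Subgroup.relIndex_mul_relIndex _ _ _ hTA inf_le_left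
    intro hdvd
    apply h3
    show p ∣ (autInducedBy S R).relIndex (F.autGroup R)
    rw [← h4]
    exact Dvd.dvd.mul_right hdvd _
  have hAQ : ∀ β ∈ A, ∀ x : R, (x : Ω) ∈ Q → ((β x : R) : Ω) ∈ Q := fun β hβ x hx => (hβ.2 x).mp hx
  have hTI : ∀ β ∈ A, β ∉ autInducedBy S R → ∀ t ∈ autInducedBy S R,
      β * t * β⁻¹ ∈ autInducedBy S R → t ∈ Cfsg.Inn R := by
    intro β hβ hβT t ht hconjT
    obtain ⟨g, hg, hgt⟩ := (mem_autInducedBy_iff t).mp ht
    obtain ⟨h, hh, hht⟩ := (mem_autInducedBy_iff _).mp hconjT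
    have hgE : g ∈ extender S R (R.subtype.comp β.toMonoidHom) := by
      rw [mem_extender_iff]
      refine ⟨hg, hSNR hg, h, hh, fun x hx => ?_⟩
      have e1 : (⟨g * (x : Ω) * g⁻¹, hx⟩ : R) = t x := Subtype.ext (hgt x).symm
      rw [e1]
      have e2 := hht (β x)
      have e3 : (β * t * β⁻¹) (β x) = β (t x) := by
        show β (t (β⁻¹ (β x))) = β (t x)
        rw [MulAut.inv_apply_self]
      rw [e3] at e2
      exact e2
    have hgR : g ∈ R := hX β hβ hβT g hgE
    refine ⟨⟨g, hgR⟩, MulEquiv.ext (fun x => Subtype.ext ?_)⟩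
    rw [hgt]
    rfl
  exact aut_le_autInducedBy hS hQR hRS hSNR h1 h2 hlt hcent A hTA hidx hAQ hTI hαA

/-- Let F be a saturated fusion system over a finite p-group S whose normalizer fusion system of S is the inner fusion system of S (Aut_F(S) is a p-group). Then for every subgroup Q of S with [S, S] ≤ Q ≤ Φ(S), the normalizer fusion system of Q in F is the inner fusion system of N_S(Q) = S. -/
theorem result {Ω : Type*} [Group Ω] {S : Subgroup Ω} [Finite S] (p : ℕ) [Fact p.Prime] (hS : IsPGroup p S) (F : Cfsg.FusionSystem S) (hF : F.IsSaturated p) (hN : ∀ N : Cfsg.FusionSystem (Cfsg.FusionSystem.normalizerIn S S), F.IsNormalizerSystem S N → ∀ P : Subgroup Ω, N.Hom P = (Cfsg.innerFusionSystem (Cfsg.FusionSystem.normalizerIn S S)).Hom P) (Q : Subgroup Ω) (h1 : (commutator ↥S).map S.subtype ≤ Q) (h2 : Q ≤ (frattini ↥S).map S.subtype) : ∀ N : Cfsg.FusionSystem (Cfsg.FusionSystem.normalizerIn S Q), F.IsNormalizerSystem Q N → ∀ P : Subgroup Ω, N.Hom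 P = (Cfsg.innerFusionSystem (Cfsg.FusionSystem.normalizerIn S Q)).Hom P := by
  intro N hNQ P
  have hinn := aut_top_inner F hN
  have hQS : Q ≤ S := h2.trans (Subgroup.map_subtype_le _)
  have hNSQ : normalizerIn S Q = S :=
    le_antisymm (normalizerIn_le S Q)
      (fun g hg => ⟨hg, le_normalizer_of_commutator_le h1 le_rfl hQS hg⟩)
  have hSle : S ≤ normalizerIn S Q :=
    fun g hg => ⟨hg, le_normalizer_of_commutator_le h1 le_rfl hQS hg⟩
  ext φ
  rw [hNQ P]
  constructor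
  · rintro ⟨hφ, hPle, -, ψ, hψ, hres, hmap⟩
    have hRS : P ⊔ Q ≤ S := hom_le F hψ
    obtain ⟨g, hg, hgψ⟩ := main_claim p hS F hF hinn Q h1 h2 _ (P ⊔ Q) le_sup_right hRS rfl ψ hψ hmap
    refine ⟨hPle, g, hSle hg, fun x => ?_⟩
    rw [← hres x, hgψ]
    rfl
  · rintro ⟨hPle, g, hg, hgφ⟩
    have hgS : g ∈ S := normalizerIn_le S Q hg
    have hPS : P ≤ S := hPle.trans (normalizerIn_le S Q)
    have hφF : φ ∈ F.Hom P := hom_congr F (F.conj_mem hPS hgS) (fun x => hgφ x)
    refine ⟨hφF, hPle, fun x => hSle (hom_mem F hφF x), Cfsg.conjHom (P ⊔ Q) g,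
      F.conj_mem (sup_le hPS hQS) hgS, fun x => (hgφ x).symm, ?_⟩
    ext y
    constructor
    · rintro ⟨x, hx, rfl⟩
      exact conj_mem_of_commutator_le h1 le_rfl hQS hgS (Subgroup.mem_subgroupOf.mp hx)
    · intro hy
      have hy' : g⁻¹ * y * g⁻¹⁻¹ ∈ Q := conj_mem_of_commutator_le h1 le_rfl hQS (S.inv_mem hgS) hy
      refine ⟨⟨g⁻¹ * y * g⁻¹⁻¹, (le_sup_right : Q ≤ P ⊔ Q) hy'⟩, Subgroup.mem_subgroupOf.mpr hy', ?_⟩
      show g * (g⁻¹ * y * g⁻¹⁻¹) * g⁻¹ = y
      group

end Cfsg.Agent.S5222
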