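import Cfsg.Statements.S5223
-- import your own Cfsg.Agent.* helpers here
import Cfsg.Agent.S5083
import Cfsg.Agent.Lib.Helper89.Coprime
import Cfsg.Agent.Lib.Helper89.FusionAut

set_option autoImplicit false
open Cfsg

namespace Cfsg.Agent.S5223

open Cfsg.FusionSystem Cfsg.Agent.Lib in
/-- Let F be a saturated fusion system over a finite p-group S. Suppose there are subgroups Q₀ = S, Q₁, …, Qₙ = 1 (not required to be nested) such that for each i < n the focal subgroup of Qᵢ (generated by the elements x⁻¹φ(x), x ∈ Qᵢ, φ a map of F defined on the cyclic group generated by x) lies in Qᵢ₊₁. Then F is the inner fusion system of S. -/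
theorem result {Ω : Type*} [Group Ω] {S : Subgroup Ω} [Finite S] (p : ℕ) [Fact p.Prime] (hS : IsPGroup p S) (F : Cfsg.FusionSystem S) (hF : F.IsSaturated p) (n : ℕ) (Q : Fin (n + 1) → Subgroup Ω) (hQ0 : Q 0 = S) (hQn : Q (Fin.last n) = ⊥) (hstep : ∀ i : Fin n, Subgroup.closure {y : Ω | ∃ x ∈ Q i.castSucc, ∃ φ ∈ F.Hom (Subgroup.zpowers x), y = x⁻¹ * φ ⟨x, Subgroup.mem_zpowers x⟩} ≤ Q i.succ) : ∀ P : Subgroup Ω, F.Hom P = (Cfsg.innerFusionSystem S).Hom P := by
  have key : ∀ P : Subgroup Ω, P ≤ S → IsPGroup p (F.autGroup P) := by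
    intro P hP
    have : Finite P := Helper87.finite_of_le hP
    have : Finite (MulAut P) := inferInstance
    apply Helper89.isPGroup_of_coprime_trivial
    rintro ⟨α, hα⟩ hco
    have hαF := (Helper89.mem_autGroup_iff F hP α).mp hα
    have hPp : IsPGroup p P := hS.to_le hP
    have hord : orderOf (⟨α, hα⟩ : F.autGroup P) = orderOf α := Subgroup.orderOf_mk α hα
    rw [hord] at hco
    have hchain : ∀ (j : ℕ) (hj : j ≤ n) (x : P),
        ((((fun y : P => y⁻¹ * α y)^[j] x : P)) : Ω) ∈ Q ⟨j, Nat.lt_succ_of_le hj⟩ := by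
      intro j
      induction j with
      | zero =>
        intro hj x
        have : Q ⟨0, Nat.lt_succ_of_le hj⟩ = S := hQ0
        rw [this]
        exact hP x.2
      | succ j ih =>
        intro hj x
        have hj' : j < n := hj
        have hw := ih hj'.le x
        rw [Function.iterate_succ_apply']
        set w := (fun y : P => y⁻¹ * α y)^[j] x with hwdef
        have hle : Subgroup.zpowers (w : Ω) ≤ P := by
          rw [Subgroup.zpowers_le]; exact w.2
        have hφ := Helper87.restrict_mem F hle hαF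
        have hmem := hstep ⟨j, hj'⟩
        apply hmem
        apply Subgroup.subset_closure
        refine ⟨(w : Ω), hw, _, hφ, ?_⟩
        rfl
    have hlast : ∀ x : P, (fun y : P => y⁻¹ * α y)^[n] x = 1 := by
      intro x
      have h1 := hchain n le_rfl x
      have h2 : Q ⟨n, Nat.lt_succ_of_le le_rfl⟩ = ⊥ := hQn
      rw [h2, Subgroup.mem_bot] at h1
      exact Subtype.ext h1
    have h1 := Helper89.eq_one_of_iterate_comm hPp α (orderOf α) hco (pow_orderOf_eq_one α) n hlast
    exact Subtype.ext h1
  have hFi := Cfsg.Agent.S5083.result p hS F hF key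
  intro P
  rw [← hFi]

end Cfsg.Agent.S5223
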