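import Cfsg.Statements.S5226
-- import your own Cfsg.Agent.* helpers here
import Cfsg.Agent.S5086
import Cfsg.Agent.Lib.Helper89.ChainNormal

set_option autoImplicit false
open Cfsg

namespace Cfsg.Agent.S5226

open Cfsg.FusionSystem Cfsg.Agent.Lib

/-- A subgroup of a normal subgroup `Q` of `F` that is invariant under all automorphisms of `Q` is weakly closed. -/
theorem weaklyClosed_of_char {Ω : Type*} [Group Ω] {S : Subgroup Ω} {F : Cfsg.FusionSystem S}
    {Q W : Subgroup Ω} (hQ : F.IsNormal Q) (hWQ : W ≤ Q)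
    (hchar : ∀ (α : MulAut Q) (x : Q), (x : Ω) ∈ W → ((α x : Q) : Ω) ∈ W) : F.WeaklyClosed W := by
  refine ⟨hWQ.trans hQ.1, fun φ hφ => ?_⟩
  obtain ⟨ψ, hψ, hext, hmap⟩ := hQ.2 W φ hφ
  have hφ' := Helper87.restrict_mem F (le_sup_right : Q ≤ W ⊔ Q) hψ
  have hr : (ψ.comp (Subgroup.inclusion (le_sup_right : Q ≤ W ⊔ Q))).range = Q := by
    ext y
    constructor
    · rintro ⟨x, rfl⟩
      have : ψ (Subgroup.inclusion le_sup_right x) ∈ (Q.subgroupOf (W ⊔ Q)).map ψ :=
        ⟨_, Subgroup.mem_subgroupOf.mpr x.2, rfl⟩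
      rw [hmap] at this
      exact this
    · intro hy
      rw [← hmap] at hy
      obtain ⟨z, hz, rfl⟩ := hy
      exact ⟨⟨z, Subgroup.mem_subgroupOf.mp hz⟩, rfl⟩
  obtain ⟨α, -, hα⟩ := Helper89.exists_aut_of_range_eq F hφ' hr
  have hφα : ∀ x : W, φ x = ((α ⟨x, hWQ x.2⟩ : Q) : Ω) := by
    intro x
    rw [hα, ← hext x]
    rfl
  ext y
  constructor
  · rintro ⟨x, rfl⟩
    rw [hφα]
    exact hchar α _ x.2
  · intro hy
    have h1 : ((α⁻¹ ⟨y, hWQ hy⟩ : Q) : Ω) ∈ W := hchar α⁻¹ ⟨y, hWQ hy⟩ hy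
    refine ⟨⟨_, h1⟩, ?_⟩
    rw [hφα]
    simp

/-- Let F be a saturated fusion system over a finite p-group S and Q a subgroup of S. Then Q is normal in F (F equals the normalizer system of Q) if and only if Q is strongly closed in F and admits a central series 1 = Q₀ ≤ Q₁ ≤ ⋯ ≤ Qₙ = Q ([Qᵢ₊₁, Q] ≤ Qᵢ) all of whose proper terms are weakly closed in F. -/
theorem result {Ω : Type*} [Group Ω] {S : Subgroup Ω} [Finite S] (p : ℕ) [Fact p.Prime] (hS : IsPGroup p S) (F : Cfsg.FusionSystem S) (hF : F.IsSaturated p) (Q : Subgroup Ω) : F.IsNormal Q ↔ F.StronglyClosed Q ∧ ∃ (n : ℕ) (C : Fin (n + 1) → Subgroup Ω), C 0 = ⊥ ∧ C (Fin.last n) = Q ∧ Monotone C ∧ (∀ i : Fin n, ⁅C i.succ, Q⁆ ≤ C i.castSucc) ∧ ∀ i : Fin n, F.WeaklyClosed (C i.castSucc) := by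
  constructor
  · intro hQ
    refine ⟨Helper89.IsNormal.stronglyClosed hQ, ?_⟩
    obtain ⟨n, hn⟩ := Helper90.exists_ucs_eq hS hQ.1
    refine ⟨n, fun i => Helper90.ucs Q i, Helper90.ucs_zero Q, Helper90.ucs_eq_self_of_eq_top Q hn,
      fun a b hab => Helper90.ucs_mono Q hab, fun i => ?_, fun i => ?_⟩
    · have h1 := Helper90.commutator_ucs_succ_le Q (i : ℕ)
      rw [Subgroup.commutator_comm] at h1
      exact h1
    · exact weaklyClosed_of_char hQ (Helper90.ucs_le Q _)
        (fun α x hx => Helper90.aut_ucs_mem α _ x hx)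
  · rintro ⟨hsc, n, C, hC0, hCn, hmono, hcomm, hwc⟩
    rw [Cfsg.Agent.S5086.result p hS F hF Q]
    refine ⟨hsc, fun P hcen hrad => ?_⟩
    let c : ℕ → Subgroup Ω := fun k => C ⟨min k n, by omega⟩
    have hcn : ∀ k, n ≤ k → c k = Q := by
      intro k hk
      show C ⟨min k n, _⟩ = Q
      have : (⟨min k n, by omega⟩ : Fin (n + 1)) = Fin.last n := Fin.ext (min_eq_right hk)
      rw [this, hCn]
    have hc0 : c 0 = ⊥ := by
      show C ⟨min 0 n, _⟩ = ⊥
      have : (⟨min 0 n, by omega⟩ : Fin (n + 1)) = 0 := Fin.ext (Nat.zero_min n)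
      rw [this, hC0]
    have hcmono : Monotone c := fun a b hab => hmono (Fin.mk_le_mk.mpr (min_le_min_right n hab))
    have hcQ : ∀ k, c k ≤ Q := fun k => by
      rw [← hCn]; exact hmono (Fin.le_last _)
    have hccomm : ∀ k, ⁅c (k + 1), Q⁆ ≤ c k := by
      intro k
      rcases Nat.lt_or_ge k n with h | h
      · have h1 := hcomm ⟨k, h⟩
        have e1 : c (k + 1) = C (⟨k, h⟩ : Fin n).succ := by
          show C ⟨min (k + 1) n, _⟩ = _
          congr 1
          exact Fin.ext (min_eq_left h)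
        have e2 : c k = C (⟨k, h⟩ : Fin n).castSucc := by
          show C ⟨min k n, _⟩ = _
          congr 1
          exact Fin.ext (min_eq_left h.le)
        rw [e1, e2]; exact h1
      · rw [hcn k h, hcn (k + 1) (by omega), Subgroup.commutator_le]
        intro a ha b hb
        rw [commutatorElement_def]
        exact Q.mul_mem (Q.mul_mem (Q.mul_mem ha hb) (Q.inv_mem ha)) (Q.inv_mem hb)
    have hinv : ∀ k, Helper89.ChainInv F (c k) := by
      intro k
      rcases Nat.lt_or_ge k n with h | h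
      · have e2 : c k = C (⟨k, h⟩ : Fin n).castSucc := by
          show C ⟨min k n, _⟩ = _
          congr 1
          exact Fin.ext (min_eq_left h.le)
        rw [e2]
        exact Helper89.chainInv_of_weaklyClosed (hwc ⟨k, h⟩)
      · rw [hcn k h]
        exact Helper89.chainInv_of_stronglyClosed hsc
    have := Helper89.chain_le_of_centric_radical hS F hsc c hc0 hcmono hcQ hccomm hinv hcen hrad n
    rwa [hcn n le_rfl] at this

end Cfsg.Agent.S5226
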