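import Cfsg.Statements.S5233
import Cfsg.Agent.S5087
import Cfsg.Agent.Lib.Helper89.GenExtraH
import Cfsg.Agent.Lib.Helper89.OrderPFour
import Cfsg.Agent.Lib.Helper03.PGroupFrattini
import Cfsg.Agent.Lib.Helper80.PGroup

set_option autoImplicit false
open Cfsg

namespace Cfsg.Agent.S5233

open scoped commutatorElement in
open Cfsg.FusionSystem Cfsg.Agent.Lib.Helper89 Cfsg.Agent.Lib in
/-- the structure data of a strongly closed generalized extraspecial subgroup -/
theorem gxdata {Ω : Type*} [Group Ω] {S : Subgroup Ω} [Finite S] (p : ℕ) [Fact p.Prime]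
    (hS : IsPGroup p S) (F : Cfsg.FusionSystem S) (P : Subgroup Ω) (hP : F.StronglyClosed P)
    (hge : frattini ↥P = commutator ↥P ∧ Nat.card ↥(commutator ↥P) = p) :
    GXData F p P ((commutator ↥P).map P.subtype) := by
  have hp : p.Prime := Fact.out
  have hPS : P ≤ S := hP.1
  haveI : Finite P := Helper87.finite_of_le hPS
  have hPp : IsPGroup p P := hS.to_le hPS
  -- `S` normalizes `P`
  have hconj : ∀ s ∈ S, ∀ a ∈ P, s * a * s⁻¹ ∈ P := by
    intro s hs a ha
    have h1 : conjHom P s ∈ F.Hom P := F.conj_mem hPS hs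
    have h2 := hP.2 P le_rfl (conjHom P s) h1 ⟨a, ha⟩
    simpa [conjHom] using h2
  have hnorm : S ≤ Subgroup.normalizer (P : Set Ω) := by
    intro s hs
    rw [Subgroup.mem_normalizer_iff]
    intro n
    constructor
    · intro hn; exact hconj s hs n hn
    · intro hn
      have := hconj s⁻¹ (S.inv_mem hs) _ hn
      have h2 : s⁻¹ * (s * n * s⁻¹) * s⁻¹⁻¹ = n := by group
      rwa [h2] at this
  set Z0 : Subgroup Ω := (commutator ↥P).map P.subtype with hZ0
  have hZ0card : Nat.card Z0 = p := by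
    rw [hZ0, Subgroup.card_map_of_injective P.subtype_injective]
    exact hge.2
  have hZ0P : Z0 ≤ P := Subgroup.map_subtype_le _
  have hZ0S : Z0 ≤ S := hZ0P.trans hPS
  -- `Z0` is normalized by `S`
  have hZ0conj : ∀ s ∈ S, ∀ w ∈ Z0, s * w * s⁻¹ ∈ Z0 := by
    intro s hs w hw
    rw [hZ0, Subgroup.mem_map] at hw
    obtain ⟨w', hw', rfl⟩ := hw
    have h1 := commutator_invariant (conjAut P s (hnorm hs)) w' hw'
    rw [hZ0, Subgroup.mem_map]
    exact ⟨_, h1, rfl⟩
  -- hence central
  have hZ0c : ∀ s ∈ S, ∀ w ∈ Z0, s * w = w * s := by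
    haveI hN : (Z0.subgroupOf S).Normal := by
      constructor
      intro n hn g
      rw [Subgroup.mem_subgroupOf] at hn ⊢
      simp only [Subgroup.coe_mul, Subgroup.coe_inv]
      exact hZ0conj g g.2 n hn
    have hcard : Nat.card (Z0.subgroupOf S) = p := by
      rw [Helper01.card_subgroupOf_of_le hZ0S, hZ0card]
    have hle := Helper80.le_center_of_normal_of_card_prime hS (Z0.subgroupOf S) hcard
    intro s hs w hw
    have h1 : (⟨w, hZ0S hw⟩ : S) ∈ Subgroup.center S := hle (by
      rw [Subgroup.mem_subgroupOf]; exact hw)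
    rw [Subgroup.mem_center_iff] at h1
    exact congrArg Subtype.val (h1 ⟨s, hs⟩)
  refine ⟨hP, hZ0card, hZ0P, hZ0c, ?_, ?_, ?_⟩
  · intro a ha b hb
    rw [hZ0, Subgroup.mem_map]
    refine ⟨⁅(⟨a, ha⟩ : P), ⟨b, hb⟩⁆, ?_, ?_⟩
    · rw [commutator_def]
      exact Subgroup.commutator_mem_commutator (Subgroup.mem_top _) (Subgroup.mem_top _)
    · rw [commutatorElement_def]
      simp
  · intro a ha
    rw [hZ0, Subgroup.mem_map]
    refine ⟨(⟨a, ha⟩ : P) ^ p, ?_, ?_⟩
    · rw [← hge.1]
      exact Helper03.pow_mem_frattini_of_isPGroup hPp _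
    · simp
  · intro hab
    have hbot : commutator ↥P = ⊥ := by
      rw [commutator_eq_closure, Subgroup.closure_eq_bot_iff]
      rintro g ⟨a, b, rfl⟩
      rw [Set.mem_singleton_iff, commutatorElement_eq_one_iff_mul_comm]
      exact Subtype.ext (hab a a.2 b b.2)
    have h1 := hge.2
    rw [hbot, Subgroup.card_bot] at h1
    exact hp.one_lt.ne h1

open Cfsg.FusionSystem Cfsg.Agent.Lib.Helper89 Cfsg.Agent.Lib in
/-- Let F be a saturated fusion system over a finite p-group S and P a subgroup of S strongly closed in F that is generalized extraspecial (its Frattini subgroup equals its commutator subgroup and has order p) and not isomorphic to E × A with A elementary abelian and E dihedral of order 8 (p = 2) or extraspecial of order p³ and exponent p (p odd). Then P is normal in F. -/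
theorem result {Ω : Type*} [Group Ω] {S : Subgroup Ω} [Finite S] (p : ℕ) [Fact p.Prime] (hS : IsPGroup p S) (F : Cfsg.FusionSystem S) (hF : F.IsSaturated p) (P : Subgroup Ω) (hP : F.StronglyClosed P) (hge : frattini ↥P = commutator ↥P ∧ Nat.card ↥(commutator ↥P) = p) (h2 : p = 2 → ¬ ∃ (A : Type) (_ : CommGroup A), (∀ a : A, a ^ 2 = 1) ∧ Nonempty (↥P ≃* DihedralGroup 4 × A)) (hodd : p ≠ 2 → ¬ ∃ (E : Type) (_ : Group E) (A : Type) (_ : CommGroup A), Cfsg.IsExtraspecial p E ∧ Nat.card E = p ^ 3 ∧ Monoid.exponent E = p ∧ (∀ a : A, a ^ p = 1) ∧ Nonempty (↥P ≃* E × A)) : F.IsNormal P := by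
  have hp : p.Prime := Fact.out
  have hPS : P ≤ S := hP.1
  haveI : Finite P := Helper87.finite_of_le hPS
  have D := gxdata p hS F P hP hge
  set Z0 : Subgroup Ω := (commutator ↥P).map P.subtype with hZ0
  rw [Cfsg.Agent.S5087.result p hS F hF P]
  intro Q hQ'
  have hQS : Q ≤ S := by
    rcases hQ' with rfl | hess
    · exact le_rfl
    · exact hess.1.1
  refine ⟨?_, ?_⟩
  · rcases hQ' with rfl | hQ
    · exact hPS
    by_contra hPQ
    obtain ⟨α, hα, w, hwZ, hw1, huP, huZ, hM1, hM2⟩ := D.exists_conj hS hF hQ hPQ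
    obtain ⟨a, haP, hau⟩ := D.exists_not_comm hM1
    have h0 := D.toGXS0 huP hM1 hM2
    have ha' : (⟨a, haP⟩ : P) * ⟨((α w : Q) : Ω), huP⟩ ≠ ⟨((α w : Q) : Ω), huP⟩ * ⟨a, haP⟩ :=
      fun h => hau (congrArg Subtype.val h)
    by_cases hp2 : p = 2
    · subst hp2
      exact h2 rfl (h0.dihedral_of_two ha')
    · by_cases hexp : ∀ g : P, g ^ p = 1
      · exact hodd hp2 ((h0.toGXS ha' (hexp _)).extraspecial_decomp hexp)
      · simp only [not_forall] at hexp
        obtain ⟨x₁, hx₁⟩ := hexp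
        have hx₁' : (x₁ : Ω) ^ p ≠ 1 := by
          intro h
          apply hx₁
          apply Subtype.ext
          rw [Subgroup.coe_pow, Subgroup.coe_one]
          exact h
        obtain ⟨M0, x, c⟩ := D.phase1 hS hp2 hQ hPQ huP hM1 hM2 x₁.2 hx₁'
        apply c.false_of_moved hS hF hp2 hα
        intro hαz
        obtain ⟨k, hk⟩ := c.mem_zpowers_zQ hwZ
        apply huZ
        rw [hk, map_zpow, Subgroup.coe_zpow]
        exact Z0.zpow_mem hαz k
  · intro α hα
    ext y
    rw [Subgroup.mem_map]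
    constructor
    · rintro ⟨y0, hy0, rfl⟩
      rw [Subgroup.mem_subgroupOf] at hy0 ⊢
      exact D.aut_mem hQS hα hy0
    · intro hy
      rw [Subgroup.mem_subgroupOf] at hy
      refine ⟨α⁻¹ y, ?_, ?_⟩
      · rw [Subgroup.mem_subgroupOf]
        exact D.aut_mem hQS (Subgroup.inv_mem _ hα) hy
      · show α (α⁻¹ y) = y
        exact MulAut.apply_inv_self _ α y

end Cfsg.Agent.S5233
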