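import Cfsg.Statements.S5234
import Cfsg.Agent.S5087
import Cfsg.Agent.Lib.Helper27.MetaSCF

set_option autoImplicit false
open Cfsg

namespace Cfsg.Agent.S5234

/-- Let p be an odd prime, F a saturated fusion system over a finite p-group S and P a metacyclic subgroup of S strongly closed in F. Then P is normal in F. -/
theorem result {Ω : Type*} [Group Ω] {S : Subgroup Ω} [Finite S] (p : ℕ) [Fact p.Prime] (hS : IsPGroup p S) (F : Cfsg.FusionSystem S) (hF : F.IsSaturated p) (P : Subgroup Ω) (hP : F.StronglyClosed P) (hp : p ≠ 2) (hm : Cfsg.IsMetacyclic ↥P) : F.IsNormal P := by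
  rw [Cfsg.Agent.S5087.result p hS F hF P]
  intro E hE
  have hES : E ≤ S := by
    rcases hE with rfl | hess
    · exact le_rfl
    · exact hess.1.1
  refine ⟨?_, fun α hα => ?_⟩
  · rcases hE with rfl | hess
    · exact hP.1
    · exact Cfsg.Agent.Lib.Helper27.MetaSCF.le_of_isEssential hS F hF hP hp hm hess
  · apply le_antisymm
    · rintro _ ⟨v, hv, rfl⟩
      have hv' : (v : Ω) ∈ P := Subgroup.mem_subgroupOf.1 hv
      rw [Subgroup.mem_subgroupOf]
      exact Cfsg.Agent.Lib.Helper27.MetaSCF.aut_apply_mem_of_stronglyClosed F hP hES hα v hv'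
    · intro w hw
      rw [Subgroup.mem_subgroupOf] at hw
      refine ⟨α⁻¹ w, ?_, ?_⟩
      · rw [SetLike.mem_coe, Subgroup.mem_subgroupOf]
        exact Cfsg.Agent.Lib.Helper27.MetaSCF.aut_apply_mem_of_stronglyClosed F hP hES
          ((F.autGroup E).inv_mem hα) w hw
      · show α (α⁻¹ w) = w
        exact MulAut.apply_inv_self _ _ _

end Cfsg.Agent.S5234
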