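import Cfsg.Statements.S5235
import Cfsg.Agent.S5087
import Cfsg.Agent.Lib.Helper89.MetaTwo
import Cfsg.Agent.Lib.Helper89.MetaTwoB
import Cfsg.Agent.Lib.Helper89.MetaTwoGlue
import Cfsg.Agent.Lib.Helper89.MetaSC
import Cfsg.Agent.Lib.Helper89.GenExtraC
import Cfsg.Agent.Lib.Helper42.Meta2
import Cfsg.Agent.Lib.Helper68.MetaActB
import Cfsg.Agent.Lib.Helper03.PGroupFrattini
import Cfsg.Agent.Lib.Helper87.FusionBasic

set_option autoImplicit false
open Cfsg

namespace Cfsg.Agent.S5235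

open Cfsg.Agent.Lib.Helper89 Cfsg.FusionSystem in
/-- the contradiction from an essential subgroup not containing the strongly closed metacyclic
subgroup `P` -/
theorem no_essential {Ω : Type*} [Group Ω] {S : Subgroup Ω} [Finite S] (hS : IsPGroup 2 S)
    (F : Cfsg.FusionSystem S) (P : Subgroup Ω)
    (hP : F.StronglyClosed P) (hm : Cfsg.IsMetacyclic ↥P)
    (hd : ¬ ∃ m : ℕ, Nonempty (↥P ≃* DihedralGroup m))
    (hq : ¬ ∃ m : ℕ, Nonempty (↥P ≃* QuaternionGroup m)) (hsd : ¬ Cfsg.IsQuasiDihedral ↥P)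
    (Q : Subgroup Ω) (hQ : F.IsEssential 2 Q) (hPQ : ¬ P ≤ Q) : False := by
  have : Fact (Nat.Prime 2) := ⟨Nat.prime_two⟩
  have hPS : P ≤ S := hP.1
  have hQS : Q ≤ S := hQ.1.1
  have hfinP : Finite P := Cfsg.Agent.Lib.Helper87.finite_of_le hPS
  have hPp : IsPGroup 2 P := hS.to_le hPS
  have hRS : P ⊓ Q ≤ S := inf_le_left.trans hPS
  have hfinR : Finite ↥(P ⊓ Q) := Cfsg.Agent.Lib.Helper87.finite_of_le hRS
  have hRp : IsPGroup 2 ↥(P ⊓ Q) := hS.to_le hRS
  have hconcl : ((∃ m : ℕ, Nonempty (↥P ≃* DihedralGroup m)) ∨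
      (∃ m : ℕ, Nonempty (↥P ≃* QuaternionGroup m)) ∨ Cfsg.IsQuasiDihedral ↥P) → False := by
    rintro (h | h | h)
    · exact hd h
    · exact hq h
    · exact hsd h
  -- `T = N_P(Q)` and an element `t ∈ T ∖ Q` with `t² ∈ Q`
  set T : Subgroup Ω := P ⊓ Subgroup.normalizer (Q : Set Ω) with hT
  have hTS : T ≤ S := inf_le_left.trans hPS
  have hfinT : Finite T := Cfsg.Agent.Lib.Helper87.finite_of_le hTS
  have hTp : IsPGroup 2 T := hS.to_le hTS
  have hRT : P ⊓ Q ≤ T := fun x hx => ⟨hx.1, Subgroup.le_normalizer hx.2⟩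
  have hne : P ⊓ Q ≠ T := by
    intro h
    -- an element of `P` normalizing `Q` outside `Q`
    have hUS : Q ⊔ P ≤ S := sup_le hQS hPS
    have : Finite (Q ⊔ P : Subgroup Ω) := Cfsg.Agent.Lib.Helper87.finite_of_le hUS
    have hneU : Q ≠ Q ⊔ P := by
      intro h'
      apply hPQ
      rw [h']; exact le_sup_right
    obtain ⟨g, hg, hgQ⟩ := exists_mem_normalizerIn_not_mem (S := Q ⊔ P) (hS.to_le hUS)
      le_sup_left hneU
    have hgU : g ∈ Q ⊔ P := hg.1
    have hgN : g ∈ Subgroup.normalizer (Q : Set Ω) := hg.2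
    have hnormP : Q ≤ Subgroup.normalizer (P : Set Ω) := by
      intro s hs
      rw [Subgroup.mem_normalizer_iff]
      intro n
      constructor
      · intro hn
        exact Cfsg.Agent.Lib.Helper90.StronglyClosed.conj_mem F hP s (hQS hs) n hn
      · intro hn
        have := Cfsg.Agent.Lib.Helper90.StronglyClosed.conj_mem F hP s⁻¹ (S.inv_mem (hQS hs)) _ hn
        have h2 : s⁻¹ * (s * n * s⁻¹) * s⁻¹⁻¹ = n := by group
        rwa [h2] at this
    obtain ⟨q, hq', a, ha, rfl⟩ := (gx_mem_sup_iff hnormP).mp hgU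
    have haN : a ∈ Subgroup.normalizer (Q : Set Ω) := by
      have h1 : a = q⁻¹ * (q * a) := by group
      rw [h1]
      exact Subgroup.mul_mem _ (Subgroup.inv_mem _ (Subgroup.le_normalizer hq')) hgN
    have haT : a ∈ T := ⟨ha, haN⟩
    rw [← h] at haT
    exact hgQ (Q.mul_mem hq' haT.2)
  obtain ⟨t, htN, htR, htt⟩ := exists_normalizer_sq_mem (S := T) hTp hRT hne
  have htT : t ∈ T := htN.1
  have htP : t ∈ P := htT.1
  have htNQ : t ∈ Subgroup.normalizer (Q : Set Ω) := htT.2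
  have htQ : t ∉ Q := fun h => htR ⟨htP, h⟩
  -- the automorphism group of `P ⊓ Q` is not a 2-group
  have hA : ¬ IsPGroup 2 (MulAut ↥(P ⊓ Q)) := not_isPGroup_mulAut_inf hS hP hQ htP htNQ htQ
  -- `t` acts non-trivially modulo the Frattini subgroup
  have hnt : ∃ r ∈ P ⊓ Q, t * r * t⁻¹ * r⁻¹ ∉ frattInf P Q := by
    by_contra hno
    apply htQ
    apply mem_of_trivial_on_frattini hS hP hQ htP htNQ
    intro r hr
    by_contra h
    exact hno ⟨r, hr, h⟩
  obtain ⟨r₀, hr₀, hr₀Φ⟩ := hnt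
  have hmR : Cfsg.IsMetacyclic ↥(P ⊓ Q) :=
    Cfsg.Agent.Lib.Helper68.MA.isMetacyclic_of_le (inf_le_left : P ⊓ Q ≤ P) hm
  obtain ⟨N, hNn, hNc, hQc⟩ := hm
  -- the copy of `P ⊓ Q` inside the type `P`
  obtain ⟨R, hRdef⟩ : ∃ R : Subgroup P, R = (P ⊓ Q).subgroupOf P := ⟨_, rfl⟩
  have hmemR : ∀ s : P, s ∈ R ↔ (s : Ω) ∈ P ⊓ Q := fun s => by
    rw [hRdef]; exact Subgroup.mem_subgroupOf
  let e0 : R ≃* ↥(P ⊓ Q) :=
    (MulEquiv.subgroupCongr hRdef).trans (Subgroup.subgroupOfEquivOfLe inf_le_left)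
  have he0 : ∀ r : R, ((e0 r : ↥(P ⊓ Q)) : Ω) = ((r : P) : Ω) := fun r => rfl
  -- `t` as an element of `P`
  obtain ⟨t', ht'def⟩ : ∃ t' : P, t' = ⟨t, htP⟩ := ⟨_, rfl⟩
  have ht'coe : (t' : Ω) = t := by rw [ht'def]
  have ht'N : ∀ r ∈ R, t' * r * t'⁻¹ ∈ R := by
    intro r hr
    rw [hmemR] at hr ⊢
    simp only [Subgroup.coe_mul, Subgroup.coe_inv, ht'coe]
    refine ⟨P.mul_mem (P.mul_mem htP hr.1) (P.inv_mem htP), ?_⟩
    exact (Subgroup.mem_normalizer_iff.mp htNQ (r : Ω)).mp hr.2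
  have ht'2 : t' * t' ∈ R := by
    rw [hmemR]
    simp only [Subgroup.coe_mul, ht'coe]
    exact htt
  rcases Cfsg.Agent.Lib.Helper42.Meta2.main hRp hmR hA with ⟨⟨e⟩⟩ | ⟨n, ⟨e⟩⟩
  · exact hconcl (quat_case hPp N hQc R (e0.trans e))
  · -- homocyclic of rank two
    have hcomm : ∀ a b : ↥(P ⊓ Q), a * b = b * a := by
      intro a b
      apply e.injective
      rw [map_mul, map_mul, mul_comm]
    have hcommR : ∀ a ∈ R, ∀ b ∈ R, a * b = b * a := by
      intro a ha b hb
      have h := congrArg Subtype.val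
        (hcomm ⟨(a : Ω), (hmemR a).mp ha⟩ ⟨(b : Ω), (hmemR b).mp hb⟩)
      apply Subtype.ext
      show ((a : P) : Ω) * ((b : P) : Ω) = ((b : P) : Ω) * ((a : P) : Ω)
      exact h
    have hsq1 : ∀ a : Multiplicative (ZMod (2 ^ n)) × Multiplicative (ZMod (2 ^ n)),
        a * a = 1 ↔ (Multiplicative.toAdd a.1 + Multiplicative.toAdd a.1 = 0 ∧
          Multiplicative.toAdd a.2 + Multiplicative.toAdd a.2 = 0) := by
      intro a
      rw [Prod.ext_iff]
      exact Iff.rfl
    rcases Nat.lt_or_ge n 2 with hn2 | hn2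
    · -- exponent at most two
      have hexpX : ∀ a : ↥(P ⊓ Q), a * a = 1 := by
        intro a
        apply e.injective
        rw [map_mul, map_one, hsq1]
        rcases Nat.eq_zero_or_pos n with hn0 | hnpos
        · subst hn0
          have hsub : Subsingleton (ZMod (2 ^ 0)) := by
            rw [pow_zero]; infer_instance
          exact ⟨Subsingleton.elim _ _, Subsingleton.elim _ _⟩
        · have hn1 : n = 1 := by omega
          exact ⟨zmod_two_pow_add_self hn1 _, zmod_two_pow_add_self hn1 _⟩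
      have hexpR : ∀ r ∈ R, r * r = 1 := by
        intro r hr
        have h := congrArg Subtype.val (hexpX ⟨(r : Ω), (hmemR r).mp hr⟩)
        apply Subtype.ext
        show ((r : P) : Ω) * ((r : P) : Ω) = 1
        exact h
      refine hconcl (four_case_moved hPp N hQc R hexpR hcommR t' ht'N ht'2
        ⟨r₀, hr₀.1⟩ ((hmemR _).mpr hr₀) ?_)
      intro h
      apply hr₀Φ
      have h1 := congrArg Subtype.val h
      simp only [Subgroup.coe_mul, Subgroup.coe_inv, ht'coe] at h1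
      rw [h1, mul_inv_cancel]
      exact Subgroup.one_mem _
    · -- `n ≥ 2`
      have hF1X : ∀ a : ↥(P ⊓ Q), a * a = 1 → ∃ s : ↥(P ⊓ Q), s * s = a := by
        intro a ha
        have h1 : e a * e a = 1 := by rw [← map_mul, ha, map_one]
        obtain ⟨h2, h3⟩ := (hsq1 _).mp h1
        obtain ⟨c1, hc1⟩ := zmod_two_pow_exists_half hn2 _ h2
        obtain ⟨c2, hc2⟩ := zmod_two_pow_exists_half hn2 _ h3
        refine ⟨e.symm (Multiplicative.ofAdd c1, Multiplicative.ofAdd c2), ?_⟩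
        apply e.injective
        rw [map_mul, MulEquiv.apply_symm_apply]
        apply Prod.ext
        · exact congrArg Multiplicative.ofAdd hc1
        · exact congrArg Multiplicative.ofAdd hc2
      refine no_homocyclic hPp N hQc R hcommR ?_ ((frattInf P Q).subgroupOf P) ?_ t' ht'N ht'2 ?_
      · intro r hr hrr
        have hrr' : ((r : P) : Ω) * ((r : P) : Ω) = 1 := congrArg Subtype.val hrr
        obtain ⟨s, hs⟩ := hF1X ⟨(r : Ω), (hmemR r).mp hr⟩ (Subtype.ext hrr')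
        refine ⟨⟨(s : Ω), s.2.1⟩, (hmemR _).mpr s.2, ?_⟩
        have h := congrArg Subtype.val hs
        apply Subtype.ext
        show ((s : ↥(P ⊓ Q)) : Ω) * ((s : ↥(P ⊓ Q)) : Ω) = ((r : P) : Ω)
        exact h
      · intro s hs
        rw [Subgroup.mem_subgroupOf]
        have hsR : ((s : P) : Ω) ∈ P ⊓ Q := (hmemR s).mp hs
        have hmem : ((s * s : P) : Ω) ∈ P ⊓ Q := by
          rw [Subgroup.coe_mul]; exact (P ⊓ Q).mul_mem hsR hsR
        rw [mem_frattInf_iff hmem]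
        have h1 := Cfsg.Agent.Lib.Helper03.pow_mem_frattini_of_isPGroup hRp
          (⟨((s : P) : Ω), hsR⟩ : ↥(P ⊓ Q))
        have h2 : (⟨((s * s : P) : Ω), hmem⟩ : ↥(P ⊓ Q)) = (⟨((s : P) : Ω), hsR⟩ : ↥(P ⊓ Q)) ^ 2 := by
          apply Subtype.ext
          rw [pow_two]
          rfl
        rw [h2]
        exact h1
      · refine ⟨⟨r₀, hr₀.1⟩, (hmemR _).mpr hr₀, ?_⟩
        intro hmem
        rw [Subgroup.mem_subgroupOf] at hmem
        apply hr₀Φ
        simp only [Subgroup.coe_mul, Subgroup.coe_inv, ht'coe] at hmem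
        exact hmem

/-- Let F be a saturated fusion system over a finite 2-group S (p = 2) and P a metacyclic subgroup of S strongly closed in F that is not dihedral, not semidihedral and not generalized quaternion (here the group of order 2, the Klein four-group and the cyclic group of order 4 also count as excluded). Then P is normal in F. -/
theorem result {Ω : Type*} [Group Ω] {S : Subgroup Ω} [Finite S] (p : ℕ) [Fact p.Prime] (hS : IsPGroup p S) (F : Cfsg.FusionSystem S) (hF : F.IsSaturated p) (P : Subgroup Ω) (hP : F.StronglyClosed P) (hp : p = 2) (hm : Cfsg.IsMetacyclic ↥P) (hd : ¬ ∃ m : ℕ, Nonempty (↥P ≃* DihedralGroup m)) (hq : ¬ ∃ m : ℕ, Nonempty (↥P ≃* QuaternionGroup m)) (hsd : ¬ Cfsg.IsQuasiDihedral ↥P) : F.IsNormal P := by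
  subst hp
  have hPS : P ≤ S := hP.1
  rw [Cfsg.Agent.S5087.result 2 hS F hF P]
  intro Q hQ'
  have hQS : Q ≤ S := by
    rcases hQ' with rfl | hess
    · exact le_rfl
    · exact hess.1.1
  refine ⟨?_, ?_⟩
  · rcases hQ' with rfl | hQ
    · exact hPS
    by_contra hPQ
    exact no_essential hS F P hP hm hd hq hsd Q hQ hPQ
  · intro α hα
    ext y
    rw [Subgroup.mem_map]
    constructor
    · rintro ⟨y0, hy0, rfl⟩
      rw [Subgroup.mem_subgroupOf] at hy0 ⊢
      exact Cfsg.Agent.Lib.Helper90.StronglyClosed.aut_mem F hP hQS hα y0 hy0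
    · intro hy
      rw [Subgroup.mem_subgroupOf] at hy
      refine ⟨α⁻¹ y, ?_, ?_⟩
      · rw [Subgroup.mem_subgroupOf]
        exact Cfsg.Agent.Lib.Helper90.StronglyClosed.aut_mem F hP hQS (Subgroup.inv_mem _ hα) y hy
      · show α (α⁻¹ y) = y
        exact MulAut.apply_inv_self _ α y

end Cfsg.Agent.S5235
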