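import Cfsg.Statements.S5236
-- import your own Cfsg.Agent.* helpers here
import Cfsg.Agent.S5086
import Cfsg.Agent.Lib.Helper89.OmegaChain

set_option autoImplicit false
open Cfsg

namespace Cfsg.Agent.S5236

open Cfsg.FusionSystem Cfsg.Agent.Lib
open scoped commutatorElement

/-- A subgroup of a normal subgroup `P` of `F` that is invariant under all automorphisms of `P` is strongly closed. -/
theorem stronglyClosed_of_char {Ω : Type*} [Group Ω] {S : Subgroup Ω} {F : Cfsg.FusionSystem S}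
    {P W : Subgroup Ω} (hP : F.IsNormal P) (hWP : W ≤ P)
    (hchar : ∀ (α : MulAut P) (x : P), (x : Ω) ∈ W → ((α x : P) : Ω) ∈ W) : F.StronglyClosed W := by
  refine ⟨hWP.trans hP.1, fun R hRW φ hφ x => ?_⟩
  obtain ⟨ψ, hψ, hext, hmap⟩ := hP.2 R φ hφ
  have hφ' := Helper87.restrict_mem F (le_sup_right : P ≤ R ⊔ P) hψ
  have hr : (ψ.comp (Subgroup.inclusion (le_sup_right : P ≤ R ⊔ P))).range = P := by
    ext y
    constructor
    · rintro ⟨x, rfl⟩
      have : ψ (Subgroup.inclusion le_sup_right x) ∈ (P.subgroupOf (R ⊔ P)).map ψ :=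
        ⟨_, Subgroup.mem_subgroupOf.mpr x.2, rfl⟩
      rw [hmap] at this
      exact this
    · intro hy
      rw [← hmap] at hy
      obtain ⟨z, hz, rfl⟩ := hy
      exact ⟨⟨z, Subgroup.mem_subgroupOf.mp hz⟩, rfl⟩
  obtain ⟨α, -, hα⟩ := Helper89.exists_aut_of_range_eq F hφ' hr
  have hxP : (x : Ω) ∈ P := hWP (hRW x.2)
  have : φ x = ((α ⟨x, hxP⟩ : P) : Ω) := by
    rw [hα, ← hext x]
    rfl
  rw [this]
  exact hchar α _ (hRW x.2)

theorem omegaOne_le {Ω : Type*} [Group Ω] (p : ℕ) (P : Subgroup Ω) : Cfsg.omegaOne p P ≤ P := by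
  unfold Cfsg.omegaOne
  rw [Subgroup.closure_le]
  intro x hx
  exact hx.1

/-- `Ω₁(P)` is invariant under the automorphisms of `P`. -/
theorem omegaOne_char {Ω : Type*} [Group Ω] (p : ℕ) (P : Subgroup Ω) (α : MulAut P) :
    ∀ y : Ω, y ∈ Cfsg.omegaOne p P → ∃ hy : y ∈ P, ((α ⟨y, hy⟩ : P) : Ω) ∈ Cfsg.omegaOne p P := by
  intro y hy
  unfold Cfsg.omegaOne at hy
  induction hy using Subgroup.closure_induction with
  | mem y hy =>
    refine ⟨hy.1, Subgroup.subset_closure ⟨(α ⟨y, hy.1⟩).2, ?_⟩⟩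
    have h1 : (⟨y, hy.1⟩ : P) ^ p = 1 := Subtype.ext hy.2
    have h2 : (α ⟨y, hy.1⟩) ^ p = 1 := by rw [← map_pow, h1, map_one]
    exact congrArg Subtype.val h2
  | one =>
    refine ⟨P.one_mem, ?_⟩
    have : (⟨1, P.one_mem⟩ : P) = 1 := rfl
    rw [this, map_one]
    exact Subgroup.one_mem _
  | mul a b _ _ ha hb =>
    obtain ⟨haP, ha'⟩ := ha
    obtain ⟨hbP, hb'⟩ := hb
    refine ⟨P.mul_mem haP hbP, ?_⟩
    have : (⟨a * b, P.mul_mem haP hbP⟩ : P) = ⟨a, haP⟩ * ⟨b, hbP⟩ := rfl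
    rw [this, map_mul]
    exact Subgroup.mul_mem _ ha' hb'
  | inv a _ ha =>
    obtain ⟨haP, ha'⟩ := ha
    refine ⟨P.inv_mem haP, ?_⟩
    have : (⟨a⁻¹, P.inv_mem haP⟩ : P) = (⟨a, haP⟩ : P)⁻¹ := rfl
    rw [this, map_inv]
    exact Subgroup.inv_mem _ ha'

/-- Let p be an odd prime, F a saturated fusion system over a finite p-group S and P a subgroup of S strongly closed in F. Then P is normal in F if and only if Ω₁(P) (the subgroup generated by the elements of order p of P) has a chain of subgroups 1 = Q₀ ≤ Q₁ ≤ ⋯ ≤ Qₙ = Ω₁(P), each strongly closed in F, with [Qᵢ₊₁, P] ≤ Qᵢ for all i. -/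
theorem result {Ω : Type*} [Group Ω] {S : Subgroup Ω} [Finite S] (p : ℕ) [Fact p.Prime] (hS : IsPGroup p S) (F : Cfsg.FusionSystem S) (hF : F.IsSaturated p) (hp : p ≠ 2) (P : Subgroup Ω) (hP : F.StronglyClosed P) : F.IsNormal P ↔ ∃ (n : ℕ) (Q : Fin (n + 1) → Subgroup Ω), Q 0 = ⊥ ∧ Q (Fin.last n) = Cfsg.omegaOne p P ∧ Monotone Q ∧ (∀ i : Fin (n + 1), F.StronglyClosed (Q i)) ∧ ∀ i : Fin n, ⁅Q i.succ, P⁆ ≤ Q i.castSucc := by
  constructor
  · intro hPn
    obtain ⟨n, hn⟩ := Helper90.exists_ucs_eq hS hPn.1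
    have hchar : ∀ (α : MulAut P) (x : P), (x : Ω) ∈ Cfsg.omegaOne p P →
        ((α x : P) : Ω) ∈ Cfsg.omegaOne p P := by
      intro α x hx
      obtain ⟨_, h⟩ := omegaOne_char p P α x hx
      exact h
    have hnorm : ⁅Cfsg.omegaOne p P, P⁆ ≤ Cfsg.omegaOne p P := by
      rw [Subgroup.commutator_le]
      intro a ha b hb
      have haP : a ∈ P := omegaOne_le p P ha
      have h1 := hchar (MulAut.conj (⟨b, hb⟩ : P)) ⟨a⁻¹, P.inv_mem haP⟩ (Subgroup.inv_mem _ ha)
      have h2 : ((MulAut.conj (⟨b, hb⟩ : P) ⟨a⁻¹, P.inv_mem haP⟩ : P) : Ω) = b * a⁻¹ * b⁻¹ := rfl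
      rw [h2] at h1
      have : ⁅a, b⁆ = a * (b * a⁻¹ * b⁻¹) := by rw [commutatorElement_def]; group
      rw [this]
      exact Subgroup.mul_mem _ ha h1
    refine ⟨n, fun i => Cfsg.omegaOne p P ⊓ Helper90.ucs P i, ?_, ?_, ?_, fun i => ?_, fun i => ?_⟩
    · show Cfsg.omegaOne p P ⊓ Helper90.ucs P 0 = ⊥
      rw [Helper90.ucs_zero, inf_bot_eq]
    · show Cfsg.omegaOne p P ⊓ Helper90.ucs P n = Cfsg.omegaOne p P
      rw [Helper90.ucs_eq_self_of_eq_top P hn]
      exact inf_eq_left.mpr (omegaOne_le p P)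
    · intro a b hab
      exact inf_le_inf_left _ (Helper90.ucs_mono P hab)
    · apply stronglyClosed_of_char hPn (inf_le_left.trans (omegaOne_le p P))
      intro α x hx
      exact ⟨hchar α x hx.1, Helper90.aut_ucs_mem α _ x hx.2⟩
    · apply le_inf
      · exact (Subgroup.commutator_mono inf_le_left le_rfl).trans hnorm
      · have h1 := Helper90.commutator_ucs_succ_le P (i : ℕ)
        rw [Subgroup.commutator_comm] at h1
        exact (Subgroup.commutator_mono inf_le_right le_rfl).trans h1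
  · rintro ⟨n, Q, hQ0, hQn, hmono, hsc, hcomm⟩
    rw [Cfsg.Agent.S5086.result p hS F hF P]
    refine ⟨hP, fun R hcen hrad => ?_⟩
    let c : ℕ → Subgroup Ω := fun k => Q ⟨min k n, by omega⟩
    have hcn : ∀ k, n ≤ k → c k = Cfsg.omegaOne p P := by
      intro k hk
      show Q ⟨min k n, _⟩ = _
      have : (⟨min k n, by omega⟩ : Fin (n + 1)) = Fin.last n := Fin.ext (min_eq_right hk)
      rw [this, hQn]
    have hc0 : c 0 = ⊥ := by
      show Q ⟨min 0 n, _⟩ = ⊥
      have : (⟨min 0 n, by omega⟩ : Fin (n + 1)) = 0 := Fin.ext (Nat.zero_min n)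
      rw [this, hQ0]
    have hcmono : Monotone c := fun a b hab => hmono (Fin.mk_le_mk.mpr (min_le_min_right n hab))
    have hcO : ∀ k, c k ≤ Cfsg.omegaOne p P := fun k => by
      rw [← hQn]; exact hmono (Fin.le_last _)
    have hcP : ∀ k, c k ≤ P := fun k => (hcO k).trans (omegaOne_le p P)
    have hOsc : F.StronglyClosed (Cfsg.omegaOne p P) := hQn ▸ hsc (Fin.last n)
    have hccomm : ∀ k, ⁅c (k + 1), P⁆ ≤ c k := by
      intro k
      rcases Nat.lt_or_ge k n with h | h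
      · have h1 := hcomm ⟨k, h⟩
        have e1 : c (k + 1) = Q (⟨k, h⟩ : Fin n).succ := by
          show Q ⟨min (k + 1) n, _⟩ = _
          congr 1
          exact Fin.ext (min_eq_left h)
        have e2 : c k = Q (⟨k, h⟩ : Fin n).castSucc := by
          show Q ⟨min k n, _⟩ = _
          congr 1
          exact Fin.ext (min_eq_left h.le)
        rw [e1, e2]; exact h1
      · rw [hcn k h, hcn (k + 1) (by omega), Subgroup.commutator_le]
        intro a ha b hb
        have h1 := Helper90.StronglyClosed.conj_mem F hOsc b (hP.1 hb) a⁻¹ (Subgroup.inv_mem _ ha)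
        have : ⁅a, b⁆ = a * (b * a⁻¹ * b⁻¹) := by rw [commutatorElement_def]; group
        rw [this]
        exact Subgroup.mul_mem _ ha h1
    have hinv : ∀ k, Helper89.ChainInv F (c k) := fun k =>
      Helper89.chainInv_of_stronglyClosed (hsc _)
    exact Helper89.le_of_centric_radical_of_omega_chain hp hS F hP c hc0 hcmono hcP hccomm hinv n
      (fun x hx hxp => by rw [hcn n le_rfl]; exact Subgroup.subset_closure ⟨hx, hxp⟩) hcen hrad

end Cfsg.Agent.S5236
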