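import Cfsg.Statements.S5245
-- import your own Cfsg.Agent.* helpers here
import Cfsg.Agent.S5083
import Cfsg.Agent.Lib.Helper89.AutSystem
import Cfsg.Agent.Lib.Helper89.FusionConj
import Cfsg.Agent.Lib.Helper89.Coprime
import Cfsg.Agent.Lib.Helper88.FusionHyp1

set_option autoImplicit false
open Cfsg

namespace Cfsg.Agent.S5245

open Cfsg.FusionSystem Cfsg.Agent.Lib

/-- The system of `B ∋ β`, for `β` of prime order `q ≠ p`, is not the inner system of the `p`-group `P`. -/
theorem autSystem_ne_inner {Ω : Type*} [Group Ω] {p : ℕ} [Fact p.Prime] {P : Subgroup Ω} (hP : IsPGroup p P)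
    (β : MulAut P) (q : ℕ) (hq : q.Prime) (hqp : q ≠ p) (hβ : orderOf β = q)
    (B : Subgroup (MulAut P)) (hB : Inn P ≤ B) (hβB : β ∈ B) :
    ¬ ∀ R : Subgroup Ω, (Helper89.autSystem P B hB).Hom R = (Cfsg.innerFusionSystem P).Hom R := by
  intro h
  have h1 : P.subtype.comp β.toMonoidHom ∈ (Helper89.autSystem P B hB).Hom P :=
    ⟨le_rfl, β, hβB, fun x => rfl⟩
  rw [h P] at h1
  obtain ⟨-, g, hg, hgβ⟩ := h1
  have hβg : β = MulAut.conj (⟨g, hg⟩ : P) := by
    ext x
    exact hgβ x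
  obtain ⟨k, hk⟩ := hP ⟨g, hg⟩
  have hpow : β ^ p ^ k = 1 := by
    rw [hβg, ← map_pow, hk, map_one]
  have hdvd : q ∣ p ^ k := hβ ▸ orderOf_dvd_of_pow_eq_one hpow
  have := (Nat.prime_dvd_prime_iff_eq hq (Fact.out : p.Prime)).mp (hq.dvd_of_dvd_pow hdvd)
  exact hqp this

/-- A finite group that is not a `p`-group has an element of prime order `q ≠ p`. -/
theorem exists_prime_order_of_not_isPGroup {G : Type*} [Group G] [Finite G] {p : ℕ} [Fact p.Prime]
    (h : ¬ IsPGroup p G) : ∃ (g : G) (q : ℕ), q.Prime ∧ q ≠ p ∧ orderOf g = q := by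
  have h1 : ¬ ∀ g : G, (orderOf g).Coprime p → g = 1 := fun h' =>
    h (Helper89.isPGroup_of_coprime_trivial h')
  rw [not_forall] at h1
  obtain ⟨g, hg⟩ := h1
  rw [Classical.not_imp] at hg
  obtain ⟨hco, hne⟩ := hg
  have hord : orderOf g ≠ 1 := fun h' => hne (orderOf_eq_one_iff.mp h')
  obtain ⟨q, hq, hqd⟩ := Nat.exists_prime_and_dvd hord
  refine ⟨g ^ (orderOf g / q), q, hq, ?_, orderOf_pow_orderOf_div (orderOf_pos g).ne' hqd⟩
  intro hqp
  rw [hqp] at hqd
  have : p ∣ 1 := by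
    have := Nat.dvd_gcd hqd (dvd_refl p)
    rwa [hco] at this
  exact (Fact.out : p.Prime).one_lt.ne' (Nat.dvd_one.mp this)

/-- Let F be an extremely sparse fusion system over a finite p-group S (saturated, not the inner system, and every saturated fusion system over any subgroup T of S contained in F is F itself or the inner system of T). Then S is normal in F, the focal and hyperfocal subgroups of F are both S, and Aut_F(S) is generated by the inner automorphisms of S together with a single automorphism of prime order q ≠ p (F is the fusion system of the semidirect product of S by a cyclic group of prime order). -/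
theorem result {Ω : Type*} [Group Ω] {S : Subgroup Ω} [Finite S] (p : ℕ) [Fact p.Prime] (hS : IsPGroup p S) (F : Cfsg.FusionSystem S) (hF : F.IsSaturated p) (hxs : ¬ (∀ P : Subgroup Ω, F.Hom P = (Cfsg.innerFusionSystem S).Hom P) ∧ ∀ (T : Subgroup Ω) (E : Cfsg.FusionSystem T), E.IsSaturated p → E.IsSubsystemOf F → (T = S ∧ ∀ P : Subgroup Ω, E.Hom P = F.Hom P) ∨ (∀ P : Subgroup Ω, E.Hom P = (Cfsg.innerFusionSystem T).Hom P)) : F.IsNormal S ∧ F.focalSubgroup = S ∧ F.hyperfocalSubgroup p = S ∧ ∃ (q : ℕ) (β : MulAut ↥S), q.Prime ∧ q ≠ p ∧ β ∈ F.autGroup S ∧ orderOf β = q ∧ (F.autGroup S : Subgroup (MulAut ↥S)) = Cfsg.Inn ↥S ⊔ Subgroup.zpowers β := by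
  obtain ⟨hnin, hsparse⟩ := hxs
  -- some `Aut_F(P)` is not a `p`-group
  have hex : ∃ P : Subgroup Ω, P ≤ S ∧ ¬ IsPGroup p (F.autGroup P) := by
    by_contra hno
    apply hnin
    have h1 := Cfsg.Agent.S5083.result p hS F hF
      (fun P hP => by
        by_contra h
        exact hno ⟨P, hP, h⟩)
    intro P
    rw [h1]
  obtain ⟨P, hPS, hnp⟩ := hex
  have hPfin : Finite P := Helper87.finite_of_le hPS
  have : Finite (MulAut P) := inferInstance
  obtain ⟨β₀, q, hq, hqp, hβ₀⟩ := exists_prime_order_of_not_isPGroup hnp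
  have hβP : orderOf (β₀ : MulAut P) = q := by rw [Subgroup.orderOf_coe]; exact hβ₀
  have hB : Inn P ⊔ Subgroup.zpowers (β₀ : MulAut P) ≤ F.autGroup P :=
    sup_le (Helper89.inn_le_autGroup F hPS) ((Subgroup.zpowers_le).mpr β₀.2)
  have hsat := Helper89.autSystem_saturated (hS.to_le hPS) (β₀ : MulAut P) q hq hqp hβP
  have hsub := Helper89.autSystem_isSubsystemOf F hPS _ le_sup_left hB
  rcases hsparse P _ hsat hsub with ⟨hPeq, hEF⟩ | hinner
  swap
  · exact absurd hinner (autSystem_ne_inner (hS.to_le hPS) _ q hq hqp hβP _ _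
      (Subgroup.mem_sup_right (Subgroup.mem_zpowers _)))
  subst hPeq
  set β : MulAut P := (β₀ : MulAut P) with hβdef
  have hβF : β ∈ F.autGroup P := β₀.2
  have hBeq : F.autGroup P = Inn P ⊔ Subgroup.zpowers β := by
    rw [← Helper89.autGroup_autSystem P (Inn P ⊔ Subgroup.zpowers β) le_sup_left]
    ext α
    rw [Helper89.mem_autGroup_iff F le_rfl, Helper89.mem_autGroup_iff _ le_rfl, hEF P]
  -- the commutator subgroup `[S, β]`
  let T : Subgroup Ω := Subgroup.closure {y : Ω | ∃ x : P, y = (x : Ω)⁻¹ * ((β x : P) : Ω)}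
  have hTS : T ≤ P := by
    rw [Subgroup.closure_le]
    rintro _ ⟨x, rfl⟩
    exact P.mul_mem (P.inv_mem x.2) (β x).2
  have hcT : ∀ x : P, (x : Ω)⁻¹ * ((β x : P) : Ω) ∈ T := fun x => Subgroup.subset_closure ⟨x, rfl⟩
  have hThyp : T ≤ F.hyperfocalSubgroup p := by
    rw [Subgroup.closure_le]
    rintro _ ⟨x, rfl⟩
    apply Subgroup.subset_closure
    refine ⟨P, ⟨β, hβF⟩, x, le_rfl, ?_, rfl⟩
    apply Subgroup.subset_closure
    show (orderOf (⟨β, hβF⟩ : F.autGroup P)).Coprime p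
    rw [Subgroup.orderOf_mk, hβP]
    exact (Nat.coprime_primes hq (Fact.out : p.Prime)).mpr hqp
  have hTfoc : T ≤ F.focalSubgroup := by
    rw [Subgroup.closure_le]
    rintro _ ⟨x, rfl⟩
    apply Subgroup.subset_closure
    exact ⟨P, P.subtype.comp β.toMonoidHom, x, (Helper89.mem_autGroup_iff F le_rfl β).mp hβF, rfl⟩
  have hfocS : F.focalSubgroup ≤ P := by
    unfold FusionSystem.focalSubgroup
    rw [Subgroup.closure_le]
    rintro _ ⟨R, φ, x, hφ, rfl⟩
    exact P.mul_mem (P.inv_mem (Helper87.hom_le F hφ x.2)) (Helper87.hom_mem F hφ x)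
  have hTeq : T = P := by
    by_contra hTne
    -- `T` is `β`-invariant
    have hTinv : ∀ y : Ω, y ∈ T → ∃ hy : y ∈ P, ((β ⟨y, hy⟩ : P) : Ω) ∈ T := by
      intro y hy
      induction hy using Subgroup.closure_induction with
      | mem y hy =>
        obtain ⟨x, rfl⟩ := hy
        refine ⟨P.mul_mem (P.inv_mem x.2) (β x).2, ?_⟩
        have h1 : (⟨(x : Ω)⁻¹ * ((β x : P) : Ω), P.mul_mem (P.inv_mem x.2) (β x).2⟩ : P) = x⁻¹ * β x := rfl
        rw [h1, map_mul, map_inv]
        exact hcT (β x)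
      | one =>
        refine ⟨P.one_mem, ?_⟩
        have : (⟨1, P.one_mem⟩ : P) = 1 := rfl
        rw [this, map_one]
        exact Subgroup.one_mem _
      | mul a b _ _ ha hb =>
        obtain ⟨haP, ha'⟩ := ha
        obtain ⟨hbP, hb'⟩ := hb
        refine ⟨P.mul_mem haP hbP, ?_⟩
        have : (⟨a * b, P.mul_mem haP hbP⟩ : P) = ⟨a, haP⟩ * ⟨b, hbP⟩ := rfl
        rw [this, map_mul]
        exact Subgroup.mul_mem _ ha' hb'
      | inv a _ ha =>
        obtain ⟨haP, ha'⟩ := ha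
        refine ⟨P.inv_mem haP, ?_⟩
        have : (⟨a⁻¹, P.inv_mem haP⟩ : P) = (⟨a, haP⟩ : P)⁻¹ := rfl
        rw [this, map_inv]
        exact Subgroup.inv_mem _ ha'
    have hTfin : Finite T := Helper87.finite_of_le hTS
    have hφT := Helper87.restrict_mem F hTS ((Helper89.mem_autGroup_iff F le_rfl β).mp hβF)
    have hrange : ((P.subtype.comp β.toMonoidHom).comp (Subgroup.inclusion hTS)).range = T := by
      apply Subgroup.eq_of_le_of_card_ge
      · rintro _ ⟨x, rfl⟩
        obtain ⟨_, h⟩ := hTinv x x.2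
        exact h
      · rw [Helper89.card_range_eq F hφT]
    obtain ⟨β', hβ'F, hβ'⟩ := Helper89.exists_aut_of_range_eq F hφT hrange
    have hβ'x : ∀ x : T, ((β' x : T) : Ω) = ((β ⟨x, hTS x.2⟩ : P) : Ω) := fun x => hβ' x
    have hpow : ∀ (k : ℕ) (x : T), (((β' ^ k) x : T) : Ω) = (((β ^ k) ⟨x, hTS x.2⟩ : P) : Ω) := by
      intro k
      induction k with
      | zero => intro x; simp
      | succ k ih =>
        intro x
        rw [pow_succ', MulAut.mul_apply, hβ'x, pow_succ', MulAut.mul_apply]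
        have : (⟨(((β' ^ k) x : T) : Ω), hTS ((β' ^ k) x).2⟩ : P) = (β ^ k) ⟨x, hTS x.2⟩ :=
          Subtype.ext (ih x)
        rw [this]
    have hβ'q : β' ^ q = 1 := by
      ext x
      rw [hpow q x, ← hβP, pow_orderOf_eq_one]
      rfl
    have hord : orderOf β' ∣ q := orderOf_dvd_of_pow_eq_one hβ'q
    rcases (Nat.dvd_prime hq).mp hord with h1 | h1
    · -- `β` fixes `T` pointwise, so `β = 1`
      have hβ'1 : β' = 1 := orderOf_eq_one_iff.mp h1
      have hfix : ∀ x : P, β (x⁻¹ * β x) = x⁻¹ * β x := by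
        intro x
        have h2 := hβ'x ⟨_, hcT x⟩
        rw [hβ'1] at h2
        apply Subtype.ext
        exact h2.symm
      have hβ1 : β = 1 := by
        apply Helper89.eq_one_of_iterate_comm (hS) β q
          ((Nat.coprime_primes hq (Fact.out : p.Prime)).mpr hqp) (by rw [← hβP]; exact pow_orderOf_eq_one β) 2
        intro x
        show (x⁻¹ * β x)⁻¹ * β (x⁻¹ * β x) = 1
        rw [hfix x]; group
      rw [hβ1, orderOf_one] at hβP
      exact hq.one_lt.ne hβP
    · have hB' : Inn T ⊔ Subgroup.zpowers β' ≤ F.autGroup T :=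
        sup_le (Helper89.inn_le_autGroup F hTS) ((Subgroup.zpowers_le).mpr hβ'F)
      have hsat' := Helper89.autSystem_saturated (hS.to_le hTS) β' q hq hqp h1
      have hsub' := Helper89.autSystem_isSubsystemOf F hTS _ le_sup_left hB'
      rcases hsparse T _ hsat' hsub' with ⟨hTeq, -⟩ | hinner
      · exact hTne hTeq
      · exact autSystem_ne_inner (hS.to_le hTS) _ q hq hqp h1 _ _
          (Subgroup.mem_sup_right (Subgroup.mem_zpowers _)) hinner
  refine ⟨⟨le_rfl, fun R φ hφ => ?_⟩, ?_, ?_, q, β, hq, hqp, hβF, hβP, hBeq⟩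
  · rw [← hEF R] at hφ
    obtain ⟨hR, γ, hγ, h⟩ := hφ
    have hγF : γ ∈ F.autGroup P := hB hγ
    have hle : R ⊔ P ≤ P := sup_le hR le_rfl
    refine ⟨(P.subtype.comp γ.toMonoidHom).comp (Subgroup.inclusion hle),
      Helper87.restrict_mem F hle ((Helper89.mem_autGroup_iff F le_rfl γ).mp hγF), fun x => (h x).symm, ?_⟩
    ext y
    constructor
    · rintro ⟨z, -, rfl⟩
      exact (γ _).2
    · intro hy
      refine ⟨⟨((γ⁻¹ ⟨y, hy⟩ : P) : Ω), (le_sup_right : P ≤ R ⊔ P) (γ⁻¹ ⟨y, hy⟩).2⟩,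
        Subgroup.mem_subgroupOf.mpr (γ⁻¹ ⟨y, hy⟩).2, ?_⟩
      show ((γ (Subgroup.inclusion hle ⟨((γ⁻¹ ⟨y, hy⟩ : P) : Ω), _⟩) : P) : Ω) = y
      have : Subgroup.inclusion hle ⟨((γ⁻¹ ⟨y, hy⟩ : P) : Ω), (le_sup_right : P ≤ R ⊔ P) (γ⁻¹ ⟨y, hy⟩).2⟩ =
          γ⁻¹ ⟨y, hy⟩ := Subtype.ext rfl
      rw [this]; simp
  · exact le_antisymm hfocS (hTeq.symm.le.trans hTfoc)
  · exact le_antisymm (Helper88.hyperfocalSubgroup_le F p) (hTeq.symm.le.trans hThyp)

end Cfsg.Agent.S5245
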