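import Cfsg.Statements.S5246
import Cfsg.Agent.Lib.Helper87.FusionGroup
import Cfsg.Agent.Lib.Helper87.FusionSaturated
import Cfsg.Agent.Lib.Helper15.Cores
import Cfsg.Agent.Lib.Helper16.ZJ4

set_option autoImplicit false
open Cfsg

namespace Cfsg.Agent.S5246

open Cfsg.FusionSystem Cfsg.Agent.Lib.Helper87
open scoped commutatorElement

section Aux

variable {G : Type*} [Group G]

/-- `Aut_F(Q)` for `F = F_S(G)` and `Q ≤ S` is the image of `N_G(Q)` in `Aut(Q)`. -/
theorem autGroup_eq_range [Finite G] (S : Subgroup G) {Q : Subgroup G} (hQ : Q ≤ S) :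
    (groupFusionSystem S).autGroup Q = (Subgroup.normalizerMonoidHom Q).range := by
  ext α
  rw [mem_autGroup_iff _ hQ]
  constructor
  · rintro ⟨-, -, g, hg⟩
    have hg' : ∀ x : Q, ((α x : Q) : G) = g * x * g⁻¹ := hg
    have hgN : g ∈ Subgroup.normalizer (Q : Set G) :=
      mem_normalizer_of_conj_mem (fun y hy => by
        rw [← hg' ⟨y, hy⟩]; exact (α ⟨y, hy⟩).2)
    refine ⟨⟨g, hgN⟩, ?_⟩
    ext x
    exact (hg' x).symm
  · rintro ⟨n, rfl⟩
    exact ⟨hQ, fun x => hQ (Subtype.prop _), n, fun x => rfl⟩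

/-- Transport of the `p`-core along an equality of subgroups. -/
theorem pCore_map_subtype_congr {X : Type*} [Group X] (p : ℕ) {A B : Subgroup X} (h : A = B) :
    (pCore p A).map A.subtype = (pCore p B).map B.subtype := by
  subst h; rfl

/-- The image of `n ∈ N(Q)` in `N(Q)/C(Q)` lies in `O_p` iff conjugation by `n` lies in
`O_p` of the image of `N(Q)` in `Aut(Q)`. -/
theorem mk_mem_pCore_iff (p : ℕ) (Q : Subgroup G) (n : Subgroup.normalizer (Q : Set G)) :
    (QuotientGroup.mk n : ↥(Subgroup.normalizer (Q : Set G)) ⧸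
        (Subgroup.centralizer (Q : Set G)).subgroupOf (Subgroup.normalizer (Q : Set G))) ∈
      pCore p _ ↔
    Subgroup.normalizerMonoidHom Q n ∈
      (pCore p (Subgroup.normalizerMonoidHom Q).range).map
        (Subgroup.normalizerMonoidHom Q).range.subtype := by
  have hker := Subgroup.normalizerMonoidHom_ker (H := Q)
  let E : (↥(Subgroup.normalizer (Q : Set G)) ⧸
        (Subgroup.centralizer (Q : Set G)).subgroupOf (Subgroup.normalizer (Q : Set G))) ≃*
      (Subgroup.normalizerMonoidHom Q).range :=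
    (QuotientGroup.quotientMulEquivOfEq hker.symm).trans
      (QuotientGroup.quotientKerEquivRange (Subgroup.normalizerMonoidHom Q))
  have hE : ∀ m : Subgroup.normalizer (Q : Set G),
      ((E (QuotientGroup.mk m) : (Subgroup.normalizerMonoidHom Q).range) : MulAut Q) =
        Subgroup.normalizerMonoidHom Q m := fun m => rfl
  have hmap := Cfsg.Agent.Lib.Helper15.pCore_map_equiv p E
  constructor
  · intro h
    refine ⟨E (QuotientGroup.mk n), ?_, hE n⟩
    rw [← hmap]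
    exact ⟨_, h, rfl⟩
  · rintro ⟨y, hy, hyn⟩
    rw [← hmap] at hy
    obtain ⟨z, hz, hzy⟩ := hy
    have : E z = E (QuotientGroup.mk n) := by
      apply Subtype.ext
      rw [hE n, ← hyn, ← hzy]
      rfl
    rw [← E.injective this]
    exact hz

theorem commute_commutator_pow {Q : Subgroup G} {h : G}
    (hh : ∀ a ∈ Q, Commute h ⁅a, h⁆) (a : G) (ha : a ∈ Q) (k : ℕ) : Commute h ⁅a, h ^ k⁆ := by
  induction k with
  | zero => simp [commutatorElement_def]
  | succ k ih =>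
    have e : ⁅a, h ^ (k + 1)⁆ = ⁅a, h⁆ * (h * ⁅a, h ^ k⁆ * h⁻¹) := by
      simp only [commutatorElement_def, pow_succ']
      group
    rw [e]
    apply Commute.mul_right (hh a ha)
    have : h * ⁅a, h ^ k⁆ * h⁻¹ = ⁅a, h ^ k⁆ := by
      rw [ih.eq, mul_inv_cancel_right]
    rw [this]
    exact ih

/-- The elementwise quadratic condition for conjugation by `g ∈ N(Q)` is `[Q, g, g] = 1`. -/
theorem quadratic_iff (Q : Subgroup G) (g : G) (hg : g ∈ Subgroup.normalizer (Q : Set G)) :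
    (∀ a : Q, (Subgroup.normalizerMonoidHom Q ⟨g, hg⟩ a⁻¹) * a *
        (Subgroup.normalizerMonoidHom Q ⟨g, hg⟩ a⁻¹) *
        (Subgroup.normalizerMonoidHom Q ⟨g, hg⟩ (Subgroup.normalizerMonoidHom Q ⟨g, hg⟩ a)) = 1) ↔
      ⁅⁅Q, Subgroup.zpowers g⁆, Subgroup.zpowers g⁆ = ⊥ := by
  have key : ∀ a : Q, ((Subgroup.normalizerMonoidHom Q ⟨g, hg⟩ a⁻¹) * a *
        (Subgroup.normalizerMonoidHom Q ⟨g, hg⟩ a⁻¹) *
        (Subgroup.normalizerMonoidHom Q ⟨g, hg⟩ (Subgroup.normalizerMonoidHom Q ⟨g, hg⟩ a)) = 1) ↔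
      Commute g ⁅(a : G)⁻¹, g⁆ := by
    intro a
    rw [← Subtype.coe_inj]
    show g * (a : G)⁻¹ * g⁻¹ * (a : G) * (g * (a : G)⁻¹ * g⁻¹) * (g * (g * (a : G) * g⁻¹) * g⁻¹) = 1 ↔ _
    rw [commutatorElement_def, inv_inv]
    constructor
    · intro h
      show g * ((a : G)⁻¹ * g * (a : G) * g⁻¹) = ((a : G)⁻¹ * g * (a : G) * g⁻¹) * g
      have h2 : g * (a : G)⁻¹ * g⁻¹ * (a : G) * (g * (a : G)⁻¹ * g⁻¹) * (g * (g * (a : G) * g⁻¹) * g⁻¹)
          = g * (a : G)⁻¹ * g⁻¹ * (a : G) * (g * ((a : G)⁻¹ * g * (a : G) * g⁻¹)) * g⁻¹ := by group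
      rw [h2] at h
      have h3 : g * ((a : G)⁻¹ * g * (a : G) * g⁻¹)
          = ((a : G)⁻¹ * g * (a : G) * g⁻¹) *
            ((g * (a : G)⁻¹ * g⁻¹ * (a : G) * (g * ((a : G)⁻¹ * g * (a : G) * g⁻¹)) * g⁻¹)) * g := by
        group
      rw [h3, h, mul_one]
    · intro h
      have h' : g * ((a : G)⁻¹ * g * (a : G) * g⁻¹) = ((a : G)⁻¹ * g * (a : G) * g⁻¹) * g := h
      have h2 : g * (a : G)⁻¹ * g⁻¹ * (a : G) * (g * (a : G)⁻¹ * g⁻¹) * (g * (g * (a : G) * g⁻¹) * g⁻¹)
          = g * (a : G)⁻¹ * g⁻¹ * (a : G) * (g * ((a : G)⁻¹ * g * (a : G) * g⁻¹)) * g⁻¹ := by group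
      rw [h2, h']
      group
  constructor
  · intro h
    have hcomm : ∀ a ∈ Q, Commute g ⁅a, g⁆ := by
      intro a ha
      have := (key ⟨a⁻¹, Q.inv_mem ha⟩).mp (h _)
      simpa using this
    have hcomm' : ∀ a ∈ Q, Commute g⁻¹ ⁅a, g⁻¹⁆ := by
      intro a ha
      have e : ⁅a, g⁻¹⁆ = g⁻¹ * ⁅a, g⁆⁻¹ * g := by
        simp only [commutatorElement_def]; group
      rw [e]
      have h1 : Commute g ⁅a, g⁆⁻¹ := (hcomm a ha).inv_right
      have h2 : g⁻¹ * ⁅a, g⁆⁻¹ * g = ⁅a, g⁆⁻¹ := by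
        rw [mul_assoc, ← h1.eq, inv_mul_cancel_left]
      rw [h2]
      exact h1.inv_left
    rw [Subgroup.commutator_eq_bot_iff_le_centralizer, Subgroup.commutator_le]
    intro a ha z hz
    obtain ⟨k, rfl⟩ := Subgroup.mem_zpowers_iff.mp hz
    rw [Subgroup.mem_centralizer_iff]
    intro w hw
    obtain ⟨m, rfl⟩ := Subgroup.mem_zpowers_iff.mp hw
    have hc : Commute g ⁅a, g ^ k⁆ := by
      rcases Int.eq_nat_or_neg k with ⟨n, rfl | rfl⟩
      · rw [zpow_natCast]
        exact commute_commutator_pow hcomm a ha n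
      · rw [zpow_neg, zpow_natCast, ← inv_pow]
        have := commute_commutator_pow hcomm' a ha n
        exact (Commute.inv_left_iff.mp this)
    exact (hc.zpow_left m).eq
  · intro h a
    rw [key a]
    rw [Subgroup.commutator_eq_bot_iff_le_centralizer] at h
    have h1 : ⁅(a : G)⁻¹, g⁆ ∈ ⁅Q, Subgroup.zpowers g⁆ :=
      Subgroup.commutator_mem_commutator (Q.inv_mem a.2) (Subgroup.mem_zpowers g)
    have h2 := Subgroup.mem_centralizer_iff.mp (h h1) g (Subgroup.mem_zpowers g)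
    exact h2

end Aux

/-- Let p be an odd prime, G a finite group and P a Sylow p-subgroup. Call a fusion system F p-stable when, for every fully normalized subgroup Q and every χ ∈ Aut_F(Q) acting quadratically on Q (that is, χ fixes a⁻¹χ(a) for every a ∈ Q; equivalently χ(a⁻¹)·a·χ(a⁻¹)·χ(χ(a)) = 1), χ lies in O_p(Aut_F(Q)). Then G is p-stable in the normalizer form (for every p-subgroup Q and x ∈ N_G(Q) with [Q, x, x] = 1, the image of x lies in O_p(N_G(Q)/C_G(Q))) if and only if the fusion system of G on P is p-stable. -/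
theorem result {Ω : Type*} [Group Ω] [Finite Ω] {p : ℕ} [Fact p.Prime] (hp : p ≠ 2) (P : Sylow p Ω) : Cfsg.IsNormalizerPStable p Ω ↔ (∀ Q : Subgroup Ω, (Cfsg.groupFusionSystem (P : Subgroup Ω)).IsFullyNormalized Q → ∀ χ : MulAut ↥Q, χ ∈ (Cfsg.groupFusionSystem (P : Subgroup Ω)).autGroup Q → (∀ a : ↥Q, (χ a⁻¹) * a * (χ a⁻¹) * (χ (χ a)) = 1) → χ ∈ ((Cfsg.pCore p ↥((Cfsg.groupFusionSystem (P : Subgroup Ω)).autGroup Q)).map ((Cfsg.groupFusionSystem (P : Subgroup Ω)).autGroup Q).subtype : Subgroup (MulAut ↥Q))) := by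
  constructor
  · intro hst Q hQ χ hχ hquad
    have hQP : Q ≤ (P : Subgroup Ω) := hQ.1
    have hQp : IsPGroup p Q := P.isPGroup'.to_le hQP
    have hrange := autGroup_eq_range (P : Subgroup Ω) hQP
    rw [pCore_map_subtype_congr p hrange]
    rw [hrange] at hχ
    obtain ⟨⟨g, hg⟩, rfl⟩ := hχ
    rw [← mk_mem_pCore_iff]
    exact hst Q hQp g hg ((quadratic_iff Q g hg).mp hquad)
  · intro hF Q₀ hQ₀ g hg hquad
    obtain ⟨h, hh⟩ := exists_conj_le_sylow P hQ₀
    obtain ⟨Q, hconj, hQfn⟩ := exists_isFullyNormalized (groupFusionSystem (P : Subgroup Ω)) hh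
    obtain ⟨-, hQP, k, hk⟩ := groupFusion_isConj_iff.mp hconj
    have hk' : Q₀.map (MulAut.conj (k * h)).toMonoidHom = Q := by
      rw [← hk, Subgroup.map_map]
      congr 1
      ext x
      simp [mul_assoc]
    subst hk'
    -- the transported element
    have hx := Cfsg.Agent.Lib.Helper16.ZJ.normHom (MulAut.conj (k * h)).toMonoidHom Q₀ ⟨g, hg⟩
    have hrange := autGroup_eq_range (P : Subgroup Ω) hQP
    have hquad' : ⁅⁅Q₀.map (MulAut.conj (k * h)).toMonoidHom,
        Subgroup.zpowers ((MulAut.conj (k * h)).toMonoidHom g)⁆,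
        Subgroup.zpowers ((MulAut.conj (k * h)).toMonoidHom g)⁆ = ⊥ := by
      rw [← MonoidHom.map_zpowers, ← Subgroup.map_commutator, ← Subgroup.map_commutator, hquad,
        Subgroup.map_bot]
    have hmem := (Cfsg.Agent.Lib.Helper16.ZJ.normHom (MulAut.conj (k * h)).toMonoidHom Q₀ ⟨g, hg⟩).2
    have hχmem : Subgroup.normalizerMonoidHom (Q₀.map (MulAut.conj (k * h)).toMonoidHom)
        (Cfsg.Agent.Lib.Helper16.ZJ.normHom (MulAut.conj (k * h)).toMonoidHom Q₀ ⟨g, hg⟩) ∈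
        (groupFusionSystem (P : Subgroup Ω)).autGroup (Q₀.map (MulAut.conj (k * h)).toMonoidHom) := by
      rw [hrange]
      exact ⟨_, rfl⟩
    have h1 := hF _ hQfn _ hχmem
      ((quadratic_iff _ ((MulAut.conj (k * h)).toMonoidHom g) hmem).mpr hquad')
    rw [pCore_map_subtype_congr p hrange, ← mk_mem_pCore_iff] at h1
    refine Cfsg.Agent.Lib.Helper16.ZJ.mem_pCore_of_inj (MulAut.conj (k * h)).toMonoidHom Q₀ ?_ h1
    intro x _ hx
    rw [Subgroup.mem_centralizer_iff] at hx ⊢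
    intro y hy
    have := hx ((MulAut.conj (k * h)).toMonoidHom y) ⟨y, hy, rfl⟩
    rw [← map_mul, ← map_mul] at this
    exact (MulAut.conj (k * h)).injective this

end Cfsg.Agent.S5246
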