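import Cfsg.Statements.S5247
import Cfsg.Agent.Lib.Helper90.PStabFus
import Cfsg.Agent.Lib.Helper90.GTBasic

set_option autoImplicit false
open Cfsg

namespace Cfsg.Agent.S5247

/-- Let p be an odd prime and F a saturated fusion system over a finite p-group S. Call a fusion system E (over any subgroup) p-stable when, for every fully E-normalized subgroup Q and every χ ∈ Aut_E(Q) with χ(a⁻¹)·a·χ(a⁻¹)·χ(χ(a)) = 1 for all a ∈ Q (χ acts quadratically), χ lies in O_p(Aut_E(Q)). Then F is p-stable if and only if every normalizer fusion system N_F(R) of every non-cyclic fully F-normalized subgroup R of S is p-stable. -/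
theorem result {Ω : Type*} [Group Ω] {S : Subgroup Ω} [Finite S] (p : ℕ) [Fact p.Prime] (hS : IsPGroup p S) (F : Cfsg.FusionSystem S) (hF : F.IsSaturated p) (hp : p ≠ 2) : (∀ Q : Subgroup Ω, F.IsFullyNormalized Q → ∀ χ : MulAut ↥Q, χ ∈ F.autGroup Q → (∀ a : ↥Q, (χ a⁻¹) * a * (χ a⁻¹) * (χ (χ a)) = 1) → χ ∈ ((Cfsg.pCore p ↥(F.autGroup Q)).map (F.autGroup Q).subtype : Subgroup (MulAut ↥Q))) ↔ ∀ R : Subgroup Ω, F.IsFullyNormalized R → ¬ IsCyclic ↥R → ∀ N : Cfsg.FusionSystem (Cfsg.FusionSystem.normalizerIn S R), F.IsNormalizerSystem R N → (∀ Q : Subgroup Ω, N.IsFullyNormalized Q → ∀ χ : MulAut ↥Q, χ ∈ N.autGroup Q → (∀ a : ↥Q, (χ a⁻¹) * a * (χ a⁻¹) * (χ (χ a)) = 1) → χ ∈ ((Cfsg.pCore p ↥(N.autGroup Q)).map (N.autGroup Q).subtype : Subgroup (MulAut ↥Q))) := by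
  open Cfsg.Agent.Lib.Helper90.PSF in
  constructor
  · intro hst R _ _ N hN
    exact Stable.normalizerSystem (F := F) hst R N hN
  · intro h Q hfn χ hχ hq
    have hQS : Q ≤ S := hfn.1
    haveI : Finite ↥Q := Cfsg.Agent.Lib.Helper87.finite_of_le hQS
    by_cases hc : IsCyclic ↥Q
    · -- cyclic case: `Aut(Q)` is abelian and `χ` is a `p`-element
      have hcomm : ∀ a b : MulAut ↥Q, a * b = b * a := by
        intro a b
        apply (IsCyclic.mulAutMulEquiv ↥Q).injective
        rw [map_mul, map_mul, mul_comm]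
      have hQp : IsPGroup p ↥Q := hS.to_le hQS
      obtain ⟨k, hk⟩ := IsPGroup.iff_card.mp hQp
      have hpow : χ ^ p ^ k = 1 := by
        rw [← hk]
        exact Quad.pow_card hq
      have hM : IsPGroup p ↥(Subgroup.zpowers χ) := isPGroup_zpowers_of_pow_eq_one hpow
      have hle : Subgroup.zpowers χ ≤ F.autGroup Q := by
        rw [Subgroup.zpowers_le]
        exact hχ
      have := le_OpOf (p := p) hle hM (by
        intro k' _ m hm
        rw [hcomm k' m, mul_inv_cancel_right]
        exact hm)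
      exact this (Subgroup.mem_zpowers χ)
    · -- non-cyclic case: use the normalizer system of `Q`
      let N := Cfsg.Agent.Lib.Helper87.normalizerSystem F Q hQS
      have hN : F.IsNormalizerSystem Q N :=
        Cfsg.Agent.Lib.Helper87.normalizerSystem_isNormalizerSystem F Q hQS
      have hQN : Q ≤ Cfsg.FusionSystem.normalizerIn S Q := Cfsg.Agent.Lib.Helper87.le_normalizerIn hQS
      have hfnN : N.IsFullyNormalized Q := by
        refine ⟨hQN, ?_⟩
        intro Q' hconj
        have := Cfsg.Agent.Lib.Helper87.conj_eq_self_of_isNormalizerSystem F Q N hN hconj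
        rw [this]
      have hχN : χ ∈ N.autGroup Q := by
        rw [Cfsg.Agent.Lib.Helper87.mem_autGroup_iff N hQN]
        rw [hN Q]
        have hχF := (Cfsg.Agent.Lib.Helper87.mem_autGroup_iff F hQS).mp hχ
        apply Cfsg.Agent.Lib.Helper90.GT.mem_normalizerHom_of_le F hχF le_rfl hQN
        ext y
        constructor
        · rintro ⟨x, -, rfl⟩
          exact (χ x).2
        · intro hy
          refine ⟨χ.symm ⟨y, hy⟩, Subgroup.mem_subgroupOf.mpr (χ.symm ⟨y, hy⟩).2, ?_⟩
          show ((χ (χ.symm ⟨y, hy⟩) : Q) : Ω) = y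
          rw [MulEquiv.apply_symm_apply]
      have h1 := h Q hfn hc N hN Q hfnN χ hχN hq
      have hsub : N.autGroup Q ≤ F.autGroup Q :=
        Cfsg.Agent.Lib.Helper88.autGroup_le_of_sub N F (isSubsystemOf_of_isNormalizerSystem F Q N hN) Q
      have hsup : F.autGroup Q ≤ N.autGroup Q := by
        intro α hα
        rw [Cfsg.Agent.Lib.Helper87.mem_autGroup_iff N hQN]
        rw [hN Q]
        have hαF := (Cfsg.Agent.Lib.Helper87.mem_autGroup_iff F hQS).mp hα
        apply Cfsg.Agent.Lib.Helper90.GT.mem_normalizerHom_of_le F hαF le_rfl hQN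
        ext y
        constructor
        · rintro ⟨x, -, rfl⟩
          exact (α x).2
        · intro hy
          refine ⟨α.symm ⟨y, hy⟩, Subgroup.mem_subgroupOf.mpr (α.symm ⟨y, hy⟩).2, ?_⟩
          show ((α (α.symm ⟨y, hy⟩) : Q) : Ω) = y
          rw [MulEquiv.apply_symm_apply]
      have heq : N.autGroup Q = F.autGroup Q := le_antisymm hsub hsup
      have h2 : χ ∈ OpOf p (N.autGroup Q) := h1
      rw [heq] at h2
      exact h2

end Cfsg.Agent.S5247
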