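import Cfsg.Statements.S5249
import Cfsg.Agent.Lib.Helper57.FusSolv
import Cfsg.Agent.Lib.Helper16.QdStable

set_option autoImplicit false
open Cfsg

namespace Cfsg.Agent.S5249

/-- Let p be an odd prime, G a finite group in which Qd(p) (the natural semidirect product of an elementary abelian group of order p² by SL₂(p)) is not involved, and P a Sylow p-subgroup of G. Then the fusion system of G on P is a solvable fusion system. -/
theorem result {G : Type*} [Group G] [Finite G] {p : ℕ} [Fact p.Prime] (hp : p ≠ 2) (hqd : ¬ Cfsg.Involves ↥(Cfsg.qd p) G) (P : Sylow p G) : (Cfsg.groupFusionSystem (P : Subgroup G)).IsSolvableSystem := by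
  have hQ := Cfsg.Agent.Lib.Helper57.GT.goodFam_comm (p := p)
  have hS : Cfsg.Agent.Lib.Helper57.GT.StabClass p _
      (fun (X : Type _) [Group X] => ¬ Cfsg.Involves ↥(Cfsg.qd p) X) :=
    Cfsg.Agent.Lib.Helper57.GT.stabClass_of_free ↥(Cfsg.qd p) (fun X _ _ hX hc P D hD =>
      Cfsg.Agent.Lib.Helper16.ZJ.WW_normal_sc hp (hQ.good X) hc P
        (Cfsg.Agent.Lib.Helper16.QdStable.stableFor_of_qd_free hp hX (P : Subgroup X)) D hD)
  apply Cfsg.Agent.Lib.Helper57.GT.isSolvableSystem_of_ctl hQ P
  intro R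
  apply Cfsg.Agent.Lib.Helper57.GT.ctlAll_of_stabClass hQ hS
  exact Cfsg.Agent.Lib.Helper57.GT.not_involves_quotient
    (Cfsg.Agent.Lib.Helper57.GT.not_involves_subgroup hqd _) _

end Cfsg.Agent.S5249
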