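import Cfsg.Statements.S5255
import Cfsg.Agent.S5077
import Cfsg.Agent.S5082
import Cfsg.Agent.Lib.Helper90.FusionPres
import Cfsg.Agent.Lib.Helper90.SylowNormal
import Cfsg.Agent.Lib.Helper90.FusionExt

set_option autoImplicit false
open Cfsg

namespace Cfsg.Agent.S5255

open Cfsg.Agent.Lib.Helper87 hiding mem_autGroup_iff mem_autInducedBy_iff autInducedBy_le_autGroup mem_normalizer_of_conj_eq isPGroup_autInducedBy
open Cfsg.Agent.Lib.Helper90 Cfsg.FusionSystem
open scoped Pointwise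

variable {Ω : Type*} [Group Ω] {S : Subgroup Ω}

/-- `s` acts on `T` by conjugation as an inner automorphism of `T`. -/
def InnOn (T : Subgroup Ω) (s : Ω) : Prop := ∃ t ∈ T, ∀ y ∈ T, s * y * s⁻¹ = t * y * t⁻¹

theorem mem_TC_iff (T : Subgroup Ω) (hTS : T ≤ S) (s : Ω) :
    s ∈ T ⊔ centralizerIn S T ↔ s ∈ S ∧ InnOn T s := by
  have hCN : centralizerIn S T ≤ Subgroup.normalizer (T : Set Ω) :=
    inf_le_right.trans (Subgroup.centralizer_le_normalizer (T : Set Ω))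
  have hset := Subgroup.coe_mul_of_right_le_normalizer_left T (centralizerIn S T) hCN
  have hmem : s ∈ T ⊔ centralizerIn S T ↔ s ∈ ((T ⊔ centralizerIn S T : Subgroup Ω) : Set Ω) := Iff.rfl
  rw [hmem, hset, Set.mem_mul]
  constructor
  · rintro ⟨t, ht, c, hc, rfl⟩
    have hc' := mem_centralizerIn.mp hc
    refine ⟨S.mul_mem (hTS ht) hc'.1, t, ht, fun y hy => ?_⟩
    have := hc'.2 y hy
    calc t * c * y * (t * c)⁻¹ = t * (c * y) * c⁻¹ * t⁻¹ := by group
      _ = t * (y * c) * c⁻¹ * t⁻¹ := by rw [this]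
      _ = t * y * t⁻¹ := by group
  · rintro ⟨hs, t, ht, hty⟩
    refine ⟨t, ht, t⁻¹ * s, ?_, by group⟩
    rw [SetLike.mem_coe, mem_centralizerIn]
    refine ⟨S.mul_mem (S.inv_mem (hTS ht)) hs, fun y hy => ?_⟩
    have := hty y hy
    calc y * (t⁻¹ * s) = t⁻¹ * (t * y * t⁻¹) * s := by group
      _ = t⁻¹ * (s * y * s⁻¹) * s := by rw [this]
      _ = t⁻¹ * s * y := by group

theorem innOn_conj (T : Subgroup Ω) (hTn : ∀ g ∈ S, ∀ y ∈ T, g * y * g⁻¹ ∈ T) {g x : Ω} (hg : g ∈ S)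
    (hx : InnOn T x) : InnOn T (g * x * g⁻¹) := by
  obtain ⟨t, ht, hty⟩ := hx
  refine ⟨g * t * g⁻¹, hTn g hg t ht, fun y hy => ?_⟩
  have hy' : g⁻¹ * y * g⁻¹⁻¹ ∈ T := hTn g⁻¹ (S.inv_mem hg) y hy
  have := hty _ hy'
  calc g * x * g⁻¹ * y * (g * x * g⁻¹)⁻¹ = g * (x * (g⁻¹ * y * g⁻¹⁻¹) * x⁻¹) * g⁻¹ := by group
    _ = g * (t * (g⁻¹ * y * g⁻¹⁻¹) * t⁻¹) * g⁻¹ := by rw [this]
    _ = g * t * g⁻¹ * y * (g * t * g⁻¹)⁻¹ := by group

theorem TC_conj_iff (T : Subgroup Ω) (hTS : T ≤ S) (hTn : ∀ g ∈ S, ∀ y ∈ T, g * y * g⁻¹ ∈ T) :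
    ∀ g ∈ S, ∀ x : Ω, x ∈ T ⊔ centralizerIn S T ↔ g * x * g⁻¹ ∈ T ⊔ centralizerIn S T := by
  intro g hg x
  rw [mem_TC_iff T hTS, mem_TC_iff T hTS]
  constructor
  · rintro ⟨hx, hi⟩
    exact ⟨S.mul_mem (S.mul_mem hg hx) (S.inv_mem hg), innOn_conj T hTn hg hi⟩
  · rintro ⟨hx, hi⟩
    have h1 := innOn_conj T hTn (S.inv_mem hg) hi
    have e : g⁻¹ * (g * x * g⁻¹) * g⁻¹⁻¹ = x := by group
    rw [e] at h1
    refine ⟨?_, h1⟩
    have := S.mul_mem (S.mul_mem (S.inv_mem hg) hx) (S.inv_mem (S.inv_mem hg))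
    rwa [e] at this

theorem stronglyClosed_conj (F : FusionSystem S) {T : Subgroup Ω} (hT : F.StronglyClosed T) :
    ∀ g ∈ S, ∀ y ∈ T, g * y * g⁻¹ ∈ T := by
  intro g hg y hy
  exact hT.2 T le_rfl (conjHom T g) (F.conj_mem hT.1 hg) ⟨y, hy⟩

/-- An `F`-automorphism of a subgroup `R ≥ T` maps `T` into `T`. -/
theorem aut_maps_T (F : FusionSystem S) {T : Subgroup Ω} (hT : F.StronglyClosed T) {R : Subgroup Ω}
    (hTR : T ≤ R) (α : MulAut R) (hα : R.subtype.comp α.toMonoidHom ∈ F.Hom R) (y : Ω) (hy : y ∈ T) :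
    ((α ⟨y, hTR hy⟩ : R) : Ω) ∈ T :=
  hT.2 T le_rfl _ (restrict_mem F hTR hα) ⟨y, hy⟩

/-- An `F`-automorphism of a subgroup `R ≥ T` preserves `T C_S(T)`. -/
theorem aut_pres_of_le (F : FusionSystem S) {T : Subgroup Ω} (hT : F.StronglyClosed T) {R : Subgroup Ω}
    (hRS : R ≤ S) (hTR : T ≤ R) (α : MulAut R) (hα : R.subtype.comp α.toMonoidHom ∈ F.Hom R) (x : R)
    (hx : (x : Ω) ∈ T ⊔ centralizerIn S T) : ((α x : R) : Ω) ∈ T ⊔ centralizerIn S T := by
  rw [mem_TC_iff T hT.1] at hx ⊢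
  obtain ⟨-, t, ht, hty⟩ := hx
  refine ⟨hRS (α x).2, ((α ⟨t, hTR ht⟩ : R) : Ω), aut_maps_T F hT hTR α hα t ht, fun y hy => ?_⟩
  have hαinv : R.subtype.comp (α⁻¹).toMonoidHom ∈ F.Hom R := by
    rw [← mem_autGroup_iff F hRS]
    exact Subgroup.inv_mem _ ((mem_autGroup_iff F hRS α).mpr hα)
  have hy' : ((α⁻¹ ⟨y, hTR hy⟩ : R) : Ω) ∈ T := aut_maps_T F hT hTR α⁻¹ hαinv y hy
  set y' : R := α⁻¹ ⟨y, hTR hy⟩ with hy'def
  have hyy' : α y' = ⟨y, hTR hy⟩ := by rw [hy'def, MulAut.apply_inv_self]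
  have h1 : x * y' * x⁻¹ = ⟨t, hTR ht⟩ * y' * ⟨t, hTR ht⟩⁻¹ := Subtype.ext (hty _ hy')
  have h2 := congrArg (fun z : R => ((α z : R) : Ω)) h1
  simp only [map_mul, map_inv, hyy'] at h2
  exact h2

/-- In a finite `p`-group `S`, if `T` is normal in `S` and not contained in `R ≤ S`, some element of `T`
outside `R` normalizes `R`. -/
theorem exists_normalizer_not_mem [Finite S] {p : ℕ} [Fact p.Prime] (hS : IsPGroup p S) {T R : Subgroup Ω}
    (hTS : T ≤ S) (hRS : R ≤ S) (hTn : ∀ g ∈ S, ∀ y ∈ T, g * y * g⁻¹ ∈ T) (hTR : ¬ T ≤ R) :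
    ∃ g ∈ T, g ∈ Subgroup.normalizer (R : Set Ω) ∧ g ∉ R := by
  set K : Subgroup Ω := R ⊔ T with hK
  have hKS : K ≤ S := sup_le hRS hTS
  haveI : Finite K := finite_of_le hKS
  have hKp : IsPGroup p K := hS.to_le hKS
  haveI : Group.IsNilpotent K := hKp.isNilpotent
  have hnc : NormalizerCondition K := Group.normalizerCondition_of_isNilpotent
  have hlt : R.subgroupOf K < ⊤ := by
    rw [lt_top_iff_ne_top]
    intro h
    apply hTR
    intro t ht
    have : (⟨t, (le_sup_right : T ≤ K) ht⟩ : K) ∈ R.subgroupOf K := by rw [h]; trivial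
    exact Subgroup.mem_subgroupOf.mp this
  obtain ⟨k, hkN, hkR⟩ := SetLike.exists_of_lt (hnc _ hlt)
  have hRnT : R ≤ Subgroup.normalizer (T : Set Ω) := by
    intro r hr
    rw [Subgroup.mem_normalizer_iff]
    intro y
    constructor
    · intro hy; exact hTn r (hRS hr) y hy
    · intro hy
      have := hTn r⁻¹ (S.inv_mem (hRS hr)) _ hy
      have e : r⁻¹ * (r * y * r⁻¹) * r⁻¹⁻¹ = y := by group
      rwa [e] at this
  have hset := Subgroup.coe_mul_of_left_le_normalizer_right R T hRnT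
  have hk : (k : Ω) ∈ ((R ⊔ T : Subgroup Ω) : Set Ω) := k.2
  rw [hset, Set.mem_mul] at hk
  obtain ⟨r, hr, t, ht, hrt⟩ := hk
  have hkΩ : (k : Ω) ∈ Subgroup.normalizer (R : Set Ω) := by
    rw [Subgroup.mem_normalizer_iff]
    intro x
    rw [Subgroup.mem_normalizer_iff] at hkN
    constructor
    · intro hx
      have := (hkN ⟨x, (le_sup_left : R ≤ K) hx⟩).mp (Subgroup.mem_subgroupOf.mpr hx)
      exact Subgroup.mem_subgroupOf.mp this
    · intro hx
      have hxK : x ∈ K := by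
        have h1 : (k : Ω)⁻¹ * ((k : Ω) * x * (k : Ω)⁻¹) * (k : Ω) ∈ K :=
          K.mul_mem (K.mul_mem (K.inv_mem k.2) ((le_sup_left : R ≤ K) hx)) k.2
        have e : (k : Ω)⁻¹ * ((k : Ω) * x * (k : Ω)⁻¹) * (k : Ω) = x := by group
        rwa [e] at h1
      have := (hkN ⟨x, hxK⟩).mpr (Subgroup.mem_subgroupOf.mpr hx)
      exact Subgroup.mem_subgroupOf.mp this
  refine ⟨t, ht, ?_, ?_⟩
  · have : t = r⁻¹ * (k : Ω) := by rw [← hrt]; group
    rw [this]
    exact Subgroup.mul_mem _ (Subgroup.inv_mem _ (Subgroup.le_normalizer hr)) hkΩ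
  · intro htR
    apply hkR
    rw [Subgroup.mem_subgroupOf, ← hrt]
    exact R.mul_mem hr htR

/-- The subgroup of `Aut_F(R)` of automorphisms acting trivially on `R / (R ∩ T)`. -/
def trivModT (F : FusionSystem S) (T R : Subgroup Ω) : Subgroup (F.autGroup R) where
  carrier := {β | ∀ x : R, (x : Ω)⁻¹ * (((β : MulAut R) x : R) : Ω) ∈ T}
  one_mem' := by
    intro x
    simp
  mul_mem' := by
    intro a b ha hb x
    have h1 := hb x
    have h2 := ha ((b : MulAut R) x)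
    have e : (x : Ω)⁻¹ * ((((a * b : F.autGroup R) : MulAut R) x : R) : Ω) =
        ((x : Ω)⁻¹ * (((b : MulAut R) x : R) : Ω)) *
          ((((b : MulAut R) x : R) : Ω)⁻¹ * (((a : MulAut R) ((b : MulAut R) x) : R) : Ω)) := by
      show (x : Ω)⁻¹ * (((a : MulAut R) ((b : MulAut R) x) : R) : Ω) = _
      group
    rw [e]
    exact T.mul_mem h1 h2
  inv_mem' := by
    intro a ha x
    have h1 := ha ((a : MulAut R)⁻¹ x)
    rw [MulAut.apply_inv_self] at h1
    have e : (x : Ω)⁻¹ * ((((a⁻¹ : F.autGroup R) : MulAut R) x : R) : Ω) =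
        ((((a : MulAut R)⁻¹ x : R) : Ω)⁻¹ * (x : Ω))⁻¹ := by
      show (x : Ω)⁻¹ * ((((a : MulAut R)⁻¹) x : R) : Ω) = _
      group
    rw [e]
    exact T.inv_mem h1

theorem trivModT_normal (F : FusionSystem S) {T : Subgroup Ω} (hT : F.StronglyClosed T) {R : Subgroup Ω}
    (hRS : R ≤ S) : (trivModT F T R).Normal where
  conj_mem := by
    intro b hb a x
    -- `(a b a⁻¹)(x) = a (b (a⁻¹ x))`
    set y : R := (a : MulAut R)⁻¹ x with hy
    have hay : (a : MulAut R) y = x := by rw [hy, MulAut.apply_inv_self]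
    have h1 : ((y : Ω)⁻¹ * (((b : MulAut R) y : R) : Ω)) ∈ T := hb y
    -- the element `y⁻¹ b(y)` of `R ∩ T` is mapped into `T` by `a`
    have haF : R.subtype.comp (a : MulAut R).toMonoidHom ∈ F.Hom R :=
      (mem_autGroup_iff F hRS a).mp a.2
    have hRT : R ⊓ T ≤ R := inf_le_left
    have h2 := hT.2 (R ⊓ T) inf_le_right _ (restrict_mem F hRT haF)
      ⟨(y⁻¹ * (b : MulAut R) y : R), ⟨(y⁻¹ * (b : MulAut R) y : R).2, h1⟩⟩
    have e : (x : Ω)⁻¹ * ((((a * b * a⁻¹ : F.autGroup R) : MulAut R) x : R) : Ω) =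
        (((a : MulAut R) (y⁻¹ * (b : MulAut R) y) : R) : Ω) := by
      show (x : Ω)⁻¹ * (((a : MulAut R) ((b : MulAut R) ((a : MulAut R)⁻¹ x)) : R) : Ω) = _
      rw [map_mul, map_inv, hay]
      rfl
    rw [e]
    exact h2

/-- Key step: an `F`-automorphism of a fully automized receptive `R` not containing `T` preserves
`T C_S(T)`, provided all `F`-maps on strictly larger subgroups do. -/
theorem aut_pres_of_not_le [Finite S] (p : ℕ) [Fact p.Prime] (hS : IsPGroup p S) (F : FusionSystem S)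
    {T : Subgroup Ω} (hT : F.StronglyClosed T) {R : Subgroup Ω} (hRS : R ≤ S) (hTR : ¬ T ≤ R)
    (hfa : F.IsFullyAutomized p R) (hrec : F.IsReceptive R)
    (ih : ∀ (X : Subgroup Ω) (ψ : X →* Ω), ψ ∈ F.Hom X → Nat.card R < Nat.card X →
      ∀ x : X, (x : Ω) ∈ T ⊔ centralizerIn S T → ψ x ∈ T ⊔ centralizerIn S T)
    (α : MulAut R) (hα : R.subtype.comp α.toMonoidHom ∈ F.Hom R) (x : R)
    (hx : (x : Ω) ∈ T ⊔ centralizerIn S T) : ((α x : R) : Ω) ∈ T ⊔ centralizerIn S T := by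
  haveI : Finite R := finite_of_le hRS
  obtain ⟨Sy, hSy⟩ := hfa.2
  haveI : (trivModT F T R).Normal := trivModT_normal F hT hRS
  have hTn := stronglyClosed_conj F hT
  let a : F.autGroup R := ⟨α, (mem_autGroup_iff F hRS α).mpr hα⟩
  obtain ⟨ν, hν, γ, hγ, haνγ⟩ := exists_mul_of_normal Sy (trivModT F T R) a
  -- the `γ` part
  have hγx : (((γ : MulAut R) x : R) : Ω) ∈ T ⊔ centralizerIn S T := by
    have h1 : (x : Ω)⁻¹ * (((γ : MulAut R) x : R) : Ω) ∈ T := hγ x
    have e : (((γ : MulAut R) x : R) : Ω) = (x : Ω) * ((x : Ω)⁻¹ * (((γ : MulAut R) x : R) : Ω)) := by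
      group
    rw [e]
    exact Subgroup.mul_mem _ hx ((le_sup_left : T ≤ T ⊔ centralizerIn S T) h1)
  -- an element of `N_T(R)` outside `R`
  obtain ⟨g₀, hg₀T, hg₀N, hg₀R⟩ := exists_normalizer_not_mem hS hT.1 hRS hTn hTR
  let c₀ : MulAut R := R.normalizerMonoidHom ⟨g₀, hg₀N⟩
  have hc₀S : c₀ ∈ autInducedBy S R :=
    (mem_autInducedBy_iff c₀).mpr ⟨g₀, hT.1 hg₀T, fun x => rfl⟩
  have hc₀A : c₀ ∈ F.autGroup R := autInducedBy_le_autGroup F hRS hc₀S
  let c : F.autGroup R := ⟨c₀, hc₀A⟩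
  have hcSy : c ∈ (Sy : Subgroup (F.autGroup R)) := by
    rw [hSy]; exact Subgroup.mem_subgroupOf.mpr hc₀S
  have hcC : c ∈ trivModT F T R := by
    intro z
    show (z : Ω)⁻¹ * (g₀ * (z : Ω) * g₀⁻¹) ∈ T
    have h1 : (z : Ω)⁻¹ * g₀ * (z : Ω)⁻¹⁻¹ ∈ T := hTn _ (S.inv_mem (hRS z.2)) g₀ hg₀T
    have e : (z : Ω)⁻¹ * (g₀ * (z : Ω) * g₀⁻¹) = ((z : Ω)⁻¹ * g₀ * (z : Ω)⁻¹⁻¹) * g₀⁻¹ := by group
    rw [e]
    exact T.mul_mem h1 (T.inv_mem hg₀T)
  have hconj : ν * c * ν⁻¹ ∈ (Sy : Subgroup (F.autGroup R)) ⊓ trivModT F T R :=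
    (Subgroup.mem_normalizer_iff.mp hν c).mp ⟨hcSy, hcC⟩
  have hconjS : ((ν * c * ν⁻¹ : F.autGroup R) : MulAut R) ∈ autInducedBy S R := by
    have := hconj.1
    rw [hSy] at this
    exact Subgroup.mem_subgroupOf.mp this
  obtain ⟨h, hhS, hh⟩ := (mem_autInducedBy_iff _).mp hconjS
  -- `ν` extends to its extender, which contains `g₀`
  set νhom : R →* Ω := R.subtype.comp (ν : MulAut R).toMonoidHom with hνhom
  have hνF : νhom ∈ F.Hom R := (mem_autGroup_iff F hRS ν).mp ν.2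
  have hg₀ext : g₀ ∈ extender S R νhom := by
    rw [mem_extender_iff]
    refine ⟨hT.1 hg₀T, hg₀N, h, hhS, fun z hz => ?_⟩
    have h1 := hh ((ν : MulAut R) z)
    have h2 : ((ν * c * ν⁻¹ : F.autGroup R) : MulAut R) ((ν : MulAut R) z) =
        (ν : MulAut R) (c₀ z) := by
      show (ν : MulAut R) (c₀ ((ν : MulAut R)⁻¹ ((ν : MulAut R) z))) = _
      rw [MulAut.inv_apply_self]
    rw [h2] at h1
    have h3 : c₀ z = ⟨g₀ * (z : Ω) * g₀⁻¹, hz⟩ := Subtype.ext rfl
    rw [h3] at h1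
    exact h1
  have hνrange : νhom.range = R := range_eq_of_forall_mem F hνF (fun z => ((ν : MulAut R) z).2)
  obtain ⟨ψ, hψ, hψext⟩ := hrec.2 R νhom hνF hνrange
  have hRle : R ≤ extender S R νhom := le_extender hRS (hom_mem F hνF)
  have hXS : extender S R νhom ≤ S := (extender_le S R νhom).trans (normalizerIn_le S R)
  haveI : Finite (extender S R νhom) := finite_of_le hXS
  have hlt : Nat.card R < Nat.card (extender S R νhom) := by
    by_contra hcon
    have := Subgroup.eq_of_le_of_card_ge hRle (not_lt.mp hcon)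
    apply hg₀R
    rw [this]; exact hg₀ext
  have h5 := ih _ ψ hψ hlt ⟨((γ : MulAut R) x : R), hRle ((γ : MulAut R) x).2⟩ hγx
  rw [hψext _ ((γ : MulAut R) x).2 (hRle ((γ : MulAut R) x).2)] at h5
  have e : α x = (ν : MulAut R) ((γ : MulAut R) x) := by
    have : (a : MulAut R) = (ν : MulAut R) * (γ : MulAut R) := by
      rw [haνγ]; rfl
    show (a : MulAut R) x = _
    rw [this]; rfl
  rw [e]
  exact h5

/-- Let F be a saturated fusion system over a finite p-group S and T a subgroup of S strongly closed in F. Then T·C_S(T) is strongly closed in F. -/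
theorem result {Ω : Type*} [Group Ω] {S : Subgroup Ω} [Finite S] (p : ℕ) [Fact p.Prime] (hS : IsPGroup p S) (F : Cfsg.FusionSystem S) (hF : F.IsSaturated p) (T : Subgroup Ω) (hT : F.StronglyClosed T) : F.StronglyClosed (T ⊔ Cfsg.FusionSystem.centralizerIn S T) := by
  have hTn := stronglyClosed_conj F hT
  have hNconj := TC_conj_iff T hT.1 hTn
  have hNS : T ⊔ centralizerIn S T ≤ S := sup_le hT.1 (centralizerIn_le S T)
  have main : ∀ n : ℕ, F ≤ presSystem F (T ⊔ centralizerIn S T) hNconj n := by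
    intro n
    induction n with
    | zero =>
      intro P φ hφ
      refine ⟨hφ, fun hc => ?_⟩
      have := card_le_of_le (hom_le F hφ)
      omega
    | succ n ih =>
      apply Cfsg.Agent.S5082.result p hS F hF
      intro R hR
      have hRS : R ≤ S := by
        rcases hR with rfl | hR
        · exact le_rfl
        · exact hR.1.1
      have key : ∀ α : MulAut R, R.subtype.comp α.toMonoidHom ∈ F.Hom R →
          Nat.card S < Nat.card R + (n + 1) → ∀ x : R, (x : Ω) ∈ T ⊔ centralizerIn S T →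
            ((α x : R) : Ω) ∈ T ⊔ centralizerIn S T := by
        intro α hα hc x hx
        by_cases hTR : T ≤ R
        · exact aut_pres_of_le F hT hRS hTR α hα x hx
        · have hess : F.IsEssential p R := by
            rcases hR with rfl | hR
            · exact absurd hT.1 hTR
            · exact hR
          have h77 := (Cfsg.Agent.S5077.result p hS F).mp hF
          obtain ⟨hfc, hfa⟩ := h77.1 R hess.2.1
          have hrec := h77.2 R hfc
          refine aut_pres_of_not_le p hS F hT hRS hTR hfa hrec ?_ α hα x hx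
          intro X ψ hψ hlt x hx
          have := (ih X hψ).2 (by omega) x
          exact this.mp hx
      apply autGroup_le_presSystem
      intro hc α hα x
      constructor
      · exact key α hα hc x
      · intro h
        have hαinv : R.subtype.comp (α⁻¹).toMonoidHom ∈ F.Hom R := by
          rw [← mem_autGroup_iff F hRS]
          exact Subgroup.inv_mem _ ((mem_autGroup_iff F hRS α).mpr hα)
        have := key α⁻¹ hαinv hc (α x) h
        rwa [MulAut.inv_apply_self] at this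
  refine ⟨hNS, fun R hRN φ hφ x => ?_⟩
  have := (main (Nat.card S + 1) R hφ).2 (by omega) x
  exact this.mp (hRN x.2)

end Cfsg.Agent.S5255
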