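import Cfsg.Statements.S5270
import Cfsg.Agent.Lib.Helper89.MaxClassZ
import Cfsg.Agent.Lib.Helper89.MaxClassFus

set_option autoImplicit false
open Cfsg

namespace Cfsg.Agent.S5270

open Cfsg.Agent.Lib.Helper89 Cfsg.Agent.Lib.Helper23.PGroupLCS
open scoped commutatorElement

/-- Let p ≥ 5 be a prime, S a finite p-group of maximal class of order p^n with n ≥ 4, and F a saturated fusion system over S. If some map of F defined on the second centre Z₂(S) with image Z₂(S) does not carry Z(S) into itself, then the centralizer C_S(Z₂(S)) is an F-essential subgroup. -/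
theorem result {Ω : Type*} [Group Ω] {S : Subgroup Ω} [Finite S] (p : ℕ) [Fact p.Prime] (hS : IsPGroup p ↥S) (n : ℕ) (hn : Nat.card S = p ^ n) (h4 : 4 ≤ n) (hmax : Subgroup.lowerCentralSeries S (n - 2) ≠ ⊥) (F : Cfsg.FusionSystem S) (hF : F.IsSaturated p) (hp : 5 ≤ p) (φ : ↥((Subgroup.upperCentralSeries ↥S 2).map S.subtype) →* Ω) (hφ : φ ∈ F.Hom ((Subgroup.upperCentralSeries ↥S 2).map S.subtype)) (hφZ : φ.range = ((Subgroup.upperCentralSeries ↥S 2).map S.subtype)) (hmove : ∃ (z : Ω) (hz : z ∈ ((Subgroup.upperCentralSeries ↥S 2).map S.subtype)), z ∈ ((Subgroup.center ↥S).map S.subtype) ∧ φ ⟨z, hz⟩ ∉ ((Subgroup.center ↥S).map S.subtype)) : F.IsEssential p (S ⊓ Subgroup.centralizer (((Subgroup.upperCentralSeries ↥S 2).map S.subtype) : Set Ω)) := by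
  have hp' : p.Prime := Fact.out
  have hM : M ↥S (n - 2) ≠ ⊥ := by
    intro h
    apply hmax
    rw [← Subgroup.top_subtype_lowerCentralSeries]
    have h' : (⊤ : Subgroup ↥S).lowerCentralSeries (n - 2) = ⊥ := h
    rw [h', Subgroup.map_bot]
  have hcZ1 : Nat.card (Subgroup.center ↥S) = p :=
    card_center_of_maxclass hS n (by omega) hn hM
  have hcZ2 : Nat.card (Subgroup.upperCentralSeries ↥S 2) = p ^ 2 :=
    card_ucs_two_of_maxclass hS n h4 hn hM
  have hZ1 : ∀ g, g ∈ (Subgroup.center ↥S).map S.subtype ↔ g ∈ S ∧ ∀ t ∈ S, t * g = g * t := by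
    intro g
    constructor
    · rintro ⟨s, hs, rfl⟩
      refine ⟨s.2, fun t ht => ?_⟩
      have h1 := Subgroup.mem_center_iff.mp hs ⟨t, ht⟩
      exact congrArg Subtype.val h1
    · rintro ⟨hg, hc⟩
      have h1 : (⟨g, hg⟩ : ↥S) ∈ Subgroup.center ↥S :=
        Subgroup.mem_center_iff.mpr (fun t => Subtype.ext (hc t t.2))
      exact ⟨⟨g, hg⟩, h1, rfl⟩
  have hZ12 : (Subgroup.center ↥S).map S.subtype ≤ (Subgroup.upperCentralSeries ↥S 2).map S.subtype := by
    apply Subgroup.map_mono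
    rw [← Subgroup.upperCentralSeries_one]
    exact Subgroup.upperCentralSeries_mono ↥S (by norm_num)
  have hZ2S : (Subgroup.upperCentralSeries ↥S 2).map S.subtype ≤ S := by
    rintro _ ⟨s, -, rfl⟩
    exact s.2
  have hZ2n : ∀ g ∈ S, ∀ w ∈ (Subgroup.upperCentralSeries ↥S 2).map S.subtype,
      g * w * g⁻¹ ∈ (Subgroup.upperCentralSeries ↥S 2).map S.subtype := by
    rintro g hg _ ⟨w, hw, rfl⟩
    have hnorm : (Subgroup.upperCentralSeries ↥S 2).Normal := inferInstance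
    have h1 : (⟨g, hg⟩ : ↥S) * w * (⟨g, hg⟩ : ↥S)⁻¹ ∈ Subgroup.upperCentralSeries ↥S 2 :=
      hnorm.conj_mem w hw ⟨g, hg⟩
    refine Subgroup.mem_map.mpr ⟨_, h1, ?_⟩
    simp
  have hZ2c : ∀ g ∈ S, ∀ w ∈ (Subgroup.upperCentralSeries ↥S 2).map S.subtype,
      g * w * g⁻¹ * w⁻¹ ∈ (Subgroup.center ↥S).map S.subtype := by
    rintro g hg _ ⟨w, hw, rfl⟩
    have h1 : ⁅w, (⟨g, hg⟩ : ↥S)⁆ ∈ Subgroup.upperCentralSeries ↥S 1 :=
      (Subgroup.mem_upperCentralSeries_succ_iff (n := 1)).mp hw ⟨g, hg⟩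
    rw [Subgroup.upperCentralSeries_one] at h1
    have h2 := (Subgroup.center ↥S).inv_mem h1
    refine ⟨⁅w, (⟨g, hg⟩ : ↥S)⁆⁻¹, h2, ?_⟩
    show ((w * ⟨g, hg⟩ * w⁻¹ * (⟨g, hg⟩ : ↥S)⁻¹)⁻¹ : ↥S).1 = g * (w : Ω) * g⁻¹ * (w : Ω)⁻¹
    simp [mul_assoc]
  have hZ2ab : ∀ u ∈ (Subgroup.upperCentralSeries ↥S 2).map S.subtype,
      ∀ v ∈ (Subgroup.upperCentralSeries ↥S 2).map S.subtype, u * v = v * u := by
    rintro _ ⟨u, hu, rfl⟩ _ ⟨v, hv, rfl⟩
    have h1 := (IsPGroup.isMulCommutative_of_card_eq_prime_sq hcZ2).is_comm.comm ⟨u, hu⟩ ⟨v, hv⟩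
    have h2 : u * v = v * u := congrArg Subtype.val h1
    exact congrArg Subtype.val h2
  have hcZ1' : Nat.card ((Subgroup.center ↥S).map S.subtype) = p := by
    rw [Subgroup.card_map_of_injective S.subtype_injective, hcZ1]
  have hcZ2' : Nat.card ((Subgroup.upperCentralSeries ↥S 2).map S.subtype) = p ^ 2 := by
    rw [Subgroup.card_map_of_injective S.subtype_injective, hcZ2]
  have hidx : ((Subgroup.center ↥S).map S.subtype).relIndex
      ((Subgroup.upperCentralSeries ↥S 2).map S.subtype) = p := by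
    have h1 := Subgroup.card_mul_index
      (((Subgroup.center ↥S).map S.subtype).subgroupOf ((Subgroup.upperCentralSeries ↥S 2).map S.subtype))
    have h2 : Nat.card (((Subgroup.center ↥S).map S.subtype).subgroupOf
        ((Subgroup.upperCentralSeries ↥S 2).map S.subtype)) = Nat.card ((Subgroup.center ↥S).map S.subtype) :=
      Nat.card_congr (Subgroup.subgroupOfEquivOfLe hZ12).toEquiv
    rw [h2, hcZ1', hcZ2', sq] at h1
    exact Nat.eq_of_mul_eq_mul_left hp'.pos h1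
  exact isEssential_centralizerIn_of_move p hS F hF _ _ hZ1 hZ12 hZ2S hZ2n hZ2c hZ2ab hidx hcZ1'
    φ hφ hφZ hmove

end Cfsg.Agent.S5270
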