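import Cfsg.Statements.S5276
import Cfsg.Agent.Lib.Helper87.Tate7
import Cfsg.Agent.Lib.Helper87.ZJ14

set_option autoImplicit false
open Cfsg

namespace Cfsg.Agent.S5276

/-- Let p be a prime and F a saturated fusion system over a finite p-group S. Then F is the inner fusion system of S if and only if the normalizer fusion system of S itself in F is the inner fusion system (equivalently, Aut_F(S) is induced by S) and the Frattini subgroup Φ(S) is strongly closed in F. -/
theorem result {Ω : Type*} [Group Ω] {S : Subgroup Ω} [Finite S] (p : ℕ) [Fact p.Prime] (hS : IsPGroup p ↥S) (F : Cfsg.FusionSystem S) (hF : F.IsSaturated p) : (∀ P : Subgroup Ω, F.Hom P = (Cfsg.innerFusionSystem S).Hom P) ↔ (∀ N : Cfsg.FusionSystem (Cfsg.FusionSystem.normalizerIn S S), F.IsNormalizerSystem S N → ∀ P : Subgroup Ω, N.Hom P = (Cfsg.innerFusionSystem (Cfsg.FusionSystem.normalizerIn S S)).Hom P) ∧ F.StronglyClosed ((frattini ↥S).map S.subtype) := by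
  have hNS : Cfsg.FusionSystem.normalizerIn S S = S := Cfsg.Agent.Lib.Helper87.ZJ.normalizerIn_self S
  have hX : S ≤ S := le_rfl
  have hD : ∀ P : Subgroup Ω, (Cfsg.Agent.Lib.Helper87.normalizerSystem F S hX).Hom P = F.normalizerHom S P :=
    Cfsg.Agent.Lib.Helper87.normalizerSystem_isNormalizerSystem F S hX
  constructor
  · intro hin
    refine ⟨fun N hN P => ?_, ?_⟩
    · rw [hN P]
      apply Set.Subset.antisymm
      · intro φ hφ
        have h1 : φ ∈ F.Hom P := hφ.1
        rw [hin P] at h1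
        obtain ⟨hP, g, hg, hφg⟩ := h1
        exact ⟨hφ.2.1, g, hNS.ge hg, hφg⟩
      · rintro φ ⟨hP, g, hg, hφg⟩
        have hgS : g ∈ S := hNS.le hg
        have hPS : P ≤ S := hP.trans hNS.le
        -- conjugation by `g` on `S`
        have hc : Cfsg.conjHom S g ∈ F.Hom S := F.conj_mem le_rfl hgS
        have hcN : Cfsg.conjHom S g ∈ F.normalizerHom S S := by
          apply Cfsg.Agent.Lib.Helper90.GT.mem_normalizerHom_of_le F hc le_rfl hNS.ge
          have h2 : S.subgroupOf S = ⊤ := Subgroup.subgroupOf_self S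
          rw [h2, ← MonoidHom.range_eq_map]
          exact Cfsg.Agent.Lib.Helper87.ZJ.range_eq_of_mem_hom_top F hc
        have h3 : (Cfsg.conjHom S g).comp (Subgroup.inclusion hPS) ∈ F.normalizerHom S P := by
          rw [← hD]
          apply Cfsg.Agent.Lib.Helper87.restrict_mem
          rw [hD]
          exact hcN
        have h4 : φ = (Cfsg.conjHom S g).comp (Subgroup.inclusion hPS) :=
          MonoidHom.ext (fun x => hφg x)
        rw [h4]
        exact h3
    · refine ⟨Subgroup.map_subtype_le _, fun R hR φ hφ x => ?_⟩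
      rw [hin R] at hφ
      obtain ⟨hRS, g, hg, hφg⟩ := hφ
      rw [hφg x]
      obtain ⟨x', hx', hxx'⟩ := hR x.2
      refine ⟨⟨g, hg⟩ * x' * ⟨g, hg⟩⁻¹, ?_, ?_⟩
      · have hn : (frattini ↥S).Normal := inferInstance
        exact hn.conj_mem x' hx' ⟨g, hg⟩
      · show g * (x' : Ω) * g⁻¹ = g * (x : Ω) * g⁻¹
        have : (x' : Ω) = x := hxx'
        rw [this]
  · rintro ⟨h1, hΦ⟩ P
    apply Cfsg.Agent.Lib.Helper87.Tate.eq_inner_of_frattini_stronglyClosed p hS F hF ?_ hΦ P
    intro A hA ψ hψ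
    subst hA
    have hψN : ψ ∈ F.normalizerHom A A := by
      apply Cfsg.Agent.Lib.Helper90.GT.mem_normalizerHom_of_le F hψ le_rfl hNS.ge
      have h2 : A.subgroupOf A = ⊤ := Subgroup.subgroupOf_self A
      rw [h2, ← MonoidHom.range_eq_map]
      exact Cfsg.Agent.Lib.Helper87.ZJ.range_eq_of_mem_hom_top F hψ
    have h3 : ψ ∈ (Cfsg.Agent.Lib.Helper87.normalizerSystem F A hX).Hom A := by
      rw [hD]; exact hψN
    rw [h1 _ hD A] at h3
    obtain ⟨-, g, hg, hψg⟩ := h3
    exact ⟨g, hNS.le hg, hψg⟩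

end Cfsg.Agent.S5276
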