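import Cfsg.Statements.S5284
import Cfsg.Agent.Lib.Helper91.FusionCyclicChain
import Cfsg.Agent.Lib.Helper91.HomocyclicAut
import Cfsg.Agent.Lib.Helper91.AbelianDistinct
import Cfsg.Agent.Lib.Helper91.FusionAbelian

set_option autoImplicit false
open Cfsg

namespace Cfsg.Agent.S5284

/-- Let S be a finite abelian p-group. Every saturated fusion system over S is supersoluble (S has a chain of F-strongly closed subgroups from 1 to S with cyclic steps) if and only if the invariants of S are pairwise distinct, that is, S is not isomorphic to a direct product (Z/p^n × Z/p^n) × H with n ≥ 1. -/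
theorem result {Ω : Type*} [Group Ω] {S : Subgroup Ω} [Finite S] (p : ℕ) [Fact p.Prime] (hS : IsPGroup p ↥S) (hab : IsMulCommutative ↥S) : (∀ F : Cfsg.FusionSystem S, F.IsSaturated p → (∃ (m : ℕ) (c : Fin (m + 1) → Subgroup Ω), c 0 = ⊥ ∧ c (Fin.last m) = S ∧ (∀ i : Fin (m + 1), F.StronglyClosed (c i)) ∧ ∀ i : Fin m, c i.castSucc ≤ c i.succ ∧ ∃ x ∈ S, c i.succ = c i.castSucc ⊔ Subgroup.zpowers x)) ↔ ¬ ∃ (n : ℕ) (H : Type) (_ : CommGroup H), 0 < n ∧ Nonempty (↥S ≃* (Multiplicative (ZMod (p ^ n)) × Multiplicative (ZMod (p ^ n))) × H) := by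
  constructor
  · rintro h ⟨n, H, instH, hn, ⟨e⟩⟩
    obtain ⟨τ, hτc, hτp⟩ := Cfsg.Agent.Lib.Helper91.exists_bad_aut (p := p) hn H
    let K : Subgroup (MulAut ↥S) := Subgroup.zpowers ((MulAut.congr e).symm τ)
    have hcard : Nat.card K = orderOf τ := by
      rw [Nat.card_zpowers, MulEquiv.orderOf_eq]
    have hK : (Nat.card K).Coprime p := by rw [hcard]; exact hτc
    have hsat := Cfsg.Agent.Lib.Helper91.autSystem_saturated_of_coprime hS K hK
    obtain ⟨-, hexp⟩ := Cfsg.Agent.Lib.Helper91.comm_exp_of_hasCyclicChain p hS K hK (h _ hsat)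
    have h1 := hexp _ (Subgroup.mem_zpowers ((MulAut.congr e).symm τ))
    apply hτp
    have h2 := congrArg (MulAut.congr e) h1
    rw [map_pow, map_one, MulEquiv.apply_symm_apply] at h2
    exact h2
  · intro hno F hF
    have hab' : ∀ x ∈ S, ∀ y ∈ S, x * y = y * x := by
      intro x hx y hy
      have := hab.is_comm.comm (⟨x, hx⟩ : S) ⟨y, hy⟩
      exact congrArg Subtype.val this
    have hN : F.IsNormal S := by
      rw [Cfsg.Agent.S5106.result p hS F hF S le_rfl]
      intro P hPS φ hφ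
      obtain ⟨α, hα, hαx⟩ := Cfsg.Agent.Lib.Helper91.exists_extension_of_abelian p F hF hab' hφ
      exact ⟨α, hα, fun x => hαx x (hPS x.2)⟩
    let _ : CommGroup ↥S := { (inferInstance : Group ↥S) with mul_comm := hab.is_comm.comm }
    exact Cfsg.Agent.Lib.Helper91.hasCyclicChain_of_isNormal_top p hS F hF hN
      (fun K hK => Cfsg.Agent.Lib.Helper91.comm_exp_of_no_square_factor (A := ↥S) hS hno K hK)

end Cfsg.Agent.S5284
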