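import Cfsg.Statements.S5289
import Cfsg.Agent.S5087
import Cfsg.Agent.S5234
import Cfsg.Agent.Lib.Helper89.RkTwoII
import Cfsg.Agent.Lib.Helper67.RkTwoT
import Cfsg.Agent.Lib.Helper84.S5289C3
import Cfsg.Agent.Lib.Helper97.RkTwoC

set_option autoImplicit false
open Cfsg

namespace Cfsg.Agent.S5289

/-- Let p ≥ 5 be a prime and S a finite p-group of p-rank two (it has an elementary abelian subgroup of order p² and none of order p³) which is not the extraspecial group of order p³ and exponent p. Then S is resistant: for every saturated fusion system F over S, S is normal in F, that is, every map of F extends to an F-automorphism of S. -/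
theorem result {Ω : Type*} [Group Ω] {S : Subgroup Ω} [Finite S] (p : ℕ) [Fact p.Prime] (hS : IsPGroup p S)
    (F : Cfsg.FusionSystem S) (hF : F.IsSaturated p)
    (hp : 5 ≤ p)
    (hrank2 : ∃ E : Subgroup Ω, E ≤ S ∧ Cfsg.IsElementaryAbelian p E ∧ Nat.card E = p ^ 2)
    (hrank3 : ∀ E : Subgroup Ω, E ≤ S → Cfsg.IsElementaryAbelian p E → Nat.card E ≤ p ^ 2)
    (hnotE : ¬ (Nat.card S = p ^ 3 ∧ Monoid.exponent ↥S = p)) : F.IsNormal S := by
  have hp2 : p ≠ 2 := by omega
  -- it suffices that there is no essential subgroup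
  have key : (∀ E : Subgroup Ω, ¬ F.IsEssential p E) → F.IsNormal S := by
    intro hno
    rw [Cfsg.Agent.S5087.result p hS F hF S]
    rintro P (rfl | hP)
    · refine ⟨le_rfl, fun α _ => ?_⟩
      have h1 : P.subgroupOf P = ⊤ := Subgroup.subgroupOf_self P
      rw [h1]
      exact Subgroup.map_top_of_surjective _ α.surjective
    · exact absurd hP (hno P)
  rcases Cfsg.Agent.Lib.Helper67.exists_rkTwo_data hS hp hrank3 with
    hmeta | ⟨x, y, z, -, -, -, hgen, hx, hy, hz, hxz, hyz, hrel, hcard⟩ | ⟨n, x, y, z, C⟩ |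
    ⟨n, s, x, y, z, D⟩
  · exact Cfsg.Agent.S5234.result p hS F hF S
      ⟨le_rfl, fun R _ φ hφ x => (F.le_of_mem hφ).2 x⟩ hp2 hmeta
  · exact absurd ⟨hcard, Cfsg.Agent.Lib.Helper84.S5289.exponent_of_typeC3 hp2 hgen hx hy hz hxz hyz
      hrel hcard⟩ hnotE
  · exact key (fun E => Cfsg.Agent.Lib.Helper97.RkTwo.CData_not_isEssential C hp2 hS F hF E)
  · apply key
    intro E hE
    rcases Cfsg.Agent.Lib.Helper89.DData.essential_cases D hS F hF hE with h1 | ⟨hn4, hcard, hexp⟩
    · exact Cfsg.Agent.Lib.Helper89.DData.not_isEssential_of_omSub_le D hS F hF h1 hE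
    · exact Cfsg.Agent.Lib.Helper89.DData.not_isEssential_of_sq D hS F hF hn4 hcard hexp hE

end Cfsg.Agent.S5289
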