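import Cfsg.Statements.S5293
import Cfsg.Agent.Lib.Helper88.FusionCE8
import Cfsg.Agent.Lib.Helper68.FusCentAlp
import Cfsg.Agent.Lib.Helper47.FocalPPrime
import Cfsg.Agent.Lib.Helper63.ExtFixDisp
import Cfsg.Agent.S5099

set_option autoImplicit false
open Cfsg

namespace Cfsg.Agent.S5293

open Cfsg.FusionSystem Cfsg.Agent.Lib.Helper87 Cfsg.Agent.Lib.Helper88

/-- Let F be a saturated fusion system over a finite p-group S, E a normal subsystem of F over T ≤ S, and C the join of the subgroups X ≤ C_S(T) such that E is contained in the centralizer system C_F(X). Then for the centralizer fusion system C_F(T) over C_S(T), the focal subgroup of C_F(T) is contained in C. -/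
theorem result {Ω : Type*} [Group Ω] {S : Subgroup Ω} [Finite S] (p : ℕ) [Fact p.Prime] (hS : IsPGroup p S)
    (F : Cfsg.FusionSystem S) (hF : F.IsSaturated p)
    {T : Subgroup Ω} (E : Cfsg.FusionSystem T) (hE : E.IsNormalIn F p)
    (C : Subgroup Ω)
    (hC : C = sSup {X : Subgroup Ω | X ≤ Cfsg.FusionSystem.centralizerIn S T ∧ ∀ P : Subgroup Ω, E.Hom P ⊆ F.centralizerHom X P})
    (D : Cfsg.FusionSystem (Cfsg.FusionSystem.centralizerIn S T)) (hD : F.IsCentralizerSystem T D) :
    D.focalSubgroup ≤ C := by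
  have hEsat : E.IsSaturated p := hE.1.1
  have hEF : E.IsSubsystemOf F := hE.1.2.2.1
  have hT : F.StronglyClosed T := hE.1.2.2.2.1
  have hTS : T ≤ S := hT.1
  have hn : S ≤ Subgroup.normalizer (T : Set Ω) := le_normalizer_of_stronglyClosed hT
  haveI : Finite (centralizerIn S T) := finite_of_le (centralizerIn_le S T)
  have hC₀p : IsPGroup p (centralizerIn S T) := hS.to_le (centralizerIn_le S T)
  -- `T` is fully centralized
  have hfc : F.IsFullyCentralized T := by
    refine ⟨hTS, fun Q hQ => ?_⟩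
    obtain ⟨φ, hφ, hr⟩ := hQ
    have : φ.range = T :=
      Cfsg.Agent.Lib.Helper90.range_eq_of_forall_mem F hφ (fun x => hT.2 T le_rfl φ hφ x)
    rw [← hr, this]
  have hDsat : D.IsSaturated p := Cfsg.Agent.S5099.result p hS F hF T hfc D hD
  have hle : ∀ X : Subgroup Ω, X ≤ centralizerIn S T → (∀ P : Subgroup Ω, E.Hom P ⊆ F.centralizerHom X P) →
      X ≤ C := by
    intro X h1 h2
    rw [hC]
    exact le_sSup ⟨h1, h2⟩
  have key : ∀ Y : Subgroup Ω, Y ≤ centralizerIn S T →
      (∀ Q : Subgroup Ω, Q ≤ T → centralizerIn T Q ≤ Q → ∀ α : MulAut Q,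
        GoodExt F T (Q.subtype.comp (α : Q ≃* Q).toMonoidHom) → ∀ m : ℕ, α ^ m = 1 → m.Coprime p →
        ∃ χ ∈ F.Hom (Q ⊔ Y), (∀ x : Q, χ (Subgroup.inclusion le_sup_left x) = ((α x : Q) : Ω)) ∧
          ∀ y : Y, χ (Subgroup.inclusion le_sup_right y) = y) → Y ≤ C := by
    intro Y hY h
    apply hle Y hY
    apply Cfsg.Agent.Lib.Helper68.hom_subset_centralizerHom_of_aut p hS F hTS E hEsat hEF hY
    intro Q hQc hQfn α hα m hm hmp
    have hQT : Q ≤ T := hQc.1
    have hQcen : centralizerIn T Q ≤ Q := hQc.2 Q (isConj_refl E hQc.1)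
    have hαg : GoodExt F T (Q.subtype.comp (α : Q ≃* Q).toMonoidHom) :=
      goodExt_of_isNormalIn p hS F E hE hQc ((Cfsg.Agent.Lib.Helper87.mem_autGroup_iff E hQT).mp hα)
    exact h Q hQT hQcen α hαg m hm hmp
  apply Cfsg.Agent.Lib.Helper47.focal_le_of_pprime_aut p hC₀p D hDsat C
  · have hcs : ⁅centralizerIn S T, centralizerIn S T⁆ ≤ centralizerIn S T := by
      rw [Subgroup.commutator_le]
      intro a ha b hb
      rw [commutatorElement_def]
      exact Subgroup.mul_mem _ (Subgroup.mul_mem _ (Subgroup.mul_mem _ ha hb) (Subgroup.inv_mem _ ha))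
        (Subgroup.inv_mem _ hb)
    apply key _ hcs
    intro Q hQT hQcen α hαg m hm hmp
    exact exists_ext_fix_commutator hn hTS F hQT hQcen hαg
  · intro R hRC ψ hψ n hn' hnp r
    have hψ' : R.subtype.comp (ψ : R ≃* R).toMonoidHom ∈ F.centralizerHom T R := by
      rw [← hD R]
      exact (Cfsg.Agent.Lib.Helper87.mem_autGroup_iff D hRC).mp hψ
    have hY : Subgroup.closure {y : Ω | ∃ r : R, y = (r : Ω)⁻¹ * ((ψ r : R) : Ω)} ≤ centralizerIn S T := by
      rw [Subgroup.closure_le]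
      rintro y ⟨r, rfl⟩
      exact Subgroup.mul_mem _ (Subgroup.inv_mem _ (hRC r.2)) (hRC (ψ r).2)
    have hYC := key _ hY (fun Q hQT hQcen α hαg m hm hmp =>
      Cfsg.Agent.Lib.Helper63.exists_ext_fix_displacements p hS F hT hQT hQcen hαg hm hmp hRC hψ' hn' hnp)
    exact hYC (Subgroup.subset_closure ⟨r, rfl⟩)

end Cfsg.Agent.S5293
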