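import Cfsg.Statements.S5294
import Cfsg.Agent.Lib.Helper90.FixedTransfer
import Cfsg.Agent.Lib.Helper90.FusionCenter
import Cfsg.Agent.Lib.Helper90.FusionNormal

set_option autoImplicit false
universe u
open Cfsg

namespace Cfsg.Agent.S5294

open Cfsg.Agent.Lib.Helper87 (hom_le hom_mem restrict_mem finite_of_le hom_congr subtype_mem)
open Cfsg.Agent.Lib.Helper90 Cfsg.FusionSystem
open scoped IsMulCommutative

/-- Let F be a saturated fusion system over a finite p-group S whose centre Z(S) lies in the largest subgroup O_p(F) normal in F. Then the centre Z(F) of F is a direct factor of Z(S): there is a subgroup K of Z(S) with Z(F) ∩ K = 1 and Z(F)K = Z(S). -/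
theorem result {Ω : Type u} [Group Ω] {S : Subgroup Ω} [Finite S] (p : ℕ) [Fact p.Prime] (hS : IsPGroup p S)
    (F : Cfsg.FusionSystem S) (hF : F.IsSaturated p) (hZ : (S ⊓ Subgroup.centralizer (S : Set Ω)) ≤ F.core) :
    ∃ K : Subgroup Ω, K ≤ (S ⊓ Subgroup.centralizer (S : Set Ω)) ∧ F.center ⊓ K = ⊥ ∧ F.center ⊔ K = (S ⊓ Subgroup.centralizer (S : Set Ω)) := by
  classical
  have hQn : F.IsNormal F.core := Cfsg.Agent.Lib.Helper88.isNormal_core F
  generalize F.core = Q at hZ hQn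
  have hQS : Q ≤ S := hQn.1
  have hQconj := StronglyClosed.conj_mem F (IsNormal.stronglyClosed F hQn)
  haveI : Finite Q := finite_of_le hQS
  obtain ⟨-, R, hR⟩ := IsNormal.isFullyAutomized F hF hQn
  have hidx : ¬ p ∣ ((autInducedBy S Q).subgroupOf (F.autGroup Q)).index := by
    rw [← hR]; exact R.not_dvd_index
  letI act : MulDistribMulAction (F.autGroup Q) (Subgroup.center Q) :=
    MulDistribMulAction.compHom _ ((MulAut.characteristic (Subgroup.center Q)).comp (F.autGroup Q).subtype)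
  have hact : ∀ (a : F.autGroup Q) (v : Subgroup.center Q),
      ((a • v : Subgroup.center Q) : Q) = (a : MulAut Q) (v : Q) := fun a v => rfl
  have hpZ : IsPGroup p (Subgroup.center Q) := (hS.to_le hQS).to_subgroup _
  obtain ⟨e, he⟩ := hpZ.exists_card_eq
  have hn : ∀ v : Subgroup.center Q, v ^ (p ^ e) = 1 := fun v => by rw [← he]; exact pow_card_eq_one'
  have hcop : Nat.Coprime (p ^ e) ((autInducedBy S Q).subgroupOf (F.autGroup Q)).index :=
    Nat.Coprime.pow_left e ((Nat.Prime.coprime_iff_not_dvd (Fact.out)).mpr hidx)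
  obtain ⟨K, hK1, hK2, hK3⟩ :=
    exists_fixedPoints_complement (A := F.autGroup Q) (V := Subgroup.center Q)
      ((autInducedBy S Q).subgroupOf (F.autGroup Q)) (p ^ e) (fun v => hn v) hcop
  -- fixed points of `Aut_S(Q)` are `Z(S)`
  have hTfix_of_Z : ∀ v : Subgroup.center Q, ((v : Q) : Ω) ∈ S ⊓ Subgroup.centralizer (S : Set Ω) →
      ∀ t ∈ (autInducedBy S Q).subgroupOf (F.autGroup Q), t • v = v := by
    intro v hv t ht
    obtain ⟨g, hg, hgt⟩ := (mem_autInducedBy_iff (t : MulAut Q)).mp (Subgroup.mem_subgroupOf.mp ht)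
    apply Subtype.ext
    apply Subtype.ext
    rw [hact, hgt]
    have hc := (Subgroup.mem_centralizer_iff.mp hv.2) g hg
    calc g * ((v : Q) : Ω) * g⁻¹ = ((v : Q) : Ω) * g * g⁻¹ := by rw [hc]
      _ = ((v : Q) : Ω) := by group
  have hZ_of_Tfix : ∀ v : Subgroup.center Q,
      (∀ t ∈ (autInducedBy S Q).subgroupOf (F.autGroup Q), t • v = v) →
      ((v : Q) : Ω) ∈ S ⊓ Subgroup.centralizer (S : Set Ω) := by
    intro v hv
    refine ⟨hQS v.1.2, ?_⟩
    show ((v : Q) : Ω) ∈ Subgroup.centralizer (S : Set Ω)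
    rw [Subgroup.mem_centralizer_iff]
    intro g hg
    have hgN : g ∈ Subgroup.normalizer (Q : Set Ω) := by
      rw [Subgroup.mem_normalizer_iff]
      intro y
      refine ⟨fun hy => hQconj g hg y hy, fun hy => ?_⟩
      have := hQconj g⁻¹ (S.inv_mem hg) _ hy
      have e : g⁻¹ * (g * y * g⁻¹) * g⁻¹⁻¹ = y := by group
      rwa [e] at this
    have hcgI : Q.normalizerMonoidHom ⟨g, hgN⟩ ∈ autInducedBy S Q :=
      (mem_autInducedBy_iff _).mpr ⟨g, hg, fun x => rfl⟩
    have hcgA : Q.normalizerMonoidHom ⟨g, hgN⟩ ∈ F.autGroup Q := autInducedBy_le_autGroup F hQS hcgI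
    have h := hv ⟨_, hcgA⟩ (Subgroup.mem_subgroupOf.mpr hcgI)
    have h2 : g * ((v : Q) : Ω) * g⁻¹ = ((v : Q) : Ω) :=
      congrArg (fun w : Subgroup.center Q => ((w : Q) : Ω)) h
    calc g * ((v : Q) : Ω) = g * ((v : Q) : Ω) * g⁻¹ * g := by group
      _ = ((v : Q) : Ω) * g := by rw [h2]
  -- fixed points of `Aut_F(Q)` are `Z(F)`
  have hcen := Cfsg.Agent.Lib.Helper88.isCentral_center F
  have hcenter_le : F.center ≤ S ⊓ Subgroup.centralizer (S : Set Ω) := IsCentral.le_center F hcen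
  have hAfix_of_center : ∀ v : Subgroup.center Q, ((v : Q) : Ω) ∈ F.center →
      ∀ a : F.autGroup Q, a • v = v := by
    intro v hv a
    apply Subtype.ext
    rw [hact]
    exact IsCentral.aut_fix F hcen hQS a.2 (v : Q) hv
  let FA : Subgroup (Subgroup.center Q) :=
    { carrier := {v | ∀ a : F.autGroup Q, a • v = v}
      one_mem' := fun a => smul_one a
      mul_mem' := fun {x y} hx hy a => by rw [smul_mul', hx a, hy a]
      inv_mem' := fun {x} hx a => by rw [smul_inv', hx a] }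
  have hcenter_of_Afix : ∀ v : Subgroup.center Q, (∀ a : F.autGroup Q, a • v = v) →
      ((v : Q) : Ω) ∈ F.center := by
    intro v hv
    have hWc : F.IsCentral ((FA.map (Subgroup.center Q).subtype).map Q.subtype) := by
      apply isCentral_of_fixed F hQn
      · rintro _ ⟨x, -, rfl⟩
        exact x.2
      · rintro α hα x ⟨y, ⟨w, hw, rfl⟩, hyx⟩
        have hxy : x = ((w : Subgroup.center Q) : Q) := (Subtype.ext hyx).symm
        have h := hw ⟨α, hα⟩
        have h2 := congrArg (fun u : Subgroup.center Q => (u : Q)) h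
        rw [hxy]
        exact h2
    have hle : (FA.map (Subgroup.center Q).subtype).map Q.subtype ≤ F.center := le_sSup hWc
    exact hle ⟨(v : Q), ⟨v, hv, rfl⟩, rfl⟩
  refine ⟨(K.map (Subgroup.center Q).subtype).map Q.subtype, ?_, ?_, ?_⟩
  · rintro _ ⟨_, ⟨v, hv, rfl⟩, rfl⟩
    exact hZ_of_Tfix v (hK1 v hv)
  · rw [eq_bot_iff]
    rintro x ⟨hxc, ⟨_, ⟨v, hv, rfl⟩, rfl⟩⟩
    have h1 := hK2 v hv (hAfix_of_center v hxc)
    rw [h1]
    exact Subgroup.mem_bot.mpr rfl
  · apply le_antisymm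
    · apply sup_le hcenter_le
      rintro _ ⟨_, ⟨v, hv, rfl⟩, rfl⟩
      exact hZ_of_Tfix v (hK1 v hv)
    · intro z hz
      have hzQ : z ∈ Q := hZ hz
      have hzc : (⟨z, hzQ⟩ : Q) ∈ Subgroup.center Q := by
        rw [Subgroup.mem_center_iff]
        intro y
        apply Subtype.ext
        exact (Subgroup.mem_centralizer_iff.mp hz.2) y (hQS y.2)
      obtain ⟨w, k, hw, hk, hvwk⟩ := hK3 ⟨⟨z, hzQ⟩, hzc⟩ (hTfix_of_Z _ hz)
      have e : z = ((w : Q) : Ω) * ((k : Q) : Ω) :=
        congrArg (fun u : Subgroup.center Q => ((u : Q) : Ω)) hvwk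
      rw [e]
      exact Subgroup.mul_mem_sup (hcenter_of_Afix w hw) ⟨(k : Q), ⟨k, hk, rfl⟩, rfl⟩

end Cfsg.Agent.S5294
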