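import Cfsg.Statements.S5295
import Cfsg.Agent.S5193
import Cfsg.Agent.S5294
import Cfsg.Agent.S5098
import Cfsg.Agent.Lib.Helper87.ThompsonJ

set_option autoImplicit false
universe u
open Cfsg

namespace Cfsg.Agent.S5295

open Cfsg.FusionSystem Cfsg.Agent.Lib.Helper87 in
/-- Let F be a saturated fusion system over a finite p-group S with p odd. Then the centre Z(F) of F is a direct factor of Z(S): there is a subgroup K of Z(S) with Z(F) ∩ K = 1 and Z(F)K = Z(S). (At the prime 2 this can fail.) -/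
theorem result {Ω : Type u} [Group Ω] {S : Subgroup Ω} [Finite S] (p : ℕ) [Fact p.Prime] (hp : p ≠ 2) (hS : IsPGroup p S)
    (F : Cfsg.FusionSystem S) (hF : F.IsSaturated p) :
    ∃ K : Subgroup Ω, K ≤ (S ⊓ Subgroup.centralizer (S : Set Ω)) ∧ F.center ⊓ K = ⊥ ∧ F.center ⊔ K = (S ⊓ Subgroup.centralizer (S : Set Ω)) := by
  have hJS : thompsonSubgroupAOf S ≤ S := Cfsg.Agent.Lib.Helper53.thompsonAOf_le S
  have hNS : normalizerIn S (thompsonSubgroupAOf S) = S := normalizerIn_thompsonJ S
  let N := normalizerSystem F (thompsonSubgroupAOf S) hJS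
  have hN : F.IsNormalizerSystem (thompsonSubgroupAOf S) N :=
    normalizerSystem_isNormalizerSystem F _ hJS
  have hfn : F.IsFullyNormalized (thompsonSubgroupAOf S) :=
    isFullyNormalized_of_normalizerIn_eq F hJS hNS
  haveI : Finite ↥(normalizerIn S (thompsonSubgroupAOf S)) := finite_of_le (normalizerIn_le S _)
  have hS' : IsPGroup p ↥(normalizerIn S (thompsonSubgroupAOf S)) :=
    hS.to_le (normalizerIn_le S _)
  have hNsat : N.IsSaturated p :=
    Cfsg.Agent.S5098.result p hS F hF _ hfn N hN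
  have hcen : N.center = F.center := (Cfsg.Agent.S5193.result p hS F hF N hN).2 (Or.inl hp)
  have hnormal : N.IsNormal (thompsonSubgroupAOf S) := isNormal_of_isNormalizerSystem F hJS N hN
  have hZ : (normalizerIn S (thompsonSubgroupAOf S) ⊓
      Subgroup.centralizer ((normalizerIn S (thompsonSubgroupAOf S) : Subgroup Ω) : Set Ω)) ≤ N.core := by
    have h1 : (normalizerIn S (thompsonSubgroupAOf S) ⊓
      Subgroup.centralizer ((normalizerIn S (thompsonSubgroupAOf S) : Subgroup Ω) : Set Ω)) =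
        S ⊓ Subgroup.centralizer (S : Set Ω) := by rw [hNS]
    rw [h1]
    exact center_le_thompsonJ.trans (le_sSup hnormal)
  obtain ⟨K, hK1, hK2, hK3⟩ := Cfsg.Agent.S5294.result p hS' N hNsat hZ
  rw [hcen] at hK2 hK3
  rw [hNS] at hK1 hK3
  exact ⟨K, hK1, hK2, hK3⟩

end Cfsg.Agent.S5295
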