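import Cfsg.Statements.S5306

set_option autoImplicit false
open Cfsg
open scoped Pointwise

namespace Cfsg.Agent.S5306

theorem thompson_conj_le {X : Type*} [Group X] (p : ℕ) (P : Subgroup X) (k : X)
    (h : MulAut.conj k • thompsonSubgroupOf p P ≤ P) :
    MulAut.conj k • thompsonSubgroupOf p P ≤ thompsonSubgroupOf p P := by
  have key : ∀ A ∈ maxElementaryAbelianSubgroups p P, ∀ a ∈ A,
      k * (a : X) * k⁻¹ ∈ thompsonSubgroupOf p P := by
    intro A hA a ha
    have hmemP : ∀ a : A, k * ((a : P) : X) * k⁻¹ ∈ P := by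
      intro a
      apply h
      have : k * ((a : P) : X) * k⁻¹ = MulAut.conj k • ((a : P) : X) := rfl
      rw [this, Subgroup.smul_mem_pointwise_smul_iff]
      refine ⟨(a : P), ?_, rfl⟩
      exact le_sSup hA a.2
    let φ : ↥A →* ↥P :=
      ((MulAut.conj k).toMonoidHom.comp (P.subtype.comp A.subtype)).codRestrict P hmemP
    have hφ : ∀ a : A, ((φ a : P) : X) = k * ((a : P) : X) * k⁻¹ := fun a => rfl
    have hinj : Function.Injective φ := by
      intro a b hab
      have h1 : k * ((a : P) : X) * k⁻¹ = k * ((b : P) : X) * k⁻¹ := by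
        rw [← hφ a, ← hφ b, hab]
      have h2 : ((a : P) : X) = ((b : P) : X) := mul_left_cancel (mul_right_cancel h1)
      exact Subtype.ext (Subtype.ext h2)
    have hB : φ.range ∈ maxElementaryAbelianSubgroups p P := by
      obtain ⟨⟨hcomm, hexp⟩, hmax⟩ := hA
      refine ⟨⟨?_, ?_⟩, ?_⟩
      · have : IsMulCommutative ↥A := hcomm
        exact Subgroup.range_isMulCommutative φ
      · rintro _ ⟨a, rfl⟩
        rw [← map_pow]
        have : a ^ p = 1 := Subtype.ext (hexp a a.2)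
        rw [this, map_one]
      · intro C hC
        refine (hmax C hC).trans (le_of_eq ?_)
        exact Nat.card_congr (MonoidHom.ofInjective hinj).toEquiv
    have hmem : φ ⟨a, ha⟩ ∈ thompsonSubgroup p P := le_sSup hB ⟨⟨a, ha⟩, rfl⟩
    exact ⟨φ ⟨a, ha⟩, hmem, rfl⟩
  have hle : thompsonSubgroup p P ≤
      (thompsonSubgroupOf p P).comap ((MulAut.conj k).toMonoidHom.comp P.subtype) := by
    apply sSup_le
    intro A hA a ha
    exact key A hA a ha
  intro x hx
  rw [Subgroup.mem_pointwise_smul_iff_inv_smul_mem] at hx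
  obtain ⟨y, hy, hyx⟩ := hx
  have hx' : x = k * (y : X) * k⁻¹ := by
    have : (P.subtype y : X) = (MulAut.conj k)⁻¹ • x := hyx
    have h2 : MulAut.conj k • (P.subtype y : X) = x := by rw [this, smul_inv_smul]
    rw [← h2]; rfl
  rw [hx']
  exact hle hy

theorem thompson_conj_eq {X : Type*} [Group X] [Finite X] (p : ℕ) (P : Subgroup X) (k : X)
    (h : MulAut.conj k • thompsonSubgroupOf p P ≤ P) :
    MulAut.conj k • thompsonSubgroupOf p P = thompsonSubgroupOf p P := by
  apply Subgroup.eq_of_le_of_card_ge (thompson_conj_le p P k h)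
  exact le_of_eq (Nat.card_congr (Subgroup.equivSMul (MulAut.conj k) _).toEquiv)

theorem conj_smul_le_iff {X : Type*} [Group X] (k : X) (A B : Subgroup X) :
    MulAut.conj k • A ≤ B ↔ ∀ a ∈ A, k * a * k⁻¹ ∈ B := by
  constructor
  · intro h a ha
    apply h
    have : k * a * k⁻¹ = MulAut.conj k • a := rfl
    rw [this, Subgroup.smul_mem_pointwise_smul_iff]
    exact ha
  · intro h x hx
    rw [Subgroup.mem_pointwise_smul_iff_inv_smul_mem] at hx
    have h2 := h _ hx
    have h3 : k * ((MulAut.conj k)⁻¹ • x) * k⁻¹ = x := by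
      have : k * ((MulAut.conj k)⁻¹ • x) * k⁻¹ = MulAut.conj k • ((MulAut.conj k)⁻¹ • x) := rfl
      rw [this, smul_inv_smul]
    rwa [h3] at h2

/-- Let P be a Sylow p-subgroup of the finite group X and J = J(P) its Thompson subgroup (generated by the elementary abelian subgroups of P of largest order). If x and y lie in the centre of J and y = g x g⁻¹ for some g in X, then y = n x n⁻¹ for some n in the normalizer N_X(J). -/
theorem result {X : Type*} [Group X] [Finite X] (p : ℕ) [Fact p.Prime] (P : Sylow p X) (J : Subgroup X) (hJ : J = Cfsg.thompsonSubgroupOf p (P : Subgroup X))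
    (x y : X) (hx : x ∈ J ∧ ∀ j ∈ J, Commute j x) (hy : y ∈ J ∧ ∀ j ∈ J, Commute j y) (g : X) (hg : g * x * g⁻¹ = y) :
    ∃ n ∈ Subgroup.normalizer (J : Set X), n * x * n⁻¹ = y := by
  have hWC : ∀ k : X, (∀ j ∈ J, k * j * k⁻¹ ∈ (P : Subgroup X)) → MulAut.conj k • J = J := by
    intro k hk
    rw [hJ]
    apply thompson_conj_eq
    rw [conj_smul_le_iff, ← hJ]
    exact hk
  have hJP : J ≤ (P : Subgroup X) := by
    rw [hJ]
    rintro _ ⟨a, -, rfl⟩
    exact a.2
  have hJp : IsPGroup p J := P.isPGroup'.to_le hJP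
  set C := Subgroup.centralizer ({y} : Set X) with hC
  have hmemC : ∀ z : X, z ∈ C ↔ z * y = y * z := by
    intro z
    rw [hC, Subgroup.mem_centralizer_iff]
    constructor
    · intro h; exact (h y rfl).symm
    · intro h w hw; rw [Set.mem_singleton_iff.mp hw]; exact h.symm
  have hJC : J ≤ C := fun j hj => (hmemC j).2 (hy.2 j hj).eq
  have hJgC : ∀ j ∈ J, g * j * g⁻¹ ∈ C := by
    intro j hj
    rw [hmemC, ← hg]
    have := (hx.2 j hj).eq
    calc g * j * g⁻¹ * (g * x * g⁻¹) = g * (j * x) * g⁻¹ := by group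
      _ = g * (x * j) * g⁻¹ := by rw [this]
      _ = g * x * g⁻¹ * (g * j * g⁻¹) := by group
  -- Sylow subgroups of C
  obtain ⟨T, hT⟩ := IsPGroup.exists_le_sylow (hJp.comap_subtype (K := C))
  have hJg_p : IsPGroup p (MulAut.conj g • J : Subgroup X) :=
    hJp.of_equiv (Subgroup.equivSMul (MulAut.conj g) J)
  obtain ⟨T', hT'⟩ := IsPGroup.exists_le_sylow (hJg_p.comap_subtype (K := C))
  obtain ⟨c, hc⟩ := MulAction.exists_smul_eq C T T'
  -- the p-subgroup Q of X
  have hQp : IsPGroup p ((T : Subgroup C).map C.subtype) := T.isPGroup'.map _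
  obtain ⟨R, hR⟩ := IsPGroup.exists_le_sylow hQp
  obtain ⟨h, hh⟩ := MulAction.exists_smul_eq X P R
  have hmemR : ∀ z : X, z ∈ (R : Subgroup X) → h⁻¹ * z * h⁻¹⁻¹ ∈ (P : Subgroup X) := by
    intro z hz
    rw [← hh, Sylow.coe_subgroup_smul, Subgroup.mem_pointwise_smul_iff_inv_smul_mem] at hz
    have : (MulAut.conj h)⁻¹ • z = h⁻¹ * z * h⁻¹⁻¹ := by
      rw [← map_inv]; rfl
    rwa [this] at hz
  have h1 : ∀ j ∈ J, j ∈ (R : Subgroup X) := by
    intro j hj
    apply hR
    exact ⟨⟨j, hJC hj⟩, hT (Subgroup.mem_comap.mpr hj), rfl⟩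
  have h2 : ∀ j ∈ J, (c : X)⁻¹ * (g * j * g⁻¹) * (c : X) ∈ (R : Subgroup X) := by
    intro j hj
    apply hR
    have hmem : (⟨g * j * g⁻¹, hJgC j hj⟩ : C) ∈ (T' : Subgroup C) := by
      apply hT'
      rw [Subgroup.mem_comap]
      have : g * j * g⁻¹ = MulAut.conj g • j := rfl
      show g * j * g⁻¹ ∈ MulAut.conj g • J
      rw [this, Subgroup.smul_mem_pointwise_smul_iff]
      exact hj
    rw [← hc, Sylow.coe_subgroup_smul, Subgroup.mem_pointwise_smul_iff_inv_smul_mem] at hmem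
    refine ⟨_, hmem, ?_⟩
    have : (MulAut.conj c)⁻¹ • (⟨g * j * g⁻¹, hJgC j hj⟩ : C) =
        c⁻¹ * (⟨g * j * g⁻¹, hJgC j hj⟩ : C) * c⁻¹⁻¹ := by
      rw [← map_inv]; rfl
    rw [this]
    simp
  have e1 : MulAut.conj h⁻¹ • J = J := hWC h⁻¹ (fun j hj => hmemR j (h1 j hj))
  have e2 : MulAut.conj (h⁻¹ * ((c : X)⁻¹ * g)) • J = J := by
    apply hWC
    intro j hj
    have := hmemR _ (h2 j hj)
    convert this using 1
    group
  have e3 : MulAut.conj ((c : X)⁻¹ * g) • J = J := by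
    have : MulAut.conj ((c : X)⁻¹ * g) = MulAut.conj h * MulAut.conj (h⁻¹ * ((c : X)⁻¹ * g)) := by
      rw [← map_mul]; congr 1; group
    rw [this, mul_smul, e2]
    conv_lhs => rw [← e1]
    rw [← mul_smul, ← map_mul, mul_inv_cancel, map_one, one_smul]
  refine ⟨(c : X)⁻¹ * g, ?_, ?_⟩
  · rw [Subgroup.mem_normalizer_iff]
    intro z
    have hz : (c : X)⁻¹ * g * z * ((c : X)⁻¹ * g)⁻¹ = MulAut.conj ((c : X)⁻¹ * g) • z := rfl
    rw [hz]
    conv_rhs => rw [← e3]
    rw [Subgroup.smul_mem_pointwise_smul_iff]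
  · have hcy : (c : X) * y = y * (c : X) := (hmemC c).1 c.2
    calc (c : X)⁻¹ * g * x * ((c : X)⁻¹ * g)⁻¹ = (c : X)⁻¹ * (g * x * g⁻¹) * (c : X) := by group
      _ = (c : X)⁻¹ * y * (c : X) := by rw [hg]
      _ = (c : X)⁻¹ * (y * (c : X)) := by group
      _ = (c : X)⁻¹ * ((c : X) * y) := by rw [hcy]
      _ = y := by group

end Cfsg.Agent.S5306
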