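import Cfsg.Statements.S5311
import Cfsg.Agent.Lib.Helper96.FusTr6

set_option autoImplicit false
open Cfsg

namespace Cfsg.Agent.S5311

open Cfsg.FusionSystem Cfsg.Agent.Lib.Helper96.FusTr Cfsg.Agent.Lib.Helper87

theorem le_of_sn {Ω : Type*} [Group Ω] {T S₀ : Subgroup Ω} {E : FusionSystem T}
    {F : FusionSystem S₀} {p : ℕ} (h : E.IsSubnormalIn F p) : T ≤ S₀ := by
  induction h with
  | refl F p => exact le_rfl
  | step _ hDF ih => exact ih.trans hDF.1.2.2.2.1.1

theorem sameSys_of_isMorphism {Ω : Type*} [Group Ω] {S : Subgroup Ω} (a : S ≃* S)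
    (F : FusionSystem S) (h1 : F.IsMorphism F (iota a)) (h2 : F.IsMorphism F (iota a.symm)) :
    SameSys (push a F le_rfl) F := by
  refine ⟨img_self a, fun P' => Set.ext fun φ' => ⟨?_, ?_⟩⟩
  · rintro ⟨P, φ, hφ, c⟩
    obtain ⟨φ₂, hφ₂, hind⟩ := h1.2 P φ hφ
    have c₂ : Corr a φ φ₂ := corr_of_inducedAlong a hind
    have hP' := c.2.2.1
    subst hP'
    rw [c.unique c₂]; exact hφ₂
  · intro hφ'
    obtain ⟨φ₂, hφ₂, hind⟩ := h2.2 P' φ' hφ'
    have c₂ : Corr a.symm φ' φ₂ := corr_of_inducedAlong a.symm hind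
    exact ⟨_, φ₂, hφ₂, Corr.of_symm c₂⟩

/-- The layer of a saturated fusion system F over a finite p-group S is characteristic in F: for every automorphism α of S that is an automorphism of F (α and its inverse are morphisms from F to F) and every layer E of F over T, α carries T onto T and, for every map φ of E with source P, the map induced by α on α(P) (that is, α ∘ φ ∘ α⁻¹) is a map of E. -/
theorem result {Ω : Type*} [Group Ω] {S : Subgroup Ω} [Finite S] (p : ℕ) [Fact p.Prime] (hS : IsPGroup p S) (F : Cfsg.FusionSystem S) (hF : F.IsSaturated p)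
    (α : ↥S ≃* ↥S) (hα : F.IsMorphism F (S.subtype.comp α.toMonoidHom))
    (hα' : F.IsMorphism F (S.subtype.comp α.symm.toMonoidHom))
    {T : Subgroup Ω} (E : Cfsg.FusionSystem T) (hE : E.IsLayerOf F p) :
    Cfsg.FusionSystem.imageAlong (S.subtype.comp α.toMonoidHom) T = T ∧
      ∀ (P : Subgroup Ω) (φ : ↥P →* Ω), φ ∈ E.Hom P →
        ∀ φ' : ↥(Cfsg.FusionSystem.imageAlong (S.subtype.comp α.toMonoidHom) P) →* Ω,
          Cfsg.FusionSystem.InducedAlong (S.subtype.comp α.toMonoidHom) φ φ' →
            φ' ∈ E.Hom (Cfsg.FusionSystem.imageAlong (S.subtype.comp α.toMonoidHom) P) := by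
  have hF1 : SameSys (push α F le_rfl) F := sameSys_of_isMorphism α F hα hα'
  have hF2 : SameSys (push α.symm F le_rfl) F := sameSys_of_isMorphism α.symm F hα' hα
  obtain ⟨hEn, hEc, hEmin⟩ := hE
  have hT : T ≤ S := hEn.1.2.2.2.1.1
  have key : ∀ (b : S ≃* S), SameSys (push b F le_rfl) F → SameSys (push b.symm F le_rfl) F →
      E.IsSubsystemOf (push b E hT) := by
    intro b hb hb'
    apply hEmin _ (push b E hT)
    · exact hb.elim (fun D => (push b E hT).IsNormalIn D p)
        (push_isNormalIn b E F hT le_rfl hEn)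
    · intro U C hC
      have hUS : U ≤ S := le_of_sn hC.1
      have h1 : (push b.symm C hUS).IsComponentIn F p :=
        hb'.elim (fun D => (push b.symm C hUS).IsComponentIn D p)
          (push_isComponentIn b.symm C hUS F le_rfl hC)
      have h2 := hEc _ _ h1
      have h3 := push_mono b _ E (img_le b.symm U) hT h2
      have h4 := push_push' b C hUS
      intro P φ hφ
      rw [← h4.2 P] at hφ
      exact h3 P hφ
  have h1 := key α hF1 hF2
  have h2 := key α.symm hF2 hF1
  have h3 : (push α E hT).IsSubsystemOf E := by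
    have h5 := push_mono α E (push α.symm E hT) hT (img_le α.symm T) h2
    have h4 := push_push' α E hT
    intro P φ hφ
    rw [← h4.2 P]; exact h5 P hφ
  have hT1 : T ≤ img α T := ((push α E hT).le_of_mem (h1 T (subtype_mem E le_rfl))).1
  have hT2 : img α T ≤ T :=
    (E.le_of_mem (h3 _ (subtype_mem (push α E hT) le_rfl))).1
  refine ⟨le_antisymm hT2 hT1, fun P φ hφ φ' hind => ?_⟩
  have c : Corr α φ φ' := corr_of_inducedAlong α hind
  exact h3 _ ⟨P, φ, hφ, c⟩

end Cfsg.Agent.S5311
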