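import Cfsg.Statements.S5317
import Cfsg.Agent.Lib.Helper19.FusPSL2
import Cfsg.Agent.Lib.Helper19.DicksonUse

set_option autoImplicit false
open Cfsg

namespace Cfsg.Agent.S5317

/-- Let F be a finite field of odd order q with q² ≡ 1 mod 16 (so that a Sylow 2-subgroup of PSL(2,q), dihedral of order the 2-part of (q²−1)/2, has order at least 8). Then the 2-fusion system of PSL(2,F) on a Sylow 2-subgroup is simple: saturated, over a nontrivial 2-group, with no normal subsystem other than the trivial one and itself. -/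
theorem result {F : Type*} [Field F] [Fintype F] (hodd : Fintype.card F % 2 = 1) (h16 : 16 ∣ Fintype.card F ^ 2 - 1)
    (S : Sylow 2 (Matrix.ProjectiveSpecialLinearGroup (Fin 2) F)) :
    (Cfsg.groupFusionSystem (S : Subgroup (Matrix.ProjectiveSpecialLinearGroup (Fin 2) F))).IsSimple 2 := by
  classical
  have hqodd : Odd (Fintype.card F) := Nat.odd_iff.mpr hodd
  -- the characteristic
  obtain ⟨p, hp⟩ := CharP.exists F
  have : Fact p.Prime := ⟨CharP.char_is_prime F p⟩
  have pp : p.Prime := Fact.out
  have hp2 : p ≠ 2 := by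
    rintro rfl
    obtain ⟨n, _, hn⟩ := FiniteField.card F 2
    rw [hn] at hqodd
    exact (Nat.not_even_iff_odd.mpr hqodd) (Nat.even_pow.mpr ⟨even_two, n.ne_zero⟩)
  have h2F : (2 : F) ≠ 0 := Cfsg.Agent.Lib.Helper60.two_ne_zero_of_odd_card hqodd
  set D := Cfsg.Agent.Lib.Helper48.Dickson.dstruct (F := F)
    (Cfsg.Agent.Lib.Helper48.Dickson.tPack p) (Cfsg.Agent.Lib.Helper48.Dickson.uPack p) with hD
  have : Fact (Nat.Prime 2) := ⟨Nat.prime_two⟩
  -- the order of `S`
  have h8 : 8 ≤ Nat.card (S : Subgroup (Matrix.ProjectiveSpecialLinearGroup (Fin 2) F)) := by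
    have hpsl := Cfsg.Agent.Lib.Helper19.DicksonUse.card_psl_mul_d (F := F)
    rw [Cfsg.Agent.Lib.Helper19.DicksonUse.gcd_two_odd hqodd] at hpsl
    have h1 : 16 ∣ Nat.card (Matrix.ProjectiveSpecialLinearGroup (Fin 2) F) * 2 := by
      rw [hpsl]
      have : Fintype.card F * Fintype.card F - 1 = Fintype.card F ^ 2 - 1 := by rw [pow_two]
      rw [this]
      exact Dvd.dvd.mul_left h16 _
    have h2 : 2 ^ 3 ∣ Nat.card (Matrix.ProjectiveSpecialLinearGroup (Fin 2) F) := by
      have : (16 : ℕ) = 8 * 2 := by norm_num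
      rw [this] at h1
      exact Nat.dvd_of_mul_dvd_mul_right (by norm_num) h1
    have h3 := S.pow_dvd_card_of_pow_dvd_card h2
    exact Nat.le_of_dvd Nat.card_pos h3
  have hS1 : (S : Subgroup (Matrix.ProjectiveSpecialLinearGroup (Fin 2) F)) ≠ ⊥ := by
    intro h
    rw [h, Subgroup.card_bot] at h8
    omega
  -- a central involution
  have hSnt : Nontrivial (S : Subgroup (Matrix.ProjectiveSpecialLinearGroup (Fin 2) F)) :=
    (Subgroup.nontrivial_iff_ne_bot _).mpr hS1
  have hcnt := S.isPGroup'.center_nontrivial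
  have hcp : IsPGroup 2 (Subgroup.center (S : Subgroup
      (Matrix.ProjectiveSpecialLinearGroup (Fin 2) F))) := S.isPGroup'.to_subgroup _
  have h2dvd : 2 ∣ Nat.card (Subgroup.center (S : Subgroup
      (Matrix.ProjectiveSpecialLinearGroup (Fin 2) F))) := by
    obtain ⟨n, hn⟩ := hcp.exists_card_eq
    have hn0 : n ≠ 0 := by
      rintro rfl
      rw [pow_zero] at hn
      have := Finite.one_lt_card (α := Subgroup.center (S : Subgroup
        (Matrix.ProjectiveSpecialLinearGroup (Fin 2) F)))
      omega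
    rw [hn]; exact dvd_pow_self 2 hn0
  obtain ⟨z', hz'⟩ := exists_prime_orderOf_dvd_card' (G := Subgroup.center (S : Subgroup
      (Matrix.ProjectiveSpecialLinearGroup (Fin 2) F))) 2 h2dvd
  have hz'1 : orderOf z'.1 = 2 := (Subgroup.orderOf_coe z').trans hz'
  have hz'2 : orderOf z'.1.1 = 2 := (Subgroup.orderOf_coe z'.1).trans hz'1
  set z : Matrix.ProjectiveSpecialLinearGroup (Fin 2) F := z'.1.1 with hz
  -- the Sylow subgroup is not contained in a torus
  have hncyc : ¬ (S : Subgroup (Matrix.ProjectiveSpecialLinearGroup (Fin 2) F)) ≤ D.comp z := by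
    intro hle
    have hz1 : z ≠ 1 := by
      intro h
      rw [h, orderOf_one] at hz'2
      omega
    have hT : (Nat.card (D.comp z)).Coprime p := by
      rcases D.dich z hz1 with hU | hT
      · exfalso
        obtain ⟨k, hk⟩ := hU ⟨z, D.mem_comp z⟩
        have hk' : z ^ p ^ k = 1 := by
          have := congrArg Subtype.val hk
          simpa using this
        have h1 : 2 ∣ p ^ k := by rw [← hz'2]; exact orderOf_dvd_of_pow_eq_one hk'
        have h2 : 2 ∣ p := Nat.Prime.dvd_of_dvd_pow Nat.prime_two h1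
        exact hp2 ((Nat.prime_dvd_prime_iff_eq Nat.prime_two pp).mp h2).symm
      · exact hT
    have hcycA : IsCyclic (D.comp z) := D.t_cyc z hz1 hT
    have hcycS : IsCyclic (S : Subgroup (Matrix.ProjectiveSpecialLinearGroup (Fin 2) F)) :=
      Subgroup.isCyclic_of_le hle
    -- a Klein four-group
    have h807 := Cfsg.Agent.S0807.result (F := F) rfl hqodd
    have hne : Nonempty {V : Subgroup (Matrix.ProjectiveSpecialLinearGroup (Fin 2) F) //
        IsKleinFour V} := by
      by_contra hemp
      rw [not_nonempty_iff] at hemp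
      rw [Nat.card_of_isEmpty, mul_zero] at h807
      have := Nat.card_pos (α := Matrix.ProjectiveSpecialLinearGroup (Fin 2) F)
      omega
    obtain ⟨V, hV⟩ := hne
    have hV2 : IsPGroup 2 V := IsPGroup.of_card (n := 2) (by rw [hV.card_four]; norm_num)
    obtain ⟨Q, hVQ⟩ := hV2.exists_le_sylow
    have e : (S : Subgroup (Matrix.ProjectiveSpecialLinearGroup (Fin 2) F)) ≃*
        (Q : Subgroup (Matrix.ProjectiveSpecialLinearGroup (Fin 2) F)) := Sylow.equiv S Q
    have hcycQ : IsCyclic (Q : Subgroup (Matrix.ProjectiveSpecialLinearGroup (Fin 2) F)) :=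
      isCyclic_of_surjective e e.surjective
    have hcycV : IsCyclic V := Subgroup.isCyclic_of_le hVQ
    exact IsKleinFour.not_isCyclic hcycV
  have hset : Cfsg.Agent.Lib.Helper19.FusPSL2.Setup D S z :=
    { hp2 := hp2
      hzS := z'.1.2
      hz1 := by
        intro h
        rw [h, orderOf_one] at hz'2
        omega
      hz2 := by
        have := pow_orderOf_eq_one z
        rwa [hz'2] at this
      hzc := by
        intro s hs
        have := (Subgroup.mem_center_iff.mp z'.2) ⟨s, hs⟩
        have h' := congrArg Subtype.val this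
        exact h'
      hcard := h8
      hncyc := hncyc }
  -- all involutions are conjugate
  have hw4 : Nat.card (Subgroup.zpowers (Cfsg.Agent.Lib.Helper60.sl2w F)) = 4 := by
    rw [Nat.card_zpowers]
    exact Cfsg.Agent.S0809.orderOf_eq_four h2F _ (Cfsg.Agent.Lib.Helper60.sl2w_sq F)
  have hconj := (Cfsg.Agent.S0809.result (F := F) rfl hqodd _ hw4).2.2.2
  exact Cfsg.Agent.Lib.Helper10.groupFusion_isSimple 2 S hS1 (hset.strongly_closed hconj)
    hset.normalizer_le

end Cfsg.Agent.S5317
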