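import Cfsg.Statements.S5327
import Cfsg.Agent.Lib.Helper91.Fusion

set_option autoImplicit false
open Cfsg Cfsg.Agent.Lib.Helper91

namespace Cfsg.Agent.S5327

/-- Let F be a saturated fusion system over a finite p-group S. Call a family of subgroups of S generating when every fusion system over S whose automorphism group of each member R contains Aut_F(R) contains every map of F. If two families are each closed under F-conjugacy and each generating, then their intersection is generating. -/
theorem result {Ω : Type*} [Group Ω] {S : Subgroup Ω} [Finite S] (p : ℕ) [Fact p.Prime] (hS : IsPGroup p S) (F : Cfsg.FusionSystem S) (hF : F.IsSaturated p) (𝒬₁ 𝒬₂ : Set (Subgroup Ω)) (h₁ : ∀ R ∈ 𝒬₁, ∀ R' : Subgroup Ω, F.IsConj R R' → R' ∈ 𝒬₁) (h₂ : ∀ R ∈ 𝒬₂, ∀ R' : Subgroup Ω, F.IsConj R R' → R' ∈ 𝒬₂) (hg₁ : ∀ E : Cfsg.FusionSystem S, (∀ R ∈ 𝒬₁, F.autGroup R ≤ E.autGroup R) → F ≤ E) (hg₂ : ∀ E : Cfsg.FusionSystem S, (∀ R ∈ 𝒬₂, F.autGroup R ≤ E.autGroup R) → F ≤ E) (E : Cfsg.FusionSystem S) (hE : ∀ R ∈ 𝒬₁ ∩ 𝒬₂, F.autGroup R ≤ E.autGroup R) : F ≤ E := by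
  classical
  -- statement A m : all maps of F with source of order at least m belong to E
  have key : ∀ d m : ℕ, Nat.card S + 1 ≤ m + d →
      ∀ P : Subgroup Ω, m ≤ Nat.card P → F.Hom P ⊆ E.Hom P := by
    intro d
    induction d with
    | zero =>
      intro m hm P hP φ hφ
      exfalso
      have hPS : P ≤ S := hom_le F hφ
      have : Finite P := finite_of_le hPS
      have := Nat.card_le_card_of_injective (Subgroup.inclusion hPS) (Subgroup.inclusion_injective hPS)
      omega
    | succ d ih =>
      intro m hm
      have A := ih (m + 1) (by omega)
      -- the filtered system E₁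
      have hPr₁ : ∀ (P Q : Subgroup Ω) (φ : P →* Ω), φ ∈ F.Hom P → (∀ x : P, φ x ∈ Q) → Q ≤ S →
          m ≤ Nat.card P → m ≤ Nat.card Q := by
        intro P Q φ hφ h hQ hP
        exact hP.trans (card_le_of_hom F hφ hQ h)
      set E₁ := filterSystem F E (fun P => m ≤ Nat.card P) hPr₁ with hE₁
      have hFE₁ : F ≤ E₁ := by
        apply hg₁
        intro R hR₁
        apply Subgroup.closure_mono
        intro α hα
        have hRS : R ≤ S := hom_le F hα
        refine ⟨hα, fun hmR => ?_⟩
        rcases Nat.lt_or_eq_of_le hmR with hlt | heq
        · exact A R hlt hα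
        · by_cases hR₂ : R ∈ 𝒬₂
          · have h1 : α ∈ F.autGroup R := Subgroup.subset_closure hα
            have h2 := hE R ⟨hR₁, hR₂⟩ h1
            exact (mem_autGroup_iff E hRS α).mp h2
          · -- the filtered system E₂
            have hPr₂ : ∀ (P Q : Subgroup Ω) (φ : P →* Ω), φ ∈ F.Hom P → (∀ x : P, φ x ∈ Q) → Q ≤ S →
                (m < Nat.card P ∨ (Nat.card P = m ∧ F.IsConj R P)) →
                (m < Nat.card Q ∨ (Nat.card Q = m ∧ F.IsConj R Q)) := by
              intro P Q φ hφ h hQ hP
              have hle := card_le_of_hom F hφ hQ h
              rcases hP with hP | ⟨hPm, hRP⟩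
              · left; omega
              · rcases Nat.lt_or_eq_of_le hle with hlt | heq'
                · left; omega
                · right
                  refine ⟨by omega, ?_⟩
                  apply isConj_trans F hRP
                  refine ⟨φ, hφ, ?_⟩
                  -- the image of φ is all of Q by cardinality
                  have : Finite Q := finite_of_le hQ
                  have : Finite P := finite_of_le (hom_le F hφ)
                  have hinj : Function.Injective (φ.codRestrict Q h) := by
                    intro a b hab
                    apply F.injective_of_mem hφ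
                    exact congrArg Subtype.val hab
                  have hbij : Function.Bijective (φ.codRestrict Q h) :=
                    (Nat.bijective_iff_injective_and_card _).mpr ⟨hinj, heq'⟩
                  ext y
                  constructor
                  · rintro ⟨x, rfl⟩
                    exact h x
                  · intro hy
                    obtain ⟨x, hx⟩ := hbij.2 ⟨y, hy⟩
                    exact ⟨x, congrArg Subtype.val hx⟩
            set E₂ := filterSystem F E
              (fun P => m < Nat.card P ∨ (Nat.card P = m ∧ F.IsConj R P)) hPr₂ with hE₂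
            have hFE₂ : F ≤ E₂ := by
              apply hg₂
              intro R' hR'₂
              apply Subgroup.closure_mono
              intro β hβ
              refine ⟨hβ, fun hP => ?_⟩
              rcases hP with hP | ⟨-, hRR'⟩
              · exact A R' hP hβ
              · exfalso
                exact hR₂ (h₂ R' hR'₂ R (isConj_symm F hRR'))
            have := hFE₂ R hα
            exact this.2 (Or.inr ⟨heq.symm, isConj_refl F hRS⟩)
      intro P hP φ hφ
      exact (hFE₁ P hφ).2 hP
  intro P
  exact key (Nat.card S + 1) 0 (by omega) P (Nat.zero_le _)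

end Cfsg.Agent.S5327
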