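import Cfsg.Statements.S5328
import Cfsg.Agent.Lib.Helper87.BisetAut

set_option autoImplicit false
universe u
open Cfsg

namespace Cfsg.Agent.S5328

open Cfsg.Agent.Lib.Helper87

/-- The base point: the coset of `1` in a copy of `(S × S) ⧸ diag`. -/
noncomputable def basePoint {Ω : Type u} [Group Ω] {S : Subgroup Ω} (m : Subgroup (↥S × ↥S) → ℕ)
    (h : m (diagS S) ≠ 0) : BSet m :=
  ⟨⟨diagS S, ⟨0, Nat.pos_of_ne_zero h⟩⟩, ((1 : ↥S × ↥S) : (↥S × ↥S) ⧸ diagS S)⟩

theorem smul_basePoint_eq_iff {Ω : Type u} [Group Ω] {S : Subgroup Ω} (m : Subgroup (↥S × ↥S) → ℕ)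
    (h : m (diagS S) ≠ 0) (k : ↥S × ↥S) : k • basePoint m h = basePoint m h ↔ k.1 = k.2 := by
  unfold basePoint
  rw [bset_smul]
  constructor
  · intro e
    have h2 : k • ((1 : ↥S × ↥S) : (↥S × ↥S) ⧸ diagS S) = ((1 : ↥S × ↥S) : (↥S × ↥S) ⧸ diagS S) :=
      eq_of_heq (Sigma.mk.inj e).2
    rw [MulAction.Quotient.smul_mk, eq_comm, QuotientGroup.eq, smul_eq_mul, inv_one, one_mul, mul_one] at h2
    exact h2
  · intro e
    have h2 : k • ((1 : ↥S × ↥S) : (↥S × ↥S) ⧸ diagS S) = ((1 : ↥S × ↥S) : (↥S × ↥S) ⧸ diagS S) := by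
      rw [MulAction.Quotient.smul_mk, eq_comm, QuotientGroup.eq, smul_eq_mul, inv_one, one_mul, mul_one]
      exact e
    rw [h2]

/-- Every fusion system over a finite p-group S, saturated or not, is realized inside some finite group: there is a finite group G and an injective homomorphism ι of S into G such that the maps of the system are exactly the homomorphisms between subgroups of S that become conjugations by elements of G (the image of S need not be a Sylow p-subgroup of G). -/
theorem result {Ω : Type u} [Group Ω] {S : Subgroup Ω} [Finite S] (p : ℕ) [Fact p.Prime] (hS : IsPGroup p S) (F : Cfsg.FusionSystem S) : ∃ (G : Type u) (_ : Group G) (_ : Finite G) (ι : ↥S →* G), F.IsRealizedBy ι := by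
  obtain ⟨m, hm1, hm2, hm3⟩ := exists_uniform_bset (twisted F) (fun K D h hK => twisted_of_sconj F h hK)
  have hm0 : m (diagS S) ≠ 0 := hm2 _ (diagS_mem_twisted F)
  refine ⟨rightAut ↥S (BSet m), inferInstance, inferInstance, leftHom ↥S (BSet m), ?_, ?_⟩
  · -- injectivity
    rw [injective_iff_map_eq_one]
    intro s hs
    have h1 : ((s, (1 : ↥S)) : ↥S × ↥S) • basePoint m hm0 = basePoint m hm0 := by
      rw [← leftHom_apply, hs]; rfl
    exact (smul_basePoint_eq_iff m hm0 _).mp h1
  · intro P hP φ hφS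
    constructor
    · intro hφ
      haveI : Finite P := finite_of_le hP
      have hmarks : ∀ K : Subgroup (↥P × ↥S),
          Nat.card {x : BSet m // ∀ k ∈ K.map ((Subgroup.inclusion hP).prodMap (MonoidHom.id ↥S)), k • x = x} =
          Nat.card {x : BSet m // ∀ k ∈ K.map ((φ.codRestrict S hφS).prodMap (MonoidHom.id ↥S)), k • x = x} := by
        intro K
        show bmark m _ = bmark m _
        by_cases hK : K.map ((Subgroup.inclusion hP).prodMap (MonoidHom.id ↥S)) ∈ twisted F
        · have hK' := (twisted_map_left_iff F hP hφ hφS K).mp hK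
          exact hm3 _ _ hK hK' (card_map_left_eq F hP hφ hφS K)
        · have hK' : K.map ((φ.codRestrict S hφS).prodMap (MonoidHom.id ↥S)) ∉ twisted F :=
            fun h => hK ((twisted_map_left_iff F hP hφ hφS K).mpr h)
          rw [bmark_eq_zero_of_not_mem (twisted F) (fun K D h hK => twisted_of_sconj F h hK)
            (fun K D h hD => twisted_of_le F h hD) m hm1 hK,
            bmark_eq_zero_of_not_mem (twisted F) (fun K D h hK => twisted_of_sconj F h hK)
            (fun K D h hD => twisted_of_le F h hD) m hm1 hK']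
      obtain ⟨g, hg⟩ := exists_rightAut_of_marks (X := BSet m) (Subgroup.inclusion hP)
        (φ.codRestrict S hφS) hmarks
      exact ⟨g, fun x => hg x⟩
    · rintro ⟨g, hg⟩
      -- the point `η = g x₀`
      set η : BSet m := (g : Equiv.Perm (BSet m)) (basePoint m hm0) with hη
      have hstab : MulAction.stabilizer (↥S × ↥S) η ∈ twisted F :=
        bset_stabilizer_mem (twisted F) (fun K D h hK => twisted_of_sconj F h hK) m hm1 η
      obtain ⟨R, ρ, hρ, hD⟩ := hstab
      have hfix : ∀ u : P, ((⟨φ u, hφS u⟩, ⟨u, hP u.2⟩) : ↥S × ↥S) ∈ MulAction.stabilizer (↥S × ↥S) η := by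
        intro u
        rw [MulAction.mem_stabilizer_iff]
        have e1 : ((⟨φ u, hφS u⟩, ⟨u, hP u.2⟩) : ↥S × ↥S) =
            ((⟨φ u, hφS u⟩, (1 : ↥S)) : ↥S × ↥S) * (((1 : ↥S), ⟨u, hP u.2⟩) : ↥S × ↥S) := by
          simp
        have hgG := g.2
        rw [mem_rightAut] at hgG
        have e2 : leftHom ↥S (BSet m) ⟨φ u, hφS u⟩ * g = g * leftHom ↥S (BSet m) ⟨u, hP u.2⟩ := by
          rw [hg u]; group
        have e3 : ∀ y : BSet m, ((⟨φ u, hφS u⟩, (1 : ↥S)) : ↥S × ↥S) • (g : Equiv.Perm (BSet m)) y =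
            (g : Equiv.Perm (BSet m)) (((⟨u, hP u.2⟩, (1 : ↥S)) : ↥S × ↥S) • y) := by
          intro y
          have := congrArg (fun z : rightAut ↥S (BSet m) => (z : Equiv.Perm (BSet m)) y) e2
          exact this
        rw [e1, mul_smul, hη, ← hgG, e3, smul_smul]
        congr 1
        rw [smul_basePoint_eq_iff]
        simp
      have hPR : P ≤ R := by
        intro x hx
        obtain ⟨r, _, e2⟩ := (hD _).mp (hfix ⟨x, hx⟩)
        have : x = r := e2
        rw [this]; exact r.2
      have := restrict_mem F hPR hρ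
      refine hom_congr F this (fun u => ?_)
      obtain ⟨r, e1, e2⟩ := (hD _).mp (hfix u)
      have e1' : φ u = ρ r := e1
      have e2' : (u : Ω) = r := e2
      rw [e1']
      show ρ r = ρ (Subgroup.inclusion hPR u)
      congr 1
      exact Subtype.ext e2'.symm

end Cfsg.Agent.S5328
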