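import Cfsg.Statements.S5331
import Cfsg.Agent.Lib.Helper91.FusionAbelianNormal
import Cfsg.Agent.Lib.Helper91.DistinctInvariants

set_option autoImplicit false
open Cfsg Cfsg.Agent.Lib.Helper91

namespace Cfsg.Agent.S5331

/-- Let S be a finite abelian 2-group that is a direct product of cyclic groups of pairwise distinct orders 2^{a_1} < 2^{a_2} < ⋯ < 2^{a_n} (all a_i ≥ 1). Then every saturated fusion system over S is the inner one: its maps are exactly the conjugations by elements of S. -/
theorem result {Ω : Type*} [Group Ω] {S : Subgroup Ω} [Finite S] (n : ℕ) (a : Fin n → ℕ) (ha : StrictMono a) (ha1 : ∀ i, 1 ≤ a i) (e : ↥S ≃* Multiplicative ((i : Fin n) → ZMod (2 ^ a i))) (F : Cfsg.FusionSystem S) (hF : F.IsSaturated 2) (P : Subgroup Ω) : F.Hom P = (Cfsg.innerFusionSystem S).Hom P := by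
  have hcomm : ∀ x y : S, x * y = y * x := by
    intro x y
    apply e.injective
    rw [map_mul, map_mul, mul_comm]
  have hab : ∀ x ∈ S, ∀ y ∈ S, x * y = y * x := by
    intro x hx y hy
    exact congrArg Subtype.val (hcomm ⟨x, hx⟩ ⟨y, hy⟩)
  -- S is a 2-group
  have hcard : Nat.card S = 2 ^ (∑ i, a i) := by
    rw [Nat.card_congr e.toEquiv]
    show Nat.card ((i : Fin n) → ZMod (2 ^ a i)) = _
    rw [Nat.card_pi, ← Finset.prod_pow_eq_pow_sum]
    apply Finset.prod_congr rfl
    intro i _
    exact Nat.card_zmod _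
  have hS : IsPGroup 2 S := IsPGroup.of_card hcard
  have hcop := card_autGroup_top_coprime 2 hS F hF hab
  -- Aut_F(S) is trivial
  have htriv : ∀ α ∈ F.autGroup S, α = 1 := by
    intro α hα
    by_cases h0 : ∑ i, a i = 0
    · rw [h0, pow_zero] at hcard
      have : Subsingleton S := (Nat.card_eq_one_iff_unique.mp hcard).1
      ext x
      exact congrArg Subtype.val (Subsingleton.elim (α x) x)
    · have hodd : Odd (Nat.card (F.autGroup S)) := by
        rw [hcard] at hcop
        have h2 : Nat.Coprime (Nat.card (F.autGroup S)) 2 :=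
          Nat.Coprime.coprime_dvd_right (dvd_pow_self 2 h0) hcop
        exact Nat.Coprime.odd_of_right h2
      have hdvd : orderOf α ∣ Nat.card (F.autGroup S) := by
        have := orderOf_dvd_natCard (⟨α, hα⟩ : F.autGroup S)
        rwa [Subgroup.orderOf_mk] at this
      have hk : Odd (orderOf α) := Odd.of_dvd_nat hodd hdvd
      exact mulAut_odd_order_trivial n a ha ha1 e α (orderOf α) hk (pow_orderOf_eq_one α)
  -- every map of F is an inclusion
  apply Set.Subset.antisymm
  · intro φ hφ
    have hPS : P ≤ S := hom_le F hφ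
    obtain ⟨α, hα, hαx⟩ := exists_extension_of_abelian 2 F hF hab hφ
    rw [htriv α hα] at hαx
    refine hom_congr _ (subtype_mem_inner hPS) (fun x => ?_)
    rw [← hαx x (hPS x.2)]
    rfl
  · intro φ hφ
    have hPS : P ≤ S := hφ.1
    refine hom_congr F (subtype_mem F hPS) (fun x => ?_)
    exact inner_hom_apply_of_abelian hab hφ x

end Cfsg.Agent.S5331
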