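import Cfsg.Statements.S5333
import Cfsg.Agent.Lib.Helper91.FusionCentralizerCrit

set_option autoImplicit false
open Cfsg

namespace Cfsg.Agent.S5333

/-- Let F′ ≤ F be saturated fusion systems over the same finite p-group S. Suppose that for every subgroup Z ≤ S of order p that is fully centralized in F′, the maps of F and of F′ with source Z coincide and the centralizer systems C_F(Z) and C_{F′}(Z) coincide. Then F = F′. -/
theorem result {Ω : Type*} [Group Ω] {S : Subgroup Ω} [Finite S] (p : ℕ) [Fact p.Prime] (hS : IsPGroup p S) (F : Cfsg.FusionSystem S) (hF : F.IsSaturated p) (F' : Cfsg.FusionSystem S) (hF' : F'.IsSaturated p) (hle : F' ≤ F) (hZ : ∀ Z : Subgroup Ω, Z ≤ S → Nat.card Z = p → F'.IsFullyCentralized Z → F.Hom Z = F'.Hom Z ∧ ∀ (C C' : Cfsg.FusionSystem (Cfsg.FusionSystem.centralizerIn S Z)), F.IsCentralizerSystem Z C → F'.IsCentralizerSystem Z C' → ∀ P : Subgroup Ω, C.Hom P = C'.Hom P) (P : Subgroup Ω) : F.Hom P = F'.Hom P := by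
  have key : F ≤ F' := by
    apply Cfsg.Agent.Lib.Helper91.le_of_centralizer_crit p hS F F' hF' hle
    intro Z hZS hZcard hfc
    obtain ⟨h1, h2⟩ := hZ Z hZS hZcard hfc
    refine ⟨h1.le, fun P₁ => ?_⟩
    have h3 := h2 (Cfsg.Agent.Lib.Helper87.centralizerSystem F Z hZS)
      (Cfsg.Agent.Lib.Helper87.centralizerSystem F' Z hZS)
      (Cfsg.Agent.Lib.Helper87.centralizerSystem_isCentralizerSystem F Z hZS)
      (Cfsg.Agent.Lib.Helper87.centralizerSystem_isCentralizerSystem F' Z hZS) P₁
    exact h3.le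
  exact Set.Subset.antisymm (key P) (hle P)

end Cfsg.Agent.S5333
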