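import Cfsg.Statements.S5334
import Cfsg.Agent.Lib.Helper91.FusionCentricExt

set_option autoImplicit false
open Cfsg

namespace Cfsg.Agent.S5334

/-- Let F′ ≤ F be saturated fusion systems over the same finite p-group S, let Q and R be F-centric subgroups, φ a map of F with source Q and values in R, and ψ a map of F with source R. If two of φ, ψ and the composite ψ ∘ φ are maps of F′ then so is the third. -/
theorem result {Ω : Type*} [Group Ω] {S : Subgroup Ω} [Finite S] (p : ℕ) [Fact p.Prime] (hS : IsPGroup p S) (F : Cfsg.FusionSystem S) (hF : F.IsSaturated p) (F' : Cfsg.FusionSystem S) (hF' : F'.IsSaturated p) (hle : F' ≤ F) (Q R : Subgroup Ω) (hQ : F.IsCentric Q) (hR : F.IsCentric R) (φ : ↥Q →* Ω) (hφ : φ ∈ F.Hom Q) (hφR : ∀ x : Q, φ x ∈ R) (ψ : ↥R →* Ω) (hψ : ψ ∈ F.Hom R) : (φ ∈ F'.Hom Q → ψ ∈ F'.Hom R → ψ.comp (φ.codRestrict R hφR) ∈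 F'.Hom Q) ∧ (ψ ∈ F'.Hom R → ψ.comp (φ.codRestrict R hφR) ∈ F'.Hom Q → φ ∈ F'.Hom Q) ∧ (φ ∈ F'.Hom Q → ψ.comp (φ.codRestrict R hφR) ∈ F'.Hom Q → ψ ∈ F'.Hom R) := by
  refine ⟨fun h1 h2 => F'.comp_mem h1 h2 hφR, fun h2 h3 => ?_, fun h1 h3 => ?_⟩
  · -- φ = ψ⁻¹ ∘ (ψ ∘ φ)
    obtain ⟨ψi, hψi, hψix⟩ := F'.inv_mem h2
    have hr : ∀ x : Q, (ψ.comp (φ.codRestrict R hφR)) x ∈ ψ.range := fun x => ⟨_, rfl⟩
    refine Cfsg.Agent.Lib.Helper87.comp_mem' F' h3 hψi hr (fun x => ?_)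
    exact (hψix (φ.codRestrict R hφR x)).symm
  · -- ψ restricted to φ(Q) is (ψ ∘ φ) ∘ φ⁻¹
    have hQ₁R : φ.range ≤ R := by
      rintro _ ⟨x, rfl⟩
      exact hφR x
    have hQ₁ : F.IsCentric φ.range := Cfsg.Agent.Lib.Helper91.isCentric_of_isConj F hQ ⟨φ, hφ, rfl⟩
    obtain ⟨φi, hφi, hφix⟩ := F'.inv_mem h1
    have hφiQ : ∀ y : φ.range, φi y ∈ Q := by
      rintro ⟨_, x, rfl⟩
      rw [hφix]
      exact x.2
    refine Cfsg.Agent.Lib.Helper91.hom_mem_of_restrict_centric' p hS F F' hF hF' hle φ.range R hQ₁R hQ₁ ψ hψ ?_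
    refine Cfsg.Agent.Lib.Helper87.comp_mem' F' hφi h3 hφiQ ?_
    rintro ⟨_, x, rfl⟩
    have h : (⟨φi ⟨φ x, ⟨x, rfl⟩⟩, hφiQ ⟨φ x, ⟨x, rfl⟩⟩⟩ : Q) = x := Subtype.ext (hφix x)
    rw [h]
    rfl

end Cfsg.Agent.S5334
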