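import Cfsg.Statements.S5335
import Cfsg.Agent.Lib.Helper91.FusionCentricExt
import Cfsg.Agent.Lib.Helper87.FusionAut
import Cfsg.Agent.S5082

set_option autoImplicit false
open Cfsg

namespace Cfsg.Agent.S5335

/-- Let F′ ≤ F be saturated fusion systems over the same finite p-group S. If the maps of F and of F′ with source Q coincide for every F-centric subgroup Q that is minimal among F-centric subgroups, then F = F′. -/
theorem result {Ω : Type*} [Group Ω] {S : Subgroup Ω} [Finite S] (p : ℕ) [Fact p.Prime] (hS : IsPGroup p S) (F : Cfsg.FusionSystem S) (hF : F.IsSaturated p) (F' : Cfsg.FusionSystem S) (hF' : F'.IsSaturated p) (hle : F' ≤ F) (hmin : ∀ Q : Subgroup Ω, F.IsCentric Q → (∀ R : Subgroup Ω, R < Q → ¬ F.IsCentric R) → F.Hom Q = F'.Hom Q) (P : Subgroup Ω) : F.Hom P = F'.Hom P := by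
  have key : F ≤ F' := by
    apply Cfsg.Agent.S5082.result p hS F hF F'
    intro P hP α hα
    have hPc : F.IsCentric P := by
      rcases hP with rfl | hP
      · exact Cfsg.Agent.Lib.Helper91.isCentric_self F
      · exact hP.1
    have hPS : P ≤ S := hPc.1
    rw [Cfsg.Agent.Lib.Helper87.mem_autGroup_iff F hPS] at hα
    rw [Cfsg.Agent.Lib.Helper87.mem_autGroup_iff F' hPS]
    obtain ⟨Q, hQP, hQ, hQmin⟩ :=
      Cfsg.Agent.Lib.Helper91.exists_minimal_centric_le F (Nat.card P) P le_rfl hPc
    refine Cfsg.Agent.Lib.Helper91.hom_mem_of_restrict_centric' p hS F F' hF hF' hle Q P hQP hQ _ hα ?_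
    rw [← hmin Q hQ hQmin]
    exact Cfsg.Agent.Lib.Helper87.restrict_mem F hQP hα
  exact Set.Subset.antisymm (key P) (hle P)

end Cfsg.Agent.S5335
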