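import Cfsg.Statements.S5336
import Cfsg.Agent.Lib.Helper91.FusionNormalSubgroup

set_option autoImplicit false
open Cfsg

namespace Cfsg.Agent.S5336

/-- Let G be a finite group with Sylow p-subgroup S whose fusion system F_S(G) is simple. If G has no nontrivial normal subgroup of order prime to p and no proper subgroup H containing S induces the same fusion system on S as G does, then G is a simple group. -/
theorem result {G : Type*} [Group G] [Finite G] (p : ℕ) [Fact p.Prime] (S : Sylow p G) (hsimple : (Cfsg.groupFusionSystem (S : Subgroup G)).IsSimple p) (hcore : Cfsg.pPrimeCore p G = ⊥) (hmin : ∀ (H : Subgroup G) (hSH : (S : Subgroup G) ≤ H), H ≠ ⊤ → ∃ P : Subgroup G, (Cfsg.fusionSystemOfSubgroup H (S : Subgroup G) hSH).Hom P ≠ (Cfsg.groupFusionSystem (S : Subgroup G)).Hom P) : IsSimpleGroup G := by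
  obtain ⟨-, hSne, hsimp⟩ := hsimple
  have hnt : Nontrivial G := by
    by_contra hnt
    rw [not_nontrivial_iff_subsingleton] at hnt
    apply hSne
    exact Subsingleton.elim _ _
  refine { toNontrivial := hnt, eq_bot_or_eq_top_of_normal := ?_ }
  intro N hN
  have hnormal := Cfsg.Agent.Lib.Helper91.fusionSystemOfSubgroup_isNormalIn p S N
  rcases hsimp _ _ hnormal with hT | ⟨hT, hHom⟩
  · -- `S ∩ N = 1`: `N` has order prime to `p`
    left
    obtain ⟨P, hP⟩ := Cfsg.Agent.Lib.Helper90.exists_sylow_eq_subgroupOf S N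
    have hPbot : (P : Subgroup N) = ⊥ := by
      rw [hP, eq_bot_iff]
      intro x hx
      rw [Subgroup.mem_subgroupOf] at hx
      have hx' : (x : G) ∈ (S : Subgroup G) ⊓ N := ⟨hx, x.2⟩
      rw [hT] at hx'
      rw [Subgroup.mem_bot]
      exact Subtype.ext (Subgroup.mem_bot.mp hx')
    have hcop : (Nat.card N).Coprime p := by
      have hp : p.Prime := Fact.out
      rw [Nat.coprime_comm, Nat.Prime.coprime_iff_not_dvd hp]
      intro hdvd
      have h1 := P.card_eq_multiplicity
      rw [hPbot] at h1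
      have h2 : Nat.card (⊥ : Subgroup N) = 1 := Subgroup.card_bot
      rw [h2] at h1
      have h3 : 0 < (Nat.card N).factorization p :=
        hp.factorization_pos_of_dvd Nat.card_pos.ne' hdvd
      have h4 : 1 < p ^ (Nat.card N).factorization p := Nat.one_lt_pow h3.ne' hp.one_lt
      omega
    have hle : N ≤ Cfsg.pPrimeCore p G := le_sSup ⟨hN, hcop⟩
    rw [hcore] at hle
    exact eq_bot_iff.mpr hle
  · right
    by_contra hne
    have hSN : (S : Subgroup G) ≤ N := by
      rw [← hT]; exact inf_le_right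
    obtain ⟨P, hP⟩ := hmin N hSN hne
    apply hP
    rw [← hHom P]
    ext φ
    show (P ≤ (S : Subgroup G) ∧ (∀ x : P, φ x ∈ (S : Subgroup G)) ∧ ∃ g ∈ N, ∀ x : P, φ x = g * (x : G) * g⁻¹) ↔
      (P ≤ (S : Subgroup G) ⊓ N ∧ (∀ x : P, φ x ∈ (S : Subgroup G) ⊓ N) ∧ ∃ g ∈ N, ∀ x : P, φ x = g * (x : G) * g⁻¹)
    rw [hT]

end Cfsg.Agent.S5336
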