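import Cfsg.Statements.S5337
import Cfsg.Agent.Lib.Helper91.FusionAbelianNormal

set_option autoImplicit false
open Cfsg Cfsg.Agent.Lib.Helper91

namespace Cfsg.Agent.S5337

/-- Let F be a saturated fusion system over a finite abelian p-group S. Then F is simple if and only if S has order p and F is the inner system of S (whose only maps are the inclusions, S being abelian). -/
theorem result {Ω : Type*} [Group Ω] {S : Subgroup Ω} [Finite S] (p : ℕ) [Fact p.Prime] (hS : IsPGroup p S) (F : Cfsg.FusionSystem S) (hF : F.IsSaturated p) (hab : ∀ x ∈ S, ∀ y ∈ S, x * y = y * x) : F.IsSimple p ↔ (Nat.card S = p ∧ ∀ P : Subgroup Ω, F.Hom P = (Cfsg.innerFusionSystem S).Hom P) := by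
  constructor
  · intro hsimple
    obtain ⟨-, hS1, hnorm⟩ := hsimple
    -- the inner system of S is normal in F
    have h1 := inner_isNormalIn_of_abelian p F hF hab S le_rfl (fun α _ x _ => (α x).2)
    have hinner : ∀ P : Subgroup Ω, (Cfsg.innerFusionSystem S).Hom P = F.Hom P := by
      rcases hnorm S _ h1 with h | h
      · exact absurd h hS1
      · exact h.2
    -- so Aut_F(S) is trivial and every subgroup is invariant
    have htriv : ∀ α ∈ F.autGroup S, ∀ x : S, α x = x := by
      intro α hα x
      have h2 := (mem_autGroup_iff F le_rfl α).mp hα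
      rw [← hinner S] at h2
      apply Subtype.ext
      exact inner_hom_apply_of_abelian hab h2 x
    have hsub : ∀ T : Subgroup Ω, T ≤ S → T = ⊥ ∨ T = S := by
      intro T hTS
      have h3 := inner_isNormalIn_of_abelian p F hF hab T hTS
        (fun α hα x hx => by rw [htriv α hα x]; exact hx)
      rcases hnorm T _ h3 with h | h
      · exact Or.inl h
      · exact Or.inr h.1
    refine ⟨?_, fun P => (hinner P).symm⟩
    -- S has an element of order p, generating a subgroup which must be S
    have : Nontrivial S := (Subgroup.nontrivial_iff_ne_bot S).mpr hS1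
    obtain ⟨n, hn⟩ := hS.exists_card_eq
    have hn0 : n ≠ 0 := by
      rintro rfl
      have h1 : Nat.card S = 1 := by simpa using hn
      have := Finite.one_lt_card (α := S)
      omega
    have hpdvd : p ∣ Nat.card S := by rw [hn]; exact dvd_pow_self p hn0
    obtain ⟨a, ha⟩ := exists_prime_orderOf_dvd_card' p hpdvd
    have ha' : orderOf (a : Ω) = p := by rw [Subgroup.orderOf_coe]; exact ha
    have hle : Subgroup.zpowers (a : Ω) ≤ S := by
      rw [Subgroup.zpowers_le]; exact a.2
    have hcard : Nat.card (Subgroup.zpowers (a : Ω)) = p := by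
      rw [Nat.card_zpowers, ha']
    rcases hsub _ hle with h | h
    · exfalso
      rw [h] at hcard
      have hp : p.Prime := Fact.out
      have := hp.one_lt
      simp at hcard
      omega
    · rw [← h]; exact hcard
  · rintro ⟨hcard, hinner⟩
    have hp : p.Prime := Fact.out
    have hS1 : S ≠ ⊥ := by
      intro h
      rw [h] at hcard
      have := hp.one_lt
      simp at hcard
      omega
    refine ⟨hF, hS1, ?_⟩
    intro T E hE
    obtain ⟨⟨-, -, hsub, ⟨hTS, -⟩, -, -⟩, -⟩ := hE
    -- T is trivial or S
    have hT : T = ⊥ ∨ T = S := by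
      have : Fact (Nat.card S).Prime := ⟨by rw [hcard]; exact hp⟩
      rcases Subgroup.eq_bot_or_eq_top_of_prime_card (T.subgroupOf S) with h | h
      · left
        rw [Subgroup.subgroupOf_eq_bot] at h
        rw [disjoint_iff, inf_eq_left.mpr hTS] at h
        exact h
      · right
        rw [Subgroup.subgroupOf_eq_top] at h
        exact le_antisymm hTS h
    rcases hT with h | h
    · exact Or.inl h
    · right
      subst h
      refine ⟨rfl, fun P => ?_⟩
      apply Set.Subset.antisymm (hsub P)
      intro φ hφ
      rw [hinner P] at hφ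
      obtain ⟨hP, g, hg, hφx⟩ := hφ
      exact hom_congr E (E.conj_mem hP hg) hφx

end Cfsg.Agent.S5337
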