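import Cfsg.Statements.S5340
import Cfsg.Agent.S5339

set_option autoImplicit false
open Cfsg

namespace Cfsg.Agent.S5340

/-- Let F be a saturated fusion system over a nontrivial finite p-group S such that S is generated by its elements of order p, any two subgroups of S of order p are F-conjugate, and Aut_F(S) consists of inner automorphisms only. Then F is simple. -/
theorem result {Ω : Type*} [Group Ω] {S : Subgroup Ω} [Finite S] (p : ℕ) [Fact p.Prime] (hS : IsPGroup p S) (F : Cfsg.FusionSystem S) (hF : F.IsSaturated p) (hS1 : S ≠ ⊥) (hgen : Subgroup.closure {x : Ω | x ∈ S ∧ orderOf x = p} = S) (htr : ∀ A B : Subgroup Ω, A ≤ S → B ≤ S → Nat.card A = p → Nat.card B = p → F.IsConj A B) (htop : F.autGroup S = Cfsg.Inn ↥S) : F.IsSimple p := by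
  apply Cfsg.Agent.S5339.result p hS F hF hS1 htop
  intro T hT
  by_cases hTbot : T = ⊥
  · exact Or.inl hTbot
  right
  obtain ⟨hTS, hTcl⟩ := hT
  apply le_antisymm hTS
  -- T is a nontrivial finite p-group
  have : Finite T := Finite.of_injective (Subgroup.inclusion hTS) (Subgroup.inclusion_injective hTS)
  have hTp : IsPGroup p T := hS.to_le hTS
  have : Nontrivial T := (Subgroup.nontrivial_iff_ne_bot T).mpr hTbot
  obtain ⟨n, hn⟩ := hTp.exists_card_eq
  have hn0 : n ≠ 0 := by
    rintro rfl
    have h1 : Nat.card T = 1 := by simpa using hn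
    have := Finite.one_lt_card (α := T)
    omega
  have hpdvd : p ∣ Nat.card T := by rw [hn]; exact dvd_pow_self p hn0
  obtain ⟨a, ha⟩ := exists_prime_orderOf_dvd_card' p hpdvd
  have ha' : orderOf (a : Ω) = p := by rw [Subgroup.orderOf_coe]; exact ha
  have hAT : Subgroup.zpowers (a : Ω) ≤ T := by
    rw [Subgroup.zpowers_le]; exact a.2
  have hAcard : Nat.card (Subgroup.zpowers (a : Ω)) = p := by
    rw [Nat.card_zpowers, ha']
  rw [← hgen, Subgroup.closure_le]
  rintro x ⟨hxS, hxp⟩
  have hBS : Subgroup.zpowers x ≤ S := by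
    rw [Subgroup.zpowers_le]; exact hxS
  have hBcard : Nat.card (Subgroup.zpowers x) = p := by
    rw [Nat.card_zpowers, hxp]
  obtain ⟨φ, hφ, hrange⟩ := htr _ _ (hAT.trans hTS) hBS hAcard hBcard
  have hx : x ∈ φ.range := by rw [hrange]; exact Subgroup.mem_zpowers x
  obtain ⟨y, rfl⟩ := hx
  exact hTcl _ hAT φ hφ y

end Cfsg.Agent.S5340
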