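import Cfsg.Statements.S5345
-- import your own Cfsg.Agent.* helpers here

set_option autoImplicit false
open Cfsg

namespace Cfsg.Agent.S5345

/-- Let D be a conjugation-invariant generating set of 3-transpositions of a finite group G and T a Sylow 2-subgroup of G. Then the members of D lying in T generate an abelian subgroup, and their number is the width of D (the largest number of pairwise commuting members of D). -/
theorem result {G : Type*} [Group G] [Finite G] {D : Set G} (hD : Cfsg.IsThreeTranspositionGroup D) (T : Sylow 2 G) : IsMulCommutative (Subgroup.closure {d : G | d ∈ D ∧ d ∈ T}) ∧ {d : G | d ∈ D ∧ d ∈ T}.ncard = Cfsg.commutingWidth D := by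
  classical
  obtain ⟨⟨hord, h23⟩, hconj, -⟩ := hD
  have sq : ∀ x ∈ D, x * x = 1 := by
    intro x hx
    have := pow_orderOf_eq_one x
    rw [hord x hx, pow_two] at this
    exact this
  have inv_eq : ∀ x ∈ D, x⁻¹ = x := fun x hx => inv_eq_of_mul_eq_one_right (sq x hx)
  have comm_of_sq : ∀ x ∈ D, ∀ y ∈ D, (x * y) ^ 2 = 1 → x * y = y * x := by
    intro x hx y hy h
    have h1 : x * y * (x * y) = 1 := by rw [← pow_two]; exact h
    have h2 : x * y = (x * y)⁻¹ := eq_inv_of_mul_eq_one_left h1
    rw [mul_inv_rev, inv_eq x hx, inv_eq y hy] at h2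
    exact h2
  -- members of D in a common 2-subgroup commute
  have comm_in_two : ∀ (K : Subgroup G), IsPGroup 2 K → ∀ x ∈ D, ∀ y ∈ D, x ∈ K → y ∈ K → x * y = y * x := by
    intro K hK x hx y hy hxK hyK
    apply comm_of_sq x hx y hy
    rcases h23 x hx y hy with h | h
    · exact h
    · obtain ⟨k, hk⟩ := (IsPGroup.iff_orderOf.mp hK) ⟨x * y, K.mul_mem hxK hyK⟩
      have hk' : orderOf (x * y) = 2 ^ k := by
        rw [← hk]; exact (Subgroup.orderOf_mk _ (K.mul_mem hxK hyK)).symm
      have hdvd : 2 ^ k ∣ 3 := by rw [← hk']; exact orderOf_dvd_of_pow_eq_one h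
      rcases k with _ | k
      · have : x * y = 1 := by simpa using hk'
        rw [this, one_pow]
      · exfalso
        have : 2 ∣ 3 := (dvd_pow_self 2 (Nat.succ_ne_zero k)).trans hdvd
        omega
  have hcommT : ∀ x ∈ {d : G | d ∈ D ∧ d ∈ T}, ∀ y ∈ {d : G | d ∈ D ∧ d ∈ T}, x * y = y * x := by
    rintro x ⟨hx, hxT⟩ y ⟨hy, hyT⟩
    exact comm_in_two T T.isPGroup' x hx y hy hxT hyT
  refine ⟨Subgroup.isMulCommutative_closure hcommT, ?_⟩
  -- the width
  have hfin : ∀ E : Set G, E.Finite := fun E => Set.toFinite E
  unfold Cfsg.commutingWidth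
  apply le_antisymm
  · apply le_csSup
    · refine ⟨Nat.card G, ?_⟩
      rintro n ⟨E, -, -, -, rfl⟩
      rw [← Set.ncard_univ]
      exact Set.ncard_le_ncard (Set.subset_univ E) (hfin _)
    · exact ⟨{d : G | d ∈ D ∧ d ∈ T}, fun x hx => hx.1, hfin _,
        fun a ha b hb => hcommT a ha b hb, rfl⟩
  · apply csSup_le
    · exact ⟨0, ∅, Set.empty_subset _, Set.finite_empty, by simp, by simp⟩
    · rintro n ⟨E, hED, -, hEcomm, rfl⟩
      -- closure E is a 2-group
      have hK : IsMulCommutative (Subgroup.closure E) :=
        Subgroup.isMulCommutative_closure (fun a ha b hb => hEcomm a ha b hb)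
      have hKcomm : ∀ x ∈ Subgroup.closure E, ∀ y ∈ Subgroup.closure E, x * y = y * x := by
        intro x hx y hy
        have := hK.is_comm.comm ⟨x, hx⟩ ⟨y, hy⟩
        exact congrArg Subtype.val this
      have hsq : ∀ x ∈ Subgroup.closure E, x * x = 1 := by
        intro x hx
        induction hx using Subgroup.closure_induction with
        | mem x hx => exact sq x (hED hx)
        | one => simp
        | mul x y hx hy ihx ihy =>
          calc x * y * (x * y) = x * (y * x) * y := by group
            _ = x * (x * y) * y := by rw [hKcomm y hy x hx]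
            _ = (x * x) * (y * y) := by group
            _ = 1 := by rw [ihx, ihy, one_mul]
        | inv x hx ih =>
          rw [← mul_inv_rev, ih, inv_one]
      have hK2 : IsPGroup 2 (Subgroup.closure E) := by
        intro g
        refine ⟨1, ?_⟩
        apply Subtype.ext
        have := hsq g g.2
        simpa [pow_two] using this
      obtain ⟨Q, hQ⟩ := hK2.exists_le_sylow
      obtain ⟨g, hg⟩ := MulAction.exists_smul_eq G Q T
      have hmem : ∀ e ∈ E, g * e * g⁻¹ ∈ T := by
        intro e he
        have heQ : e ∈ Q := hQ (Subgroup.subset_closure he)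
        rw [← hg, Sylow.smul_def]
        show g * e * g⁻¹ ∈ (MulAut.conj g • Q).toSubgroup
        rw [Sylow.pointwise_smul_def]
        exact Subgroup.smul_mem_pointwise_smul e (MulAut.conj g) Q heQ
      apply Set.ncard_le_ncard_of_injOn (fun e => g * e * g⁻¹)
      · intro e he
        exact ⟨hconj g e (hED he), hmem e he⟩
      · intro a _ b _ hab
        simpa using hab

end Cfsg.Agent.S5345
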