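import Cfsg.Statements.S5347
-- import your own Cfsg.Agent.* helpers here

set_option autoImplicit false
open Cfsg

namespace Cfsg.Agent.S5347

/-- Let D be a conjugation-invariant generating set of 3-transpositions of a finite group G, p a prime bigger than 3, and P a p-subgroup of G. If a member d of D normalizes P then d centralizes P. -/
theorem result {G : Type*} [Group G] [Finite G] {D : Set G} (hD : Cfsg.IsThreeTranspositionGroup D) {p : ℕ} (hp : p.Prime) (hp3 : 3 < p) (P : Subgroup G) (hP : IsPGroup p P) {d : G} (hd : d ∈ D) (hnorm : d ∈ Subgroup.normalizer (P : Set G)) : ∀ x ∈ P, Commute d x := by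
  intro x hx
  haveI : Fact p.Prime := ⟨hp⟩
  obtain ⟨⟨hord, h23⟩, hconj, -⟩ := hD
  have hd2 : d * d = 1 := by
    have := pow_orderOf_eq_one d
    rw [hord d hd, pow_two] at this
    exact this
  have hdinv : d⁻¹ = d := inv_eq_of_mul_eq_one_right hd2
  -- the commutator c = d * (x * d * x⁻¹) is a product of two members of D
  have hxd : x * d * x⁻¹ ∈ D := hconj x d hd
  have hc23 := h23 d hd (x * d * x⁻¹) hxd
  -- it lies in P
  have hdx : d * x * d⁻¹ ∈ P := by
    have := (Subgroup.mem_normalizer_iff.mp hnorm x).mp hx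
    exact this
  have hcP : d * (x * d * x⁻¹) ∈ P := by
    have h1 : d * (x * d * x⁻¹) = (d * x * d⁻¹) * x⁻¹ := by
      rw [hdinv]; group
    rw [h1]
    exact P.mul_mem hdx (P.inv_mem hx)
  -- order of c is a power of p
  obtain ⟨k, hk⟩ := (IsPGroup.iff_orderOf.mp hP) ⟨d * (x * d * x⁻¹), hcP⟩
  have hk' : orderOf (d * (x * d * x⁻¹)) = p ^ k := by
    rw [← hk]; exact (Subgroup.orderOf_mk _ hcP).symm
  have hc1 : d * (x * d * x⁻¹) = 1 := by
    rcases k with _ | k
    · simpa using hk'
    · exfalso
      have hp_dvd : p ∣ orderOf (d * (x * d * x⁻¹)) := by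
        rw [hk']; exact dvd_pow_self p (Nat.succ_ne_zero k)
      rcases hc23 with h | h
      · have := hp_dvd.trans (orderOf_dvd_of_pow_eq_one h)
        have := Nat.le_of_dvd (by norm_num) this
        omega
      · have := hp_dvd.trans (orderOf_dvd_of_pow_eq_one h)
        have := Nat.le_of_dvd (by norm_num) this
        omega
  -- conclude
  show d * x = x * d
  have h2 : x * d * x⁻¹ = d := by
    have := eq_inv_of_mul_eq_one_right hc1
    rw [this, hdinv]
  calc d * x = (x * d * x⁻¹) * x := by rw [h2]
    _ = x * d := by group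

end Cfsg.Agent.S5347
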