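import Cfsg.Statements.S5349
import Cfsg.Agent.Lib.Helper91.ThreeTransp
import Cfsg.Agent.S5344

set_option autoImplicit false
open Cfsg

namespace Cfsg.Agent.S5349

open Cfsg.Agent.Lib.Helper91

theorem perm_identity : (Equiv.swap (1 : Fin 4) 2 * (Equiv.swap 2 3 * Equiv.swap 0 1) * (Equiv.swap 1 2)⁻¹) * Equiv.swap 2 3 *
    (Equiv.swap (1 : Fin 4) 2 * (Equiv.swap 2 3 * Equiv.swap 0 1) * (Equiv.swap 1 2)⁻¹)⁻¹ = Equiv.swap 0 1 := by
  decide

/-- members of `D` congruent modulo the `2`-core have the same partners -/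
theorem commute_of_congr {G : Type*} [Group G] {D : Set G} (hTT : Cfsg.IsThreeTranspositionSet D)
    {x y e : G} (hx : x ∈ D) (hy : y ∈ D) (he : e ∈ D) (hxy : x⁻¹ * y ∈ Cfsg.pCore 2 G)
    (hc : Commute x e) : Commute y e := by
  have hQn : (Cfsg.pCore 2 G).Normal := Subgroup.sSup_normal _ (fun _ h => h.1)
  have hQp : IsPGroup 2 (Cfsg.pCore 2 G) := Sylow.sSup_of_normal _ (fun _ h => h.2) (fun _ h => h.1)
  by_contra hne
  have h3 := tt_cube hTT hy he hne
  have h2 : (y * e) ^ 2 ∈ Cfsg.pCore 2 G := by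
    rw [← QuotientGroup.eq_one_iff]
    have hπ : ((x : G) : G ⧸ Cfsg.pCore 2 G) = (y : G) := QuotientGroup.eq.mpr hxy
    rw [QuotientGroup.mk_pow, QuotientGroup.mk_mul, ← hπ, ← QuotientGroup.mk_mul, ← QuotientGroup.mk_pow,
      tt_sq_of_commute hTT hx he hc]
    rfl
  have h1 : y * e ∈ Cfsg.pCore 2 G := by
    have : y * e = ((y * e) ^ 2)⁻¹ := by
      apply eq_inv_of_mul_eq_one_right
      rw [← pow_succ]; exact h3
    rw [this]
    exact Subgroup.inv_mem _ h2
  obtain ⟨k, hk⟩ := hQp ⟨y * e, h1⟩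
  have hk' : (y * e) ^ (2 ^ k) = 1 := congrArg Subtype.val hk
  have hd1 : orderOf (y * e) ∣ 2 ^ k := orderOf_dvd_of_pow_eq_one hk'
  have hd2 : orderOf (y * e) ∣ 3 := orderOf_dvd_of_pow_eq_one h3
  have hcop : Nat.Coprime (2 ^ k) 3 := Nat.Coprime.pow_left k (by norm_num)
  have h1' : orderOf (y * e) = 1 := Nat.eq_one_of_dvd_coprimes hcop hd1 hd2
  rw [orderOf_eq_one_iff] at h1'
  apply hne
  apply tt_commute_of_sq hTT hy he
  rw [h1', one_pow]


/-- Let D be a conjugacy class of 3-transpositions generating the finite group G, with at least two members, and d a member of D. Then the set of members of D commuting with exactly the same members of D as d coincides with the set of members of D lying in the coset of d modulo the largest normal 2-subgroup of G, and also with the orbit of d under conjugation by that normal 2-subgroup. -/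
theorem result {G : Type*} [Group G] [Finite G] {D : Set G} (hD : Cfsg.IsThreeTranspositionClass D) (hD2 : ∃ a ∈ D, ∃ b ∈ D, a ≠ b) {d : G} (hd : d ∈ D) : {v : G | v ∈ D ∧ ∀ e ∈ D, Commute v e ↔ Commute d e} = {v : G | v ∈ D ∧ d⁻¹ * v ∈ Cfsg.pCore 2 G} ∧ {v : G | v ∈ D ∧ ∀ e ∈ D, Commute v e ↔ Commute d e} = {v : G | ∃ g ∈ Cfsg.pCore 2 G, v = g * d * g⁻¹} := by
  obtain ⟨hTT, ⟨d₀, hd₀, hDclass⟩, hgen⟩ := hD
  have hconj : ∀ g : G, ∀ x ∈ D, g * x * g⁻¹ ∈ D := by
    intro g x hx
    rw [hDclass] at hx ⊢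
    exact IsConj.trans hx (isConj_iff.mpr ⟨g, rfl⟩)
  have hQn : (Cfsg.pCore 2 G).Normal := Subgroup.sSup_normal _ (fun _ h => h.1)
  -- the three sets
  have hA : {v : G | ∃ g ∈ Cfsg.pCore 2 G, v = g * d * g⁻¹} ⊆ {v : G | v ∈ D ∧ d⁻¹ * v ∈ Cfsg.pCore 2 G} := by
    rintro _ ⟨g, hg, rfl⟩
    refine ⟨hconj g d hd, ?_⟩
    have h1 : d⁻¹ * g * d⁻¹⁻¹ ∈ Cfsg.pCore 2 G := hQn.conj_mem g hg d⁻¹
    have : d⁻¹ * (g * d * g⁻¹) = (d⁻¹ * g * d⁻¹⁻¹) * g⁻¹ := by group
    rw [this]
    exact Subgroup.mul_mem _ h1 (Subgroup.inv_mem _ hg)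
  have hB : {v : G | v ∈ D ∧ d⁻¹ * v ∈ Cfsg.pCore 2 G} ⊆
      {v : G | v ∈ D ∧ ∀ e ∈ D, Commute v e ↔ Commute d e} := by
    rintro v ⟨hv, hdv⟩
    refine ⟨hv, fun e he => ⟨fun h => ?_, fun h => ?_⟩⟩
    · have : v⁻¹ * d ∈ Cfsg.pCore 2 G := by
        have := Subgroup.inv_mem _ hdv
        rwa [mul_inv_rev, inv_inv] at this
      exact commute_of_congr hTT hv hd he this h
    · exact commute_of_congr hTT hd hv he hdv h
  have hC : {v : G | v ∈ D ∧ ∀ e ∈ D, Commute v e ↔ Commute d e} ⊆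
      {v : G | ∃ g ∈ Cfsg.pCore 2 G, v = g * d * g⁻¹} := by
    rintro v ⟨hv, hvd⟩
    by_cases hne : v = d
    · exact ⟨1, Subgroup.one_mem _, by rw [hne]; group⟩
    · have hsp : SamePartners D d v := ⟨hd, hv, fun e he => (hvd e he).symm⟩
      have ht : d * v ∈ Cfsg.pCore 2 G :=
        closure_pairProducts_le_pCore hTT hconj (Subgroup.subset_closure ⟨d, v, hsp, rfl⟩)
      -- a member joined to d
      have hex : ∃ a ∈ D, ¬ Commute d a := by
        by_contra hcon
        push Not at hcon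
        have hcen : ∀ g : G, Commute d g := by
          intro g
          have hg : g ∈ Subgroup.closure D := by rw [hgen]; trivial
          induction hg using Subgroup.closure_induction with
          | mem x hx => exact hcon x hx
          | one => exact Commute.one_right d
          | mul a b _ _ ha hb => exact ha.mul_right hb
          | inv a _ ha => exact ha.inv_right
        have hall : ∀ x ∈ D, x = d := by
          intro x hx
          have h1 : IsConj d₀ d := by rw [hDclass] at hd; exact hd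
          have h2 : IsConj d₀ x := by rw [hDclass] at hx; exact hx
          obtain ⟨c, hc⟩ := isConj_iff.mp (h1.symm.trans h2)
          rw [← hc, (hcen c).symm.eq, mul_inv_cancel_right]
        obtain ⟨a, ha, b, hb, hab⟩ := hD2
        exact hab ((hall a ha).trans (hall b hb).symm)
      obtain ⟨a, ha, hda⟩ := hex
      have hva : ¬ Commute v a := fun h => hda ((hvd a ha).mp h)
      have hvd_comm : Commute v d := hsp.commute.symm
      obtain ⟨φ, -, h0, h1, h2⟩ := Cfsg.Agent.S5344.result hTT hv ha hd hne hvd_comm hva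
        (fun h => hda h.symm)
      refine ⟨a * (d * v) * a⁻¹, hQn.conj_mem _ ht a, ?_⟩
      have := congrArg φ perm_identity
      simp only [map_mul, map_inv, h0, h1, h2] at this
      exact this.symm
  constructor
  · exact Set.Subset.antisymm (hC.trans hA) hB
  · exact Set.Subset.antisymm hC (hA.trans hB)

end Cfsg.Agent.S5349
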