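import Cfsg.Statements.S5355
import Cfsg.Agent.Lib.Helper11.CoxA3
import Cfsg.Agent.Lib.Helper11.ThreeTransp

set_option autoImplicit false
open Cfsg

namespace Cfsg.Agent.S5355

open Cfsg.Agent.Lib.Helper11 Cfsg.Agent.Lib.Helper11.CoxA3

variable {G : Type*} [Group G]

theorem commute_conj_iff (g x y : G) :
    Commute (g * x * g⁻¹) (g * y * g⁻¹) ↔ Commute x y := by
  unfold Commute SemiconjBy
  constructor
  · intro h
    have h2 : g * (x * y) * g⁻¹ = g * (y * x) * g⁻¹ := by
      have e1 : g * x * g⁻¹ * (g * y * g⁻¹) = g * (x * y) * g⁻¹ := by group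
      have e2 : g * y * g⁻¹ * (g * x * g⁻¹) = g * (y * x) * g⁻¹ := by group
      rw [← e1, ← e2]; exact h
    exact mul_left_cancel (mul_right_cancel h2)
  · intro h
    have e1 : g * x * g⁻¹ * (g * y * g⁻¹) = g * (x * y) * g⁻¹ := by group
    have e2 : g * y * g⁻¹ * (g * x * g⁻¹) = g * (y * x) * g⁻¹ := by group
    rw [e1, e2, h]

/-- the partner property of a member `x` of `D` -/
def HasPartner (D : Set G) (x x' : G) : Prop :=
  x' ∈ D ∧ x' ≠ x ∧ Commute x x' ∧ (∀ y ∈ D, Commute x y → y = x ∨ y = x') ∧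
    (∀ e ∈ D, Commute x' e ↔ Commute x e)

theorem HasPartner.conj {D : Set G} (hconj : ∀ g : G, ∀ x ∈ D, g * x * g⁻¹ ∈ D) {x x' : G}
    (h : HasPartner D x x') (g : G) : HasPartner D (g * x * g⁻¹) (g * x' * g⁻¹) := by
  obtain ⟨h1, h2, h3, h4, h5⟩ := h
  have hback : ∀ y ∈ D, g * (g⁻¹ * y * g) * g⁻¹ = y := fun y _ => by group
  have hD' : ∀ y ∈ D, g⁻¹ * y * g ∈ D := fun y hy => by
    have := hconj g⁻¹ y hy
    rwa [inv_inv] at this
  refine ⟨hconj g x' h1, ?_, (commute_conj_iff g x x').mpr h3, ?_, ?_⟩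
  · intro he
    apply h2
    exact mul_left_cancel (mul_right_cancel he)
  · intro y hy hc
    rw [← hback y hy, commute_conj_iff] at hc
    rcases h4 _ (hD' y hy) hc with h | h
    · left; rw [← hback y hy, h]
    · right; rw [← hback y hy, h]
  · intro e he
    rw [← hback e he, commute_conj_iff, commute_conj_iff]
    exact h5 _ (hD' e he)

theorem HasPartner.unique {D : Set G} {x x' p : G} (h : HasPartner D x x') (hp : p ∈ D)
    (hpx : p ≠ x) (hc : Commute x p) : p = x' := by
  rcases h.2.2.2.1 p hp hc with h1 | h1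
  · exact absurd h1 hpx
  · exact h1

/-- partner lemma: the partner of `x` is the conjugate of `x` by `y * y'` -/
theorem partner_conj {D : Set G} (hT : Cfsg.IsThreeTranspositionSet D)
    (hconj : ∀ g : G, ∀ x ∈ D, g * x * g⁻¹ ∈ D) {x x' y y' : G} (hx : x ∈ D) (hy : y ∈ D)
    (hxp : HasPartner D x x') (hyp : HasPartner D y y') (hnc : ¬ Commute x y) :
    Rel y x y' ∧ x' = (y * y') * x * (y * y')⁻¹ := by
  have hy' := hyp.1
  have hnc' : ¬ Commute y x := fun h => hnc h.symm
  have hnc2 : ¬ Commute y' x := fun h => hnc' ((hyp.2.2.2.2 x hx).mp h)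
  have hR : Rel y x y' :=
    { aa := tt_mul_self hT hy
      bb := tt_mul_self hT hx
      cc := tt_mul_self hT hy'
      ac := hyp.2.2.1
      aba := (tt_commute_or_braid hT hy hx).resolve_left hnc'
      bcb := (tt_commute_or_braid hT hx hy').resolve_left (fun h => hnc2 h.symm) }
  refine ⟨hR, ?_⟩
  symm
  exact hxp.unique (hconj _ x hx) (hR.conj_ne hyp.2.1.symm) hR.conj_comm.symm

/-- Let D be a conjugacy class of 3-transpositions generating the finite group G, with at least two members, and d a member of D. Suppose that every member of D commuting with d commutes with exactly the same members of D as d does, and that exactly one member of D other than d commutes with d. Then G is isomorphic to the symmetric group of degree 4. -/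
theorem result {G : Type*} [Group G] [Finite G] {D : Set G} (hD : Cfsg.IsThreeTranspositionClass D) (hD2 : ∃ a ∈ D, ∃ b ∈ D, a ≠ b) {d : G} (hd : d ∈ D) (hV : {y : G | y ∈ D ∧ Commute d y} = {v : G | v ∈ D ∧ ∀ e ∈ D, Commute v e ↔ Commute d e}) (hm : {y : G | y ∈ D ∧ Commute d y}.ncard = 2) : Nonempty (G ≃* Equiv.Perm (Fin 4)) := by
  obtain ⟨hT, ⟨d0, hd0, hDc⟩, hgen⟩ := hD
  have hconj : ∀ g : G, ∀ x ∈ D, g * x * g⁻¹ ∈ D := by
    intro g x hx
    rw [hDc] at hx ⊢
    have h1 : IsConj d0 x := hx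
    show IsConj d0 (g * x * g⁻¹)
    exact h1.trans (isConj_iff.mpr ⟨g, rfl⟩)
  have htrans : ∀ x ∈ D, ∀ y ∈ D, ∃ g : G, g * x * g⁻¹ = y := by
    intro x hx y hy
    rw [hDc] at hx hy
    have h1 : IsConj d0 x := hx
    have h2 : IsConj d0 y := hy
    exact isConj_iff.mp (h1.symm.trans h2)
  -- the partner of d
  obtain ⟨u, v, huv, hset⟩ := Set.ncard_eq_two.mp hm
  have hdmem : d ∈ {y : G | y ∈ D ∧ Commute d y} := ⟨hd, Commute.refl d⟩
  obtain ⟨d', hd'ne, hset'⟩ : ∃ d', d' ≠ d ∧ {y : G | y ∈ D ∧ Commute d y} = {d, d'} := by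
    rw [hset] at hdmem
    rcases hdmem with h | h
    · exact ⟨v, by rw [h]; exact huv.symm, by rw [hset, h]⟩
    · rw [Set.mem_singleton_iff] at h
      exact ⟨u, by rw [h]; exact huv, by rw [hset, h, Set.pair_comm]⟩
  have hd'mem : d' ∈ {y : G | y ∈ D ∧ Commute d y} := by rw [hset']; simp
  have hPd : HasPartner D d d' := by
    refine ⟨hd'mem.1, hd'ne, hd'mem.2, ?_, ?_⟩
    · intro y hy hc
      have : y ∈ {y : G | y ∈ D ∧ Commute d y} := ⟨hy, hc⟩
      rw [hset'] at this
      simpa using this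
    · have : d' ∈ {v : G | v ∈ D ∧ ∀ e ∈ D, Commute v e ↔ Commute d e} := by rw [← hV]; exact hd'mem
      exact this.2
  have hP : ∀ x ∈ D, ∃ x', HasPartner D x x' := by
    intro x hx
    obtain ⟨g, rfl⟩ := htrans d hd x hx
    exact ⟨_, hPd.conj hconj g⟩
  -- a member not commuting with d
  obtain ⟨b, hb, hnb⟩ : ∃ b ∈ D, ¬ Commute d b := by
    by_contra hcon
    push Not at hcon
    apply hd'ne
    obtain ⟨g, hg⟩ := htrans d hd d' hPd.1
    have hcen : d ∈ Subgroup.centralizer (D : Set G) := by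
      rw [Subgroup.mem_centralizer_iff]
      intro y hy
      exact (hcon y hy).symm.eq
    have hcen' : d ∈ Subgroup.centralizer ((Subgroup.closure D : Subgroup G) : Set G) := by
      rw [Subgroup.centralizer_closure]
      exact hcen
    rw [hgen] at hcen'
    have hgd : g * d = d * g := (Subgroup.mem_centralizer_iff.mp hcen' g (by trivial))
    rw [← hg, hgd, mul_assoc, mul_inv_cancel, mul_one]
  obtain ⟨b', hPb⟩ := hP b hb
  -- relations
  obtain ⟨hR, hb'eq⟩ := partner_conj hT hconj hb hd hPb hPd (fun h => hnb h.symm)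
  obtain ⟨-, hd'eq⟩ := partner_conj hT hconj hd hb hPd hPb hnb
  -- the six elements
  have hde : HasPartner D (d * b * d⁻¹) (d * b' * d⁻¹) := hPb.conj hconj d
  have he_mem : d * b * d⁻¹ ∈ D := hconj d b hb
  -- every member of D lies in the closure of {d, b, d'}
  have hsix : ∀ x ∈ D, x ∈ Subgroup.closure ({d, b, d'} : Set G) := by
    have hdc : d ∈ Subgroup.closure ({d, b, d'} : Set G) := Subgroup.subset_closure (by simp)
    have hbc : b ∈ Subgroup.closure ({d, b, d'} : Set G) := Subgroup.subset_closure (by simp)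
    have hd'c : d' ∈ Subgroup.closure ({d, b, d'} : Set G) := Subgroup.subset_closure (by simp)
    have hb'c : b' ∈ Subgroup.closure ({d, b, d'} : Set G) := by
      rw [hb'eq]
      exact mul_mem (mul_mem (mul_mem hdc hd'c) hbc) (inv_mem (mul_mem hdc hd'c))
    intro x hx
    obtain ⟨x', hPx⟩ := hP x hx
    by_cases h1 : Commute x d
    · rcases hPd.2.2.2.1 x hx h1.symm with h | h
      · rw [h]; exact hdc
      · rw [h]; exact hd'c
    by_cases h2 : Commute x b
    · rcases hPb.2.2.2.1 x hx h2.symm with h | h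
      · rw [h]; exact hbc
      · rw [h]; exact hb'c
    by_cases h3 : Commute x (d * b * d⁻¹)
    · rcases hde.2.2.2.1 x hx h3.symm with h | h
      · rw [h]; exact mul_mem (mul_mem hdc hbc) (inv_mem hdc)
      · rw [h]; exact mul_mem (mul_mem hdc hb'c) (inv_mem hdc)
    exfalso
    obtain ⟨-, e1⟩ := partner_conj hT hconj hx hd hPx hPd h1
    obtain ⟨-, e2⟩ := partner_conj hT hconj hx hb hPx hPb h2
    obtain ⟨-, e3⟩ := partner_conj hT hconj hx he_mem hPx hde h3
    -- (d b d⁻¹)(d b' d⁻¹) = (d d')(b b')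
    have hdd : d * d = 1 := tt_mul_self hT hd
    have hdinv : d⁻¹ = d := tt_inv hT hd
    have hd'd' : d' * d' = 1 := tt_mul_self hT hPd.1
    have hcomm : d * d' = d' * d := hPd.2.2.1
    have hkey : (b * b') * d = d' * (b * b') := by
      rw [hd'eq]; group
    have hprod : d * b * d⁻¹ * (d * b' * d⁻¹) = (d * d') * (b * b') := by
      calc d * b * d⁻¹ * (d * b' * d⁻¹) = d * ((b * b') * d⁻¹) := by group
        _ = d * ((b * b') * d) := by rw [hdinv]
        _ = (d * d') * (b * b') := by rw [hkey]; group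
    have hsq : (d * d') * (d * d') = 1 := by
      calc (d * d') * (d * d') = d * (d' * d) * d' := by group
        _ = d * (d * d') * d' := by rw [← hcomm]
        _ = (d * d) * (d' * d') := by group
        _ = 1 := by rw [hdd, hd'd', one_mul]
    apply hPx.2.1
    calc x' = (d * d') * (b * b') * x * ((d * d') * (b * b'))⁻¹ := by rw [← hprod]; exact e3
      _ = (d * d') * ((b * b') * x * (b * b')⁻¹) * (d * d')⁻¹ := by group
      _ = (d * d') * x' * (d * d')⁻¹ := by rw [← e2]
      _ = (d * d') * ((d * d') * x * (d * d')⁻¹) * (d * d')⁻¹ := by rw [← e1]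
      _ = ((d * d') * (d * d')) * x * ((d * d') * (d * d'))⁻¹ := by group
      _ = x := by rw [hsq]; group
  have hgen' : Subgroup.closure ({d, b, d'} : Set G) = ⊤ := by
    rw [eq_top_iff, ← hgen, Subgroup.closure_le]
    exact hsix
  exact hR.equiv_perm_four (fun h => hnb h) hd'ne.symm hgen'

end Cfsg.Agent.S5355
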