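import Cfsg.Statements.S5358
-- import your own Cfsg.Agent.* helpers here

set_option autoImplicit false
open scoped MatrixGroups
open Cfsg

namespace Cfsg.Agent.S5358

open Matrix in
theorem polarVec_dot (n : ℕ) (Q : QuadraticForm (ZMod 3) (Fin n → ZMod 3)) (u x : Fin n → ZMod 3) :
    Cfsg.polarVec (⇑Q) u ⬝ᵥ x = QuadraticMap.polar (⇑Q) u x := by
  have h := LinearMap.pi_apply_eq_sum_univ (QuadraticMap.polarBilin Q u) x
  simp only [QuadraticMap.polarBilin_apply_apply] at h
  rw [h]
  unfold Cfsg.polarVec dotProduct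
  apply Finset.sum_congr rfl
  intro i _
  have : (fun j => if i = j then (1 : ZMod 3) else 0) = Pi.single i 1 := by
    funext j; simp [Pi.single_apply, eq_comm]
  rw [this, smul_eq_mul, mul_comm]

theorem commute_one_sub {R : Type*} [Ring R] (X Y : R) : Commute (1 - X) (1 - Y) ↔ X * Y = Y * X := by
  have e1 : (1 - X) * (1 - Y) = 1 - X - Y + X * Y := by noncomm_ring
  have e2 : (1 - Y) * (1 - X) = 1 - X - Y + Y * X := by noncomm_ring
  constructor
  · intro h
    have h' : (1 - X) * (1 - Y) = (1 - Y) * (1 - X) := h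
    rw [e1, e2] at h'
    exact add_left_cancel h'
  · intro h
    show (1 - X) * (1 - Y) = (1 - Y) * (1 - X)
    rw [e1, e2, h]

theorem zmod3_cases : ∀ x y : ZMod 3, x ≠ 0 → y ≠ 0 → x = y ∨ x = -y := by decide


/-- Let Q be a non-degenerate quadratic form on the n-dimensional coordinate space over the field with three elements and u, v vectors of the same non-zero norm Q(u) = Q(v) spanning different lines (v ≠ u and v ≠ −u). Then the reflection matrices of u and v commute if and only if u and v are orthogonal for the polar form of Q. -/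
theorem result (n : ℕ) (Q : QuadraticForm (ZMod 3) (Fin n → ZMod 3)) (hQ : (QuadraticMap.polarBilin Q).Nondegenerate) (u v : Fin n → ZMod 3) (hu : Q u ≠ 0) (huv : Q u = Q v) (h1 : v ≠ u) (h2 : v ≠ -u) : Commute (Cfsg.reflectionMatrix (⇑Q) u) (Cfsg.reflectionMatrix (⇑Q) v) ↔ QuadraticMap.polar (⇑Q) u v = 0 := by
  set a := Q u with ha_def
  have hav : Q v = a := huv.symm
  set B := QuadraticMap.polar (⇑Q) u v with hB_def
  have hBvu : QuadraticMap.polar (⇑Q) v u = B := QuadraticMap.polar_comm _ _ _
  set Au := Matrix.vecMulVec u (Cfsg.polarVec (⇑Q) u) with hAu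
  set Av := Matrix.vecMulVec v (Cfsg.polarVec (⇑Q) v) with hAv
  have hRu : Cfsg.reflectionMatrix (⇑Q) u = 1 - a⁻¹ • Au := rfl
  have hRv : Cfsg.reflectionMatrix (⇑Q) v = 1 - a⁻¹ • Av := by
    unfold Cfsg.reflectionMatrix
    rw [hav]
  have hainv : a⁻¹ ≠ 0 := inv_ne_zero hu
  have hAuAv : Au * Av = B • Matrix.vecMulVec u (Cfsg.polarVec (⇑Q) v) := by
    rw [hAu, hAv, Matrix.vecMulVec_mul_vecMulVec, polarVec_dot, Matrix.vecMulVec_smul]
  have hAvAu : Av * Au = B • Matrix.vecMulVec v (Cfsg.polarVec (⇑Q) u) := by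
    rw [hAu, hAv, Matrix.vecMulVec_mul_vecMulVec, polarVec_dot, hBvu, Matrix.vecMulVec_smul]
  -- commuting of the reflections is commuting of Au and Av
  have hiff : Commute (Cfsg.reflectionMatrix (⇑Q) u) (Cfsg.reflectionMatrix (⇑Q) v) ↔ Au * Av = Av * Au := by
    rw [hRu, hRv, commute_one_sub, Matrix.smul_mul, Matrix.mul_smul, Matrix.smul_mul, Matrix.mul_smul]
    constructor
    · intro h
      exact smul_right_injective _ hainv (smul_right_injective _ hainv h)
    · intro h
      rw [h]
  rw [hiff, hAuAv, hAvAu]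
  constructor
  · intro h
    by_contra hB
    have e1 : Matrix.vecMulVec u (Cfsg.polarVec (⇑Q) v) = Matrix.vecMulVec v (Cfsg.polarVec (⇑Q) u) :=
      smul_right_injective _ hB h
    have e2 := congrArg (fun M => Matrix.mulVec M u) e1
    simp only [Matrix.vecMulVec_mulVec, polarVec_dot, hBvu, QuadraticMap.polar_self, op_smul_eq_smul] at e2
    have e3 : B • u = (2 * a) • v := by
      rw [e2]
      congr 1
      rw [two_mul, two_nsmul]
    have h2a : (2 * a : ZMod 3) ≠ 0 := by
      intro h0
      have : (2 : ZMod 3) ≠ 0 := by decide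
      rcases mul_eq_zero.mp h0 with h | h
      · exact this h
      · exact hu h
    rcases zmod3_cases B (2 * a) hB h2a with hc | hc
    · rw [hc] at e3
      exact h1 (smul_right_injective _ h2a e3).symm
    · rw [hc, neg_smul, ← smul_neg] at e3
      have := smul_right_injective _ h2a e3
      exact h2 this.symm
  · intro hB
    rw [hB, zero_smul, zero_smul]

end Cfsg.Agent.S5358
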