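import Mathlib
import Cfsg.Statements.S5359
import Cfsg.Agent.S5357

set_option autoImplicit false
open scoped MatrixGroups
open Cfsg

namespace Cfsg.Agent.S5359

open Matrix Cfsg.Agent.Lib.Helper50 Cfsg.Agent.Lib.Helper19 Cfsg.Agent.S5357

section general

variable {F : Type*} [Field F] {V : Type*} [AddCommGroup V] [Module F V]

/-- a nondegenerate subspace of dimension at least 2 over a finite field represents every
nonzero scalar -/
theorem exists_norm_of_nondeg_sub2 [Finite F] [FiniteDimensional F V]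
    (Q : QuadraticForm F V) (S : Submodule F V) (h2 : 2 ≤ Module.finrank F S)
    (hS : ∀ t ∈ S, t ≠ 0 → ∃ t' ∈ S, QuadraticMap.polar (⇑Q) t' t ≠ 0) (c : F) (hc : c ≠ 0) :
    ∃ t ∈ S, Q t = c := by
  by_cases hani : ∀ v : S, (Q.comp S.subtype) v = 0 → v = 0
  · obtain ⟨v, hv⟩ := exists_represents (Q.comp S.subtype) h2 hani c hc
    exact ⟨v, v.2, by simpa using hv⟩
  · push Not at hani
    obtain ⟨t0, hQ0, ht0⟩ := hani
    have hQ0' : Q (t0 : V) = 0 := by simpa using hQ0
    have ht0' : (t0 : V) ≠ 0 := by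
      intro h; apply ht0; exact Subtype.ext h
    obtain ⟨t', ht'S, hp⟩ := hS t0 t0.2 ht0'
    refine ⟨t' + ((c - Q t') / QuadraticMap.polar (⇑Q) t' t0) • (t0 : V),
      S.add_mem ht'S (S.smul_mem _ t0.2), ?_⟩
    rw [quad_add_smul, hQ0']
    field_simp
    ring

end general

section refl

variable {n : ℕ} (Q : QuadraticForm (ZMod 3) (Fin n → ZMod 3))

theorem aux_sing : ∀ e ε i : ZMod 3, e ≠ 0 → ε ≠ 0 → (2 * e) * i = 1 →
    e + (ε * i) * (ε * i) * e + (-(ε * i)) * ε = 0 := by decide

theorem aux_pm : ∀ c x : ZMod 3, c ≠ 0 → x ≠ 0 → x = c ∨ x = -c := by decide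

/-- common orthogonal neighbour of two non-orthogonal, non-proportional vectors of norm `e` -/
theorem exists_orth_norm2 (hn : 5 ≤ n) (hQ : (QuadraticMap.polarBilin Q).Nondegenerate)
    (e : ZMod 3) (he : e ≠ 0) (a b : Fin n → ZMod 3) (ha : Q a = e) (hb : Q b = e)
    (hab : QuadraticMap.polar (⇑Q) a b ≠ 0)
    (hne : b - (QuadraticMap.polar (⇑Q) a b * (2 * e)⁻¹) • a ≠ 0) :
    ∃ d, QuadraticMap.polar (⇑Q) a d = 0 ∧ QuadraticMap.polar (⇑Q) b d = 0 ∧ Q d = e := by
  have h2 : (2 : ZMod 3) ≠ 0 := two_ne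
  have h2e : (2 : ZMod 3) * e ≠ 0 := mul_ne_zero two_ne he
  set ε := QuadraticMap.polar (⇑Q) a b with hε
  set lam := ε * (2 * e)⁻¹ with hlam
  set b0 := b - lam • a with hb0
  have hab0 : QuadraticMap.polar (⇑Q) a b0 = 0 := by
    rw [hb0, QuadraticMap.polar_sub_right, QuadraticMap.polar_smul_right, polar_self', ha, ← hε]
    simp only [smul_eq_mul, hlam]
    field_simp
    ring
  have hQb0 : Q b0 = 0 := by
    have : b0 = b + (-lam) • a := by rw [hb0, neg_smul, sub_eq_add_neg]
    rw [this, quad_add_smul, hb, ha, QuadraticMap.polar_comm (⇑Q) b a, ← hε]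
    have := aux_sing e ε (2 * e)⁻¹ he hab (mul_inv_cancel₀ h2e)
    rw [← hlam] at this
    linear_combination this
  have hb0b0 : QuadraticMap.polar (⇑Q) b0 b0 = 0 := by
    rw [polar_self', hQb0, mul_zero]
  -- a vector pairing nontrivially with b0
  have hx : ∃ x, QuadraticMap.polar (⇑Q) x b0 ≠ 0 := by
    by_contra hcon
    push Not at hcon
    apply hne
    apply hQ.2 b0
    intro x
    simpa using hcon x
  obtain ⟨x, hx⟩ := hx
  set y1 := x - (QuadraticMap.polar (⇑Q) a x * (2 * e)⁻¹) • a with hy1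
  have hay1 : QuadraticMap.polar (⇑Q) a y1 = 0 := by
    rw [hy1, QuadraticMap.polar_sub_right, QuadraticMap.polar_smul_right, polar_self', ha]
    simp only [smul_eq_mul]
    field_simp
    ring
  have hy1b0 : QuadraticMap.polar (⇑Q) y1 b0 = QuadraticMap.polar (⇑Q) x b0 := by
    rw [hy1, QuadraticMap.polar_sub_left, QuadraticMap.polar_smul_left, hab0]
    simp
  set p := QuadraticMap.polar (⇑Q) x b0 with hp
  set y := y1 + (-(Q y1) / p) • b0 with hy
  have hQy : Q y = 0 := by
    rw [hy, quad_add_smul, hQb0, hy1b0]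
    field_simp
    ring
  have hay : QuadraticMap.polar (⇑Q) a y = 0 := by
    rw [hy, QuadraticMap.polar_add_right, QuadraticMap.polar_smul_right, hay1, hab0]
    simp
  have hyb0 : QuadraticMap.polar (⇑Q) y b0 = p := by
    rw [hy, QuadraticMap.polar_add_left, QuadraticMap.polar_smul_left, hy1b0, hb0b0]
    simp
  have hyy : QuadraticMap.polar (⇑Q) y y = 0 := by
    rw [polar_self', hQy, mul_zero]
  let f : (Fin n → ZMod 3) →ₗ[ZMod 3] (ZMod 3 × ZMod 3 × ZMod 3) :=
    LinearMap.prod (QuadraticMap.polarBilin Q a)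
      (LinearMap.prod (QuadraticMap.polarBilin Q b0) (QuadraticMap.polarBilin Q y))
  have hf : ∀ z, z ∈ LinearMap.ker f ↔
      QuadraticMap.polar (⇑Q) a z = 0 ∧ QuadraticMap.polar (⇑Q) b0 z = 0 ∧
        QuadraticMap.polar (⇑Q) y z = 0 := by
    intro z
    simp [f, LinearMap.mem_ker]
  have hrank : 2 ≤ Module.finrank (ZMod 3) (LinearMap.ker f) := by
    have h1 := LinearMap.finrank_range_add_finrank_ker f
    have h2 : Module.finrank (ZMod 3) (LinearMap.range f) ≤ 3 := by
      have := Submodule.finrank_le (LinearMap.range f)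
      simpa [Module.finrank_prod] using this
    have h3 : Module.finrank (ZMod 3) (Fin n → ZMod 3) = n := by simp
    omega
  have hS : ∀ t ∈ LinearMap.ker f, t ≠ 0 →
      ∃ t' ∈ LinearMap.ker f, QuadraticMap.polar (⇑Q) t' t ≠ 0 := by
    intro t ht ht0
    rw [hf] at ht
    obtain ⟨hta, htb0, hty⟩ := ht
    have : ∃ z, QuadraticMap.polar (⇑Q) z t ≠ 0 := by
      by_contra hcon
      push Not at hcon
      apply ht0
      apply hQ.2 t
      intro z
      simpa using hcon z
    obtain ⟨z, hz⟩ := this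
    set α := QuadraticMap.polar (⇑Q) a z * (2 * e)⁻¹ with hα
    set β := QuadraticMap.polar (⇑Q) y z / p with hβ
    set γ := QuadraticMap.polar (⇑Q) b0 z / p with hγ
    refine ⟨z - α • a - β • b0 - γ • y, ?_, ?_⟩
    · rw [hf]
      refine ⟨?_, ?_, ?_⟩
      · simp only [QuadraticMap.polar_sub_right, QuadraticMap.polar_smul_right, polar_self', ha,
          hab0, hay, smul_eq_mul, hα]
        field_simp
        ring
      · simp only [QuadraticMap.polar_sub_right, QuadraticMap.polar_smul_right, hb0b0,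
          QuadraticMap.polar_comm (⇑Q) b0 a, hab0, QuadraticMap.polar_comm (⇑Q) b0 y, hyb0,
          smul_eq_mul, hγ]
        field_simp
        ring
      · simp only [QuadraticMap.polar_sub_right, QuadraticMap.polar_smul_right, hyy,
          QuadraticMap.polar_comm (⇑Q) y a, hay, hyb0, smul_eq_mul, hβ]
        field_simp
        ring
    · simp only [QuadraticMap.polar_sub_left, QuadraticMap.polar_smul_left, hta, htb0, hty]
      simpa using hz
  obtain ⟨d, hd, hQd⟩ := exists_norm_of_nondeg_sub2 Q (LinearMap.ker f) hrank hS e he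
  rw [hf] at hd
  refine ⟨d, hd.1, ?_, hQd⟩
  have : b = b0 + lam • a := by rw [hb0]; abel
  rw [this, QuadraticMap.polar_add_left, QuadraticMap.polar_smul_left, hd.1, hd.2.1]
  simp

end refl

section grp

variable {n : ℕ} (Q : QuadraticForm (ZMod 3) (Fin n → ZMod 3)) (c : ZMod 3)

theorem Q_add (a b : Fin n → ZMod 3) :
    Q (a + b) = Q a + Q b + QuadraticMap.polar (⇑Q) a b := by
  simp only [QuadraticMap.polar]; ring

theorem Q_sub (a b : Fin n → ZMod 3) :
    Q (a - b) = Q a + Q b - QuadraticMap.polar (⇑Q) a b := by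
  have : Q (a - b) = Q a + Q (-b) + QuadraticMap.polar (⇑Q) a (-b) := by
    simp only [QuadraticMap.polar, sub_eq_add_neg]; ring
  rw [this, QuadraticMap.map_neg, QuadraticMap.polar_neg_right]; ring

/-- product of two orthogonal reflections of the same norm `e` is the product of the
reflections in `a + b` and `a - b` (norm `2e`) -/
theorem reflO_orth (e : ZMod 3) (he : e ≠ 0) (a b : Fin n → ZMod 3) (ha : Q a = e) (hb : Q b = e)
    (hab : QuadraticMap.polar (⇑Q) a b = 0) :
    reflO Q a * reflO Q b = reflO Q (a + b) * reflO Q (a - b) := by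
  have h2 : (2 : ZMod 3) ≠ 0 := two_ne
  have h2e : (2 : ZMod 3) * e ≠ 0 := mul_ne_zero two_ne he
  have hp : Q (a + b) = 2 * e := by rw [Q_add, ha, hb, hab]; ring
  have hm : Q (a - b) = 2 * e := by rw [Q_sub, ha, hb, hab]; ring
  have ha0 : Q a ≠ 0 := ha ▸ he
  have hb0 : Q b ≠ 0 := hb ▸ he
  have hp0 : Q (a + b) ≠ 0 := hp ▸ h2e
  have hm0 : Q (a - b) ≠ 0 := hm ▸ h2e
  apply O_ext
  simp only [Subgroup.coe_mul, Units.val_mul, reflO_val Q _ ha0, reflO_val Q _ hb0,
    reflO_val Q _ hp0, reflO_val Q _ hm0]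
  apply Matrix.toLin'.injective
  apply LinearMap.ext
  intro x
  simp only [Matrix.toLin'_apply, ← Matrix.mulVec_mulVec, reflectionMatrix_mulVec, ha, hb, hp, hm,
    QuadraticMap.polar_sub_right, QuadraticMap.polar_smul_right, QuadraticMap.polar_add_left,
    QuadraticMap.polar_sub_left, polar_self', hab,
    QuadraticMap.polar_comm (⇑Q) b a, smul_eq_mul]
  ext i
  simp only [Pi.sub_apply, Pi.smul_apply, Pi.add_apply, smul_eq_mul]
  field_simp
  ring

theorem neg_two_mul (c : ZMod 3) : 2 * (-c) = c := by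
  revert c; decide

/-- product of two reflections of norm `-c` lies in the group generated by reflections of
norm `c` -/
theorem crux (hn : 5 ≤ n) (hQ : (QuadraticMap.polarBilin Q).Nondegenerate) (hc : c ≠ 0)
    (a b : Fin n → ZMod 3) (ha : Q a = -c) (hb : Q b = -c) :
    reflO Q a * reflO Q b ∈ Cfsg.reflectionSubgroup (⇑Q) c := by
  have hnc : -c ≠ 0 := neg_ne_zero.mpr hc
  have horth : ∀ a b : Fin n → ZMod 3, Q a = -c → Q b = -c → QuadraticMap.polar (⇑Q) a b = 0 →
      reflO Q a * reflO Q b ∈ Cfsg.reflectionSubgroup (⇑Q) c := by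
    intro a b ha hb hab
    rw [reflO_orth Q (-c) hnc a b ha hb hab]
    have hp : Q (a + b) = c := by rw [Q_add, ha, hb, hab]; linear_combination neg_two_mul c
    have hm : Q (a - b) = c := by rw [Q_sub, ha, hb, hab]; linear_combination neg_two_mul c
    exact Subgroup.mul_mem _ (reflO_mem_sub Q c hc hp) (reflO_mem_sub Q c hc hm)
  by_cases hab : QuadraticMap.polar (⇑Q) a b = 0
  · exact horth a b ha hb hab
  · by_cases hne : b - (QuadraticMap.polar (⇑Q) a b * (2 * (-c))⁻¹) • a = 0
    · have hba : b = (QuadraticMap.polar (⇑Q) a b * (2 * (-c))⁻¹) • a := sub_eq_zero.mp hne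
      have h2e : (2 : ZMod 3) * (-c) ≠ 0 := mul_ne_zero two_ne hnc
      rw [hba, reflO_smul Q a (ha ▸ hnc) _ (mul_ne_zero hab (inv_ne_zero h2e)), reflO_mul_self]
      exact Subgroup.one_mem _
    · obtain ⟨d, had, hbd, hQd⟩ := exists_orth_norm2 Q hn hQ (-c) hnc a b ha hb hab hne
      have : reflO Q a * reflO Q b = (reflO Q a * reflO Q d) * (reflO Q d * reflO Q b) := by
        rw [mul_assoc, ← mul_assoc (reflO Q d), reflO_mul_self, one_mul]
      rw [this]
      refine Subgroup.mul_mem _ (horth a d ha hQd had) (horth d b hQd hb ?_)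
      rw [QuadraticMap.polar_comm]; exact hbd

end grp

section main

variable {n : ℕ} (Q : QuadraticForm (ZMod 3) (Fin n → ZMod 3)) (c : ZMod 3)

theorem not_sq (c : ZMod 3) (hc : c ≠ 0) : ¬ IsSquare (-c * c) := by
  revert c
  have : ∀ c : ZMod 3, c ≠ 0 → ∀ r : ZMod 3, -c * c ≠ r * r := by decide
  intro c hc ⟨r, hr⟩
  exact this c hc r hr

open scoped Classical in
theorem theta_le (hc : c ≠ 0) :
    Cfsg.reflectionSubgroup (⇑Q) c ≤ (theta (⇑Q) (-c)).ker := by
  unfold Cfsg.reflectionSubgroup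
  rw [Subgroup.closure_le]
  intro g hg
  obtain ⟨v, hv, rfl⟩ := eq_reflO_of_mem Q c hc hg
  rw [SetLike.mem_coe, MonoidHom.mem_ker, theta_reflO two_ne Q (-c) (neg_ne_zero.mpr hc) v (hv ▸ hc),
    hv, if_neg (not_sq c hc)]

open scoped Classical in
theorem notMem (hc : c ≠ 0) (a : Fin n → ZMod 3) (ha : Q a = -c) :
    reflO Q a ∉ Cfsg.reflectionSubgroup (⇑Q) c := by
  intro h
  have h1 := theta_le Q c hc h
  rw [MonoidHom.mem_ker, theta_reflO two_ne Q (-c) (neg_ne_zero.mpr hc) a
    (ha ▸ neg_ne_zero.mpr hc), ha, if_pos ⟨-c, rfl⟩] at h1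
  exact absurd h1 (by decide)

theorem list_mem (hn : 5 ≤ n) (hQ : (QuadraticMap.polarBilin Q).Nondegenerate) (hc : c ≠ 0)
    (a : Fin n → ZMod 3) (ha : Q a = -c) (l : List (Fin n → ZMod 3)) (hl : ∀ u ∈ l, Q u ≠ 0) :
    (l.map (reflO Q)).prod ∈ Cfsg.reflectionSubgroup (⇑Q) c ∨
      reflO Q a * (l.map (reflO Q)).prod ∈ Cfsg.reflectionSubgroup (⇑Q) c := by
  induction l with
  | nil => left; simp
  | cons u l ih =>
    have hl' : ∀ u ∈ l, Q u ≠ 0 := fun w hw => hl w (List.mem_cons_of_mem _ hw)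
    have hu0 : Q u ≠ 0 := hl u List.mem_cons_self
    have hnc : -c ≠ 0 := neg_ne_zero.mpr hc
    rw [List.map_cons, List.prod_cons]
    set P := (l.map (reflO Q)).prod with hP
    set r := reflO Q a with hr
    have hrr : r * r = 1 := reflO_mul_self Q a
    rcases aux_pm c (Q u) hc hu0 with hu | hu
    · have huH := reflO_mem_sub Q c hc hu
      rcases ih hl' with h | h
      · left; exact Subgroup.mul_mem _ huH h
      · right
        have e1 : r * (reflO Q u * P) = (r * reflO Q u * r) * (r * P) := by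
          calc r * (reflO Q u * P) = r * reflO Q u * (1 * P) := by group
            _ = r * reflO Q u * (r * r * P) := by rw [hrr]
            _ = (r * reflO Q u * r) * (r * P) := by group
        rw [e1]
        refine Subgroup.mul_mem _ ?_ h
        rw [hr, reflO_conj_reflO Q a u (ha ▸ hnc) hu0]
        apply reflO_mem_sub Q c hc
        have := reflectionMatrix_isometry Q a (ha ▸ hnc) u
        rw [reflectionMatrix_mulVec] at this
        rw [this, hu]
    · rcases ih hl' with h | h
      · right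
        rw [← mul_assoc]
        exact Subgroup.mul_mem _ (crux Q c hn hQ hc a u ha hu) h
      · left
        have e1 : reflO Q u * P = (reflO Q u * r) * (r * P) := by
          calc reflO Q u * P = reflO Q u * (1 * P) := by group
            _ = reflO Q u * (r * r * P) := by rw [hrr]
            _ = (reflO Q u * r) * (r * P) := by group
        rw [e1]
        exact Subgroup.mul_mem _ (crux Q c hn hQ hc u a hu ha) h

end main

/-- Let Q be a non-degenerate quadratic form on the n-dimensional coordinate space over the field with three elements, n odd and at least 5, and c a non-zero scalar. Then the subgroup of the isometry group of Q generated by the reflections in vectors of norm c has index 2 in the isometry group. -/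
theorem result (n : ℕ) (hn : 5 ≤ n) (hodd : Odd n) (Q : QuadraticForm (ZMod 3) (Fin n → ZMod 3)) (hQ : (QuadraticMap.polarBilin Q).Nondegenerate) (c : ZMod 3) (hc : c ≠ 0) : (Cfsg.reflectionSubgroup (⇑Q) c).index = 2 := by
  obtain ⟨a, ha⟩ := exists_norm Q hn hQ (-c)
  rw [Subgroup.index_eq_two_iff_exists_notMem_and']
  refine ⟨reflO Q a, notMem Q c hc a ha, ?_⟩
  intro g
  obtain ⟨l, hl, hg⟩ := isometry_eq_prod_reflectionMatrix two_ne Q hQ
    (((g : GL (Fin n) (ZMod 3)) : Matrix (Fin n) (Fin n) (ZMod 3))) (O_isometry (⇑Q) g)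
  have hgl : g = (l.map (reflO Q)).prod := by
    apply O_ext
    rw [reflO_prod_val Q l hl, hg]
  rw [hgl]
  exact (list_mem Q c hn hQ hc a ha l hl).symm

end Cfsg.Agent.S5359
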