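-- Statement S5360: the group generated by the reflections of norm c of a nondegenerate orthogonal
-- space of dimension at least 5 over the field with three elements.
import Cfsg.Statements.S5360
import Cfsg.Agent.S5357
import Cfsg.Agent.Lib.Helper36.TTCopy
import Cfsg.Agent.S5350
import Cfsg.Agent.S5353
import Cfsg.Agent.Lib.Helper91.ComponentStructure
import Cfsg.Agent.Lib.Helper36.Refl3b

set_option autoImplicit false
open scoped MatrixGroups
open Cfsg

namespace Cfsg.Agent.S5360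

open Matrix Cfsg.Agent.Lib.Helper50 Cfsg.Agent.Lib.Helper19 Cfsg.Agent.Lib.Helper36.Refl3
open Cfsg.Agent.S5357

section gen

/-- members of `D` congruent modulo the `2`-core have the same partners (as in S5349) -/
theorem commute_of_congr {G : Type*} [Group G] {D : Set G} (hTT : Cfsg.IsThreeTranspositionSet D)
    {x y e : G} (hx : x ∈ D) (hy : y ∈ D) (he : e ∈ D) (hxy : x⁻¹ * y ∈ Cfsg.pCore 2 G)
    (hc : Commute x e) : Commute y e := by
  have hQn : (Cfsg.pCore 2 G).Normal := Subgroup.sSup_normal _ (fun _ h => h.1)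
  have hQp : IsPGroup 2 (Cfsg.pCore 2 G) := Sylow.sSup_of_normal _ (fun _ h => h.2) (fun _ h => h.1)
  by_contra hne
  have h3 := Cfsg.Agent.Lib.Helper36.TT.tt_cube hTT hy he hne
  have h2 : (y * e) ^ 2 ∈ Cfsg.pCore 2 G := by
    rw [← QuotientGroup.eq_one_iff]
    have hπ : ((x : G) : G ⧸ Cfsg.pCore 2 G) = (y : G) := QuotientGroup.eq.mpr hxy
    rw [QuotientGroup.mk_pow, QuotientGroup.mk_mul, ← hπ, ← QuotientGroup.mk_mul, ← QuotientGroup.mk_pow,
      Cfsg.Agent.Lib.Helper36.TT.tt_sq_of_commute hTT hx he hc]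
    rfl
  have h1 : y * e ∈ Cfsg.pCore 2 G := by
    have : y * e = ((y * e) ^ 2)⁻¹ := by
      apply eq_inv_of_mul_eq_one_right
      rw [← pow_succ]; exact h3
    rw [this]
    exact Subgroup.inv_mem _ h2
  obtain ⟨k, hk⟩ := hQp ⟨y * e, h1⟩
  have hk' : (y * e) ^ (2 ^ k) = 1 := congrArg Subtype.val hk
  have hd1 : orderOf (y * e) ∣ 2 ^ k := orderOf_dvd_of_pow_eq_one hk'
  have hd2 : orderOf (y * e) ∣ 3 := orderOf_dvd_of_pow_eq_one h3
  have hcop : Nat.Coprime (2 ^ k) 3 := Nat.Coprime.pow_left k (by norm_num)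
  have h1' : orderOf (y * e) = 1 := Nat.eq_one_of_dvd_coprimes hcop hd1 hd2
  rw [orderOf_eq_one_iff] at h1'
  apply hne
  apply Cfsg.Agent.Lib.Helper36.TT.tt_commute_of_sq hTT hy he
  rw [h1', one_pow]

/-- a conjugate of `d` under the `2`-core has the same partners as `d` -/
theorem same_partners_of_pCore_conj {G : Type*} [Group G] {D : Set G}
    (hD : Cfsg.IsThreeTranspositionClass D) {d : G} (hd : d ∈ D) {g : G}
    (hg : g ∈ Cfsg.pCore 2 G) :
    g * d * g⁻¹ ∈ D ∧ ∀ e ∈ D, Commute (g * d * g⁻¹) e ↔ Commute d e := by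
  obtain ⟨hTT, ⟨d₀, hd₀, hDclass⟩, hgen⟩ := hD
  have hconj : ∀ g : G, ∀ x ∈ D, g * x * g⁻¹ ∈ D := by
    intro g x hx
    rw [hDclass] at hx ⊢
    exact IsConj.trans hx (isConj_iff.mpr ⟨g, rfl⟩)
  have hQn : (Cfsg.pCore 2 G).Normal := Subgroup.sSup_normal _ (fun _ h => h.1)
  have hv : g * d * g⁻¹ ∈ D := hconj g d hd
  have hdv : d⁻¹ * (g * d * g⁻¹) ∈ Cfsg.pCore 2 G := by
    have h1 : d⁻¹ * g * d⁻¹⁻¹ ∈ Cfsg.pCore 2 G := hQn.conj_mem g hg d⁻¹
    have : d⁻¹ * (g * d * g⁻¹) = (d⁻¹ * g * d⁻¹⁻¹) * g⁻¹ := by group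
    rw [this]
    exact Subgroup.mul_mem _ h1 (Subgroup.inv_mem _ hg)
  refine ⟨hv, fun e he => ⟨fun h => ?_, fun h => ?_⟩⟩
  · have : (g * d * g⁻¹)⁻¹ * d ∈ Cfsg.pCore 2 G := by
      have := Subgroup.inv_mem _ hdv
      rwa [_root_.mul_inv_rev, inv_inv] at this
    exact commute_of_congr hTT hv hd he this h
  · exact commute_of_congr hTT hd hv he hdv h

theorem commute_coe_iff {G : Type*} [Group G] {H : Subgroup G} (a b : ↥H) :
    Commute a b ↔ Commute (a : G) (b : G) := by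
  unfold Commute SemiconjBy
  rw [Subtype.ext_iff, Subgroup.coe_mul, Subgroup.coe_mul]

theorem le_center_of_fix {G : Type*} [Group G] {D : Set G} (hgen : Subgroup.closure D = ⊤)
    (N : Subgroup G) (h : ∀ g ∈ N, ∀ d ∈ D, g * d * g⁻¹ = d) : N ≤ Subgroup.center G := by
  intro g hg
  rw [Subgroup.mem_center_iff]
  have hle : Subgroup.closure D ≤ Subgroup.centralizer {g} := by
    rw [Subgroup.closure_le]
    intro d hd
    rw [SetLike.mem_coe, Subgroup.mem_centralizer_iff]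
    intro x hx
    rw [Set.mem_singleton_iff] at hx
    subst hx
    have h1 := h x hg d hd
    calc x * d = x * d * x⁻¹ * x := by group
      _ = d * x := by rw [h1]
  intro x
  have hx : x ∈ Subgroup.centralizer {g} := hle (hgen ▸ Subgroup.mem_top x)
  rw [Subgroup.mem_centralizer_iff] at hx
  exact (hx g rfl).symm

theorem commutator_le_of_index_le_two {G : Type*} [Group G] [Finite G] (L : Subgroup G)
    [L.Normal] (h : L.index ≤ 2) : commutator G ≤ L := by
  rw [← Subgroup.Normal.quotient_commutative_iff_commutator_le]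
  have hcard : Nat.card (G ⧸ L) ≤ 2 := by rw [← Subgroup.index_eq_card]; exact h
  have hpos : 0 < Nat.card (G ⧸ L) := Nat.card_pos
  haveI : IsCyclic (G ⧸ L) := by
    rcases (by omega : Nat.card (G ⧸ L) = 1 ∨ Nat.card (G ⧸ L) = 2) with h1 | h2
    · haveI : Subsingleton (G ⧸ L) := (Nat.card_eq_one_iff_unique.mp h1).1
      exact isCyclic_of_subsingleton
    · haveI : Fact (Nat.Prime 2) := ⟨Nat.prime_two⟩
      exact isCyclic_of_prime_card h2
  exact IsCyclic.isMulCommutative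

theorem le_commutator_of_perfect {G : Type*} [Group G] (L : Subgroup G)
    (h : Group.IsPerfect ↥L) : L ≤ commutator G := by
  have h1 : ⁅L, L⁆ = L := Subgroup.isPerfect_iff.mp h
  rw [← h1]
  exact Subgroup.commutator_mono le_top le_top

end gen

section refl

variable {n : ℕ} (Q : QuadraticForm (ZMod 3) (Fin n → ZMod 3)) (c : ZMod 3)

/-- the class of reflections of norm `c`, inside the reflection subgroup -/
abbrev DD : Set ↥(Cfsg.reflectionSubgroup (⇑Q) c) :=
  {g | (g : ↥(Cfsg.isometryGroup (ZMod 3) (⇑Q))) ∈ Cfsg.reflectionsOfNorm (⇑Q) c}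

/-- the member of the class attached to a vector of norm `c` -/
noncomputable def mk (hc : c ≠ 0) (u : Fin n → ZMod 3) (hu : Q u = c) :
    ↥(Cfsg.reflectionSubgroup (⇑Q) c) :=
  ⟨reflO Q u, reflO_mem_sub Q c hc hu⟩

theorem mk_mem (hc : c ≠ 0) (u : Fin n → ZMod 3) (hu : Q u = c) : mk Q c hc u hu ∈ DD Q c :=
  reflO_mem_norm Q c hc hu

theorem exists_mk (hc : c ≠ 0) {d : ↥(Cfsg.reflectionSubgroup (⇑Q) c)} (hd : d ∈ DD Q c) :
    ∃ u, ∃ hu : Q u = c, d = mk Q c hc u hu := by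
  obtain ⟨u, hu, hdu⟩ := eq_reflO_of_mem Q c hc hd
  exact ⟨u, hu, Subtype.ext hdu⟩

theorem mk_ne (hc : c ≠ 0) {u w : Fin n → ZMod 3} (hu : Q u = c) (hw : Q w = c)
    (h : mk Q c hc u hu ≠ mk Q c hc w hw) : reflO Q u ≠ reflO Q w := by
  intro he
  apply h
  exact Subtype.ext he

theorem exists_two (hn : 5 ≤ n) (hQ : (QuadraticMap.polarBilin Q).Nondegenerate) (hc : c ≠ 0) :
    ∃ a ∈ DD Q c, ∃ b ∈ DD Q c, a ≠ b := by
  obtain ⟨v0, hv0⟩ := exists_norm Q hn hQ c
  obtain ⟨s, hs0, hus, -, hQs⟩ := exists_orth_isotropic Q hn v0 v0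
  have hQt : Q (v0 + s) = c := by rw [quad_add, hv0, hQs, hus]; ring
  refine ⟨mk Q c hc v0 hv0, mk_mem Q c hc v0 hv0, mk Q c hc (v0 + s) hQt,
    mk_mem Q c hc (v0 + s) hQt, ?_⟩
  intro he
  have he' : reflO Q v0 = reflO Q (v0 + s) := congrArg Subtype.val he
  rcases eq_or_eq_neg_of_reflO_eq Q c hc hv0 hQt he' with h1 | h1
  · apply hs0
    have : v0 + s = v0 + 0 := by rw [add_zero]; exact h1
    exact add_left_cancel this
  · have h3 : s = v0 := by
      have h4 : s = -v0 - v0 := by rw [← h1]; abel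
      rw [h4]
      funext i
      simp only [Pi.sub_apply, Pi.neg_apply]
      generalize v0 i = x
      revert x; decide
    rw [h3, hv0] at hQs
    exact hc hQs

theorem tau_singleton (hn : 5 ≤ n) (hQ : (QuadraticMap.polarBilin Q).Nondegenerate) (hc : c ≠ 0)
    {d v : ↥(Cfsg.reflectionSubgroup (⇑Q) c)} (hd : d ∈ DD Q c) (hv : v ∈ DD Q c)
    (h : ∀ e ∈ DD Q c, Commute v e ↔ Commute d e) : v = d := by
  by_contra hne
  obtain ⟨u, hu, rfl⟩ := exists_mk Q c hc hd
  obtain ⟨w, hw, rfl⟩ := exists_mk Q c hc hv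
  have hne' : reflO Q u ≠ reflO Q w := mk_ne Q c hc hu hw (fun h => hne h.symm)
  obtain ⟨t, hQt, hut, hwt, htw⟩ := exists_sep Q hn hQ c hc hu hw hne'
  have h1 : Commute (mk Q c hc u hu) (mk Q c hc t hQt) :=
    (commute_coe_iff _ _).2 (commute_of_polar_zero Q c hc hu hQt hut)
  have h2 := (h _ (mk_mem Q c hc t hQt)).2 h1
  have h3 : Commute (reflO Q w) (reflO Q t) := (commute_coe_iff _ _).1 h2
  exact hwt (polar_zero_of_commute Q c hc hw hQt (fun h => htw h.symm) h3)

theorem theta_singleton (hn : 5 ≤ n) (hQ : (QuadraticMap.polarBilin Q).Nondegenerate)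
    (hc : c ≠ 0) {d w : ↥(Cfsg.reflectionSubgroup (⇑Q) c)} (hd : d ∈ DD Q c) (hw : w ∈ DD Q c)
    (h : {y | y ∈ DD Q c ∧ y ≠ d ∧ Commute d y} = {y | y ∈ DD Q c ∧ y ≠ w ∧ Commute w y}) :
    w = d := by
  by_contra hne
  by_cases hcm : Commute d w
  · have hmem : w ∈ {y | y ∈ DD Q c ∧ y ≠ d ∧ Commute d y} := ⟨hw, hne, hcm⟩
    rw [h] at hmem
    exact hmem.2.1 rfl
  · obtain ⟨u, hu, rfl⟩ := exists_mk Q c hc hd
    obtain ⟨w', hw', rfl⟩ := exists_mk Q c hc hw
    have hne' : reflO Q u ≠ reflO Q w' := mk_ne Q c hc hu hw' (fun h => hne h.symm)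
    obtain ⟨t, hQt, hut, hwt, htw⟩ := exists_sep Q hn hQ c hc hu hw' hne'
    have hy : mk Q c hc t hQt ∈
        {y | y ∈ DD Q c ∧ y ≠ mk Q c hc u hu ∧ Commute (mk Q c hc u hu) y} := by
      refine ⟨mk_mem Q c hc t hQt, ?_, ?_⟩
      · intro he
        have he' : reflO Q t = reflO Q u := congrArg Subtype.val he
        exact reflO_ne_of_polar_zero Q c hc hu hQt hut he'.symm
      · exact (commute_coe_iff _ _).2 (commute_of_polar_zero Q c hc hu hQt hut)
    rw [h] at hy
    have h3 : Commute (reflO Q w') (reflO Q t) := (commute_coe_iff _ _).1 hy.2.2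
    exact hwt (polar_zero_of_commute Q c hc hw' hQt (fun h => htw h.symm) h3)

theorem connected (hn : 5 ≤ n) (hQ : (QuadraticMap.polarBilin Q).Nondegenerate) (hc : c ≠ 0) :
    (Cfsg.commutingGraph (DD Q c)).Connected := by
  obtain ⟨v0, hv0⟩ := exists_norm Q hn hQ c
  haveI : Nonempty ↥(DD Q c) := ⟨⟨mk Q c hc v0 hv0, mk_mem Q c hc v0 hv0⟩⟩
  rw [SimpleGraph.connected_iff]
  refine ⟨?_, inferInstance⟩
  intro a b
  by_cases hab : a = b
  · rw [hab]
  · obtain ⟨u, hu, ha⟩ := exists_mk Q c hc a.2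
    obtain ⟨w, hw, hb⟩ := exists_mk Q c hc b.2
    have hne' : reflO Q u ≠ reflO Q w := by
      apply mk_ne Q c hc hu hw
      rw [← ha, ← hb]
      intro h
      exact hab (Subtype.ext h)
    obtain ⟨t, hQt, hut, hwt⟩ := exists_common_orth Q hn hQ c hc hu hw hne'
    let e : ↥(DD Q c) := ⟨mk Q c hc t hQt, mk_mem Q c hc t hQt⟩
    have h1 : (Cfsg.commutingGraph (DD Q c)).Adj a e := by
      unfold Cfsg.commutingGraph
      rw [SimpleGraph.fromRel_adj]
      refine ⟨?_, Or.inl ?_⟩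
      · intro he
        have he1 : (a : ↥(Cfsg.reflectionSubgroup (⇑Q) c)) = mk Q c hc t hQt := by rw [he]
        rw [ha] at he1
        have he' : reflO Q u = reflO Q t := congrArg Subtype.val he1
        exact reflO_ne_of_polar_zero Q c hc hu hQt hut he'
      · change Commute (a : ↥(Cfsg.reflectionSubgroup (⇑Q) c)) (mk Q c hc t hQt)
        rw [ha]
        exact (commute_coe_iff _ _).2 (commute_of_polar_zero Q c hc hu hQt hut)
    have h2 : (Cfsg.commutingGraph (DD Q c)).Adj e b := by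
      unfold Cfsg.commutingGraph
      rw [SimpleGraph.fromRel_adj]
      refine ⟨?_, Or.inr ?_⟩
      · intro he
        have he1 : mk Q c hc t hQt = (b : ↥(Cfsg.reflectionSubgroup (⇑Q) c)) := by rw [← he]
        rw [hb] at he1
        have he' : reflO Q t = reflO Q w := congrArg Subtype.val he1
        exact reflO_ne_of_polar_zero Q c hc hw hQt hwt he'.symm
      · change Commute (b : ↥(Cfsg.reflectionSubgroup (⇑Q) c)) (mk Q c hc t hQt)
        rw [hb]
        exact (commute_coe_iff _ _).2 (commute_of_polar_zero Q c hc hw hQt hwt)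
    exact h1.reachable.trans h2.reachable

end refl

/-- Let Q be a non-degenerate quadratic form on the n-dimensional coordinate space over the field with three elements, n ≥ 5, c a non-zero scalar, and R the subgroup of the isometry group generated by the reflections of norm c. Then the commutator subgroup of R is quasisimple of index at most 2, the generalized Fitting subgroup of R is the product of the centre and the commutator subgroup, and R acts primitively by conjugation on its reflections of norm c. -/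
theorem result (n : ℕ) (hn : 5 ≤ n) (Q : QuadraticForm (ZMod 3) (Fin n → ZMod 3)) (hQ : (QuadraticMap.polarBilin Q).Nondegenerate) (c : ZMod 3) (hc : c ≠ 0) : Cfsg.IsQuasisimple (commutator ↥(Cfsg.reflectionSubgroup (⇑Q) c)) ∧ (commutator ↥(Cfsg.reflectionSubgroup (⇑Q) c)).index ≤ 2 ∧ Cfsg.generalizedFittingSubgroup ↥(Cfsg.reflectionSubgroup (⇑Q) c) = Subgroup.center ↥(Cfsg.reflectionSubgroup (⇑Q) c) ⊔ commutator ↥(Cfsg.reflectionSubgroup (⇑Q) c) ∧ Cfsg.IsPrimitiveUnderConj {g : ↥(Cfsg.reflectionSubgroup (⇑Q) c) | (g : ↥(Cfsg.isometryGroup (ZMod 3) (⇑Q))) ∈ Cfsg.reflectionsOfNorm (⇑Q) c} := by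
  have hD : Cfsg.IsThreeTranspositionClass (DD Q c) := Cfsg.Agent.S5357.result n hn Q hQ c hc
  have hD2 : ∃ a ∈ DD Q c, ∃ b ∈ DD Q c, a ≠ b := exists_two Q c hn hQ hc
  have h2 : Cfsg.pCore 2 ↥(Cfsg.reflectionSubgroup (⇑Q) c) ≤
      Subgroup.center ↥(Cfsg.reflectionSubgroup (⇑Q) c) := by
    apply le_center_of_fix hD.2.2
    intro g hg d hd
    have hmem := same_partners_of_pCore_conj hD hd hg
    exact tau_singleton Q c hn hQ hc hd hmem.1 hmem.2
  have h3 : Cfsg.pCore 3 ↥(Cfsg.reflectionSubgroup (⇑Q) c) ≤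
      Subgroup.center ↥(Cfsg.reflectionSubgroup (⇑Q) c) := by
    apply le_center_of_fix hD.2.2
    intro g hg d hd
    have h50 := (Cfsg.Agent.S5350.result hD hD2 hd).2
    have hmem : g * d * g⁻¹ ∈ {v : ↥(Cfsg.reflectionSubgroup (⇑Q) c) |
        ∃ g ∈ Cfsg.pCore 3 ↥(Cfsg.reflectionSubgroup (⇑Q) c), v = g * d * g⁻¹} := ⟨g, hg, rfl⟩
    rw [← h50] at hmem
    exact theta_singleton Q c hn hQ hc hd hmem.1 hmem.2
  obtain ⟨L, hLn, hLq, hF, -⟩ := Cfsg.Agent.Lib.Helper91.component_structure hD hD2 h2 h3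
  haveI := hLn
  have h53 := Cfsg.Agent.S5353.result hD hD2 h2 h3 L hLq hF
  have hidx : L.index ≤ 2 := h53.2 (connected Q c hn hQ hc)
  have hprim := h53.1 hidx
  have hLeq : L = commutator ↥(Cfsg.reflectionSubgroup (⇑Q) c) :=
    le_antisymm (le_commutator_of_perfect L hLq.1) (commutator_le_of_index_le_two L hidx)
  subst hLeq
  exact ⟨hLq, hidx, by rw [hF, sup_comm], hprim⟩

end Cfsg.Agent.S5360
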