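import Cfsg.Statements.S5363
-- import your own Cfsg.Agent.* helpers here

set_option autoImplicit false
open Cfsg

namespace Cfsg.Agent.S5363

/-- Let D be a conjugation-invariant set of involutions of a finite group G. Then every product of two members of D has odd order or order 2 if and only if, for every a in D and every b in D different from a and commuting with a, the members of D commuting with a b are exactly those commuting with both a and b. -/
theorem result {G : Type*} [Group G] [Finite G] {D : Set G} (hinv : ∀ d ∈ D, orderOf d = 2) (hconj : ∀ g : G, ∀ d ∈ D, g * d * g⁻¹ ∈ D) : (∀ a ∈ D, ∀ b ∈ D, Odd (orderOf (a * b)) ∨ orderOf (a * b) = 2) ↔ ∀ a ∈ D, ∀ b ∈ D, b ≠ a → Commute a b → {y : G | y ∈ D ∧ Commute (a * b) y} = {y : G | y ∈ D ∧ Commute a y} ∩ {y : G | y ∈ D ∧ Commute b y} := by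
  have sq : ∀ x ∈ D, x * x = 1 := by
    intro x hx
    have := pow_orderOf_eq_one x
    rw [hinv x hx, pow_two] at this
    exact this
  have inv_eq : ∀ x ∈ D, x⁻¹ = x := fun x hx => inv_eq_of_mul_eq_one_right (sq x hx)
  have ne_one : ∀ x ∈ D, x ≠ 1 := by
    intro x hx h
    have := hinv x hx
    rw [h, orderOf_one] at this
    omega
  -- two involutions whose product has order 2 commute
  have comm_of_sq : ∀ x ∈ D, ∀ y ∈ D, (x * y) ^ 2 = 1 → Commute x y := by
    intro x hx y hy h
    have h1 : x * y * (x * y) = 1 := by rw [← pow_two]; exact h
    have h2 : x * y = (x * y)⁻¹ := eq_inv_of_mul_eq_one_left h1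
    rw [mul_inv_rev, inv_eq x hx, inv_eq y hy] at h2
    exact h2
  constructor
  · intro hodd a ha b hb hba hab
    have hz2 : (a * b) * (a * b) = 1 := by
      calc (a * b) * (a * b) = a * (b * a) * b := by group
        _ = a * (a * b) * b := by rw [hab.eq]
        _ = (a * a) * (b * b) := by group
        _ = 1 := by rw [sq a ha, sq b hb, one_mul]
    have hz1 : a * b ≠ 1 := by
      intro h
      apply hba
      have := eq_inv_of_mul_eq_one_right h
      rw [this, inv_eq a ha]
    ext y
    constructor
    · rintro ⟨hy, hzy⟩
      -- key: y commutes with a or with b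
      have key : Commute a y ∨ Commute b y := by
        rcases hodd y hy a ha with hn | hn
        · rcases hodd y hy b hb with hm | hm
          · exfalso
            -- both odd
            set n := orderOf (y * a) with hn_def
            set m := orderOf (y * b) with hm_def
            have hyb : y * b = (y * a) * (a * b) := by
              calc y * b = y * (a * a) * b := by rw [sq a ha, mul_one]
                _ = (y * a) * (a * b) := by group
            have hcomm : Commute (y * a) (a * b) := by
              have h1 : Commute (a * b) a := by
                show a * b * a = a * (a * b)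
                rw [mul_assoc, hab.eq]
              exact (hzy.symm.mul_left h1.symm)
            have hpow : (y * b) ^ (n * m) = (a * b) ^ (n * m) := by
              rw [hyb, hcomm.mul_pow, pow_mul, pow_orderOf_eq_one, one_pow, one_mul]
            have h1 : (y * b) ^ (n * m) = 1 := by
              rw [mul_comm, pow_mul, pow_orderOf_eq_one, one_pow]
            have hnm : Odd (n * m) := hn.mul hm
            obtain ⟨k, hk⟩ := hnm
            have h2 : (a * b) ^ (n * m) = a * b := by
              rw [hk, pow_succ, pow_mul, pow_two, hz2, one_pow, one_mul]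
            rw [h1, h2] at hpow
            exact hz1 hpow.symm
          · right
            have := comm_of_sq y hy b hb (by rw [← hm]; exact pow_orderOf_eq_one _)
            exact this.symm
        · left
          have := comm_of_sq y hy a ha (by rw [← hn]; exact pow_orderOf_eq_one _)
          exact this.symm
      rcases key with hay | hby
      · refine ⟨⟨hy, hay⟩, hy, ?_⟩
        -- b = a * (a * b)
        have hb' : b = a * (a * b) := by
          rw [← mul_assoc, sq a ha, one_mul]
        rw [hb']
        exact hay.mul_left hzy
      · refine ⟨⟨hy, ?_⟩, hy, hby⟩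
        have ha' : a = (a * b) * b := by
          rw [mul_assoc, sq b hb, mul_one]
        rw [ha']
        exact hzy.mul_left hby
    · rintro ⟨⟨hy, hay⟩, -, hby⟩
      exact ⟨hy, hay.mul_left hby⟩
  · intro hcent a ha b hb
    by_contra hcon
    rw [not_or] at hcon
    obtain ⟨hnodd, hn2⟩ := hcon
    rw [Nat.not_odd_iff_even] at hnodd
    obtain ⟨k, hk⟩ := hnodd
    have hnpos : 0 < orderOf (a * b) := orderOf_pos _
    have hkpos : 0 < k := by omega
    set z := (a * b) ^ k with hz_def
    have hz2 : z * z = 1 := by
      rw [hz_def, ← pow_add, ← hk, pow_orderOf_eq_one]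
    have hz1 : z ≠ 1 := by
      intro h
      have := orderOf_dvd_of_pow_eq_one h
      have := Nat.le_of_dvd hkpos this
      omega
    have hzinv : z⁻¹ = z := inv_eq_of_mul_eq_one_right hz2
    have hbainv : b * a = (a * b)⁻¹ := by
      rw [mul_inv_rev, inv_eq a ha, inv_eq b hb]
    -- z commutes with a and with b
    have hza : Commute a z := by
      have : a * z * a⁻¹ = z := by
        rw [hz_def, ← conj_pow]
        have : a * (a * b) * a⁻¹ = (a * b)⁻¹ := by
          rw [← hbainv, inv_eq a ha]
          calc a * (a * b) * a = (a * a) * (b * a) := by group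
            _ = b * a := by rw [sq a ha, one_mul]
        rw [this, inv_pow, ← hz_def, hzinv]
      show a * z = z * a
      calc a * z = (a * z * a⁻¹) * a := by group
        _ = z * a := by rw [this]
    have hzb : Commute b z := by
      have : b * z * b⁻¹ = z := by
        rw [hz_def, ← conj_pow]
        have : b * (a * b) * b⁻¹ = (a * b)⁻¹ := by
          rw [← hbainv]
          group
        rw [this, inv_pow, ← hz_def, hzinv]
      show b * z = z * b
      calc b * z = (b * z * b⁻¹) * b := by group
        _ = z * b := by rw [this]
    -- a * (a*b)^j ∈ D for all j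
    have hmem : ∀ j : ℕ, a * (a * b) ^ j ∈ D ∧ a * (a * b) ^ (j + 1) ∈ D := by
      intro j
      induction j with
      | zero =>
        refine ⟨by simpa using ha, ?_⟩
        rw [zero_add, pow_one, ← mul_assoc, sq a ha, one_mul]
        exact hb
      | succ j ih =>
        refine ⟨ih.2, ?_⟩
        have haw : a * (a * b) = (a * b)⁻¹ * a := by
          rw [mul_inv_rev, inv_eq a ha, inv_eq b hb, mul_assoc, sq a ha, mul_one, ← mul_assoc, sq a ha,
            one_mul]
        have : a * (a * b) ^ (j + 1 + 1) = (b * a) * (a * (a * b) ^ j) * (b * a)⁻¹ := by
          rw [hbainv, inv_inv, ← mul_assoc ((a * b)⁻¹) a, ← haw, pow_succ, pow_succ']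
          simp only [mul_assoc]
        rw [this]
        exact hconj _ _ ih.1
    have hazD : a * z ∈ D := (hmem k).1
    have haz_ne : a * z ≠ a := by
      intro h
      apply hz1
      have := mul_left_cancel (a := a) (b := z) (c := 1) (by rw [h, mul_one])
      exact this
    have hcomm_az : Commute a (a * z) := (Commute.refl a).mul_right hza
    have hprod : a * (a * z) = z := by rw [← mul_assoc, sq a ha, one_mul]
    have hset := hcent a ha (a * z) hazD haz_ne hcomm_az
    rw [hprod] at hset
    have hbmem : b ∈ {y : G | y ∈ D ∧ Commute z y} := ⟨hb, hzb.symm⟩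
    rw [hset] at hbmem
    have hab : Commute a b := hbmem.1.2
    apply hn2
    have h2 : (a * b) ^ 2 = 1 := by
      rw [pow_two]
      calc (a * b) * (a * b) = a * (b * a) * b := by group
        _ = a * (a * b) * b := by rw [hab.eq]
        _ = (a * a) * (b * b) := by group
        _ = 1 := by rw [sq a ha, sq b hb, one_mul]
    have hdvd := orderOf_dvd_of_pow_eq_one h2
    have hle := Nat.le_of_dvd (by norm_num) hdvd
    omega

end Cfsg.Agent.S5363
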