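import Cfsg.Statements.S5392
import Mathlib
import Cfsg.Agent.Lib.Helper94.LeechTrans8
import Cfsg.Agent.Lib.Helper94.LeechClasses
import Cfsg.Agent.Lib.Helper94.LeechDot
import Cfsg.Agent.S1567

set_option autoImplicit false
open Cfsg

namespace Cfsg.Agent.S5392

open Cfsg.Agent.Lib.Helper94

/-- the vector `(-3, 1^23)` -/
def u0 : GolayPt → ℤ := oneVec {none} (-3)

lemma u0_mem : u0 ∈ leechLattice := by
  unfold u0
  apply mem_of_one_mod_four
  · intro i; exact oneVec_mod _ (by decide) i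
  · rw [sum_oneVec]; decide

lemma u0_norm : sqNorm u0 = 32 := by
  unfold u0
  rw [sqNorm_oneVec]; simp

lemma neg_one_pm {ε : ℤ} (hε : ε = 1 ∨ ε = -1) : ε * ε = 1 := by
  rcases hε with rfl | rfl <;> norm_num

theorem part1 (f : Equiv.Perm leechLattice) (hf : f ∈ Co0)
    (H : ∀ v : leechLattice, ∃ w : leechLattice,
      ((f v : leechLattice) : GolayPt → ℤ) - (v : GolayPt → ℤ) = 2 • (w : GolayPt → ℤ)) :
    ∃ ε : ℤ, (ε = 1 ∨ ε = -1) ∧ ∀ v : leechLattice, ((f v : leechLattice) : GolayPt → ℤ) = ε • v.1 := by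
  -- short vectors are fixed up to sign
  have hmin : ∀ v : leechLattice, sqNorm v.1 = 32 →
      ∃ ε : ℤ, (ε = 1 ∨ ε = -1) ∧ (f v).1 = ε • v.1 := by
    intro v hv
    obtain ⟨w, hw⟩ := H v
    have hv0 : v.1 ≠ 0 := by
      intro h
      rw [h] at hv
      simp [sqNorm] at hv
    have hfn : sqNorm (f v).1 = 32 := by rw [hf.2, hv]
    have hfv0 : (f v).1 ≠ 0 := by
      intro h
      rw [h] at hfn
      simp [sqNorm] at hfn
    have hc : ∃ z ∈ leechLattice, v.1 - (f v).1 = 2 • z := by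
      refine ⟨-w.1, leechLattice.neg_mem w.2, ?_⟩
      rw [smul_neg, ← hw]; abel
    have := (Cfsg.Agent.S5551.result v.1 (f v).1 v.2 (f v).2 hv0 hfv0 (by rw [hv]; norm_num)
      (by rw [hfn]; norm_num) hc).2 (by rw [hv]; norm_num)
    rcases this with h | h
    · exact ⟨1, Or.inl rfl, by rw [h, one_smul]⟩
    · exact ⟨-1, Or.inr rfl, by rw [h, neg_one_smul]⟩
  -- signs of non-orthogonal short vectors agree
  have hsign : ∀ (v v' : leechLattice) (ε ε' : ℤ), (ε = 1 ∨ ε = -1) → (ε' = 1 ∨ ε' = -1) →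
      (f v).1 = ε • v.1 → (f v').1 = ε' • v'.1 → dotInt v.1 v'.1 ≠ 0 → ε' = ε := by
    intro v v' ε ε' hε hε' h1 h2 hd
    have := co0_dot f hf v v'
    rw [h1, h2, dotInt_smul_left', dotInt_smul_right'] at this
    rcases hε with rfl | rfl <;> rcases hε' with rfl | rfl
    · rfl
    · exfalso; apply hd; linarith
    · exfalso; apply hd; linarith
    · rfl
  obtain ⟨ε, hε, hu⟩ := hmin ⟨u0, u0_mem⟩ u0_norm
  refine ⟨ε, hε, ?_⟩
  have key : ∀ v : leechLattice, sqNorm v.1 = 32 → dotInt u0 v.1 ≠ 0 → (f v).1 = ε • v.1 := by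
    intro v hv hd
    obtain ⟨ε', hε', hv'⟩ := hmin v hv
    have := hsign ⟨u0, u0_mem⟩ v ε ε' hε hε' hu hv' hd
    rw [← this]; exact hv'
  -- the vectors `8 e_k`
  have h8 : ∀ k : GolayPt, (f ⟨vec8 k, vec8_mem k⟩).1 = ε • vec8 k := by
    intro k
    obtain ⟨j, hkj, hdA, hdB⟩ : ∃ j : GolayPt, k ≠ j ∧ dotInt u0 (twoVec k j 4) ≠ 0 ∧
        dotInt u0 (twoVec k j (-4)) ≠ 0 := by
      by_cases hk : k = none
      · subst hk
        refine ⟨some 0, by decide, ?_, ?_⟩ <;>
        · rw [dotInt_twoVec]; unfold u0; rw [oneVec_apply, oneVec_apply]; decide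
      · refine ⟨none, hk, ?_, ?_⟩ <;>
        · rw [dotInt_twoVec]; unfold u0; rw [oneVec_apply, oneVec_apply]
          rw [if_neg (by simpa using hk), if_pos (by simp)]
          norm_num
    have hA := key ⟨twoVec k j 4, twoVec_mem (Or.inl rfl)⟩ (sqNorm_twoVec hkj (Or.inl rfl)) hdA
    have hB := key ⟨twoVec k j (-4), twoVec_mem (Or.inr rfl)⟩ (sqNorm_twoVec hkj (Or.inr rfl)) hdB
    have hsum : (⟨vec8 k, vec8_mem k⟩ : leechLattice) =
        ⟨twoVec k j 4, twoVec_mem (Or.inl rfl)⟩ + ⟨twoVec k j (-4), twoVec_mem (Or.inr rfl)⟩ := by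
      apply Subtype.ext
      show vec8 k = twoVec k j 4 + twoVec k j (-4)
      rw [twoVec_add]
    rw [hsum, hf.1]
    show (f ⟨twoVec k j 4, _⟩).1 + (f ⟨twoVec k j (-4), _⟩).1 = _
    rw [hA, hB, ← smul_add]
    show ε • (twoVec k j 4 + twoVec k j (-4)) = ε • vec8 k
    rw [twoVec_add]
  intro v
  ext i
  have h1 := co0_dot f hf v ⟨vec8 i, vec8_mem i⟩
  rw [h8 i, dotInt_smul_right', dotInt_vec8, dotInt_vec8] at h1
  have h2 := neg_one_pm hε
  simp only [Pi.smul_apply, smul_eq_mul]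
  have : ε * (ε * ((f v).1 i * 8)) = ε * (v.1 i * 8) := by rw [h1]
  rw [← mul_assoc, h2, one_mul] at this
  linarith

theorem part2 (M : AddSubgroup (GolayPt → ℤ)) (h2 : ∀ v ∈ leechLattice, (2 : ℤ) • v ∈ M)
    (hM : M ≤ leechLattice)
    (hinv : ∀ g : ↥Co0, ∀ v : ↥leechLattice, (v : GolayPt → ℤ) ∈ M →
      ((g • v : ↥leechLattice) : GolayPt → ℤ) ∈ M) :
    (∀ x ∈ M, ∃ w ∈ leechLattice, x = (2 : ℤ) • w) ∨ M = leechLattice := by
  by_cases hall : ∀ x ∈ M, ∃ w ∈ leechLattice, x = (2 : ℤ) • w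
  · exact Or.inl hall
  right
  push Not at hall
  obtain ⟨x, hxM, hx⟩ := hall
  have hconj : ∀ y y' : GolayPt → ℤ, y ∈ M → Conj y y' → y' ∈ M := by
    rintro y y' hy ⟨g, hg, hyL, rfl⟩
    exact hinv ⟨g, hg⟩ ⟨y, hyL⟩ hy
  obtain ⟨y, hyL, hy64, hcls⟩ := classes_main.1 (cls x)
  obtain ⟨z, hz, hyz⟩ := (cls_eq_iff hyL (hM hxM)).mp hcls
  have h2z : (2 : ℕ) • z = (2 : ℤ) • z := by
    ext i; simp
  have hyM : y ∈ M := by
    have : y = x + (2 : ℤ) • z := by rw [← h2z, ← hyz]; abel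
    rw [this]
    exact M.add_mem hxM (h2 z hz)
  have hy0 : y ≠ 0 := by
    intro h
    rw [h, zero_sub] at hyz
    apply hx (-z) (leechLattice.neg_mem hz)
    rw [smul_neg, ← h2z, ← hyz, neg_neg]
  have h32 := Cfsg.Agent.S0391.result y hyL hy0
  obtain ⟨t, ht⟩ := Cfsg.Agent.S0392.result y hyL
  have hmin : ∀ m : GolayPt → ℤ, m ∈ leechLattice → sqNorm m = 32 → m ∈ M := by
    have hcase : sqNorm y = 32 ∨ sqNorm y = 48 ∨ sqNorm y = 64 := by omega
    have h32all : ∀ m0 ∈ M, sqNorm m0 = 32 → ∀ m : GolayPt → ℤ, m ∈ leechLattice →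
        sqNorm m = 32 → m ∈ M := by
      intro m0 hm0 hn0 m hm hmn
      exact hconj m0 m hm0 ((conj_norm32 m0 (hM hm0) hn0).trans (conj_norm32 m hm hmn).symm)
    rcases hcase with h | h | h
    · exact h32all y hyM h
    · have hall48 : ∀ m : GolayPt → ℤ, m ∈ leechLattice → sqNorm m = 48 → m ∈ M := by
        intro m hm hmn
        exact hconj y m hyM ((conj_norm48 y hyL h).trans (conj_norm48 m hm hmn).symm)
      have m1 : oneVec {none} 5 ∈ leechLattice := by
        apply mem_of_one_mod_four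
        · intro i; exact oneVec_mod _ (by decide) i
        · rw [sum_oneVec]; decide
      have m2 : oneVec {some 0} 5 ∈ leechLattice := by
        apply mem_of_one_mod_four
        · intro i; exact oneVec_mod _ (by decide) i
        · rw [sum_oneVec]; decide
      have n1 : sqNorm (oneVec {none} 5) = 48 := by rw [sqNorm_oneVec]; simp
      have n2 : sqNorm (oneVec {some 0} 5) = 48 := by rw [sqNorm_oneVec]; simp
      have hd := M.sub_mem (hall48 _ m1 n1) (hall48 _ m2 n2)
      have hdn : sqNorm (oneVec {none} 5 - oneVec {some 0} 5) = 32 := by decide +kernel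
      exact h32all _ hd hdn
    · have hall64 : ∀ m : GolayPt → ℤ, m ∈ leechLattice → sqNorm m = 64 → m ∈ M := by
        intro m hm hmn
        exact hconj y m hyM ((conj_norm64 y hyL h).trans (conj_norm64 m hm hmn).symm)
      have m1 : pmVec 4 {none, some 0, some 1, some 2} ∅ ∈ leechLattice :=
        pmVec_four_mem (Finset.empty_subset _) (by decide)
      have m2 : pmVec 4 {some 0, some 1, some 2, some 3} ∅ ∈ leechLattice :=
        pmVec_four_mem (Finset.empty_subset _) (by decide)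
      have n1 : sqNorm (pmVec 4 {none, some 0, some 1, some 2} ∅) = 64 := by decide +kernel
      have n2 : sqNorm (pmVec 4 {some 0, some 1, some 2, some 3} ∅) = 64 := by decide +kernel
      have hd := M.sub_mem (hall64 _ m1 n1) (hall64 _ m2 n2)
      have hdn : sqNorm (pmVec 4 {none, some 0, some 1, some 2} ∅ -
          pmVec 4 {some 0, some 1, some 2, some 3} ∅) = 32 := by decide +kernel
      exact h32all _ hd hdn
  apply le_antisymm hM
  rw [← Cfsg.Agent.S1567.result, AddSubgroup.closure_le]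
  intro m hm
  exact hmin m hm.1 hm.2

/-- The Leech lattice modulo twice itself is a faithful irreducible module for the first Conway group: an automorphism of the rank-24 lattice built from the length-24 code that moves every lattice vector only by twice a lattice vector lies in the centre of the automorphism group (the centre consists of ±1, which act trivially there, so the kernel is exactly the centre), and an additive subgroup lying between twice the lattice and the lattice that is invariant under all lattice automorphisms is one of the two. -/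
theorem result : (∀ g : ↥Cfsg.Co0, (∀ v : ↥Cfsg.leechLattice, ∃ w : ↥Cfsg.leechLattice, ((g • v : ↥Cfsg.leechLattice) : Cfsg.GolayPt → ℤ) - (v : Cfsg.GolayPt → ℤ) = 2 • (w : Cfsg.GolayPt → ℤ)) → g ∈ Subgroup.center ↥Cfsg.Co0) ∧ ∀ M : AddSubgroup (Cfsg.GolayPt → ℤ), (∀ v ∈ Cfsg.leechLattice, (2 : ℤ) • v ∈ M) → M ≤ Cfsg.leechLattice → (∀ g : ↥Cfsg.Co0, ∀ v : ↥Cfsg.leechLattice, (v : Cfsg.GolayPt → ℤ) ∈ M → ((g • v : ↥Cfsg.leechLattice) : Cfsg.GolayPt → ℤ) ∈ M) → (∀ x ∈ M, ∃ w ∈ Cfsg.leechLattice, x = (2 : ℤ) • w) ∨ M = Cfsg.leechLattice := by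
  refine ⟨?_, part2⟩
  rintro ⟨f, hf⟩ H
  obtain ⟨ε, hε, hall⟩ := part1 f hf H
  rw [Subgroup.mem_center_iff]
  rintro ⟨h, hh⟩
  apply Subtype.ext
  apply Equiv.ext
  intro v
  show h (f v) = f (h v)
  apply Subtype.ext
  rw [hall (h v)]
  rcases hε with rfl | rfl
  · have : f v = v := Subtype.ext (by rw [hall v, one_smul])
    rw [this, one_smul]
  · have : f v = -v := Subtype.ext (by rw [hall v, neg_one_smul]; rfl)
    rw [this, co0_neg h hh, neg_one_smul]; rfl

end Cfsg.Agent.S5392
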