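import Cfsg.Statements.S5393
import Cfsg.Agent.Lib.Helper92.GolayPerm

set_option autoImplicit false
open Cfsg

namespace Cfsg.Agent.S5393

open Cfsg.Agent.Lib.Helper10 Cfsg.Agent.Lib.Helper95 Cfsg.Agent.Lib.Helper92

theorem support₂_one : support₂ (1 : GolayPt → ZMod 2) = Finset.univ := by
  ext p; simp [mem_support₂]

theorem card_support₂_one_add (w : GolayPt → ZMod 2) :
    (support₂ (1 + w)).card = 24 - (support₂ w).card := by
  rw [support₂_add, support₂_one]
  have h1 : support₂ w \ Finset.univ = ∅ := by
    ext p; simp
  rw [h1, Finset.union_empty, ← Finset.compl_eq_univ_sdiff, Finset.card_compl, golayPt_card]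

theorem eq_one_of_card (w : GolayPt → ZMod 2) (h : (support₂ w).card = 24) : w = 1 := by
  have h1 : support₂ w = Finset.univ := by
    apply Finset.eq_univ_of_card
    rw [h, golayPt_card]
  funext p
  have hp : p ∈ support₂ w := by rw [h1]; exact Finset.mem_univ p
  rw [mem_support₂] at hp
  rcases zmod2_cases (w p) with h0 | h0
  · exact absurd h0 hp
  · simpa using h0

/-- The length-24 code built from the squares modulo 23 contains the all-ones word, and the code modulo the all-ones word is an irreducible module over the field with two elements for the code's automorphism group: a subspace of the code that contains the all-ones word and is invariant under every coordinate permutation preserving the code is either the span of the all-ones word or the whole code. -/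
theorem result : (fun _ : Cfsg.GolayPt => (1 : ZMod 2)) ∈ Cfsg.golayCode ∧ ∀ W : Submodule (ZMod 2) (Cfsg.GolayPt → ZMod 2), (fun _ => (1 : ZMod 2)) ∈ W → W ≤ Cfsg.golayCode → (∀ σ ∈ Cfsg.M24, ∀ w ∈ W, (fun p => w (σ.symm p)) ∈ W) → W = Submodule.span (ZMod 2) {fun _ => (1 : ZMod 2)} ∨ W = Cfsg.golayCode := by
  refine ⟨golayCode_one_mem, ?_⟩
  intro W h1 hle hinv
  have h1' : (1 : GolayPt → ZMod 2) ∈ W := h1
  have hinv' : ∀ σ ∈ M24, ∀ w ∈ W, permWord σ w ∈ W := hinv
  by_cases hex : ∃ w ∈ W, w ≠ 0 ∧ w ≠ 1
  · right
    -- a word of weight 8 or 16 in W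
    have step1 : ∃ u ∈ W, (support₂ u).card = 8 ∨ (support₂ u).card = 16 := by
      obtain ⟨w, hwW, hw0, hw1⟩ := hex
      have hwt := weight_mem w (hle hwW)
      simp only [List.mem_cons, List.not_mem_nil, or_false] at hwt
      rcases hwt with h | h | h | h | h
      · exact absurd (support₂_eq_empty (Finset.card_eq_zero.mp h)) hw0
      · exact ⟨w, hwW, Or.inl h⟩
      · obtain ⟨σ, hσ, hc⟩ := exists_perm_of_dodecad w (hle hwW) h
        exact ⟨w + permWord σ w, W.add_mem hwW (hinv' σ hσ w hwW), hc⟩
      · exact ⟨w, hwW, Or.inr h⟩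
      · exact absurd (eq_one_of_card w h) hw1
    -- a word of weight 8 in W
    have step2 : ∃ u ∈ W, (support₂ u).card = 8 := by
      obtain ⟨u, huW, h | h⟩ := step1
      · exact ⟨u, huW, h⟩
      · refine ⟨1 + u, W.add_mem h1' huW, ?_⟩
        rw [card_support₂_one_add, h]
    obtain ⟨u, huW, hu8⟩ := step2
    -- all words of weight 8 in W
    have step3 : ∀ v ∈ golayCode, (support₂ v).card = 8 → v ∈ W := by
      intro v hv hv8
      obtain ⟨σ, hσ, rfl⟩ := octad_word_trans u v (hle huW) hv hu8 hv8
      exact hinv' σ hσ u huW
    apply le_antisymm hle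
    have hspan := g24_span_octads golayPt_card golayCode golayCode_finrank golayCode_hmin
    calc golayCode = Submodule.span (ZMod 2)
          {w : GolayPt → ZMod 2 | w ∈ golayCode ∧ hammingNorm w = 8} := hspan.symm
      _ ≤ W := by
        rw [Submodule.span_le]
        rintro v ⟨hv, h8⟩
        apply step3 v hv
        rw [support₂_eq_bsupp, ← hammingNorm_eq_card_bsupp]
        exact h8
  · left
    push Not at hex
    apply le_antisymm
    · intro w hw
      by_cases h0 : w = 0
      · rw [h0]; exact Submodule.zero_mem _
      · have := hex w hw h0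
        rw [this]
        exact Submodule.subset_span rfl
    · rw [Submodule.span_le]
      intro w hw
      rw [Set.mem_singleton_iff] at hw
      rw [hw]
      exact h1

end Cfsg.Agent.S5393
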