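import Cfsg.Statements.S5394
import Cfsg.Agent.Lib.Helper92.M24Invol

set_option autoImplicit false
open Cfsg

namespace Cfsg.Agent.S5394

open Cfsg.Agent.Lib.Helper10 Cfsg.Agent.Lib.Helper92
open scoped Pointwise

theorem conj_apply_eq {k g z : Equiv.Perm GolayPt} (h : k * g * k⁻¹ = z) (p : GolayPt) :
    z (k p) = k (g p) := by
  rw [← h]
  simp

theorem fixed_eq_smul {k g z : Equiv.Perm GolayPt} (h : k * g * k⁻¹ = z) :
    (Finset.univ.filter fun p => g p = p) = k⁻¹ • (Finset.univ.filter fun p => z p = p) := by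
  ext p
  rw [Finset.mem_inv_smul_finset_iff, Finset.mem_filter, Finset.mem_filter]
  simp only [Finset.mem_univ, true_and, Equiv.Perm.smul_def]
  rw [conj_apply_eq h p]
  exact ⟨fun e => by rw [e], fun e => k.injective e⟩

theorem fixed_octad_of_conj_z1 {k g : Equiv.Perm GolayPt} (hk : k ∈ M24)
    (h : k * g * k⁻¹ = wordPerm z1w) : (Finset.univ.filter fun p => g p = p) ∈ octads := by
  rw [fixed_eq_smul h]
  exact smul_mem_octads (M24.inv_mem hk) z1_fixed_mem_octads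

theorem fpf_of_conj_z2 {k g : Equiv.Perm GolayPt} (h : k * g * k⁻¹ = wordPerm z2w) :
    ∀ p, g p ≠ p := by
  intro p hp
  apply z2_fixed (k p)
  rw [conj_apply_eq h p, hp]

theorem exists_fixed_of_conj_z1 {k g : Equiv.Perm GolayPt} (hk : k ∈ M24)
    (h : k * g * k⁻¹ = wordPerm z1w) : ∃ p, g p = p := by
  have hoct := fixed_octad_of_conj_z1 hk h
  have hcard : (Finset.univ.filter fun p => g p = p).card = 8 := hoct.2
  have hne : (Finset.univ.filter fun p => g p = p).Nonempty := by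
    rw [← Finset.card_pos, hcard]; decide
  obtain ⟨p, hp⟩ := hne
  exact ⟨p, (Finset.mem_filter.mp hp).2⟩

theorem conj_of_conj {k1 k2 g h z : Equiv.Perm GolayPt} (h1 : k1 * g * k1⁻¹ = z)
    (h2 : k2 * h * k2⁻¹ = z) : (k2⁻¹ * k1) * g * (k2⁻¹ * k1)⁻¹ = h := by
  calc (k2⁻¹ * k1) * g * (k2⁻¹ * k1)⁻¹ = k2⁻¹ * (k1 * g * k1⁻¹) * k2 := by group
    _ = k2⁻¹ * (k2 * h * k2⁻¹) * k2 := by rw [h1, h2]
    _ = h := by group

/-- The automorphism group of the length-24 code built from the squares modulo 23 has exactly two conjugacy classes of involutions: an involution either fixes exactly the eight points of an octad or has no fixed points, both kinds occur, and any two involutions of the same kind are conjugate in the group. -/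
theorem result : (∀ g ∈ Cfsg.M24, orderOf g = 2 → (Finset.univ.filter fun p => g p = p) ∈ Cfsg.octads ∨ ∀ p, g p ≠ p) ∧ (∃ g ∈ Cfsg.M24, orderOf g = 2 ∧ (Finset.univ.filter fun p => g p = p) ∈ Cfsg.octads) ∧ (∃ g ∈ Cfsg.M24, orderOf g = 2 ∧ ∀ p, g p ≠ p) ∧ ∀ g ∈ Cfsg.M24, ∀ h ∈ Cfsg.M24, orderOf g = 2 → orderOf h = 2 → ((∀ p, g p ≠ p) ↔ (∀ p, h p ≠ p)) → ∃ k ∈ Cfsg.M24, k * g * k⁻¹ = h := by
  refine ⟨?_, ?_, ?_, ?_⟩
  · intro g hg ho
    obtain ⟨k, hk, h | h⟩ := invol_conj g hg ho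
    · exact Or.inl (fixed_octad_of_conj_z1 hk h)
    · exact Or.inr (fpf_of_conj_z2 h)
  · exact ⟨wordPerm z1w, wordPerm_mem_M24 _, orderOf_eq_two_of z1_sq, z1_fixed_mem_octads⟩
  · exact ⟨wordPerm z2w, wordPerm_mem_M24 _, orderOf_eq_two_of z2_sq, z2_fixed⟩
  · intro g hg h hh hog hoh hiff
    obtain ⟨k1, hk1, e1 | e1⟩ := invol_conj g hg hog <;>
    obtain ⟨k2, hk2, e2 | e2⟩ := invol_conj h hh hoh
    · exact ⟨k2⁻¹ * k1, M24.mul_mem (M24.inv_mem hk2) hk1, conj_of_conj e1 e2⟩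
    · exfalso
      obtain ⟨p, hp⟩ := exists_fixed_of_conj_z1 hk1 e1
      exact hiff.mpr (fpf_of_conj_z2 e2) p hp
    · exfalso
      obtain ⟨p, hp⟩ := exists_fixed_of_conj_z1 hk2 e2
      exact hiff.mp (fpf_of_conj_z2 e1) p hp
    · exact ⟨k2⁻¹ * k1, M24.mul_mem (M24.inv_mem hk2) hk1, conj_of_conj e1 e2⟩

end Cfsg.Agent.S5394
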