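import Cfsg.Statements.S5395
import Cfsg.Agent.Lib.Helper92.Basic

set_option autoImplicit false
open Cfsg

namespace Cfsg.Agent.S5395

open Cfsg.Agent.Lib.Helper92
open scoped commutatorElement

open Classical in
/-- the sign of an element: `1` at the identity and `-1` elsewhere -/
noncomputable def sgn {E : Type*} [Group E] (c : E) : ℤ := if c = 1 then 1 else -1

theorem sgn_one {E : Type*} [Group E] : sgn (1 : E) = 1 := by simp [sgn]

theorem sgn_of_ne {E : Type*} [Group E] {c : E} (h : c ≠ 1) : sgn c = -1 := by simp [sgn, h]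

theorem sgn_cases {E : Type*} [Group E] (c : E) : sgn c = 1 ∨ sgn c = -1 := by
  by_cases h : c = 1
  · left; rw [h, sgn_one]
  · right; exact sgn_of_ne h

theorem sgn_eq_one_iff {E : Type*} [Group E] (c : E) : sgn c = 1 ↔ c = 1 := by
  constructor
  · intro h
    by_contra hc
    rw [sgn_of_ne hc] at h
    omega
  · intro h; rw [h, sgn_one]

theorem sum_eq_zero_of_mul {E : Type*} [Group E] [Fintype E] (χ : E → ℤ)
    (hmul : ∀ x y, χ (x * y) = χ x * χ y) (a : E) (ha : χ a = -1) : ∑ x, χ x = 0 := by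
  have h : ∑ x, χ x = ∑ x, χ (a * x) :=
    (Fintype.sum_equiv (Equiv.mulLeft a) _ _ (fun x => rfl)).symm
  simp only [hmul, ha] at h
  rw [← Finset.mul_sum] at h
  linarith

/-- For a finite extraspecial 2-group E, an automorphism of E that induces the identity on E modulo its centre is inner (so these automorphisms form exactly the inner automorphism group, an elementary abelian 2-group of order |E|/2). -/
theorem result {E : Type*} [Group E] [Finite E] (hE : Cfsg.IsExtraspecial 2 E) (φ : E ≃* E) (hφ : ∀ x : E, φ x * x⁻¹ ∈ Subgroup.center E) : ∃ g : E, ∀ x : E, φ x = g * x * g⁻¹ := by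
  classical
  letI : Fintype E := Fintype.ofFinite E
  obtain ⟨⟨-, -, hcomm⟩, hcard⟩ := hE
  set Z := Subgroup.center E with hZ
  -- central elements commute with everything
  have hcen : ∀ c ∈ Z, ∀ y : E, y * c = c * y := fun c hc y => Subgroup.mem_center_iff.1 hc y
  -- the nontrivial central element
  obtain ⟨z, hz, hz1⟩ : ∃ z ∈ Z, z ≠ 1 := by
    by_contra hcon
    push Not at hcon
    have : Z = ⊥ := by
      rw [eq_bot_iff]; intro x hx; exact (Subgroup.mem_bot).2 (hcon x hx)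
    rw [this] at hcard
    simp at hcard
  have hZcases : ∀ c ∈ Z, c = 1 ∨ c = z := fun c hc => eq_one_or_eq_of_card_two hcard hz hz1 hc
  have hzz : z * z = 1 := by
    rcases hZcases _ (Z.mul_mem hz hz) with h | h
    · exact h
    · exfalso; apply hz1
      calc z = z⁻¹ * (z * z) := by group
        _ = z⁻¹ * z := by rw [h]
        _ = 1 := by group
  -- sgn is multiplicative on the centre
  have hsmul : ∀ c ∈ Z, ∀ d ∈ Z, sgn (c * d) = sgn c * sgn d := by
    intro c hc d hd
    rcases hZcases c hc with rfl | rfl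
    · rw [one_mul, sgn_one, one_mul]
    · rcases hZcases d hd with rfl | rfl
      · rw [mul_one, sgn_one, mul_one]
      · rw [hzz, sgn_one, sgn_of_ne hz1]; norm_num
  have hsinj : ∀ c ∈ Z, ∀ d ∈ Z, sgn c = sgn d → c = d := by
    intro c hc d hd h
    rcases hZcases c hc with rfl | rfl
    · rw [sgn_one] at h
      exact ((sgn_eq_one_iff d).1 h.symm).symm
    · rcases hZcases d hd with rfl | rfl
      · rw [sgn_one] at h
        exact (sgn_eq_one_iff _).1 h
      · rfl
  -- commutators are central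
  have hcommZ : ∀ g x : E, g * x * g⁻¹ * x⁻¹ ∈ Z := by
    intro g x
    have : ⁅g, x⁆ ∈ commutator E :=
      Subgroup.commutator_mem_commutator (Subgroup.mem_top _) (Subgroup.mem_top _)
    rw [hcomm] at this
    exact this
  -- multiplicativity of the two kinds of functions
  have hfmul : ∀ x y : E, φ (x * y) * (x * y)⁻¹ = (φ x * x⁻¹) * (φ y * y⁻¹) := by
    intro x y
    have h := hcen _ (hφ y) (φ x)
    rw [map_mul]
    calc φ x * φ y * (x * y)⁻¹ = (φ x * (φ y * y⁻¹)) * x⁻¹ := by group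
      _ = ((φ y * y⁻¹) * φ x) * x⁻¹ := by rw [h]
      _ = (φ y * y⁻¹) * (φ x * x⁻¹) := by group
      _ = (φ x * x⁻¹) * (φ y * y⁻¹) := (hcen _ (hφ y) _).symm
  have hβmulx : ∀ g x y : E, g * (x * y) * g⁻¹ * (x * y)⁻¹
      = (g * x * g⁻¹ * x⁻¹) * (g * y * g⁻¹ * y⁻¹) := by
    intro g x y
    have h := hcen _ (hcommZ g y) x⁻¹
    calc g * (x * y) * g⁻¹ * (x * y)⁻¹ = g * x * g⁻¹ * ((g * y * g⁻¹ * y⁻¹) * x⁻¹) := by group
      _ = g * x * g⁻¹ * (x⁻¹ * (g * y * g⁻¹ * y⁻¹)) := by rw [h]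
      _ = (g * x * g⁻¹ * x⁻¹) * (g * y * g⁻¹ * y⁻¹) := by group
  have hβmulg : ∀ g h x : E, (g * h) * x * (g * h)⁻¹ * x⁻¹
      = (g * x * g⁻¹ * x⁻¹) * (h * x * h⁻¹ * x⁻¹) := by
    intro g h x
    have h1 := hcen _ (hcommZ h x) g
    calc (g * h) * x * (g * h)⁻¹ * x⁻¹ = (g * (h * x * h⁻¹ * x⁻¹)) * x * g⁻¹ * x⁻¹ := by group
      _ = ((h * x * h⁻¹ * x⁻¹) * g) * x * g⁻¹ * x⁻¹ := by rw [h1]
      _ = (h * x * h⁻¹ * x⁻¹) * (g * x * g⁻¹ * x⁻¹) := by group
      _ = (g * x * g⁻¹ * x⁻¹) * (h * x * h⁻¹ * x⁻¹) := (hcen _ (hcommZ h x) _).symm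
  -- φ fixes the centre pointwise
  have hφZ : ∀ c ∈ Z, φ c = c := by
    intro c hc
    have hφc : φ c ∈ Z := by
      rw [hZ, Subgroup.mem_center_iff]
      intro y
      have := hcen c hc (φ.symm y)
      have h2 := congrArg φ this
      simpa using h2
    rcases hZcases c hc with rfl | rfl
    · exact map_one φ
    · rcases hZcases _ hφc with h | h
      · exfalso; apply hz1
        exact (MulEquiv.map_eq_one_iff φ).1 h
      · exact h
  -- the character sums
  let f : E → ℤ := fun x => sgn (φ x * x⁻¹)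
  let β : E → E → ℤ := fun g x => sgn (g * x * g⁻¹ * x⁻¹)
  have hfZ : ∀ x ∈ Z, f x = 1 := by
    intro x hx
    show sgn (φ x * x⁻¹) = 1
    rw [hφZ x hx, mul_inv_cancel, sgn_one]
  have hsumβ : ∀ x : E, ∑ g, β g x = if x ∈ Z then (Fintype.card E : ℤ) else 0 := by
    intro x
    by_cases hx : x ∈ Z
    · rw [if_pos hx]
      have : ∀ g : E, β g x = 1 := by
        intro g
        show sgn (g * x * g⁻¹ * x⁻¹) = 1
        rw [hcen x hx g]
        have : x * g * g⁻¹ * x⁻¹ = 1 := by group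
        rw [this, sgn_one]
      simp [this]
    · rw [if_neg hx]
      have : ∃ g : E, g * x ≠ x * g := by
        by_contra hcon
        push Not at hcon
        exact hx (Subgroup.mem_center_iff.2 hcon)
      obtain ⟨g, hg⟩ := this
      apply sum_eq_zero_of_mul (fun g => β g x) _ g
      · show sgn (g * x * g⁻¹ * x⁻¹) = -1
        apply sgn_of_ne
        intro h
        apply hg
        calc g * x = (g * x * g⁻¹ * x⁻¹) * (x * g) := by group
          _ = x * g := by rw [h, one_mul]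
      · intro g h
        show sgn ((g * h) * x * (g * h)⁻¹ * x⁻¹) = sgn (g * x * g⁻¹ * x⁻¹) * sgn (h * x * h⁻¹ * x⁻¹)
        rw [hβmulg, hsmul _ (hcommZ g x) _ (hcommZ h x)]
  have htotal : ∑ g, ∑ x, f x * β g x = ∑ x, if x ∈ Z then (Fintype.card E : ℤ) else 0 := by
    rw [Finset.sum_comm]
    apply Finset.sum_congr rfl
    intro x _
    rw [← Finset.mul_sum, hsumβ x]
    by_cases hx : x ∈ Z
    · rw [if_pos hx, hfZ x hx, one_mul]
    · rw [if_neg hx, mul_zero]
  have hpos : 0 < ∑ x : E, if x ∈ Z then (Fintype.card E : ℤ) else 0 := by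
    have h1 : (if (1 : E) ∈ Z then (Fintype.card E : ℤ) else 0)
        ≤ ∑ x : E, if x ∈ Z then (Fintype.card E : ℤ) else 0 := by
      apply Finset.single_le_sum (f := fun x : E => if x ∈ Z then (Fintype.card E : ℤ) else 0)
      · intro x _
        by_cases hx : x ∈ Z
        · simp [hx]
        · simp [hx]
      · exact Finset.mem_univ _
    rw [if_pos Z.one_mem] at h1
    have h2 : 0 < (Fintype.card E : ℤ) := by
      have : 0 < Fintype.card E := Fintype.card_pos
      exact_mod_cast this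
    linarith
  obtain ⟨g, hg⟩ : ∃ g : E, ∑ x, f x * β g x ≠ 0 := by
    by_contra hcon
    push Not at hcon
    rw [Finset.sum_eq_zero (fun g _ => hcon g)] at htotal
    rw [← htotal] at hpos
    exact lt_irrefl _ hpos
  refine ⟨g, fun a => ?_⟩
  -- the function x ↦ f x * β g x is multiplicative with values ±1 and nonzero sum
  have hχmul : ∀ x y : E, f (x * y) * β g (x * y) = (f x * β g x) * (f y * β g y) := by
    intro x y
    show sgn (φ (x * y) * (x * y)⁻¹) * sgn (g * (x * y) * g⁻¹ * (x * y)⁻¹)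
      = (sgn (φ x * x⁻¹) * sgn (g * x * g⁻¹ * x⁻¹)) * (sgn (φ y * y⁻¹) * sgn (g * y * g⁻¹ * y⁻¹))
    rw [hfmul, hβmulx, hsmul _ (hφ x) _ (hφ y), hsmul _ (hcommZ g x) _ (hcommZ g y)]
    ring
  have hχa : f a * β g a ≠ -1 := by
    intro h
    exact hg (sum_eq_zero_of_mul (fun x => f x * β g x) hχmul a h)
  have hfa : f a = β g a := by
    have h1 : sgn (φ a * a⁻¹) = 1 ∨ sgn (φ a * a⁻¹) = -1 := sgn_cases _
    have h2 : sgn (g * a * g⁻¹ * a⁻¹) = 1 ∨ sgn (g * a * g⁻¹ * a⁻¹) = -1 := sgn_cases _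
    show sgn (φ a * a⁻¹) = sgn (g * a * g⁻¹ * a⁻¹)
    have h3 : sgn (φ a * a⁻¹) * sgn (g * a * g⁻¹ * a⁻¹) ≠ -1 := hχa
    rcases h1 with h1 | h1 <;> rcases h2 with h2 | h2 <;> rw [h1, h2] at h3 ⊢ <;> simp at h3
  have h := hsinj _ (hφ a) _ (hcommZ g a) hfa
  calc φ a = (φ a * a⁻¹) * a := by group
    _ = (g * a * g⁻¹ * a⁻¹) * a := by rw [h]
    _ = g * a * g⁻¹ := by group

end Cfsg.Agent.S5395
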