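import Cfsg.Statements.S5396
import Mathlib
import Cfsg.Agent.Lib.Helper44.ExtraRank

set_option autoImplicit false
open Cfsg

namespace Cfsg.Agent.S5396

open Cfsg.Agent.Lib.Helper44 Cfsg.Agent.Lib.Helper44.CExt Cfsg.Agent.Lib.Helper50 Module

lemma neg_one_zmod2 : (-1 : ZMod 2) = 1 := by decide

lemma plus_nondeg (n : ℕ) : (QuadraticMap.polarBilin (QPlus n (ZMod 2))).Nondegenerate := by
  apply qfOfPolar_nondegenerate
  rw [det_hyp, neg_one_zmod2, one_pow]
  exact one_ne_zero

lemma minus_nondeg (m : ℕ) : (QuadraticMap.polarBilin (QMinus m (ZMod 2) 1 1)).Nondegenerate := by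
  apply qfOfPolar_nondegenerate
  rw [det_minus_gram, neg_one_zmod2, one_pow]
  decide

lemma plus_case (n : ℕ) (hn : 1 ≤ n) :
    Cfsg.IsExtraspecial 2 (CExt (Nplus n)) ∧ Nat.card (CExt (Nplus n)) = 2 ^ (2 * n + 1) ∧
      sSup {k : ℕ | ∃ A : Subgroup (CExt (Nplus n)), Cfsg.IsElementaryAbelian 2 A ∧
        Nat.card A = 2 ^ k} = n + 1 := by
  have : Nonempty (Fin n ⊕ Fin n) := ⟨Sum.inl ⟨0, hn⟩⟩
  refine ⟨isExtraspecial _ (Nplus_det n), ?_, ?_⟩
  · rw [card_eq]
    simp only [Fintype.card_sum, Fintype.card_fin]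
    congr 1
    ring
  · apply rank_eq (Nplus n) (QPlus n (ZMod 2)) (Nplus_form n) n
    · exact exists_totally_singular_of_plusType (QPlus n (ZMod 2)) n
        ⟨LinearEquiv.refl _ _, fun v => rfl⟩
    · intro X hX
      have := finrank_singular_le (QPlus n (ZMod 2)) (plus_nondeg n) X hX
      rw [Module.finrank_fintype_fun_eq_card] at this
      simp only [Fintype.card_sum, Fintype.card_fin] at this
      omega

lemma minus_case (m : ℕ) :
    Cfsg.IsExtraspecial 2 (CExt (Nminus m)) ∧ Nat.card (CExt (Nminus m)) = 2 ^ (2 * (m + 1) + 1) ∧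
      sSup {k : ℕ | ∃ A : Subgroup (CExt (Nminus m)), Cfsg.IsElementaryAbelian 2 A ∧
        Nat.card A = 2 ^ k} = m + 1 := by
  have : Nonempty ((Fin m ⊕ Fin m) ⊕ Fin 2) := ⟨Sum.inr 0⟩
  refine ⟨isExtraspecial _ (Nminus_det m), ?_, ?_⟩
  · rw [card_eq]
    simp only [Fintype.card_sum, Fintype.card_fin]
    congr 1
    ring
  · apply rank_eq (Nminus m) (QMinus m (ZMod 2) 1 1) (Nminus_form m) m
    · let j : (Fin m → ZMod 2) →ₗ[ZMod 2] ((Fin m ⊕ Fin m) ⊕ Fin 2 → ZMod 2) :=
        { toFun := fun x => Sum.elim (Sum.elim x 0) 0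
          map_add' := by
            intro x y
            ext ((i | i) | i) <;> simp
          map_smul' := by
            intro a x
            ext ((i | i) | i) <;> simp }
      have hj : Function.Injective j := by
        intro a b hab
        ext i
        have := congrFun hab (Sum.inl (Sum.inl i))
        simpa [j] using this
      refine ⟨LinearMap.range j, ?_, ?_⟩
      · rw [LinearMap.finrank_range_of_inj hj, Module.finrank_fin_fun]
      · rintro _ ⟨x, rfl⟩
        change Cfsg.quadFormMinus m (ZMod 2) 1 1 _ = 0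
        simp [j, Cfsg.quadFormMinus]
    · intro X hX
      by_contra hlt
      push Not at hlt
      have hfr : finrank (ZMod 2) ((Fin m ⊕ Fin m) ⊕ Fin 2 → ZMod 2) = 2 * (m + 1) := by
        rw [Module.finrank_fintype_fun_eq_card]
        simp only [Fintype.card_sum, Fintype.card_fin]
        ring
      have hp := plusType_of_totally_singular (m + 1) (QMinus m (ZMod 2) 1 1)
        (QND_of_nondegenerate _ (minus_nondeg m)) hfr X (by omega) hX
      have hm : IsMinusType (QMinus m (ZMod 2) 1 1) m 1 := ⟨LinearEquiv.refl _ _, fun v => rfl⟩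
      exact not_plus_and_minus (QMinus m (ZMod 2) 1 1) m 1 (by decide) hp hm


/-- For every n ≥ 1 there exist finite extraspecial 2-groups of order 2^(2n+1) whose 2-rank (the largest rank of an elementary abelian subgroup) is n, and ones whose 2-rank is n + 1 (so for each such order there are two non-isomorphic extraspecial 2-groups, told apart by their 2-rank). -/
theorem result (n : ℕ) (hn : 1 ≤ n) : ∀ r ∈ ({n, n + 1} : Set ℕ), ∃ (E : Type) (_ : Group E) (_ : Finite E), Cfsg.IsExtraspecial 2 E ∧ Nat.card E = 2 ^ (2 * n + 1) ∧ sSup {k : ℕ | ∃ A : Subgroup E, Cfsg.IsElementaryAbelian 2 A ∧ Nat.card A = 2 ^ k} = r := by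
  intro r hr
  rcases hr with rfl | rfl
  · obtain ⟨m, rfl⟩ : ∃ m, r = m + 1 := ⟨r - 1, by omega⟩
    obtain ⟨h1, h2, h3⟩ := minus_case m
    exact ⟨Cfsg.Agent.Lib.Helper44.CExt (Cfsg.Agent.Lib.Helper44.Nminus m), inferInstance,
      inferInstance, h1, h2, h3⟩
  · obtain ⟨h1, h2, h3⟩ := plus_case n hn
    exact ⟨Cfsg.Agent.Lib.Helper44.CExt (Cfsg.Agent.Lib.Helper44.Nplus n), inferInstance,
      inferInstance, h1, h2, h3⟩

end Cfsg.Agent.S5396
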