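import Cfsg.Statements.S5423
import Cfsg.Agent.Lib.Helper93.HolIso
import Cfsg.Agent.Lib.Helper93.TvcAssemble2

set_option autoImplicit false
open Cfsg

namespace Cfsg.Agent.S5423

/-- Let G be a finite group that is the split extension of an elementary abelian normal subgroup U of order 2^(n+1), n ≥ 1, by its full automorphism group: U has a complement M in G whose conjugation action on U is faithful and realizes every automorphism of U. Let Z be a subgroup of U of order 2 and Q the largest normal 2-subgroup of the centralizer C of Z. Then Q is extraspecial of order 2^(2n+1) with an elementary abelian subgroup of order 2^(n+1) (plus type), Q is a large extraspecial 2-subgroup of G, and C is the split extension of Q by the general linear group of degree n over the field with two elements. -/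
theorem result {G : Type*} [Group G] [Finite G] (n : ℕ) (hn : 1 ≤ n) (U M : Subgroup G) [U.Normal] (hU : Cfsg.IsElementaryAbelian 2 U) (hUcard : Nat.card ↥U = 2 ^ (n + 1)) (hUM : U ⊓ M = ⊥) (hUM' : U ⊔ M = ⊤) (hfaith : ∀ m ∈ M, (∀ u ∈ U, m * u * m⁻¹ = u) → m = 1) (hfull : ∀ φ : ↥U ≃* ↥U, ∃ m ∈ M, ∀ u : ↥U, ((φ u : ↥U) : G) = m * u * m⁻¹) (Z : Subgroup G) (hZU : Z ≤ U) (hZ : Nat.card ↥Z = 2) (Q : Subgroup G) (hQ : Q = (Cfsg.pCore 2 ↥(Subgroup.centralizer (Z : Set G))).map (Subgroup.centralizer (Z : Set G)).subtype) : Cfsg.IsExtraspecial 2 ↥Q ∧ Nat.card ↥Q = 2 ^ (2 * n + 1) ∧ (∃ E : Subgroup G, E ≤ Q ∧ Cfsg.IsElementaryAbelian 2 E ∧ Nat.card ↥E = 2 ^ (n + 1)) ∧ Cfsg.IsLargeExtraspecial Q ∧ ∃ K : Subgroup G, K ≤ Subgroup.centralizer (Z : Set G) ∧ Q ⊓ K = ⊥ ∧ Q ⊔ K = Subgroup.centralizer (Z : Set G) ∧ Nonempty (↥K ≃* Matrix.GeneralLinearGroup (Fin n) (ZMod 2)) := by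
  classical
  -- the involution generating `Z`
  have hZfin : Finite ↥Z := Nat.finite_of_card_ne_zero (by rw [hZ]; norm_num)
  have hZnt : Nontrivial ↥Z := Finite.one_lt_card_iff_nontrivial.mp (by rw [hZ]; norm_num)
  obtain ⟨z0, hz0⟩ := exists_ne (1 : ↥Z)
  set z : G := (z0 : G) with hzdef
  have hzZ : z ∈ Z := z0.2
  have hz1 : z ≠ 1 := fun h => hz0 (Subtype.ext h)
  have hzU : z ∈ U := hZU hzZ
  have hzsq : z ^ 2 = 1 := hU.2 z hzU
  have hzord : orderOf z = 2 := orderOf_eq_prime hzsq hz1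
  have hZeq : Z = Subgroup.zpowers z := by
    symm
    apply Subgroup.eq_of_le_of_card_ge
    · rw [Subgroup.zpowers_le]; exact hzZ
    · rw [Nat.card_zpowers, hzord, hZ]
  have memC : ∀ x : G, x ∈ Subgroup.centralizer (Z : Set G) ↔ z * x = x * z := by
    intro x
    rw [Subgroup.mem_centralizer_iff]
    constructor
    · intro h; exact h z hzZ
    · intro h y hy
      rw [SetLike.mem_coe, hZeq] at hy
      rcases Cfsg.Agent.Lib.Helper93.mem_zpowers_of_orderOf_two hzord hy with rfl | rfl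
      · simp
      · exact h
  -- `z` lies in the largest normal `2`-subgroup
  have hzO : z ∈ Cfsg.pCore 2 G := by
    have hp : IsPGroup 2 ↥U := IsPGroup.of_card hUcard
    exact Cfsg.Agent.Lib.Helper01.le_pCore inferInstance hp hzU
  -- coordinates
  have hc : ∀ a b : ↥U, a * b = b * a := fun a b => hU.1.is_comm.comm a b
  have he : ∀ a : ↥U, a ^ 2 = 1 := fun a => Subtype.ext (hU.2 a a.2)
  obtain ⟨β, hβ1, hβ2⟩ := Cfsg.Agent.Lib.Helper93.exists_coord hc he n hUcard ⟨z, hzU⟩
    (fun h => hz1 (congrArg Subtype.val h))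
  let H : Cfsg.Agent.Lib.Helper93.HolData G n :=
    { U := U, M := M, hUn := inferInstance, β := β, β_mul := hβ1, hUM := hUM, hUM' := hUM',
      hfaith := hfaith, hfull := hfull }
  -- the transvection
  have hdet : (Matrix.transvection (0 : Fin (n + 2)) 1 (1 : ZMod 2)).det = 1 :=
    Matrix.det_transvection_of_ne 0 1 Fin.zero_ne_one 1
  let t : Matrix.SpecialLinearGroup (Fin (n + 2)) (ZMod 2) := ⟨Matrix.transvection 0 1 1, hdet⟩
  have ht : (t : Matrix (Fin (n + 2)) (Fin (n + 2)) (ZMod 2)) = Matrix.transvection 0 1 1 := rfl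
  let e := H.centEquiv t ht z hzU hβ2 (Subgroup.centralizer (Z : Set G)) memC
  let D := (Cfsg.Agent.Lib.Helper93.tvcDataMat t ht).congr e
  obtain ⟨h1, h2, h3, h4, K, hK1, hK2, hK3, ⟨eK⟩⟩ :=
    Cfsg.Agent.Lib.Helper93.tvc_assemble_core z hzord n hn (Subgroup.centralizer (Z : Set G)) memC D
      hzO Q hQ
  exact ⟨h1, h2, h3, h4, K, hK1, hK2, hK3, ⟨eK.trans (Cfsg.Agent.Lib.Helper93.slEquivGLTwo n)⟩⟩

end Cfsg.Agent.S5423
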