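import Cfsg.Statements.S5424
import Cfsg.Agent.Lib.Helper93.TvcMat
import Cfsg.Agent.Lib.Helper93.TvcAssemble

set_option autoImplicit false
open Cfsg

namespace Cfsg.Agent.S5424

/-- Let G be the special linear group of degree n + 2 over the field with two elements, n ≥ 2, let z be a transvection, and let Q be the largest normal 2-subgroup of the centralizer C of z. Then Q is extraspecial of order 2^(2n+1) with an elementary abelian subgroup of order 2^(n+1) (plus type), Q is a large extraspecial 2-subgroup of G, and C is the split extension of Q by the special linear group of degree n over the field with two elements. -/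
theorem result (n : ℕ) (hn : 2 ≤ n) (z : Matrix.SpecialLinearGroup (Fin (n + 2)) (ZMod 2)) (hz : (z : Matrix (Fin (n + 2)) (Fin (n + 2)) (ZMod 2)) = Matrix.transvection 0 1 1) (Q : Subgroup (Matrix.SpecialLinearGroup (Fin (n + 2)) (ZMod 2))) (hQ : Q = (Cfsg.pCore 2 ↥(Subgroup.centralizer ({z} : Set (Matrix.SpecialLinearGroup (Fin (n + 2)) (ZMod 2))))).map (Subgroup.centralizer ({z} : Set (Matrix.SpecialLinearGroup (Fin (n + 2)) (ZMod 2)))).subtype) : Cfsg.IsExtraspecial 2 ↥Q ∧ Nat.card ↥Q = 2 ^ (2 * n + 1) ∧ (∃ E : Subgroup (Matrix.SpecialLinearGroup (Fin (n + 2)) (ZMod 2)), E ≤ Q ∧ Cfsg.IsElementaryAbelian 2 E ∧ Nat.card ↥E = 2 ^ (n + 1)) ∧ Cfsg.IsLargeExtraspecial Q ∧ ∃ K : Subgroup (Matrix.SpecialLinearGroup (Fin (n + 2)) (ZMod 2)), K ≤ Subgroup.centralizer ({z} : Set (Matrix.SpecialLinearGroup (Fin (n + 2)) (ZMod 2))) ∧ Q ⊓ K = ⊥ ∧ Q ⊔ K = Subgroup.centralizer ({z} : Set (Matrix.SpecialLinearGroup (Fin (n + 2)) (ZMod 2))) ∧ Nonempty (↥K ≃* Matrix.SpecialLinearGroup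 (Fin n) (ZMod 2)) := by
  open Cfsg.Agent.Lib.Helper93 in
  have h1s : ∀ j : Fin n, (1 : Fin (n + 2)) ≠ j.succ.succ := by
    intro j h; have := congrArg Fin.val h; simp at this
  have h0s : ∀ j : Fin n, (0 : Fin (n + 2)) ≠ j.succ.succ := by
    intro j h; have := congrArg Fin.val h; simp at this
  have h01 : (0 : Fin (n + 2)) ≠ 1 := by
    intro h; have := congrArg Fin.val h; simp at this
  have hz2 : orderOf z = 2 := by
    have : Fact (Nat.Prime 2) := ⟨Nat.prime_two⟩
    apply orderOf_eq_prime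
    · apply Subtype.ext
      rw [pow_two, Matrix.SpecialLinearGroup.coe_mul, hz, Matrix.SpecialLinearGroup.coe_one,
        Matrix.transvection_mul_transvection_same _ _ h01]
      have : (1 : ZMod 2) + 1 = 0 := CharTwo.add_self_eq_zero 1
      rw [this, Matrix.transvection_zero]
    · intro h
      have h2 := congrArg (fun x : Matrix.SpecialLinearGroup (Fin (n + 2)) (ZMod 2) =>
        (x : Matrix (Fin (n + 2)) (Fin (n + 2)) (ZMod 2)) 0 1) h
      simp only [hz, Matrix.SpecialLinearGroup.coe_one] at h2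
      simp [Matrix.transvection, h01] at h2
  let j0 : Fin n := ⟨0, by omega⟩
  let g : Matrix.SpecialLinearGroup (Fin (n + 2)) (ZMod 2) :=
    ⟨Matrix.transvection 1 j0.succ.succ 1, Matrix.det_transvection_of_ne _ _ (h1s j0) 1⟩
  let x : Matrix.SpecialLinearGroup (Fin (n + 2)) (ZMod 2) := tvcSL 1 (Pi.single j0 1) 0 1
  have hgx : g * z = x * g := by
    apply Subtype.ext
    rw [Matrix.SpecialLinearGroup.coe_mul, Matrix.SpecialLinearGroup.coe_mul, hz]
    exact conj_identity j0
  have hconj : g * z * g⁻¹ = x := by rw [hgx]; group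
  apply tvc_assemble z hz2 n hn (tvcDataMat z hz) g ?_ ?_ Q hQ
  · rw [hconj]
    intro h
    have h2 := congrArg (fun y : Matrix.SpecialLinearGroup (Fin (n + 2)) (ZMod 2) =>
      (y : Matrix (Fin (n + 2)) (Fin (n + 2)) (ZMod 2)) 0 j0.succ.succ) h
    simp only [hz, x, tvcSL_coe, tvcMk_0s] at h2
    simp [Matrix.transvection, h0s j0, h1s j0] at h2
  · rw [hconj]
    refine ⟨⟨x, tvcSL_mem z hz _ _ _ _⟩, ((tvcDataMat z hz).mem_pCore_iff _).mpr ?_, rfl⟩
    apply Subtype.ext
    show tvcSub (tvcMk _ _ _ _) = _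
    rw [tvcSub_mk]

end Cfsg.Agent.S5424
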