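import Cfsg.Statements.S5425
import Cfsg.Agent.Lib.Helper93.CzIso
import Cfsg.Agent.Lib.Helper93.TvcAssemble

set_option autoImplicit false
open Cfsg

namespace Cfsg.Agent.S5425

/-- In the Mathieu group of degree 24 (the automorphism group of the length-24 binary Golay code, acting on the 24 coordinates), let z be an involution whose fixed points form an octad (the support of a code word of weight 8), and let Q be the largest normal 2-subgroup of the centralizer C of z. Then Q is extraspecial of order 2^7 with an elementary abelian subgroup of order 16 (plus type), Q is a large extraspecial 2-subgroup, and C is the split extension of Q by the special linear group of degree 3 over the field with two elements. -/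
theorem result (z : ↥Cfsg.M24) (hz : orderOf z = 2) (hfix : (Finset.univ.filter fun p : Cfsg.GolayPt => (z : Equiv.Perm Cfsg.GolayPt) p = p) ∈ Cfsg.octads) (Q : Subgroup ↥Cfsg.M24) (hQ : Q = (Cfsg.pCore 2 ↥(Subgroup.centralizer ({z} : Set ↥Cfsg.M24))).map (Subgroup.centralizer ({z} : Set ↥Cfsg.M24)).subtype) : Cfsg.IsExtraspecial 2 ↥Q ∧ Nat.card ↥Q = 2 ^ 7 ∧ (∃ E : Subgroup ↥Cfsg.M24, E ≤ Q ∧ Cfsg.IsElementaryAbelian 2 E ∧ Nat.card ↥E = 2 ^ 4) ∧ Cfsg.IsLargeExtraspecial Q ∧ ∃ K : Subgroup ↥Cfsg.M24, K ≤ Subgroup.centralizer ({z} : Set ↥Cfsg.M24) ∧ Q ⊓ K = ⊥ ∧ Q ⊔ K = Subgroup.centralizer ({z} : Set ↥Cfsg.M24) ∧ Nonempty (↥K ≃* Matrix.SpecialLinearGroup (Fin 3) (ZMod 2)) := by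
  open Cfsg.Agent.Lib.Helper93 Cfsg.Agent.Lib.Helper10 Cfsg.Agent.Lib.Helper35 in
  have hz1 : (z : Equiv.Perm Cfsg.GolayPt) ≠ 1 := by
    intro h
    have : z = 1 := Subtype.ext h
    rw [this, orderOf_one] at hz
    omega
  obtain ⟨h, hhM, hconj⟩ := exists_conj_czP (z : Equiv.Perm Cfsg.GolayPt) z.2 hz1 hfix
  have hP2ne1 : czP2 ≠ 1 := by
    intro h
    have := congrArg (fun g : Equiv.Perm Cfsg.GolayPt => idx (g (pt 5))) h
    simp only [idx_czP2, idx_pt (by norm_num : 5 < 24), Equiv.Perm.one_apply] at this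
    revert this
    decide
  have hF2 : (Finset.univ.filter fun p : Cfsg.GolayPt => czP2 p = p) ∈ Cfsg.octads := by
    have : (Finset.univ.filter fun p : Cfsg.GolayPt => czP2 p = p) = fs octA := by
      ext p
      rw [Finset.mem_filter]
      simp only [Finset.mem_univ, true_and]
      constructor
      · intro hp
        by_contra hpO
        exact hP2ne1 (octFix_free fs_octA_mem czP2_mem_octFix hpO hp)
      · intro hp
        exact ((mem_octFix _ _).mp czP2_mem_octFix).2 p hp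
    rw [this]
    exact fs_octA_mem
  obtain ⟨k, hkM, hkconj⟩ := exists_conj_czP czP2 czP2_mem hP2ne1 hF2
  have e1 : (z : Equiv.Perm Cfsg.GolayPt) = h⁻¹ * czP * h := by rw [← hconj]; group
  let g : ↥Cfsg.M24 := ⟨h⁻¹ * k⁻¹ * h, Cfsg.M24.mul_mem (Cfsg.M24.mul_mem (Cfsg.M24.inv_mem hhM)
    (Cfsg.M24.inv_mem hkM)) hhM⟩
  have hgz : ((g * z * g⁻¹ : ↥Cfsg.M24) : Equiv.Perm Cfsg.GolayPt) = h⁻¹ * czP2 * h := by
    show h⁻¹ * k⁻¹ * h * (z : Equiv.Perm Cfsg.GolayPt) * (h⁻¹ * k⁻¹ * h)⁻¹ = _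
    rw [e1, ← hkconj]
    group
  apply tvc_assemble z hz 3 (by norm_num) (czTvcData z h hhM hconj) g ?_ ?_ Q hQ
  · intro hh
    have h2 := congrArg (fun t : ↥Cfsg.M24 => (t : Equiv.Perm Cfsg.GolayPt)) hh
    simp only [hgz, e1] at h2
    exact czP2_ne (mul_left_cancel (mul_right_cancel h2))
  · have hcomm : czP * czP2 = czP2 * czP := (mem_czG.mp czP2_mem_czG).2
    have hmemC : g * z * g⁻¹ ∈ Subgroup.centralizer ({z} : Set ↥Cfsg.M24) := by
      rw [Subgroup.mem_centralizer_iff]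
      intro x hx
      rw [Set.mem_singleton_iff] at hx
      subst hx
      apply Subtype.ext
      show (x : Equiv.Perm Cfsg.GolayPt) * ((g * x * g⁻¹ : ↥Cfsg.M24) : Equiv.Perm Cfsg.GolayPt) =
        ((g * x * g⁻¹ : ↥Cfsg.M24) : Equiv.Perm Cfsg.GolayPt) * (x : Equiv.Perm Cfsg.GolayPt)
      rw [hgz, e1]
      calc h⁻¹ * czP * h * (h⁻¹ * czP2 * h) = h⁻¹ * (czP * czP2) * h := by group
        _ = h⁻¹ * (czP2 * czP) * h := by rw [hcomm]
        _ = h⁻¹ * czP2 * h * (h⁻¹ * czP * h) := by group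
    refine ⟨⟨g * z * g⁻¹, hmemC⟩, ((czTvcData z h hhM hconj).mem_pCore_iff _).mpr ?_, rfl⟩
    apply Subtype.ext
    rw [czTvcData_blk]
    show tvcSub (n := 3) (czMat (h * ((g * z * g⁻¹ : ↥Cfsg.M24) : Equiv.Perm Cfsg.GolayPt) * h⁻¹)) = 1
    rw [hgz]
    have e2 : h * (h⁻¹ * czP2 * h) * h⁻¹ = czP2 := by group
    rw [e2, czMat_czP2]
    ext i j
    fin_cases i <;> fin_cases j <;>
      simp [tvcSub, Matrix.transvection, Matrix.one_apply, Matrix.single_apply]

end Cfsg.Agent.S5425
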