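import Cfsg.Statements.S5427
import Cfsg.Agent.Lib.Helper91.ExtraspecialGen
import Cfsg.Agent.S5421
import Cfsg.Agent.S5422
-- import your own Cfsg.Agent.* helpers here

set_option autoImplicit false
open Cfsg

namespace Cfsg.Agent.S5427

/-- Let z be an involution of the finite group G whose centralizer C has generalized Fitting subgroup Q, an extraspecial 2-group of width at least 2 (order 2^(2w+1), w ≥ 2). Let K be a subgroup of G such that the subgroup U generated by the K-conjugates of z is abelian and C is generated by the C-conjugates of U. Suppose that either some K-conjugate of z other than z lies in Q, or some element u of U ∩ Q outside the subgroup generated by z has z in the largest normal 2-subgroup of its centralizer. Then G is simple and Q is a large extraspecial 2-subgroup of G. -/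
theorem result {G : Type*} [Group G] [Finite G] (z : G) (hz : orderOf z = 2) (Q : Subgroup G) (hQC : Q ≤ Subgroup.centralizer ({z} : Set G)) (hF : (Cfsg.generalizedFittingSubgroup ↥(Subgroup.centralizer ({z} : Set G))).map (Subgroup.centralizer ({z} : Set G)).subtype = Q) (hQ : Cfsg.IsExtraspecial 2 ↥Q) (w : ℕ) (hw : 2 ≤ w) (hcard : Nat.card ↥Q = 2 ^ (2 * w + 1)) (K U : Subgroup G) (hU : U = Subgroup.closure {x : G | ∃ k ∈ K, x = k * z * k⁻¹}) (hUab : IsMulCommutative ↥U) (hgen : Subgroup.closure {x : G | ∃ c ∈ Subgroup.centralizer ({z} : Set G), ∃ u ∈ U, x = c * u * c⁻¹} = Subgroup.centralizer ({z} : Set G)) (h3 : (∃ k ∈ K, k * z * k⁻¹ ∈ Q ∧ k * z * k⁻¹ ≠ z) ∨ ∃ u ∈ U ⊓ Q, u ∉ Subgroup.zpowers z ∧ (∃ hz' : z ∈ Subgroup.centralizer ({u} : Set G), (⟨z, hz'⟩ : ↥(Subgroup.centralizer ({u} : Set G))) ∈ Cfsg.pCore 2 ↥(Subgroup.centralizer ({u} : Set G)))) : IsSimpleGroup G ∧ Cfsg.IsLargeExtraspecial Q := by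
  set H := Subgroup.centralizer ({z} : Set G) with hH
  have hz1 : z ≠ 1 := by
    intro h; rw [h, orderOf_one] at hz; omega
  have hzz : z * z = 1 := by
    have := pow_orderOf_eq_one z
    rwa [hz, pow_two] at this
  have hmemH : ∀ x : G, x ∈ H ↔ z * x = x * z := by
    intro x
    rw [hH, Subgroup.mem_centralizer_iff]
    constructor
    · intro h; exact h z rfl
    · intro h y hy
      rw [Set.mem_singleton_iff] at hy
      rw [hy]; exact h
  have hzH : z ∈ H := (hmemH z).mpr rfl
  -- Q is normalized by H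
  have hFn : (Cfsg.generalizedFittingSubgroup ↥H).Normal := Cfsg.Agent.Lib.Helper30.genFitting_normal
  have hmemQ : ∀ x : G, x ∈ Q ↔ ∃ y : H, y ∈ Cfsg.generalizedFittingSubgroup ↥H ∧ (y : G) = x := by
    intro x
    rw [← hF]
    constructor
    · rintro ⟨y, hy, rfl⟩; exact ⟨y, hy, rfl⟩
    · rintro ⟨y, hy, rfl⟩; exact ⟨y, hy, rfl⟩
  have hQn : ∀ h ∈ H, ∀ q ∈ Q, h * q * h⁻¹ ∈ Q := by
    intro h hh q hq
    obtain ⟨y, hy, rfl⟩ := (hmemQ q).mp hq
    rw [hmemQ]
    exact ⟨⟨h, hh⟩ * y * ⟨h, hh⟩⁻¹, hFn.conj_mem y hy ⟨h, hh⟩, rfl⟩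
  have hCQ : ∀ c ∈ H, (∀ q ∈ Q, c * q = q * c) → c ∈ Q := by
    intro c hc hcomm
    rw [hmemQ]
    refine ⟨⟨c, hc⟩, ?_, rfl⟩
    apply Cfsg.Agent.Lib.Helper28.centralizer_genFitting_le
    rw [Subgroup.mem_centralizer_iff]
    intro y hy
    apply Subtype.ext
    exact (hcomm y ((hmemQ y).mpr ⟨y, hy, rfl⟩)).symm
  have hzc : ∀ q ∈ Q, z * q = q * z := fun q hq => (hmemH q).mp (hQC hq)
  have hzQ : z ∈ Q := hCQ z hzH hzc
  -- U consists of products of conjugates of z
  have hUle : U ≤ Subgroup.closure {w : G | IsConj z w} := by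
    rw [hU]
    apply Subgroup.closure_mono
    rintro x ⟨k, _, rfl⟩
    exact isConj_iff.mpr ⟨k, rfl⟩
  have hgenM : ∀ M : Subgroup G, M.Normal → z ∈ M → H ≤ M := by
    intro M hMn hzM
    have hUM : U ≤ M := by
      rw [hU, Subgroup.closure_le]
      rintro x ⟨k, _, rfl⟩
      exact hMn.conj_mem z hzM k
    have h1 : Subgroup.closure {x : G | ∃ c ∈ H, ∃ u ∈ U, x = c * u * c⁻¹} ≤ M := by
      rw [Subgroup.closure_le]
      rintro x ⟨c, _, u, hu, rfl⟩
      exact hMn.conj_mem u (hUM hu) c
    rw [hgen] at h1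
    exact h1
  -- the centre of Q
  have hmemZ : ∀ x : G, x ∈ (Subgroup.center ↥Q).map Q.subtype ↔ x = 1 ∨ x = z := by
    intro x
    constructor
    · rintro ⟨y, hy, rfl⟩
      apply Cfsg.Agent.Lib.Helper91.central_eq_of_extraspecial hQ hz1 hzQ hzc y.2
      intro q hq
      have := Subgroup.mem_center_iff.mp hy ⟨q, hq⟩
      exact (congrArg Subtype.val this).symm
    · rintro (rfl | rfl)
      · exact Subgroup.one_mem _
      · refine ⟨⟨x, hzQ⟩, ?_, rfl⟩
        rw [SetLike.mem_coe, Subgroup.mem_center_iff]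
        intro q
        apply Subtype.ext
        exact (hzc q.1 q.2).symm
  have hL2 : Subgroup.centralizer (Q : Set G) = (Subgroup.center ↥Q).map Q.subtype := by
    ext c
    rw [hmemZ, Subgroup.mem_centralizer_iff]
    constructor
    · intro h
      have hcH : c ∈ H := (hmemH c).mpr (h z hzQ)
      have hcomm : ∀ q ∈ Q, c * q = q * c := fun q hq => (h q hq).symm
      exact Cfsg.Agent.Lib.Helper91.central_eq_of_extraspecial hQ hz1 hzQ hzc (hCQ c hcH hcomm) hcomm
    · rintro (rfl | rfl) q hq
      · simp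
      · exact (hzc q hq).symm
  have hL3 : Subgroup.centralizer (((Subgroup.center ↥Q).map Q.subtype : Subgroup G) : Set G) ≤
      Subgroup.normalizer (Q : Set G) := by
    intro c hc
    rw [Subgroup.mem_centralizer_iff] at hc
    have hcH : c ∈ H := (hmemH c).mpr (hc z ((hmemZ z).mpr (Or.inr rfl)))
    rw [Subgroup.mem_normalizer_iff]
    intro q
    constructor
    · exact hQn c hcH q
    · intro h
      have := hQn c⁻¹ (H.inv_mem hcH) _ h
      have e : c⁻¹ * (c * q * c⁻¹) * c⁻¹⁻¹ = q := by group
      rwa [e] at this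
  rcases h3 with ⟨k, hkK, hkQ, hkne⟩ | ⟨u, hu, hunz, hz', hzO⟩
  · have hk1 : k * z * k⁻¹ ≠ 1 := by
      intro h
      apply hz1
      have : z = k⁻¹ * (k * z * k⁻¹) * k := by group
      rw [this, h]; group
    have hunz : k * z * k⁻¹ ∉ Subgroup.zpowers z := by
      intro h
      rcases Cfsg.Agent.Lib.Helper91.eq_one_or_of_mem_zpowers_sq hzz h with h | h
      · exact hk1 h
      · exact hkne h
    refine ⟨?_, ?_⟩
    · exact Cfsg.Agent.Lib.Helper91.simple_of_extraspecial_generation z hz H hmemH Q hQC hQn hCQ hQ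
        (k * z * k⁻¹) hkQ hunz (Subgroup.subset_closure (isConj_iff.mpr ⟨k, rfl⟩)) hgenM
    · refine (Cfsg.Agent.S5422.result Q hQ hL2 hL3 w hw hcard k ?_ ?_).2.2
      · intro hk
        rw [Subgroup.mem_normalizer_iff] at hk
        have := (hk z).mp ((hmemZ z).mpr (Or.inr rfl))
        rcases (hmemZ _).mp this with h | h
        · exact hk1 h
        · exact hkne h
      · rintro x ⟨y, hy, rfl⟩
        rcases (hmemZ y).mp hy with rfl | rfl
        · simp
        · simpa [MulAut.conj_apply] using hkQ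
  · have huU : u ∈ U := hu.1
    have huQ : u ∈ Q := hu.2
    refine ⟨?_, ?_⟩
    · exact Cfsg.Agent.Lib.Helper91.simple_of_extraspecial_generation z hz H hmemH Q hQC hQn hCQ hQ
        u huQ hunz (hUle huU) hgenM
    · have hu1 : u ≠ 1 := fun h => hunz (h ▸ Subgroup.one_mem _)
      -- u is an involution
      have hsq : ∀ x ∈ U, x * x = 1 := by
        have key : ∀ x ∈ Subgroup.closure {x : G | ∃ k ∈ K, x = k * z * k⁻¹},
            x ∈ U ∧ x * x = 1 := by
          intro x hx'
          induction hx' using Subgroup.closure_induction with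
          | mem y hy =>
            obtain ⟨k, _, rfl⟩ := hy
            refine ⟨?_, ?_⟩
            · rw [hU]; exact Subgroup.subset_closure ⟨k, ‹_›, rfl⟩
            · have : k * z * k⁻¹ * (k * z * k⁻¹) = k * (z * z) * k⁻¹ := by group
              rw [this, hzz]; group
          | one => exact ⟨U.one_mem, one_mul 1⟩
          | mul a b _ _ iha ihb =>
            refine ⟨U.mul_mem iha.1 ihb.1, ?_⟩
            have hab : a * b = b * a := by
              have := hUab.is_comm.comm ⟨a, iha.1⟩ ⟨b, ihb.1⟩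
              exact congrArg Subtype.val this
            calc a * b * (a * b) = a * (b * a) * b := by group
              _ = a * (a * b) * b := by rw [hab]
              _ = (a * a) * (b * b) := by group
              _ = 1 := by rw [iha.2, ihb.2, one_mul]
          | inv a _ iha =>
            refine ⟨U.inv_mem iha.1, ?_⟩
            have : a⁻¹ * a⁻¹ = (a * a)⁻¹ := by group
            rw [this, iha.2, inv_one]
        intro x hx
        rw [hU] at hx
        exact (key x hx).2
      have hord : orderOf u = 2 := by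
        apply orderOf_eq_prime
        · rw [pow_two]; exact hsq u huU
        · exact hu1
      refine Cfsg.Agent.S5421.result Q hQ hL2 hL3 u huQ ?_ hord ?_
      · intro h
        rcases (hmemZ u).mp h with h | h
        · exact hu1 h
        · exact hunz (h ▸ Subgroup.mem_zpowers z)
      · intro x hx
        rcases (hmemZ x).mp hx with rfl | rfl
        · exact Subgroup.one_mem _
        · exact ⟨⟨x, hz'⟩, hzO, rfl⟩

end Cfsg.Agent.S5427
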