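import Cfsg.Statements.S5430
import Cfsg.Agent.Lib.Helper38.QQX
import Cfsg.Agent.Lib.Helper92.Basic

set_option autoImplicit false
open Cfsg

namespace Cfsg.Agent.S5430

/-- Let Q be a large extraspecial 2-subgroup of the finite group G (extraspecial; centralizer equal to its centre; normal in the centralizer of its centre; normalizing no non-trivial subgroup of odd order) with centre generated by z, an involution, of width w ≥ 2 (order 2^(2w+1)); let g be an element outside the centralizer H of z with g z g⁻¹ in Q; write V for the subgroup generated by z and g z g⁻¹, X for the subgroup generated by Q and g Q g⁻¹, R for the subgroup generated by the centralizer of z in g Q g⁻¹ and the centralizer of g z g⁻¹ in Q, and E for the intersection of Q and g Q g⁻¹. Then R is the centralizer of V in X and is the largest normal 2-subgroup of X, and X/R is isomorphic to the symmetric group of degree 3; moreover the normalizer of V is the product of X and the centralizer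 of V in H, X is normal in it, and modulo R it is the direct product of X/R and of the centralizer of V in H modulo R. -/
theorem result {G : Type*} [Group G] [Finite G] (Q : Subgroup G) (hQ : Cfsg.IsLargeExtraspecial Q) (z : G) (hz : ((Subgroup.center ↥Q).map Q.subtype) = Subgroup.zpowers z) (hz2 : orderOf z = 2) (w : ℕ) (hw : 2 ≤ w) (hcard : Nat.card ↥Q = 2 ^ (2 * w + 1)) (g : G) (hgH : g ∉ Subgroup.centralizer ({z} : Set G)) (hgQ : g * z * g⁻¹ ∈ Q) (V X R E : Subgroup G) (hV : V = Subgroup.closure ({z, g * z * g⁻¹} : Set G)) (hX : X = Q ⊔ (Q).map (MulAut.conj g).toMonoidHom) (hR : R = ((Q).map (MulAut.conj g).toMonoidHom ⊓ Subgroup.centralizer ({z} : Set G)) ⊔ (Q ⊓ Subgroup.centralizer ({g * z * g⁻¹} : Set G))) (hE : E = Q ⊓ (Q).map (MulAut.conj g).toMonoidHom) : R = X ⊓ Subgroup.centralizer (V : Set G) ∧ R = (Cfsg.pCore 2 ↥X).map X.subtype ∧ (∃ h : (R.subgroupOf X).Normal, Nonempty (↥X ⧸ R.subgroupOf X ≃* Equiv.Perm (Fin 3))) ∧ Subgroup.normalizer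 (V : Set G) = X ⊔ (Subgroup.centralizer ({z} : Set G) ⊓ Subgroup.centralizer (V : Set G)) ∧ (∀ y ∈ Subgroup.normalizer (V : Set G), ∀ x ∈ X, y * x * y⁻¹ ∈ X) ∧ R ≤ Subgroup.centralizer ({z} : Set G) ⊓ Subgroup.centralizer (V : Set G) ∧ (∀ x ∈ X, ∀ c ∈ Subgroup.centralizer ({z} : Set G) ⊓ Subgroup.centralizer (V : Set G), x * c * x⁻¹ * c⁻¹ ∈ R) ∧ X ⊓ (Subgroup.centralizer ({z} : Set G) ⊓ Subgroup.centralizer (V : Set G)) = R := by
  classical
  obtain ⟨hL1, hL2, hL3, _⟩ := hQ
  have hzZ : z ∈ (Subgroup.center ↥Q).map Q.subtype := by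
    rw [hz]; exact Subgroup.mem_zpowers z
  obtain ⟨hzQ, hzc⟩ := (Cfsg.Agent.Lib.Helper92.mem_map_subtype_center_iff Q z).1 hzZ
  have hz1 : z ≠ 1 := by
    intro h0
    rw [h0, orderOf_one] at hz2
    omega
  have hEL : Cfsg.Agent.Lib.Helper38.ExtraLike Q z :=
    Cfsg.Agent.Lib.Helper38.ExtraLike.of_isExtraspecial Q z hL1 hzQ hzc hz1
  have hCQ : Subgroup.centralizer (Q : Set G) ≤ Q := by
    rw [hL2]; exact Subgroup.map_subtype_le _
  have hN : Subgroup.centralizer ({z} : Set G) ≤ Subgroup.normalizer (Q : Set G) := by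
    intro x hx
    apply hL3
    rw [hz, Subgroup.mem_centralizer_iff]
    intro y hy
    obtain ⟨k, rfl⟩ := Subgroup.mem_zpowers_iff.mp hy
    have hxz : x * z = z * x := Subgroup.mem_centralizer_singleton_iff.mp hx
    exact (Commute.zpow_left (show Commute z x from hxz.symm) k).eq
  have hbz : g * z * g⁻¹ ≠ z := by
    intro h0
    apply hgH
    rw [Subgroup.mem_centralizer_singleton_iff]
    calc g * z = (g * z * g⁻¹) * g := by group
      _ = z * g := by rw [h0]
  have h : Cfsg.Agent.Lib.Helper38.QQSetup Q z (g * z * g⁻¹) g := ⟨hEL, rfl, hgQ, hbz, hCQ, hN⟩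
  subst hV hX hR hE
  rw [h.closure_eq_V]
  have hf2 : Fact (Nat.Prime 2) := ⟨Nat.prime_two⟩
  have hRX := Cfsg.Agent.Lib.Helper38.QQSetup.R_le_X (Q := Q) (z := z) (b := g * z * g⁻¹) (g := g)
  have hA := h.X_inf_centralizer_V
  obtain ⟨ψ, hψs, hψk⟩ := h.exists_hom
  have hn : ((((Q).map (MulAut.conj g).toMonoidHom ⊓ Subgroup.centralizer ({z} : Set G)) ⊔
      (Q ⊓ Subgroup.centralizer ({g * z * g⁻¹} : Set G))).subgroupOf
      (Q ⊔ (Q).map (MulAut.conj g).toMonoidHom)).Normal :=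
    (Subgroup.normal_subgroupOf_iff_le_normalizer hRX).mpr h.X_le_normalizer_R
  have hcent : ∀ c, c ∈ Subgroup.centralizer ({z} : Set G) ⊓
      Subgroup.centralizer ((h.V : Subgroup G) : Set G) →
      c * z = z * c ∧ c * (g * z * g⁻¹) = (g * z * g⁻¹) * c := by
    intro c hc
    refine ⟨Subgroup.mem_centralizer_singleton_iff.mp hc.1, ?_⟩
    have := Subgroup.mem_centralizer_iff.mp hc.2 _ h.b_mem_V
    exact this.symm
  refine ⟨hA.symm, ?_, ⟨hn, ⟨?_⟩⟩, ?_, ?_, ?_, ?_, ?_⟩
  · apply le_antisymm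
    · exact Cfsg.Agent.Lib.Helper55.le_pCoreOf hRX h.X_le_normalizer_R h.isPGroup_R
    · rintro _ ⟨p, hp, rfl⟩
      have hPn : (Cfsg.pCore 2 ↥(Q ⊔ (Q).map (MulAut.conj g).toMonoidHom)).Normal :=
        Cfsg.Agent.Lib.Helper55.pCore_normal
      have hmap := Cfsg.Agent.Lib.Helper38.perm3_normal_two_group
        ((Cfsg.pCore 2 ↥(Q ⊔ (Q).map (MulAut.conj g).toMonoidHom)).map ψ) (hPn.map ψ hψs)
        (Cfsg.Agent.Lib.Helper55.isPGroup_pCore.map ψ)
      have h1 : ψ p ∈ (Cfsg.pCore 2 ↥(Q ⊔ (Q).map (MulAut.conj g).toMonoidHom)).map ψ :=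
        Subgroup.mem_map_of_mem ψ hp
      rw [hmap, Subgroup.mem_bot] at h1
      have h2 : p ∈ ψ.ker := h1
      rw [hψk, Subgroup.mem_subgroupOf] at h2
      exact h2
  · exact (QuotientGroup.quotientMulEquivOfEq hψk.symm).trans
      (QuotientGroup.quotientKerEquivOfSurjective ψ hψs)
  · apply le_antisymm
    · intro y hy
      obtain ⟨x, hx, c, hcz, hcb, rfl⟩ := h.exists_factor hy
      exact Subgroup.mul_mem_sup hx
        ⟨Subgroup.mem_centralizer_singleton_iff.mpr hcz, h.mem_centralizer_V_of hcz hcb⟩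
    · apply sup_le
      · intro x hx
        exact Cfsg.Agent.Lib.Helper38.mem_normalizer_of_conj_mem _ _ (h.conj_V_of_mem_X hx)
      · exact inf_le_right.trans (Subgroup.centralizer_le_normalizer _)
  · intro y hy x hx
    obtain ⟨x₀, hx₀, c, hcz, hcb, rfl⟩ := h.exists_factor hy
    have h1 := h.conj_X_of_centralizes hcz hcb x hx
    have e : x₀ * c * x * (x₀ * c)⁻¹ = x₀ * (c * x * c⁻¹) * x₀⁻¹ := by group
    rw [e]
    exact Subgroup.mul_mem _ (Subgroup.mul_mem _ hx₀ h1) (Subgroup.inv_mem _ hx₀)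
  · exact le_inf (fun r hr => Subgroup.mem_centralizer_singleton_iff.mpr (h.R_comm_z hr))
      h.R_le_centralizer_V
  · intro x hx c hc
    obtain ⟨hcz, hcb⟩ := hcent c hc
    refine hA.le ⟨?_, ?_⟩
    · have e : x * c * x⁻¹ * c⁻¹ = x * (c * x⁻¹ * c⁻¹) := by group
      rw [e]
      exact Subgroup.mul_mem _ hx (h.conj_X_of_centralizes hcz hcb _ (Subgroup.inv_mem _ hx))
    · show x * c * x⁻¹ * c⁻¹ ∈ Subgroup.centralizer ((h.V : Subgroup G) : Set G)
      rw [Subgroup.mem_centralizer_iff]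
      intro v hv
      have hv' : x⁻¹ * v * x ∈ h.V := by
        have := h.conj_V_of_mem_X (Subgroup.inv_mem _ hx) v hv
        rwa [inv_inv] at this
      have hc2 := Subgroup.mem_centralizer_iff.mp hc.2
      have e1 : (x⁻¹ * v * x) * c = c * (x⁻¹ * v * x) := hc2 _ hv'
      have e2 : v * c = c * v := hc2 _ hv
      have e3 : v * c⁻¹ = c⁻¹ * v := by
        calc v * c⁻¹ = c⁻¹ * (c * v) * c⁻¹ := by group
          _ = c⁻¹ * (v * c) * c⁻¹ := by rw [e2]
          _ = c⁻¹ * v := by group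
      calc v * (x * c * x⁻¹ * c⁻¹) = x * ((x⁻¹ * v * x) * c) * x⁻¹ * c⁻¹ := by group
        _ = x * (c * (x⁻¹ * v * x)) * x⁻¹ * c⁻¹ := by rw [e1]
        _ = x * c * x⁻¹ * (v * c⁻¹) := by group
        _ = x * c * x⁻¹ * (c⁻¹ * v) := by rw [e3]
        _ = (x * c * x⁻¹ * c⁻¹) * v := by group
  · apply le_antisymm
    · rintro x ⟨hxX, hxC⟩
      exact hA.le ⟨hxX, hxC.2⟩
    · intro r hr
      exact ⟨hRX hr, Subgroup.mem_centralizer_singleton_iff.mpr (h.R_comm_z hr),
        h.R_le_centralizer_V hr⟩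

end Cfsg.Agent.S5430
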