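import Cfsg.Statements.S5431
import Cfsg.Agent.Lib.Helper38.QQ
import Cfsg.Agent.Lib.Helper92.Basic

set_option autoImplicit false
open Cfsg

namespace Cfsg.Agent.S5431

/-- Let Q be a large extraspecial 2-subgroup of the finite group G (extraspecial; centralizer equal to its centre; normal in the centralizer of its centre; normalizing no non-trivial subgroup of odd order) with centre generated by z, an involution, of width w ≥ 2 (order 2^(2w+1)); let g be an element outside the centralizer H of z with g z g⁻¹ in Q; write V for the subgroup generated by z and g z g⁻¹, X for the subgroup generated by Q and g Q g⁻¹, R for the subgroup generated by the centralizer of z in g Q g⁻¹ and the centralizer of g z g⁻¹ in Q, and E for the intersection of Q and g Q g⁻¹. Then V is the centre of R, E lies in the second centre of R, R is nilpotent of class at most 3, E and R/E are elementary abelian, R/E is the direct product of the images of the centralizer of g z g⁻¹ in Q and of the centralizer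 of z in g Q g⁻¹ (R is their product and they meet in E), and the commutator subgroup of X and E lies in V. -/
theorem result {G : Type*} [Group G] [Finite G] (Q : Subgroup G) (hQ : Cfsg.IsLargeExtraspecial Q) (z : G) (hz : ((Subgroup.center ↥Q).map Q.subtype) = Subgroup.zpowers z) (hz2 : orderOf z = 2) (w : ℕ) (hw : 2 ≤ w) (hcard : Nat.card ↥Q = 2 ^ (2 * w + 1)) (g : G) (hgH : g ∉ Subgroup.centralizer ({z} : Set G)) (hgQ : g * z * g⁻¹ ∈ Q) (V X R E : Subgroup G) (hV : V = Subgroup.closure ({z, g * z * g⁻¹} : Set G)) (hX : X = Q ⊔ (Q).map (MulAut.conj g).toMonoidHom) (hR : R = ((Q).map (MulAut.conj g).toMonoidHom ⊓ Subgroup.centralizer ({z} : Set G)) ⊔ (Q ⊓ Subgroup.centralizer ({g * z * g⁻¹} : Set G))) (hE : E = Q ⊓ (Q).map (MulAut.conj g).toMonoidHom) : (Subgroup.center ↥R).map R.subtype = V ∧ E ≤ (Subgroup.upperCentralSeries ↥R 2).map R.subtype ∧ Subgroup.upperCentralSeries ↥R 3 = ⊤ ∧ Cfsg.IsElementaryAbelian 2 E ∧ (∀ x ∈ R, ∀ y ∈ R, x * y * x⁻¹ * y⁻¹ ∈ E ∧ x ^ 2 ∈ E) ∧ ((Q).map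 (MulAut.conj g).toMonoidHom ⊓ Subgroup.centralizer ({z} : Set G)) ⊓ (Q ⊓ Subgroup.centralizer ({g * z * g⁻¹} : Set G)) = E ∧ ⁅X, E⁆ ≤ V := by
  classical
  obtain ⟨hL1, hL2, hL3, _⟩ := hQ
  have hzZ : z ∈ (Subgroup.center ↥Q).map Q.subtype := by
    rw [hz]; exact Subgroup.mem_zpowers z
  obtain ⟨hzQ, hzc⟩ := (Cfsg.Agent.Lib.Helper92.mem_map_subtype_center_iff Q z).1 hzZ
  have hz1 : z ≠ 1 := by
    intro h0
    rw [h0, orderOf_one] at hz2
    omega
  have hEL : Cfsg.Agent.Lib.Helper38.ExtraLike Q z :=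
    Cfsg.Agent.Lib.Helper38.ExtraLike.of_isExtraspecial Q z hL1 hzQ hzc hz1
  have hCQ : Subgroup.centralizer (Q : Set G) ≤ Q := by
    rw [hL2]; exact Subgroup.map_subtype_le _
  have hN : Subgroup.centralizer ({z} : Set G) ≤ Subgroup.normalizer (Q : Set G) := by
    intro x hx
    apply hL3
    rw [hz, Subgroup.mem_centralizer_iff]
    intro y hy
    obtain ⟨k, rfl⟩ := Subgroup.mem_zpowers_iff.mp hy
    have hxz : x * z = z * x := Subgroup.mem_centralizer_singleton_iff.mp hx
    exact (Commute.zpow_left (show Commute z x from hxz.symm) k).eq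
  have hbz : g * z * g⁻¹ ≠ z := by
    intro h0
    apply hgH
    rw [Subgroup.mem_centralizer_singleton_iff]
    calc g * z = (g * z * g⁻¹) * g := by group
      _ = z * g := by rw [h0]
  have h : Cfsg.Agent.Lib.Helper38.QQSetup Q z (g * z * g⁻¹) g := ⟨hEL, rfl, hgQ, hbz, hCQ, hN⟩
  subst hV hX hR hE
  -- part 2 helper
  have hE2 : ∀ e : ↥(((Q).map (MulAut.conj g).toMonoidHom ⊓ Subgroup.centralizer ({z} : Set G)) ⊔
      (Q ⊓ Subgroup.centralizer ({g * z * g⁻¹} : Set G))),
      (e : G) ∈ Q ⊓ (Q).map (MulAut.conj g).toMonoidHom →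
      e ∈ Subgroup.upperCentralSeries _ 2 := by
    intro e he
    rw [show (2 : ℕ) = 1 + 1 from rfl, Subgroup.mem_upperCentralSeries_succ_iff,
      Subgroup.upperCentralSeries_one]
    intro y
    rw [commutatorElement_def, Subgroup.mem_center_iff]
    intro x
    apply Subtype.ext
    have hv := h.comm_E_R_mem_V he y.2
    exact h.V_central hv x.2
  refine ⟨?_, ?_, ?_, ?_, ?_, ?_, ?_⟩
  · rw [h.closure_eq_V]
    ext y
    constructor
    · rintro ⟨⟨y', hy'R⟩, hcen, rfl⟩
      refine h.mem_four_of_centralizes_R₁ (h.R_comm_z hy'R) (fun r hr => ?_)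
      have := Subgroup.mem_center_iff.mp hcen ⟨r, Subgroup.mem_sup_right hr⟩
      exact congrArg Subtype.val this
    · intro hy
      exact ⟨⟨y, h.E_le_R (h.V_le_E hy)⟩,
        Subgroup.mem_center_iff.mpr (fun x => Subtype.ext (h.V_central hy x.2)), rfl⟩
  · intro e he
    exact ⟨⟨e, h.E_le_R he⟩, hE2 _ he, rfl⟩
  · rw [eq_top_iff]
    intro x _
    rw [show (3 : ℕ) = 2 + 1 from rfl, Subgroup.mem_upperCentralSeries_succ_iff]
    intro y
    apply hE2
    rw [commutatorElement_def]
    exact h.comm_mem_E x.2 y.2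
  · refine ⟨⟨⟨fun a c => Subtype.ext (h.E_comm a.2 c.2)⟩⟩, fun a ha => ?_⟩
    rw [sq]; exact h.E_sq ha
  · intro x hx y hy
    refine ⟨h.comm_mem_E hx hy, ?_⟩
    rw [sq]; exact h.sq_mem_E hx
  · apply le_antisymm
    · intro x hx; exact ⟨hx.2.1, hx.1.1⟩
    · intro x hx; exact ⟨h.E_le_R₂ hx, h.E_le_R₁ hx⟩
  · rw [h.closure_eq_V, Subgroup.commutator_le]
    intro x hx e he
    rw [commutatorElement_def]
    exact h.comm_X_E_mem_V hx he

end Cfsg.Agent.S5431
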