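import Cfsg.Statements.S5433
import Cfsg.Agent.Lib.Helper92.Basic

set_option autoImplicit false
open Cfsg

namespace Cfsg.Agent.S5433

open Cfsg.Agent.Lib.Helper92

/-- Let Q be a large extraspecial 2-subgroup of the finite group G (extraspecial; centralizer equal to its centre; normal in the centralizer of its centre; normalizing no non-trivial subgroup of odd order), and L a normal subgroup of G containing Q. Then G is the product of L and the normalizer of Q. -/
theorem result {G : Type*} [Group G] [Finite G] (Q : Subgroup G) (hQ : Cfsg.IsLargeExtraspecial Q) (L : Subgroup G) [L.Normal] (hQL : Q ≤ L) : L ⊔ Subgroup.normalizer (Q : Set G) = ⊤ := by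
  obtain ⟨⟨⟨hp, -, -⟩, hcard⟩, hcent, hnorm, -⟩ := hQ
  haveI : Fact (Nat.Prime 2) := ⟨Nat.prime_two⟩
  have hQL2 : IsPGroup 2 (Q.subgroupOf L) := hp.comap_of_injective L.subtype L.subtype_injective
  obtain ⟨P, hP⟩ := hQL2.exists_le_sylow
  have hfr := Sylow.normalizer_sup_eq_top P
  set T : Subgroup G := (P : Subgroup L).map L.subtype with hT
  have hQT : Q ≤ T := fun q hq => ⟨⟨q, hQL hq⟩, hP (by exact hq), rfl⟩
  have hT2 : IsPGroup 2 T := P.2.map _
  have hZcard : Nat.card ((Subgroup.center Q).map Q.subtype) = 2 := by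
    rw [card_map_subtype_center]; exact hcard
  -- a nontrivial element of Q
  obtain ⟨z0, hz0, hz01⟩ : ∃ z0 ∈ (Subgroup.center Q).map Q.subtype, z0 ≠ 1 := by
    by_contra hcon
    push Not at hcon
    have : (Subgroup.center Q).map Q.subtype = ⊥ := by
      rw [eq_bot_iff]; intro x hx; exact (Subgroup.mem_bot).2 (hcon x hx)
    rw [this] at hZcard
    simp at hZcard
  have hz0Q : z0 ∈ Q := ((mem_map_subtype_center_iff Q z0).1 hz0).1
  haveI : Nontrivial T := ⟨⟨⟨z0, hQT hz0Q⟩, 1, fun h => hz01 (congrArg Subtype.val h)⟩⟩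
  haveI := hT2.center_nontrivial
  obtain ⟨c, hc⟩ := exists_ne (1 : Subgroup.center T)
  have hcT : ((c : T) : G) ∈ T := (c : T).2
  have hc1 : ((c : T) : G) ≠ 1 := by
    intro h
    apply hc
    apply Subtype.ext
    apply Subtype.ext
    exact h
  have hccomm : ∀ t ∈ T, t * ((c : T) : G) = ((c : T) : G) * t := by
    intro t ht
    have := Subgroup.mem_center_iff.1 c.2 ⟨t, ht⟩
    exact congrArg Subtype.val this
  have hcZ : ((c : T) : G) ∈ (Subgroup.center Q).map Q.subtype := by
    rw [← hcent, Subgroup.mem_centralizer_iff]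
    intro q hq
    exact hccomm q (hQT hq)
  have key : Subgroup.normalizer (T : Set G) ≤ Subgroup.normalizer (Q : Set G) := by
    intro n hn
    apply hnorm
    rw [Subgroup.mem_centralizer_iff]
    intro x hx
    have hncn : n * ((c : T) : G) * n⁻¹ ∈ (Subgroup.center Q).map Q.subtype := by
      rw [← hcent, Subgroup.mem_centralizer_iff]
      intro q hq
      have hq' : n⁻¹ * q * n ∈ T := by
        have := (Subgroup.mem_set_normalizer_iff''.1 hn q).1 (hQT hq)
        exact this
      have h1 := hccomm _ hq'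
      calc q * (n * ((c : T) : G) * n⁻¹) = n * ((n⁻¹ * q * n) * ((c : T) : G)) * n⁻¹ := by group
        _ = n * (((c : T) : G) * (n⁻¹ * q * n)) * n⁻¹ := by rw [h1]
        _ = n * ((c : T) : G) * n⁻¹ * q := by group
    have hncn1 : n * ((c : T) : G) * n⁻¹ ≠ 1 := by
      intro h
      apply hc1
      have : ((c : T) : G) = n⁻¹ * (n * ((c : T) : G) * n⁻¹) * n := by group
      rw [this, h]; group
    rcases eq_one_or_eq_of_card_two hZcard hcZ hc1 hx with h | h
    · rw [h]; simp
    · rcases eq_one_or_eq_of_card_two hZcard hcZ hc1 hncn with h' | h'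
      · exact absurd h' hncn1
      · rw [h]
        calc ((c : T) : G) * n = (n * ((c : T) : G) * n⁻¹) * n := by rw [h']
          _ = n * ((c : T) : G) := by group
  rw [eq_top_iff, ← hfr, sup_comm]
  exact sup_le_sup_left key L

end Cfsg.Agent.S5433
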