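import Mathlib
import Cfsg.Statements.S5435
import Cfsg.Agent.Lib.Helper48.D8Char.Concrete
import Cfsg.Agent.Lib.Helper97.DihRecog
-- import your own Cfsg.Agent.* helpers here

set_option autoImplicit false
open Cfsg

namespace Cfsg.Agent.S5435

open Cfsg.Agent.Lib.Helper48.D8Char in
/-- Let L be a finite non-abelian simple group with an involution z whose centralizer R is a Sylow 2-subgroup of L whose Frattini subgroup is the subgroup generated by z. Then R is dihedral of order 8. -/
theorem result {L : Type*} [Group L] [Finite L] [IsSimpleGroup L] (hL : ¬ IsMulCommutative L) (z : L) (hz : orderOf z = 2) (R : Sylow 2 L) (hR : (R : Subgroup L) = Subgroup.centralizer ({z} : Set L)) (hΦ : (frattini ↥(R : Subgroup L)).map (R : Subgroup L).subtype = Subgroup.zpowers z) : Nonempty (↥(R : Subgroup L) ≃* DihedralGroup 4) := by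
  classical
  have H : Hyp z R := ⟨inferInstance, hL, hz, hR, hΦ⟩
  have C : Ctx z := H.ctx
  have hzz : z * z = 1 := H.z_sq
  have hz1 : z ≠ 1 := H.z_ne_one
  obtain ⟨g, hgR, hgne⟩ := C.zstar z hz1 hzz rfl
  obtain ⟨a, b, P⟩ := C.exists_pair g hgR hgne
  set t := g * z * g⁻¹ with ht
  obtain ⟨x, hxz, hxx⟩ := H.exists_sq
  have hxt : x * t ≠ t * x := by
    intro h
    have := P.D_sq ⟨hxz, h⟩
    exact hz1 (hxx.symm.trans this)
  have hx_t : x * t = t * z * x := by
    rcases P.hz.comm_mem x t hxz P.zt.symm with h | h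
    · exact absurd (comm_form_one h) hxt
    · rw [comm_form h, P.zt]
  have htt : t * t = 1 := P.ht.sq
  have hxR : x ∈ (R : Subgroup L) := (H.memR x).2 hxz
  have htR : t ∈ (R : Subgroup L) := (H.memR t).2 P.zt.symm
  set x' : ↥(R : Subgroup L) := ⟨x, hxR⟩ with hx'
  set t' : ↥(R : Subgroup L) := ⟨t, htR⟩ with ht'
  have hx4 : x * x * (x * x) = 1 := by rw [hxx, hzz]
  have hord : orderOf x' = 4 := by
    have h1 : ¬ x' ^ 2 ^ 1 = 1 := by
      intro h
      have : (x' ^ 2 ^ 1 : ↥(R : Subgroup L)) = ⟨x * x, (R : Subgroup L).mul_mem hxR hxR⟩ := by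
        apply Subtype.ext; simp [hx', pow_two]
      rw [this] at h
      have h2 := congrArg Subtype.val h
      simp only [Subgroup.coe_one] at h2
      exact hz1 (hxx.symm.trans h2)
    have h2 : x' ^ 2 ^ (1 + 1) = 1 := by
      apply Subtype.ext
      have : (2 : ℕ) ^ (1 + 1) = 4 := by norm_num
      rw [this]
      simp only [Subgroup.coe_pow, hx', Subgroup.coe_one]
      calc x ^ 4 = x * x * (x * x) := by rw [show (4 : ℕ) = 2 + 2 from rfl, pow_add, pow_two]
        _ = 1 := hx4
    have := orderOf_eq_prime_pow h1 h2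
    simpa using this
  have hb : t' * t' = 1 := Subtype.ext htt
  have hcb : t' * x' * t'⁻¹ = x'⁻¹ := by
    apply Subtype.ext
    simp only [Subgroup.coe_mul, Subgroup.coe_inv, hx', ht']
    have hti : t⁻¹ = t := inv_eq_of_mul_eq_one_left htt
    have hxi : x⁻¹ = z * x := by
      apply inv_eq_of_mul_eq_one_left
      calc z * x * x = z * (x * x) := by group
        _ = 1 := by rw [hxx, hzz]
    rw [hti, hxi]
    calc t * x * t = t * (x * t) := by group
      _ = t * (t * z * x) := by rw [hx_t]
      _ = (t * t) * z * x := by group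
      _ = z * x := by rw [htt, one_mul]
  have hbn : t' ∉ Subgroup.zpowers x' := by
    intro h
    obtain ⟨k, hk⟩ := Subgroup.mem_zpowers_iff.mp h
    have h1 : x' * t' = t' * x' := by
      rw [← hk]
      exact ((Commute.refl x').zpow_right k).eq
    have h2 := congrArg Subtype.val h1
    simp only [Subgroup.coe_mul, hx', ht'] at h2
    exact hxt h2
  have hinj := Cfsg.Agent.Lib.Helper97.dihHom_injective 4 x' t' hord hb hcb hbn
  -- upper bound for the order of `R`
  have hcard : Nat.card ↥(R : Subgroup L) ≤ 8 := by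
    let F : Finset L := ([1, z, t, t * z, a * 1, a * z, a * t, a * (t * z)] : List L).toFinset
    have hsub : ((R : Subgroup L) : Set L) ⊆ (F : Set L) := by
      intro r hr
      have hrz : r * z = z * r := (H.memR r).1 hr
      have key : ∀ y, InD z t y → y = 1 ∨ y = z ∨ y = t ∨ y = t * z := fun y hy => C.D_small P hy
      rw [Finset.mem_coe, List.mem_toFinset]
      rcases P.split_z hrz with h | h
      · rcases key r ⟨hrz, h⟩ with h1 | h1 | h1 | h1 <;> rw [h1] <;> simp
      · have hD : InD z t (a⁻¹ * r) := by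
          refine ⟨?_, h⟩
          rw [mul_assoc, hrz, ← mul_assoc, P.ainv_z, mul_assoc]
        have hr_eq : r = a * (a⁻¹ * r) := by group
        rcases key _ hD with h1 | h1 | h1 | h1 <;> rw [hr_eq, h1] <;> simp
    calc Nat.card ↥(R : Subgroup L) ≤ Nat.card ↥(F : Set L) :=
          Nat.card_mono (Finset.finite_toSet F) hsub
      _ = F.card := by simp
      _ ≤ 8 := List.toFinset_card_le _
  have hbij : Function.Bijective
      (Cfsg.Agent.Lib.Helper97.dihHom 4 x' t'
        (by rw [← hord]; exact pow_orderOf_eq_one x') hb hcb) := by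
    apply hinj.bijective_of_nat_card_le
    rw [DihedralGroup.nat_card]
    omega
  exact ⟨(MulEquiv.ofBijective _ hbij).symm⟩

end Cfsg.Agent.S5435
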