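import Cfsg.Statements.S5437

set_option autoImplicit false
open Cfsg

namespace Cfsg.Agent.S5437

theorem mem_map_conj_iff {G : Type*} [Group G] (H : Subgroup G) (g x : G) :
    x ∈ H.map (MulAut.conj g).toMonoidHom ↔ g⁻¹ * x * g ∈ H := by
  constructor
  · rintro ⟨y, hy, rfl⟩
    simpa [MulAut.conj_apply, mul_assoc] using hy
  · intro h
    refine ⟨g⁻¹ * x * g, h, ?_⟩
    simp [MulAut.conj_apply, mul_assoc]

theorem smul_coset_eq_iff {G : Type*} [Group G] (H : Subgroup G) (g x : G) :
    x • (g : G ⧸ H) = (g : G ⧸ H) ↔ g⁻¹ * x * g ∈ H := by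
  rw [MulAction.Quotient.smul_mk, QuotientGroup.eq]
  constructor
  · intro h
    have := H.inv_mem h
    simpa [mul_assoc] using this
  · intro h
    have := H.inv_mem h
    simpa [mul_assoc] using this

/-- Let I be a set of involutions of the finite group G closed under conjugation, and H a subgroup of G. The following are equivalent: (1) for every member x of I lying in H, the conjugates of x lying in H form a single H-class and the centralizer of x lies in H; (2) for every g outside H, no member of I lies in both H and g H g⁻¹; (3) every member of I lying in H fixes exactly one coset in the action of G on the cosets of H. -/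
theorem result {G : Type*} [Group G] [Finite G] (I : Set G) (hI : ∀ x ∈ I, orderOf x = 2) (hIc : ∀ g : G, ∀ x ∈ I, g * x * g⁻¹ ∈ I) (H : Subgroup G) : ((∀ x ∈ I, x ∈ H → (∀ g : G, g * x * g⁻¹ ∈ H → ∃ h ∈ H, h * x * h⁻¹ = g * x * g⁻¹) ∧ Subgroup.centralizer ({x} : Set G) ≤ H) ↔ (∀ g : G, g ∉ H → ∀ x ∈ I, ¬ (x ∈ H ∧ x ∈ (H : Subgroup G).map (MulAut.conj g).toMonoidHom))) ∧ ((∀ g : G, g ∉ H → ∀ x ∈ I, ¬ (x ∈ H ∧ x ∈ (H : Subgroup G).map (MulAut.conj g).toMonoidHom)) ↔ ∀ x ∈ I, x ∈ H → ∃! c : G ⧸ H, x • c = c) := by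
  refine ⟨⟨?_, ?_⟩, ⟨?_, ?_⟩⟩
  · -- (1) → (2)
    intro h1 g hg x hxI ⟨hxH, hxg⟩
    rw [mem_map_conj_iff] at hxg
    obtain ⟨hconj, hcent⟩ := h1 x hxI hxH
    obtain ⟨h, hhH, hh⟩ := hconj g⁻¹ (by simpa using hxg)
    -- g * h centralizes x
    have hc : g * h ∈ Subgroup.centralizer ({x} : Set G) := by
      rw [Subgroup.mem_centralizer_singleton_iff]
      have : h * x * h⁻¹ = g⁻¹ * x * g := by simpa using hh
      calc g * h * x = g * (h * x * h⁻¹) * h := by group
        _ = g * (g⁻¹ * x * g) * h := by rw [this]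
        _ = x * (g * h) := by group
    have : g * h ∈ H := hcent hc
    exact hg (by simpa using H.mul_mem this (H.inv_mem hhH))
  · -- (2) → (1)
    intro h2 x hxI hxH
    constructor
    · intro g hgx
      by_cases hg : g ∈ H
      · exact ⟨g, hg, rfl⟩
      · exfalso
        refine h2 g hg (g * x * g⁻¹) (hIc g x hxI) ⟨hgx, ?_⟩
        rw [mem_map_conj_iff]
        simpa [mul_assoc] using hxH
    · intro g hgc
      by_contra hg
      refine h2 g hg x hxI ⟨hxH, ?_⟩
      rw [mem_map_conj_iff]
      rw [Subgroup.mem_centralizer_singleton_iff] at hgc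
      have : g⁻¹ * x * g = x := by
        calc g⁻¹ * x * g = g⁻¹ * (x * g) := by group
          _ = g⁻¹ * (g * x) := by rw [hgc]
          _ = x := by group
      rw [this]; exact hxH
  · -- (2) → (3)
    intro h2 x hxI hxH
    refine ⟨((1 : G) : G ⧸ H), ?_, ?_⟩
    · show x • ((1 : G) : G ⧸ H) = ((1 : G) : G ⧸ H)
      rw [smul_coset_eq_iff]; simpa using hxH
    · intro c hc
      induction c using QuotientGroup.induction_on with
      | H g =>
        have hc' : x • (g : G ⧸ H) = (g : G ⧸ H) := hc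
        rw [smul_coset_eq_iff] at hc'
        by_contra hne
        have hg : g ∉ H := by
          intro hg
          apply hne
          show (g : G ⧸ H) = ((1 : G) : G ⧸ H)
          rw [QuotientGroup.eq]; simpa using H.inv_mem hg
        exact h2 g hg x hxI ⟨hxH, (mem_map_conj_iff H g x).2 hc'⟩
  · -- (3) → (2)
    intro h3 g hg x hxI ⟨hxH, hxg⟩
    rw [mem_map_conj_iff] at hxg
    obtain ⟨c, -, huniq⟩ := h3 x hxI hxH
    have h1 : ((1 : G) : G ⧸ H) = c :=
      huniq _ (by show x • ((1 : G) : G ⧸ H) = _; rw [smul_coset_eq_iff]; simpa using hxH)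
    have h2 : (g : G ⧸ H) = c :=
      huniq _ (by show x • (g : G ⧸ H) = _; rw [smul_coset_eq_iff]; exact hxg)
    have : ((1 : G) : G ⧸ H) = (g : G ⧸ H) := h1.trans h2.symm
    rw [QuotientGroup.eq] at this
    exact hg (by simpa using this)

end Cfsg.Agent.S5437
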