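import Cfsg.Statements.S5438
import Cfsg.Agent.Lib.Helper92.SylowAux

set_option autoImplicit false
open Cfsg

namespace Cfsg.Agent.S5438

open Cfsg.Agent.Lib.Helper92

/-- Let z be a 2-central involution of the finite group G (an involution central in some Sylow 2-subgroup) and H a subgroup containing z such that the coset H is the only coset of H fixed by z (in the action of G on the cosets of H). Then H has odd index in G, and for every 2-element x of H the conjugates of x lying in H form a single H-class. -/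
theorem result {G : Type*} [Group G] [Finite G] (z : G) (hz : Cfsg.IsTwoCentralInvolution z) (H : Subgroup G) (hzH : z ∈ H) (hfix : ∀ g : G, g⁻¹ * z * g ∈ H → g ∈ H) : Odd H.index ∧ ∀ x ∈ H, (∃ k : ℕ, orderOf x = 2 ^ k) → ∀ g : G, g * x * g⁻¹ ∈ H → ∃ h ∈ H, h * x * h⁻¹ = g * x * g⁻¹ := by
  obtain ⟨hz2, P, hzP, hPz⟩ := hz
  have : Fact (Nat.Prime 2) := ⟨Nat.prime_two⟩
  have hPH : (P : Subgroup G) ≤ H := by
    intro g hg
    apply hfix
    have h1 := hPz g hg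
    have h2 : g⁻¹ * z * g = z := by
      calc g⁻¹ * z * g = g⁻¹ * (z * g) := by group
        _ = g⁻¹ * (g * z) := by rw [h1]
        _ = z := by group
    rw [h2]; exact hzH
  constructor
  · have h1 : H.index ∣ (P : Subgroup G).index := Subgroup.index_dvd_of_le hPH
    have h2 : ¬ 2 ∣ (P : Subgroup G).index := P.not_dvd_index
    rw [← Nat.not_even_iff_odd, even_iff_two_dvd]
    exact fun h => h2 (h.trans h1)
  · have lemA : ∀ (R : Subgroup G), IsPGroup 2 R → ∀ h₁ ∈ H, h₁⁻¹ * z * h₁ ∈ R → R ≤ H := by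
      intro R hR h₁ hh₁ hzR
      obtain ⟨g, hg⟩ := exists_conj_le_sylow P hR
      have h1 : g⁻¹ * (h₁⁻¹ * z * h₁) * g ∈ H := hPH (hg _ hzR)
      have h2 : h₁ * g ∈ H := hfix _ (by simpa [mul_assoc] using h1)
      have hgH : g ∈ H := by simpa using H.mul_mem (H.inv_mem hh₁) h2
      intro r hr
      have h3 := hPH (hg r hr)
      have h4 := H.mul_mem (H.mul_mem hgH h3) (H.inv_mem hgH)
      simpa [mul_assoc] using h4
    have step4 : ∀ x ∈ H, (∃ k : ℕ, orderOf x = 2 ^ k) →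
        ∃ h₁ ∈ H, (h₁⁻¹ * z * h₁) * x = x * (h₁⁻¹ * z * h₁) := by
      intro x hxH ⟨k, hk⟩
      have hR : IsPGroup 2 (Subgroup.zpowers (⟨x, hxH⟩ : H)) := by
        apply IsPGroup.of_card (n := k)
        rw [Nat.card_zpowers, Subgroup.orderOf_mk, hk]
      obtain ⟨h, hh⟩ := exists_conj_le_sylow (P.subtype hPH) hR
      have h1 := hh ⟨x, hxH⟩ (Subgroup.mem_zpowers _)
      have hp : (h : G)⁻¹ * x * h ∈ P := by
        have h2 : h⁻¹ * ⟨x, hxH⟩ * h ∈ ((P.subtype hPH : Sylow 2 H) : Subgroup H) := h1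
        rw [Sylow.coe_subtype, Subgroup.mem_subgroupOf] at h2
        have h3 : (h : G)⁻¹ * x * h ∈ (P : Subgroup G) := by simpa using h2
        exact h3
      have hcomm := hPz _ hp
      refine ⟨(h : G)⁻¹, H.inv_mem h.2, ?_⟩
      rw [inv_inv]
      calc (h : G) * z * (h : G)⁻¹ * x = h * (z * ((h : G)⁻¹ * x * h)) * (h : G)⁻¹ := by group
        _ = h * (((h : G)⁻¹ * x * h) * z) * (h : G)⁻¹ := by rw [hcomm]
        _ = x * ((h : G) * z * (h : G)⁻¹) := by group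
    intro x hxH hx2 g hgx
    obtain ⟨k, hk⟩ := hx2
    obtain ⟨h₁, hh₁, hc₁⟩ := step4 x hxH ⟨k, hk⟩
    have hy2 : ∃ k, orderOf (g * x * g⁻¹) = 2 ^ k := by
      refine ⟨k, ?_⟩
      rw [← hk]
      exact (MulAut.conj g).orderOf_eq x
    obtain ⟨h₂, hh₂, hc₂⟩ := step4 (g * x * g⁻¹) hgx hy2
    set C := Subgroup.centralizer ({x} : Set G) with hC
    have hz₁C : h₁⁻¹ * z * h₁ ∈ C := by
      rw [hC, Subgroup.mem_centralizer_singleton_iff]; exact hc₁
    have hz₃C : g⁻¹ * (h₂⁻¹ * z * h₂) * g ∈ C := by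
      rw [hC, Subgroup.mem_centralizer_singleton_iff]
      calc g⁻¹ * (h₂⁻¹ * z * h₂) * g * x = g⁻¹ * ((h₂⁻¹ * z * h₂) * (g * x * g⁻¹)) * g := by group
        _ = g⁻¹ * ((g * x * g⁻¹) * (h₂⁻¹ * z * h₂)) * g := by rw [hc₂]
        _ = x * (g⁻¹ * (h₂⁻¹ * z * h₂) * g) := by group
    have ho₁ : orderOf (⟨h₁⁻¹ * z * h₁, hz₁C⟩ : C) = 2 := by
      rw [Subgroup.orderOf_mk, ← hz2]
      have := (MulAut.conj h₁⁻¹).orderOf_eq z
      simpa using this
    have ho₃ : orderOf (⟨g⁻¹ * (h₂⁻¹ * z * h₂) * g, hz₃C⟩ : C) = 2 := by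
      rw [Subgroup.orderOf_mk, ← hz2]
      have := (MulAut.conj (g⁻¹ * h₂⁻¹)).orderOf_eq z
      simpa [mul_assoc] using this
    have hR₁ : IsPGroup 2 (Subgroup.zpowers (⟨h₁⁻¹ * z * h₁, hz₁C⟩ : C)) := by
      apply IsPGroup.of_card (n := 1)
      rw [Nat.card_zpowers, ho₁, pow_one]
    have hR₃ : IsPGroup 2 (Subgroup.zpowers (⟨g⁻¹ * (h₂⁻¹ * z * h₂) * g, hz₃C⟩ : C)) := by
      apply IsPGroup.of_card (n := 1)
      rw [Nat.card_zpowers, ho₃, pow_one]
    obtain ⟨T, hT⟩ := hR₁.exists_le_sylow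
    obtain ⟨c, hc⟩ := exists_conj_le_sylow T hR₃
    have h5 := hc _ (Subgroup.mem_zpowers _)
    have hTH : (T : Subgroup C).map C.subtype ≤ H :=
      lemA _ (T.2.map _) h₁ hh₁ ⟨⟨h₁⁻¹ * z * h₁, hz₁C⟩, hT (Subgroup.mem_zpowers _), rfl⟩
    have h6 : (c : G)⁻¹ * (g⁻¹ * (h₂⁻¹ * z * h₂) * g) * c ∈ H := hTH ⟨_, h5, rfl⟩
    have h7 : h₂ * g * c ∈ H := hfix _ (by simpa [mul_assoc] using h6)
    have hgc : g * c ∈ H := by
      have := H.mul_mem (H.inv_mem hh₂) h7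
      simpa [mul_assoc] using this
    refine ⟨g * c, hgc, ?_⟩
    have hcx : (c : G) * x = x * c := Subgroup.mem_centralizer_singleton_iff.1 c.2
    calc g * (c : G) * x * (g * (c : G))⁻¹ = g * ((c : G) * x) * (c : G)⁻¹ * g⁻¹ := by group
      _ = g * (x * (c : G)) * (c : G)⁻¹ * g⁻¹ := by rw [hcx]
      _ = g * x * g⁻¹ := by group

end Cfsg.Agent.S5438
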