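import Cfsg.Statements.S5439

set_option autoImplicit false
open Cfsg

namespace Cfsg.Agent.S5439

theorem smul_coset_eq_iff {G : Type*} [Group G] (H : Subgroup G) (g x : G) :
    x • (g : G ⧸ H) = (g : G ⧸ H) ↔ g⁻¹ * x * g ∈ H := by
  rw [MulAction.Quotient.smul_mk, QuotientGroup.eq]
  constructor
  · intro h
    have := H.inv_mem h
    simpa [mul_assoc] using this
  · intro h
    have := H.inv_mem h
    simpa [mul_assoc] using this

/-- if `a`, `b` are involutions and `r = a * b`, then `a * r ^ j = (r⁻¹) ^ j * a`. -/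
theorem semiconj_pow_left {G : Type*} [Group G] {a b : G} (ha : a * a = 1) (hb : b * b = 1) (j : ℕ) :
    a * (a * b) ^ j = ((a * b)⁻¹) ^ j * a := by
  have h : SemiconjBy a (a * b) (a * b)⁻¹ := by
    show a * (a * b) = (a * b)⁻¹ * a
    have h1 : a⁻¹ = a := inv_eq_of_mul_eq_one_left ha
    have h2 : b⁻¹ = b := inv_eq_of_mul_eq_one_left hb
    rw [mul_inv_rev, h1, h2, mul_assoc b a a, ha, mul_one, ← mul_assoc, ha, one_mul]
  exact (h.pow_right j)

theorem semiconj_pow_right {G : Type*} [Group G] {a b : G} (ha : a * a = 1) (hb : b * b = 1) (j : ℕ) :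
    b * (a * b) ^ j = ((a * b)⁻¹) ^ j * b := by
  have h : SemiconjBy b (a * b) (a * b)⁻¹ := by
    show b * (a * b) = (a * b)⁻¹ * b
    have h1 : a⁻¹ = a := inv_eq_of_mul_eq_one_left ha
    have h2 : b⁻¹ = b := inv_eq_of_mul_eq_one_left hb
    rw [mul_inv_rev, h1, h2, mul_assoc]
  exact (h.pow_right j)

/-- Two involutions whose product has odd order are conjugate. -/
theorem conj_of_odd {G : Type*} [Group G] {a b : G} (ha : a * a = 1) (hb : b * b = 1) (k : ℕ)
    (hk : (a * b) ^ (2 * k + 1) = 1) : (a * b) ^ k * a * ((a * b) ^ k)⁻¹ = b := by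
  have h1 := semiconj_pow_left ha hb k
  -- a * r^k = r⁻¹^k * a  hence  a * (r^k)⁻¹ = r^k * a
  have h2 : a * ((a * b) ^ k)⁻¹ = (a * b) ^ k * a := by
    have : ((a * b)⁻¹) ^ k = ((a * b) ^ k)⁻¹ := inv_pow _ _
    rw [this] at h1
    calc a * ((a * b) ^ k)⁻¹ = ((a * b) ^ k) * (((a * b) ^ k)⁻¹ * a) * ((a * b) ^ k)⁻¹ := by group
      _ = ((a * b) ^ k) * (a * (a * b) ^ k) * ((a * b) ^ k)⁻¹ := by rw [h1]
      _ = (a * b) ^ k * a := by group
  have h3 : (a * b)⁻¹ * a = b := by
    have h1 : a⁻¹ = a := inv_eq_of_mul_eq_one_left ha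
    have h2 : b⁻¹ = b := inv_eq_of_mul_eq_one_left hb
    rw [mul_inv_rev, h1, h2, mul_assoc, ha, mul_one]
  calc (a * b) ^ k * a * ((a * b) ^ k)⁻¹ = (a * b) ^ k * (a * ((a * b) ^ k)⁻¹) := by group
    _ = (a * b) ^ k * ((a * b) ^ k * a) := by rw [h2]
    _ = (a * b) ^ (2 * k + 1) * ((a * b)⁻¹ * a) := by
      rw [pow_succ, two_mul, pow_add]; group
    _ = b := by rw [hk, one_mul, h3]

/-- Let I and J be two different conjugacy classes of involutions of the finite group G and H a subgroup such that every member of I ∪ J fixes exactly one coset in the action on the cosets of H, and such that for every a in I ∩ H and every b in (I ∪ J) ∩ H different from a and commuting with it, the centralizer of a b lies in H. Then H = G. -/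
theorem result {G : Type*} [Group G] [Finite G] (I J : Set G) (a₀ b₀ : G) (ha₀ : orderOf a₀ = 2) (hb₀ : orderOf b₀ = 2) (hI : I = {x | IsConj a₀ x}) (hJ : J = {x | IsConj b₀ x}) (hIJ : I ≠ J) (H : Subgroup G) (hfix : ∀ x ∈ I ∪ J, ∃! c : G ⧸ H, x • c = c) (hcent : ∀ a ∈ I, a ∈ H → ∀ b ∈ I ∪ J, b ∈ H → a ≠ b → a * b = b * a → Subgroup.centralizer ({a * b} : Set G) ≤ H) : H = ⊤ := by
  -- basic facts about the classes
  have hIconj : ∀ x ∈ I, ∀ g : G, g * x * g⁻¹ ∈ I := by
    intro x hx g
    rw [hI] at hx ⊢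
    exact IsConj.trans hx (isConj_iff.2 ⟨g, rfl⟩)
  have hJconj : ∀ x ∈ J, ∀ g : G, g * x * g⁻¹ ∈ J := by
    intro x hx g
    rw [hJ] at hx ⊢
    exact IsConj.trans hx (isConj_iff.2 ⟨g, rfl⟩)
  have hIord : ∀ x ∈ I, x * x = 1 := by
    intro x hx
    rw [hI] at hx
    obtain ⟨g, hg⟩ := isConj_iff.1 hx
    have h := pow_orderOf_eq_one a₀
    rw [ha₀, pow_two] at h
    rw [← hg]
    calc g * a₀ * g⁻¹ * (g * a₀ * g⁻¹) = g * (a₀ * a₀) * g⁻¹ := by group
      _ = 1 := by rw [h]; group
  have hJord : ∀ x ∈ J, x * x = 1 := by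
    intro x hx
    rw [hJ] at hx
    obtain ⟨g, hg⟩ := isConj_iff.1 hx
    have h := pow_orderOf_eq_one b₀
    rw [hb₀, pow_two] at h
    rw [← hg]
    calc g * b₀ * g⁻¹ * (g * b₀ * g⁻¹) = g * (b₀ * b₀) * g⁻¹ := by group
      _ = 1 := by rw [h]; group
  have hnc : ∀ a ∈ I, ∀ b ∈ J, ¬ IsConj a b := by
    intro a ha b hb hab
    apply hIJ
    rw [hI] at ha
    rw [hJ] at hb
    have h0 : IsConj a₀ b₀ := (ha.trans hab).trans hb.symm
    rw [hI, hJ]
    ext x
    exact ⟨fun hx => h0.symm.trans hx, fun hx => h0.trans hx⟩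
  have ha₀I : a₀ ∈ I := by rw [hI]; exact IsConj.refl a₀
  have hb₀J : b₀ ∈ J := by rw [hJ]; exact IsConj.refl b₀
  -- a member of I in H
  obtain ⟨a, haI, haH⟩ : ∃ a ∈ I, a ∈ H := by
    obtain ⟨c, hc, -⟩ := hfix a₀ (Or.inl ha₀I)
    induction c using QuotientGroup.induction_on with
    | H g =>
      have hc' : a₀ • (g : G ⧸ H) = (g : G ⧸ H) := hc
      rw [smul_coset_eq_iff] at hc'
      refine ⟨g⁻¹ * a₀ * g, ?_, hc'⟩
      have := hIconj a₀ ha₀I g⁻¹
      simpa using this
  have ha2 := hIord a haI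
  -- the unique coset fixed by a is H itself
  have hafix : ∀ g : G, g⁻¹ * a * g ∈ H → g ∈ H := by
    intro g hg
    have h1 : a • ((1 : G) : G ⧸ H) = ((1 : G) : G ⧸ H) := by
      rw [smul_coset_eq_iff]; simpa using haH
    have h2 : a • (g : G ⧸ H) = (g : G ⧸ H) := by
      rw [smul_coset_eq_iff]; exact hg
    have h3 := (hfix a (Or.inl haI)).unique h1 h2
    rw [QuotientGroup.eq] at h3
    simpa using h3
  -- every member of J lies in H
  have hJH : ∀ b ∈ J, b ∈ H := by
    intro b hbJ
    have hb2 := hJord b hbJ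
    set r := a * b with hr
    have hnpos : 0 < orderOf r := orderOf_pos r
    rcases Nat.even_or_odd' (orderOf r) with ⟨m, hm | hm⟩
    · -- even order
      have hmpos : 0 < m := by omega
      have hmlt : m < orderOf r := by omega
      set c := r ^ m with hc
      have hc1 : c ≠ 1 := pow_ne_one_of_lt_orderOf (by omega) hmlt
      have hcc : c * c = 1 := by
        rw [hc, ← pow_add, ← two_mul, ← hm]; exact pow_orderOf_eq_one r
      have hcinv : (r⁻¹) ^ m = c := by
        rw [inv_pow]; exact inv_eq_of_mul_eq_one_left hcc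
      have hac : a * c = c * a := by
        rw [← hcinv]
        have := semiconj_pow_left ha2 hb2 m
        rw [← hr] at this
        rw [← this, hcinv]
      have hbc : b * c = c * b := by
        rw [← hcinv]
        have := semiconj_pow_right ha2 hb2 m
        rw [← hr] at this
        rw [← this, hcinv]
      -- a * c lies in I ∪ J
      have hacIJ : a * c ∈ I ∪ J := by
        rcases Nat.even_or_odd' m with ⟨j, hj | hj⟩
        · left
          have h1 := semiconj_pow_left ha2 hb2 j
          rw [← hr] at h1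
          have : a * c = (r⁻¹) ^ j * a * ((r⁻¹) ^ j)⁻¹ := by
            rw [← h1, hc, hj, two_mul, pow_add]
            rw [inv_pow, inv_inv]; group
          rw [this]
          exact hIconj a haI _
        · right
          have h1 := semiconj_pow_right ha2 hb2 j
          rw [← hr] at h1
          have har : a * r = b := by
            rw [hr, ← mul_assoc, ha2, one_mul]
          have : a * c = (r⁻¹) ^ j * b * ((r⁻¹) ^ j)⁻¹ := by
            rw [← h1, hc, hj, pow_succ', two_mul, pow_add, ← mul_assoc, har]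
            rw [inv_pow, inv_inv]; group
          rw [this]
          exact hJconj b hbJ _
      -- a * c lies in H
      have hacH : a * c ∈ H := by
        apply hafix
        have : (a * c)⁻¹ * a * (a * c) = a := by
          calc (a * c)⁻¹ * a * (a * c) = c⁻¹ * (a⁻¹ * a) * (a * c) := by group
            _ = c⁻¹ * (a * c) := by group
            _ = c⁻¹ * (c * a) := by rw [hac]
            _ = a := by group
        rw [this]; exact haH
      have hne : a ≠ a * c := by
        intro h
        apply hc1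
        calc c = a⁻¹ * (a * c) := by group
          _ = a⁻¹ * a := by rw [← h]
          _ = 1 := by group
      have hcomm : a * (a * c) = (a * c) * a := by
        rw [mul_assoc, ← hac]
      have h1 := hcent a haI haH (a * c) hacIJ hacH hne hcomm
      have h2 : a * (a * c) = c := by rw [← mul_assoc, ha2, one_mul]
      rw [h2] at h1
      apply h1
      rw [Subgroup.mem_centralizer_singleton_iff]
      exact hbc
    · -- odd order: a and b are conjugate, contradiction
      exfalso
      apply hnc a haI b hbJ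
      rw [isConj_iff]
      refine ⟨r ^ m, ?_⟩
      apply conj_of_odd ha2 hb2 m
      rw [← hr, ← hm]; exact pow_orderOf_eq_one r
  -- conclusion
  rw [eq_top_iff]
  intro g _
  have hb₀H : b₀ ∈ H := hJH b₀ hb₀J
  have h1 : b₀ • ((1 : G) : G ⧸ H) = ((1 : G) : G ⧸ H) := by
    rw [smul_coset_eq_iff]; simpa using hb₀H
  have h2 : b₀ • (g : G ⧸ H) = (g : G ⧸ H) := by
    rw [smul_coset_eq_iff]
    have := hJconj b₀ hb₀J g⁻¹
    rw [inv_inv] at this
    exact hJH _ this
  have h3 := (hfix b₀ (Or.inr hb₀J)).unique h1 h2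
  rw [QuotientGroup.eq] at h3
  simpa using h3

end Cfsg.Agent.S5439
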