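import Cfsg.Statements.S5459

set_option autoImplicit false
open Cfsg

namespace Cfsg.Agent.S5459

section aux

open scoped commutatorElement

variable {G : Type*} [Group G]

theorem inv_rule1 (y f : G) (h : y * f * y⁻¹ = f⁻¹) : y * f = f⁻¹ * y := by
  rw [← h]; group

theorem inv_rule2 (y f : G) (h : y * f * y⁻¹ = f⁻¹) : y * f⁻¹ = f * y := by
  calc y * f⁻¹ = (y * f * y⁻¹)⁻¹ * y := by group
    _ = (f⁻¹)⁻¹ * y := by rw [h]
    _ = f * y := by rw [inv_inv]

theorem commute_lift (b y f : G) (hb : b * f * b⁻¹ = f⁻¹) (hy : y * f * y⁻¹ = f⁻¹)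
    (hf : f ^ 4 = b * y * (y * b)⁻¹) : Commute b (f * y * f⁻¹) := by
  have b1 := inv_rule1 b f hb
  have y2 := inv_rule2 y f hy
  have e4 : f ^ 4 = f * f * f * f := by simp [pow_succ]
  have key : b * y = f * f * f * f * (y * b) := by rw [← e4, hf]; group
  show b * (f * y * f⁻¹) = f * y * f⁻¹ * b
  calc b * (f * y * f⁻¹) = (b * f) * (y * f⁻¹) := by group
    _ = (f⁻¹ * b) * (f * y) := by rw [b1, y2]
    _ = f⁻¹ * (b * f) * y := by group
    _ = f⁻¹ * (f⁻¹ * b) * y := by rw [b1]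
    _ = f⁻¹ * f⁻¹ * (b * y) := by group
    _ = f⁻¹ * f⁻¹ * (f * f * f * f * (y * b)) := by rw [key]
    _ = f * (f * y) * b := by simp only [mul_assoc, inv_mul_cancel_left]
    _ = f * (y * f⁻¹) * b := by rw [y2]
    _ = f * y * f⁻¹ * b := by group

theorem conj_eq (y f : G) (hy : y * f * y⁻¹ = f⁻¹) : f * y * f⁻¹ = y * (f ^ 2)⁻¹ := by
  have y2 := inv_rule2 y f hy
  have e2 : f ^ 2 = f * f := by simp [pow_succ]
  calc f * y * f⁻¹ = (y * f⁻¹) * f⁻¹ := by rw [y2]
    _ = y * (f * f)⁻¹ := by group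
    _ = y * (f ^ 2)⁻¹ := by rw [e2]

theorem comm_central_left (f a y : G) (h1 : Commute f a) (h2 : Commute f y) :
    ⁅f * a, y⁆ = ⁅a, y⁆ := by
  have h3 : Commute f (a * y * a⁻¹) := (h1.mul_right h2).mul_right h1.inv_right
  rw [commutatorElement_def, commutatorElement_def]
  calc f * a * y * (f * a)⁻¹ * y⁻¹ = f * (a * y * a⁻¹) * f⁻¹ * y⁻¹ := by group
    _ = (a * y * a⁻¹) * f * f⁻¹ * y⁻¹ := by rw [h3.eq]
    _ = a * y * a⁻¹ * y⁻¹ := by group

theorem comm_central_right (f a b : G) (h1 : Commute f a) (h2 : Commute f b) :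
    ⁅a, f * b⁆ = ⁅a, b⁆ := by
  rw [← commutatorElement_inv, comm_central_left f b a h2 h1, commutatorElement_inv]

end aux

/-- Let G be a finite group with a quasisimple normal subgroup L and an involution d such that G is generated by L and d, the centre of L has odd order, and d inverts every element of the centre of L. If the commuting graph on the conjugacy class of the image of d in G modulo the centre of L is connected, then the commuting graph on the conjugacy class of d is connected. -/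
theorem result {G : Type*} [Group G] [Finite G] (L : Subgroup G) [L.Normal] (hL : Cfsg.IsQuasisimple ↥L) (d : G) (hd : orderOf d = 2) (hgen : L ⊔ Subgroup.zpowers d = ⊤) (hodd : Odd (Nat.card ↥(Subgroup.center ↥L))) (hinv : ∀ c ∈ (Subgroup.center ↥L).map L.subtype, d * c * d⁻¹ = c⁻¹) [hn : ((Subgroup.center ↥L).map L.subtype).Normal] (hconn : (Cfsg.commutingGraph (conjugatesOf (QuotientGroup.mk d : G ⧸ (Subgroup.center ↥L).map L.subtype))).Connected) : (Cfsg.commutingGraph (conjugatesOf d)).Connected := by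
  classical
  -- facts about the centre of L, inside G
  have hNL : ∀ f ∈ (Subgroup.center ↥L).map L.subtype, f ∈ L := by
    rintro f ⟨f', _, rfl⟩
    exact f'.2
  have hNc : ∀ f ∈ (Subgroup.center ↥L).map L.subtype, ∀ g ∈ L, Commute f g := by
    rintro f ⟨f', hf', rfl⟩ g hg
    have := (Subgroup.mem_center_iff.mp hf') ⟨g, hg⟩
    have h2 := congrArg Subtype.val this
    simp only [Subgroup.coe_mul] at h2
    exact h2.symm
  have hcard : Nat.card ↥((Subgroup.center ↥L).map L.subtype) = Nat.card ↥(Subgroup.center ↥L) :=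
    Subgroup.card_subtype L (Subgroup.center ↥L)
  have hcop2 : (Nat.card ↥((Subgroup.center ↥L).map L.subtype)).Coprime 2 := by
    rw [hcard]; exact Nat.Coprime.symm (Nat.coprime_two_left.mpr hodd)
  have hcop4 : (Nat.card ↥((Subgroup.center ↥L).map L.subtype)).Coprime 4 := by
    have : (4 : ℕ) = 2 ^ 2 := by norm_num
    rw [this]; exact Nat.Coprime.pow_right 2 hcop2
  have hroot2 : ∀ c ∈ (Subgroup.center ↥L).map L.subtype,
      ∃ f ∈ (Subgroup.center ↥L).map L.subtype, f ^ 2 = c := by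
    intro c hc
    obtain ⟨f, hf⟩ := (Nat.Coprime.pow_left_bijective hcop2).2 ⟨c, hc⟩
    refine ⟨f.1, f.2, ?_⟩
    have := congrArg Subtype.val hf
    simpa using this
  have hroot4 : ∀ c ∈ (Subgroup.center ↥L).map L.subtype,
      ∃ f ∈ (Subgroup.center ↥L).map L.subtype, f ^ 4 = c := by
    intro c hc
    obtain ⟨f, hf⟩ := (Nat.Coprime.pow_left_bijective hcop4).2 ⟨c, hc⟩
    refine ⟨f.1, f.2, ?_⟩
    have := congrArg Subtype.val hf
    simpa using this
  have hA : ∀ g : G, ∀ f ∈ (Subgroup.center ↥L).map L.subtype,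
      (g * d * g⁻¹) * f * (g * d * g⁻¹)⁻¹ = f⁻¹ := by
    intro g f hf
    calc (g * d * g⁻¹) * f * (g * d * g⁻¹)⁻¹
        = g * (d * (g⁻¹ * f * g⁻¹⁻¹) * d⁻¹) * g⁻¹ := by group
      _ = g * (g⁻¹ * f * g⁻¹⁻¹)⁻¹ * g⁻¹ := by rw [hinv _ (hn.conj_mem f hf g⁻¹)]
      _ = f⁻¹ := by group
  -- the conjugates of d, indexed by the conjugating element
  have hcjmem : ∀ g : G, g * d * g⁻¹ ∈ conjugatesOf d := fun g => isConj_iff.mpr ⟨g, rfl⟩
  -- conjugation is a graph homomorphism
  have hmap : ∀ g h k : G,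
      (Cfsg.commutingGraph (conjugatesOf d)).Reachable ⟨h * d * h⁻¹, hcjmem h⟩ ⟨k * d * k⁻¹, hcjmem k⟩ →
      (Cfsg.commutingGraph (conjugatesOf d)).Reachable ⟨(g * h) * d * (g * h)⁻¹, hcjmem (g * h)⟩
        ⟨(g * k) * d * (g * k)⁻¹, hcjmem (g * k)⟩ := by
    intro g h k hr
    let φ : Cfsg.commutingGraph (conjugatesOf d) →g Cfsg.commutingGraph (conjugatesOf d) :=
      { toFun := fun a => ⟨g * a.1 * g⁻¹, (a.2 : IsConj d a.1).trans (isConj_iff.mpr ⟨g, rfl⟩)⟩
        map_rel' := by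
          intro a b hab
          rw [Cfsg.commutingGraph, SimpleGraph.fromRel_adj] at hab ⊢
          refine ⟨?_, ?_⟩
          · intro h
            apply hab.1
            have h2 := congrArg Subtype.val h
            simp only at h2
            exact Subtype.ext (mul_left_cancel (mul_right_cancel h2))
          · have hc : Commute (a : G) (b : G) := hab.2.elim id Commute.symm
            left
            show g * a.1 * g⁻¹ * (g * b.1 * g⁻¹) = g * b.1 * g⁻¹ * (g * a.1 * g⁻¹)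
            calc g * a.1 * g⁻¹ * (g * b.1 * g⁻¹) = g * (a.1 * b.1) * g⁻¹ := by group
              _ = g * (b.1 * a.1) * g⁻¹ := by rw [hc.eq]
              _ = g * b.1 * g⁻¹ * (g * a.1 * g⁻¹) := by group }
    have := hr.map φ
    have e1 : φ ⟨h * d * h⁻¹, hcjmem h⟩ = ⟨(g * h) * d * (g * h)⁻¹, hcjmem (g * h)⟩ :=
      Subtype.ext (by show g * (h * d * h⁻¹) * g⁻¹ = _; group)
    have e2 : φ ⟨k * d * k⁻¹, hcjmem k⟩ = ⟨(g * k) * d * (g * k)⁻¹, hcjmem (g * k)⟩ :=
      Subtype.ext (by show g * (k * d * k⁻¹) * g⁻¹ = _; group)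
    rwa [e1, e2] at this
  -- the stabiliser of the component of d
  let K : Subgroup G :=
    { carrier := {g | (Cfsg.commutingGraph (conjugatesOf d)).Reachable
        ⟨1 * d * 1⁻¹, hcjmem 1⟩ ⟨g * d * g⁻¹, hcjmem g⟩}
      one_mem' := SimpleGraph.Reachable.refl _
      mul_mem' := by
        intro a b ha hb
        have := hmap a 1 b hb
        simp only [mul_one] at this
        exact SimpleGraph.Reachable.trans ha this
      inv_mem' := by
        intro a ha
        have := hmap a⁻¹ 1 a ha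
        simp only [mul_one, inv_mul_cancel] at this
        exact this.symm }
  have hKmem : ∀ g : G, g ∈ K ↔ (Cfsg.commutingGraph (conjugatesOf d)).Reachable
        ⟨1 * d * 1⁻¹, hcjmem 1⟩ ⟨g * d * g⁻¹, hcjmem g⟩ := fun g => Iff.rfl
  -- lifting walks
  have hP : ∀ x : conjugatesOf (QuotientGroup.mk d : G ⧸ (Subgroup.center ↥L).map L.subtype),
      ∃ k : G, (QuotientGroup.mk (k * d * k⁻¹) : G ⧸ (Subgroup.center ↥L).map L.subtype) = x.1
        ∧ k ∈ K := by
    intro x
    have hr := hconn.preconnected ⟨QuotientGroup.mk d, mem_conjugatesOf_self⟩ x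
    rw [SimpleGraph.reachable_iff_reflTransGen] at hr
    induction hr with
    | refl => exact ⟨1, by simp, K.one_mem⟩
    | @tail u v _ hadj ih =>
      obtain ⟨k, hk, hkK⟩ := ih
      rw [Cfsg.commutingGraph, SimpleGraph.fromRel_adj] at hadj
      obtain ⟨hne, hcomm⟩ := hadj
      have hcomm' : Commute u.1 v.1 := hcomm.elim id Commute.symm
      obtain ⟨q, hq⟩ := isConj_iff.mp (v.2 : IsConj _ v.1)
      obtain ⟨g, rfl⟩ := QuotientGroup.mk_surjective q
      have hv : (QuotientGroup.mk (g * d * g⁻¹) : G ⧸ (Subgroup.center ↥L).map L.subtype) = v.1 := by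
        rw [← hq]; rfl
      have hc' : (k * d * k⁻¹) * (g * d * g⁻¹) * ((g * d * g⁻¹) * (k * d * k⁻¹))⁻¹
          ∈ (Subgroup.center ↥L).map L.subtype := by
        rw [← QuotientGroup.eq_one_iff]
        have e : (QuotientGroup.mk ((k * d * k⁻¹) * (g * d * g⁻¹) *
            ((g * d * g⁻¹) * (k * d * k⁻¹))⁻¹) : G ⧸ (Subgroup.center ↥L).map L.subtype)
            = QuotientGroup.mk (k * d * k⁻¹) * QuotientGroup.mk (g * d * g⁻¹) *
              (QuotientGroup.mk (g * d * g⁻¹) * QuotientGroup.mk (k * d * k⁻¹))⁻¹ := rfl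
        rw [e, hk, hv, hcomm'.eq]
        group
      obtain ⟨f, hfN, hf4⟩ := hroot4 _ hc'
      have hfone : (QuotientGroup.mk f : G ⧸ (Subgroup.center ↥L).map L.subtype) = 1 :=
        (QuotientGroup.eq_one_iff f).mpr hfN
      have hconj : (f * g) * d * (f * g)⁻¹ = f * (g * d * g⁻¹) * f⁻¹ := by group
      have hmk : (QuotientGroup.mk ((f * g) * d * (f * g)⁻¹) :
          G ⧸ (Subgroup.center ↥L).map L.subtype) = v.1 := by
        have e : (QuotientGroup.mk (f * (g * d * g⁻¹) * f⁻¹) :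
            G ⧸ (Subgroup.center ↥L).map L.subtype)
            = QuotientGroup.mk f * QuotientGroup.mk (g * d * g⁻¹) * (QuotientGroup.mk f)⁻¹ := rfl
        rw [hconj, e, hfone, hv]
        group
      refine ⟨f * g, hmk, ?_⟩
      rw [hKmem] at hkK ⊢
      refine hkK.trans (SimpleGraph.Adj.reachable ?_)
      rw [Cfsg.commutingGraph, SimpleGraph.fromRel_adj]
      refine ⟨?_, Or.inl ?_⟩
      · intro h
        apply hne
        apply Subtype.ext
        rw [← hk, ← hmk]
        exact congrArg (fun t : conjugatesOf d => (QuotientGroup.mk t.1 :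
          G ⧸ (Subgroup.center ↥L).map L.subtype)) h
      · show Commute (k * d * k⁻¹) ((f * g) * d * (f * g)⁻¹)
        rw [hconj]
        exact commute_lift _ _ f (hA k f hfN) (hA g f hfN) hf4
  have hC : ∀ g : G, ∃ f ∈ (Subgroup.center ↥L).map L.subtype, f * g ∈ K := by
    intro g
    obtain ⟨k, hk, hkK⟩ := hP ⟨QuotientGroup.mk (g * d * g⁻¹),
      isConj_iff.mpr ⟨QuotientGroup.mk g, rfl⟩⟩
    simp only at hk
    have hc : (g * d * g⁻¹)⁻¹ * (k * d * k⁻¹) ∈ (Subgroup.center ↥L).map L.subtype :=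
      QuotientGroup.eq.mp hk.symm
    obtain ⟨f, hfN, hf2⟩ := hroot2 _ (Subgroup.inv_mem _ hc)
    refine ⟨f, hfN, ?_⟩
    rw [hKmem] at hkK ⊢
    have heq : (f * g) * d * (f * g)⁻¹ = k * d * k⁻¹ := by
      calc (f * g) * d * (f * g)⁻¹ = f * (g * d * g⁻¹) * f⁻¹ := by group
        _ = (g * d * g⁻¹) * (f ^ 2)⁻¹ := conj_eq _ f (hA g f hfN)
        _ = k * d * k⁻¹ := by rw [hf2]; group
    have hsub : (⟨(f * g) * d * (f * g)⁻¹, hcjmem (f * g)⟩ : conjugatesOf d)
        = ⟨k * d * k⁻¹, hcjmem k⟩ := Subtype.ext heq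
    rw [hsub]
    exact hkK
  -- L lies in K, because L is perfect
  have hLK : L ≤ K := by
    open scoped commutatorElement in
    have hperf : ⁅L, L⁆ = L := Subgroup.isPerfect_iff.mp hL.1
    rw [← hperf, Subgroup.commutator_le]
    intro g₁ hg₁ g₂ hg₂
    obtain ⟨f₁, hf₁N, hf₁K⟩ := hC g₁
    obtain ⟨f₂, hf₂N, hf₂K⟩ := hC g₂
    have h1 : ⁅f₁ * g₁, f₂ * g₂⁆ = ⁅g₁, g₂⁆ := by
      rw [comm_central_left f₁ g₁ (f₂ * g₂) (hNc f₁ hf₁N g₁ hg₁)
        (hNc f₁ hf₁N _ (L.mul_mem (hNL f₂ hf₂N) hg₂)),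
        comm_central_right f₂ g₁ g₂ (hNc f₂ hf₂N g₁ hg₁) (hNc f₂ hf₂N g₂ hg₂)]
    rw [← h1, commutatorElement_def]
    exact K.mul_mem (K.mul_mem (K.mul_mem hf₁K hf₂K) (K.inv_mem hf₁K)) (K.inv_mem hf₂K)
  have hdK : d ∈ K := by
    rw [hKmem]
    have hsub : (⟨d * d * d⁻¹, hcjmem d⟩ : conjugatesOf d) = ⟨1 * d * 1⁻¹, hcjmem 1⟩ :=
      Subtype.ext (by group)
    rw [hsub]
  have hKtop : K = ⊤ := by
    apply top_le_iff.mp
    rw [← hgen]
    exact sup_le hLK ((Subgroup.zpowers_le).mpr hdK)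
  rw [SimpleGraph.connected_iff_exists_forall_reachable]
  refine ⟨⟨1 * d * 1⁻¹, hcjmem 1⟩, ?_⟩
  intro w
  obtain ⟨g, hg⟩ := isConj_iff.mp (w.2 : IsConj d w.1)
  have hgK : g ∈ K := by rw [hKtop]; exact Subgroup.mem_top g
  rw [hKmem] at hgK
  have hsub : (⟨g * d * g⁻¹, hcjmem g⟩ : conjugatesOf d) = w := Subtype.ext hg
  rwa [hsub] at hgK

end Cfsg.Agent.S5459
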