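import Cfsg.Statements.S5521
import Cfsg.Agent.Lib.Helper93.M24Chain

set_option autoImplicit false
open Cfsg

namespace Cfsg.Agent.S5521

open Cfsg.Agent.Lib.Helper10 Cfsg.Agent.Lib.Helper93

theorem cert7 : certOk [1, 2, 4, 8, 16, 32, 64, 16777088]
    [8536111, 5275709, 663645, 8683614, 1302533, 11100169, 14254209, 4038912, 8077824, 7767041,
      14919680] = true := by
  decide +kernel

theorem rigid7 (g : Equiv.Perm GolayPt) (hg : g ∈ M24)
    (h : ∀ i : Fin 7, g (pt i) = pt i) : g = 1 := by
  apply eq_one_of_cert hg _ _ _ cert7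
  intro c hc
  have e : (16777088 : ℕ) = (2 ^ 24 - 1) ^^^ 1 ^^^ 2 ^^^ 4 ^^^ 8 ^^^ 16 ^^^ 32 ^^^ 64 := by decide
  have s : ∀ i : Fin 7, Inv g (2 ^ (i : ℕ)) := by
    intro i
    have := inv_single (h i)
    rwa [idx_pt (by omega)] at this
  simp only [List.mem_cons, List.not_mem_nil, or_false] at hc
  rcases hc with rfl | rfl | rfl | rfl | rfl | rfl | rfl | rfl
  · exact s 0
  · exact s 1
  · exact s 2
  · exact s 3
  · exact s 4
  · exact s 5
  · exact s 6
  · rw [e]
    exact inv_xor (inv_xor (inv_xor (inv_xor (inv_xor (inv_xor (inv_xor (inv_full g) (s 0)) (s 1))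
      (s 2)) (s 3)) (s 4)) (s 5)) (s 6)

theorem part2 :
    ∃ B : Finset Cfsg.GolayPt, B.card = 7 ∧ ∀ g ∈ Cfsg.M24, (∀ b ∈ B, g b = b) → g = 1 := by
  refine ⟨(Finset.range 7).image pt, by decide, ?_⟩
  intro g hg h
  apply rigid7 g hg
  intro i
  exact h _ (Finset.mem_image_of_mem pt (Finset.mem_range.mpr i.2))

theorem descFactorial_le (k : ℕ) (hk : k ≤ 6) : Nat.descFactorial 24 k ≤ 96909120 := by
  interval_cases k <;> decide

/-- The Mathieu group M₂₄ in its natural action on the 24 coordinate positions of the binary Golay code has minimal base size exactly 7: every set of at most 6 positions is fixed pointwise by some non-identity element of M₂₄, while some set of 7 positions is fixed pointwise only by the identity. -/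
theorem result :
    (∀ B : Finset Cfsg.GolayPt, B.card ≤ 6 → ∃ g ∈ Cfsg.M24, g ≠ 1 ∧ ∀ b ∈ B, g b = b) ∧
    (∃ B : Finset Cfsg.GolayPt, B.card = 7 ∧ ∀ g ∈ Cfsg.M24, (∀ b ∈ B, g b = b) → g = 1) := by
  classical
  constructor
  · intro B hB
    let r : ↥M24 → (↥B ↪ GolayPt) := fun g =>
      ⟨fun b => g.1 b.1, fun a b hab => Subtype.ext (g.1.injective hab)⟩
    have hcard : Fintype.card (↥B ↪ GolayPt) < Fintype.card ↥M24 := by
      rw [Fintype.card_embedding_eq, Fintype.card_coe]
      have h24 : Fintype.card GolayPt = 24 := by decide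
      rw [h24]
      have h1 := descFactorial_le B.card hB
      have h2 := card_M24_ge
      rw [Nat.card_eq_fintype_card] at h2
      omega
    obtain ⟨x, y, hxy, hr⟩ := Fintype.exists_ne_map_eq_of_card_lt r hcard
    refine ⟨y.1⁻¹ * x.1, M24.mul_mem (M24.inv_mem y.2) x.2, ?_, ?_⟩
    · intro h
      apply hxy
      apply Subtype.ext
      have := congrArg (fun z => y.1 * z) h
      simpa using this
    · intro b hb
      have h := congrArg (fun f : (↥B ↪ GolayPt) => f ⟨b, hb⟩) hr
      have h' : x.1 b = y.1 b := h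
      rw [Equiv.Perm.mul_apply, h']
      exact Equiv.symm_apply_apply y.1 b
  · exact part2

end Cfsg.Agent.S5521
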