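import Cfsg.Statements.S5522
import Cfsg.Agent.Lib.Helper93.M11Chk

set_option autoImplicit false
open Cfsg

namespace Cfsg.Agent.S5522

open Cfsg.Agent.Lib.Helper10 Cfsg.Agent.Lib.Helper93
open scoped Pointwise

theorem fixed_of_coprime (g : Equiv.Perm GolayPt) (hg : g ∈ Spor.M11) (p : ℕ) (hp : p.Prime)
    (h12 : ¬ p ∣ 12) (hgp : g ^ p = 1) :
    ∃ x : GolayPt, x ∉ Spor.squareDodecad ∧ g x = x := by
  have hD : g • Spor.squareDodecad = Spor.squareDodecad := by
    have h1 : g ∈ Spor.M12 := (Subgroup.mem_inf.mp hg).1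
    exact MulAction.mem_stabilizer_iff.mp (Subgroup.mem_inf.mp h1).2
  have hiff : ∀ x, g x ∉ Spor.squareDodecad ↔ x ∉ Spor.squareDodecad := by
    intro x
    have h1 : g x ∈ g • Spor.squareDodecad ↔ x ∈ Spor.squareDodecad :=
      Finset.smul_mem_smul_finset_iff g
    rw [hD] at h1
    rw [h1]
  have : Fact p.Prime := ⟨hp⟩
  have hpow : (g.subtypePerm (p := fun x => x ∉ Spor.squareDodecad) hiff) ^ p ^ 1 = 1 := by
    rw [pow_one]
    ext x
    rw [Equiv.Perm.subtypePerm_pow, Equiv.Perm.subtypePerm_apply]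
    simp [hgp]
  obtain ⟨a, ha⟩ := Equiv.Perm.exists_fixed_point_of_prime (p := p) (n := 1)
    (by rw [card_off_sq]; exact h12) hpow
  refine ⟨a.1, a.2, ?_⟩
  have := congrArg Subtype.val ha
  simpa using this

/-- The Mathieu group M₁₁, realised as the stabiliser of one point of the dodecad of squares inside the stabiliser M₁₂ of that dodecad in M₂₄, acts on the twelve coordinate positions outside the dodecad of squares (its 3-transitive action of degree 12); in this action every element of prime order fixes a point, i.e. the action is elusive. -/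
theorem result (g : Equiv.Perm Cfsg.GolayPt) (hg : g ∈ Cfsg.Spor.M11) (hord : (orderOf g).Prime) :
    ∃ x : Cfsg.GolayPt, x ∉ Cfsg.Spor.squareDodecad ∧ g x = x := by
  obtain ⟨x1, hx1, x2, hx2, x3, hx3, x4, hx4, hgeq⟩ := m11_factor hg
  have hc := m11chk_all
  rw [List.all_eq_true] at hc
  have hc := hc x1 hx1
  rw [List.all_eq_true] at hc
  have hc := hc x2 hx2
  rw [List.all_eq_true] at hc
  have hc := hc x3 hx3
  rw [List.all_eq_true] at hc
  have hc := hc x4 hx4
  have ok1 := (sift_mem m11_sift1 hx1).1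
  have ok2 := (sift_mem m11_sift2 hx2).1
  have ok3 := (sift_mem m11_sift3 hx3).1
  have ok4 := (sift_mem m11_sift4 hx4).1
  have hact : ∀ p : GolayPt, idx (g p) = act4 x1.1 x2.1 x3.1 x4.1 (idx p) := by
    intro p
    rw [hgeq]
    simp only [Equiv.Perm.mul_apply]
    rw [idx_tabPerm ok1, idx_tabPerm ok2, idx_tabPerm ok3, idx_tabPerm ok4]
    rfl
  unfold m11chk at hc
  rw [Bool.or_eq_true] at hc
  rcases hc with hc | hc
  · rw [List.any_eq_true] at hc
    obtain ⟨i, hi, h⟩ := hc
    rw [List.mem_range] at hi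
    rw [Bool.and_eq_true, beq_iff_eq, Bool.not_eq_true'] at h
    refine ⟨pt i, ?_, ?_⟩
    · rw [squareDodecad_eq, mem_support_vec, idx_pt hi, h.1]
      simp
    · apply idx_injective
      rw [hact, idx_pt hi, h.2]
  · rw [Bool.and_eq_true, List.any_eq_true, List.any_eq_true] at hc
    obtain ⟨⟨i, hi, h2⟩, ⟨j, hj, h3⟩⟩ := hc
    rw [List.mem_range] at hi hj
    have hg2 : g ^ 2 ≠ 1 := by
      intro h
      have := congrArg (fun f : Equiv.Perm GolayPt => idx (f (pt i))) h
      simp only [pow_two, Equiv.Perm.mul_apply, Equiv.Perm.one_apply] at this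
      rw [hact, hact, idx_pt hi] at this
      rw [this] at h2
      simp at h2
    have hg3 : g ^ 3 ≠ 1 := by
      intro h
      have := congrArg (fun f : Equiv.Perm GolayPt => idx (f (pt j))) h
      simp only [pow_succ, pow_zero, one_mul, Equiv.Perm.mul_apply, Equiv.Perm.one_apply] at this
      rw [hact, hact, hact, idx_pt hj] at this
      rw [this] at h3
      simp at h3
    apply fixed_of_coprime g hg (orderOf g) hord _ (pow_orderOf_eq_one g)
    intro hdvd
    have h12 : (12 : ℕ) = 2 ^ 2 * 3 := by norm_num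
    rw [h12] at hdvd
    rcases (Nat.Prime.dvd_mul hord).mp hdvd with h | h
    · have := (Nat.prime_dvd_prime_iff_eq hord Nat.prime_two).mp (hord.dvd_of_dvd_pow h)
      rw [← this] at hg2
      exact hg2 (pow_orderOf_eq_one g)
    · have := (Nat.prime_dvd_prime_iff_eq hord Nat.prime_three).mp h
      rw [← this] at hg3
      exact hg3 (pow_orderOf_eq_one g)

end Cfsg.Agent.S5522
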