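import Cfsg.Statements.S5529
import Cfsg.Agent.Lib.Helper22.TripleGenA
import Cfsg.Agent.Lib.Helper48.TripleGenB
import Cfsg.Agent.Lib.Helper30.TripleGenC
import Cfsg.Agent.Lib.Helper95.TripleGenE

set_option autoImplicit false
open Cfsg

namespace Cfsg.Agent.S5529

open Cfsg.Agent.Lib.Helper22.TripleGen Cfsg.Agent.Lib.Helper48.TripleGen Cfsg.Agent.Lib.Helper30.TripleGen
open Cfsg.Agent.Lib.Helper95 Equiv

/-- the lower bounds for the number of cycles. -/
def cmin : ℕ → ℕ
  | 2 => 16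
  | 3 => 12
  | 5 => 8
  | 7 => 6
  | 11 => 4
  | 23 => 2
  | _ => 0

theorem prime_dvd_card {p : ℕ} (hp : p.Prime) (h : p ∣ 10200960) :
    p = 2 ∨ p = 3 ∨ p = 5 ∨ p = 7 ∨ p = 11 ∨ p = 23 := by
  have h2 : (10200960 : ℕ) = 2 ^ 7 * 3 ^ 2 * 5 * 7 * 11 * 23 := by norm_num
  rw [h2] at h
  rcases (Nat.Prime.dvd_mul hp).mp h with h | h
  · rcases (Nat.Prime.dvd_mul hp).mp h with h | h
    · rcases (Nat.Prime.dvd_mul hp).mp h with h | h
      · rcases (Nat.Prime.dvd_mul hp).mp h with h | h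
        · rcases (Nat.Prime.dvd_mul hp).mp h with h | h
          · left; exact (Nat.prime_dvd_prime_iff_eq hp Nat.prime_two).mp (hp.dvd_of_dvd_pow h)
          · right; left
            exact (Nat.prime_dvd_prime_iff_eq hp Nat.prime_three).mp (hp.dvd_of_dvd_pow h)
        · right; right; left; exact (Nat.prime_dvd_prime_iff_eq hp (by norm_num)).mp h
      · right; right; right; left; exact (Nat.prime_dvd_prime_iff_eq hp (by norm_num)).mp h
    · right; right; right; right; left; exact (Nat.prime_dvd_prime_iff_eq hp (by norm_num)).mp h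
  · right; right; right; right; right; exact (Nat.prime_dvd_prime_iff_eq hp (by norm_num)).mp h

theorem card_golayPt : Fintype.card GolayPt = 24 := by
  simp [GolayPt, ZMod.card]

/-- the number of cycles of an element of prime order of `M23`. -/
theorem cmin_le (g : Perm GolayPt) (hg : g ∈ Spor.M23) (p : ℕ) (hp : p.Prime)
    (hpd : p ∣ 10200960) (ho : orderOf g = p) :
    cmin p ≤ Nat.card (MulAction.orbitRel.Quotient ↥(Subgroup.zpowers g) GolayPt) := by
  have h1 := prime_order_orbit_count g p hp ho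
  rw [card_golayPt] at h1
  have hfix : 1 ≤ (Finset.univ.filter fun a => g a = a).card := by
    apply Finset.card_pos.mpr
    refine ⟨none, ?_⟩
    rw [Finset.mem_filter]
    exact ⟨Finset.mem_univ _, (Subgroup.mem_inf.mp hg).2⟩
  generalize Nat.card (MulAction.orbitRel.Quotient ↥(Subgroup.zpowers g) GolayPt) = c at h1 ⊢
  rcases prime_dvd_card hp hpd with rfl | rfl | rfl | rfl | rfl | rfl
  · have h8 := m23_invol_fixed g hg ho
    show 16 ≤ c
    omega
  · have h6 := m23_three_fixed g hg ho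
    show 12 ≤ c
    omega
  · show 8 ≤ c
    omega
  · show 6 ≤ c
    omega
  · show 4 ≤ c
    omega
  · show 2 ≤ c
    omega

/-- Ree's bound for a generating triple of `M23`. -/
theorem triple_bound (p q r : ℕ) (hp : p.Prime) (hq : q.Prime) (hr : r.Prime)
    (hdvd : p ∣ 10200960 ∧ q ∣ 10200960 ∧ r ∣ 10200960)
    (x y z : Spor.M23) (hx : orderOf x = p) (hy : orderOf y = q) (hz : orderOf z = r)
    (hxyz : x * y * z = 1) (hgen : Subgroup.closure {x, y} = ⊤) :
    cmin p + cmin q + cmin r ≤ 28 := by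
  have h1 : (x : Perm GolayPt) * y * z = 1 := by
    have := congrArg Subtype.val hxyz
    simpa using this
  have hcl : Subgroup.closure {(x : Perm GolayPt), (y : Perm GolayPt)} = Spor.M23 := by
    have h2 := congrArg (Subgroup.map Spor.M23.subtype) hgen
    rw [MonoidHom.map_closure, ← MonoidHom.range_eq_map, Subgroup.range_subtype] at h2
    have h4 : (⇑Spor.M23.subtype '' {x, y}) = {(x : Perm GolayPt), (y : Perm GolayPt)} := by
      rw [Set.image_pair]
      rfl
    rw [h4] at h2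
    exact h2
  have h3 := ree_orbit_count (x : Perm GolayPt) y z h1
  rw [hcl, m23_orbits, card_golayPt] at h3
  have hxo : orderOf (x : Perm GolayPt) = p := by rw [Subgroup.orderOf_coe]; exact hx
  have hyo : orderOf (y : Perm GolayPt) = q := by rw [Subgroup.orderOf_coe]; exact hy
  have hzo : orderOf (z : Perm GolayPt) = r := by rw [Subgroup.orderOf_coe]; exact hz
  have hcx := cmin_le x x.2 p hp hdvd.1 hxo
  have hcy := cmin_le y y.2 q hq hdvd.2.1 hyo
  have hcz := cmin_le z z.2 r hr hdvd.2.2 hzo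
  omega

/-- the explicit generating triples (40 cases). -/
theorem exists_triple (p q r : ℕ) (hp : p.Prime) (hq : q.Prime) (hr : r.Prime)
    (hpq : p ≤ q) (hqr : q ≤ r) (hp2 : ¬ (p = 2 ∧ q = 2))
    (hdvd : p ∣ 10200960 ∧ q ∣ 10200960 ∧ r ∣ 10200960)
    (hok : ¬ ((p = 2 ∧ q = 3) ∨ (p = 2 ∧ q = 5 ∧ r = 5) ∨ (p = 2 ∧ q = 5 ∧ r = 7) ∨
      (p = 3 ∧ q = 3 ∧ r ≤ 7))) :
    ∃ x y z : Cfsg.Spor.M23, orderOf x = p ∧ orderOf y = q ∧ orderOf z = r ∧ x * y * z = 1 ∧
        Subgroup.closure {x, y} = ⊤ := by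
  rcases prime_dvd_card hp hdvd.1 with rfl | rfl | rfl | rfl | rfl | rfl <;>
  rcases prime_dvd_card hq hdvd.2.1 with rfl | rfl | rfl | rfl | rfl | rfl <;>
  rcases prime_dvd_card hr hdvd.2.2 with rfl | rfl | rfl | rfl | rfl | rfl <;>
  first
    | omega
    | exact absurd (by decide) hp2
    | exact absurd (by decide) hok
    | exact TripleGenE.t_2_5_11 | exact TripleGenE.t_2_5_23 | exact TripleGenE.t_2_7_7 | exact TripleGenE.t_2_7_11 | exact TripleGenE.t_2_7_23 | exact TripleGenE.t_2_11_11 | exact TripleGenE.t_2_11_23 | exact TripleGenE.t_2_23_23 | exact TripleGenE.t_3_3_11 | exact TripleGenE.t_3_3_23 | exact TripleGenE.t_3_5_5 | exact TripleGenE.t_3_5_7 | exact TripleGenE.t_3_5_11 | exact TripleGenE.t_3_5_23 | exact TripleGenE.t_3_7_7 | exact TripleGenE.t_3_7_11 | exact TripleGenE.t_3_7_23 | exact TripleGenE.t_3_11_11 | exact TripleGenE.t_3_11_23 | exact TripleGenE.t_3_23_23 | exact TripleGenE.t_5_5_5 | exact TripleGenE.t_5_5_7 | exact TripleGenE.t_5_5_11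 | exact TripleGenE.t_5_5_23 | exact TripleGenE.t_5_7_7 | exact TripleGenE.t_5_7_11 | exact TripleGenE.t_5_7_23 | exact TripleGenE.t_5_11_11 | exact TripleGenE.t_5_11_23 | exact TripleGenE.t_5_23_23 | exact TripleGenE.t_7_7_7 | exact TripleGenE.t_7_7_11 | exact TripleGenE.t_7_7_23 | exact TripleGenE.t_7_11_11 | exact TripleGenE.t_7_11_23 | exact TripleGenE.t_7_23_23 | exact TripleGenE.t_11_11_11 | exact TripleGenE.t_11_11_23 | exact TripleGenE.t_11_23_23 | exact TripleGenE.t_23_23_23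


/-- Generation of the Mathieu group M₂₃ (the stabiliser of a point in the Mathieu group M₂₄ acting on 24 points) by triples of prime orders. Let p ≤ q ≤ r be primes dividing |M₂₃| = 10200960 = 2⁷·3²·5·7·11·23, not both p and q equal to 2. Then M₂₃ contains elements x, y, z of orders p, q, r with xyz = 1 and ⟨x, y⟩ = M₂₃ if and only if (p, q, r) is none of: (2, 3, r) for any r, (2, 5, 5), (2, 5, 7), (3, 3, 3), (3, 3, 5), (3, 3, 7). -/
theorem result (p q r : ℕ) (hp : p.Prime) (hq : q.Prime)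
    (hr : r.Prime) (hpq : p ≤ q) (hqr : q ≤ r) (hp2 : ¬ (p = 2 ∧ q = 2))
    (hdvd : p ∣ 10200960 ∧ q ∣ 10200960 ∧ r ∣ 10200960) :
    (∃ x y z : Cfsg.Spor.M23, orderOf x = p ∧ orderOf y = q ∧ orderOf z = r ∧ x * y * z = 1 ∧
        Subgroup.closure {x, y} = ⊤) ↔
      ¬ ((p = 2 ∧ q = 3) ∨ (p = 2 ∧ q = 5 ∧ r = 5) ∨ (p = 2 ∧ q = 5 ∧ r = 7) ∨ (p = 3 ∧ q = 3 ∧ r ≤ 7)) := by
  constructor
  · rintro ⟨x, y, z, hx, hy, hz, hxyz, hgen⟩
    have hb := triple_bound p q r hp hq hr hdvd x y z hx hy hz hxyz hgen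
    rcases prime_dvd_card hp hdvd.1 with rfl | rfl | rfl | rfl | rfl | rfl <;>
    rcases prime_dvd_card hq hdvd.2.1 with rfl | rfl | rfl | rfl | rfl | rfl <;>
    rcases prime_dvd_card hr hdvd.2.2 with rfl | rfl | rfl | rfl | rfl | rfl <;>
    simp [cmin] at hb ⊢
  · intro hok
    exact exists_triple p q r hp hq hr hpq hqr hp2 hdvd hok

end Cfsg.Agent.S5529
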