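import Cfsg.Statements.S5541

set_option autoImplicit false
open Cfsg

namespace Cfsg.Agent.S5541

section aux

variable {H : Type*} [Group H] {U : Type*} [AddCommGroup U] [Module ℝ U]

theorem rho_apply_inv (ρ : Representation ℝ H U) (g : H) (u : U) : ρ g (ρ g⁻¹ u) = u := by
  rw [← Module.End.mul_apply, ← map_mul, mul_inv_cancel, map_one, Module.End.one_apply]

theorem B_nondeg [FiniteDimensional ℝ U] (ρ : Representation ℝ H U)
    (hirr : ∀ W : Submodule ℝ U, (∀ g : H, W.map (ρ g) ≤ W) → W = ⊥ ∨ W = ⊤)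
    (B : LinearMap.BilinForm ℝ U) (hB0 : B ≠ 0)
    (hBi : ∀ (g : H) (u v : U), B (ρ g u) (ρ g v) = B u v) : B.Nondegenerate := by
  rw [LinearMap.BilinForm.nondegenerate_iff_ker_eq_bot]
  have hinv : ∀ g : H, (LinearMap.ker B).map (ρ g) ≤ LinearMap.ker B := by
    intro g
    rintro _ ⟨u, hu, rfl⟩
    rw [SetLike.mem_coe, LinearMap.mem_ker] at hu
    rw [LinearMap.mem_ker]
    ext v
    have := hBi g u (ρ g⁻¹ v)
    rw [rho_apply_inv] at this
    rw [this, hu]; simp
  rcases hirr _ hinv with h | h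
  · exact h
  · exfalso; apply hB0; exact LinearMap.ker_eq_top.mp h

end aux

/-- Let ρ be a representation of a group H on a finite-dimensional real vector space U whose only ρ-invariant subspaces are the zero subspace and U, and suppose U carries a non-zero ρ-invariant symmetric bilinear form. Then the following are equivalent: (1) there is a non-zero ρ-equivariant commutative bilinear product on U of which every ρ-equivariant bilinear product is a scalar multiple; (2) there is a non-zero ρ-invariant trilinear form on U that is symmetric under all permutations of its arguments and of which every ρ-invariant trilinear form is a scalar multiple. -/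
theorem result {H : Type*} [Group H] {U : Type*} [AddCommGroup U] [Module ℝ U] [FiniteDimensional ℝ U] (ρ : Representation ℝ H U) (hirr : ∀ W : Submodule ℝ U, (∀ g : H, W.map (ρ g) ≤ W) → W = ⊥ ∨ W = ⊤) (B : LinearMap.BilinForm ℝ U) (hB0 : B ≠ 0) (hBs : ∀ u v, B u v = B v u) (hBi : ∀ (g : H) (u v : U), B (ρ g u) (ρ g v) = B u v) : (∃ m : U →ₗ[ℝ] U →ₗ[ℝ] U, m ≠ 0 ∧ (∀ u v, m u v = m v u) ∧ (∀ (g : H) (u v : U), m (ρ g u) (ρ g v) = ρ g (m u v)) ∧ ∀ m' : U →ₗ[ℝ] U →ₗ[ℝ] U, (∀ (g : H) (u v : U), m' (ρ g u) (ρ g v) = ρ g (m' u v)) → ∃ c : ℝ, m' = c • m) ↔ (∃ t : U →ₗ[ℝ] U →ₗ[ℝ] U →ₗ[ℝ] ℝ, t ≠ 0 ∧ (∀ u v w, t u v w = t v u w ∧ t u v w = t u w v) ∧ (∀ (g : H) (u v w : U), t (ρ g u) (ρ g v) (ρ g w) = t u v w) ∧ ∀ t' : U →ₗ[ℝ] U →ₗ[ℝ] U →ₗ[ℝ] ℝ, (∀ (g : H) (u v w : U), t' (ρ g u) (ρ g v) (ρ g w) = t' u v w) → ∃ c : ℝ, t' = c • t) := by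
  have hnd : B.Nondegenerate := B_nondeg ρ hirr B hB0 hBi
  have hBD : ∀ (f : Module.Dual ℝ U) (w : U), B ((B.toDual hnd).symm f) w = f w :=
    fun f w => LinearMap.BilinForm.apply_toDual_symm_apply f w
  have hsep : ∀ x y : U, (∀ w, B x w = B y w) → x = y := by
    intro x y h
    have h0 : B (x - y) = 0 := by ext w; simp [h w]
    have hk := LinearMap.BilinForm.nondegenerate_iff_ker_eq_bot.mp hnd
    have hmem : x - y ∈ LinearMap.ker B := h0
    rw [hk] at hmem
    exact sub_eq_zero.mp ((Submodule.mem_bot ℝ).mp hmem)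
  have hBi' : ∀ (g : H) (x w : U), B (ρ g x) w = B x (ρ g⁻¹ w) := by
    intro g x w
    have := hBi g x (ρ g⁻¹ w)
    rwa [rho_apply_inv] at this
  -- a product is recovered from its trilinear form
  have L1 : ∀ m : U →ₗ[ℝ] U →ₗ[ℝ] U, (∀ (g : H) (u v : U), m (ρ g u) (ρ g v) = ρ g (m u v)) →
      ∀ (g : H) (u v w : U), B (m (ρ g u) (ρ g v)) (ρ g w) = B (m u v) w := by
    intro m hm g u v w
    rw [hm, hBi]
  have L2 : ∀ (t : U →ₗ[ℝ] U →ₗ[ℝ] U →ₗ[ℝ] ℝ) (m : U →ₗ[ℝ] U →ₗ[ℝ] U),
      (∀ u v w, B (m u v) w = t u v w) →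
      (∀ (g : H) (u v w : U), t (ρ g u) (ρ g v) (ρ g w) = t u v w) →
      ∀ (g : H) (u v : U), m (ρ g u) (ρ g v) = ρ g (m u v) := by
    intro t m hm ht g u v
    apply hsep
    intro w
    rw [hm, hBi', hm]
    have := ht g u v (ρ g⁻¹ w)
    rwa [rho_apply_inv] at this
  constructor
  · rintro ⟨m, hm0, hmc, hme, hmu⟩
    have hU : ∀ t' : U →ₗ[ℝ] U →ₗ[ℝ] U →ₗ[ℝ] ℝ,
        (∀ (g : H) (u v w : U), t' (ρ g u) (ρ g v) (ρ g w) = t' u v w) →
        ∃ c : ℝ, t' = c • (m.compr₂ B) := by
      intro t' ht'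
      have hm' : ∀ u v w, B ((t'.compr₂ (B.toDual hnd).symm.toLinearMap) u v) w = t' u v w :=
        fun u v w => hBD _ _
      obtain ⟨c, hc⟩ := hmu _ (L2 t' _ hm' ht')
      refine ⟨c, ?_⟩
      ext u v w
      rw [← hm', hc]
      simp
    have ht0 : m.compr₂ B ≠ 0 := by
      intro h
      apply hm0
      ext u v
      apply hsep
      intro w
      have : (m.compr₂ B) u v w = 0 := by rw [h]; rfl
      simpa using this
    have hS : ∀ u v w, (m.compr₂ B) u v w = (m.compr₂ B) v u w := by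
      intro u v w
      simp only [LinearMap.compr₂_apply]
      rw [hmc]
    have hI : ∀ (g : H) (u v w : U),
        (m.compr₂ B) (ρ g u) (ρ g v) (ρ g w) = (m.compr₂ B) u v w := by
      intro g u v w
      simp only [LinearMap.compr₂_apply]
      exact L1 m hme g u v w
    obtain ⟨c, hc⟩ := hU ((LinearMap.lflip (R := ℝ)).comp (m.compr₂ B)) (by
      intro g u v w
      exact hI g u w v)
    have hF : ∀ u v w, (m.compr₂ B) u w v = c * (m.compr₂ B) u v w := by
      intro u v w
      have := congrArg (fun f => f u v w) hc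
      simpa using this
    have hc3 : (m.compr₂ B) = (c ^ 3) • (m.compr₂ B) := by
      ext u v w
      have e1 := hF u w v
      have e2 := hF w v u
      have e3 := hF v u w
      have s1 := hS u w v
      have s2 := hS w v u
      have s3 := hS v u w
      simp only [LinearMap.smul_apply, smul_eq_mul]
      calc (m.compr₂ B) u v w = c * (m.compr₂ B) u w v := e1
        _ = c * (m.compr₂ B) w u v := by rw [s1]
        _ = c * (c * (m.compr₂ B) w v u) := by rw [e2]
        _ = c * (c * (m.compr₂ B) v w u) := by rw [s2]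
        _ = c * (c * (c * (m.compr₂ B) v u w)) := by rw [e3]
        _ = c * (c * (c * (m.compr₂ B) u v w)) := by rw [s3]
        _ = c ^ 3 * (m.compr₂ B) u v w := by ring
    have hc1 : c = 1 := by
      have h1 : (1 - c ^ 3) • (m.compr₂ B) = 0 := by
        ext u v w
        have := congrArg (fun f => f u v w) hc3
        simp only [LinearMap.smul_apply, smul_eq_mul, LinearMap.zero_apply] at this ⊢
        linear_combination this
      have h2 : 1 - c ^ 3 = 0 := (smul_eq_zero.mp h1).resolve_right ht0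
      have h3 : (c - 1) * (c ^ 2 + c + 1) = 0 := by ring_nf; ring_nf at h2; linarith
      rcases mul_eq_zero.mp h3 with h | h
      · linarith
      · nlinarith [sq_nonneg (c + 1 / 2)]
    refine ⟨m.compr₂ B, ht0, fun u v w => ⟨hS u v w, ?_⟩, hI, hU⟩
    have := hF u w v
    rw [hc1, one_mul] at this
    exact this
  · rintro ⟨t, ht0, hts, hti, htu⟩
    have hm : ∀ u v w, B ((t.compr₂ (B.toDual hnd).symm.toLinearMap) u v) w = t u v w :=
      fun u v w => hBD _ _
    refine ⟨t.compr₂ (B.toDual hnd).symm.toLinearMap, ?_, ?_, L2 t _ hm hti, ?_⟩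
    · intro h
      apply ht0
      ext u v w
      rw [← hm, h]
      simp
    · intro u v
      apply hsep
      intro w
      rw [hm, hm]
      exact (hts u v w).1
    · intro m' hm'
      obtain ⟨c, hc⟩ := htu (m'.compr₂ B) (by
        intro g u v w
        simp only [LinearMap.compr₂_apply]
        exact L1 m' hm' g u v w)
      refine ⟨c, ?_⟩
      ext u v
      apply hsep
      intro w
      have := congrArg (fun f => f u v w) hc
      simp only [LinearMap.compr₂_apply, LinearMap.smul_apply, smul_eq_mul] at this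
      rw [this]
      simp only [LinearMap.smul_apply, map_smul, smul_eq_mul]
      rw [hm]

end Cfsg.Agent.S5541
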