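import Cfsg.Statements.S5543

set_option autoImplicit false
open Cfsg

namespace Cfsg.Agent.S5543

open Cfsg.Axial

section aux

variable {V : Type*} [AddCommGroup V] [Module ℝ V]

theorem law_quarter : monsterLaw (1/4 : ℝ) (1/32) (1/4) (1/4) = {1, 0} := by
  unfold monsterLaw
  rw [if_neg (by norm_num), if_neg (by norm_num), if_pos (by norm_num)]

theorem eigenSum_one_zero (mul : V →ₗ[ℝ] V →ₗ[ℝ] V) (a : V) :
    eigenSum mul a {1, 0} = eigen mul a 1 ⊔ eigen mul a 0 := by
  unfold eigenSum
  rw [iSup_insert, iSup_singleton]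

theorem quarter_fusion (mul : V →ₗ[ℝ] V →ₗ[ℝ] V) (a u v : V)
    (hax : IsPrimitiveAxis mul (monsterLaw (1/4) (1/32)) majoranaSpectrum a)
    (hu : mul a u = (1/4 : ℝ) • u) (hv : mul a v = (1/4:ℝ) • v)
    (huv : mul a (mul u v) = (1/4:ℝ) • mul u v) : mul u v = 0 := by
  obtain ⟨⟨_, _, _, hfus⟩, _⟩ := hax
  have h14 : (1/4 : ℝ) ∈ majoranaSpectrum := by unfold majoranaSpectrum; simp
  have := hfus (1/4) h14 (1/4) h14 u (Module.End.mem_eigenspace_iff.mpr hu) v
    (Module.End.mem_eigenspace_iff.mpr hv)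
  rw [law_quarter, eigenSum_one_zero] at this
  obtain ⟨e1, he1, e0, he0, hsum⟩ := Submodule.mem_sup.mp this
  have he1' : mul a e1 = (1:ℝ) • e1 := Module.End.mem_eigenspace_iff.mp he1
  have he0' : mul a e0 = (0:ℝ) • e0 := Module.End.mem_eigenspace_iff.mp he0
  rw [← hsum, map_add, he1', he0'] at huv
  have h3 : e0 = (3:ℝ) • e1 := by
    linear_combination (norm := module) (-4 : ℝ) • huv
  have h4 : e1 = 0 := by
    have h5 : mul a e0 = (3:ℝ) • mul a e1 := by rw [h3, map_smul]
    rw [he1', he0'] at h5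
    have : (3:ℝ) • e1 = 0 := by rw [← one_smul ℝ e1, ← h5, zero_smul]
    have h6 : e1 = (1/3 : ℝ) • ((3:ℝ) • e1) := by rw [smul_smul]; norm_num
    rw [h6, this, smul_zero]
  rw [← hsum, h3, h4]; simp

end aux

/-- Let V be a finite-dimensional real vector space with a commutative bilinear product and a positive-definite symmetric bilinear form that associates with the product and satisfies the Norton inequality (the Majorana setting of the definitions). Let X be a group of linear automorphisms of V in which every element squares to the identity, and suppose every non-identity element x of X is a Majorana involution with an axial vector a(x) of squared length 1, such that for any two distinct non-identity x, y the product a(x) ∘ a(y) equals (1/8)(a(x) + a(y) − a(xy)) (the dihedral subalgebra of type 2A whose third axis belongs to the involution xy). Then X has order at most 4. -/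
theorem result {V : Type*} [AddCommGroup V] [Module ℝ V] [FiniteDimensional ℝ V] (mul : V →ₗ[ℝ] V →ₗ[ℝ] V) (B : LinearMap.BilinForm ℝ V) (hV : Cfsg.Axial.IsMajoranaAmbient mul B) (X : Subgroup (V ≃ₗ[ℝ] V)) (hX : ∀ x ∈ X, x * x = 1) (ax : (V ≃ₗ[ℝ] V) → V) (hax : ∀ x ∈ X, x ≠ 1 → Cfsg.Axial.IsMajoranaPair mul B x (ax x)) (h1 : ∀ x ∈ X, x ≠ 1 → B (ax x) (ax x) = 1) (h2A : ∀ x ∈ X, ∀ y ∈ X, x ≠ 1 → y ≠ 1 → x ≠ y → mul (ax x) (ax y) = (1 / 8 : ℝ) • (ax x + ax y - ax (x * y))) : Nat.card ↥X ≤ 4 := by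
  obtain ⟨hcomm, hBsymm, hBpos, hBassoc, _⟩ := hV
  have hXc : ∀ s ∈ X, ∀ t ∈ X, s * t = t * s := by
    intro s hs t ht
    have hs' : s⁻¹ = s := inv_eq_of_mul_eq_one_left (hX s hs)
    have ht' : t⁻¹ = t := inv_eq_of_mul_eq_one_left (hX t ht)
    have hts' : (t * s)⁻¹ = t * s := inv_eq_of_mul_eq_one_left (hX _ (X.mul_mem ht hs))
    calc s * t = s⁻¹ * t⁻¹ := by rw [hs', ht']
      _ = (t * s)⁻¹ := (mul_inv_rev t s).symm
      _ = t * s := hts'
  -- the 2A product with a normal form for the third involution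
  have P : ∀ s ∈ X, ∀ t ∈ X, ∀ r, s * t = r → s ≠ 1 → t ≠ 1 → r ≠ 1 →
      mul (ax s) (ax t) = (1 / 8 : ℝ) • (ax s + ax t - ax r) := by
    intro s hs t ht r hr hs1 ht1 hr1
    have hst : s ≠ t := by
      intro h
      apply hr1
      rw [← hr, h]
      exact hX t ht
    rw [← hr]
    exact h2A s hs t ht hs1 ht1 hst
  have hB8 : ∀ s ∈ X, ∀ t ∈ X, s ≠ 1 → t ≠ 1 → s ≠ t → B (ax s) (ax t) = 1 / 8 := by
    intro s hs t ht hs1 ht1 hst
    have hstX : s * t ∈ X := X.mul_mem hs ht
    have hst1 : s * t ≠ 1 := by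
      intro h
      apply hst
      exact (mul_left_cancel (h.trans (hX s hs).symm)).symm
    have hsst' : s * (s * t) = t := by rw [← mul_assoc, hX s hs, one_mul]
    have idem : mul (ax s) (ax s) = ax s := (hax s hs hs1).2.2.1.1.2.1
    have e1 := P s hs t ht (s * t) rfl hs1 ht1 hst1
    have e2 := P s hs (s * t) hstX t hsst' hs1 hst1 ht1
    have a1 := hBassoc (ax s) (ax s) (ax t)
    have a2 := hBassoc (ax s) (ax s) (ax (s * t))
    rw [idem, e1] at a1
    rw [idem, e2] at a2
    simp only [map_smul, map_add, map_sub, smul_eq_mul, h1 s hs hs1] at a1 a2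
    linarith
  by_contra hcard
  push Not at hcard
  have key : ∀ s : Finset (V ≃ₗ[ℝ] V), s.card ≤ 4 → ∃ a ∈ X, a ∉ s := by
    intro s hs
    by_contra hcon
    push Not at hcon
    have hle : Nat.card X ≤ Nat.card s :=
      Nat.card_le_card_of_injective (fun a => (⟨a.1, hcon a.1 a.2⟩ : s))
        (fun a b hab => Subtype.ext (by simpa using congrArg Subtype.val hab))
    have hsc : Nat.card s = s.card := by rw [Nat.card_eq_fintype_card, Fintype.card_coe]
    omega
  classical
  obtain ⟨x, hx, hx'⟩ := key {1} (by simp)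
  obtain ⟨y, hy, hy'⟩ := key {1, x} (Finset.card_le_two.trans (by norm_num))
  obtain ⟨z, hz, hz'⟩ := key {1, x, y, x * y} Finset.card_le_four
  simp only [Finset.mem_insert, Finset.mem_singleton, not_or] at hx' hy' hz'
  obtain ⟨hy1, hyx⟩ := hy'
  obtain ⟨hz1, hzx, hzy, hzxy⟩ := hz'
  have xx := hX x hx
  have yy := hX y hy
  have zz := hX z hz
  have xx' : ∀ r, x * (x * r) = r := fun r => by rw [← mul_assoc, xx, one_mul]
  have yy' : ∀ r, y * (y * r) = r := fun r => by rw [← mul_assoc, yy, one_mul]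
  have zz' : ∀ r, z * (z * r) = r := fun r => by rw [← mul_assoc, zz, one_mul]
  have cyx : y * x = x * y := hXc y hy x hx
  have czx : z * x = x * z := hXc z hz x hx
  have czy : z * y = y * z := hXc z hz y hy
  have cyx' : ∀ r, y * (x * r) = x * (y * r) := fun r => by rw [← mul_assoc, cyx, mul_assoc]
  have czx' : ∀ r, z * (x * r) = x * (z * r) := fun r => by rw [← mul_assoc, czx, mul_assoc]
  have czy' : ∀ r, z * (y * r) = y * (z * r) := fun r => by rw [← mul_assoc, czy, mul_assoc]
  have bxy : x * y ≠ 1 := fun h => hyx (mul_left_cancel (h.trans xx.symm))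
  have bxz : x * z ≠ 1 := fun h => hzx (mul_left_cancel (h.trans xx.symm))
  have byz : y * z ≠ 1 := fun h => hzy (mul_left_cancel (h.trans yy.symm))
  have hxyX : x * y ∈ X := X.mul_mem hx hy
  have hxzX : x * z ∈ X := X.mul_mem hx hz
  have hyzX : y * z ∈ X := X.mul_mem hy hz
  have hxyzX : x * (y * z) ∈ X := X.mul_mem hx hyzX
  have bxyz : x * (y * z) ≠ 1 := by
    intro h
    apply hzxy
    rw [← mul_assoc] at h
    exact mul_left_cancel (h.trans (hX _ hxyX).symm)
  have P12 := P x hx y hy (x * y) rfl hx' hy1 bxy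
  have P13 := P x hx (x * y) hxyX y (xx' y) hx' bxy hy1
  have P14 := P x hx z hz (x * z) rfl hx' hz1 bxz
  have P15 := P x hx (x * z) hxzX z (xx' z) hx' bxz hz1
  have P16 := P x hx (y * z) hyzX (x * (y * z)) rfl hx' byz bxyz
  have P17 := P x hx (x * (y * z)) hxyzX (y * z) (xx' _) hx' bxyz byz
  have P24 := P y hy z hz (y * z) rfl hy1 hz1 byz
  have P25 := P y hy (x * z) hxzX (x * (y * z)) (cyx' z) hy1 bxz bxyz
  have P34 := P (x * y) hxyX z hz (x * (y * z)) (mul_assoc x y z) bxy hz1 bxyz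
  have P35 := P (x * y) hxyX (x * z) hxzX (y * z)
    (by simp only [mul_assoc, cyx', xx']) bxy bxz byz
  have hu : mul (ax x) (ax y - ax (x * y)) = (1 / 4 : ℝ) • (ax y - ax (x * y)) := by
    rw [map_sub, P12, P13]; module
  have hv : mul (ax x) (ax z - ax (x * z)) = (1 / 4 : ℝ) • (ax z - ax (x * z)) := by
    rw [map_sub, P14, P15]; module
  have hw : mul (ax x) (ax (y * z) - ax (x * (y * z)))
      = (1 / 4 : ℝ) • (ax (y * z) - ax (x * (y * z))) := by
    rw [map_sub, P16, P17]; module
  have huv : mul (ax y - ax (x * y)) (ax z - ax (x * z))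
      = (-1 / 4 : ℝ) • (ax (y * z) - ax (x * (y * z))) := by
    simp only [map_sub, LinearMap.sub_apply]
    rw [P24, P25, P34, P35]; module
  have h0 := quarter_fusion mul (ax x) _ _ (hax x hx hx').2.2.1 hu hv
    (by rw [huv, map_smul, hw, smul_comm])
  rw [huv] at h0
  have h67 : ax (y * z) = ax (x * (y * z)) :=
    sub_eq_zero.mp ((smul_eq_zero.mp h0).resolve_left (by norm_num))
  have hne : y * z ≠ x * (y * z) := by
    intro h
    apply hx'
    exact (mul_right_cancel ((one_mul (y * z)).trans h)).symm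
  have h8 := hB8 (y * z) hyzX (x * (y * z)) hxyzX byz bxyz hne
  rw [← h67, h1 (y * z) hyzX byz] at h8
  norm_num at h8

end Cfsg.Agent.S5543
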