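import Cfsg.Statements.S5545

set_option autoImplicit false
open Cfsg Cfsg.Axial

namespace Cfsg.Agent.S5545

section
variable {V : Type*} [AddCommGroup V] [Module ℝ V]


theorem mem_eigen_iff (mul : V →ₗ[ℝ] V →ₗ[ℝ] V) (a v : V) (c : ℝ) :
    v ∈ eigen mul a c ↔ mul a v = c • v := by
  unfold eigen; exact Module.End.mem_eigenspace_iff

theorem eigen_le_eigenSum (mul : V →ₗ[ℝ] V →ₗ[ℝ] V) (a : V) (S : Set ℝ) (c : ℝ) (hc : c ∈ S) :
    eigen mul a c ≤ eigenSum mul a S := by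
  unfold eigenSum
  exact le_iSup₂ (f := fun c (_ : c ∈ S) => eigen mul a c) c hc

theorem law00 : monsterLaw (1 / 4 : ℝ) (1 / 32) 0 0 = {0} := by
  unfold monsterLaw; norm_num

theorem lawaa : monsterLaw (1 / 4 : ℝ) (1 / 32) (1 / 4) (1 / 4) = {1, 0} := by
  unfold monsterLaw; norm_num

theorem law0a : monsterLaw (1 / 4 : ℝ) (1 / 32) 0 (1 / 4) = {1 / 4} := by
  unfold monsterLaw; norm_num

theorem eigenSum_singleton (mul : V →ₗ[ℝ] V →ₗ[ℝ] V) (a : V) (c : ℝ) :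
    eigenSum mul a {c} = eigen mul a c := by
  unfold eigenSum; simp

theorem eigenSum_pair (mul : V →ₗ[ℝ] V →ₗ[ℝ] V) (a : V) (c d : ℝ) :
    eigenSum mul a {c, d} = eigen mul a c ⊔ eigen mul a d := by
  unfold eigenSum; rw [iSup_insert, iSup_singleton]

theorem eigenSum_spec (mul : V →ₗ[ℝ] V →ₗ[ℝ] V) (a : V) :
    eigenSum mul a majoranaSpectrum =
      eigen mul a 1 ⊔ (eigen mul a 0 ⊔ (eigen mul a (1/4) ⊔ eigen mul a (1/32))) := by
  unfold eigenSum majoranaSpectrum; rw [iSup_insert, iSup_insert, iSup_insert, iSup_singleton]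

theorem decomp (mul : V →ₗ[ℝ] V →ₗ[ℝ] V) (B : LinearMap.BilinForm ℝ V) (μ : V ≃ₗ[ℝ] V) (a b : V)
    (hpair : IsMajoranaPair mul B μ a) (hfix : μ b = b) :
    ∃ (lam p : ℝ) (b0 bα q0 : V), b = lam • a + b0 + bα ∧ mul a b0 = 0 ∧
      mul a bα = (1/4 : ℝ) • bα ∧ mul a (mul b0 b0) = 0 ∧
      mul a (mul b0 bα) = (1/4 : ℝ) • mul b0 bα ∧ mul bα bα = p • a + q0 ∧ mul a q0 = 0 := by
  obtain ⟨-, -, ⟨⟨-, -, htop, hfus⟩, hprim⟩, ⟨hfixS, hneg⟩⟩ := hpair
  have hS0 : (0 : ℝ) ∈ majoranaSpectrum := by unfold majoranaSpectrum; simp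
  have hSα : (1/4 : ℝ) ∈ majoranaSpectrum := by unfold majoranaSpectrum; simp
  have hb : b ∈ eigenSum mul a majoranaSpectrum := by rw [htop]; trivial
  rw [eigenSum_spec] at hb
  obtain ⟨b1, hb1, r1, hr1, rfl⟩ := Submodule.mem_sup.mp hb
  obtain ⟨b0, hb0, r2, hr2, rfl⟩ := Submodule.mem_sup.mp hr1
  obtain ⟨bα, hbα, bβ, hbβ, rfl⟩ := Submodule.mem_sup.mp hr2
  have hμ1 : μ b1 = b1 := hfixS b1 (eigen_le_eigenSum mul a _ 1 (by simp) hb1)
  have hμ0 : μ b0 = b0 := hfixS b0 (eigen_le_eigenSum mul a _ 0 (by simp) hb0)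
  have hμα : μ bα = bα := hfixS bα (eigen_le_eigenSum mul a _ (1/4) (by simp) hbα)
  have hμβ : μ bβ = -bβ := hneg bβ hbβ
  have hβ0 : bβ = 0 := by
    have h := hfix
    rw [map_add, map_add, map_add, hμ1, hμ0, hμα, hμβ] at h
    have h2 : -bβ = bβ := by
      have := add_left_cancel (add_left_cancel (add_left_cancel h))
      exact this
    have h3 : (2 : ℝ) • bβ = 0 := by
      rw [two_smul]; nth_rewrite 1 [← h2]; exact neg_add_cancel bβ
    rcases smul_eq_zero.mp h3 with h4 | h4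
    · norm_num at h4
    · exact h4
  subst hβ0
  rw [hprim] at hb1
  obtain ⟨lam, rfl⟩ := Submodule.mem_span_singleton.mp hb1
  have h00 := hfus 0 hS0 0 hS0 b0 hb0 b0 hb0
  rw [law00, eigenSum_singleton, mem_eigen_iff, zero_smul] at h00
  have h0α := hfus 0 hS0 (1/4) hSα b0 hb0 bα hbα
  rw [law0a, eigenSum_singleton, mem_eigen_iff] at h0α
  have hαα := hfus (1/4) hSα (1/4) hSα bα hbα bα hbα
  rw [lawaa, eigenSum_pair] at hαα
  obtain ⟨y, hy, q0, hq0, hyq⟩ := Submodule.mem_sup.mp hαα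
  rw [hprim] at hy
  obtain ⟨p, rfl⟩ := Submodule.mem_span_singleton.mp hy
  rw [mem_eigen_iff, zero_smul] at hb0 hq0
  rw [mem_eigen_iff] at hbα
  refine ⟨lam, p, b0, bα, q0, ?_, hb0, hbα, h00, h0α, hyq.symm, hq0⟩
  rw [add_zero, add_assoc]

theorem eigen_map (mul : V →ₗ[ℝ] V →ₗ[ℝ] V) (g : V ≃ₗ[ℝ] V)
    (hg : ∀ u v, g (mul u v) = mul (g u) (g v)) (a : V) (c : ℝ) :
    eigen mul (g a) c = (eigen mul a c).map (g : V →ₗ[ℝ] V) := by
  ext v
  rw [Submodule.mem_map, mem_eigen_iff]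
  constructor
  · intro h
    refine ⟨g.symm v, ?_, by simp⟩
    rw [mem_eigen_iff]
    apply g.injective
    rw [hg, g.apply_symm_apply, h, map_smul, g.apply_symm_apply]
  · rintro ⟨w, hw, rfl⟩
    rw [mem_eigen_iff] at hw
    show mul (g a) (g w) = c • g w
    rw [← hg, hw, map_smul]

theorem eigenSum_map (mul : V →ₗ[ℝ] V →ₗ[ℝ] V) (g : V ≃ₗ[ℝ] V)
    (hg : ∀ u v, g (mul u v) = mul (g u) (g v)) (a : V) (S : Set ℝ) :
    eigenSum mul (g a) S = (eigenSum mul a S).map (g : V →ₗ[ℝ] V) := by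
  unfold eigenSum
  simp_rw [eigen_map mul g hg, Submodule.map_iSup]

theorem pair_transport (mul : V →ₗ[ℝ] V →ₗ[ℝ] V) (B : LinearMap.BilinForm ℝ V)
    (μ g : V ≃ₗ[ℝ] V) (a : V) (hpair : IsMajoranaPair mul B μ a)
    (hg : ∀ u v, g (mul u v) = mul (g u) (g v)) (hcomm : ∀ v, μ (g v) = g (μ v)) :
    IsMajoranaPair mul B μ (g a) := by
  obtain ⟨h1, h2, ⟨⟨hne, hidem, htop, hfus⟩, hprim⟩, ⟨hfixS, hneg⟩⟩ := hpair
  refine ⟨h1, h2, ⟨⟨?_, ?_, ?_, ?_⟩, ?_⟩, ⟨?_, ?_⟩⟩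
  · intro h
    apply hne
    apply g.injective
    rw [h, map_zero]
  · rw [← hg, hidem]
  · rw [eigenSum_map mul g hg, htop, Submodule.map_top]
    exact LinearMap.range_eq_top.mpr g.surjective
  · intro c hc d hd u hu v hv
    rw [eigen_map mul g hg] at hu hv
    obtain ⟨u', hu', rfl⟩ := hu
    obtain ⟨v', hv', rfl⟩ := hv
    rw [eigenSum_map mul g hg]
    refine ⟨mul u' v', hfus c hc d hd u' hu' v' hv', ?_⟩
    exact hg u' v'
  · rw [eigen_map mul g hg, hprim, Submodule.map_span, Set.image_singleton]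
    rfl
  · intro v hv
    rw [eigenSum_map mul g hg] at hv
    obtain ⟨w, hw, rfl⟩ := hv
    show μ (g w) = g w
    rw [hcomm]
    exact congrArg g (hfixS w hw)
  · intro v hv
    rw [eigen_map mul g hg] at hv
    obtain ⟨w, hw, rfl⟩ := hv
    show μ (g w) = -(g w)
    rw [hcomm]
    have := hneg w hw
    have h3 : (μ : V →ₗ[ℝ] V) w = μ w := rfl
    rw [h3] at this
    rw [this, map_neg]


theorem key_algebra (mul : V →ₗ[ℝ] V →ₗ[ℝ] V) (hcomm : IsCommMul mul)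
    (a b b0 bα q0 : V) (lam p : ℝ)
    (haa : mul a a = a) (hbb : mul b b = b)
    (hdec : b = lam • a + b0 + bα)
    (h0 : mul a b0 = 0) (hα : mul a bα = (1/4 : ℝ) • bα)
    (h00 : mul a (mul b0 b0) = 0)
    (h0α : mul a (mul b0 bα) = (1/4 : ℝ) • mul b0 bα)
    (hαα : mul bα bα = p • a + q0) (hq0 : mul a q0 = 0) :
    mul a (mul a b) = (1/4 : ℝ) • mul a b + (3 * lam / 4) • a ∧
    (4 : ℝ) • mul (mul a b) (mul a b) =
      mul b (mul a b) + (lam - 1/2) • mul a b + (2 * lam^2 + lam / 2) • a := by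
  have h0' : mul b0 a = 0 := by rw [hcomm]; exact h0
  have hα' : mul bα a = (1/4 : ℝ) • bα := by rw [hcomm]; exact hα
  have hsw : mul bα b0 = mul b0 bα := hcomm _ _
  set s := mul b0 bα with hs
  set r0 := mul b0 b0 with hr0
  have hx : mul a b = lam • a + (1/4 : ℝ) • bα := by
    rw [hdec]
    simp only [map_add, map_smul, haa, h0, hα]
    module
  -- (*) : b = b * b expanded
  have hstar : lam • a + b0 + bα = (lam^2 + p) • a + r0 + q0 + (lam / 2) • bα + (2 : ℝ) • s := by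
    have := hbb
    rw [hdec] at this
    simp only [map_add, map_smul, LinearMap.add_apply, LinearMap.smul_apply, haa, h0, hα, h0', hα',
      hsw, hαα, ← hs, ← hr0] at this
    rw [← this]
    module
  have hstar2 : lam • a + (1/4 : ℝ) • bα = (lam^2 + p) • a + (lam / 2 * (1/4)) • bα + (2 * (1/4) : ℝ) • s := by
    have := congrArg (mul a) hstar
    simp only [map_add, map_smul, haa, h0, hα, h00, h0α, hq0] at this
    rw [show lam • a + (1/4 : ℝ) • bα = lam • a + 0 + (1/4 : ℝ) • bα by module, this]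
    module
  have hstar3 : lam • a + (1/16 : ℝ) • bα = (lam^2 + p) • a + (lam / 2 * (1/16)) • bα + (2 * (1/16) : ℝ) • s := by
    have := congrArg (mul a) hstar2
    simp only [map_add, map_smul, haa, h0, hα, h00, h0α, hq0] at this
    rw [show lam • a + (1/16 : ℝ) • bα = lam • a + (1/4 : ℝ) • (1/4 : ℝ) • bα by module, this]
    module
  have hsα : s = ((1/2) * (1 - lam / 2) : ℝ) • bα := by
    have h1 : (3/16 : ℝ) • bα = (lam / 2 * (3/16)) • bα + (2 * (3/16) : ℝ) • s := by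
      have e : (3/16 : ℝ) • bα = (lam • a + (1/4 : ℝ) • bα) - (lam • a + (1/16 : ℝ) • bα) := by
        module
      rw [e, hstar2, hstar3]; module
    have h2 : s = (8/3 : ℝ) • ((3/16 : ℝ) • bα - (lam / 2 * (3/16)) • bα) := by
      rw [h1]; module
    rw [h2]; module
  refine ⟨?_, ?_⟩
  · rw [hx]
    simp only [map_add, map_smul, haa, hα]
    module
  · rw [hx, hdec]
    simp only [map_add, map_smul, LinearMap.add_apply, LinearMap.smul_apply, haa, h0, hα, h0', hα',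
      hsw, hαα, ← hs, ← hr0]
    rw [hsα]
    module


theorem lam_eq (mul : V →ₗ[ℝ] V →ₗ[ℝ] V) (B : LinearMap.BilinForm ℝ V)
    (hassoc : ∀ u v w : V, B u (mul v w) = B (mul u v) w)
    (a b b0 bα : V) (lam : ℝ) (haa : mul a a = a) (hn : B a a = 1)
    (hdec : b = lam • a + b0 + bα)
    (h0 : mul a b0 = 0) (hα : mul a bα = (1/4 : ℝ) • bα) : B a b = lam := by
  have e0 : B a b0 = 0 := by
    have := hassoc a a b0
    rw [haa, h0, map_zero] at this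
    exact this.symm
  have eα : B a bα = 0 := by
    have := hassoc a a bα
    rw [haa, hα, map_smul, smul_eq_mul] at this
    linarith
  rw [hdec, map_add, map_add, map_smul, hn, e0, eα, smul_eq_mul]
  ring

theorem conclude (mul : V →ₗ[ℝ] V →ₗ[ℝ] V) (B : LinearMap.BilinForm ℝ V)
    (hV : IsMajoranaAmbient mul B) (a b : V) (lam : ℝ)
    (haa : mul a a = a) (hbb : mul b b = b) (hlam : B a b = lam) (hne : a ≠ b)
    (A1 : mul a (mul a b) = (1/4 : ℝ) • mul a b + (3 * lam / 4) • a)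
    (A2 : (4 : ℝ) • mul (mul a b) (mul a b) =
      mul b (mul a b) + (lam - 1/2) • mul a b + (2 * lam^2 + lam / 2) • a)
    (B1 : mul b (mul a b) = (1/4 : ℝ) • mul a b + (3 * lam / 4) • b)
    (B2 : (4 : ℝ) • mul (mul a b) (mul a b) =
      mul a (mul a b) + (lam - 1/2) • mul a b + (2 * lam^2 + lam / 2) • b) :
    (B a b = 0 ∧ mul a b = 0) ∨ (B a b = 1 / 8 ∧ mul (a + b - (8 : ℝ) • mul a b) (a + b - (8 : ℝ) • mul a b) = a + b - (8 : ℝ) • mul a b ∧ mul a (a + b - (8 : ℝ) • mul a b) = (1 / 8 : ℝ) • (a + (a + b - (8 : ℝ) • mul a b) - b) ∧ mul b (a + b - (8 : ℝ) • mul a b) = (1 / 8 : ℝ) • (b + (a + b - (8 : ℝ) • mul a b) - a)) := by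
  obtain ⟨hcomm, hsymm, hpos, hassoc, -⟩ := hV
  set x := mul a b with hx
  have hba : mul b a = x := hcomm b a
  have hxa : mul x a = mul a x := hcomm x a
  have hxb : mul x b = mul b x := hcomm x b
  have hkey : (2 * lam^2 - lam / 4) • (a - b) = 0 := by
    have e : (2 * lam^2 - lam / 4) • (a - b) =
        (mul b x + (lam - 1/2) • x + (2 * lam^2 + lam / 2) • a) -
        (mul a x + (lam - 1/2) • x + (2 * lam^2 + lam / 2) • b) := by
      rw [A1, B1]; module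
    rw [e, ← A2, ← B2, sub_self]
  have hlamcases : lam = 0 ∨ lam = 1/8 := by
    rcases smul_eq_zero.mp hkey with h | h
    · have : lam * (8 * lam - 1) = 0 := by nlinarith
      rcases mul_eq_zero.mp this with h1 | h1
      · exact Or.inl h1
      · right; linarith
    · exact absurd (sub_eq_zero.mp h) hne
  rcases hlamcases with h0 | h8
  · left
    refine ⟨by rw [hlam, h0], ?_⟩
    by_contra hx0
    have hp := hpos x hx0
    have e1 : B x x = B a (mul b x) := by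
      rw [hassoc a b x]
    have e2 : B a x = lam := by
      rw [hx, hassoc a a b, haa, hlam]
    rw [e1, B1, h0] at hp
    simp only [map_add, map_smul, smul_eq_mul, e2, h0] at hp
    norm_num at hp
  · right
    refine ⟨by rw [hlam, h8], ?_, ?_, ?_⟩
    · have hxx : mul x x = (1/4 : ℝ) • (mul b x + (lam - 1/2) • x + (2 * lam^2 + lam / 2) • a) := by
        rw [← A2]; module
      simp only [map_add, map_sub, map_smul, LinearMap.add_apply, LinearMap.sub_apply,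
        LinearMap.smul_apply, haa, hbb, hba, hxa, hxb, ← hx, hxx, A1, B1, h8]
      module
    · simp only [map_add, map_sub, map_smul, haa, ← hx, A1, h8]
      module
    · simp only [map_add, map_sub, map_smul, hbb, hba, B1, h8]
      module

end

theorem result {V : Type*} [AddCommGroup V] [Module ℝ V] [FiniteDimensional ℝ V] (mul : V →ₗ[ℝ] V →ₗ[ℝ] V) (B : LinearMap.BilinForm ℝ V) (hV : Cfsg.Axial.IsMajoranaAmbient mul B) (μ₀ μ₁ : V ≃ₗ[ℝ] V) (a₀ a₁ : V) (h₀ : Cfsg.Axial.IsMajoranaPair mul B μ₀ a₀) (h₁ : Cfsg.Axial.IsMajoranaPair mul B μ₁ a₁) (hu₀ : ∀ a : V, Cfsg.Axial.IsMajoranaPair mul B μ₀ a → a = a₀) (hu₁ : ∀ a : V, Cfsg.Axial.IsMajoranaPair mul B μ₁ a → a = a₁) (hn₀ : B a₀ a₀ = 1) (hn₁ : B a₁ a₁ = 1) (hc : μ₀ * μ₁ = μ₁ * μ₀) (hne : a₀ ≠ a₁) : (B a₀ a₁ = 0 ∧ mul a₀ a₁ = 0) ∨ (B a₀ a₁ = 1 / 8 ∧ mul (a₀ + a₁ - (8 : ℝ) • mul a₀ a₁) (a₀ + a₁ - (8 : ℝ) • mul a₀ a₁) = a₀ + a₁ - (8 : ℝ) • mul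 a₀ a₁ ∧ mul a₀ (a₀ + a₁ - (8 : ℝ) • mul a₀ a₁) = (1 / 8 : ℝ) • (a₀ + (a₀ + a₁ - (8 : ℝ) • mul a₀ a₁) - a₁) ∧ mul a₁ (a₀ + a₁ - (8 : ℝ) • mul a₀ a₁) = (1 / 8 : ℝ) • (a₁ + (a₀ + a₁ - (8 : ℝ) • mul a₀ a₁) - a₀)) := by
  have hcomm01 : ∀ v, μ₀ (μ₁ v) = μ₁ (μ₀ v) := fun v => DFunLike.congr_fun hc v
  have hmul := hV.1
  have hsymm := hV.2.1
  have hassoc := hV.2.2.2.1
  -- μ₀ fixes a₁, μ₁ fixes a₀
  have hfix1 : μ₀ a₁ = a₁ :=
    hu₁ _ (pair_transport mul B μ₁ μ₀ a₁ h₁ h₀.1 (fun v => (hcomm01 v).symm))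
  have hfix0 : μ₁ a₀ = a₀ :=
    hu₀ _ (pair_transport mul B μ₀ μ₁ a₀ h₀ h₁.1 (fun v => hcomm01 v))
  have haa : mul a₀ a₀ = a₀ := h₀.2.2.1.1.2.1
  have hbb : mul a₁ a₁ = a₁ := h₁.2.2.1.1.2.1
  obtain ⟨lam, p, b0, bα, q0, hdec, e0, eα, e00, e0α, eαα, eq0⟩ := decomp mul B μ₀ a₀ a₁ h₀ hfix1
  obtain ⟨lam', p', b0', bα', q0', hdec', e0', eα', e00', e0α', eαα', eq0'⟩ :=
    decomp mul B μ₁ a₁ a₀ h₁ hfix0
  have hlam : B a₀ a₁ = lam := lam_eq mul B hassoc a₀ a₁ b0 bα lam haa hn₀ hdec e0 eα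
  have hlam' : B a₁ a₀ = lam' := lam_eq mul B hassoc a₁ a₀ b0' bα' lam' hbb hn₁ hdec' e0' eα'
  have hll : lam' = lam := by rw [← hlam', ← hlam, hsymm]
  subst hll
  obtain ⟨A1, A2⟩ := key_algebra mul hmul a₀ a₁ b0 bα q0 lam' p haa hbb hdec e0 eα e00 e0α eαα eq0
  obtain ⟨B1, B2⟩ := key_algebra mul hmul a₁ a₀ b0' bα' q0' lam' p' hbb haa hdec' e0' eα' e00' e0α' eαα' eq0'
  rw [hmul a₁ a₀] at B1 B2
  exact conclude mul B hV a₀ a₁ lam' haa hbb hlam hne A1 A2 B1 B2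

end Cfsg.Agent.S5545
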