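import Cfsg.Statements.S5546
import Cfsg.Agent.Lib.Helper94.LeechShort

set_option autoImplicit false
open Cfsg Cfsg.Spor

namespace Cfsg.Agent.S5546

abbrev F := ZMod 13
abbrev W := GolayPt → F

instance : Fact (Nat.Prime 13) := ⟨by norm_num⟩

/-- coordinatewise reduction mod 13 -/
def red : (GolayPt → ℤ) →+ W where
  toFun v := fun i => ((v i : ℤ) : F)
  map_zero' := by ext i; simp
  map_add' := by intro v w; ext i; simp

theorem red_apply (v : GolayPt → ℤ) (i : GolayPt) : red v i = ((v i : ℤ) : F) := rfl

theorem eight_smul_mem (w : GolayPt → ℤ) : (8 : ℤ) • w ∈ leechLattice := by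
  apply AddSubgroup.subset_closure
  apply mem_leechSet_of_const_mod_four _ 0 0 (by decide)
  · intro i
    simp only [Pi.smul_apply, smul_eq_mul]
    exact (Int.modEq_zero_iff_dvd.mpr (Dvd.dvd.mul_right (by norm_num) _))
  · simp only [Pi.smul_apply, smul_eq_mul, ← Finset.mul_sum, mul_zero]
    exact Int.modEq_zero_iff_dvd.mpr (Dvd.intro _ rfl)

/-- integer lift of a vector mod 13 -/
def hat (w : W) : GolayPt → ℤ := fun i => ((w i).val : ℤ)

/-- canonical lift to the lattice -/
def lift (w : W) : leechLattice := ⟨(8 : ℤ) • ((5 : ℤ) • hat w), eight_smul_mem _⟩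

theorem red_lift (w : W) : red (lift w : GolayPt → ℤ) = w := by
  ext i
  simp only [lift, red_apply, Pi.smul_apply, smul_eq_mul, hat]
  push_cast
  have : (8 : F) * 5 = 1 := by decide
  rw [← mul_assoc, this, one_mul]
  simp

theorem mem_of_thirteen_smul_mem (y : GolayPt → ℤ) (h : (13 : ℤ) • y ∈ leechLattice) :
    y ∈ leechLattice := by
  have h8 := eight_smul_mem y
  have : y = (5 : ℤ) • ((13 : ℤ) • y) - (8 : ℤ) • ((8 : ℤ) • y) := by
    ext i; simp only [Pi.sub_apply, Pi.smul_apply, smul_eq_mul]; ring
  rw [this]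
  exact leechLattice.sub_mem (leechLattice.zsmul_mem h 5) (leechLattice.zsmul_mem h8 8)

theorem exists_thirteen_smul_of_red_eq_zero (v : GolayPt → ℤ) (h : red v = 0) :
    ∃ y : GolayPt → ℤ, v = (13 : ℤ) • y := by
  have h' : ∀ i, (13 : ℤ) ∣ v i := by
    intro i
    have := congrFun h i
    rw [red_apply] at this
    exact (ZMod.intCast_zmod_eq_zero_iff_dvd (v i) 13).mp this
  choose y hy using h'
  exact ⟨y, by ext i; simp [hy i]⟩

/-- the additive hom underlying an element of `Co0` -/
def addHom (g : Equiv.Perm leechLattice) (hg : g ∈ Co0) : leechLattice →+ leechLattice :=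
  AddMonoidHom.mk' g hg.1

theorem addHom_apply (g : Equiv.Perm leechLattice) (hg : g ∈ Co0) (v : leechLattice) :
    addHom g hg v = g v := rfl

/-- reduction of a lattice vector -/
def redL : leechLattice →+ W := red.comp leechLattice.subtype

theorem redL_apply (v : leechLattice) : redL v = red (v : GolayPt → ℤ) := rfl

theorem redL_lift (w : W) : redL (lift w) = w := red_lift w

/-- lattice vectors reducing to zero are 13 times a lattice vector -/
theorem exists_of_redL_eq_zero (v : leechLattice) (h : redL v = 0) :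
    ∃ y : leechLattice, v = (13 : ℤ) • y := by
  obtain ⟨y, hy⟩ := exists_thirteen_smul_of_red_eq_zero (v : GolayPt → ℤ) h
  have hy' : y ∈ leechLattice := mem_of_thirteen_smul_mem y (hy ▸ v.2)
  exact ⟨⟨y, hy'⟩, Subtype.ext hy⟩

theorem redL_thirteen (y : leechLattice) : redL ((13 : ℤ) • y) = 0 := by
  rw [map_zsmul]
  ext i
  simp only [Pi.smul_apply, Pi.zero_apply, zsmul_eq_mul]
  have : ((13 : ℤ) : F) = 0 := by decide
  rw [this, zero_mul]

/-- the induced map mod 13 -/
def T (g : Equiv.Perm leechLattice) (w : W) : W := redL (g (lift w))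

theorem key (g : Equiv.Perm leechLattice) (hg : g ∈ Co0) (v : leechLattice) :
    redL (g v) = T g (redL v) := by
  unfold T
  have h0 : redL (v - lift (redL v)) = 0 := by
    rw [map_sub, redL_lift, sub_self]
  obtain ⟨y, hy⟩ := exists_of_redL_eq_zero _ h0
  have hv : v = lift (redL v) + (13 : ℤ) • y := by rw [← hy]; abel
  have : g v = g (lift (redL v)) + (13 : ℤ) • g y := by
    conv_lhs => rw [hv]
    rw [← addHom_apply g hg, map_add, map_zsmul]
    rfl
  rw [this, map_add, redL_thirteen, add_zero]

theorem T_add (g : Equiv.Perm leechLattice) (hg : g ∈ Co0) (w w' : W) :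
    T g (w + w') = T g w + T g w' := by
  have h1 : redL (lift w + lift w') = w + w' := by rw [map_add, redL_lift, redL_lift]
  rw [← h1, ← key g hg, ← addHom_apply g hg, map_add, map_add]
  rfl

theorem T_one (w : W) : T 1 w = w := by
  unfold T; simp [redL_lift]

theorem T_mul (g h : Equiv.Perm leechLattice) (hg : g ∈ Co0) (w : W) :
    T (g * h) w = T g (T h w) := by
  show redL (g (h (lift w))) = T g (redL (h (lift w)))
  exact key g hg _


/-- the linear map induced mod 13 by an element of `Co0` -/
def Tlin (g : Equiv.Perm leechLattice) (hg : g ∈ Co0) : W →ₗ[F] W :=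
  (AddMonoidHom.mk' (T g) (T_add g hg)).toZModLinearMap 13

theorem Tlin_apply (g : Equiv.Perm leechLattice) (hg : g ∈ Co0) (w : W) : Tlin g hg w = T g w := rfl

/-- dot product mod 13 -/
def β (w w' : W) : F := ∑ i, w i * w' i

theorem β_redL (v v' : leechLattice) :
    β (redL v) (redL v') = ((dotInt (v : GolayPt → ℤ) (v' : GolayPt → ℤ) : ℤ) : F) := by
  unfold β dotInt
  push_cast
  rfl

theorem dot_preserved (g : Equiv.Perm leechLattice) (hg : g ∈ Co0) (v w : leechLattice) :
    dotInt ((g v : leechLattice) : GolayPt → ℤ) ((g w : leechLattice) : GolayPt → ℤ) =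
      dotInt (v : GolayPt → ℤ) (w : GolayPt → ℤ) := by
  have h1 := Cfsg.Agent.Lib.Helper94.sqNorm_add (v : GolayPt → ℤ) (w : GolayPt → ℤ)
  have h2 := Cfsg.Agent.Lib.Helper94.sqNorm_add ((g v : leechLattice) : GolayPt → ℤ)
    ((g w : leechLattice) : GolayPt → ℤ)
  have h3 : ((g v : leechLattice) : GolayPt → ℤ) + ((g w : leechLattice) : GolayPt → ℤ) =
      ((g (v + w) : leechLattice) : GolayPt → ℤ) := by
    rw [hg.1 v w]; rfl
  have h4 : ((v : GolayPt → ℤ) + (w : GolayPt → ℤ)) = ((v + w : leechLattice) : GolayPt → ℤ) := rfl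
  rw [h3, hg.2, hg.2, hg.2] at h2
  rw [h4] at h1
  linarith

theorem β_T (g : Equiv.Perm leechLattice) (hg : g ∈ Co0) (w w' : W) :
    β (T g w) (T g w') = β w w' := by
  unfold T
  rw [β_redL, dot_preserved g hg, ← β_redL, redL_lift, redL_lift]

/-- the reduction of the fixed vector -/
def ubar : W := redL leechU

theorem ubar_apply (p : GolayPt) : ubar p = if p = none ∨ p = some 0 then 4 else 0 := by
  show ((vecU p : ℤ) : F) = _
  unfold vecU
  split_ifs <;> simp

theorem β_ubar (w : W) : β ubar w = 4 * (w none + w (some 0)) := by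
  unfold β
  rw [Fintype.sum_option, Finset.sum_eq_single (0 : ZMod 23)]
  · rw [ubar_apply, ubar_apply]; simp; ring
  · intro b _ hb
    rw [ubar_apply]
    simp [hb]
  · intro h; exact absurd (Finset.mem_univ _) h

theorem T_ubar (g : Equiv.Perm leechLattice) (hg : g ∈ Co2) : T g ubar = ubar := by
  have hfix : g leechU = leechU := by
    have : g ∈ MulAction.stabilizer (Equiv.Perm leechLattice) leechU := hg.2
    exact MulAction.mem_stabilizer_iff.mp this
  unfold ubar
  rw [← key g hg.1, hfix]

/-- the functional cutting out the complement of `ubar` -/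
def φ : W →ₗ[F] F where
  toFun w := w none + w (some 0)
  map_add' := by intro x y; simp only [Pi.add_apply]; ring
  map_smul' := by intro c x; simp only [Pi.smul_apply, smul_eq_mul, RingHom.id_apply]; ring

theorem φ_apply (w : W) : φ w = w none + w (some 0) := rfl

theorem φ_T (g : Equiv.Perm leechLattice) (hg : g ∈ Co2) (w : W) : φ (T g w) = φ w := by
  have h := β_T g hg.1 ubar w
  rw [T_ubar g hg, β_ubar, β_ubar] at h
  have h4 : (4 : F) ≠ 0 := by decide
  exact mul_left_cancel₀ h4 h

/-- the 23-dimensional space -/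
abbrev P : Submodule F W := LinearMap.ker φ

theorem T_mem_P (g : Equiv.Perm leechLattice) (hg : g ∈ Co2) (w : W) (hw : w ∈ P) :
    Tlin g hg.1 w ∈ P := by
  rw [LinearMap.mem_ker] at hw ⊢
  rw [Tlin_apply, φ_T g hg, hw]

/-- the representation on `P` -/
def σ : ↥Co2 →* Module.End F P where
  toFun g := (Tlin g.1 g.2.1).restrict (T_mem_P g.1 g.2)
  map_one' := by
    ext w
    simp only [LinearMap.coe_restrict_apply, Tlin_apply]
    exact congrFun (T_one _) _
  map_mul' := by
    intro g h
    ext w
    simp only [LinearMap.coe_restrict_apply, Tlin_apply, Module.End.mul_apply]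
    exact congrFun (T_mul g.1 h.1 g.2.1 _) _


theorem φ_ubar : φ ubar = 8 := by
  rw [φ_apply, ubar_apply, ubar_apply]
  simp
  decide

theorem T_smul (g : Equiv.Perm leechLattice) (hg : g ∈ Co0) (c : F) (w : W) :
    T g (c • w) = c • T g w := by
  rw [← Tlin_apply g hg, map_smul, Tlin_apply]

theorem T_eq_self_of_σ (g : ↥Co2) (h : σ g = 1) (w : W) : T g.1 w = w := by
  set c : F := φ w * 5 with hc
  have h40 : (5 : F) * 8 = 1 := by decide
  have hw' : w - c • ubar ∈ P := by
    rw [LinearMap.mem_ker, map_sub, map_smul, φ_ubar, smul_eq_mul, hc, mul_assoc, h40, mul_one,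
      sub_self]
  have h1 : T g.1 (w - c • ubar) = w - c • ubar := by
    have := congrArg (fun f : Module.End F P => ((f ⟨_, hw'⟩ : P) : W)) h
    simpa [σ, Tlin_apply] using this
  have h2 : T g.1 (c • ubar) = c • ubar := by
    rw [T_smul g.1 g.2.1, T_ubar g.1 g.2]
  have h3 : w = (w - c • ubar) + c • ubar := by abel
  conv_lhs => rw [h3]
  rw [T_add g.1 g.2.1, h1, h2]
  abel

/-- the vectors `8 e_i` of the lattice -/
def E (i : GolayPt) : leechLattice := ⟨(8 : ℤ) • Pi.single i 1, eight_smul_mem _⟩

theorem E_apply (i j : GolayPt) : ((E i : leechLattice) : GolayPt → ℤ) j = if j = i then 8 else 0 := by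
  show ((8 : ℤ) • Pi.single i (1 : ℤ) : GolayPt → ℤ) j = _
  simp only [Pi.smul_apply, Pi.single_apply, smul_eq_mul]
  split_ifs <;> simp

theorem sqNorm_E (i : GolayPt) : sqNorm ((E i : leechLattice) : GolayPt → ℤ) = 64 := by
  unfold sqNorm
  rw [Finset.sum_eq_single i]
  · rw [E_apply]; simp
  · intro j _ hj; rw [E_apply]; simp [hj]
  · intro h; exact absurd (Finset.mem_univ _) h

theorem int_lemma (y : GolayPt → ℤ) (i : GolayPt) (hn : sqNorm y = 64)
    (hr : red y = red ((E i : leechLattice) : GolayPt → ℤ)) :
    y = ((E i : leechLattice) : GolayPt → ℤ) := by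
  have hle : ∀ j, y j ^ 2 ≤ 64 := by
    intro j
    rw [← hn]
    unfold sqNorm
    exact Finset.single_le_sum (f := fun j => y j ^ 2) (fun k _ => sq_nonneg (y k)) (Finset.mem_univ j)
  have hother : ∀ j, j ≠ i → y j = 0 := by
    intro j hj
    have h1 := congrFun hr j
    rw [red_apply, red_apply, E_apply, if_neg hj] at h1
    have h2 : (13 : ℤ) ∣ y j := by
      apply (ZMod.intCast_zmod_eq_zero_iff_dvd (y j) 13).mp
      simpa using h1
    obtain ⟨k, hk⟩ := h2
    have := hle j
    rw [hk] at this
    have hk0 : k = 0 := by nlinarith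
    rw [hk, hk0, mul_zero]
  have hsum : y i ^ 2 = 64 := by
    rw [← hn]
    unfold sqNorm
    rw [Finset.sum_eq_single i]
    · intro j _ hj; rw [hother j hj]; simp
    · intro h; exact absurd (Finset.mem_univ _) h
  have hi : y i = 8 := by
    have h1 := congrFun hr i
    rw [red_apply, red_apply, E_apply, if_pos rfl] at h1
    have h2 : (13 : ℤ) ∣ y i - 8 := by
      apply (ZMod.intCast_zmod_eq_zero_iff_dvd (y i - 8) 13).mp
      push_cast
      rw [h1]; simp
    have h3 : y i = 8 ∨ y i = -8 := by
      have : (y i - 8) * (y i + 8) = 0 := by nlinarith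
      rcases mul_eq_zero.mp this with h | h
      · left; linarith
      · right; linarith
    rcases h3 with h | h
    · exact h
    · exfalso; rw [h] at h2; norm_num at h2
  ext j
  rw [E_apply]
  by_cases hj : j = i
  · rw [if_pos hj, hj, hi]
  · rw [if_neg hj, hother j hj]

theorem eight_smul_eq_sum (v : leechLattice) :
    (8 : ℤ) • v = ∑ i, ((v : GolayPt → ℤ) i) • E i := by
  apply Subtype.ext
  ext j
  rw [AddSubgroup.coe_zsmul, AddSubgroup.val_finsetSum, Finset.sum_apply]
  simp only [AddSubgroup.coe_zsmul, Pi.smul_apply, E_apply, smul_eq_mul]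
  rw [Finset.sum_eq_single j]
  · simp; ring
  · intro i _ hij
    rw [if_neg (Ne.symm hij), mul_zero]
  · intro h; exact absurd (Finset.mem_univ _) h

theorem σ_injective : Function.Injective σ := by
  rw [injective_iff_map_eq_one]
  intro g hg
  have hT := T_eq_self_of_σ g hg
  have hE : ∀ i, g.1 (E i) = E i := by
    intro i
    apply Subtype.ext
    apply int_lemma
    · rw [g.2.1.2, sqNorm_E]
    · have := key g.1 g.2.1 (E i)
      rw [hT] at this
      exact this
  have hall : ∀ v : leechLattice, g.1 v = v := by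
    intro v
    have h8 : (8 : ℤ) • g.1 v = (8 : ℤ) • v := by
      conv_rhs => rw [eight_smul_eq_sum v]
      rw [← addHom_apply g.1 g.2.1, ← map_zsmul, eight_smul_eq_sum v, map_sum]
      apply Finset.sum_congr rfl
      intro i _
      rw [map_zsmul, addHom_apply, hE]
    apply Subtype.ext
    ext j
    have := congrFun (congrArg Subtype.val h8) j
    simp only [AddSubgroup.coe_zsmul, Pi.smul_apply, smul_eq_mul] at this
    linarith
  apply Subtype.ext
  exact Equiv.ext hall


theorem finrank_P : Module.finrank F P = 23 := by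
  have hsurj : LinearMap.range φ = ⊤ := by
    rw [LinearMap.range_eq_top]
    intro c
    refine ⟨Pi.single none c, ?_⟩
    rw [φ_apply]
    simp
  have h := LinearMap.finrank_range_add_finrank_ker φ
  rw [hsurj, finrank_top, Module.finrank_self, Module.finrank_pi] at h
  have hcard : Fintype.card GolayPt = 24 := by decide
  rw [hcard] at h
  show Module.finrank F ↥(LinearMap.ker φ) = 23
  omega

theorem main : ∃ f : ↥Co2 →* GL (Fin 23) (ZMod 13), Function.Injective f := by
  let b : Module.Basis (Fin 23) F P := Module.finBasisOfFinrankEq F P finrank_P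
  let e : Module.End F P ≃ₐ[F] Matrix (Fin 23) (Fin 23) F := LinearMap.toMatrixAlgEquiv b
  refine ⟨(Units.map e.toMulEquiv.toMonoidHom).comp σ.toHomUnits, ?_⟩
  intro g h hgh
  apply σ_injective
  have h1 : σ.toHomUnits g = σ.toHomUnits h := by
    apply Units.ext
    have := congrArg Units.val hgh
    simp only [MonoidHom.comp_apply, Units.coe_map] at this
    exact e.injective this
  exact congrArg Units.val h1


/-- The second Conway group (the stabilizer in the Leech lattice automorphism group of the short vector fixed in the definitions) is isomorphic to a subgroup of the general linear group of degree 23 over the field with 13 elements: there is an injective homomorphism into it. -/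
theorem result : ∃ f : ↥Cfsg.Spor.Co2 →* GL (Fin 23) (ZMod 13), Function.Injective f := main

end Cfsg.Agent.S5546
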