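import Cfsg.Statements.S5548
import Cfsg.Agent.Lib.Helper92.PermModule

set_option autoImplicit false
open Cfsg

namespace Cfsg.Agent.S5548

open Cfsg.Agent.Lib.Helper10 Cfsg.Agent.Lib.Helper95 Cfsg.Agent.Lib.Helper92

theorem z4 (A B C D : ZMod 2) (h : B + D = A + C) : A + B = C + D := by
  revert A B C D; decide

theorem z6 (A B C Da Db Db' : ZMod 2) (h1 : B + C = Da + Db') (h2 : A + C = Da + Db) :
    A + B = Db + Db' := by
  revert A B C Da Db Db'; decide

/-- a code word that is not constant is moved, by an element fixing two given points, to a word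
whose sum with it is not constant. -/
theorem nonconst_moves (c : GolayPt → ZMod 2) (hc : c ∈ golayCode) (h0 : c ≠ 0) (h1 : c ≠ 1)
    (a b : GolayPt) :
    ∃ σ ∈ M24, σ a = a ∧ σ b = b ∧ c + permWord σ c ≠ 0 ∧ c + permWord σ c ≠ 1 := by
  have hwt := weight_mem c hc
  simp only [List.mem_cons, List.not_mem_nil, or_false] at hwt
  have hlo : 8 ≤ (support₂ c).card := by
    rcases hwt with h | h | h | h | h
    · exact absurd (support₂_eq_empty (Finset.card_eq_zero.mp h)) h0
    all_goals omega
  have hhi : (support₂ c).card ≤ 16 := by
    rcases hwt with h | h | h | h | h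
    · omega
    · omega
    · omega
    · omega
    · exact absurd (eq_ones_of_card c h) h1
  obtain ⟨s, hs⟩ : ((support₂ c) \ {a, b}).Nonempty := by
    rw [← Finset.card_pos]
    have h2 := Finset.card_sdiff_add_card_inter (support₂ c) {a, b}
    have h3 : ((support₂ c) ∩ {a, b}).card ≤ 2 :=
      (Finset.card_le_card Finset.inter_subset_right).trans Finset.card_le_two
    omega
  obtain ⟨p, hp⟩ : ((support₂ c)ᶜ \ {a, b}).Nonempty := by
    rw [← Finset.card_pos]
    have h2 := Finset.card_sdiff_add_card_inter (support₂ c)ᶜ {a, b}
    have h3 : ((support₂ c)ᶜ ∩ {a, b}).card ≤ 2 :=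
      (Finset.card_le_card Finset.inter_subset_right).trans Finset.card_le_two
    have h4 := Finset.card_compl (support₂ c)
    rw [golayPt_card] at h4
    omega
  obtain ⟨r, hr⟩ : (Finset.univ \ {a, b, s, p} : Finset GolayPt).Nonempty := by
    rw [← Finset.card_pos]
    have h2 := Finset.card_sdiff_add_card_inter (Finset.univ : Finset GolayPt) {a, b, s, p}
    have h3 : ((Finset.univ : Finset GolayPt) ∩ {a, b, s, p}).card ≤ 4 := by
      rw [Finset.univ_inter]; exact Finset.card_le_four
    rw [Finset.card_univ, golayPt_card] at h2
    omega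
  simp only [Finset.mem_sdiff, Finset.mem_compl, Finset.mem_insert, Finset.mem_singleton,
    Finset.mem_univ, true_and, not_or] at hs hp hr
  obtain ⟨σ, hσ, hfix, hps⟩ := fix_move {a, b, r} (Finset.card_le_three.trans (by norm_num)) p s
    (by simp only [Finset.mem_insert, Finset.mem_singleton, not_or]
        exact ⟨hp.2.1, hp.2.2, Ne.symm hr.2.2.2⟩)
    (by simp only [Finset.mem_insert, Finset.mem_singleton, not_or]
        exact ⟨hs.2.1, hs.2.2, Ne.symm hr.2.2.1⟩)
  refine ⟨σ, hσ, hfix a (by simp), hfix b (by simp), ?_, ?_⟩
  · intro h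
    have h2 := congrFun h s
    rw [Pi.add_apply, permWord_apply, ← hps, Equiv.symm_apply_apply, hps, val_eq_ite c s,
      val_eq_ite c p, if_pos hs.1, if_neg hp.1] at h2
    simp at h2
  · intro h
    have h2 := congrFun h r
    rw [Pi.add_apply, permWord_of_fix σ c r (hfix r (by simp)), zadd_self] at h2
    simp at h2

/-- an invariant subspace not inside the code contains all even words. -/
theorem even_mem_of_not_le (W : Submodule (ZMod 2) (GolayPt → ZMod 2)) (hW : InvSub W)
    (hnle : ¬ W ≤ golayCode) : ∀ w : GolayPt → ZMod 2, ∑ p, w p = 0 → w ∈ W := by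
  obtain ⟨w0, hw0W, hw0C⟩ := SetLike.not_le_iff_exists.mp hnle
  obtain ⟨u, huC, hu4⟩ := exists_light w0
  have hu0 : u ≠ 0 := by
    rintro rfl
    rw [zero_add] at huC
    exact hw0C huC
  have hD := inv_le_code (W ⊓ golayCode) (hW.inf inv_golayCode) inf_le_right
  by_cases hCW : golayCode ≤ W
  · have huW : u ∈ W := by
      have h1 : u = (u + w0) + w0 := by rw [add_assoc, wadd_self, add_zero]
      rw [h1]
      exact W.add_mem (hCW huC) hw0W
    obtain ⟨a, b, hab, hpair⟩ := pair_of_light W hW u huW hu0 hu4
    exact even_mem_of_pair W hW a b hab hpair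
  · have hD01 : ∀ x ∈ W, x ∈ golayCode → x = 0 ∨ x = 1 := by
      intro x hxW hxC
      have hxD : x ∈ W ⊓ golayCode := ⟨hxW, hxC⟩
      rcases hD with h | h | h
      · rw [h, Submodule.mem_bot] at hxD
        exact Or.inl hxD
      · rw [h, Submodule.mem_span_singleton] at hxD
        obtain ⟨k, rfl⟩ := hxD
        rcases zmod2_cases k with rfl | rfl
        · left; simp
        · right; simp
      · exfalso
        apply hCW
        rw [← h]
        exact inf_le_left
    have huU : u ∈ W ⊔ golayCode := by
      have h1 : u = w0 + (u + w0) := by rw [add_comm u w0, ← add_assoc, wadd_self, zero_add]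
      rw [h1]
      exact Submodule.add_mem_sup hw0W huC
    obtain ⟨a, b, hab, hpair⟩ :=
      pair_of_light (W ⊔ golayCode) (hW.sup inv_golayCode) u huU hu0 hu4
    rw [Submodule.mem_sup] at hpair
    obtain ⟨w, hwW, c, hcC, hwc⟩ := hpair
    have hc01 : c = 0 ∨ c = 1 := by
      by_contra hcon
      push Not at hcon
      obtain ⟨σ, hσ, hσa, hσb, hn0, hn1⟩ := nonconst_moves c hcC hcon.1 hcon.2 a b
      have hx : w + permWord σ w = c + permWord σ c := by
        have he : permWord σ (Pi.single a 1 + Pi.single b 1) =
            Pi.single a 1 + Pi.single b 1 := by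
          rw [permWord_add, permWord_single, permWord_single, hσa, hσb]
        rw [← hwc, permWord_add] at he
        funext x
        have he' := congrFun he x
        simp only [Pi.add_apply] at he' ⊢
        exact z4 _ _ _ _ he'
      have hxW : w + permWord σ w ∈ W := W.add_mem hwW (hW σ hσ w hwW)
      have hxC : w + permWord σ w ∈ golayCode := by
        rw [hx]
        exact golayCode.add_mem hcC (inv_golayCode σ hσ c hcC)
      rcases hD01 _ hxW hxC with h | h
      · exact hn0 (hx ▸ h)
      · exact hn1 (hx ▸ h)
    obtain ⟨b', hb'⟩ : ({a, b} : Finset GolayPt)ᶜ.Nonempty := by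
      rw [← Finset.card_pos, Finset.card_compl, golayPt_card]
      have := Finset.card_le_two (a := a) (b := b)
      omega
    simp only [Finset.mem_compl, Finset.mem_insert, Finset.mem_singleton, not_or] at hb'
    obtain ⟨σ, hσ, hfix, hbb'⟩ := fix_move {a} (by simp) b b' (by simpa using hab.symm)
      (by simpa using hb'.1)
    have hσc : permWord σ c = c := by
      rcases hc01 with rfl | rfl
      · rfl
      · rfl
    have hsum : w + permWord σ w = Pi.single b 1 + Pi.single b' 1 := by
      have he : permWord σ (Pi.single a 1 + Pi.single b 1) =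
          Pi.single a 1 + Pi.single b' 1 := by
        rw [permWord_add, permWord_single, permWord_single, hfix a (by simp), hbb']
      rw [← hwc, permWord_add, hσc] at he
      funext x
      have he' := congrFun he x
      have hwc' := congrFun hwc x
      simp only [Pi.add_apply] at he' hwc' ⊢
      exact z6 _ _ _ _ _ _ he' hwc'
    apply even_mem_of_pair W hW b b' (Ne.symm hb'.2)
    rw [← hsum]
    exact W.add_mem hwW (hW σ hσ w hwW)

/-- For the automorphism group of the length-24 binary Golay code of the definitions (the Mathieu group of degree 24) acting on binary words of length 24 by permuting coordinates, the only invariant subspaces of the space of all words are: zero, the span of the all-ones word, the code itself, the even-weight words, and the whole space. (So the permutation module has a unique composition series.) -/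
theorem result (W : Submodule (ZMod 2) (Cfsg.GolayPt → ZMod 2)) (hW : ∀ σ ∈ Cfsg.M24, ∀ w ∈ W, (fun p => w (σ.symm p)) ∈ W) : W = ⊥ ∨ W = Submodule.span (ZMod 2) {fun _ => (1 : ZMod 2)} ∨ W = Cfsg.golayCode ∨ (W : Set (Cfsg.GolayPt → ZMod 2)) = {w | ∑ p, w p = 0} ∨ W = ⊤ := by
  have hInv : InvSub W := hW
  by_cases hle : W ≤ golayCode
  · rcases inv_le_code W hInv hle with h | h | h
    · exact Or.inl h
    · exact Or.inr (Or.inl h)
    · exact Or.inr (Or.inr (Or.inl h))
  · right; right; right
    have hE := even_mem_of_not_le W hInv hle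
    by_cases hall : ∀ w ∈ W, ∑ p, w p = 0
    · left
      ext w
      constructor
      · intro hw
        exact hall w hw
      · intro hw
        exact hE w hw
    · right
      push Not at hall
      obtain ⟨w1, hw1W, hw1⟩ := hall
      have hs1 : ∑ p, w1 p = 1 := by
        rcases zmod2_cases (∑ p, w1 p) with h | h
        · exact absurd h hw1
        · exact h
      rw [Submodule.eq_top_iff']
      intro v
      rcases zmod2_cases (∑ p, v p) with h | h
      · exact hE v h
      · have h2 : v = (v + w1) + w1 := by rw [add_assoc, wadd_self, add_zero]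
        rw [h2]
        apply W.add_mem _ hw1W
        apply hE
        simp only [Pi.add_apply, Finset.sum_add_distrib, h, hs1]
        decide

end Cfsg.Agent.S5548
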