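import Cfsg.Statements.S5550
import Cfsg.Agent.Lib.Helper92.GolayPerm
import Cfsg.Agent.Lib.Helper35.M24Base

set_option autoImplicit false
open Cfsg

namespace Cfsg.Agent.S5550

open Cfsg.Agent.Lib.Helper10 Cfsg.Agent.Lib.Helper95 Cfsg.Agent.Lib.Helper92
open scoped Pointwise

/-- the stabiliser of `u` in `M24` fixes no nonzero vector modulo the code. -/
def Good (u : GolayPt → ZMod 2) : Prop :=
  ∀ w : GolayPt → ZMod 2, w ∉ golayCode →
    ∃ σ ∈ M24, permWord σ u = u ∧ permWord σ w - w ∉ golayCode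

theorem permWord_inv_permWord (τ : Equiv.Perm GolayPt) (w : GolayPt → ZMod 2) :
    permWord τ⁻¹ (permWord τ w) = w := by
  rw [← permWord_mul, inv_mul_cancel, permWord_one]

theorem permWord_permWord_inv (τ : Equiv.Perm GolayPt) (w : GolayPt → ZMod 2) :
    permWord τ (permWord τ⁻¹ w) = w := by
  rw [← permWord_mul, mul_inv_cancel, permWord_one]

theorem permWord_sub (σ : Equiv.Perm GolayPt) (v w : GolayPt → ZMod 2) :
    permWord σ (v - w) = permWord σ v - permWord σ w := rfl

theorem good_conj {u0 : GolayPt → ZMod 2} (h : Good u0) {τ : Equiv.Perm GolayPt} (hτ : τ ∈ M24) :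
    Good (permWord τ u0) := by
  intro w hw
  have hw' : permWord τ⁻¹ w ∉ golayCode := by
    intro hmem
    apply hw
    have := permWord_mem_of_mem_M24 hτ _ hmem
    rwa [permWord_permWord_inv] at this
  obtain ⟨σ, hσ, h1, h2⟩ := h _ hw'
  refine ⟨τ * σ * τ⁻¹, M24.mul_mem (M24.mul_mem hτ hσ) (M24.inv_mem hτ), ?_, ?_⟩
  · rw [permWord_mul, permWord_mul, permWord_inv_permWord, h1]
  · intro hmem
    apply h2
    have e : permWord (τ * σ * τ⁻¹) w - w
        = permWord τ (permWord σ (permWord τ⁻¹ w) - permWord τ⁻¹ w) := by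
      rw [permWord_sub, permWord_permWord_inv, permWord_mul, permWord_mul]
    rw [e] at hmem
    have := permWord_mem_of_mem_M24 (M24.inv_mem hτ) _ hmem
    rwa [permWord_inv_permWord] at this

theorem good_of_stab {u u' : GolayPt → ZMod 2} (h : Good u)
    (hs : ∀ σ : Equiv.Perm GolayPt, permWord σ u = u → permWord σ u' = u') : Good u' := by
  intro w hw
  obtain ⟨σ, hσ, h1, h2⟩ := h w hw
  exact ⟨σ, hσ, hs σ h1, h2⟩

/-! ### coset representatives -/

theorem exists_rep (w : GolayPt → ZMod 2) (hw : w ∉ golayCode) :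
    ∃ c ∈ golayCode, ∃ s, 0 < s ∧ s < 4096 ∧ w = c + vec (s * 4096) := by
  have hlow : enc (wmask w % 4096) % 4096 = wmask w % 4096 :=
    enc_low_bits _ (Nat.mod_lt _ (by decide))
  have hc : vec (enc (wmask w % 4096)) ∈ golayCode := by
    rw [vec_mem_golayCode_iff (enc_lt _)]
    calc enc (enc (wmask w % 4096)) = enc (enc (wmask w % 4096) % 4096) := (enc_mod _).symm
      _ = enc (wmask w % 4096) := by rw [hlow]
  have hr0 : (wmask w ^^^ enc (wmask w % 4096)) % 4096 = 0 := by
    have h4096 : (4096 : ℕ) = 2 ^ 12 := by norm_num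
    rw [h4096, Nat.xor_mod_two_pow, ← h4096, hlow, Nat.xor_self]
  have hrlt : wmask w ^^^ enc (wmask w % 4096) < 2 ^ 24 :=
    Nat.xor_lt_two_pow (wmask_lt w) (enc_lt _)
  have hw_eq : w = vec (enc (wmask w % 4096)) + vec (wmask w ^^^ enc (wmask w % 4096)) := by
    rw [← vec_xor, Nat.xor_comm (wmask w), ← Nat.xor_assoc, Nat.xor_self, Nat.zero_xor, vec_wmask]
  refine ⟨_, hc, (wmask w ^^^ enc (wmask w % 4096)) / 4096, ?_, ?_, ?_⟩
  · by_contra h0
    have hz : (wmask w ^^^ enc (wmask w % 4096)) / 4096 = 0 := by omega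
    have hr : wmask w ^^^ enc (wmask w % 4096) = 0 := by omega
    apply hw
    rw [hw_eq, hr, vec_zero, add_zero]
    exact hc
  · omega
  · rw [Nat.div_mul_cancel (Nat.dvd_of_mod_eq_zero hr0)]
    exact hw_eq

/-- the check on a coset representative: one of the tables moves it off its coset. -/
def cosetOK (tabs : List (List ℕ)) (s : ℕ) : Bool :=
  s == 0 || tabs.any (fun t => enc (pmT t (s * 4096) ^^^ (s * 4096)) != (pmT t (s * 4096) ^^^ (s * 4096)))

theorem pmT_lt (t : List ℕ) (m : ℕ) : pmT t m < 2 ^ 24 := Nat.ofBits_lt_two_pow _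

/-- a mask fixed by tables of words, which together fix no nonzero coset, is good. -/
theorem good_of_check (mu : ℕ) (wds tabs : List (List ℕ))
    (hspec : ∀ j < tabs.length, ∀ i : Fin 24, evalW (wds.getD j []) i = (tabs.getD j []).getD i 0)
    (hfix : ∀ t ∈ tabs, pmT t mu = mu) (hmu : mu < 2 ^ 24)
    (hcheck : (List.range 4096).all (cosetOK tabs) = true) : Good (vec mu) := by
  intro w hw
  obtain ⟨c, hc, s, hs0, hs, rfl⟩ := exists_rep w hw
  have h := forall_lt_of_all 4096 _ hcheck s hs
  unfold cosetOK at h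
  have hs0' : (s == 0) = false := by simp; omega
  rw [hs0', Bool.false_or, List.any_eq_true] at h
  obtain ⟨t, ht, hne⟩ := h
  obtain ⟨j, hj, rfl⟩ := List.getElem_of_mem ht
  have hspec' := hspec j hj
  rw [List.getD_eq_getElem _ _ hj] at hspec'
  have hmem : (wordPerm (wds.getD j []))⁻¹ ∈ M24 := wordPerm_inv_mem_M24 _
  refine ⟨(wordPerm (wds.getD j []))⁻¹, hmem, ?_, ?_⟩
  · have h1 := wmask_permWord_inv _ _ hspec' (vec mu)
    rw [wmask_vec hmu, hfix _ ht] at h1
    rw [← vec_wmask (permWord _ (vec mu)), h1]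
  · intro hmem2
    set σ := (wordPerm (wds.getD j []))⁻¹ with hσ
    have e : permWord σ (c + vec (s * 4096)) - (c + vec (s * 4096))
        = (permWord σ c - c) + (permWord σ (vec (s * 4096)) + vec (s * 4096)) := by
      rw [permWord_add, sub_eq_add_zmod2, sub_eq_add_zmod2]
      abel
    rw [e] at hmem2
    have hc' : permWord σ c - c ∈ golayCode :=
      golayCode.sub_mem (permWord_mem_of_mem_M24 hmem c hc) hc
    have h2 : permWord σ (vec (s * 4096)) + vec (s * 4096) ∈ golayCode :=
      (golayCode.add_mem_iff_right hc').mp hmem2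
    have hslt : s * 4096 < 2 ^ 24 := by omega
    have h3 : wmask (permWord σ (vec (s * 4096)) + vec (s * 4096))
        = pmT tabs[j] (s * 4096) ^^^ (s * 4096) := by
      rw [wmask_add, wmask_permWord_inv _ _ hspec', wmask_vec hslt]
    rw [mem_golayCode_iff, h3] at h2
    simp only [bne_iff_ne, ne_eq] at hne
    exact hne h2

/-! ### the two representatives -/

def octWords : List (List ℕ) := [[2, 0, 2, 0, 0], [0, 0, 1, 3, 3]]
def octTabs : List (List ℕ) := [
  [5, 2, 3, 14, 6, 1, 11, 9, 16, 10, 12, 7, 4, 13, 17, 8, 21, 0, 19, 20, 15, 18, 22, 23],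
  [14, 3, 23, 1, 13, 17, 19, 11, 21, 15, 22, 7, 18, 4, 0, 9, 20, 5, 12, 6, 16, 8, 10, 2]]
def dodWords' : List (List ℕ) := [[0, 2, 3, 1, 4, 0, 0], [2, 3, 2, 3, 4, 3, 2]]
def dodTabs' : List (List ℕ) := [
  [14, 18, 10, 9, 8, 16, 11, 2, 6, 4, 3, 13, 1, 7, 0, 12, 21, 19, 20, 17, 22, 23, 5, 15],
  [3, 16, 0, 6, 10, 12, 9, 7, 13, 8, 11, 14, 19, 4, 2, 22, 15, 20, 21, 18, 5, 1, 17, 23]]

theorem octTabs_spec : ∀ j < octTabs.length, ∀ i : Fin 24,
    evalW (octWords.getD j []) i = (octTabs.getD j []).getD i 0 := by decide +kernel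
theorem dodTabs_spec' : ∀ j < dodTabs'.length, ∀ i : Fin 24,
    evalW (dodWords'.getD j []) i = (dodTabs'.getD j []).getD i 0 := by decide +kernel

theorem oct_fix : ∀ t ∈ octTabs, pmT t octO = octO := by decide +kernel
theorem dod_fix : ∀ t ∈ dodTabs', pmT t 28637 = 28637 := by decide +kernel

theorem oct_check : (List.range 4096).all (cosetOK octTabs) = true := by decide +kernel
theorem dod_check' : (List.range 4096).all (cosetOK dodTabs') = true := by decide +kernel

theorem good_oct : Good (vec octO) :=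
  good_of_check octO octWords octTabs octTabs_spec oct_fix octO_lt oct_check

theorem good_dod : Good (vec 28637) :=
  good_of_check 28637 dodWords' dodTabs' dodTabs_spec' dod_fix (by decide) dod_check'

theorem d0_eq_fs : Cfsg.Agent.Lib.Helper35.d0 = fs 28637 := by
  ext p
  rw [mem_fs]
  exact Cfsg.Agent.Lib.Helper35.mem_ofMask idx 28637 p

theorem permWord_one_word (σ : Equiv.Perm GolayPt) : permWord σ (1 : GolayPt → ZMod 2) = 1 := rfl

theorem support₂_one' : support₂ (1 : GolayPt → ZMod 2) = Finset.univ := by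
  ext p; simp [mem_support₂]

theorem card_support₂_one_add' (w : GolayPt → ZMod 2) :
    (support₂ (1 + w)).card = 24 - (support₂ w).card := by
  rw [support₂_add, support₂_one']
  have h1 : support₂ w \ Finset.univ = ∅ := by
    ext p; simp
  rw [h1, Finset.union_empty, ← Finset.compl_eq_univ_sdiff, Finset.card_compl, golayPt_card]

theorem result (u : (Cfsg.GolayPt → ZMod 2)) (hu : u ∈ Cfsg.golayCode) (w : (Cfsg.GolayPt → ZMod 2)) (hw : w ∉ Cfsg.golayCode) : ∃ σ ∈ Cfsg.M24, (fun p => u (σ.symm p)) = u ∧ (fun p => w (σ.symm p)) - w ∉ Cfsg.golayCode := by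
  suffices h : Good u from h w hw
  have hoctO : vec octO ∈ golayCode := (vec_mem_golayCode_iff octO_lt).mpr octO_enc
  have hoctO8 : (support₂ (vec octO)).card = 8 := by rw [support₂_vec, card_fs, octO_pc]
  have good8 : ∀ v ∈ golayCode, (support₂ v).card = 8 → Good v := by
    intro v hv hv8
    obtain ⟨τ, hτ, rfl⟩ := octad_word_trans (vec octO) v hoctO hv hoctO8 hv8
    exact good_conj good_oct hτ
  have hwt := weight_mem u hu
  simp only [List.mem_cons, List.not_mem_nil, or_false] at hwt
  rcases hwt with h | h | h | h | h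
  · have hu0 : u = 0 := support₂_eq_empty (Finset.card_eq_zero.mp h)
    rw [hu0]
    exact good_of_stab good_oct (fun σ _ => permWord_zero σ)
  · exact good8 u hu h
  · -- dodecads
    have hdod : support₂ u ∈ dodecads := ⟨⟨u, hu, rfl⟩, h⟩
    obtain ⟨g, hg, hgd⟩ := Cfsg.Agent.Lib.Helper35.exists_smul_d0_eq hdod
    rw [d0_eq_fs, ← support₂_vec, smul_support₂] at hgd
    rw [← support₂_injective hgd]
    exact good_conj good_dod hg
  · -- weight 16: complement of an octad
    have h8 : (support₂ (1 + u)).card = 8 := by rw [card_support₂_one_add', h]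
    have hg := good8 (1 + u) (golayCode.add_mem golayCode_one_mem hu) h8
    apply good_of_stab hg
    intro σ hσ
    rw [permWord_add, permWord_one_word] at hσ
    exact add_left_cancel hσ
  · have hu1 : u = 1 := by
      have h1 : support₂ u = Finset.univ := by
        apply Finset.eq_univ_of_card
        rw [h, golayPt_card]
      funext p
      have hp : p ∈ support₂ u := by rw [h1]; exact Finset.mem_univ p
      rw [mem_support₂] at hp
      rcases zmod2_cases (u p) with h0 | h0
      · exact absurd h0 hp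
      · simpa using h0
    rw [hu1]
    exact good_of_stab good_oct (fun σ _ => permWord_one_word σ)

end Cfsg.Agent.S5550
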