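import Cfsg.Statements.S5552
import Mathlib
import Cfsg.Agent.Lib.Helper94.LeechTrans8
import Cfsg.Agent.Lib.Helper94.LeechClasses
import Cfsg.Agent.Lib.Helper94.LeechDot

set_option autoImplicit false
open Cfsg

namespace Cfsg.Agent.S5552

open Cfsg.Agent.Lib.Helper94

/-- the vector `(-3, 1^23)` with `-3` at the point `0` -/
def u3 : GolayPt → ℤ := oneVec {some 0} (-3)

lemma u3_mem : u3 ∈ leechLattice := by
  unfold u3
  apply mem_of_one_mod_four
  · intro i; exact oneVec_mod _ (by decide) i
  · rw [sum_oneVec]; decide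

lemma p1_mem : p1 ∈ leechLattice := (Cfsg.Agent.S0394.I2_sub p1 p1_mem_I2).1

/-- the vector `(4, 4, 0, …)` at the points `0, ∞` -/
def uA : GolayPt → ℤ := twoVec (some 0) none 4

lemma uA_mem : uA ∈ leechLattice := twoVec_mem (Or.inl rfl)

lemma nA : sqNorm uA = 32 := by decide +kernel
lemma n3 : sqNorm u3 = 32 := by decide +kernel
lemma np : sqNorm p1 = 32 := by decide +kernel
lemma nA3 : sqNorm (uA + u3) = 48 := by decide +kernel
lemma nAp : sqNorm (uA - p1) = 48 := by decide +kernel
lemma n3p : sqNorm (u3 - p1) = 48 := by decide +kernel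
lemma nA3p : sqNorm (uA + u3 - p1) = 48 := by decide +kernel

/-- Reduction of the norm modulo twice the lattice. -/
lemma norm_red {r z : GolayPt → ℤ} (hr : r ∈ leechLattice) (hz : z ∈ leechLattice) :
    ∃ k : ℤ, sqNorm (r + (z + z)) = sqNorm r + 32 * k := by
  obtain ⟨a, ha⟩ := Cfsg.Agent.S0392.result z hz
  obtain ⟨b, hb⟩ := eight_dvd_dot hr hz
  refine ⟨2 * a + b, ?_⟩
  rw [sqNorm_add, sqNorm_add, dotInt_add_right', dotInt_self, ha, hb]
  ring

/-- On the Leech lattice of the definitions, let Q be a function to the field with two elements that is constant on cosets of twice the lattice, is a quadratic form there (Q(u+v+w) + Q(u) + Q(v) + Q(w) = Q(u+v) + Q(u+w) + Q(v+w) for all u, v, w), is invariant under every lattice automorphism, and is not identically zero. Then Q(v) is the squared length of v divided by 16, reduced modulo 2, for every lattice vector v (squared lengths of lattice vectors are multiples of 16). -/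
theorem result (Q : ↥Cfsg.leechLattice → ZMod 2) (hcoset : ∀ v w : ↥Cfsg.leechLattice, Q (v + (w + w)) = Q v) (hquad : ∀ u v w : ↥Cfsg.leechLattice, Q (u + v + w) + Q u + Q v + Q w = Q (u + v) + Q (u + w) + Q (v + w)) (hinv : ∀ (g : ↥Cfsg.Co0) (v : ↥Cfsg.leechLattice), Q (g • v) = Q v) (hne : ∃ v : ↥Cfsg.leechLattice, Q v ≠ 0) (v : ↥Cfsg.leechLattice) : Q v = ((Cfsg.sqNorm (v : Cfsg.GolayPt → ℤ) / 16 : ℤ) : ZMod 2) := by
  have hQ0 : Q 0 = 0 := by
    have h := hquad 0 0 0
    simp only [add_zero] at h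
    have key : ∀ a : ZMod 2, a + a + a + a = a + a + a → a = 0 := by decide
    exact key _ h
  have hconj : ∀ x y : leechLattice, Conj x.1 y.1 → Q x = Q y := by
    intro x y h
    obtain ⟨g, hg⟩ := (conj_iff x y).mp h
    rw [← hg, hinv]
  have H2 : ∀ x y : leechLattice, sqNorm x.1 = 32 → sqNorm y.1 = 32 → Q x = Q y := by
    intro x y hx hy
    exact hconj x y ((conj_norm32 x.1 x.2 hx).trans (conj_norm32 y.1 y.2 hy).symm)
  have H3 : ∀ x y : leechLattice, sqNorm x.1 = 48 → sqNorm y.1 = 48 → Q x = Q y := by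
    intro x y hx hy
    exact hconj x y ((conj_norm48 x.1 x.2 hx).trans (conj_norm48 y.1 y.2 hy).symm)
  have H4 : ∀ x y : leechLattice, sqNorm x.1 = 64 → sqNorm y.1 = 64 → Q x = Q y := by
    intro x y hx hy
    exact hconj x y ((conj_norm64 x.1 x.2 hx).trans (conj_norm64 y.1 y.2 hy).symm)
  have hred : ∀ a b z : leechLattice, a.1 = b.1 + (z.1 + z.1) → Q a = Q b := by
    intro a b z h
    have : a = b + (z + z) := Subtype.ext h
    rw [this, hcoset]
  -- norm 64 vectors
  have q4 : ∀ x : leechLattice, sqNorm x.1 = 64 → Q x = 0 := by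
    set U : leechLattice := ⟨twoVec none (some 0) 4, twoVec_mem (Or.inl rfl)⟩ with hU
    set V : leechLattice := ⟨twoVec none (some 1) 4, twoVec_mem (Or.inl rfl)⟩ with hV
    set W : leechLattice := ⟨twoVec (some 0) (some 1) 4, twoVec_mem (Or.inl rfl)⟩ with hW
    have nU : sqNorm U.1 = 32 := sqNorm_twoVec (by decide) (Or.inl rfl)
    have nV : sqNorm V.1 = 32 := sqNorm_twoVec (by decide) (Or.inl rfl)
    have nW : sqNorm W.1 = 32 := sqNorm_twoVec (by decide) (Or.inl rfl)
    have e1 : Q (U + V) = Q U := by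
      rw [hred (U + V) ⟨twoVec (some 1) (some 0) (-4), twoVec_mem (Or.inr rfl)⟩ U
        (by show twoVec none (some 0) 4 + twoVec none (some 1) 4 = twoVec (some 1) (some 0) (-4) +
              (twoVec none (some 0) 4 + twoVec none (some 0) 4); decide +kernel)]
      exact H2 _ _ (sqNorm_twoVec (by decide) (Or.inr rfl)) nU
    have e2 : Q (U + W) = Q U := by
      rw [hred (U + W) ⟨twoVec none (some 1) (-4), twoVec_mem (Or.inr rfl)⟩ W
        (by show twoVec none (some 0) 4 + twoVec (some 0) (some 1) 4 = twoVec none (some 1) (-4) +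
              (twoVec (some 0) (some 1) 4 + twoVec (some 0) (some 1) 4); decide +kernel)]
      exact H2 _ _ (sqNorm_twoVec (by decide) (Or.inr rfl)) nU
    have e3 : Q (V + W) = Q U := by
      rw [hred (V + W) ⟨twoVec none (some 0) (-4), twoVec_mem (Or.inr rfl)⟩ W
        (by show twoVec none (some 1) 4 + twoVec (some 0) (some 1) 4 = twoVec none (some 0) (-4) +
              (twoVec (some 0) (some 1) 4 + twoVec (some 0) (some 1) 4); decide +kernel)]
      exact H2 _ _ (sqNorm_twoVec (by decide) (Or.inr rfl)) nU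
    have e4 : Q (U + V + W) = Q ⟨vec8 (some 1), vec8_mem _⟩ :=
      hred (U + V + W) ⟨vec8 (some 1), vec8_mem _⟩ U
        (by show twoVec none (some 0) 4 + twoVec none (some 1) 4 + twoVec (some 0) (some 1) 4 =
              vec8 (some 1) + (twoVec none (some 0) 4 + twoVec none (some 0) 4); decide +kernel)
    have h := hquad U V W
    rw [e1, e2, e3, e4, H2 V U nV nU, H2 W U nW nU] at h
    have key : ∀ a b : ZMod 2, a + b + b + b = b + b + b → a = 0 := by decide
    have h8 := key _ _ h
    intro x hx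
    rw [H4 x ⟨vec8 (some 1), vec8_mem _⟩ hx (sqNorm_vec8 _), h8]
  -- norm 32 vectors
  have q2 : ∀ x : leechLattice, sqNorm x.1 = 32 → Q x = 0 := by
    set U : leechLattice := ⟨uA, uA_mem⟩ with hU
    set V : leechLattice := ⟨u3, u3_mem⟩ with hV
    set W : leechLattice := ⟨p1, p1_mem⟩ with hW
    set T : leechLattice := U + V with hT
    have nT : sqNorm T.1 = 48 := nA3
    have e1 : Q (U + W) = Q T := by
      rw [hred (U + W) (U - W) W (by show uA + p1 = uA - p1 + (p1 + p1); abel)]
      exact H3 _ _ nAp nT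
    have e2 : Q (V + W) = Q T := by
      rw [hred (V + W) (V - W) W (by show u3 + p1 = u3 - p1 + (p1 + p1); abel)]
      exact H3 _ _ n3p nT
    have e3 : Q (U + V + W) = Q T := by
      rw [hred (U + V + W) (U + V - W) W (by show uA + u3 + p1 = uA + u3 - p1 + (p1 + p1); abel)]
      exact H3 _ _ nA3p nT
    have h := hquad U V W
    rw [e1, e2, e3, H2 V U n3 nA, H2 W U np nA] at h
    have key : ∀ a b : ZMod 2, a + b + b + b = a + a + a → b = 0 := by decide
    have h8 := key _ _ h
    intro x hx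
    rw [H2 x U hx nA, h8]
  -- reduction to short representatives
  have hrep : ∀ x : leechLattice, ∃ r : leechLattice, sqNorm r.1 ≤ 64 ∧ Q x = Q r ∧
      ∃ k : ℤ, sqNorm x.1 = sqNorm r.1 + 32 * k := by
    intro x
    obtain ⟨y, hyL, hy64, hcls⟩ := classes_main.1 (cls x.1)
    obtain ⟨z, hz, hyz⟩ := (cls_eq_iff hyL x.2).mp hcls
    have hx : x.1 = y + (-z + -z) := by
      have : (2 : ℕ) • z = z + z := two_nsmul z
      rw [this] at hyz
      have : x.1 = y - (z + z) := by rw [← hyz]; abel
      rw [this]; abel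
    refine ⟨⟨y, hyL⟩, hy64, hred x ⟨y, hyL⟩ ⟨-z, leechLattice.neg_mem hz⟩ hx, ?_⟩
    obtain ⟨k, hk⟩ := norm_red hyL (leechLattice.neg_mem hz)
    exact ⟨k, by rw [hx]; exact hk⟩
  have hval : ∀ r : leechLattice, sqNorm r.1 ≤ 64 →
      (sqNorm r.1 = 0 ∧ Q r = 0) ∨ (sqNorm r.1 = 32 ∧ Q r = 0) ∨ (sqNorm r.1 = 48) ∨
        (sqNorm r.1 = 64 ∧ Q r = 0) := by
    intro r hr
    by_cases h0 : r = 0
    · left
      subst h0
      exact ⟨by simp [sqNorm], hQ0⟩
    · have h0' : r.1 ≠ 0 := fun h => h0 (Subtype.ext h)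
      have h32 := Cfsg.Agent.S0391.result r.1 r.2 h0'
      obtain ⟨t, ht⟩ := Cfsg.Agent.S0392.result r.1 r.2
      have hcase : sqNorm r.1 = 32 ∨ sqNorm r.1 = 48 ∨ sqNorm r.1 = 64 := by omega
      rcases hcase with h | h | h
      · right; left; exact ⟨h, q2 r h⟩
      · right; right; left; exact h
      · right; right; right; exact ⟨h, q4 r h⟩
  -- the value on norm 48
  have q3 : ∀ x : leechLattice, sqNorm x.1 = 48 → Q x = 1 := by
    obtain ⟨w, hw⟩ := hne
    obtain ⟨r, hr64, hQr, -⟩ := hrep w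
    rw [hQr] at hw
    rcases hval r hr64 with h | h | h | h
    · exact absurd h.2 hw
    · exact absurd h.2 hw
    · intro x hx
      rw [H3 x r hx h]
      have key : ∀ a : ZMod 2, a ≠ 0 → a = 1 := by decide
      exact key _ hw
    · exact absurd h.2 hw
  obtain ⟨r, hr64, hQr, k, hk⟩ := hrep v
  rw [hQr, hk]
  rcases hval r hr64 with h | h | h | h
  · rw [h.2, h.1]
    have : (0 + 32 * k) / 16 = 2 * k := by omega
    rw [this]; push_cast
    have : (2 : ZMod 2) = 0 := by decide
    rw [this, zero_mul]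
  · rw [h.2, h.1]
    have : (32 + 32 * k) / 16 = 2 * (k + 1) := by omega
    rw [this]; push_cast
    have : (2 : ZMod 2) = 0 := by decide
    rw [this, zero_mul]
  · rw [q3 r h, h]
    have : (48 + 32 * k) / 16 = 2 * (k + 1) + 1 := by omega
    rw [this]; push_cast
    have : (2 : ZMod 2) = 0 := by decide
    rw [this, zero_mul, zero_add]
  · rw [h.2, h.1]
    have : (64 + 32 * k) / 16 = 2 * (k + 2) := by omega
    rw [this]; push_cast
    have : (2 : ZMod 2) = 0 := by decide
    rw [this, zero_mul]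

end Cfsg.Agent.S5552
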