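import Cfsg.Statements.S5555
import Mathlib
import Cfsg.Agent.Lib.Helper94.TT68Split
import Cfsg.Agent.S1265
import Cfsg.Agent.Lib.Helper03.TT68C1

set_option autoImplicit false
open Cfsg

namespace Cfsg.Agent.S5555

open Cfsg.Agent.Lib.Helper94

/-- Let G be a finite group generated by a conjugacy class D of 3-transpositions, with trivial centre and with generalized Fitting subgroup F*(G) = O₂(G) (so the Fitting subgroup is O₂(G) too). If G/O₂(G) is isomorphic to the derived group of SU₃(2) (the group of order 54 generated by nine 3-transpositions), then O₂(G) has a complement in G. -/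
theorem result {G : Type*} [Group G] [Finite G] {D : Set G} (hD : Cfsg.IsThreeTranspositionClass D)
    (hZ : Subgroup.center G = ⊥) (hF : Cfsg.generalizedFittingSubgroup G = Cfsg.pCore 2 G)
    (hq : ∃ (F : Type) (_ : Field F) (_ : Fintype F), Fintype.card F = 4 ∧ Nonempty (G ⧸ Cfsg.pCore 2 G ≃* ↥(commutator ↥(Cfsg.SU 3 F 2)))) :
    ∃ K : Subgroup G, (Cfsg.pCore 2 G).IsComplement' K := by
  classical
  obtain ⟨F, iF, iFt, hF4, ⟨e⟩⟩ := hq
  have hC54 := (Cfsg.Agent.Lib.Helper03.TT68.su32_commutator_triangle (F := F) hF4).1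
  have hcard : Nat.card (G ⧸ Cfsg.pCore 2 G) = 54 := by
    rw [Nat.card_congr e.toEquiv]; exact hC54
  have hQ2 : IsPGroup 2 (Cfsg.pCore 2 G) :=
    Sylow.sSup_of_normal _ (fun _ h => h.2) (fun _ h => h.1)
  have hCQ : Subgroup.centralizer ((Cfsg.pCore 2 G : Subgroup G) : Set G) ≤ Cfsg.pCore 2 G := by
    have := Cfsg.Agent.S1265.result (G := G)
    rwa [hF] at this
  obtain ⟨a, b, c, -, -, -, -, -, -, -, hcompl⟩ :=
    Cfsg.Agent.Lib.Helper94.TT68.exists_triangle_complement hQ2 hCQ hD hcard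
  exact ⟨_, hcompl⟩

end Cfsg.Agent.S5555
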