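import Cfsg.Statements.S5562

set_option autoImplicit false
open Cfsg

namespace Cfsg.Agent.S5562

theorem inv_of_sq {G : Type*} [Group G] {x : G} (h : x * x = 1) : x⁻¹ = x :=
  inv_eq_of_mul_eq_one_right h

theorem mem_conj_iff {G : Type*} [Group G] {a d : G} :
    a ∈ conjugatesOf d ↔ ∃ c : G, c * d * c⁻¹ = a := by
  show IsConj d a ↔ _
  exact isConj_iff

/-- Let G be a finite group, d an involution of G whose conjugates pairwise have products of odd order, and x any involution of G. Then the conjugacy class of d is the disjoint union, over the conjugates a of d commuting with x, of the sets of conjugates of d commuting with ax: every conjugate of d commutes with ax for exactly one conjugate a of d that commutes with x. -/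
theorem result {G : Type*} [Group G] [Finite G] (d : G) (hd : orderOf d = 2)
    (hodd : ∀ a ∈ conjugatesOf d, ∀ b ∈ conjugatesOf d, Odd (orderOf (a * b)))
    (x : G) (hx : orderOf x = 2) :
    ∀ e ∈ conjugatesOf d,
      ∃! a : G, a ∈ conjugatesOf d ∧ Commute a x ∧ Commute e (a * x) := by
  intro e he
  have hx2 : x * x = 1 := by rw [← sq, ← hx, pow_orderOf_eq_one]
  have hxinv : x⁻¹ = x := inv_of_sq hx2
  have hd2 : d * d = 1 := by rw [← sq, ← hd, pow_orderOf_eq_one]
  have hinv : ∀ a ∈ conjugatesOf d, a * a = 1 := by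
    intro a ha
    rw [mem_conj_iff] at ha
    obtain ⟨c, rfl⟩ := ha
    calc c * d * c⁻¹ * (c * d * c⁻¹) = c * (d * d) * c⁻¹ := by group
      _ = 1 := by rw [hd2]; group
  have hconj : ∀ a ∈ conjugatesOf d, ∀ g : G, g * a * g⁻¹ ∈ conjugatesOf d := by
    intro a ha g
    rw [mem_conj_iff] at ha ⊢
    obtain ⟨c, rfl⟩ := ha
    exact ⟨g * c, by group⟩
  have he2 : e * e = 1 := hinv e he
  have heinv : e⁻¹ = e := inv_of_sq he2
  -- t = e * x
  set t := e * x with ht
  have htinv : t⁻¹ = x * e := by rw [ht, mul_inv_rev, hxinv, heinv]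
  -- order of t^2 is odd
  have hxex : x * e * x⁻¹ ∈ conjugatesOf d := hconj e he x
  have ho := hodd e he _ hxex
  have ht2 : e * (x * e * x⁻¹) = t ^ 2 := by
    rw [hxinv, ht, sq]; group
  rw [ht2] at ho
  obtain ⟨k, hk⟩ := ho
  have htn : (t ^ 2) ^ (2 * k + 1) = 1 := by rw [← hk, pow_orderOf_eq_one]
  -- x inverts t, e inverts t
  have hxt : SemiconjBy x t t⁻¹ := by
    show x * t = t⁻¹ * x
    rw [htinv, ht, mul_assoc]
  have het : SemiconjBy e t t⁻¹ := by
    show e * t = t⁻¹ * e
    rw [htinv, ht, ← mul_assoc, he2, mul_assoc, he2, one_mul, mul_one]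
  have hxtk : ∀ n : ℕ, x * t ^ n = (t⁻¹) ^ n * x := fun n => (hxt.pow_right n)
  have hetk : ∀ n : ℕ, e * t ^ n = (t⁻¹) ^ n * e := fun n => (het.pow_right n)
  have htt : t ^ (2 * k + 1) = (t⁻¹) ^ (2 * k + 1) := by
    rw [inv_pow, eq_inv_iff_mul_eq_one, ← pow_add, ← two_mul, pow_mul]; exact htn
  have huniq : ∀ a a' : G, a ∈ conjugatesOf d → a' ∈ conjugatesOf d →
      Commute e (a * x) → Commute e (a' * x) → a' = a := by
    intro a a' ha ha' hc hc'
    have ha2 : a * a = 1 := hinv a ha
    have ha'2 : a' * a' = 1 := hinv a' ha'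
    have hainv : a⁻¹ = a := inv_of_sq ha2
    have ha'inv : a'⁻¹ = a' := inv_of_sq ha'2
    have hr : a * a' = (a * x) * (a' * x)⁻¹ := by rw [mul_inv_rev, ha'inv]; group
    have her : Commute e (a * a') := by
      rw [hr]; exact hc.mul_right hc'.inv_right
    have har : SemiconjBy a (a * a') (a * a')⁻¹ := by
      show a * (a * a') = (a * a')⁻¹ * a
      rw [mul_inv_rev, hainv, ha'inv, ← mul_assoc, ha2, one_mul, mul_assoc, ha2, mul_one]
    have hg : SemiconjBy (e * a) (a * a') (a * a')⁻¹ :=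
      SemiconjBy.mul_left her.inv_right har
    have hg' : SemiconjBy (e * a) (a * a')⁻¹ (a * a') := by
      have := hg.inv_right
      rwa [inv_inv] at this
    have hgg : Commute ((e * a) * (e * a)) (a * a') := SemiconjBy.mul_left hg' hg
    obtain ⟨m, hm⟩ := hodd e he a ha
    have hgm : (e * a) ^ (2 * m + 1) = 1 := by rw [← hm, pow_orderOf_eq_one]
    have hg2m : Commute ((e * a) ^ (2 * m)) (a * a') := by
      rw [pow_mul, sq]; exact hgg.pow_left m
    have hginv : (e * a) ^ (2 * m) = (e * a)⁻¹ := by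
      rw [eq_inv_iff_mul_eq_one, ← pow_succ]; exact hgm
    rw [hginv] at hg2m
    have hgc : Commute (e * a) (a * a') := by
      have := hg2m.inv_left
      rwa [inv_inv] at this
    have hrr : a * a' = (a * a')⁻¹ := by
      have h1 : (e * a) * (a * a') = (a * a')⁻¹ * (e * a) := hg
      have h2 : (e * a) * (a * a') = (a * a') * (e * a) := hgc
      rw [h1] at h2
      exact (mul_right_cancel h2).symm
    have hr2 : (a * a') ^ 2 = 1 := by
      rw [sq]; nth_rewrite 2 [hrr]; exact mul_inv_cancel _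
    have hro : Odd (orderOf (a * a')) := hodd a ha a' ha'
    have hdvd : orderOf (a * a') ∣ 2 := orderOf_dvd_of_pow_eq_one hr2
    have h1 : orderOf (a * a') = 1 := by
      rcases (Nat.dvd_prime Nat.prime_two).mp hdvd with h | h
      · exact h
      · rw [h] at hro; exact absurd hro (by decide)
    have h1' : a * a' = 1 := orderOf_eq_one_iff.mp h1
    calc a' = a⁻¹ := (inv_eq_of_mul_eq_one_right h1').symm
      _ = a := hainv
  have hmem : t ^ (2 * k + 1) * x ∈ conjugatesOf d := by
    have : t ^ (2 * k + 1) * x = t ^ k * e * (t ^ k)⁻¹ := by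
      rw [eq_mul_inv_iff_mul_eq]
      have h1 : x * t ^ k = (t⁻¹) ^ k * x := hxtk k
      calc t ^ (2 * k + 1) * x * t ^ k = t ^ (2 * k + 1) * (x * t ^ k) := by rw [mul_assoc]
        _ = t ^ (2 * k + 1) * ((t⁻¹) ^ k * x) := by rw [h1]
        _ = t ^ (k + 1) * x := by
          rw [← mul_assoc]; congr 1
          rw [inv_pow, mul_inv_eq_iff_eq_mul, ← pow_add]; congr 1; omega
        _ = t ^ k * e := by
          rw [pow_succ, ht, mul_assoc, mul_assoc e, hx2, mul_one]
    rw [this]
    exact hconj e he _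
  have hcomm : Commute e (t ^ (2 * k + 1) * x * x) := by
    show e * (t ^ (2 * k + 1) * x * x) = t ^ (2 * k + 1) * x * x * e
    rw [mul_assoc (t ^ (2 * k + 1)), hx2, mul_one, hetk, ← htt]
  refine ⟨t ^ (2 * k + 1) * x, ⟨hmem, ?_, hcomm⟩, ?_⟩
  · -- commutes with x
    show t ^ (2 * k + 1) * x * x = x * (t ^ (2 * k + 1) * x)
    rw [← mul_assoc x, hxtk, ← htt]
  · -- uniqueness
    rintro a' ⟨ha', -, hca'⟩
    exact huniq _ a' hmem ha' hcomm hca'

end Cfsg.Agent.S5562
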