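import Cfsg.Statements.S5595
import Cfsg.Agent.Lib.Helper38.LargeExtraspecial
import Cfsg.Agent.Lib.Helper55.Large
import Cfsg.Agent.Lib.Helper03.PGroupFrattini

set_option autoImplicit false
open Cfsg

namespace Cfsg.Agent.S5595

/-- Setting: `z` is an involution of the finite group `G`; for each element `x`, `Q x` denotes the largest normal 2-subgroup of the centralizer of `x`; `Q z` is extraspecial and contains its own centralizer in `G` (a large extraspecial 2-subgroup in this sense). Call the conjugates of `z` singular, and say that singular `x` is orthogonal to singular `y` when `x ∈ Q y`. Then orthogonality is symmetric: if a conjugate `x` of `z` lies in `Q z`, then `z` lies in `Q x`. -/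
theorem result {G : Type*} [Group G] [Finite G]
    (Q : G → Subgroup G)
    (hQ : ∀ x : G, Q x = (Cfsg.pCore 2 ↥(Subgroup.centralizer ({x} : Set G))).map (Subgroup.centralizer ({x} : Set G)).subtype)
    (z : G) (hz : orderOf z = 2) (hE : Cfsg.IsExtraspecial 2 ↥(Q z))
    (hC : Subgroup.centralizer ((Q z : Subgroup G) : Set G) ≤ Q z)
    (g : G) (hx : g * z * g⁻¹ ∈ Q z) : z ∈ Q (g * z * g⁻¹) := by
  classical
  have hf2 : Fact (Nat.Prime 2) := ⟨Nat.prime_two⟩
  obtain ⟨⟨hP, hfrat, hcommeq⟩, hcard⟩ := hE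
  have hcomm : commutator ↥(Q z) ≤ Subgroup.center ↥(Q z) := hcommeq.le
  have hsq : ∀ x : ↥(Q z), x ^ 2 ∈ Subgroup.center ↥(Q z) := by
    intro x
    rw [← hfrat]
    exact Cfsg.Agent.Lib.Helper03.pow_mem_frattini_of_isPGroup hP x
  have hQz : Q z = Cfsg.pCoreOf 2 (Subgroup.centralizer ({z} : Set G)) := hQ z
  have hz1 : z ≠ 1 := by
    intro h
    rw [h, orderOf_one] at hz
    exact absurd hz (by norm_num)
  have hzc : ∀ q ∈ Q z, q * z = z * q := by
    intro q hq
    rw [hQz] at hq
    exact Subgroup.mem_centralizer_singleton_iff.mp (Cfsg.Agent.Lib.Helper55.pCoreOf_le _ hq)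
  have hzQ : z ∈ Q z := hC (Subgroup.mem_centralizer_iff.mpr (fun q hq => hzc q hq))
  have hN : Subgroup.centralizer ({z} : Set G) ≤ Subgroup.normalizer ((Q z : Subgroup G) : Set G) := by
    rw [hQz]
    exact Cfsg.Agent.Lib.Helper55.le_normalizer_pCoreOf _
  have h1 := Cfsg.Agent.Lib.Helper38.mem_conj_of_conj_mem (Q z) hP hcomm hcard hsq z hzQ hzc hz1 hC hN g hx
  have hcent : Subgroup.centralizer ({g * z * g⁻¹} : Set G) =
      Cfsg.Agent.Lib.Helper55.cj g (Subgroup.centralizer ({z} : Set G)) := by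
    ext x
    rw [Cfsg.Agent.Lib.Helper55.mem_cj, Subgroup.mem_centralizer_singleton_iff,
      Subgroup.mem_centralizer_singleton_iff]
    constructor
    · intro hA
      calc g⁻¹ * x * g * z = g⁻¹ * (x * (g * z * g⁻¹)) * g := by group
        _ = g⁻¹ * ((g * z * g⁻¹) * x) * g := by rw [hA]
        _ = z * (g⁻¹ * x * g) := by group
    · intro hB
      calc x * (g * z * g⁻¹) = g * (g⁻¹ * x * g * z) * g⁻¹ := by group
        _ = g * (z * (g⁻¹ * x * g)) * g⁻¹ := by rw [hB]
        _ = g * z * g⁻¹ * x := by group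
  have hQb : Q (g * z * g⁻¹) = Cfsg.Agent.Lib.Helper55.cj g (Q z) := by
    rw [hQ (g * z * g⁻¹)]
    show Cfsg.pCoreOf 2 (Subgroup.centralizer ({g * z * g⁻¹} : Set G)) = _
    rw [hcent, Cfsg.Agent.Lib.Helper55.pCoreOf_cj, ← hQz]
  rw [hQb]
  exact h1

end Cfsg.Agent.S5595
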