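import Cfsg.Statements.S5596
import Cfsg.Agent.Lib.Helper38.Singular
import Cfsg.Agent.Lib.Helper38.FourGroup

set_option autoImplicit false
open Cfsg

namespace Cfsg.Agent.S5596

theorem comm_of_sq {G : Type*} [Group G] (U : Subgroup G) (hU2 : ∀ u ∈ U, u * u = 1) :
    ∀ a ∈ U, ∀ b ∈ U, a * b = b * a := by
  intro a ha b hb
  have h1 := hU2 (a * b) (U.mul_mem ha hb)
  have h2 := hU2 a ha
  have h3 := hU2 b hb
  have h4 : (a * b)⁻¹ = a * b := inv_eq_of_mul_eq_one_right h1
  rw [mul_inv_rev, inv_eq_of_mul_eq_one_right h2, inv_eq_of_mul_eq_one_right h3] at h4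
  exact h4.symm

/-- `W ∪ uW` for an involution `u` commuting with `W`. -/
def adjoinInvol {G : Type*} [Group G] (W : Subgroup G) (u : G) (hu2 : u * u = 1)
    (hc : ∀ w ∈ W, u * w = w * u) : Subgroup G where
  carrier := {x | x ∈ W ∨ u * x ∈ W}
  one_mem' := Or.inl W.one_mem
  mul_mem' := by
    have hcx : ∀ x, u * x ∈ W → u * x = x * u := by
      intro x hx
      have h1 := hc (u * x) hx
      rw [mul_assoc] at h1
      exact mul_left_cancel h1
    rintro x y (hx | hx) (hy | hy)
    · exact Or.inl (W.mul_mem hx hy)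
    · right
      have : u * (x * y) = x * (u * y) := by rw [← mul_assoc, hc x hx, mul_assoc]
      rw [this]; exact W.mul_mem hx hy
    · right
      rw [← mul_assoc]; exact W.mul_mem hx hy
    · left
      have : x * y = (u * x) * (u * y) := by
        calc x * y = (u * u) * x * y := by rw [hu2, one_mul]
          _ = u * (u * x) * y := by rw [mul_assoc u u x]
          _ = u * (x * u) * y := by rw [hcx x hx]
          _ = (u * x) * (u * y) := by simp only [mul_assoc]
      rw [this]; exact W.mul_mem hx hy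
  inv_mem' := by
    have hcx : ∀ x, u * x ∈ W → u * x = x * u := by
      intro x hx
      have h1 := hc (u * x) hx
      rw [mul_assoc] at h1
      exact mul_left_cancel h1
    rintro x (hx | hx)
    · exact Or.inl (W.inv_mem hx)
    · right
      have huinv : u⁻¹ = u := inv_eq_of_mul_eq_one_right hu2
      have : u * x⁻¹ = (u * x)⁻¹ := by
        rw [hcx x hx, mul_inv_rev, huinv]
      rw [this]; exact W.inv_mem hx

theorem mem_adjoinInvol {G : Type*} [Group G] (W : Subgroup G) (u : G) (hu2 : u * u = 1)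
    (hc : ∀ w ∈ W, u * w = w * u) (x : G) :
    x ∈ adjoinInvol W u hu2 hc ↔ x ∈ W ∨ u * x ∈ W := Iff.rfl

/-- Setting: `z` is an involution of the finite group `G`; for each element `x`, `Q x` is the largest normal 2-subgroup of the centralizer of `x`; `Q z` is extraspecial and contains its own centralizer in `G`. A subgroup `U` is singular when it is elementary abelian, every non-identity element of `U` is conjugate to `z`, and any two non-identity elements `u`, `v` of `U` are orthogonal (`v ∈ Q u`). Write `QU` for the intersection of the `Q u` and `LU` for the join of the `Q u` over the non-identity `u` in `U`. If `U` is singular of order `2 ^ n` with `n ≥ 2`, then `U ≤ QU ≤ LU`, `LU` normalizes `U`, and `LU` induces on `U` its full automorphism group (the general linear group of dimension `n` over the field with two elements): every automorphism of `U` is conjugation by some element of `LU`. -/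
theorem result {G : Type*} [Group G] [Finite G]
    (Q : G → Subgroup G)
    (hQ : ∀ x : G, Q x = (Cfsg.pCore 2 ↥(Subgroup.centralizer ({x} : Set G))).map (Subgroup.centralizer ({x} : Set G)).subtype)
    (z : G) (hz : orderOf z = 2) (hE : Cfsg.IsExtraspecial 2 ↥(Q z))
    (hC : Subgroup.centralizer ((Q z : Subgroup G) : Set G) ≤ Q z)
    (U : Subgroup G) (hU2 : ∀ u ∈ U, u * u = 1)
    (hS : ∀ u ∈ U, u ≠ 1 → ∃ g : G, g * z * g⁻¹ = u)
    (hO : ∀ u ∈ U, ∀ v ∈ U, u ≠ 1 → v ≠ 1 → v ∈ Q u)
    (QU LU : Subgroup G) (hQU : QU = ⨅ u ∈ ((U : Set G) \ {1}), Q u) (hLU : LU = ⨆ u ∈ ((U : Set G) \ {1}), Q u)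
    (n : ℕ) (hn : 2 ≤ n) (hcard : Nat.card ↥U = 2 ^ n) :
    U ≤ QU ∧ QU ≤ LU ∧ LU ≤ Subgroup.normalizer (U : Set G) ∧
      ∀ φ : ↥U ≃* ↥U, ∃ g ∈ LU, ∀ u : ↥U, g * (u : G) * g⁻¹ = ((φ u : ↥U) : G) := by
  classical
  have hcommU := comm_of_sq U hU2
  have hEL : ∀ u ∈ U, u ≠ 1 → Cfsg.Agent.Lib.Helper38.ExtraLike (Q u) u := by
    intro u hu hu1
    obtain ⟨g, hg⟩ := hS u hu hu1
    rw [← hg]
    exact Cfsg.Agent.Lib.Helper38.extraLike_Q_conj Q hQ z hz hE hC g
  have hUQ : ∀ u ∈ U, u ≠ 1 → U ≤ Q u := by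
    intro u hu hu1 v hv
    by_cases hv1 : v = 1
    · rw [hv1]; exact (Q u).one_mem
    · exact hO u hu v hv hu1 hv1
  have hQUle : ∀ u ∈ U, u ≠ 1 → QU ≤ Q u := by
    intro u hu hu1
    rw [hQU]
    exact iInf₂_le u ⟨hu, fun h => hu1 (by rw [Set.mem_singleton_iff] at h; exact h)⟩
  have hQle : ∀ u ∈ U, u ≠ 1 → Q u ≤ LU := by
    intro u hu hu1
    rw [hLU]
    exact le_iSup₂ (f := fun u (_ : u ∈ ((U : Set G) \ {1})) => Q u) u
      ⟨hu, fun h => hu1 (by rw [Set.mem_singleton_iff] at h; exact h)⟩
  -- a non-identity element of U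
  obtain ⟨u₀, hu₀U, hu₀1⟩ : ∃ u₀ ∈ U, u₀ ≠ 1 := by
    by_contra hcon
    push Not at hcon
    have : U = ⊥ := by
      rw [eq_bot_iff]; intro x hx; exact Subgroup.mem_bot.2 (hcon x hx)
    rw [this] at hcard
    simp at hcard
    have : 2 ^ n ≥ 2 ^ 2 := Nat.pow_le_pow_right (by norm_num) hn
    omega
  have part1 : U ≤ QU := by
    rw [hQU]
    apply le_iInf₂
    intro u hu
    exact hUQ u hu.1 (fun h => hu.2 (by rw [Set.mem_singleton_iff]; exact h))
  have part2 : QU ≤ LU := (hQUle u₀ hu₀U hu₀1).trans (hQle u₀ hu₀U hu₀1)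
  -- LU normalizes U
  have hLUconj : ∀ g ∈ LU, ∀ v ∈ U, g * v * g⁻¹ ∈ U := by
    intro g hg
    rw [hLU] at hg
    refine Subgroup.iSup_induction _ (C := fun g => ∀ v ∈ U, g * v * g⁻¹ ∈ U) hg ?_ ?_ ?_
    · intro u y hy
      by_cases hu : u ∈ ((U : Set G) \ {1})
      · rw [iSup_pos hu] at hy
        have huU : u ∈ U := hu.1
        have hu1 : u ≠ 1 := fun h => hu.2 (by rw [Set.mem_singleton_iff]; exact h)
        have hEu := hEL u huU hu1
        intro v hv
        rcases hEu.conj_eq hy (hUQ u huU hu1 hv) with h1 | h1 <;> rw [h1]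
        · exact hv
        · exact U.mul_mem huU hv
      · rw [iSup_neg hu, Subgroup.mem_bot] at hy
        rw [hy]
        intro v hv; simpa using hv
    · intro v hv; simpa using hv
    · intro g₁ g₂ h1a h2a v hv
      have : g₁ * g₂ * v * (g₁ * g₂)⁻¹ = g₁ * (g₂ * v * g₂⁻¹) * g₁⁻¹ := by group
      rw [this]
      exact h1a _ (h2a v hv)
  have part3 : LU ≤ Subgroup.normalizer (U : Set G) := fun g hg =>
    Cfsg.Agent.Lib.Helper38.mem_normalizer_of_conj_mem U g (hLUconj g hg)
  refine ⟨part1, part2, part3, ?_⟩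
  intro φ
  -- stabilizer chain induction
  have hstep : ∀ k : ℕ, ∃ W : Subgroup G, W ≤ U ∧ (W = U ∨ k ≤ Nat.card W) ∧
      ∃ h ∈ LU, ∀ (w : G) (hw : w ∈ U), w ∈ W → h * w * h⁻¹ = ((φ ⟨w, hw⟩ : ↥U) : G) := by
    intro k
    induction k with
    | zero =>
      refine ⟨⊥, bot_le, Or.inr (Nat.zero_le _), 1, LU.one_mem, ?_⟩
      intro w hw hwW
      rw [Subgroup.mem_bot] at hwW
      subst hwW
      have : (⟨1, hw⟩ : ↥U) = 1 := rfl
      rw [this, map_one]; simp
    | succ k ih =>
      obtain ⟨W, hWU, hWk, h, hhLU, hh⟩ := ih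
      by_cases hWeq : W = U
      · exact ⟨W, hWU, Or.inl hWeq, h, hhLU, hh⟩
      have hk : k ≤ Nat.card W := by
        rcases hWk with h1 | h1
        · exact absurd h1 hWeq
        · exact h1
      obtain ⟨v, hvU, hvW⟩ : ∃ v ∈ U, v ∉ W := by
        by_contra hcon
        push Not at hcon
        exact hWeq (le_antisymm hWU hcon)
      -- the target v'
      obtain ⟨v', hv'⟩ : ∃ v', v' = h⁻¹ * ((φ ⟨v, hvU⟩ : ↥U) : G) * h := ⟨_, rfl⟩
      have hv'U : v' ∈ U := by
        have := hLUconj h⁻¹ (LU.inv_mem hhLU) _ (φ ⟨v, hvU⟩).2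
        rw [inv_inv] at this
        rw [hv']; exact this
      have hhv' : h * v' * h⁻¹ = ((φ ⟨v, hvU⟩ : ↥U) : G) := by rw [hv']; group
      have hv'W : v' ∉ W := by
        intro hcon
        have h1 := hh v' hv'U hcon
        rw [hhv'] at h1
        have h2 : (⟨v, hvU⟩ : ↥U) = ⟨v', hv'U⟩ := φ.injective (Subtype.ext h1)
        have h3 : v = v' := congrArg Subtype.val h2
        exact hvW (h3 ▸ hcon)
      -- the new subgroup
      have hvc : ∀ w ∈ W, v * w = w * v := fun w hw => hcommU v hvU w (hWU hw)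
      have hagree : ∀ h' ∈ LU, (∀ (w : G) (hw : w ∈ U), w ∈ W → h' * w * h'⁻¹ = ((φ ⟨w, hw⟩ : ↥U) : G)) →
          h' * v * h'⁻¹ = ((φ ⟨v, hvU⟩ : ↥U) : G) →
          ∃ W' : Subgroup G, W' ≤ U ∧ (W' = U ∨ k + 1 ≤ Nat.card W') ∧
            ∃ h ∈ LU, ∀ (w : G) (hw : w ∈ U), w ∈ W' → h * w * h⁻¹ = ((φ ⟨w, hw⟩ : ↥U) : G) := by
        intro h' hh'LU hh'W hh'v
        refine ⟨adjoinInvol W v (hU2 v hvU) hvc, ?_, Or.inr ?_, h', hh'LU, ?_⟩
        · intro x hx
          rcases hx with hx | hx
          · exact hWU hx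
          · have : x = v⁻¹ * (v * x) := by group
            rw [this]
            exact U.mul_mem (U.inv_mem hvU) (hWU hx)
        · have hlt : W < adjoinInvol W v (hU2 v hvU) hvc := by
            refine lt_of_le_of_ne (fun x hx => Or.inl hx) ?_
            intro heq
            apply hvW
            rw [heq]
            right
            rw [hU2 v hvU]; exact W.one_mem
          have hdvd : Nat.card W ∣ Nat.card (adjoinInvol W v (hU2 v hvU) hvc) :=
            Subgroup.card_dvd_of_le hlt.le
          have hne : Nat.card (adjoinInvol W v (hU2 v hvU) hvc) ≠ Nat.card W := by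
            intro h2
            exact hlt.ne (Subgroup.eq_of_le_of_card_ge hlt.le (by rw [h2]))
          have hpos : 0 < Nat.card (adjoinInvol W v (hU2 v hvU) hvc) := Nat.card_pos
          have hposW : 0 < Nat.card W := Nat.card_pos
          obtain ⟨m, hm⟩ := hdvd
          rcases m with _ | _ | m
          · omega
          · omega
          · rw [hm]; nlinarith
        · intro w hw hwW'
          rcases hwW' with hwW | hwW
          · exact hh'W w hw hwW
          · -- w = v * (v * w)
            have hvwU : v * w ∈ U := hWU hwW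
            have h1 := hh'W (v * w) hvwU hwW
            have h2 : (⟨w, hw⟩ : ↥U) = ⟨v, hvU⟩ * ⟨v * w, hvwU⟩ := by
              apply Subtype.ext
              show w = v * (v * w)
              rw [← mul_assoc, hU2 v hvU, one_mul]
            rw [h2, map_mul]
            show h' * w * h'⁻¹ = ((φ ⟨v, hvU⟩ : ↥U) : G) * ((φ ⟨v * w, hvwU⟩ : ↥U) : G)
            rw [← hh'v, ← h1]
            have : w = v * (v * w) := by rw [← mul_assoc, hU2 v hvU, one_mul]
            conv_lhs => rw [this]
            group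
      by_cases hu1 : v * v' = 1
      · -- v' = v
        have hvv' : v' = v := by
          have h1 : v' = v⁻¹ := (inv_eq_of_mul_eq_one_right hu1).symm
          rw [h1]; exact inv_eq_of_mul_eq_one_right (hU2 v hvU)
        apply hagree h hhLU hh
        have h2 := hhv'
        rw [hvv'] at h2
        exact h2
      · -- use Q u with u = v * v'
        obtain ⟨u, hu⟩ : ∃ u, u = v * v' := ⟨_, rfl⟩
        rw [← hu] at hu1
        have huU : u ∈ U := by rw [hu]; exact U.mul_mem hvU hv'U
        have hEu := hEL u huU hu1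
        have huc : ∀ w ∈ W, u * w = w * u := fun w hw => hcommU u huU w (hWU hw)
        have huv : u * v = v' := by
          rw [hu, hcommU v hvU v' hv'U, mul_assoc, hU2 v hvU, mul_one]
        have hfin : Finite ↥(Q u) := inferInstance
        have hW₁Q : adjoinInvol W u (hU2 u huU) huc ≤ Q u := by
          intro x hx
          rcases hx with hx | hx
          · exact hUQ u huU hu1 (hWU hx)
          · have : x = u⁻¹ * (u * x) := by group
            rw [this]
            exact (Q u).mul_mem ((Q u).inv_mem hEu.hzQ) (hUQ u huU hu1 (hWU hx))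
        have huW₁ : u ∈ adjoinInvol W u (hU2 u huU) huc := by
          right; rw [hU2 u huU]; exact W.one_mem
        have hvW₁ : v ∉ adjoinInvol W u (hU2 u huU) huc := by
          rintro (hx | hx)
          · exact hvW hx
          · rw [huv] at hx; exact hv'W hx
        obtain ⟨g, hgQ, hgW₁, hgv⟩ := hEu.exists_centralizing (adjoinInvol W u (hU2 u huU) huc)
          hW₁Q huW₁ (hUQ u huU hu1 hvU) hvW₁
        have hgLU : g ∈ LU := hQle u huU hu1 hgQ
        apply hagree (h * g) (LU.mul_mem hhLU hgLU)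
        · intro w hw hwW
          have h1 : g * w * g⁻¹ = w := by
            have := hgW₁ w (Or.inl hwW)
            rw [← this]; group
          calc h * g * w * (h * g)⁻¹ = h * (g * w * g⁻¹) * h⁻¹ := by group
            _ = h * w * h⁻¹ := by rw [h1]
            _ = _ := hh w hw hwW
        · calc h * g * v * (h * g)⁻¹ = h * (g * v * g⁻¹) * h⁻¹ := by group
            _ = h * v' * h⁻¹ := by rw [hgv, huv]
            _ = _ := hhv'
  obtain ⟨W, hWU, hW, h, hhLU, hh⟩ := hstep (Nat.card U + 1)
  have hWeq : W = U := by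
    rcases hW with h1 | h1
    · exact h1
    · exfalso
      have : Nat.card W ≤ Nat.card U := Nat.le_of_dvd Nat.card_pos (Subgroup.card_dvd_of_le hWU)
      omega
  refine ⟨h, hhLU, ?_⟩
  intro u
  exact hh u u.2 (by rw [hWeq]; exact u.2)

end Cfsg.Agent.S5596
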