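import Cfsg.Statements.S5597
import Cfsg.Agent.Lib.Helper38.Singular

set_option autoImplicit false
open Cfsg

namespace Cfsg.Agent.S5597

/-- Setting: `z` is an involution of the finite group `G`; for each element `x`, `Q x` is the largest normal 2-subgroup of the centralizer of `x`; `Q z` is extraspecial and contains its own centralizer in `G`. A subgroup `U` is singular when it is elementary abelian, every non-identity element of `U` is conjugate to `z`, and any two non-identity elements `u`, `v` of `U` are orthogonal (`v ∈ Q u`). Write `QU` for the intersection of the `Q u` and `LU` for the join of the `Q u` over the non-identity `u` in `U`. If `U` is a non-trivial singular subgroup, then `LU` acts trivially on `QU / U` (every commutator of an element of `LU` with an element of `QU` lies in `U`), and for every `x` in `QU` outside `U` the centralizer of `U` in `LU` permutes the coset `x U` transitively: each `x u` with `u ∈ U` is a conjugate of `x` by an element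 of `LU` centralizing `U`. -/
theorem result {G : Type*} [Group G] [Finite G]
    (Q : G → Subgroup G)
    (hQ : ∀ x : G, Q x = (Cfsg.pCore 2 ↥(Subgroup.centralizer ({x} : Set G))).map (Subgroup.centralizer ({x} : Set G)).subtype)
    (z : G) (hz : orderOf z = 2) (hE : Cfsg.IsExtraspecial 2 ↥(Q z))
    (hC : Subgroup.centralizer ((Q z : Subgroup G) : Set G) ≤ Q z)
    (U : Subgroup G) (hU2 : ∀ u ∈ U, u * u = 1)
    (hS : ∀ u ∈ U, u ≠ 1 → ∃ g : G, g * z * g⁻¹ = u)
    (hO : ∀ u ∈ U, ∀ v ∈ U, u ≠ 1 → v ≠ 1 → v ∈ Q u)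
    (QU LU : Subgroup G) (hQU : QU = ⨅ u ∈ ((U : Set G) \ {1}), Q u) (hLU : LU = ⨆ u ∈ ((U : Set G) \ {1}), Q u)
    (hU : U ≠ ⊥) :
    (∀ g ∈ LU, ∀ x ∈ QU, g * x * g⁻¹ * x⁻¹ ∈ U) ∧
      ∀ x ∈ QU, x ∉ U → ∀ u ∈ U, ∃ g ∈ LU ⊓ Subgroup.centralizer (U : Set G), g * x * g⁻¹ = x * u := by
  classical
  -- basic facts
  have hEL : ∀ u ∈ U, u ≠ 1 → Cfsg.Agent.Lib.Helper38.ExtraLike (Q u) u := by
    intro u hu hu1
    obtain ⟨g, hg⟩ := hS u hu hu1
    rw [← hg]
    exact Cfsg.Agent.Lib.Helper38.extraLike_Q_conj Q hQ z hz hE hC g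
  have hUQ : ∀ u ∈ U, u ≠ 1 → U ≤ Q u := by
    intro u hu hu1 v hv
    by_cases hv1 : v = 1
    · rw [hv1]; exact (Q u).one_mem
    · exact hO u hu v hv hu1 hv1
  have hQUle : ∀ u ∈ U, u ≠ 1 → QU ≤ Q u := by
    intro u hu hu1
    rw [hQU]
    exact iInf₂_le u ⟨hu, fun h => hu1 (by rw [Set.mem_singleton_iff] at h; exact h)⟩
  have hQle : ∀ u ∈ U, u ≠ 1 → Q u ≤ LU := by
    intro u hu hu1
    rw [hLU]
    exact le_iSup₂ (f := fun u (_ : u ∈ ((U : Set G) \ {1})) => Q u) u
      ⟨hu, fun h => hu1 (by rw [Set.mem_singleton_iff] at h; exact h)⟩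
  -- the key property of elements of LU
  have hP : ∀ g ∈ LU, (∀ v ∈ U, g * v * g⁻¹ ∈ U) ∧ (∀ x ∈ QU, g * x * g⁻¹ * x⁻¹ ∈ U) := by
    intro g hg
    rw [hLU] at hg
    refine Subgroup.iSup_induction _ (C := fun g => (∀ v ∈ U, g * v * g⁻¹ ∈ U) ∧
      (∀ x ∈ QU, g * x * g⁻¹ * x⁻¹ ∈ U)) hg ?_ ?_ ?_
    · intro u y hy
      by_cases hu : u ∈ ((U : Set G) \ {1})
      · rw [iSup_pos hu] at hy
        have huU : u ∈ U := hu.1
        have hu1 : u ≠ 1 := fun h => hu.2 (by rw [Set.mem_singleton_iff]; exact h)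
        have hEu := hEL u huU hu1
        constructor
        · intro v hv
          rcases hEu.conj_eq hy (hUQ u huU hu1 hv) with h1 | h1 <;> rw [h1]
          · exact hv
          · exact U.mul_mem huU hv
        · intro x hx
          rcases hEu.comm_eq hy (hQUle u huU hu1 hx) with h1 | h1 <;> rw [h1]
          · exact U.one_mem
          · exact huU
      · rw [iSup_neg hu, Subgroup.mem_bot] at hy
        rw [hy]
        constructor
        · intro v hv; simpa using hv
        · intro x _; simp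
    · constructor
      · intro v hv; simpa using hv
      · intro x _; simp
    · rintro g₁ g₂ ⟨h1a, h1b⟩ ⟨h2a, h2b⟩
      constructor
      · intro v hv
        have : g₁ * g₂ * v * (g₁ * g₂)⁻¹ = g₁ * (g₂ * v * g₂⁻¹) * g₁⁻¹ := by group
        rw [this]
        exact h1a _ (h2a v hv)
      · intro x hx
        have : g₁ * g₂ * x * (g₁ * g₂)⁻¹ * x⁻¹ =
            (g₁ * (g₂ * x * g₂⁻¹ * x⁻¹) * g₁⁻¹) * (g₁ * x * g₁⁻¹ * x⁻¹) := by group
        rw [this]
        exact U.mul_mem (h1a _ (h2b x hx)) (h1b x hx)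
  refine ⟨fun g hg x hx => (hP g hg).2 x hx, ?_⟩
  intro x hxQU hxU u hu
  by_cases hu1 : u = 1
  · refine ⟨1, Subgroup.one_mem _, ?_⟩
    rw [hu1]; group
  · have hEu := hEL u hu hu1
    have hfin : Finite ↥(Q u) := inferInstance
    obtain ⟨g, hgQ, hgU, hgx⟩ := hEu.exists_centralizing U (hUQ u hu hu1) hu
      (hQUle u hu hu1 hxQU) hxU
    refine ⟨g, ⟨hQle u hu hu1 hgQ, Subgroup.mem_centralizer_iff.mpr hgU⟩, ?_⟩
    · rw [hgx]
      exact (hEu.hzc x (hQUle u hu hu1 hxQU)).symm

end Cfsg.Agent.S5597
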