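import Cfsg.Statements.S5598
import Cfsg.Agent.Lib.Helper38.Singular

set_option autoImplicit false
open Cfsg

namespace Cfsg.Agent.S5598

/-- Setting: `z` is an involution of the finite group `G`; for each element `x`, `Q x` is the largest normal 2-subgroup of the centralizer of `x`; `Q z` is extraspecial and contains its own centralizer in `G`. A subgroup `U` is singular when it is elementary abelian, every non-identity element of `U` is conjugate to `z`, and any two non-identity elements `u`, `v` of `U` are orthogonal (`v ∈ Q u`). Write `QU` for the intersection of the `Q u` and `LU` for the join of the `Q u` over the non-identity `u` in `U`. If the singular subgroup `U` is generated by a set `T` of non-identity elements, then `QU` is already the intersection of the `Q t` over `t ∈ T`. -/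
theorem result {G : Type*} [Group G] [Finite G]
    (Q : G → Subgroup G)
    (hQ : ∀ x : G, Q x = (Cfsg.pCore 2 ↥(Subgroup.centralizer ({x} : Set G))).map (Subgroup.centralizer ({x} : Set G)).subtype)
    (z : G) (hz : orderOf z = 2) (hE : Cfsg.IsExtraspecial 2 ↥(Q z))
    (hC : Subgroup.centralizer ((Q z : Subgroup G) : Set G) ≤ Q z)
    (U : Subgroup G) (hU2 : ∀ u ∈ U, u * u = 1)
    (hS : ∀ u ∈ U, u ≠ 1 → ∃ g : G, g * z * g⁻¹ = u)
    (hO : ∀ u ∈ U, ∀ v ∈ U, u ≠ 1 → v ≠ 1 → v ∈ Q u)
    (QU LU : Subgroup G) (hQU : QU = ⨅ u ∈ ((U : Set G) \ {1}), Q u) (hLU : LU = ⨆ u ∈ ((U : Set G) \ {1}), Q u)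
    (T : Set G) (hT : Subgroup.closure T = U) (hT1 : (1 : G) ∉ T) :
    QU = ⨅ t ∈ T, Q t := by
  classical
  have hTU : T ⊆ (U : Set G) := by
    rw [← hT]; exact Subgroup.subset_closure
  rw [hQU]
  apply le_antisymm
  · apply le_iInf₂
    intro t ht
    exact iInf₂_le t ⟨hTU ht, fun h => hT1 (by rw [Set.mem_singleton_iff] at h; rw [← h]; exact ht)⟩
  · intro x hx
    simp only [Subgroup.mem_iInf] at hx
    have key : ∀ u ∈ Subgroup.closure T, u ≠ 1 → x ∈ Q u := by
      intro u hu
      induction hu using Subgroup.closure_induction with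
      | mem t ht => intro _; exact hx t ht
      | one => intro h; exact absurd rfl h
      | mul a b ha hb iha ihb =>
        intro hab
        rw [hT] at ha hb
        by_cases ha1 : a = 1
        · rw [ha1, one_mul]; apply ihb; rw [ha1, one_mul] at hab; exact hab
        by_cases hb1 : b = 1
        · rw [hb1, mul_one]; apply iha; rw [hb1, mul_one] at hab; exact hab
        have hxa := iha ha1
        have hxb := ihb hb1
        obtain ⟨g, hg⟩ := hS a ha ha1
        have hEa : Cfsg.Agent.Lib.Helper38.ExtraLike (Q a) a := by
          rw [← hg]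
          exact Cfsg.Agent.Lib.Helper38.extraLike_Q_conj Q hQ z hz hE hC g
        have hba : b ≠ a := by
          intro h
          apply hab
          rw [h]; exact hU2 a ha
        have habU : a * b ∈ U := U.mul_mem ha hb
        have := Cfsg.Agent.Lib.Helper38.Q_inf_le_Q_mul Q hQ b a hEa (hO a ha b hb ha1 hb1) hb1 hba
          (hO (a * b) habU a ha hab ha1)
        exact this ⟨hxb, hxa⟩
      | inv a ha iha =>
        intro hainv
        rw [hT] at ha
        have h1 : a⁻¹ = a := inv_eq_of_mul_eq_one_right (hU2 a ha)
        rw [h1] at hainv ⊢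
        exact iha hainv
    simp only [Subgroup.mem_iInf]
    intro u hu
    apply key u
    · rw [hT]; exact hu.1
    · intro h; exact hu.2 (by rw [Set.mem_singleton_iff]; exact h)

end Cfsg.Agent.S5598
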