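import Cfsg.Statements.S5599
import Cfsg.Agent.Lib.Helper92.M24Invol

set_option autoImplicit false
open Cfsg

namespace Cfsg.Agent.S5599

open Cfsg.Agent.Lib.Helper10 Cfsg.Agent.Lib.Helper92
open scoped Pointwise

theorem mem_M22_iff (σ : Equiv.Perm GolayPt) :
    σ ∈ Cfsg.Spor.M22 ↔ σ ∈ M24 ∧ σ none = none ∧ σ (some 0) = some 0 := by
  unfold Cfsg.Spor.M22 Cfsg.Spor.M23
  simp only [Subgroup.mem_inf, MulAction.mem_stabilizer_iff, Equiv.Perm.smul_def, and_assoc]

theorem smul_pair (σ : Equiv.Perm GolayPt) :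
    σ • ({none, some 0} : Finset GolayPt) = {σ none, σ (some 0)} := by
  rw [Finset.smul_finset_insert, Finset.smul_finset_singleton]
  rfl

theorem pair_eq_iff (a b : GolayPt) :
    ({a, b} : Finset GolayPt) = {none, some 0} ↔
      (a = none ∧ b = some 0) ∨ (a = some 0 ∧ b = none) := by
  constructor
  · intro h
    have ha : a ∈ ({none, some 0} : Finset GolayPt) := by rw [← h]; simp
    have hb : b ∈ ({none, some 0} : Finset GolayPt) := by rw [← h]; simp
    have hn : (none : GolayPt) ∈ ({a, b} : Finset GolayPt) := by rw [h]; simp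
    have hs : (some 0 : GolayPt) ∈ ({a, b} : Finset GolayPt) := by rw [h]; simp
    simp only [Finset.mem_insert, Finset.mem_singleton] at ha hb hn hs
    rcases ha with ha | ha <;> rcases hb with hb | hb
    · subst ha; subst hb
      rcases hs with hs | hs <;> exact absurd hs (by decide)
    · exact Or.inl ⟨ha, hb⟩
    · exact Or.inr ⟨ha, hb⟩
    · subst ha; subst hb
      rcases hn with hn | hn <;> exact absurd hn (by decide)
  · rintro (⟨rfl, rfl⟩ | ⟨rfl, rfl⟩)
    · rfl
    · exact Finset.pair_comm _ _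

theorem mem_pairStab_iff (σ : Equiv.Perm GolayPt) :
    σ ∈ M24 ⊓ MulAction.stabilizer (Equiv.Perm GolayPt) ({none, some 0} : Finset GolayPt) ↔
      σ ∈ M24 ∧ ((σ none = none ∧ σ (some 0) = some 0) ∨ (σ none = some 0 ∧ σ (some 0) = none)) := by
  rw [Subgroup.mem_inf]
  apply and_congr_right
  intro _
  rw [MulAction.mem_stabilizer_iff, smul_pair, pair_eq_iff]

/-- 5-transitivity with explicit points. -/
theorem exists_map5 (p0 p1 p2 p3 p4 q0 q1 q2 q3 q4 : GolayPt) (hp : [p0, p1, p2, p3, p4].Nodup)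
    (hq : [q0, q1, q2, q3, q4].Nodup) :
    ∃ σ ∈ M24, σ p0 = q0 ∧ σ p1 = q1 ∧ σ p2 = q2 ∧ σ p3 = q3 ∧ σ p4 = q4 := by
  let x : Fin 5 ↪ GolayPt := ⟨[p0, p1, p2, p3, p4].get, List.nodup_iff_injective_get.mp hp⟩
  let y : Fin 5 ↪ GolayPt := ⟨[q0, q1, q2, q3, q4].get, List.nodup_iff_injective_get.mp hq⟩
  obtain ⟨σ, hσ, h⟩ := five_trans x y
  exact ⟨σ, H_le_M24 hσ, h 0, h 1, h 2, h 3, h 4⟩

/-- a word moving the seven base points away from the two special points. -/
def awayWord : List ℕ := [0, 0, 1, 0]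

theorem awayWord_spec : ∀ i : Fin 7,
    evalW awayWord (base.getD i 0) ≠ 23 ∧ evalW awayWord (base.getD i 0) ≠ 0 := by
  decide +kernel

theorem pt_ne_none {j : ℕ} (hj : j < 24) (h : j ≠ 23) : pt j ≠ none := by
  intro e
  have := congrArg idx e
  rw [idx_pt hj] at this
  exact h this

theorem pt_ne_zero {j : ℕ} (hj : j < 24) (h : j ≠ 0) : pt j ≠ some 0 := by
  intro e
  have := congrArg idx e
  rw [idx_pt hj] at this
  exact h this

/-- no element of `M24` interchanges the two special points and fixes all other points. -/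
theorem no_transposition (c : Equiv.Perm GolayPt) (hc : c ∈ M24)
    (hfix : ∀ p, p ≠ none → p ≠ some 0 → c p = p) (hn : c none = some 0) : False := by
  have hk : wordPerm awayWord ∈ M24 := wordPerm_mem_M24 _
  have hc' : (wordPerm awayWord)⁻¹ * c * wordPerm awayWord ∈ M24 :=
    M24.mul_mem (M24.mul_mem (M24.inv_mem hk) hc) hk
  have hfixb : ∀ i < 7, ((wordPerm awayWord)⁻¹ * c * wordPerm awayWord) (bpt i) = bpt i := by
    intro i hi
    show (wordPerm awayWord)⁻¹ (c (wordPerm awayWord (bpt i))) = bpt i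
    rw [Equiv.Perm.inv_eq_iff_eq]
    obtain ⟨h1, h2⟩ := awayWord_spec ⟨i, hi⟩
    have hlt : evalW awayWord (base.getD i 0) < 24 := evalW_lt _ (base_lt ⟨i, hi⟩)
    have e : wordPerm awayWord (bpt i) = pt (evalW awayWord (base.getD i 0)) :=
      wordPerm_pt (base_lt ⟨i, hi⟩) rfl
    rw [e]
    exact hfix _ (pt_ne_none hlt h1) (pt_ne_zero hlt h2)
  have hone := eq_one_of_fixes_base hc' hfixb
  have hc1 : c = 1 := by
    calc c = wordPerm awayWord * ((wordPerm awayWord)⁻¹ * c * wordPerm awayWord) *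
          (wordPerm awayWord)⁻¹ := by group
      _ = 1 := by rw [hone]; group
  rw [hc1] at hn
  exact absurd hn (by decide)

/-- In the automorphism group of the length-24 code, the two-point Mathieu group (permutations of the code's group fixing the extra point and the residue 0) has index 2 in the setwise stabiliser of that pair of points, and an element of the code's group interchanging the two points normalises the two-point group and induces on it, by conjugation, an automorphism that is not inner. -/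
theorem result (g : Equiv.Perm Cfsg.GolayPt) (hg : g ∈ Cfsg.M24) (h₁ : g none = some 0) (h₂ : g (some 0) = none) : Cfsg.Spor.M22.relIndex (Cfsg.M24 ⊓ MulAction.stabilizer (Equiv.Perm Cfsg.GolayPt) ({none, some 0} : Finset Cfsg.GolayPt)) = 2 ∧ (∀ x ∈ Cfsg.Spor.M22, g * x * g⁻¹ ∈ Cfsg.Spor.M22) ∧ ¬ ∃ h ∈ Cfsg.Spor.M22, ∀ x ∈ Cfsg.Spor.M22, g * x * g⁻¹ = h * x * h⁻¹ := by
  have hgi1 : g⁻¹ none = some 0 := by rw [Equiv.Perm.inv_eq_iff_eq]; exact h₂.symm
  have hgi2 : g⁻¹ (some 0) = none := by rw [Equiv.Perm.inv_eq_iff_eq]; exact h₁.symm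
  refine ⟨?_, ?_, ?_⟩
  · rw [Subgroup.relIndex_eq_two_iff_exists_notMem_and]
    refine ⟨g, ?_, ?_, ?_⟩
    · rw [mem_pairStab_iff]
      exact ⟨hg, Or.inr ⟨h₁, h₂⟩⟩
    · rw [mem_M22_iff]
      rintro ⟨_, h, _⟩
      rw [h₁] at h
      exact absurd h (by decide)
    · intro b hb
      rw [mem_pairStab_iff] at hb
      obtain ⟨hbM, ⟨hb1, hb2⟩ | ⟨hb1, hb2⟩⟩ := hb
      · right
        rw [mem_M22_iff]
        exact ⟨hbM, hb1, hb2⟩
      · left
        rw [mem_M22_iff]
        refine ⟨M24.mul_mem hbM hg, ?_, ?_⟩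
        · show b (g none) = none
          rw [h₁, hb2]
        · show b (g (some 0)) = some 0
          rw [h₂, hb1]
  · intro x hx
    rw [mem_M22_iff] at hx ⊢
    obtain ⟨hxM, hx1, hx2⟩ := hx
    refine ⟨M24.mul_mem (M24.mul_mem hg hxM) (M24.inv_mem hg), ?_, ?_⟩
    · show g (x (g⁻¹ none)) = none
      rw [hgi1, hx2, h₂]
    · show g (x (g⁻¹ (some 0))) = some 0
      rw [hgi2, hx1, h₁]
  · rintro ⟨h, hh, hconj⟩
    rw [mem_M22_iff] at hh
    obtain ⟨hhM, hh1, hh2⟩ := hh
    have hhi1 : h⁻¹ none = none := by rw [Equiv.Perm.inv_eq_iff_eq]; exact hh1.symm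
    have hhi2 : h⁻¹ (some 0) = some 0 := by rw [Equiv.Perm.inv_eq_iff_eq]; exact hh2.symm
    -- c = h⁻¹ g centralises M22
    have hcM : h⁻¹ * g ∈ M24 := M24.mul_mem (M24.inv_mem hhM) hg
    have hcomm : ∀ x ∈ Cfsg.Spor.M22, (h⁻¹ * g) * x = x * (h⁻¹ * g) := by
      intro x hx
      have := hconj x hx
      calc (h⁻¹ * g) * x = h⁻¹ * (g * x * g⁻¹) * g := by group
        _ = h⁻¹ * (h * x * h⁻¹) * g := by rw [this]
        _ = x * (h⁻¹ * g) := by group
    have hcn : (h⁻¹ * g) none = some 0 := by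
      show h⁻¹ (g none) = some 0
      rw [h₁, hhi2]
    have hcz : (h⁻¹ * g) (some 0) = none := by
      show h⁻¹ (g (some 0)) = none
      rw [h₂, hhi1]
    apply no_transposition (h⁻¹ * g) hcM _ hcn
    intro p hpn hpz
    by_contra hne
    -- q = c p is a further point
    have hqn : (h⁻¹ * g) p ≠ none := by
      intro e
      rw [← hcz] at e
      exact hpz ((h⁻¹ * g).injective e)
    have hqz : (h⁻¹ * g) p ≠ some 0 := by
      intro e
      rw [← hcn] at e
      exact hpn ((h⁻¹ * g).injective e)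
    obtain ⟨r, hr⟩ := exists_notMem (card4 none (some 0) p ((h⁻¹ * g) p))
    simp only [Finset.mem_insert, Finset.mem_singleton, not_or] at hr
    obtain ⟨hrn, hrz, hrp, hrq⟩ := hr
    have hnz : (none : GolayPt) ≠ some 0 := by decide
    have hnd1 : [none, some 0, p, (h⁻¹ * g) p, r].Nodup :=
      nodup5 hnz (Ne.symm hpn) (Ne.symm hqn) (Ne.symm hrn) (Ne.symm hpz) (Ne.symm hqz)
        (Ne.symm hrz) (Ne.symm hne) (Ne.symm hrp) (Ne.symm hrq)
    have hnd2 : [none, some 0, p, r, (h⁻¹ * g) p].Nodup :=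
      nodup5 hnz (Ne.symm hpn) (Ne.symm hrn) (Ne.symm hqn) (Ne.symm hpz) (Ne.symm hrz)
        (Ne.symm hqz) (Ne.symm hrp) (Ne.symm hne) hrq
    obtain ⟨x, hxM, x0, x1, x2, x3, _⟩ := exists_map5 _ _ _ _ _ _ _ _ _ _ hnd1 hnd2
    have hx22 : x ∈ Cfsg.Spor.M22 := (mem_M22_iff x).mpr ⟨hxM, x0, x1⟩
    have := congrArg (fun σ : Equiv.Perm GolayPt => σ p) (hcomm x hx22)
    simp only [Equiv.Perm.coe_mul, Function.comp_apply] at this
    rw [x2] at this
    have e : (h⁻¹ * g) p = h⁻¹ (g p) := rfl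
    rw [← e, x3] at this
    exact hrq this.symm

end Cfsg.Agent.S5599
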