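import Cfsg.Statements.S5600
import Cfsg.Agent.Lib.Helper95.M24Seven
import Cfsg.Agent.Lib.Helper95.M12Hexad

set_option autoImplicit false
open scoped Pointwise
open Cfsg

namespace Cfsg.Agent.S5600

open Cfsg.Agent.Lib.Helper95 Cfsg.Agent.Lib.Helper10 MulAction

theorem nodup_of_inj (f : Fin 6 → Cfsg.GolayPt) (hf : Function.Injective f) :
    [f 0, f 1, f 2, f 3, f 4].Nodup := by
  apply nodup5 <;> (intro h; have := hf h; revert this; decide)

theorem ne5_of_inj (f : Fin 6 → Cfsg.GolayPt) (hf : Function.Injective f) :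
    f 5 ≠ f 0 ∧ f 5 ≠ f 1 ∧ f 5 ≠ f 2 ∧ f 5 ≠ f 3 ∧ f 5 ≠ f 4 := by
  refine ⟨?_, ?_, ?_, ?_, ?_⟩ <;> (intro h; have := hf h; revert this; decide)

theorem forall_fin6 {P : Fin 6 → Prop} (h0 : P 0) (h1 : P 1) (h2 : P 2) (h3 : P 3) (h4 : P 4)
    (h5 : P 5) : ∀ i, P i := by
  intro i
  fin_cases i
  · exact h0
  · exact h1
  · exact h2
  · exact h3
  · exact h4
  · exact h5

/-- six points of an octad: any bijection between two such 6-tuples is induced. -/
theorem lemmaA (f f' : Fin 6 → Cfsg.GolayPt) (hf : Function.Injective f)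
    (hf' : Function.Injective f') (o : Finset Cfsg.GolayPt) (ho : o ∈ Cfsg.octads)
    (hfo : ∀ i, f i ∈ o) (o' : Finset Cfsg.GolayPt) (ho' : o' ∈ Cfsg.octads)
    (hfo' : ∀ i, f' i ∈ o') :
    ∃ g ∈ Cfsg.M24, ∀ i, g (f i) = f' i := by
  obtain ⟨z, hz⟩ := exists_notMem24 (s := o) (by rw [ho.2]; omega)
  obtain ⟨z', hz'⟩ := exists_notMem24 (s := o') (by rw [ho'.2]; omega)
  obtain ⟨k, hk, e0, e1, e2, e3, e4, -, e6⟩ := exists_seven (f 0) (f 1) (f 2) (f 3) (f 4) z (f 5)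
    (nodup_of_inj f hf) o ho (hfo 0) (hfo 1) (hfo 2) (hfo 3) (hfo 4) hz (hfo 5) (ne5_of_inj f hf)
  obtain ⟨l, hl, d0, d1, d2, d3, d4, -, d6⟩ := exists_seven (f' 0) (f' 1) (f' 2) (f' 3) (f' 4) z' (f' 5)
    (nodup_of_inj f' hf') o' ho' (hfo' 0) (hfo' 1) (hfo' 2) (hfo' 3) (hfo' 4) hz' (hfo' 5)
    (ne5_of_inj f' hf')
  refine ⟨l * k⁻¹, Cfsg.M24.mul_mem hl (Cfsg.M24.inv_mem hk), ?_⟩
  apply forall_fin6
  · show l (k⁻¹ (f 0)) = f' 0
    rw [← e0]; simpa using d0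
  · show l (k⁻¹ (f 1)) = f' 1
    rw [← e1]; simpa using d1
  · show l (k⁻¹ (f 2)) = f' 2
    rw [← e2]; simpa using d2
  · show l (k⁻¹ (f 3)) = f' 3
    rw [← e3]; simpa using d3
  · show l (k⁻¹ (f 4)) = f' 4
    rw [← e4]; simpa using d4
  · show l (k⁻¹ (f 5)) = f' 5
    rw [← e6]; simpa using d6

/-- six points not in an octad. -/
theorem exists_six_of_not (f : Fin 6 → Cfsg.GolayPt) (hf : Function.Injective f)
    (hno : ¬ ∃ o ∈ Cfsg.octads, ∀ i, f i ∈ o) :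
    ∃ k ∈ Cfsg.M24, k (bpt 0) = f 0 ∧ k (bpt 1) = f 1 ∧ k (bpt 2) = f 2 ∧ k (bpt 3) = f 3 ∧
      k (bpt 4) = f 4 ∧ k (bpt 5) = f 5 := by
  obtain ⟨o, ho, h0, h1, h2, h3, h4⟩ := exists_octad_five (f 0) (f 1) (f 2) (f 3) (f 4)
    (nodup_of_inj f hf)
  have h5 : f 5 ∉ o := by
    intro h5
    exact hno ⟨o, ho, forall_fin6 h0 h1 h2 h3 h4 h5⟩
  exact exists_six (f 0) (f 1) (f 2) (f 3) (f 4) (f 5) (nodup_of_inj f hf) o ho h0 h1 h2 h3 h4 h5

theorem lemmaB (f f' : Fin 6 → Cfsg.GolayPt) (hf : Function.Injective f)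
    (hf' : Function.Injective f') (hno : ¬ ∃ o ∈ Cfsg.octads, ∀ i, f i ∈ o)
    (hno' : ¬ ∃ o ∈ Cfsg.octads, ∀ i, f' i ∈ o) :
    ∃ g ∈ Cfsg.M24, ∀ i, g (f i) = f' i := by
  obtain ⟨k, hk, e0, e1, e2, e3, e4, e5⟩ := exists_six_of_not f hf hno
  obtain ⟨l, hl, d0, d1, d2, d3, d4, d5⟩ := exists_six_of_not f' hf' hno'
  refine ⟨l * k⁻¹, Cfsg.M24.mul_mem hl (Cfsg.M24.inv_mem hk), ?_⟩
  apply forall_fin6
  · show l (k⁻¹ (f 0)) = f' 0
    rw [← e0]; simpa using d0
  · show l (k⁻¹ (f 1)) = f' 1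
    rw [← e1]; simpa using d1
  · show l (k⁻¹ (f 2)) = f' 2
    rw [← e2]; simpa using d2
  · show l (k⁻¹ (f 3)) = f' 3
    rw [← e3]; simpa using d3
  · show l (k⁻¹ (f 4)) = f' 4
    rw [← e4]; simpa using d4
  · show l (k⁻¹ (f 5)) = f' 5
    rw [← e5]; simpa using d5

theorem card_pointwise (E : Finset Cfsg.GolayPt) (bs : List Cfsg.GolayPt)
    {k : Equiv.Perm Cfsg.GolayPt} (hk : k ∈ Cfsg.M24) (hE : ∀ x, x ∈ E ↔ x ∈ bs.map k) :
    Nat.card {g : Equiv.Perm Cfsg.GolayPt // g ∈ Cfsg.M24 ∧ ∀ p ∈ E, g p = p} =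
      Nat.card (fixL Cfsg.M24 bs) := by
  rw [← card_fixL_map hk bs]
  apply Nat.card_congr
  apply Equiv.subtypeEquivRight
  intro g
  rw [mem_fixL]
  constructor
  · rintro ⟨h1, h2⟩
    exact ⟨h1, fun b hb => h2 b ((hE b).mpr hb)⟩
  · rintro ⟨h1, h2⟩
    exact ⟨h1, fun p hp => h2 p ((hE p).mp hp)⟩

/-- part 1. -/
theorem part1 (E : Finset Cfsg.GolayPt) (hE : E.card = 6) (σ : Equiv.Perm ↥E) :
    ∃ g ∈ Cfsg.M24, ∀ p : ↥E, g p = σ p := by
  have hcard : Fintype.card ↥E = 6 := by rw [Fintype.card_coe, hE]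
  let e : Fin 6 ≃ ↥E := (Fintype.equivFinOfCardEq hcard).symm
  let f : Fin 6 → Cfsg.GolayPt := fun i => (e i : Cfsg.GolayPt)
  let f' : Fin 6 → Cfsg.GolayPt := fun i => (σ (e i) : Cfsg.GolayPt)
  have hf : Function.Injective f := fun i j h => e.injective (Subtype.ext h)
  have hf' : Function.Injective f' := fun i j h => e.injective (σ.injective (Subtype.ext h))
  have hfE : ∀ x ∈ E, ∃ i, f i = x := by
    intro x hx
    refine ⟨e.symm ⟨x, hx⟩, ?_⟩
    show ((e (e.symm ⟨x, hx⟩) : ↥E) : Cfsg.GolayPt) = x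
    rw [Equiv.apply_symm_apply]
  have hfE' : ∀ x ∈ E, ∃ i, f' i = x := by
    intro x hx
    refine ⟨e.symm (σ.symm ⟨x, hx⟩), ?_⟩
    show ((σ (e (e.symm (σ.symm ⟨x, hx⟩))) : ↥E) : Cfsg.GolayPt) = x
    rw [Equiv.apply_symm_apply, Equiv.apply_symm_apply]
  have key : ∃ g ∈ Cfsg.M24, ∀ i, g (f i) = f' i := by
    by_cases hoct : ∃ o ∈ Cfsg.octads, E ⊆ o
    · obtain ⟨o, ho, hEo⟩ := hoct
      exact lemmaA f f' hf hf' o ho (fun i => hEo (e i).2) o ho (fun i => hEo (σ (e i)).2)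
    · apply lemmaB f f' hf hf'
      · rintro ⟨o, ho, h⟩
        apply hoct
        refine ⟨o, ho, fun x hx => ?_⟩
        obtain ⟨i, rfl⟩ := hfE x hx
        exact h i
      · rintro ⟨o, ho, h⟩
        apply hoct
        refine ⟨o, ho, fun x hx => ?_⟩
        obtain ⟨i, rfl⟩ := hfE' x hx
        exact h i
  obtain ⟨g, hg, hgf⟩ := key
  refine ⟨g, hg, fun p => ?_⟩
  have := hgf (e.symm p)
  show g (p : Cfsg.GolayPt) = ((σ p : ↥E) : Cfsg.GolayPt)
  have h1 : f (e.symm p) = (p : Cfsg.GolayPt) := by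
    show ((e (e.symm p) : ↥E) : Cfsg.GolayPt) = p
    rw [Equiv.apply_symm_apply]
  have h2 : f' (e.symm p) = ((σ p : ↥E) : Cfsg.GolayPt) := by
    show ((σ (e (e.symm p)) : ↥E) : Cfsg.GolayPt) = _
    rw [Equiv.apply_symm_apply]
  rw [h1, h2] at this
  exact this

/-- restriction of the setwise stabiliser to `E`. -/
noncomputable def resHom (E : Finset Cfsg.GolayPt) :
    ↥(MulAction.stabilizer Cfsg.M24 E) →* Equiv.Perm {x // x ∈ E} where
  toFun g := Equiv.Perm.subtypePerm ((g : ↥Cfsg.M24) : Equiv.Perm Cfsg.GolayPt)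
    (fun x => mem_iff_of_smul_eq (MulAction.mem_stabilizer_iff.mp g.2) x)
  map_one' := by
    ext x
    rfl
  map_mul' a b := by
    ext x
    rfl

theorem resHom_apply (E : Finset Cfsg.GolayPt) (g : ↥(MulAction.stabilizer Cfsg.M24 E))
    (x : {x // x ∈ E}) :
    ((resHom E g) x : Cfsg.GolayPt) = ((g : ↥Cfsg.M24) : Equiv.Perm Cfsg.GolayPt) x := rfl


/-- Although the group of the length-24 code is only 5-transitive on the 24 points, it induces the full symmetric group on every 6-element subset: every permutation of a 6-set E is the restriction of an element of the group mapping E to itself. The pointwise stabiliser of E has order 16 when E lies in an octad and order 3 otherwise; in the latter case the setwise stabiliser of E has order 2160. -/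
theorem result (E : Finset Cfsg.GolayPt) (hE : E.card = 6) : (∀ σ : Equiv.Perm ↥E, ∃ g ∈ Cfsg.M24, ∀ p : ↥E, g p = σ p) ∧ ((∃ o ∈ Cfsg.octads, E ⊆ o) → Nat.card {g : Equiv.Perm Cfsg.GolayPt // g ∈ Cfsg.M24 ∧ ∀ p ∈ E, g p = p} = 16) ∧ ((¬ ∃ o ∈ Cfsg.octads, E ⊆ o) → Nat.card {g : Equiv.Perm Cfsg.GolayPt // g ∈ Cfsg.M24 ∧ ∀ p ∈ E, g p = p} = 3 ∧ Nat.card ↥(MulAction.stabilizer Cfsg.M24 E) = 2160) := by
  classical
  have hcard : Fintype.card ↥E = 6 := by rw [Fintype.card_coe, hE]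
  let e : Fin 6 ≃ ↥E := (Fintype.equivFinOfCardEq hcard).symm
  let f : Fin 6 → Cfsg.GolayPt := fun i => (e i : Cfsg.GolayPt)
  have hf : Function.Injective f := fun i j h => e.injective (Subtype.ext h)
  have hfE : ∀ x ∈ E, ∃ i, f i = x := by
    intro x hx
    refine ⟨e.symm ⟨x, hx⟩, ?_⟩
    show ((e (e.symm ⟨x, hx⟩) : ↥E) : Cfsg.GolayPt) = x
    rw [Equiv.apply_symm_apply]
  have hfmem : ∀ i, f i ∈ E := fun i => (e i).2
  refine ⟨part1 E hE, ?_, ?_⟩
  · rintro ⟨o, ho, hEo⟩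
    obtain ⟨z, hz⟩ := exists_notMem24 (s := o) (by rw [ho.2]; omega)
    obtain ⟨k, hk, e0, e1, e2, e3, e4, -, e6⟩ := exists_seven (f 0) (f 1) (f 2) (f 3) (f 4) z (f 5)
      (nodup_of_inj f hf) o ho (hEo (hfmem 0)) (hEo (hfmem 1)) (hEo (hfmem 2)) (hEo (hfmem 3))
      (hEo (hfmem 4)) hz (hEo (hfmem 5)) (ne5_of_inj f hf)
    rw [card_pointwise E [bpt 0, bpt 1, bpt 2, bpt 3, bpt 4, bpt 6] hk, fixL_base5_6,
      card_chain5_stab6]
    intro x
    simp only [List.map_cons, List.map_nil, List.mem_cons, List.not_mem_nil, or_false]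
    rw [e0, e1, e2, e3, e4, e6]
    constructor
    · intro hx
      obtain ⟨i, rfl⟩ := hfE x hx
      fin_cases i
      · exact Or.inl rfl
      · exact Or.inr (Or.inl rfl)
      · exact Or.inr (Or.inr (Or.inl rfl))
      · exact Or.inr (Or.inr (Or.inr (Or.inl rfl)))
      · exact Or.inr (Or.inr (Or.inr (Or.inr (Or.inl rfl))))
      · exact Or.inr (Or.inr (Or.inr (Or.inr (Or.inr rfl))))
    · rintro (rfl | rfl | rfl | rfl | rfl | rfl) <;> exact hfmem _
  · intro hno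
    have hno' : ¬ ∃ o ∈ Cfsg.octads, ∀ i, f i ∈ o := by
      rintro ⟨o, ho, h⟩
      apply hno
      refine ⟨o, ho, fun x hx => ?_⟩
      obtain ⟨i, rfl⟩ := hfE x hx
      exact h i
    obtain ⟨k, hk, e0, e1, e2, e3, e4, e5⟩ := exists_six_of_not f hf hno'
    have hfix : Nat.card {g : Equiv.Perm Cfsg.GolayPt // g ∈ Cfsg.M24 ∧ ∀ p ∈ E, g p = p} = 3 := by
      rw [card_pointwise E [bpt 0, bpt 1, bpt 2, bpt 3, bpt 4, bpt 5] hk, fixL_base6, card_chain6]
      intro x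
      simp only [List.map_cons, List.map_nil, List.mem_cons, List.not_mem_nil, or_false]
      rw [e0, e1, e2, e3, e4, e5]
      constructor
      · intro hx
        obtain ⟨i, rfl⟩ := hfE x hx
        fin_cases i
        · exact Or.inl rfl
        · exact Or.inr (Or.inl rfl)
        · exact Or.inr (Or.inr (Or.inl rfl))
        · exact Or.inr (Or.inr (Or.inr (Or.inl rfl)))
        · exact Or.inr (Or.inr (Or.inr (Or.inr (Or.inl rfl))))
        · exact Or.inr (Or.inr (Or.inr (Or.inr (Or.inr rfl))))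
      · rintro (rfl | rfl | rfl | rfl | rfl | rfl) <;> exact hfmem _
    refine ⟨hfix, ?_⟩
    -- the setwise stabiliser
    have hsurj : Function.Surjective (resHom E) := by
      intro σ
      obtain ⟨g, hg, hgσ⟩ := part1 E hE σ
      have hgE : g • E = E := by
        apply smul_eq_of_forall_mem _ le_rfl
        intro x hx
        have := hgσ ⟨x, hx⟩
        rw [this]
        exact (σ ⟨x, hx⟩).2
      refine ⟨⟨⟨g, hg⟩, MulAction.mem_stabilizer_iff.mpr hgE⟩, ?_⟩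
      apply Equiv.ext
      intro x
      apply Subtype.ext
      rw [resHom_apply]
      exact hgσ x
    have hker : Nat.card (resHom E).ker = 3 := by
      rw [← hfix]
      apply Nat.card_congr
      refine ⟨fun x => ⟨((x.1 : ↥(MulAction.stabilizer Cfsg.M24 E)) : ↥Cfsg.M24).1,
          ((x.1 : ↥(MulAction.stabilizer Cfsg.M24 E)) : ↥Cfsg.M24).2, ?_⟩,
        fun y => ⟨⟨⟨y.1, y.2.1⟩, ?_⟩, ?_⟩, ?_, ?_⟩
      · intro p hp
        have hx : resHom E x.1 = 1 := MonoidHom.mem_ker.mp x.2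
        have := congrArg (fun τ : Equiv.Perm {x // x ∈ E} => ((τ ⟨p, hp⟩ : {x // x ∈ E}) : Cfsg.GolayPt)) hx
        exact this
      · rw [MulAction.mem_stabilizer_iff]
        apply smul_eq_of_forall_mem _ le_rfl
        intro x hx
        show y.1 x ∈ E
        rw [y.2.2 x hx]
        exact hx
      · rw [MonoidHom.mem_ker]
        apply Equiv.ext
        intro p
        apply Subtype.ext
        rw [resHom_apply]
        exact y.2.2 p.1 p.2
      · intro x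
        rfl
      · intro y
        rfl
    have h1 := Subgroup.card_mul_index (resHom E).ker
    rw [Subgroup.index_ker, MonoidHom.range_eq_top.mpr hsurj, Subgroup.card_top, hker,
      Nat.card_eq_fintype_card, Fintype.card_perm, hcard] at h1
    rw [← h1]
    decide

end Cfsg.Agent.S5600
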