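import Cfsg.Statements.S5601
import Cfsg.Agent.Lib.Helper92.M24Ord3
import Cfsg.Agent.S5394

set_option autoImplicit false
open Cfsg

namespace Cfsg.Agent.S5601

open Cfsg.Agent.Lib.Helper10 Cfsg.Agent.Lib.Helper92
open scoped Pointwise

/-- the fixed points of a subgroup of `M24`. -/
def fixSet (X : Subgroup ↥M24) : Set GolayPt :=
  {p | ∀ x ∈ X, ((x : ↥M24) : Equiv.Perm GolayPt) p = p}

theorem exists_gen (X : Subgroup ↥M24) (hX : Nat.card X = 3) :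
    ∃ x : ↥M24, orderOf x = 3 ∧ X = Subgroup.zpowers x := by
  have : Finite X := Nat.finite_of_card_ne_zero (by rw [hX]; decide)
  have hne : X ≠ ⊥ := by
    intro h
    rw [h, Subgroup.card_bot] at hX
    omega
  obtain ⟨x, hx1⟩ := (Subgroup.ne_bot_iff_exists_ne_one).mp hne
  have hx1' : (x : ↥M24) ≠ 1 := fun h => hx1 (Subtype.ext h)
  have hdvd : orderOf (x : ↥M24) ∣ 3 := by
    rw [← hX]
    exact Subgroup.orderOf_dvd_natCard X x.2
  have hord : orderOf (x : ↥M24) = 3 := by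
    rcases (Nat.dvd_prime (by decide : Nat.Prime 3)).mp hdvd with h | h
    · exact absurd (orderOf_eq_one_iff.mp h) hx1'
    · exact h
  refine ⟨x, hord, ?_⟩
  symm
  apply Subgroup.eq_of_le_of_card_ge
  · rw [Subgroup.zpowers_le]; exact x.2
  · rw [Nat.card_zpowers, hord, hX]

theorem fixSet_zpowers (x : ↥M24) :
    fixSet (Subgroup.zpowers x) = {p | (x : Equiv.Perm GolayPt) p = p} := by
  ext p
  constructor
  · intro h
    exact h x (Subgroup.mem_zpowers x)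
  · intro h y hy
    obtain ⟨n, rfl⟩ := Subgroup.mem_zpowers_iff.mp hy
    have : (((x ^ n : ↥M24)) : Equiv.Perm GolayPt) = (x : Equiv.Perm GolayPt) ^ n := by
      simp
    rw [this]
    exact Equiv.Perm.zpow_apply_eq_self_of_apply_eq_self h n

theorem ncard_fix (σ : Equiv.Perm GolayPt) :
    {p | σ p = p}.ncard = (Finset.univ.filter fun p => σ p = p).card := by
  have : {p | σ p = p} = ((Finset.univ.filter fun p => σ p = p : Finset GolayPt) : Set GolayPt) := by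
    ext p; simp
  rw [this, Set.ncard_coe_finset]

theorem card_fix_of_conj {k g z : Equiv.Perm GolayPt} (h : k * g * k⁻¹ = z) :
    (Finset.univ.filter fun p => g p = p).card = (Finset.univ.filter fun p => z p = p).card := by
  rw [Cfsg.Agent.S5394.fixed_eq_smul h, Finset.card_smul_finset]

theorem t2_fix_card : (Finset.univ.filter fun p => wordPerm t2w p = p).card = 0 := by
  rw [Finset.card_eq_zero, Finset.filter_eq_empty_iff]
  intro p _
  exact t2_fixed p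

theorem conj_smul_zpowers (k x : ↥M24) :
    MulAut.conj k • Subgroup.zpowers x = Subgroup.zpowers (k * x * k⁻¹) := by
  show (Subgroup.zpowers x).map (MulAut.conj k).toMonoidHom = _
  rw [MonoidHom.map_zpowers]
  rfl

/-- the number of fixed points of a subgroup of order 3, through a generator. -/
theorem ncard_fixSet (x : ↥M24) (ho : orderOf x = 3) :
    ((fixSet (Subgroup.zpowers x)).ncard = 6 ∧
      ∃ k ∈ M24, k * (x : Equiv.Perm GolayPt) * k⁻¹ = wordPerm t1w) ∨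
    ((fixSet (Subgroup.zpowers x)).ncard = 0 ∧
      ∃ k ∈ M24, k * (x : Equiv.Perm GolayPt) * k⁻¹ = wordPerm t2w) := by
  have ho' : orderOf (x : Equiv.Perm GolayPt) = 3 := by rw [Subgroup.orderOf_coe]; exact ho
  obtain ⟨k, hk, h | h⟩ := ord3_conj _ x.2 ho'
  · left
    refine ⟨?_, k, hk, h⟩
    rw [fixSet_zpowers, ncard_fix, card_fix_of_conj h, t1_fixed_card]
  · right
    refine ⟨?_, k, hk, h⟩
    rw [fixSet_zpowers, ncard_fix, card_fix_of_conj h, t2_fix_card]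

theorem zpowers_card (σ : Equiv.Perm GolayPt) (hσ : σ ∈ M24) (ho : orderOf σ = 3) :
    Nat.card (Subgroup.zpowers (⟨σ, hσ⟩ : ↥M24)) = 3 ∧ orderOf (⟨σ, hσ⟩ : ↥M24) = 3 := by
  have : orderOf (⟨σ, hσ⟩ : ↥M24) = 3 := by
    rw [← Subgroup.orderOf_coe]; exact ho
  exact ⟨by rw [Nat.card_zpowers, this], this⟩

theorem result : (∀ X : Subgroup ↥Cfsg.M24, Nat.card X = 3 → {p : Cfsg.GolayPt | ∀ x ∈ X, ((x : ↥Cfsg.M24) : Equiv.Perm Cfsg.GolayPt) p = p}.ncard = 6 ∨ {p : Cfsg.GolayPt | ∀ x ∈ X, ((x : ↥Cfsg.M24) : Equiv.Perm Cfsg.GolayPt) p = p}.ncard = 0) ∧ (∃ X : Subgroup ↥Cfsg.M24, Nat.card X = 3 ∧ {p : Cfsg.GolayPt | ∀ x ∈ X, ((x : ↥Cfsg.M24) : Equiv.Perm Cfsg.GolayPt) p = p}.ncard = 6) ∧ (∃ X : Subgroup ↥Cfsg.M24, Nat.card X = 3 ∧ {p : Cfsg.GolayPt | ∀ x ∈ X, ((x : ↥Cfsg.M24) : Equiv.Perm Cfsg.GolayPt) p = p}.ncard = 0) ∧ ∀ X Y : Subgroup ↥Cfsg.M24, Nat.card X = 3 → Nat.card Y = 3 → {p : Cfsg.GolayPt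 | ∀ x ∈ X, ((x : ↥Cfsg.M24) : Equiv.Perm Cfsg.GolayPt) p = p}.ncard = {p : Cfsg.GolayPt | ∀ x ∈ Y, ((x : ↥Cfsg.M24) : Equiv.Perm Cfsg.GolayPt) p = p}.ncard → ∃ k : ↥Cfsg.M24, MulAut.conj k • X = Y := by
  refine ⟨?_, ?_, ?_, ?_⟩
  · intro X hX
    obtain ⟨x, ho, rfl⟩ := exists_gen X hX
    rcases ncard_fixSet x ho with h | h
    · exact Or.inl h.1
    · exact Or.inr h.1
  · obtain ⟨hc, ho⟩ := zpowers_card (wordPerm t1w) (wordPerm_mem_M24 _) (orderOf_eq_three_of t1_cube)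
    refine ⟨Subgroup.zpowers ⟨wordPerm t1w, wordPerm_mem_M24 _⟩, hc, ?_⟩
    show (fixSet (Subgroup.zpowers ⟨wordPerm t1w, wordPerm_mem_M24 _⟩)).ncard = 6
    rw [fixSet_zpowers, ncard_fix]
    exact t1_fixed_card
  · obtain ⟨hc, ho⟩ := zpowers_card (wordPerm t2w) (wordPerm_mem_M24 _) (orderOf_eq_three_of t2_cube)
    refine ⟨Subgroup.zpowers ⟨wordPerm t2w, wordPerm_mem_M24 _⟩, hc, ?_⟩
    show (fixSet (Subgroup.zpowers ⟨wordPerm t2w, wordPerm_mem_M24 _⟩)).ncard = 0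
    rw [fixSet_zpowers, ncard_fix]
    exact t2_fix_card
  · intro X Y hX hY hXY
    obtain ⟨x, hox, rfl⟩ := exists_gen X hX
    obtain ⟨y, hoy, rfl⟩ := exists_gen Y hY
    have hXY' : (fixSet (Subgroup.zpowers x)).ncard = (fixSet (Subgroup.zpowers y)).ncard := hXY
    have key : ∃ k1 ∈ M24, ∃ k2 ∈ M24, ∃ z : Equiv.Perm GolayPt,
        k1 * (x : Equiv.Perm GolayPt) * k1⁻¹ = z ∧ k2 * (y : Equiv.Perm GolayPt) * k2⁻¹ = z := by
      rcases ncard_fixSet x hox with ⟨hx, k1, hk1, e1⟩ | ⟨hx, k1, hk1, e1⟩ <;>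
      rcases ncard_fixSet y hoy with ⟨hy, k2, hk2, e2⟩ | ⟨hy, k2, hk2, e2⟩
      · exact ⟨k1, hk1, k2, hk2, _, e1, e2⟩
      · rw [hx, hy] at hXY'; omega
      · rw [hx, hy] at hXY'; omega
      · exact ⟨k1, hk1, k2, hk2, _, e1, e2⟩
    obtain ⟨k1, hk1, k2, hk2, z, e1, e2⟩ := key
    have hconj := Cfsg.Agent.S5394.conj_of_conj e1 e2
    refine ⟨⟨k2⁻¹ * k1, M24.mul_mem (M24.inv_mem hk2) hk1⟩, ?_⟩
    rw [conj_smul_zpowers]
    congr 1
    apply Subtype.ext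
    exact hconj

end Cfsg.Agent.S5601
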