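import Cfsg.Statements.S5602
import Cfsg.Agent.Lib.Helper95.FixedClasses

set_option autoImplicit false
open scoped Pointwise
open Cfsg

namespace Cfsg.Agent.S5602

open Cfsg.Agent.Lib.Helper95 Cfsg.Agent.Lib.Helper10 Cfsg.Agent.Lib.Helper35 Cfsg.Agent.Lib.Helper92

set_option maxRecDepth 100000 in
theorem cnt_oct : (octLit.filter (fun m => applyTbl t1T m == m)).length = 21 := by
  decide +kernel

set_option maxRecDepth 100000 in
theorem cnt_dod : ((codeL 12).filter (fun m => applyTbl t1T m == m)).length = 20 := by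
  decide +kernel

set_option maxRecDepth 100000 in
theorem cnt_sext : (tet0L.filter (fun m => enc (m ^^^ applyTbl t1T m) == (m ^^^ applyTbl t1T m))).length
    = 16 := by
  decide +kernel

set_option maxRecDepth 100000 in
theorem cnt_trio : (octLit.map (fun m1 => (octLit.filter (condQ t1T m1)).length)).sum = 90 := by
  decide +kernel


/-- An element of order 3 of the group of the length-24 code having exactly 6 fixed points maps to themselves exactly 21 octads, exactly 15 trios, exactly 16 sextets and exactly 20 dodecads. -/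
theorem result (g : Equiv.Perm Cfsg.GolayPt) (hg : g ∈ Cfsg.M24) (h₃ : orderOf g = 3) (h₆ : (Finset.univ.filter fun p => g p = p).card = 6) : {o : Finset Cfsg.GolayPt | o ∈ Cfsg.octads ∧ g • o = o}.ncard = 21 ∧ {T : Finset (Finset Cfsg.GolayPt) | T ∈ Cfsg.trios ∧ g • T = T}.ncard = 15 ∧ {S : Finset (Finset Cfsg.GolayPt) | S ∈ Cfsg.sextets ∧ g • S = S}.ncard = 16 ∧ {d : Finset Cfsg.GolayPt | d ∈ Cfsg.dodecads ∧ g • d = d}.ncard = 20 := by
  obtain ⟨p, hp⟩ := exists_fixed_of_card_pos (σ := g) (by rw [h₆]; decide)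
  obtain ⟨k, hk, hkg⟩ := conj_t1 g hg h₃ hp
  have hσ : wordPerm t1w ∈ Cfsg.M24 := wordPerm_mem_M24 _
  refine ⟨?_, ?_, ?_, ?_⟩
  · rw [fixed_octads_conj hk, hkg, ncard_fixed_octads' _ t1T t1T_spec, cnt_oct]
  · have := ncard_fixed_trios'' hσ t1T t1T_spec
    rw [cnt_trio] at this
    rw [fixed_trios_conj hk, hkg]
    omega
  · rw [fixed_sextets_conj hk, hkg, ncard_fixed_sextets hσ t1T t1T_spec, cnt_sext]
  · rw [fixed_dodecads_conj hk, hkg]
    exact (ncard_fixed_words _ t1T t1T_spec 12).trans cnt_dod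

end Cfsg.Agent.S5602
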