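import Cfsg.Statements.S5606
import Cfsg.Agent.Lib.Helper95.FixedClasses

set_option autoImplicit false
open scoped Pointwise
open Cfsg

namespace Cfsg.Agent.S5606

open Cfsg.Agent.Lib.Helper95 Cfsg.Agent.Lib.Helper10 Cfsg.Agent.Lib.Helper35 Cfsg.Agent.Lib.Helper92

set_option maxRecDepth 100000 in
theorem cnt_oct : (octLit.filter (fun m => applyTbl z2T m == m)).length = 15 := by
  decide +kernel

set_option maxRecDepth 100000 in
theorem cnt_sext : (tet0L.filter (fun m => enc (m ^^^ applyTbl z2T m) == (m ^^^ applyTbl z2T m))).length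
    = 51 := by
  decide +kernel

set_option maxRecDepth 100000 in
theorem cnt_trio : (octLit.map (fun m1 => (octLit.filter (condQ z2T m1)).length)).sum = 450 := by
  decide +kernel


/-- A fixed-point-free involution of the group of the length-24 code maps to themselves exactly 15 octads, exactly 75 trios and exactly 51 sextets. -/
theorem result (g : Equiv.Perm Cfsg.GolayPt) (hg : g ∈ Cfsg.M24) (h₂ : orderOf g = 2) (h₀ : ∀ p, g p ≠ p) : {o : Finset Cfsg.GolayPt | o ∈ Cfsg.octads ∧ g • o = o}.ncard = 15 ∧ {T : Finset (Finset Cfsg.GolayPt) | T ∈ Cfsg.trios ∧ g • T = T}.ncard = 75 ∧ {S : Finset (Finset Cfsg.GolayPt) | S ∈ Cfsg.sextets ∧ g • S = S}.ncard = 51 := by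
  obtain ⟨k, hk, hkg⟩ := conj_z2 g hg h₂ h₀
  have hσ : wordPerm z2w ∈ Cfsg.M24 := wordPerm_mem_M24 _
  refine ⟨?_, ?_, ?_⟩
  · rw [fixed_octads_conj hk, hkg, ncard_fixed_octads' _ z2T z2T_spec, cnt_oct]
  · have := ncard_fixed_trios'' hσ z2T z2T_spec
    rw [cnt_trio] at this
    rw [fixed_trios_conj hk, hkg]
    omega
  · rw [fixed_sextets_conj hk, hkg, ncard_fixed_sextets hσ z2T z2T_spec, cnt_sext]

end Cfsg.Agent.S5606
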