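import Cfsg.Statements.S5607
import Cfsg.Agent.Lib.Helper92.M24Fpf
import Cfsg.Agent.Lib.Helper95.SextetBasic

set_option autoImplicit false
open Cfsg

namespace Cfsg.Agent.S5607

open Cfsg.Agent.Lib.Helper10 Cfsg.Agent.Lib.Helper95 Cfsg.Agent.Lib.Helper92
open scoped Pointwise
open Classical

/-! ### reduction to the standard involution -/

theorem z2_mem_fpf : wordPerm z2w ∈ fpfInvols := by
  rw [mem_fpfInvols]
  exact ⟨wordPerm_mem_M24 _, z2_sq.1, z2_fixed⟩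

theorem z1_has_fixed : ∃ p, wordPerm z1w p = p := by
  have h := z1_fixed_mem_octads
  have hc : (Finset.univ.filter fun p => wordPerm z1w p = p).card = 8 := h.2
  have hne : (Finset.univ.filter fun p => wordPerm z1w p = p).Nonempty := by
    rw [← Finset.card_pos, hc]; norm_num
  obtain ⟨p, hp⟩ := hne
  exact ⟨p, (Finset.mem_filter.mp hp).2⟩

theorem conj_to_z2 (t : Equiv.Perm GolayPt) (ht : t ∈ fpfInvols) :
    ∃ k ∈ M24, k * t * k⁻¹ = wordPerm z2w := by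
  rw [mem_fpfInvols] at ht
  obtain ⟨htM, htt, hfpf⟩ := ht
  have hne : t ≠ 1 := by
    intro h
    apply hfpf (pt 0)
    rw [h]; rfl
  obtain ⟨k, hk, h | h⟩ := invol_conj t htM (orderOf_eq_two_of ⟨htt, hne⟩)
  · exfalso
    obtain ⟨p, hp⟩ := z1_has_fixed
    apply hfpf (k⁻¹ p)
    rw [← h] at hp
    have h1 : k (t (k⁻¹ p)) = p := hp
    apply k.injective
    rw [h1]
    simp
  · exact ⟨k, hk, h⟩

theorem conj_of_fpf (t x : Equiv.Perm GolayPt) (ht : t ∈ fpfInvols) (hx : x ∈ fpfInvols) :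
    ∃ g ∈ M24, g * t * g⁻¹ = x := by
  obtain ⟨k, hk, hkt⟩ := conj_to_z2 t ht
  obtain ⟨l, hl, hlx⟩ := conj_to_z2 x hx
  refine ⟨l⁻¹ * k, M24.mul_mem (M24.inv_mem hl) hk, ?_⟩
  calc l⁻¹ * k * t * (l⁻¹ * k)⁻¹ = l⁻¹ * (k * t * k⁻¹) * l := by group
    _ = l⁻¹ * (l * x * l⁻¹) * l := by rw [hkt, hlx]
    _ = x := by group

/-! ### transitivity of the centraliser of the standard involution -/

def czWords : List (List ℕ) := [
  [1],
  [0, 1, 3, 3, 2, 3, 0, 0, 4, 3, 3, 3, 2, 2, 3, 2, 2, 0, 0],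
  [0, 0, 1, 4, 3, 3, 4, 3, 2, 0, 4, 4, 3, 3, 3, 4],
  [0, 0, 0, 1, 3, 3, 0, 0, 2, 0, 2, 0, 2, 2, 3, 4, 4, 1, 3, 3, 4, 4, 3, 4, 4, 0, 2, 1],
  [2, 2, 0, 1, 3, 3, 2, 3, 0, 0, 4, 3, 3, 3, 2, 2, 3, 2, 2, 0, 0],
  [3, 4, 0, 1, 4, 3, 2, 3, 2, 2, 0, 0, 2, 4, 3, 3, 3, 2, 3, 2, 3, 4, 3, 2, 2],
  [4, 0, 1, 3, 3, 2, 3, 0, 0, 4, 3, 3, 3, 2, 2, 3, 2, 2, 0, 0],
  [0, 4, 0, 1, 3, 2, 3, 4, 4, 4, 0, 0, 0, 0, 4, 3, 4, 4, 0, 0, 2, 0, 4, 0, 0],
  [2, 1, 3, 3, 1, 2, 0, 4, 4, 2, 3, 2, 3, 4, 4, 3, 3],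
  [4, 1, 3, 3, 1, 2, 0, 4, 4, 2, 3, 2, 3, 4, 4, 3, 3],
  [2, 0, 4, 3, 1, 4, 3, 0, 0, 4, 3, 3, 3, 2, 3, 2, 3, 4, 4, 3, 3],
  [1, 0, 0, 1, 4, 3, 3, 4, 3, 2, 0, 4, 4, 3, 3, 3, 4],
  [1, 3, 3, 1, 2, 0, 4, 4, 2, 3, 2, 3, 4, 4, 3, 3],
  [3, 2, 3, 1, 0, 4, 0, 4, 0, 4, 3, 4, 3, 3, 4, 4, 0, 2, 0],
  [2, 3, 1, 4, 4, 3, 0, 0, 4, 0, 4, 3, 4, 4, 1, 3, 3, 4, 4, 3, 4, 4, 0, 2, 1],
  [0, 2, 3, 1, 2, 3, 2, 3, 2, 2, 3, 2, 2, 0, 0, 3, 4, 4, 3, 3, 3, 4, 3, 2, 0, 0],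
  [4, 3, 2, 3, 1, 0, 4, 0, 4, 0, 4, 3, 4, 3, 3, 4, 4, 0, 2, 0],
  [2, 2, 3, 1, 4, 4, 3, 0, 0, 4, 0, 4, 3, 4, 4, 1, 3, 3, 4, 4, 3, 4, 4, 0, 2, 1],
  [2, 0, 1, 3, 3, 2, 3, 0, 0, 4, 3, 3, 3, 2, 2, 3, 2, 2, 0, 0],
  [4, 3, 1, 4, 4, 3, 0, 0, 4, 0, 4, 3, 4, 4, 1, 3, 3, 4, 4, 3, 4, 4, 0, 2, 1],
  [0, 4, 3, 1, 4, 3, 0, 0, 4, 3, 3, 3, 2, 3, 2, 3, 4, 4, 3, 3],
  [3, 3, 1, 2, 0, 4, 4, 2, 3, 2, 3, 4, 4, 3, 3],
  [3, 1, 4, 4, 3, 0, 0, 4, 0, 4, 3, 4, 4, 1, 3, 3, 4, 4, 3, 4, 4, 0, 2, 1],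
  []]

theorem czWords_spec : ∀ p : Fin 24, evalW (czWords.getD p []) 23 = p ∧
    conjOK z2w (czWords.getD p []) z2w = true := by decide +kernel

theorem cz_trans (p q : GolayPt) :
    ∃ c ∈ M24, c * wordPerm z2w = wordPerm z2w * c ∧ c p = q := by
  obtain ⟨hp1, hp2⟩ := czWords_spec ⟨idx p, idx_lt p⟩
  obtain ⟨hq1, hq2⟩ := czWords_spec ⟨idx q, idx_lt q⟩
  have hp3 := conj_of_conjOK hp2
  have hq3 := conj_of_conjOK hq2
  simp only at hp1 hq1 hp3 hq3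
  set a := wordPerm (czWords.getD (idx p) []) with ha
  set b := wordPerm (czWords.getD (idx q) []) with hb
  have hap : a (pt 23) = p := by
    rw [ha, wordPerm_pt (by norm_num) hp1, pt_idx]
  have hbq : b (pt 23) = q := by
    rw [hb, wordPerm_pt (by norm_num) hq1, pt_idx]
  have hac : a * wordPerm z2w = wordPerm z2w * a := mul_inv_eq_iff_eq_mul.mp hp3
  have hbc : b * wordPerm z2w = wordPerm z2w * b := mul_inv_eq_iff_eq_mul.mp hq3
  refine ⟨b * a⁻¹, M24.mul_mem (wordPerm_mem_M24 _) (M24.inv_mem (wordPerm_mem_M24 _)), ?_, ?_⟩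
  · have hac' : a⁻¹ * wordPerm z2w = wordPerm z2w * a⁻¹ := by
      calc a⁻¹ * wordPerm z2w = a⁻¹ * (wordPerm z2w * a) * a⁻¹ := by group
        _ = a⁻¹ * (a * wordPerm z2w) * a⁻¹ := by rw [hac]
        _ = wordPerm z2w * a⁻¹ := by group
    calc b * a⁻¹ * wordPerm z2w = b * (a⁻¹ * wordPerm z2w) := by group
      _ = b * (wordPerm z2w * a⁻¹) := by rw [hac']
      _ = (b * wordPerm z2w) * a⁻¹ := by group
      _ = wordPerm z2w * b * a⁻¹ := by rw [hbc]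
      _ = wordPerm z2w * (b * a⁻¹) := by group
  · show b (a⁻¹ p) = q
    have : a⁻¹ p = pt 23 := by rw [Equiv.Perm.inv_eq_iff_eq, hap]
    rw [this, hbq]


/-! ### the sextet of the standard involution -/

/-- the octads left invariant by the standard involution. -/
def inv15 : List ℕ := [14716939, 7622914, 9748745, 6820450, 8946281, 1852256, 6493202, 8619033,
  1525008, 722544, 6305926, 8431757, 1337732, 535268, 208020]

/-- the tetrads of the sextet of the standard involution. -/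
def tetMasks : List ℕ := [10372, 197648, 524896, 1327360, 6295554, 8421385]

theorem z2_tab : ∀ i : Fin 24, evalW z2w i = tbl1.getD i 0 := by decide

def invOK (m : ℕ) : Bool := pc m != 8 || pmT tbl1 m != m || inv15.contains m

theorem inv_check : (List.range 4096).all (fun k => invOK (enc k)) = true := by decide +kernel

theorem z2_inv : (wordPerm z2w)⁻¹ = wordPerm z2w := by
  rw [inv_eq_iff_mul_eq_one]
  exact z2_sq.1

theorem z2_smul_fs (m : ℕ) : wordPerm z2w • fs m = fs (pmT tbl1 m) := by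
  conv_lhs => rw [← z2_inv]
  exact smul_fs_inv z2w tbl1 z2_tab m

theorem inv_octads (o : Finset GolayPt) (ho : o ∈ octads) (hz : wordPerm z2w • o = o) :
    ∃ m ∈ inv15, o = fs m := by
  obtain ⟨w, hw, rfl, hpc⟩ := octad_eq_fs ho
  have h := forall_code_bool invOK inv_check w hw
  unfold invOK at h
  rw [z2_smul_fs] at hz
  have hm := fs_injOn (pmT_lt _ _) (wmask_lt w) hz
  simp only [hpc, hm, bne_self_eq_false, Bool.false_or, List.contains_iff_mem] at h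
  exact ⟨wmask w, h, rfl⟩

theorem inv15_facts : ∀ m ∈ inv15, m < 2 ^ 24 ∧ enc m = m ∧ pc m = 8 ∧ pmT tbl1 m = m := by
  decide +kernel

theorem tet_facts : (∀ a ∈ tetMasks, a < 2 ^ 24 ∧ pc a = 4) ∧
    ∀ a ∈ tetMasks, ∀ b ∈ tetMasks, a ≠ b →
      (a ||| b) < 2 ^ 24 ∧ enc (a ||| b) = a ||| b ∧ pc (a ||| b) = 8 := by decide +kernel

theorem pair_facts : ∀ a ∈ inv15, ∀ b ∈ inv15, pc (a &&& b) = 4 → (a &&& b) ∈ tetMasks := by
  decide +kernel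

/-- the sextet of the standard involution. -/
noncomputable def S0 : Finset (Finset GolayPt) := (tetMasks.map fs).toFinset

theorem mem_S0 (T : Finset GolayPt) : T ∈ S0 ↔ ∃ a ∈ tetMasks, fs a = T := by
  unfold S0
  rw [List.mem_toFinset, List.mem_map]

theorem S0_mem : S0 ∈ sextets := by
  refine ⟨?_, ?_, ?_⟩
  · unfold S0
    rw [List.toFinset_card_of_nodup]
    · simp [tetMasks]
    · apply List.Nodup.map_on
      · intro a ha b hb h
        exact fs_injOn (tet_facts.1 a ha).1 (tet_facts.1 b hb).1 h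
      · decide
  · intro T hT
    obtain ⟨a, ha, rfl⟩ := (mem_S0 T).mp hT
    rw [card_fs]
    exact (tet_facts.1 a ha).2
  · intro T hT U hU hne
    obtain ⟨a, ha, rfl⟩ := (mem_S0 T).mp hT
    obtain ⟨b, hb, rfl⟩ := (mem_S0 U).mp hU
    have hab : a ≠ b := fun h => hne (by rw [h])
    obtain ⟨h1, h2, h3⟩ := tet_facts.2 a ha b hb hab
    rw [← fs_union]
    exact fs_mem_octads h1 h2 h3

theorem cent_sextet (c : Equiv.Perm GolayPt) (hc : c ∈ M24)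
    (hcz : c * wordPerm z2w = wordPerm z2w * c) : c • S0 = S0 := by
  have hT0 : fs 10372 ∈ S0 := (mem_S0 _).mpr ⟨10372, by decide, rfl⟩
  apply smul_sextet_eq hc S0_mem S0_mem hT0
  have e : (10372 : ℕ) = 6305926 &&& 8431757 := by decide
  have key : ∀ m ∈ inv15, ∃ m' ∈ inv15, c • fs m = fs m' := by
    intro m hm
    obtain ⟨h1, h2, h3, h4⟩ := inv15_facts m hm
    have hoct : fs m ∈ octads := fs_mem_octads h1 h2 h3
    have hz : wordPerm z2w • fs m = fs m := by rw [z2_smul_fs, h4]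
    apply inv_octads (c • fs m) (smul_mem_octads hc hoct)
    rw [smul_smul, ← hcz, ← smul_smul, hz]
  obtain ⟨a', ha', ea⟩ := key 6305926 (by decide)
  obtain ⟨b', hb', eb⟩ := key 8431757 (by decide)
  have hcard : pc (a' &&& b') = 4 := by
    rw [← card_fs, fs_inter, ← ea, ← eb, ← Finset.smul_finset_inter, card_smul_finset,
      ← fs_inter, card_fs]
    decide
  rw [e, fs_inter, Finset.smul_finset_inter, ea, eb, ← fs_inter]
  exact (mem_S0 _).mpr ⟨a' &&& b', pair_facts a' ha' b' hb' hcard, rfl⟩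

/-! ### transport -/

theorem comm_transport {k t c z : Equiv.Perm GolayPt} (hk : k * t * k⁻¹ = z)
    (hc : c * t = t * c) : (k * c * k⁻¹) * z = z * (k * c * k⁻¹) := by
  rw [← hk]
  calc k * c * k⁻¹ * (k * t * k⁻¹) = k * (c * t) * k⁻¹ := by group
    _ = k * (t * c) * k⁻¹ := by rw [hc]
    _ = k * t * k⁻¹ * (k * c * k⁻¹) := by group

/-- For a fixed-point-free involution t of the group of the length-24 code: its centraliser in that group has order 7680, is transitive on the 24 points, and is contained, together with t, in the stabiliser of some sextet. -/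
theorem result (t : Equiv.Perm Cfsg.GolayPt) (ht : t ∈ Cfsg.M24) (h₂ : orderOf t = 2) (h₀ : ∀ p, t p ≠ p) : Nat.card {c : Equiv.Perm Cfsg.GolayPt // c ∈ Cfsg.M24 ∧ c * t = t * c} = 7680 ∧ (∀ p q : Cfsg.GolayPt, ∃ c ∈ Cfsg.M24, c * t = t * c ∧ c p = q) ∧ ∃ S ∈ Cfsg.sextets, t • S = S ∧ ∀ c ∈ Cfsg.M24, c * t = t * c → c • S = S := by
  have htt : t * t = 1 := by
    rw [← sq, ← h₂]
    exact pow_orderOf_eq_one t
  have htX : t ∈ fpfInvols := (mem_fpfInvols t).mpr ⟨ht, htt, h₀⟩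
  obtain ⟨k, hk, hkt⟩ := conj_to_z2 t htX
  refine ⟨?_, ?_, ?_⟩
  · rw [Nat.card_eq_fintype_card, Fintype.card_subtype]
    exact card_centralizer_fpf t htX (fun x hx => conj_of_fpf t x htX hx)
  · intro p q
    obtain ⟨c0, hc0, hc0z, hc0p⟩ := cz_trans (k p) (k q)
    refine ⟨k⁻¹ * c0 * k, M24.mul_mem (M24.mul_mem (M24.inv_mem hk) hc0) hk, ?_, ?_⟩
    · have ht' : t = k⁻¹ * wordPerm z2w * k := by rw [← hkt]; group
      rw [ht']
      calc k⁻¹ * c0 * k * (k⁻¹ * wordPerm z2w * k) = k⁻¹ * (c0 * wordPerm z2w) * k := by group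
        _ = k⁻¹ * (wordPerm z2w * c0) * k := by rw [hc0z]
        _ = k⁻¹ * wordPerm z2w * k * (k⁻¹ * c0 * k) := by group
    · show k⁻¹ (c0 (k p)) = q
      rw [hc0p]
      simp
  · have key : ∀ c ∈ M24, c * t = t * c → c • (k⁻¹ • S0) = k⁻¹ • S0 := by
      intro c hc hct
      have h1 := cent_sextet (k * c * k⁻¹) (M24.mul_mem (M24.mul_mem hk hc) (M24.inv_mem hk))
        (comm_transport hkt hct)
      rw [smul_smul]
      have h2 : c * k⁻¹ = k⁻¹ * (k * c * k⁻¹) := by group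
      rw [h2, ← smul_smul, h1]
    exact ⟨k⁻¹ • S0, smul_mem_sextets (M24.inv_mem hk) S0_mem, key t ht rfl, key⟩

end Cfsg.Agent.S5607
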