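import Cfsg.Statements.S5608
import Cfsg.Agent.Lib.Helper92.M24Ord6

set_option autoImplicit false
open Cfsg

namespace Cfsg.Agent.S5608

open Cfsg.Agent.Lib.Helper10 Cfsg.Agent.Lib.Helper92

theorem result (x s : Equiv.Perm Cfsg.GolayPt) (hx : x ∈ Cfsg.M24) (hs : s ∈ Cfsg.M24) (h₃ : orderOf x = 3) (h₂ : orderOf s = 2) (hc : Commute x s) : ((Finset.univ.filter fun p => x p = p).card = 6 ∧ (Finset.univ.filter fun p => s p = p).card = 8) ∨ ((Finset.univ.filter fun p => x p = p).card = 0 ∧ (Finset.univ.filter fun p => s p = p).card = 0) := by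
  have ho : orderOf (x * s) = 6 := by
    rw [hc.orderOf_mul_eq_mul_orderOf_of_coprime (by rw [h₃, h₂]; decide), h₃, h₂]
  have hx3 : x ^ 3 = 1 := by rw [← h₃]; exact pow_orderOf_eq_one x
  have hs2 : s ^ 2 = 1 := by rw [← h₂]; exact pow_orderOf_eq_one s
  have h4 : (x * s) ^ 4 = x := by
    rw [hc.mul_pow, show (4 : ℕ) = 3 + 1 by rfl, pow_succ x, hx3, show (3 + 1 : ℕ) = 2 * 2 by rfl,
      pow_mul, hs2]
    simp
  have h3 : (x * s) ^ 3 = s := by
    rw [hc.mul_pow, hx3, show (3 : ℕ) = 2 + 1 by rfl, pow_succ s, hs2]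
    simp
  have := ord6_fix (x * s) (M24.mul_mem hx hs) ho
  rw [h4, h3] at this
  exact this

end Cfsg.Agent.S5608
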