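import Cfsg.Statements.S5609
import Mathlib
import Cfsg.Agent.Lib.Helper95.GolayConcrete
-- import your own Cfsg.Agent.* helpers here

set_option autoImplicit false
open Cfsg

namespace Cfsg.Agent.S5609

open Cfsg.Agent.Lib.Helper95

/-- Code words of weight 8. -/
def IsOct (c : GolayPt → ZMod 2) : Prop := c ∈ golayCode ∧ hammingNorm c = 8

lemma IsOct.card {c : GolayPt → ZMod 2} (h : IsOct c) : (bsupp c).card = 8 := by
  rw [← hammingNorm_eq_card_bsupp]; exact h.2

lemma eq_of_add_eq_zero (u v : GolayPt → ZMod 2) (h : u + v = 0) : u = v := by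
  have : u = u + (v + v) := by rw [add_self_zmod2, add_zero]
  rw [this, ← add_assoc, h, zero_add]

lemma wt_one_add (x : GolayPt → ZMod 2) : hammingNorm (1 + x) = 24 - hammingNorm x := by
  have h := hammingNorm_add_zmod2 (1 : GolayPt → ZMod 2) x
  have h1 : bsupp (1 : GolayPt → ZMod 2) = Finset.univ := by
    ext i; simp [mem_bsupp]
  rw [h1, Finset.univ_inter, ← hammingNorm_eq_card_bsupp] at h
  have h2 : hammingNorm (1 : GolayPt → ZMod 2) = 24 := by
    rw [hammingNorm_eq_card_bsupp, h1, Finset.card_univ, golayPt_card]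
  omega

lemma inter_cases (u v : GolayPt → ZMod 2) (hu : IsOct u) (hv : IsOct v) (hne : u ≠ v) :
    (bsupp u ∩ bsupp v).card = 0 ∨ (bsupp u ∩ bsupp v).card = 2 ∨
      (bsupp u ∩ bsupp v).card = 4 := by
  have hadd := hammingNorm_add_zmod2 u v
  have hev := even_card_inter_of_orth u v (golayCode_horth u hu.1 v hv.1)
  have hne0 : u + v ≠ 0 := fun h => hne (eq_of_add_eq_zero u v h)
  have h8 := golayCode_hmin _ (golayCode.add_mem hu.1 hv.1) hne0
  rw [hu.2, hv.2] at hadd
  obtain ⟨k, hk⟩ := hev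
  omega

lemma inter_eq_of (a u : GolayPt → ZMod 2) (ha : IsOct a) (hu : IsOct u) (hne : a ≠ u)
    (T : Finset GolayPt) (hT : T.card = 4) (hTa : T ⊆ bsupp a) (hTu : T ⊆ bsupp u) :
    bsupp a ∩ bsupp u = T := by
  have hsub : T ⊆ bsupp a ∩ bsupp u := Finset.subset_inter hTa hTu
  have hle := Finset.card_le_card hsub
  have := inter_cases a u ha hu hne
  exact (Finset.eq_of_subset_of_card_le hsub (by omega)).symm

lemma exists_notMem (S : Finset GolayPt) (hS : S.card < 24) : ∃ p, p ∉ S := by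
  by_contra h
  push Not at h
  have : S = Finset.univ := Finset.eq_univ_iff_forall.mpr h
  rw [this, Finset.card_univ, golayPt_card] at hS
  omega

lemma exists_common_disjoint (u v : GolayPt → ZMod 2) (hu : IsOct u) (hv : IsOct v)
    (h4 : (bsupp u ∩ bsupp v).card = 4) :
    ∃ n, IsOct n ∧ Disjoint (bsupp n) (bsupp u) ∧ Disjoint (bsupp n) (bsupp v) := by
  set T := bsupp u ∩ bsupp v with hT
  have hTu : T ⊆ bsupp u := Finset.inter_subset_left
  have hTv : T ⊆ bsupp v := Finset.inter_subset_right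
  have hu8 := hu.card
  have hv8 := hv.card
  have huv : (bsupp u ∪ bsupp v).card = 12 := by
    have := Finset.card_union_add_card_inter (bsupp u) (bsupp v)
    rw [← hT, h4] at this
    omega
  obtain ⟨p, hp⟩ := exists_notMem (bsupp u ∪ bsupp v) (by omega)
  have hpu : p ∉ bsupp u := fun h => hp (Finset.mem_union_left _ h)
  have hpv : p ∉ bsupp v := fun h => hp (Finset.mem_union_right _ h)
  have hpT : p ∉ T := fun h => hpu (hTu h)
  obtain ⟨a, haC, ha8, hsa⟩ := g24_octad_exists golayPt_card golayCode golayCode_finrank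
    golayCode_hmin (insert p T) (by rw [Finset.card_insert_of_notMem hpT, h4])
  have ha : IsOct a := ⟨haC, ha8⟩
  have hTa : T ⊆ bsupp a := (Finset.subset_insert p T).trans hsa
  have hpa : p ∈ bsupp a := hsa (Finset.mem_insert_self p T)
  have hau : bsupp a ∩ bsupp u = T :=
    inter_eq_of a u ha hu (fun h => hpu (h ▸ hpa)) T h4 hTa hTu
  have hav : bsupp a ∩ bsupp v = T :=
    inter_eq_of a v ha hv (fun h => hpv (h ▸ hpa)) T h4 hTa hTv
  have huva : (bsupp u ∪ bsupp v ∪ bsupp a).card < 24 := by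
    have := Finset.card_union_le (bsupp u ∪ bsupp v) (bsupp a)
    have := ha.card
    omega
  obtain ⟨q, hq⟩ := exists_notMem _ huva
  have hqu : q ∉ bsupp u := fun h => hq (Finset.mem_union_left _ (Finset.mem_union_left _ h))
  have hqv : q ∉ bsupp v := fun h => hq (Finset.mem_union_left _ (Finset.mem_union_right _ h))
  have hqa : q ∉ bsupp a := fun h => hq (Finset.mem_union_right _ h)
  have hqT : q ∉ T := fun h => hqu (hTu h)
  obtain ⟨b, hbC, hb8, hsb⟩ := g24_octad_exists golayPt_card golayCode golayCode_finrank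
    golayCode_hmin (insert q T) (by rw [Finset.card_insert_of_notMem hqT, h4])
  have hb : IsOct b := ⟨hbC, hb8⟩
  have hTb : T ⊆ bsupp b := (Finset.subset_insert q T).trans hsb
  have hqb : q ∈ bsupp b := hsb (Finset.mem_insert_self q T)
  have hbu : bsupp b ∩ bsupp u = T :=
    inter_eq_of b u hb hu (fun h => hqu (h ▸ hqb)) T h4 hTb hTu
  have hbv : bsupp b ∩ bsupp v = T :=
    inter_eq_of b v hb hv (fun h => hqv (h ▸ hqb)) T h4 hTb hTv
  have hba : bsupp b ∩ bsupp a = T :=
    inter_eq_of b a hb ha (fun h => hqa (h ▸ hqb)) T h4 hTb hTa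
  refine ⟨a + b, ⟨golayCode.add_mem haC hbC, ?_⟩, ?_, ?_⟩
  · have := hammingNorm_add_zmod2 a b
    rw [Finset.inter_comm, hba, h4, ha8, hb8] at this
    omega
  · rw [bsupp_add, Finset.disjoint_left]
    intro x hx hxu
    rw [Finset.mem_symmDiff] at hx
    rcases hx with ⟨hxa, hxb⟩ | ⟨hxb, hxa⟩
    · have : x ∈ T := by rw [← hau]; exact Finset.mem_inter.mpr ⟨hxa, hxu⟩
      exact hxb (hTb this)
    · have : x ∈ T := by rw [← hbu]; exact Finset.mem_inter.mpr ⟨hxb, hxu⟩
      exact hxa (hTa this)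
  · rw [bsupp_add, Finset.disjoint_left]
    intro x hx hxv
    rw [Finset.mem_symmDiff] at hx
    rcases hx with ⟨hxa, hxb⟩ | ⟨hxb, hxa⟩
    · have : x ∈ T := by rw [← hav]; exact Finset.mem_inter.mpr ⟨hxa, hxv⟩
      exact hxb (hTb this)
    · have : x ∈ T := by rw [← hbv]; exact Finset.mem_inter.mpr ⟨hxb, hxv⟩
      exact hxa (hTa this)

lemma no_common_disjoint (u v n : GolayPt → ZMod 2) (hu : IsOct u) (hv : IsOct v) (hn : IsOct n)
    (h2 : (bsupp u ∩ bsupp v).card = 2)
    (hnu : Disjoint (bsupp n) (bsupp u)) (hnv : Disjoint (bsupp n) (bsupp v)) : False := by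
  have h12 : hammingNorm (u + v) = 12 := by
    have := hammingNorm_add_zmod2 u v
    rw [h2, hu.2, hv.2] at this
    omega
  have hdis : bsupp n ∩ bsupp (u + v) = ∅ := by
    rw [← Finset.disjoint_iff_inter_eq_empty, Finset.disjoint_left]
    intro x hxn hx
    rw [bsupp_add, Finset.mem_symmDiff] at hx
    rcases hx with ⟨hxu, _⟩ | ⟨hxv, _⟩
    · exact Finset.disjoint_left.mp hnu hxn hxu
    · exact Finset.disjoint_left.mp hnv hxn hxv
  have h20 : hammingNorm (n + (u + v)) = 20 := by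
    have := hammingNorm_add_zmod2 n (u + v)
    rw [hdis, h12, hn.2] at this
    simpa using this
  have h4 : hammingNorm (1 + (n + (u + v))) = 4 := by
    rw [wt_one_add, h20]
  have hmem : 1 + (n + (u + v)) ∈ golayCode :=
    golayCode.add_mem golayCode_one_mem (golayCode.add_mem hn.1 (golayCode.add_mem hu.1 hv.1))
  by_cases h0 : 1 + (n + (u + v)) = 0
  · rw [h0, hammingNorm_zero] at h4
    omega
  · have := golayCode_hmin _ hmem h0
    omega

/-- Every octad word has a disjoint octad word. -/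
lemma exists_disjoint (u : GolayPt → ZMod 2) (hu : IsOct u) :
    ∃ n, IsOct n ∧ Disjoint (bsupp n) (bsupp u) := by
  obtain ⟨T, hTu, hT⟩ := Finset.exists_subset_card_eq (s := bsupp u) (n := 4)
    (by rw [hu.card]; norm_num)
  obtain ⟨p, hp⟩ := exists_notMem (bsupp u) (by rw [hu.card]; norm_num)
  have hpT : p ∉ T := fun h => hp (hTu h)
  obtain ⟨v, hvC, hv8, hsv⟩ := g24_octad_exists golayPt_card golayCode golayCode_finrank
    golayCode_hmin (insert p T) (by rw [Finset.card_insert_of_notMem hpT, hT])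
  have hv : IsOct v := ⟨hvC, hv8⟩
  have hTv : T ⊆ bsupp v := (Finset.subset_insert p T).trans hsv
  have hpv : p ∈ bsupp v := hsv (Finset.mem_insert_self p T)
  have huv : bsupp u ∩ bsupp v = T :=
    inter_eq_of u v hu hv (fun h => hp (h ▸ hpv)) T hT hTu hTv
  obtain ⟨n, hn, hnu, -⟩ := exists_common_disjoint u v hu hv (by rw [huv, hT])
  exact ⟨n, hn, hnu⟩

/-- The complementary octad of two disjoint octads. -/
lemma third_octad (u n : GolayPt → ZMod 2) (hu : IsOct u) (hn : IsOct n)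
    (hnu : Disjoint (bsupp n) (bsupp u)) :
    IsOct (1 + (n + u)) ∧ ∀ x, (1 + (n + u)) x = 1 ↔ (u x = 0 ∧ n x = 0) := by
  have h16 : hammingNorm (n + u) = 16 := by
    have := hammingNorm_add_zmod2 n u
    rw [Finset.disjoint_iff_inter_eq_empty.mp hnu, hn.2, hu.2] at this
    simpa using this
  refine ⟨⟨golayCode.add_mem golayCode_one_mem (golayCode.add_mem hn.1 hu.1), ?_⟩, ?_⟩
  · rw [wt_one_add, h16]
  · intro x
    have hx : ¬ (n x = 1 ∧ u x = 1) := by
      rintro ⟨h1, h2⟩
      exact Finset.disjoint_left.mp hnu ((mem_bsupp n x).mpr h1) ((mem_bsupp u x).mpr h2)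
    simp only [Pi.add_apply, Pi.one_apply]
    revert hx
    generalize n x = a
    generalize u x = b
    revert a b
    decide

lemma card_split (u n w v : GolayPt → ZMod 2)
    (hnu : Disjoint (bsupp n) (bsupp u))
    (hw : ∀ x, w x = 1 ↔ (u x = 0 ∧ n x = 0)) :
    (bsupp v).card = (bsupp v ∩ bsupp u).card + (bsupp v ∩ bsupp n).card
      + (bsupp v ∩ bsupp w).card := by
  have key : ∀ x ∈ bsupp v, (1 : ℕ) = (if x ∈ bsupp u then 1 else 0)
      + (if x ∈ bsupp n then 1 else 0) + (if x ∈ bsupp w then 1 else 0) := by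
    intro x _
    have hx : ¬ (n x = 1 ∧ u x = 1) := by
      rintro ⟨h1, h2⟩
      exact Finset.disjoint_left.mp hnu ((mem_bsupp n x).mpr h1) ((mem_bsupp u x).mpr h2)
    have hwx := hw x
    simp only [mem_bsupp]
    revert hx hwx
    generalize n x = a
    generalize u x = b
    generalize w x = c
    revert a b c
    decide
  rw [Finset.card_eq_sum_ones, Finset.sum_congr rfl key, Finset.sum_add_distrib,
    Finset.sum_add_distrib, Finset.sum_boole, Finset.sum_boole, Finset.sum_boole,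
    Finset.filter_mem_eq_inter, Finset.filter_mem_eq_inter, Finset.filter_mem_eq_inter]
  simp

/-- For `|u ∩ v| = 2` there is an octad disjoint from `u` meeting `v` in four points. -/
lemma exists_middle (u v : GolayPt → ZMod 2) (hu : IsOct u) (hv : IsOct v)
    (h2 : (bsupp u ∩ bsupp v).card = 2) :
    ∃ a, IsOct a ∧ Disjoint (bsupp a) (bsupp u) ∧ (bsupp a ∩ bsupp v).card = 4 := by
  obtain ⟨n, hn, hnu⟩ := exists_disjoint u hu
  obtain ⟨hw, hwx⟩ := third_octad u n hu hn hnu
  set w := 1 + (n + u) with hwdef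
  have hsplit := card_split u n w v hnu hwx
  rw [hv.card, Finset.inter_comm (bsupp v) (bsupp u), h2] at hsplit
  have hwu : Disjoint (bsupp w) (bsupp u) := by
    rw [Finset.disjoint_left]
    intro x hxw hxu
    have := ((hwx x).mp ((mem_bsupp w x).mp hxw)).1
    rw [(mem_bsupp u x).mp hxu] at this
    exact absurd this (by decide)
  have hvn : v ≠ n := by
    rintro rfl
    rw [Finset.inter_comm, Finset.disjoint_iff_inter_eq_empty.mp hnu] at h2
    simp at h2
  have hvw : v ≠ w := by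
    intro h
    rw [h, Finset.inter_comm, Finset.disjoint_iff_inter_eq_empty.mp hwu] at h2
    simp at h2
  have c1 := inter_cases v n hv hn hvn
  have c2 := inter_cases v w hv hw hvw
  have : (bsupp v ∩ bsupp n).card = 4 ∨ (bsupp v ∩ bsupp w).card = 4 := by omega
  rcases this with h | h
  · exact ⟨n, hn, hnu, by rw [Finset.inter_comm]; exact h⟩
  · exact ⟨w, hw, hwu, by rw [Finset.inter_comm]; exact h⟩

/-! ### The graph -/

lemma vert_word (a : ↥Cfsg.octads) : ∃ c, IsOct c ∧ bsupp c = a.1 := by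
  obtain ⟨⟨c, hc, hsupp⟩, hcard⟩ := a.2
  refine ⟨c, ⟨hc, ?_⟩, ?_⟩
  · rw [hammingNorm_eq_card_bsupp, ← support₂_eq_bsupp, hsupp]; exact hcard
  · rw [← support₂_eq_bsupp]; exact hsupp

lemma word_vert (c : GolayPt → ZMod 2) (hc : IsOct c) : bsupp c ∈ Cfsg.octads := by
  refine ⟨⟨c, hc.1, support₂_eq_bsupp c⟩, hc.card⟩

lemma adj_iff (a b : ↥Cfsg.octads) :
    (Cfsg.blockGraph Cfsg.octads).Adj a b ↔ Disjoint a.1 b.1 := by
  unfold Cfsg.blockGraph
  rw [SimpleGraph.fromRel_adj]
  constructor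
  · rintro ⟨-, h | h⟩
    · exact h
    · exact h.symm
  · intro h
    refine ⟨?_, Or.inl h⟩
    intro hab
    rw [hab] at h
    have : b.1 = ∅ := Finset.disjoint_self_iff_empty _ |>.mp h
    have hc := b.2.2
    rw [this] at hc
    simp at hc

lemma graph_cases (a b : ↥Cfsg.octads) (hne : a ≠ b) :
    ((a.1 ∩ b.1).card = 0 ∧ (Cfsg.blockGraph Cfsg.octads).edist a b = 1) ∨
    ((a.1 ∩ b.1).card = 4 ∧ (Cfsg.blockGraph Cfsg.octads).edist a b = 2) ∨
    ((a.1 ∩ b.1).card = 2 ∧ (Cfsg.blockGraph Cfsg.octads).edist a b = 3) := by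
  obtain ⟨u, hu, hua⟩ := vert_word a
  obtain ⟨v, hv, hvb⟩ := vert_word b
  have huv : u ≠ v := by
    rintro rfl
    exact hne (Subtype.ext (hua.symm.trans hvb))
  have hnadj : (a.1 ∩ b.1).card ≠ 0 → ¬ (Cfsg.blockGraph Cfsg.octads).Adj a b := by
    intro h hadj
    rw [adj_iff, Finset.disjoint_iff_inter_eq_empty] at hadj
    rw [hadj] at h
    simp at h
  rcases inter_cases u v hu hv huv with h | h | h
  · left
    rw [hua, hvb] at h
    refine ⟨h, ?_⟩
    rw [SimpleGraph.edist_eq_one_iff_adj, adj_iff, Finset.disjoint_iff_inter_eq_empty]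
    exact Finset.card_eq_zero.mp h
  · right; right
    have h' := h
    rw [hua, hvb] at h'
    refine ⟨h', ?_⟩
    have hlt : 2 < (Cfsg.blockGraph Cfsg.octads).edist a b := by
      rw [SimpleGraph.two_lt_edist_iff]
      refine ⟨hne, hnadj (by omega), ?_⟩
      rw [Set.eq_empty_iff_forall_notMem]
      intro n hn
      rw [SimpleGraph.mem_commonNeighbors, adj_iff, adj_iff] at hn
      obtain ⟨w, hw, hwn⟩ := vert_word n
      refine no_common_disjoint u v w hu hv hw h ?_ ?_
      · rw [hwn, hua]; exact hn.1.symm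
      · rw [hwn, hvb]; exact hn.2.symm
    have hle : (Cfsg.blockGraph Cfsg.octads).edist a b ≤ 3 := by
      obtain ⟨m, hm, hmu, hmv⟩ := exists_middle u v hu hv h
      obtain ⟨k, hk, hkm, hkv⟩ := exists_common_disjoint m v hm hv hmv
      have e1 : (Cfsg.blockGraph Cfsg.octads).Adj a ⟨bsupp m, word_vert m hm⟩ := by
        rw [adj_iff]; show Disjoint a.1 (bsupp m); rw [← hua]; exact hmu.symm
      have e2 : (Cfsg.blockGraph Cfsg.octads).Adj ⟨bsupp m, word_vert m hm⟩
          ⟨bsupp k, word_vert k hk⟩ := by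
        rw [adj_iff]; exact hkm.symm
      have e3 : (Cfsg.blockGraph Cfsg.octads).Adj ⟨bsupp k, word_vert k hk⟩ b := by
        rw [adj_iff]; show Disjoint (bsupp k) b.1; rw [← hvb]; exact hkv
      have := (SimpleGraph.Walk.cons e1 (.cons e2 (.cons e3 .nil))).edist_le
      simpa using this
    have h3 : (2 : ℕ∞) + 1 ≤ (Cfsg.blockGraph Cfsg.octads).edist a b :=
      Order.add_one_le_of_lt hlt
    have e : (2 : ℕ∞) + 1 = 3 := by norm_num
    rw [e] at h3
    exact le_antisymm hle h3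
  · right; left
    have h' := h
    rw [hua, hvb] at h'
    refine ⟨h', ?_⟩
    rw [SimpleGraph.edist_eq_two_iff]
    refine ⟨hne, hnadj (by omega), ?_⟩
    obtain ⟨k, hk, hku, hkv⟩ := exists_common_disjoint u v hu hv h
    refine ⟨⟨bsupp k, word_vert k hk⟩, ?_⟩
    rw [SimpleGraph.mem_commonNeighbors, adj_iff, adj_iff]
    constructor
    · show Disjoint a.1 (bsupp k); rw [← hua]; exact hku.symm
    · show Disjoint b.1 (bsupp k); rw [← hvb]; exact hkv.symm

/-- In the graph on the 759 octads of the length-24 code in which two octads are adjacent when they are disjoint, the graph is connected (of diameter 3) and two distinct octads are at distance 1, 2 or 3 exactly when they meet in 0, 4 or 2 points respectively. -/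
theorem result (o o' : Finset Cfsg.GolayPt) (ho : o ∈ Cfsg.octads) (ho' : o' ∈ Cfsg.octads) (hne : o ≠ o') : (Cfsg.blockGraph Cfsg.octads).Connected ∧ ((Cfsg.blockGraph Cfsg.octads).dist ⟨o, ho⟩ ⟨o', ho'⟩ = 1 ↔ (o ∩ o').card = 0) ∧ ((Cfsg.blockGraph Cfsg.octads).dist ⟨o, ho⟩ ⟨o', ho'⟩ = 2 ↔ (o ∩ o').card = 4) ∧ ((Cfsg.blockGraph Cfsg.octads).dist ⟨o, ho⟩ ⟨o', ho'⟩ = 3 ↔ (o ∩ o').card = 2) := by
  have hconn : (Cfsg.blockGraph Cfsg.octads).Connected := by
    have : Nonempty ↥Cfsg.octads := ⟨⟨o, ho⟩⟩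
    refine SimpleGraph.Connected.mk ?_
    intro a b
    by_cases hab : a = b
    · rw [hab]
    · rw [← SimpleGraph.edist_ne_top_iff_reachable]
      rcases graph_cases a b hab with ⟨-, h⟩ | ⟨-, h⟩ | ⟨-, h⟩ <;> rw [h] <;> simp
  refine ⟨hconn, ?_⟩
  have hne' : (⟨o, ho⟩ : ↥Cfsg.octads) ≠ ⟨o', ho'⟩ := fun h => hne (congrArg Subtype.val h)
  have hd : ∀ k : ℕ, (Cfsg.blockGraph Cfsg.octads).edist (⟨o, ho⟩ : ↥Cfsg.octads) ⟨o', ho'⟩ = k →
      (Cfsg.blockGraph Cfsg.octads).dist (⟨o, ho⟩ : ↥Cfsg.octads) ⟨o', ho'⟩ = k := by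
    intro k hk
    unfold SimpleGraph.dist
    rw [hk]
    simp
  rcases graph_cases ⟨o, ho⟩ ⟨o', ho'⟩ hne' with ⟨hc, h⟩ | ⟨hc, h⟩ | ⟨hc, h⟩
  · have := hd 1 (by exact_mod_cast h)
    simp only at hc
    rw [this, hc]
    simp
  · have := hd 2 (by exact_mod_cast h)
    simp only at hc
    rw [this, hc]
    simp
  · have := hd 3 (by exact_mod_cast h)
    simp only at hc
    rw [this, hc]
    simp

end Cfsg.Agent.S5609
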