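import Cfsg.Statements.S5613
import Cfsg.Agent.S1555
import Cfsg.Agent.S1556
import Cfsg.Agent.Lib.Helper10.M12c
import Cfsg.Agent.Lib.Helper95.GolayCodeCount

set_option autoImplicit false
open scoped Pointwise
open Cfsg

namespace Cfsg.Agent.S5613

open Cfsg.Agent.Lib.Helper95 Cfsg.Agent.Lib.Helper10 Cfsg.Agent.Lib.Helper09 MulAction

theorem octads_steiner : Cfsg.IsSteinerSystem 5 8 Cfsg.octads :=
  g24_isSteinerSystem golayPt_card Cfsg.golayCode golayCode_finrank golayCode_hmin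

/-- number of octads meeting `o` in exactly `j` points. -/
theorem card_meet_eq (o : Finset Cfsg.GolayPt) (ho : o ∈ Cfsg.octads) (j : ℕ) :
    {c : Finset Cfsg.GolayPt | c ∈ Cfsg.octads ∧ (o ∩ c).card = j}.ncard =
      Nat.choose 8 j * Cfsg.Agent.S1555.G j := by
  classical
  have htab := Cfsg.Agent.S1555.table golayPt_card octads_steiner o ho
  have h1 : {c : Finset Cfsg.GolayPt | c ∈ Cfsg.octads ∧ (o ∩ c).card = j} =
      ↑((blocks Cfsg.octads).filter (fun c => (o ∩ c).card = j)) := by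
    ext c
    simp only [Set.mem_ofPred_eq, Finset.coe_filter, mem_blocks]
  rw [h1, Set.ncard_coe_finset]
  rw [Finset.card_eq_sum_card_fiberwise (f := fun c => o ∩ c) (t := Finset.powersetCard j o)]
  · have : ∀ s ∈ Finset.powersetCard j o,
        (((blocks Cfsg.octads).filter (fun c => (o ∩ c).card = j)).filter
          (fun c => o ∩ c = s)).card = Cfsg.Agent.S1555.G j := by
      intro s hs
      rw [Finset.mem_powersetCard] at hs
      rw [← hs.2, ← htab s hs.1]
      unfold meetCount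
      congr 1
      ext c
      simp only [Finset.mem_filter]
      constructor
      · rintro ⟨⟨h1, -⟩, h3⟩
        exact ⟨h1, h3⟩
      · rintro ⟨h1, h3⟩
        exact ⟨⟨h1, by rw [h3]⟩, h3⟩
    rw [Finset.sum_congr rfl this, Finset.sum_const, Finset.card_powersetCard, ho.2, smul_eq_mul]
  · intro c hc
    rw [Finset.mem_coe, Finset.mem_filter] at hc
    rw [Finset.mem_coe, Finset.mem_powersetCard]
    exact ⟨Finset.inter_subset_left, hc.2⟩

theorem octad_trans {o o' : Finset Cfsg.GolayPt} (ho : o ∈ Cfsg.octads) (ho' : o' ∈ Cfsg.octads) :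
    ∃ g ∈ Cfsg.M24, g • o = o' := by
  obtain ⟨a, ha, rfl⟩ := Cfsg.Agent.Lib.Helper35.exists_smul_x0_eq ho
  obtain ⟨b, hb, rfl⟩ := Cfsg.Agent.Lib.Helper35.exists_smul_x0_eq ho'
  refine ⟨b * a⁻¹, Cfsg.M24.mul_mem hb (Cfsg.M24.inv_mem ha), ?_⟩
  rw [mul_smul, inv_smul_smul]

theorem octads_ncard : Cfsg.octads.ncard = 759 :=
  g24_octads_ncard golayPt_card Cfsg.golayCode golayCode_finrank golayCode_hmin

theorem card_octad_stab (o : Finset Cfsg.GolayPt) (ho : o ∈ Cfsg.octads) :
    Nat.card ↥(Cfsg.M24 ⊓ stabilizer (Equiv.Perm Cfsg.GolayPt) o) = 322560 := by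
  have h := card_eq_orbit_mul' Cfsg.M24 o Cfsg.octads (fun σ hσ => smul_mem_octads hσ ho)
    (fun c hc => octad_trans ho hc)
  rw [card_M24, octads_ncard] at h
  omega

theorem card_two_octad_stab (o o' : Finset Cfsg.GolayPt) (ho : o ∈ Cfsg.octads)
    (ho' : o' ∈ Cfsg.octads) (j : ℕ) (hj : (o ∩ o').card = j) :
    322560 = Nat.choose 8 j * Cfsg.Agent.S1555.G j *
      Nat.card ↥(MulAction.stabilizer Cfsg.M24 o ⊓ MulAction.stabilizer Cfsg.M24 o') := by
  rw [card_stabilizer_inf_sub, ← card_octad_stab o ho, ← card_meet_eq o ho j]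
  apply card_eq_orbit_mul' (Cfsg.M24 ⊓ stabilizer (Equiv.Perm Cfsg.GolayPt) o) o'
  · intro σ hσ
    rw [Subgroup.mem_inf, mem_stabilizer_iff] at hσ
    refine ⟨smul_mem_octads hσ.1 ho', ?_⟩
    have : o ∩ σ • o' = σ • (o ∩ o') := by
      rw [Finset.smul_finset_inter, hσ.2]
    rw [this, Finset.card_smul_finset, hj]
  · rintro c ⟨hc, hcj⟩
    obtain ⟨g, hg, hgo, hgc⟩ := Cfsg.Agent.S1556.result o o' c ho ho' hc (by rw [hj, hcj])
    exact ⟨g, Subgroup.mem_inf.mpr ⟨hg, mem_stabilizer_iff.mpr hgo⟩, hgc⟩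


/-- In the group of the length-24 code, the joint stabiliser of two octads has order 10752, 1152 or 720 according as the octads meet in 0, 4 or 2 points. -/
theorem result (o o' : Finset Cfsg.GolayPt) (ho : o ∈ Cfsg.octads) (ho' : o' ∈ Cfsg.octads) : ((o ∩ o').card = 0 → Nat.card ↥(MulAction.stabilizer Cfsg.M24 o ⊓ MulAction.stabilizer Cfsg.M24 o') = 10752) ∧ ((o ∩ o').card = 4 → Nat.card ↥(MulAction.stabilizer Cfsg.M24 o ⊓ MulAction.stabilizer Cfsg.M24 o') = 1152) ∧ ((o ∩ o').card = 2 → Nat.card ↥(MulAction.stabilizer Cfsg.M24 o ⊓ MulAction.stabilizer Cfsg.M24 o') = 720) := by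
  refine ⟨fun h => ?_, fun h => ?_, fun h => ?_⟩
  · have := card_two_octad_stab o o' ho ho' 0 h
    have e : Nat.choose 8 0 * Cfsg.Agent.S1555.G 0 = 30 := by decide
    rw [e] at this
    omega
  · have := card_two_octad_stab o o' ho ho' 4 h
    have e : Nat.choose 8 4 * Cfsg.Agent.S1555.G 4 = 280 := by decide
    rw [e] at this
    omega
  · have := card_two_octad_stab o o' ho ho' 2 h
    have e : Nat.choose 8 2 * Cfsg.Agent.S1555.G 2 = 448 := by decide
    rw [e] at this
    omega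

end Cfsg.Agent.S5613
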