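import Cfsg.Statements.S5614
import Cfsg.Agent.S5613
import Cfsg.Agent.Lib.Helper93.Rigid2
import Cfsg.Agent.Lib.Helper95.M12Hexad
import Cfsg.Agent.Lib.Helper95.SextetTripleTrans

set_option autoImplicit false
open scoped Pointwise
open Cfsg

namespace Cfsg.Agent.S5614

open Cfsg.Agent.Lib.Helper95 Cfsg.Agent.Lib.Helper10 Cfsg.Agent.Lib.Helper93 MulAction

def o1m : ℕ := 15777

theorem o1_mem : fs o1m ∈ Cfsg.octads :=
  fs_mem_octads (by decide) (by decide +kernel) (by decide +kernel)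

theorem o0_mem : fs octO ∈ Cfsg.octads := fs_mem_octads octO_lt octO_enc octO_pc

theorem inter01 : (fs octO ∩ fs o1m).card = 2 := by
  rw [fs_inter, card_fs]
  decide +kernel

def cells0 : List ℕ := [2 ^ 1, 2 ^ 2, 2 ^ 3, 2 ^ 14, 2 ^ 17, 2 ^ 23, 33, 15744, 8225360]

def cert0 : List ℕ := [10305542, 2605066, 13062145, 10170384, 7622914, 15864000, 11654144]

theorem cert0_ok : cert2Ok cells0 cert0 = true := by decide +kernel

theorem diff_pts : ∀ i : Fin 24, (octO.testBit i = true ∧ o1m.testBit i = false) →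
    (i.val = 1 ∨ i.val = 2 ∨ i.val = 3 ∨ i.val = 14 ∨ i.val = 17 ∨ i.val = 23) := by decide +kernel

theorem pts_diff : ∀ i : Fin 24,
    (i.val = 1 ∨ i.val = 2 ∨ i.val = 3 ∨ i.val = 14 ∨ i.val = 17 ∨ i.val = 23) →
    (octO.testBit i = true ∧ o1m.testBit i = false) := by decide +kernel

/-- rigidity for the concrete pair of octads. -/
theorem rigid0 {g : Equiv.Perm Cfsg.GolayPt} (hg : g ∈ Cfsg.M24) (h0 : g • fs octO = fs octO)
    (h1 : g • fs o1m = fs o1m) (hfix : ∀ p ∈ fs octO \ fs o1m, g p = p) : g = 1 := by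
  have i0 : Inv g octO := inv_of_smul_support (by rw [support₂_vec]; exact h0)
  have i1 : Inv g o1m := inv_of_smul_support (by rw [support₂_vec]; exact h1)
  have hpt : ∀ i : ℕ, (i = 1 ∨ i = 2 ∨ i = 3 ∨ i = 14 ∨ i = 17 ∨ i = 23) → Inv g (2 ^ i) := by
    intro i hi
    have hi24 : i < 24 := by omega
    have hmem := pts_diff ⟨i, hi24⟩ hi
    have hfx : g (pt i) = pt i := by
      apply hfix
      rw [Finset.mem_sdiff, mem_fs, mem_fs, idx_pt hi24]
      exact ⟨hmem.1, by rw [hmem.2]; simp⟩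
    have := inv_single hfx
    rw [idx_pt hi24] at this
    exact this
  have e33 : (33 : ℕ) = octO &&& o1m := by decide +kernel
  have e2 : (15744 : ℕ) = o1m ^^^ 33 := by decide +kernel
  have e3 : (8225360 : ℕ) = (2 ^ 24 - 1) ^^^ octO ^^^ 15744 := by decide +kernel
  have i33 : Inv g 33 := by rw [e33]; exact inv_and i0 i1
  have i2 : Inv g 15744 := by rw [e2]; exact inv_xor i1 i33
  have i3 : Inv g 8225360 := by rw [e3]; exact inv_xor (inv_xor (inv_full g) i0) i2
  apply eq_one_of_cert2 hg cells0 cert0 _ cert0_ok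
  intro c hc
  simp only [cells0, List.mem_cons, List.not_mem_nil, or_false] at hc
  rcases hc with rfl | rfl | rfl | rfl | rfl | rfl | rfl | rfl | rfl
  · exact hpt 1 (by omega)
  · exact hpt 2 (by omega)
  · exact hpt 3 (by omega)
  · exact hpt 14 (by omega)
  · exact hpt 17 (by omega)
  · exact hpt 23 (by omega)
  · exact i33
  · exact i2
  · exact i3

/-- the group of the code is transitive on ordered pairs of octads meeting in two points. -/
theorem exists_to_pair (o o' : Finset Cfsg.GolayPt) (ho : o ∈ Cfsg.octads) (ho' : o' ∈ Cfsg.octads)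
    (h₂ : (o ∩ o').card = 2) : ∃ h ∈ Cfsg.M24, h • fs octO = o ∧ h • fs o1m = o' := by
  obtain ⟨a, ha, hao⟩ := Cfsg.Agent.S5613.octad_trans o0_mem ho
  have hinv : a⁻¹ • o' ∈ Cfsg.octads := smul_mem_octads (Cfsg.M24.inv_mem ha) ho'
  have hc : (fs octO ∩ a⁻¹ • o').card = 2 := by
    have : fs octO ∩ a⁻¹ • o' = a⁻¹ • (o ∩ o') := by
      rw [Finset.smul_finset_inter, ← hao, inv_smul_smul]
    rw [this, Finset.card_smul_finset, h₂]
  obtain ⟨b, hb, hbo, hbo'⟩ := Cfsg.Agent.S1556.result (fs octO) (fs o1m) (a⁻¹ • o') o0_mem o1_mem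
    hinv (by rw [inter01, hc])
  refine ⟨a * b, Cfsg.M24.mul_mem ha hb, ?_, ?_⟩
  · rw [mul_smul, hbo, hao]
  · rw [mul_smul, hbo', smul_inv_smul]

/-- rigidity for any pair of octads meeting in two points. -/
theorem rigid (o o' : Finset Cfsg.GolayPt) (ho : o ∈ Cfsg.octads) (ho' : o' ∈ Cfsg.octads)
    (h₂ : (o ∩ o').card = 2) {g : Equiv.Perm Cfsg.GolayPt} (hg : g ∈ Cfsg.M24)
    (h0 : g • o = o) (h1 : g • o' = o') (hfix : ∀ p ∈ o \ o', g p = p) : g = 1 := by
  obtain ⟨h, hh, rfl, rfl⟩ := exists_to_pair o o' ho ho' h₂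
  have hone : h⁻¹ * g * h = 1 := by
    apply rigid0 (Cfsg.M24.mul_mem (Cfsg.M24.mul_mem (Cfsg.M24.inv_mem hh) hg) hh)
    · rw [mul_smul, mul_smul, h0, inv_smul_smul]
    · rw [mul_smul, mul_smul, h1, inv_smul_smul]
    · intro p hp
      rw [Finset.mem_sdiff] at hp
      show h⁻¹ (g (h p)) = p
      have : g (h p) = h p := by
        apply hfix
        rw [Finset.mem_sdiff]
        refine ⟨Finset.smul_mem_smul_finset hp.1, ?_⟩
        intro hmem
        exact hp.2 ((Finset.smul_mem_smul_finset_iff h).mp hmem)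
      rw [this]
      simp
  have h2 : g = h * (h⁻¹ * g * h) * h⁻¹ := by group
  rw [h2, hone]
  group

abbrev GG (o o' : Finset Cfsg.GolayPt) : Subgroup ↥Cfsg.M24 :=
  MulAction.stabilizer Cfsg.M24 o ⊓ MulAction.stabilizer Cfsg.M24 o'

theorem mem_GG {o o' : Finset Cfsg.GolayPt} (g : ↥Cfsg.M24) :
    g ∈ GG o o' ↔ (g : Equiv.Perm Cfsg.GolayPt) • o = o ∧ (g : Equiv.Perm Cfsg.GolayPt) • o' = o' := by
  rw [Subgroup.mem_inf, MulAction.mem_stabilizer_iff, MulAction.mem_stabilizer_iff]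
  rfl

theorem smul_sdiff_eq {g : Equiv.Perm Cfsg.GolayPt} {o o' : Finset Cfsg.GolayPt}
    (h0 : g • o = o) (h1 : g • o' = o') : g • (o \ o') = o \ o' := by
  rw [Finset.smul_finset_sdiff, h0, h1]

/-- restriction to `o \ o'`. -/
noncomputable def resHom (o o' : Finset Cfsg.GolayPt) :
    ↥(GG o o') →* Equiv.Perm {x // x ∈ o \ o'} where
  toFun g := Equiv.Perm.subtypePerm ((g : ↥Cfsg.M24) : Equiv.Perm Cfsg.GolayPt)
    (fun x => mem_iff_of_smul_eq
      (smul_sdiff_eq ((mem_GG g.1).mp g.2).1 ((mem_GG g.1).mp g.2).2) x)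
  map_one' := by
    ext x
    rfl
  map_mul' a b := by
    ext x
    rfl

theorem resHom_apply (o o' : Finset Cfsg.GolayPt) (g : ↥(GG o o')) (x : {x // x ∈ o \ o'}) :
    ((resHom o o' g) x : Cfsg.GolayPt) = ((g : ↥Cfsg.M24) : Equiv.Perm Cfsg.GolayPt) x := rfl


/-- In the group of the length-24 code, the joint stabiliser of two octads meeting in exactly two points is isomorphic to the symmetric group of degree 6. -/
theorem result (o o' : Finset Cfsg.GolayPt) (ho : o ∈ Cfsg.octads) (ho' : o' ∈ Cfsg.octads) (h₂ : (o ∩ o').card = 2) : Nonempty (↥(MulAction.stabilizer Cfsg.M24 o ⊓ MulAction.stabilizer Cfsg.M24 o') ≃* Equiv.Perm (Fin 6)) := by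
  classical
  have hcardD : (o \ o').card = 6 := by
    have := Finset.card_sdiff_add_card_inter o o'
    rw [ho.2, h₂] at this
    omega
  have hcard : Fintype.card {x // x ∈ o \ o'} = 6 := by rw [Fintype.card_coe, hcardD]
  have hinj : Function.Injective (resHom o o') := by
    rw [injective_iff_map_eq_one]
    intro g hg
    have hmem := (mem_GG g.1).mp g.2
    have : ((g : ↥Cfsg.M24) : Equiv.Perm Cfsg.GolayPt) = 1 := by
      apply rigid o o' ho ho' h₂ g.1.2 hmem.1 hmem.2
      intro p hp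
      have := congrArg (fun τ : Equiv.Perm {x // x ∈ o \ o'} =>
        ((τ ⟨p, hp⟩ : {x // x ∈ o \ o'}) : Cfsg.GolayPt)) hg
      exact this
    exact Subtype.ext (Subtype.ext this)
  have hG : Nat.card ↥(GG o o') = 720 := (Cfsg.Agent.S5613.result o o' ho ho').2.2 h₂
  have hP : Nat.card (Equiv.Perm {x // x ∈ o \ o'}) = 720 := by
    rw [Nat.card_eq_fintype_card, Fintype.card_perm, hcard]
    decide
  have hfin : Finite ↥(GG o o') := Nat.finite_of_card_ne_zero (by rw [hG]; decide)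
  have hbij : Function.Bijective (resHom o o') := by
    rw [Nat.bijective_iff_injective_and_card]
    exact ⟨hinj, by rw [hG, hP]⟩
  have e1 : ↥(GG o o') ≃* Equiv.Perm {x // x ∈ o \ o'} := MulEquiv.ofBijective (resHom o o') hbij
  exact ⟨e1.trans (Equiv.permCongrHom (Fintype.equivFinOfCardEq hcard))⟩

end Cfsg.Agent.S5614
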