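import Cfsg.Statements.S5615
import Cfsg.Agent.Lib.Helper36.OctadTrios

set_option autoImplicit false
open scoped Pointwise
open Cfsg

namespace Cfsg.Agent.S5615

open Cfsg.Agent.Lib.Helper10 (idx pt idx_pt idx_lt idx_injective enc enc_mod enc_lt pt_idx
  card_eq_orbit_mul' card_M24 evalW evalW_spec wordPerm wordAt okTarget bpt base)
open Cfsg.Agent.Lib.Helper35
open Cfsg.Agent.Lib.Helper36
open Cfsg.Agent.Lib.Helper36.OctadTrios
open Cfsg.Agent.Lib.Helper92 (eq_candidate)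

theorem base_trios : (orbK K0 tr1).ncard = 15 ∧ (orbK K0 tr2).ncard = 420 ∧
    (orbK K0 tr3).ncard = 3360 ∧ trios = orbK K0 tr1 ∪ orbK K0 tr2 ∪ orbK K0 tr3 :=
  assemble3 (J2 w xO)
    (image_orbK_subset K0_le smul_trios tr1_mem) (image_orbK_subset K0_le smul_trios tr2_mem)
    (image_orbK_subset K0_le smul_trios tr3_mem)
    (J2_orbK w xO tr1) (J2_orbK w xO tr2) (J2_orbK w xO tr3)
    (by rw [tr1_J, tr2_J]; decide) (by rw [tr1_J, tr3_J]; decide) (by rw [tr2_J, tr3_J]; decide)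
    tr1_lb tr2_lb tr3_lb Cfsg.Agent.S1557.result.2

theorem xO_mem_tr1 : xO ∈ tr1 := (mem_ofMasks _ _).mpr ⟨xOm, by decide, rfl⟩
theorem xO_mem_T2 : xO ∈ T2 := (mem_ofMasks _ _).mpr ⟨xOm, by decide, rfl⟩
theorem xO_mem_T3 : xO ∈ T3 := (mem_ofMasks _ _).mpr ⟨xOm, by decide, rfl⟩
theorem xO_mem_T4 : xO ∈ T4 := (mem_ofMasks _ _).mpr ⟨xOm, by decide, rfl⟩

theorem J2_ge {T : Finset (Finset GolayPt)} (h : xO ∈ T) : 64 ≤ J2 w xO T := by
  unfold J2
  have h1 : w (xO ∩ xO).card = 64 := by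
    rw [Finset.inter_self, xO_mem.2]
    rfl
  calc 64 = w (xO ∩ xO).card := h1.symm
    _ ≤ ∑ A ∈ T, w (A ∩ xO).card :=
      Finset.single_le_sum (f := fun A => w (A ∩ xO).card) (fun _ _ => Nat.zero_le _) h

theorem part1_set : {T : Finset (Finset GolayPt) | T ∈ trios ∧ xO ∈ T} = orbK K0 tr1 := by
  ext T
  constructor
  · rintro ⟨hT, hx⟩
    have h64 := J2_ge hx
    rw [base_trios.2.2.2] at hT
    rcases hT with (h1 | h2) | h3
    · exact h1
    · have := J2_orbK w xO tr2 T h2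
      rw [tr2_J] at this
      omega
    · have := J2_orbK w xO tr3 T h3
      rw [tr3_J] at this
      omega
  · rintro ⟨g, hg, rfl⟩
    refine ⟨smul_mem_trios (K0_le hg) tr1_mem, ?_⟩
    have hgx : g • xO = xO := hg.2
    have := Finset.smul_mem_smul_finset (a := g) xO_mem_tr1
    rwa [hgx] at this

theorem tr1_exact : ∀ Y ∈ orbK K0 tr1, encSS Y ∈ codes15 :=
  mem_codes_of_ncard encSS K0_models tr1 tr1Cert tr1_ck (hashL _) tr1_di
    (by rw [tr1_len]; exact base_trios.1)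

theorem K1_fix_tr1 : ∀ g ∈ K1, g • tr1 = tr1 := fun _ hg => hg.2
theorem K1_le_K0 : K1 ≤ K0 := inf_le_left

theorem base_two_trans {T₁ T₂ : Finset (Finset GolayPt)} (h1 : T₁ ∈ trios) (h2 : T₂ ∈ trios)
    (m1 : xO ∈ T₁) (m2 : xO ∈ T₂) (hne : T₁ ≠ T₂) :
    ∃ g ∈ K0, g • tr1 = T₁ ∧ g • T2 = T₂ := by
  have hT1 : T₁ ∈ orbK K0 tr1 := by rw [← part1_set]; exact ⟨h1, m1⟩
  obtain ⟨g1, hg1, rfl⟩ := hT1
  have hg1x : g1 • xO = xO := hg1.2
  have h2' : g1⁻¹ • T₂ ∈ trios := smul_mem_trios (M24.inv_mem (K0_le hg1)) h2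
  have m2' : xO ∈ g1⁻¹ • T₂ := by
    have e : g1⁻¹ • xO = xO := by rw [inv_smul_eq_iff, hg1x]
    have := Finset.smul_mem_smul_finset (a := g1⁻¹) m2
    rwa [e] at this
  have hne' : g1⁻¹ • T₂ ≠ tr1 := by
    intro e
    apply hne
    rw [← e, smul_inv_smul]
  have hO : g1⁻¹ • T₂ ∈ orbK K0 tr1 := by rw [← part1_set]; exact ⟨h2', m2'⟩
  have hc15 := tr1_exact _ hO
  have hc14 : encSS (g1⁻¹ • T₂) ∈ codes14 := by
    have := List.all_eq_true.mp codes_complete _ hc15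
    rw [Bool.or_eq_true, beq_iff_eq, List.contains_iff_mem] at this
    rcases this with e | e
    · exact absurd (encSS_injective (e.trans tr1_enc.symm)) hne'
    · exact e
  obtain ⟨g2, hg2, hcode⟩ := orbit_of_certG K1_models T2 c1Cert c1_ck _ hc14
  have hg2T : g2 • T2 = g1⁻¹ • T₂ := encSS_injective hcode
  refine ⟨g1 * g2, K0.mul_mem hg1 (K1_le_K0 hg2), ?_, ?_⟩
  · rw [mul_smul, K1_fix_tr1 g2 hg2]
  · rw [mul_smul, hg2T, smul_inv_smul]

theorem base_part2 {T₁ T₂ T₁' T₂' : Finset (Finset GolayPt)} (h1 : T₁ ∈ trios) (h2 : T₂ ∈ trios)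
    (h1' : T₁' ∈ trios) (h2' : T₂' ∈ trios) (m1 : xO ∈ T₁) (m2 : xO ∈ T₂) (m1' : xO ∈ T₁')
    (m2' : xO ∈ T₂') (hne : T₁ ≠ T₂) (hne' : T₁' ≠ T₂') :
    ∃ g ∈ M24, g • xO = xO ∧ g • T₁ = T₁' ∧ g • T₂ = T₂' := by
  obtain ⟨g, hg, e1, e2⟩ := base_two_trans h1 h2 m1 m2 hne
  obtain ⟨g', hg', e1', e2'⟩ := base_two_trans h1' h2' m1' m2' hne'
  have hmem := K0.mul_mem hg' (K0.inv_mem hg)
  refine ⟨g' * g⁻¹, K0_le hmem, hmem.2, ?_, ?_⟩
  · rw [← e1, mul_smul, inv_smul_smul, e1']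
  · rw [← e2, mul_smul, inv_smul_smul, e2']

/-! ### The kernel -/

/-- The table of a word. -/
def wtab (W : List ℕ) : List ℕ := (List.range 24).map (evalW W)

theorem wtab_getD (W : List ℕ) (i : ℕ) (hi : i < 24) : (wtab W).getD i 0 = evalW W i := by
  unfold wtab
  rw [List.getD_eq_getElem?_getD, List.getElem?_map, List.getElem?_range hi]
  rfl

theorem wordPerm_models (W : List ℕ) (s : Finset GolayPt) :
    gmask (wordPerm W • s) = applyTbl (wtab W) (gmask s) :=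
  gmask_smul (wordPerm W) (wtab W)
    (fun p => by rw [evalW_spec, wtab_getD _ _ (idx_lt p)]) s

/-- The codes of the fifteen trios, computably. -/
def codes15c : List (List ℕ) := tr1L :: pushedG 2 tr1Cert

theorem codes15_eq : codes15 = codes15c := by
  unfold codes15 codes15c
  rw [tr1_enc]
  rfl

/-- Check: a candidate fixing the base octad pointwise fixes the fifteen trios. -/
def chk (c5 c6 : ℕ) : Bool :=
  !(okTarget 5 c5 && okTarget 6 c6 && (evalW (wordAt 5 c5 ++ wordAt 6 c6) 5 == 5) &&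
      (evalW (wordAt 5 c5 ++ wordAt 6 c6) 14 == 14) &&
      (evalW (wordAt 5 c5 ++ wordAt 6 c6) 17 == 17)) ||
    codes15c.all (fun c => actSS (applyTbl (wtab (wordAt 5 c5 ++ wordAt 6 c6))) c == c)

theorem chk_all : ∀ c5 c6 : Fin 24, chk c5 c6 = true := by decide +kernel

theorem pw_fix_trios {g : Equiv.Perm GolayPt} (hg : g ∈ M24) (hfix : ∀ p ∈ xO, g p = p) :
    ∀ T ∈ trios, xO ∈ T → g • T = T := by
  have hb : ∀ i < 5, g (bpt i) = wordPerm [] (bpt i) := by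
    intro i hi
    show g (bpt i) = bpt i
    apply hfix
    rw [xO, mem_setOfMask]
    unfold bpt
    interval_cases i <;> (rw [idx_pt (by decide)]; decide)
  obtain ⟨c5, c6, h5, h6, rfl⟩ := eq_candidate [] g hg hb
  have hw : ([] : List ℕ) ++ wordAt 5 c5 ++ wordAt 6 c6 = wordAt 5 c5 ++ wordAt 6 c6 := by simp
  rw [hw] at hfix ⊢
  have ev : ∀ a : ℕ, a < 24 → xOm.testBit a = true →
      evalW (wordAt 5 c5 ++ wordAt 6 c6) a = a := by
    intro a ha hbit
    have h1 := hfix (pt a) (by rw [xO, mem_setOfMask, idx_pt ha]; exact hbit)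
    have h2 := evalW_spec (wordAt 5 c5 ++ wordAt 6 c6) (pt a)
    rw [h1, idx_pt ha] at h2
    exact h2.symm
  have e5 := ev 5 (by norm_num) (by decide)
  have e14 := ev 14 (by norm_num) (by decide)
  have e17 := ev 17 (by norm_num) (by decide)
  have hchk := chk_all c5 c6
  unfold chk at hchk
  rw [h5, h6, e5, e14, e17] at hchk
  simp only [beq_self_eq_true, Bool.and_self, Bool.not_true, Bool.false_or] at hchk
  intro T hT hx
  have hO : T ∈ orbK K0 tr1 := by rw [← part1_set]; exact ⟨hT, hx⟩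
  have hc := tr1_exact T hO
  rw [codes15_eq] at hc
  have := List.all_eq_true.mp hchk _ hc
  apply encSS_injective
  rw [encSS_smul (wordPerm_models _) T]
  exact beq_iff_eq.mp this

theorem card_K0 : Nat.card K0 = 322560 := card_octad_stab' xO xO_mem

theorem card_K4_le : Nat.card K4 ≤ 16 := by
  have h1 : Nat.card K1 ≤ 21504 :=
    card_le_step K0 tr1 tr1_lb (le_of_eq card_K0) (by norm_num) (by norm_num)
  have h2 : Nat.card K2 ≤ 1536 := card_le_step K1 T2 c1_lb h1 (by norm_num) (by norm_num)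
  have h3 : Nat.card K3 ≤ 128 := card_le_step K2 T3 c2_lb h2 (by norm_num) (by norm_num)
  exact card_le_step K3 T4 c3_lb h3 (by norm_num) (by norm_num)

theorem card_PW_ge : 16 ≤ Nat.card PW := by
  have h := card_eq_orbit_mul' PW (pt 4) (orbK PW (pt 4)) (fun σ hσ => ⟨σ, hσ, rfl⟩)
    (fun c hc => hc)
  have h1 : 1 ≤ Nat.card ↥(PW ⊓ MulAction.stabilizer (Equiv.Perm GolayPt) (pt 4)) := Nat.card_pos
  have h2 := Nat.mul_le_mul PW_lb h1
  omega

theorem smul_eq_of_pointwise {g : Equiv.Perm GolayPt} {s : Finset GolayPt}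
    (hfix : ∀ p ∈ s, g p = p) : g • s = s := by
  ext p
  constructor
  · intro hp
    obtain ⟨q, hq, rfl⟩ := Finset.mem_smul_finset.mp hp
    rw [show g • q = g q from rfl, hfix q hq]
    exact hq
  · intro hp
    exact Finset.mem_smul_finset.mpr ⟨p, hp, hfix p hp⟩

theorem PW_le_K4 : PW ≤ K4 := by
  rintro g ⟨hg, hfix⟩
  have hfixT := pw_fix_trios hg hfix
  have hx : g • xO = xO := smul_eq_of_pointwise hfix
  exact ⟨⟨⟨⟨⟨hg, hx⟩, hfixT tr1 tr1_mem xO_mem_tr1⟩, hfixT T2 T2_mem xO_mem_T2⟩,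
    hfixT T3 T3_mem xO_mem_T3⟩, hfixT T4 T4_mem xO_mem_T4⟩

theorem PW_eq_K4 : PW = K4 :=
  Subgroup.eq_of_le_of_card_ge PW_le_K4 (le_trans card_K4_le card_PW_ge)

theorem fix_trios_pw {g : Equiv.Perm GolayPt} (hg : g ∈ M24) (hx : g • xO = xO)
    (h : ∀ T ∈ trios, xO ∈ T → g • T = T) : ∀ p ∈ xO, g p = p := by
  have hK4 : g ∈ K4 := ⟨⟨⟨⟨⟨hg, hx⟩, h tr1 tr1_mem xO_mem_tr1⟩, h T2 T2_mem xO_mem_T2⟩,
    h T3 T3_mem xO_mem_T3⟩, h T4 T4_mem xO_mem_T4⟩
  rw [← PW_eq_K4] at hK4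
  exact hK4.2

theorem mem_smul_iff' (h : Equiv.Perm GolayPt) (s : Finset GolayPt)
    (T : Finset (Finset GolayPt)) : h • s ∈ T ↔ s ∈ h⁻¹ • T := by
  constructor
  · intro hm
    have := Finset.smul_mem_smul_finset (a := h⁻¹) hm
    rwa [inv_smul_smul] at this
  · intro hm
    have := Finset.smul_mem_smul_finset (a := h) hm
    rwa [smul_inv_smul] at this

/-- An octad of the length-24 code lies in exactly 15 trios; the stabiliser of the octad in the code's group acts doubly transitively on these 15 trios, and the kernel of this action is the pointwise stabiliser of the octad. -/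
theorem result (o : Finset Cfsg.GolayPt) (ho : o ∈ Cfsg.octads) : {T : Finset (Finset Cfsg.GolayPt) | T ∈ Cfsg.trios ∧ o ∈ T}.ncard = 15 ∧ (∀ T₁ T₂ T₁' T₂' : Finset (Finset Cfsg.GolayPt), T₁ ∈ Cfsg.trios → T₂ ∈ Cfsg.trios → T₁' ∈ Cfsg.trios → T₂' ∈ Cfsg.trios → o ∈ T₁ → o ∈ T₂ → o ∈ T₁' → o ∈ T₂' → T₁ ≠ T₂ → T₁' ≠ T₂' → ∃ g ∈ Cfsg.M24, g • o = o ∧ g • T₁ = T₁' ∧ g • T₂ = T₂') ∧ ∀ g ∈ Cfsg.M24, g • o = o → ((∀ T ∈ Cfsg.trios, o ∈ T → g • T = T) ↔ ∀ p ∈ o, g p = p) := by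
  obtain ⟨h, hh, rfl⟩ := octad_trans' xO_mem ho
  have hhi : h⁻¹ ∈ M24 := M24.inv_mem hh
  refine ⟨?_, ?_, ?_⟩
  · have hset : {T : Finset (Finset GolayPt) | T ∈ trios ∧ h • xO ∈ T} =
        (fun T => h • T) '' {T : Finset (Finset GolayPt) | T ∈ trios ∧ xO ∈ T} := by
      ext T
      constructor
      · rintro ⟨hT, hm⟩
        exact ⟨h⁻¹ • T, ⟨smul_mem_trios hhi hT, (mem_smul_iff' h xO T).mp hm⟩, smul_inv_smul h T⟩
      · rintro ⟨T', ⟨hT', hm'⟩, rfl⟩
        exact ⟨smul_mem_trios hh hT', Finset.smul_mem_smul_finset hm'⟩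
    rw [hset, Set.ncard_image_of_injective _ (MulAction.injective h), part1_set]
    exact base_trios.1
  · intro T₁ T₂ T₁' T₂' h1 h2 h1' h2' m1 m2 m1' m2' hne hne'
    obtain ⟨g, hg, hgx, e1, e2⟩ := base_part2 (smul_mem_trios hhi h1) (smul_mem_trios hhi h2)
      (smul_mem_trios hhi h1') (smul_mem_trios hhi h2') ((mem_smul_iff' h xO _).mp m1)
      ((mem_smul_iff' h xO _).mp m2) ((mem_smul_iff' h xO _).mp m1') ((mem_smul_iff' h xO _).mp m2')
      (fun e => hne (MulAction.injective h⁻¹ e)) (fun e => hne' (MulAction.injective h⁻¹ e))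
    refine ⟨h * g * h⁻¹, M24.mul_mem (M24.mul_mem hh hg) hhi, ?_, ?_, ?_⟩
    · rw [mul_smul, mul_smul, inv_smul_smul, hgx]
    · rw [mul_smul, mul_smul, e1, smul_inv_smul]
    · rw [mul_smul, mul_smul, e2, smul_inv_smul]
  · intro g hg hgo
    have hg' : h⁻¹ * g * h ∈ M24 := M24.mul_mem (M24.mul_mem hhi hg) hh
    have hgx' : (h⁻¹ * g * h) • xO = xO := by
      rw [mul_smul, mul_smul, hgo, inv_smul_smul]
    constructor
    · intro hT q hq
      have hbase : ∀ T' ∈ trios, xO ∈ T' → (h⁻¹ * g * h) • T' = T' := by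
        intro T' hT' hm'
        have := hT (h • T') (smul_mem_trios hh hT') (Finset.smul_mem_smul_finset hm')
        rw [mul_smul, mul_smul, this, inv_smul_smul]
      have hpw := fix_trios_pw hg' hgx' hbase
      obtain ⟨p, hp, rfl⟩ := Finset.mem_smul_finset.mp hq
      have := hpw p hp
      have e : h⁻¹ (g (h p)) = p := this
      show g (h p) = h p
      have e2 := congrArg h e
      simpa using e2
    · intro hq T hT hm
      have hpw : ∀ p ∈ xO, (h⁻¹ * g * h) p = p := by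
        intro p hp
        show h⁻¹ (g (h p)) = p
        rw [hq (h p) (Finset.smul_mem_smul_finset hp)]
        simp
      have := pw_fix_trios hg' hpw (h⁻¹ • T) (smul_mem_trios hhi hT) ((mem_smul_iff' h xO T).mp hm)
      rw [mul_smul, mul_smul, smul_inv_smul] at this
      have h2 := congrArg (fun Y => h • Y) this
      simpa using h2

end Cfsg.Agent.S5615
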