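import Cfsg.Statements.S5618
import Cfsg.Agent.Lib.Helper95.M12Hexad

set_option autoImplicit false
open scoped Pointwise
open Cfsg

namespace Cfsg.Agent.S5618

open Cfsg.Agent.Lib.Helper95 Cfsg.Agent.Lib.Helper10 MulAction

abbrev GG (d C : Finset Cfsg.GolayPt) : Subgroup ↥Cfsg.M24 :=
  MulAction.stabilizer Cfsg.M24 d ⊓ MulAction.stabilizer Cfsg.M24 C

theorem mem_GG {d C : Finset Cfsg.GolayPt} (g : ↥Cfsg.M24) :
    g ∈ GG d C ↔ (g : Equiv.Perm Cfsg.GolayPt) • d = d ∧ (g : Equiv.Perm Cfsg.GolayPt) • C = C := by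
  rw [Subgroup.mem_inf, MulAction.mem_stabilizer_iff, MulAction.mem_stabilizer_iff]
  rfl

/-- restriction to `C`. -/
noncomputable def resHom (d C : Finset Cfsg.GolayPt) : ↥(GG d C) →* Equiv.Perm {x // x ∈ C} where
  toFun g := Equiv.Perm.subtypePerm ((g : ↥Cfsg.M24) : Equiv.Perm Cfsg.GolayPt)
    (fun x => mem_iff_of_smul_eq ((mem_GG g.1).mp g.2).2 x)
  map_one' := by
    ext x
    rfl
  map_mul' a b := by
    ext x
    rfl

theorem resHom_apply (d C : Finset Cfsg.GolayPt) (g : ↥(GG d C)) (x : {x // x ∈ C}) :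
    ((resHom d C g) x : Cfsg.GolayPt) = ((g : ↥Cfsg.M24) : Equiv.Perm Cfsg.GolayPt) x := rfl

theorem faithful_on {d : Finset Cfsg.GolayPt} (hd : d ∈ Cfsg.dodecads) {C : Finset Cfsg.GolayPt}
    (S : Finset Cfsg.GolayPt) (hSd : S ⊆ d) (hS : 5 ≤ S.card)
    (g : ↥Cfsg.M24) (hg : g ∈ GG d C)
    (hfix : ∀ p ∈ S, ((g : ↥Cfsg.M24) : Equiv.Perm Cfsg.GolayPt) p = p) : g = 1 := by
  have h1 := eq_one_of_fixes_subset hd g.2 ((mem_GG g).mp hg).1 S hSd hS hfix
  exact Subtype.ext h1


/-- For a dodecad d of the length-24 code and a hexad C on it (a 6-point intersection of d with an octad): the joint stabiliser of d and C in the code's group is isomorphic to the symmetric group of degree 6, and it acts faithfully both on the six points of C and on the six points of d outside C. -/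
theorem result (d : Finset Cfsg.GolayPt) (hd : d ∈ Cfsg.dodecads) (C : Finset Cfsg.GolayPt) (hC : C ∈ Cfsg.hexadsOn d) : Nonempty (↥(MulAction.stabilizer Cfsg.M24 d ⊓ MulAction.stabilizer Cfsg.M24 C) ≃* Equiv.Perm (Fin 6)) ∧ (∀ g ∈ MulAction.stabilizer Cfsg.M24 d ⊓ MulAction.stabilizer Cfsg.M24 C, (∀ p ∈ C, ((g : ↥Cfsg.M24) : Equiv.Perm Cfsg.GolayPt) p = p) → g = 1) ∧ ∀ g ∈ MulAction.stabilizer Cfsg.M24 d ⊓ MulAction.stabilizer Cfsg.M24 C, (∀ p ∈ d \ C, ((g : ↥Cfsg.M24) : Equiv.Perm Cfsg.GolayPt) p = p) → g = 1 := by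
  classical
  have hCd : C ⊆ d := hexad_subset hC
  have hC6 : C.card = 6 := hC.1
  have hd12 : d.card = 12 := hd.2
  have hDC : d \ C ∈ Cfsg.hexadsOn d := hexad_compl hd hC
  refine ⟨?_, ?_, ?_⟩
  · -- the isomorphism
    have hinj : Function.Injective (resHom d C) := by
      rw [injective_iff_map_eq_one]
      intro g hg
      have : (g : ↥Cfsg.M24) = 1 := by
        apply faithful_on hd C hCd (by omega) g.1 g.2
        intro p hp
        have := congrArg (fun τ : Equiv.Perm {x // x ∈ C} => ((τ ⟨p, hp⟩ : {x // x ∈ C}) : Cfsg.GolayPt)) hg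
        exact this
      exact Subtype.ext this
    have hsurj : Function.Surjective (resHom d C) := by
      intro τ
      have hcard : Fintype.card {x // x ∈ C} = 6 := by rw [Fintype.card_coe, hC6]
      let e : Fin 6 ≃ {x // x ∈ C} := (Fintype.equivFinOfCardEq hcard).symm
      let x : Fin 5 ↪ Cfsg.GolayPt :=
        ⟨fun i => (e (Fin.castSucc i) : Cfsg.GolayPt), by
          intro i j hij
          have := e.injective (Subtype.ext hij)
          exact Fin.castSucc_injective _ this⟩
      let y : Fin 5 ↪ Cfsg.GolayPt :=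
        ⟨fun i => (τ (e (Fin.castSucc i)) : Cfsg.GolayPt), by
          intro i j hij
          have := e.injective (τ.injective (Subtype.ext hij))
          exact Fin.castSucc_injective _ this⟩
      have hx : ∀ i, x i ∈ d := fun i => hCd (e (Fin.castSucc i)).2
      have hy : ∀ i, y i ∈ d := fun i => hCd (τ (e (Fin.castSucc i))).2
      obtain ⟨g, hgM, hgd, hgxy⟩ := five_trans_dodecad hd x y hx hy
      have hgC : g • C = C := by
        apply hexad_eq_of_inter (smul_mem_hexadsOn hgM hgd hC) hC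
        have hsub : Finset.univ.map y ⊆ g • C ∩ C := by
          intro p hp
          rw [Finset.mem_map] at hp
          obtain ⟨i, -, rfl⟩ := hp
          rw [Finset.mem_inter]
          refine ⟨?_, (τ (e (Fin.castSucc i))).2⟩
          rw [← hgxy i]
          exact Finset.smul_mem_smul_finset (e (Fin.castSucc i)).2
        have := Finset.card_le_card hsub
        rw [Finset.card_map, Finset.card_univ, Fintype.card_fin] at this
        exact this
      let g' : ↥Cfsg.M24 := ⟨g, hgM⟩
      have hg' : g' ∈ GG d C := (mem_GG g').mpr ⟨hgd, hgC⟩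
      refine ⟨⟨g', hg'⟩, ?_⟩
      apply perm_eq_of_eq_off _ _ (e (Fin.last 5))
      intro z hz
      obtain ⟨k, rfl⟩ := e.surjective z
      induction k using Fin.lastCases with
      | last => exact absurd rfl hz
      | cast i =>
        apply Subtype.ext
        rw [resHom_apply]
        exact hgxy i
    have e1 : ↥(GG d C) ≃* Equiv.Perm {x // x ∈ C} := MulEquiv.ofBijective (resHom d C) ⟨hinj, hsurj⟩
    have hcard : Fintype.card {x // x ∈ C} = 6 := by rw [Fintype.card_coe, hC6]
    exact ⟨e1.trans (Equiv.permCongrHom (Fintype.equivFinOfCardEq hcard))⟩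
  · intro g hg hfix
    exact faithful_on hd C hCd (by omega) g hg hfix
  · intro g hg hfix
    refine faithful_on hd (d \ C) Finset.sdiff_subset ?_ g hg hfix
    rw [hDC.1]
    omega

end Cfsg.Agent.S5618
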