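import Cfsg.Statements.S5619
import Cfsg.Agent.Lib.Helper95.M9
import Cfsg.Agent.Lib.Helper95.Sylow72

set_option autoImplicit false
open scoped Pointwise
open Cfsg

namespace Cfsg.Agent.S5619

open MulAction Cfsg.Agent.Lib.Helper10 Cfsg.Agent.Lib.Helper95

/-- `K12` is transitive on injective triples of points of `d0`. -/
theorem three_trans12 (x : Fin 3 ↪ GolayPt) (hx : ∀ i, x i ∈ fs d0) :
    ∃ g ∈ K12, ∀ i : Fin 3, g (bpt12 i) = x i := by
  apply multi_trans_generic K12 3 bpt12 (fun c => c ∈ fs d0)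
    (fun k hk c hc hne => level12 k (by omega) c hc hne) _ x hx
  intro g hg c hc
  have hP := pres_of_mem_K12 (K12.inv_mem hg) c
  rw [mem_fs] at hc ⊢
  rw [hP]; exact hc

/-- an element of the group of the code moving the base configuration to a given one. -/
theorem exists_base (d : Finset GolayPt) (hd : d ∈ dodecads) (p q r : GolayPt) (hp : p ∈ d)
    (hq : q ∈ d) (hr : r ∈ d) (hpq : p ≠ q) (hpr : p ≠ r) (hqr : q ≠ r) :
    ∃ g ∈ M24, g • fs d0 = d ∧ g (pt 0) = p ∧ g (pt 1) = q ∧ g (pt 2) = r := by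
  obtain ⟨h, hh, rfl⟩ := exists_smul_d0_eq hd
  have hhM : h ∈ M24 := H_le_M24 hh
  have mem : ∀ z, z ∈ h • fs d0 → h⁻¹ z ∈ fs d0 := fun z hz => by
    have := Finset.inv_smul_mem_iff.mpr hz
    exact this
  let f : Fin 3 → GolayPt := ![h⁻¹ p, h⁻¹ q, h⁻¹ r]
  have hf : Function.Injective f := by
    intro i j hij
    fin_cases i <;> fin_cases j <;> first | rfl | (exfalso; revert hij; simp [f, hpq, hpr, hqr, Ne.symm hpq, Ne.symm hpr, Ne.symm hqr])
  obtain ⟨k, hk, e⟩ := three_trans12 ⟨f, hf⟩ (by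
    intro i
    fin_cases i
    · exact mem p hp
    · exact mem q hq
    · exact mem r hr)
  have hkM : k ∈ M24 := ((mem_K12 k).mp hk).1
  have hkd : k • fs d0 = fs d0 := ((mem_K12 k).mp hk).2
  refine ⟨h * k, M24.mul_mem hhM hkM, ?_, ?_, ?_, ?_⟩
  · rw [mul_smul, hkd]
  · have := e 0
    show h (k (pt 0)) = p
    have e0 : k (pt 0) = h⁻¹ p := this
    rw [e0]; simp
  · have := e 1
    show h (k (pt 1)) = q
    have e0 : k (pt 1) = h⁻¹ q := this
    rw [e0]; simp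
  · have := e 2
    show h (k (pt 2)) = r
    have e0 : k (pt 2) = h⁻¹ r := this
    rw [e0]; simp

/-- conjugation by `g` as an isomorphism from a subgroup of permutations onto a subgroup of the
group of the code. -/
noncomputable def conjIso (g : Equiv.Perm GolayPt) (hg : g ∈ M24)
    (A : Subgroup (Equiv.Perm GolayPt)) (B : Subgroup ↥M24)
    (hAB : ∀ σ (hσ : σ ∈ M24), (⟨σ, hσ⟩ : ↥M24) ∈ B ↔ g⁻¹ * σ * g ∈ A) (hA : A ≤ M24) :
    ↥A ≃* ↥B where
  toFun a := ⟨⟨g * a.1 * g⁻¹, M24.mul_mem (M24.mul_mem hg (hA a.2)) (M24.inv_mem hg)⟩, by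
    rw [hAB]
    have : g⁻¹ * (g * a.1 * g⁻¹) * g = a.1 := by group
    rw [this]; exact a.2⟩
  invFun b := ⟨g⁻¹ * b.1.1 * g, (hAB b.1.1 b.1.2).mp b.2⟩
  left_inv a := by
    apply Subtype.ext
    show g⁻¹ * (g * a.1 * g⁻¹) * g = a.1
    group
  right_inv b := by
    apply Subtype.ext
    apply Subtype.ext
    show g * (g⁻¹ * b.1.1 * g) * g⁻¹ = b.1.1
    group
  map_mul' a b := by
    apply Subtype.ext
    apply Subtype.ext
    show g * (a.1 * b.1) * g⁻¹ = (g * a.1 * g⁻¹) * (g * b.1 * g⁻¹)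
    group

theorem M9c_le : M9c ≤ M24 := fun σ hσ => ((mem_K12 σ).mp ((mem_M9c σ).mp hσ).1).1

/-- In the group of the length-24 code, the subgroup fixing a dodecad setwise and three of its points individually (a group of order 72) has a normal Sylow 3-subgroup that is elementary abelian of order 9, and its Sylow 2-subgroups are quaternion of order 8. -/
theorem result (d : Finset Cfsg.GolayPt) (hd : d ∈ Cfsg.dodecads) (p q r : Cfsg.GolayPt) (hp : p ∈ d) (hq : q ∈ d) (hr : r ∈ d) (hpq : p ≠ q) (hpr : p ≠ r) (hqr : q ≠ r) : (∀ Q : Sylow 3 ↥(MulAction.stabilizer Cfsg.M24 d ⊓ MulAction.stabilizer Cfsg.M24 p ⊓ MulAction.stabilizer Cfsg.M24 q ⊓ MulAction.stabilizer Cfsg.M24 r), (Q : Subgroup ↥(MulAction.stabilizer Cfsg.M24 d ⊓ MulAction.stabilizer Cfsg.M24 p ⊓ MulAction.stabilizer Cfsg.M24 q ⊓ MulAction.stabilizer Cfsg.M24 r)).Normal ∧ Nat.card ↥Q = 9 ∧ ∀ x ∈ (Q : Subgroup ↥(MulAction.stabilizer Cfsg.M24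 d ⊓ MulAction.stabilizer Cfsg.M24 p ⊓ MulAction.stabilizer Cfsg.M24 q ⊓ MulAction.stabilizer Cfsg.M24 r)), x ^ 3 = 1) ∧ ∀ P : Sylow 2 ↥(MulAction.stabilizer Cfsg.M24 d ⊓ MulAction.stabilizer Cfsg.M24 p ⊓ MulAction.stabilizer Cfsg.M24 q ⊓ MulAction.stabilizer Cfsg.M24 r), Nonempty (↥P ≃* QuaternionGroup 2) := by
  obtain ⟨g, hg, rfl, rfl, rfl, rfl⟩ := exists_base d hd p q r hp hq hr hpq hpr hqr
  have hAB : ∀ σ (hσ : σ ∈ M24), (⟨σ, hσ⟩ : ↥M24) ∈
      (MulAction.stabilizer Cfsg.M24 (g • fs d0) ⊓ MulAction.stabilizer Cfsg.M24 (g (pt 0)) ⊓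
        MulAction.stabilizer Cfsg.M24 (g (pt 1)) ⊓ MulAction.stabilizer Cfsg.M24 (g (pt 2))) ↔
      g⁻¹ * σ * g ∈ M9c := by
    intro σ hσ
    rw [mem_M9c, mem_K12]
    simp only [Subgroup.mem_inf, MulAction.mem_stabilizer_iff]
    have e1 : (⟨σ, hσ⟩ : ↥M24) • (g • fs d0) = σ • (g • fs d0) := rfl
    have e2 : ∀ z : GolayPt, (⟨σ, hσ⟩ : ↥M24) • z = σ z := fun z => rfl
    rw [e1, e2, e2, e2]
    have k1 : (g⁻¹ * σ * g) • fs d0 = fs d0 ↔ σ • (g • fs d0) = g • fs d0 := by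
      rw [mul_smul, mul_smul, inv_smul_eq_iff]
    have k2 : ∀ z : GolayPt, (g⁻¹ * σ * g) z = z ↔ σ (g z) = g z := by
      intro z
      show g⁻¹ (σ (g z)) = z ↔ _
      rw [Equiv.Perm.inv_eq_iff_eq]
    rw [k1, k2, k2, k2]
    constructor
    · rintro ⟨⟨⟨h1, h2⟩, h3⟩, h4⟩
      exact ⟨⟨M24.mul_mem (M24.mul_mem (M24.inv_mem hg) hσ) hg, h1⟩, h2, h3, h4⟩
    · rintro ⟨⟨-, h1⟩, h2, h3, h4⟩
      exact ⟨⟨⟨h1, h2⟩, h3⟩, h4⟩
  set B := (MulAction.stabilizer Cfsg.M24 (g • fs d0) ⊓ MulAction.stabilizer Cfsg.M24 (g (pt 0)) ⊓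
        MulAction.stabilizer Cfsg.M24 (g (pt 1)) ⊓ MulAction.stabilizer Cfsg.M24 (g (pt 2))) with hB
  let φ : ↥M9c ≃* ↥B := conjIso g hg M9c B hAB M9c_le
  have hc : Nat.card ↥B = 72 := by
    rw [← Nat.card_congr φ.toEquiv]
    exact card_M9c
  have h93 : ∀ x : ↥B, x ^ 9 = 1 → x ^ 3 = 1 := by
    intro x hx
    have h1 : (φ.symm x) ^ 9 = 1 := by rw [← map_pow, hx, map_one]
    have h2 : ((φ.symm x : ↥M9c) : Equiv.Perm GolayPt) ^ 9 = 1 := by
      have := congrArg Subtype.val h1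
      exact this
    have h3 := pow_three_of_pow_nine (φ.symm x).2 h2
    have h4 : (φ.symm x) ^ 3 = 1 := Subtype.ext h3
    rw [← map_pow] at h4
    exact (MulEquiv.map_eq_one_iff φ.symm).mp h4
  have hn : {x : ↥B | x ^ 9 = 1}.ncard ≤ 9 := by
    refine le_trans ?_ ncard_pow_nine
    apply Set.ncard_le_ncard_of_injOn (fun x : ↥B => ((φ.symm x : ↥M9c) : Equiv.Perm GolayPt))
    · intro x hx
      have hx' : x ^ 9 = 1 := hx
      have h1 : (φ.symm x) ^ 9 = 1 := by rw [← map_pow, hx', map_one]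
      exact ⟨(φ.symm x).2, congrArg Subtype.val h1⟩
    · intro x _ y _ hxy
      exact φ.symm.injective (Subtype.ext hxy)
  refine ⟨fun Q => sylow3_of_72 hc h93 hn Q, fun P => ?_⟩
  exact sylow2_of_72 hc (φ.toMonoidHom.comp q8Hom)
    (φ.injective.comp q8Hom_injective) P

end Cfsg.Agent.S5619
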