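import Cfsg.Statements.S5620
import Cfsg.Agent.Lib.Helper93.M11Data

set_option autoImplicit false
open scoped Pointwise
open Cfsg

namespace Cfsg.Agent.S5620

open Cfsg.Agent.Lib.Helper10 Cfsg.Agent.Lib.Helper93

/-- the table of `x ↦ -1/x`. -/
def pinvT : List ℕ := [23, 22, 11, 15, 17, 9, 19, 13, 20, 5, 16, 2, 21, 7, 18, 3, 10, 4, 14, 6, 8, 12, 1, 0]
def pinvImg : List ℕ := [16436384, 4696816, 2083596, 2799212, 3876754, 10252980, 8216682, 9514476, 7705908, 2316478, 10864326, 15598044, 6586248, 1875162, 8840506, 13850200, 4738934, 11139408, 5435846, 11934562, 13210538, 13581318, 15772190, 16777215]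
/-- an element of the stabiliser of the dodecad of squares fixing the extra point and no point of
the dodecad. -/
def witT : List ℕ := [4, 16, 13, 12, 0, 17, 8, 10, 3, 18, 14, 11, 6, 1, 20, 15, 2, 19, 9, 21, 7, 5, 22, 23]
def witI : List ℕ := [4, 13, 16, 8, 0, 21, 12, 20, 6, 18, 7, 11, 3, 2, 10, 15, 1, 5, 9, 17, 14, 19, 22, 23]
def witImg : List ℕ := [340831, 4158467, 1244041, 2530661, 4867535, 1969978, 7718728, 2419870, 1923308, 5040739, 7494230, 3770835, 1287910, 7909678, 6067861, 2867773, 7285636, 2652144, 6364843, 7741689, 4706738, 5336373, 4963416, 16777215]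

theorem pinv_ok : tabOk pinvT pinvT = true := by decide +kernel
theorem pinv_img : imgOk pinvT pinvImg = true := by decide +kernel
theorem wit_ok : tabOk witT witI = true := by decide +kernel
theorem wit_img : imgOk witT witImg = true := by decide +kernel
theorem wit_pres : presOk sqMask witT = true := by decide +kernel
theorem wit_nofix : (List.range 24).all (fun i => !sqMask.testBit i || (witT.getD i 0 != i)) = true := by
  decide +kernel
theorem pinv_swap : (List.range 24).all (fun i => sqMask.testBit (pinvT.getD i 0) == !sqMask.testBit i)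
    = true := by decide +kernel

/-- the element `x ↦ -1/x`. -/
def pinv : Equiv.Perm GolayPt := tabPerm pinvT pinvT
/-- the witness. -/
def wit : Equiv.Perm GolayPt := tabPerm witT witI

theorem pinv_mem : pinv ∈ M24 := tabPerm_mem_M24 _ _ _ pinv_ok pinv_img
theorem wit_mem : wit ∈ M24 := tabPerm_mem_M24 _ _ _ wit_ok wit_img

theorem pinv_smul : pinv • Spor.squareDodecad = Finset.univ \ Spor.squareDodecad := by
  ext p
  rw [← Finset.inv_smul_mem_iff, squareDodecad_eq, Finset.mem_sdiff, mem_support_vec,
    mem_support_vec]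
  have e : pinv⁻¹ • p = pinv.symm p := rfl
  have h := (List.all_eq_true.mp pinv_swap) (idx (pinv.symm p)) (List.mem_range.mpr (idx_lt _))
  rw [beq_iff_eq] at h
  have h2 : idx (pinv (pinv.symm p)) = pinvT.getD (idx (pinv.symm p)) 0 := idx_tabPerm pinv_ok _
  rw [Equiv.apply_symm_apply] at h2
  rw [← h2] at h
  rw [e, h]
  simp

theorem pinv_zero : pinv (some 0) = none := by
  have h0 : (some 0 : GolayPt) = pt 0 := by decide
  have h1 : (none : GolayPt) = pt 23 := by decide
  rw [h0, h1]
  apply idx_injective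
  show idx (tabPerm pinvT pinvT (pt 0)) = _
  rw [idx_tabPerm pinv_ok, idx_pt (by norm_num), idx_pt (by norm_num)]
  decide

theorem mem_conj_smul (g h : Equiv.Perm GolayPt) (S : Subgroup (Equiv.Perm GolayPt)) :
    h ∈ MulAut.conj g • S ↔ g⁻¹ * h * g ∈ S := by
  rw [Subgroup.mem_pointwise_smul_iff_inv_smul_mem, MulAut.smul_def, MulAut.conj_inv_apply]

theorem compl_smul_iff (h : Equiv.Perm GolayPt) (s : Finset GolayPt) :
    h • (Finset.univ \ s) = Finset.univ \ s ↔ h • s = s := by
  rw [Finset.smul_finset_sdiff, Finset.smul_finset_univ]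
  constructor
  · intro e
    have := congrArg (fun t => Finset.univ \ t) e
    simpa using this
  · intro e
    rw [e]

theorem conj_pinv : MulAut.conj pinv • Spor.M11
    = Spor.M12 ⊓ MulAction.stabilizer (Equiv.Perm GolayPt) (none : GolayPt) := by
  ext h
  rw [mem_conj_smul]
  unfold Spor.M11 Spor.M12
  have hM : pinv⁻¹ * h * pinv ∈ M24 ↔ h ∈ M24 := by
    constructor
    · intro hh
      have := M24.mul_mem (M24.mul_mem pinv_mem hh) (M24.inv_mem pinv_mem)
      simpa [mul_assoc] using this
    · intro hh
      exact M24.mul_mem (M24.mul_mem (M24.inv_mem pinv_mem) hh) pinv_mem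
  have hD : (pinv⁻¹ * h * pinv) • Spor.squareDodecad = Spor.squareDodecad
      ↔ h • Spor.squareDodecad = Spor.squareDodecad := by
    rw [mul_smul, mul_smul, inv_smul_eq_iff, pinv_smul]
    exact compl_smul_iff h _
  have h0 : (pinv⁻¹ * h * pinv) • (some 0 : GolayPt) = some 0 ↔ h • (none : GolayPt) = none := by
    rw [mul_smul, mul_smul, inv_smul_eq_iff]
    simp only [Equiv.Perm.smul_def, pinv_zero]
  rw [Subgroup.mem_inf, Subgroup.mem_inf, Subgroup.mem_inf, Subgroup.mem_inf,
    MulAction.mem_stabilizer_iff (a := Spor.squareDodecad),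
    MulAction.mem_stabilizer_iff (a := Spor.squareDodecad),
    MulAction.mem_stabilizer_iff (a := (some 0 : GolayPt)),
    MulAction.mem_stabilizer_iff (a := (none : GolayPt)), hM, hD, h0]

theorem wit_fix_none : wit none = none := by
  have h1 : (none : GolayPt) = pt 23 := by decide
  rw [h1]
  apply idx_injective
  show idx (tabPerm witT witI (pt 23)) = _
  rw [idx_tabPerm wit_ok, idx_pt (by norm_num)]
  decide

theorem wit_smul : wit • Spor.squareDodecad = Spor.squareDodecad := by
  rw [squareDodecad_eq]
  exact smul_support_of_inv (inv_tabPerm wit_ok wit_pres)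

theorem wit_moves (p : GolayPt) (hp : p ∈ Spor.squareDodecad) : wit p ≠ p := by
  intro h
  rw [squareDodecad_eq, mem_support_vec] at hp
  have h1 := (List.all_eq_true.mp wit_nofix) (idx p) (List.mem_range.mpr (idx_lt _))
  rw [hp] at h1
  have h2 : idx (wit p) = witT.getD (idx p) 0 := idx_tabPerm wit_ok _
  rw [h] at h2
  rw [← h2] at h1
  simp at h1

/-- Inside the stabiliser of the dodecad of squares (a Mathieu group of degree 12), the stabiliser of the residue 0 (a point of the dodecad) and the stabiliser of the extra point (a point outside the dodecad) are isomorphic but not conjugate; conjugation by a suitable element of the code's group that maps the dodecad of squares onto its complement carries the first onto the second. -/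
theorem result : Nonempty (↥(Cfsg.Spor.M12 ⊓ MulAction.stabilizer (Equiv.Perm Cfsg.GolayPt) (none : Cfsg.GolayPt)) ≃* ↥Cfsg.Spor.M11) ∧ (¬ ∃ k ∈ Cfsg.Spor.M12, MulAut.conj k • Cfsg.Spor.M11 = Cfsg.Spor.M12 ⊓ MulAction.stabilizer (Equiv.Perm Cfsg.GolayPt) (none : Cfsg.GolayPt)) ∧ ∃ g ∈ Cfsg.M24, g • Cfsg.Spor.squareDodecad = Finset.univ \ Cfsg.Spor.squareDodecad ∧ MulAut.conj g • Cfsg.Spor.M11 = Cfsg.Spor.M12 ⊓ MulAction.stabilizer (Equiv.Perm Cfsg.GolayPt) (none : Cfsg.GolayPt) := by
  refine ⟨?_, ?_, pinv, pinv_mem, pinv_smul, conj_pinv⟩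
  · refine ⟨((Subgroup.equivSMul (MulAut.conj pinv) Spor.M11).trans
      (MulEquiv.subgroupCongr conj_pinv)).symm⟩
  · rintro ⟨k, hk, hconj⟩
    have hw : wit ∈ Spor.M12 ⊓ MulAction.stabilizer (Equiv.Perm GolayPt) (none : GolayPt) := by
      unfold Spor.M12
      simp only [Subgroup.mem_inf, MulAction.mem_stabilizer_iff]
      exact ⟨⟨wit_mem, wit_smul⟩, wit_fix_none⟩
    rw [← hconj, mem_conj_smul] at hw
    have h0 : (k⁻¹ * wit * k) (some 0) = some 0 := by
      have := (Subgroup.mem_inf.mp hw).2
      exact MulAction.mem_stabilizer_iff.mp this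
    have hk0 : k (some 0) ∈ Spor.squareDodecad := by
      have hkD : k • Spor.squareDodecad = Spor.squareDodecad :=
        MulAction.mem_stabilizer_iff.mp (Subgroup.mem_inf.mp hk).2
      have h00 : (some 0 : GolayPt) ∈ Spor.squareDodecad := by
        rw [squareDodecad_eq, mem_support_vec]
        decide
      have : k (some 0) ∈ k • Spor.squareDodecad := Finset.smul_mem_smul_finset h00
      rwa [hkD] at this
    apply wit_moves _ hk0
    simp only [Equiv.Perm.mul_apply] at h0
    rw [Equiv.Perm.inv_eq_iff_eq] at h0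
    exact h0

end Cfsg.Agent.S5620
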