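import Cfsg.Statements.S5622
import Cfsg.Agent.Lib.Helper95.GolayCode

set_option autoImplicit false
open Cfsg

namespace Cfsg.Agent.S5622

open Cfsg.Agent.Lib.Helper95

/-- Let C be a self-dual binary code of length 24 with minimum weight at least 8 (a 12-dimensional subspace of the 24-dimensional space over the field with two elements, any two of whose words have dot product zero, with no non-zero word of weight below 8 — an abstract extended binary Golay code). Then the minimum weight of C is exactly 8, and the supports of the words of weight 8 (the octads) form a Steiner system S(5, 8, 24) on the 24 coordinates: every 5 coordinates lie in the support of exactly one word of weight 8. -/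
theorem result (C : Submodule (ZMod 2) (Fin 24 → ZMod 2)) (hdim : Module.finrank (ZMod 2) C = 12) (horth : ∀ v ∈ C, ∀ w ∈ C, ∑ i, v i * w i = 0) (hmin : ∀ w ∈ C, w ≠ 0 → 8 ≤ hammingNorm w) : (∃ w ∈ C, hammingNorm w = 8) ∧ Cfsg.IsSteinerSystem 5 8 (Cfsg.wordsOfWeight (C : Set (Fin 24 → ZMod 2)) 8) := by
  classical
  have hsupp : ∀ w : Fin 24 → ZMod 2, Cfsg.support₂ w = bsupp w := fun w => rfl
  have h5 : ∃ s : Finset (Fin 24), s.card = 5 :=
    ⟨(Finset.univ : Finset (Fin 5)).map (Fin.castLEEmb (by norm_num : 5 ≤ 24)), by simp⟩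
  refine ⟨?_, ?_, ?_⟩
  · obtain ⟨s, hs⟩ := h5
    obtain ⟨c, hc, hw, -⟩ := golay_octad_exists C hdim hmin s hs
    exact ⟨c, hc, hw⟩
  · intro b hb
    exact hb.2
  · intro s hs
    obtain ⟨c, hc, hw, hsc⟩ := golay_octad_exists C hdim hmin s hs
    refine ⟨bsupp c, ⟨⟨⟨c, hc, hsupp c⟩, ?_⟩, hsc⟩, ?_⟩
    · rw [← hammingNorm_eq_card_bsupp, hw]
    · rintro b ⟨⟨⟨c', hc', rfl⟩, hb8⟩, hsb⟩
      rw [hsupp] at hb8 hsb ⊢
      have hw' : hammingNorm c' = 8 := by rw [hammingNorm_eq_card_bsupp, hb8]
      rw [golay_octad_unique C hmin c' c hc' hc hw' hw s hs hsb hsc]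

end Cfsg.Agent.S5622
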