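import Cfsg.Statements.S5623
import Cfsg.Agent.Lib.Helper95.GolayCode

set_option autoImplicit false
open Cfsg

namespace Cfsg.Agent.S5623

open Cfsg.Agent.Lib.Helper95

/-- Let C be a self-dual binary code of length 24 with minimum weight at least 8 (a 12-dimensional subspace of the 24-dimensional space over the field with two elements, any two of whose words have dot product zero, with no non-zero word of weight below 8 — an abstract extended binary Golay code). Then every coset w + C of C in the ambient space contains either exactly one word of weight at most 4, which then has weight at most 3, or exactly six words of weight at most 4, all of weight exactly 4 and with pairwise disjoint supports (a sextet). -/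
theorem result (C : Submodule (ZMod 2) (Fin 24 → ZMod 2)) (hdim : Module.finrank (ZMod 2) C = 12) (horth : ∀ v ∈ C, ∀ w ∈ C, ∑ i, v i * w i = 0) (hmin : ∀ w ∈ C, w ≠ 0 → 8 ≤ hammingNorm w) (w : Fin 24 → ZMod 2) : (∃ u : Fin 24 → ZMod 2, {u : Fin 24 → ZMod 2 | u - w ∈ C ∧ hammingNorm u ≤ 4} = {u} ∧ hammingNorm u ≤ 3) ∨ ({u : Fin 24 → ZMod 2 | u - w ∈ C ∧ hammingNorm u ≤ 4}.ncard = 6 ∧ ∀ u ∈ {u : Fin 24 → ZMod 2 | u - w ∈ C ∧ hammingNorm u ≤ 4}, hammingNorm u = 4 ∧ ∀ u' ∈ {u : Fin 24 → ZMod 2 | u - w ∈ C ∧ hammingNorm u ≤ 4}, u ≠ u' → Disjoint (Finset.univ.filter fun i => u i ≠ 0) (Finset.univ.filter fun i => u' i ≠ 0)) := by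
  classical
  have hsuppeq : ∀ u : Fin 24 → ZMod 2, (Finset.univ.filter fun i => u i ≠ 0) = bsupp u := fun u => rfl
  rcases golay_coset_dichotomy C hdim hmin w with ⟨u₀, hu₀, hw₀⟩ | ⟨A, hA, hA6, hA4, hAdisj, -⟩
  · left
    refine ⟨u₀, ?_, hw₀⟩
    ext x
    rw [Set.mem_ofPred_eq, Set.mem_singleton_iff]
    exact hu₀ x
  · right
    have hset : {u : Fin 24 → ZMod 2 | u - w ∈ C ∧ hammingNorm u ≤ 4} = ↑A := by
      ext x
      rw [Set.mem_ofPred_eq, Finset.mem_coe]
      exact hA x
    rw [hset, Set.ncard_coe_finset]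
    refine ⟨hA6, ?_⟩
    intro u hu
    refine ⟨hA4 u hu, ?_⟩
    intro u' hu' hne
    rw [hsuppeq, hsuppeq]
    exact hAdisj u hu u' hu' hne

end Cfsg.Agent.S5623
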