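import Cfsg.Statements.S5625
-- import your own Cfsg.Agent.* helpers here

set_option autoImplicit false
open Cfsg

namespace Cfsg.Agent.S5625

/-- In any Steiner system S(5, 8, 24) and for any set Y of three points, the blocks meeting Y in exactly 3, 2, 1 and 0 points number 21, 168, 360 and 210 respectively (so there are 759 blocks in all). -/
theorem result (α : Type*) [Fintype α] [DecidableEq α] (hα : Fintype.card α = 24) (B : Set (Finset α)) (hB : Cfsg.IsSteinerSystem 5 8 B) (Y : Finset α) (hY : Y.card = 3) : {b : Finset α | b ∈ B ∧ (b ∩ Y).card = 3}.ncard = 21 ∧ {b : Finset α | b ∈ B ∧ (b ∩ Y).card = 2}.ncard = 168 ∧ {b : Finset α | b ∈ B ∧ (b ∩ Y).card = 1}.ncard = 360 ∧ {b : Finset α | b ∈ B ∧ (b ∩ Y).card = 0}.ncard = 210 := by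
  classical
  obtain ⟨hB8, hB5⟩ := hB
  set Bf : Finset (Finset α) := Finset.univ.filter (· ∈ B) with hBf
  have memBf : ∀ b, b ∈ Bf ↔ b ∈ B := by simp [hBf]
  set N : Finset α → ℕ := fun S => (Bf.filter (S ⊆ ·)).card with hN
  -- step lemma
  have step : ∀ S : Finset α, (8 - S.card) * N S = ∑ x ∈ Finset.univ \ S, N (insert x S) := by
    intro S
    have h := Finset.sum_card_bipartiteAbove_eq_sum_card_bipartiteBelow
      (s := Finset.univ \ S) (t := Bf.filter (S ⊆ ·)) (fun x b => x ∈ b)
    have h1 : ∀ x ∈ Finset.univ \ S,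
        ((Bf.filter (S ⊆ ·)).bipartiteAbove (fun x b => x ∈ b) x).card = N (insert x S) := by
      intro x _
      simp only [hN, Finset.bipartiteAbove]
      congr 1
      ext b
      simp only [Finset.mem_filter, Finset.insert_subset_iff]
      tauto
    have h2 : ∀ b ∈ Bf.filter (S ⊆ ·),
        ((Finset.univ \ S).bipartiteBelow (fun x b => x ∈ b) b).card = 8 - S.card := by
      intro b hb
      rw [Finset.mem_filter] at hb
      have hb8 := hB8 b ((memBf b).mp hb.1)
      have : (Finset.univ \ S).bipartiteBelow (fun x b => x ∈ b) b = b \ S := by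
        ext x
        simp only [Finset.bipartiteBelow, Finset.mem_filter, Finset.mem_sdiff, Finset.mem_univ,
          true_and]
        tauto
      rw [this, Finset.card_sdiff_of_subset hb.2, hb8]
    rw [Finset.sum_congr rfl h1, Finset.sum_congr rfl h2] at h
    rw [h, Finset.sum_const, smul_eq_mul, mul_comm]
  have cardCompl : ∀ S : Finset α, (Finset.univ \ S).card = 24 - S.card := by
    intro S
    rw [Finset.card_sdiff_of_subset (Finset.subset_univ S), Finset.card_univ, hα]
  have h5 : ∀ S : Finset α, S.card = 5 → N S = 1 := by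
    intro S hS
    obtain ⟨b, ⟨hbB, hSb⟩, huniq⟩ := hB5 S hS
    simp only [hN]
    rw [Finset.card_eq_one]
    refine ⟨b, ?_⟩
    ext c
    simp only [Finset.mem_filter, Finset.mem_singleton, memBf]
    constructor
    · rintro ⟨hc, hSc⟩
      exact huniq c ⟨hc, hSc⟩
    · rintro rfl
      exact ⟨hbB, hSb⟩
  have down : ∀ (i l : ℕ), (∀ S : Finset α, S.card = i + 1 → N S = l) →
      ∀ S : Finset α, S.card = i → (8 - i) * N S = (24 - i) * l := by
    intro i l hl S hS
    have h := step S
    rw [hS] at h
    rw [h]
    have : ∀ x ∈ Finset.univ \ S, N (insert x S) = l := by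
      intro x hx
      apply hl
      rw [Finset.card_insert_of_notMem (by simpa using hx), hS]
    rw [Finset.sum_congr rfl this, Finset.sum_const, smul_eq_mul, cardCompl, hS]
  have h4 : ∀ S : Finset α, S.card = 4 → N S = 5 := by
    intro S hS
    have := down 4 1 h5 S hS
    omega
  have h3 : ∀ S : Finset α, S.card = 3 → N S = 21 := by
    intro S hS
    have := down 3 5 h4 S hS
    omega
  have h2 : ∀ S : Finset α, S.card = 2 → N S = 77 := by
    intro S hS
    have := down 2 21 h3 S hS
    omega
  have h1 : ∀ S : Finset α, S.card = 1 → N S = 253 := by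
    intro S hS
    have := down 1 77 h2 S hS
    omega
  have h0 : ∀ S : Finset α, S.card = 0 → N S = 759 := by
    intro S hS
    have := down 0 253 h1 S hS
    omega
  -- generating function identity
  set n : ℕ → ℕ := fun k => (Bf.filter (fun b => (b ∩ Y).card = k)).card with hn
  have gen : ∀ (j l : ℕ), (∀ S : Finset α, S.card = j → N S = l) →
      ∑ k ∈ Finset.range 4, n k * Nat.choose k j = Nat.choose 3 j * l := by
    intro j l hl
    have h := Finset.sum_card_bipartiteAbove_eq_sum_card_bipartiteBelow
      (s := Bf) (t := Finset.powersetCard j Y) (fun b Z => Z ⊆ b)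
    have hA : ∀ b ∈ Bf, ((Finset.powersetCard j Y).bipartiteAbove (fun b Z => Z ⊆ b) b).card
        = Nat.choose (b ∩ Y).card j := by
      intro b _
      rw [← Finset.card_powersetCard]
      congr 1
      ext Z
      simp only [Finset.bipartiteAbove, Finset.mem_filter, Finset.mem_powersetCard,
        Finset.subset_inter_iff]
      tauto
    have hBl : ∀ Z ∈ Finset.powersetCard j Y, (Bf.bipartiteBelow (fun b Z => Z ⊆ b) Z).card = l := by
      intro Z hZ
      rw [Finset.mem_powersetCard] at hZ
      exact hl Z hZ.2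
    rw [Finset.sum_congr rfl hA, Finset.sum_congr rfl hBl, Finset.sum_const, smul_eq_mul,
      Finset.card_powersetCard, hY] at h
    rw [← h]
    have hmaps : ∀ b ∈ Bf, (b ∩ Y).card ∈ Finset.range 4 := by
      intro b _
      rw [Finset.mem_range]
      have := Finset.card_le_card (Finset.inter_subset_right (s₁ := b) (s₂ := Y))
      omega
    rw [← Finset.sum_fiberwise_of_maps_to hmaps]
    refine Finset.sum_congr rfl fun k _ => ?_
    have : ∀ b ∈ Bf.filter (fun b => (b ∩ Y).card = k), Nat.choose (b ∩ Y).card j = Nat.choose k j := by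
      intro b hb
      rw [(Finset.mem_filter.mp hb).2]
    rw [Finset.sum_congr rfl this, Finset.sum_const, smul_eq_mul]
  have g3 := gen 3 21 h3
  have g2 := gen 2 77 h2
  have g1 := gen 1 253 h1
  have g0 := gen 0 759 h0
  simp [Finset.sum_range_succ, Nat.choose] at g3 g2 g1 g0
  have key : ∀ k, {b : Finset α | b ∈ B ∧ (b ∩ Y).card = k}.ncard = n k := by
    intro k
    have : {b : Finset α | b ∈ B ∧ (b ∩ Y).card = k} = ↑(Bf.filter (fun b => (b ∩ Y).card = k)) := by
      ext b
      simp [memBf]
    rw [this, Set.ncard_coe_finset]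
  rw [key, key, key, key]
  omega

end Cfsg.Agent.S5625
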