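import Cfsg.Statements.S5628
import Cfsg.Agent.Lib.Helper95.Plane4Iso

set_option autoImplicit false
open Cfsg

namespace Cfsg.Agent.S5628

open Cfsg.Agent.Lib.Helper95
open scoped Pointwise

theorem smul_finset_eq_image {α : Type*} [DecidableEq α] (g : Equiv.Perm α) (l : Finset α) :
    g • l = l.image g := by
  ext x
  simp [Finset.mem_smul_finset]

theorem mem_aut_iff {α : Type*} [Fintype α] [DecidableEq α] (L : Set (Finset α))
    (g : Equiv.Perm α) : g ∈ Cfsg.setSystemAut L ↔ ∀ l ∈ L, l.image g ∈ L := by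
  rw [Cfsg.setSystemAut, MulAction.mem_stabilizer_set_iff_smul_set_subset (Set.toFinite L)]
  constructor
  · intro h l hl
    rw [← smul_finset_eq_image]
    exact h (Set.smul_mem_smul_set hl)
  · rintro h _ ⟨l, hl, rfl⟩
    show g • l ∈ L
    rw [smul_finset_eq_image]
    exact h l hl

/-- In a projective plane of order 4 (a Steiner system S(2, 5, 21)), every permutation of the six points of a hyperoval (a 6-set met by no line in more than two points) is the restriction of exactly one automorphism of the plane. In particular the stabiliser of a hyperoval in the automorphism group is isomorphic to the symmetric group of degree 6 acting faithfully on the hyperoval. -/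
theorem result {α : Type*} [Fintype α] [DecidableEq α] (hα : Fintype.card α = 21) (L : Set (Finset α)) (hL : Cfsg.IsSteinerSystem 2 5 L) (H : Finset α) (hH : (H.card = 6 ∧ ∀ l ∈ L, (l ∩ H).card ≤ 2)) (σ : Equiv.Perm ↥H) : ∃! g : Equiv.Perm α, g ∈ Cfsg.setSystemAut L ∧ ∀ p : ↥H, g p = σ p := by
  classical
  have hov : IsOval L H := ⟨hH.2, hH.1⟩
  let s : α → α := fun x => if hx : x ∈ H then (σ ⟨x, hx⟩ : α) else x
  have hs : ∀ x (hx : x ∈ H), s x = (σ ⟨x, hx⟩ : α) := by
    intro x hx
    show (if hx : x ∈ H then (σ ⟨x, hx⟩ : α) else x) = _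
    rw [dif_pos hx]
  have hsH : ∀ h ∈ H, s h ∈ H := by
    intro h hh
    rw [hs h hh]
    exact (σ ⟨h, hh⟩).2
  have hsinj : ∀ h ∈ H, ∀ k ∈ H, s h = s k → h = k := by
    intro h hh k hk e
    rw [hs h hh, hs k hk] at e
    have := σ.injective (Subtype.ext e)
    exact congrArg Subtype.val this
  have hssurj : ∀ k ∈ H, ∃ h ∈ H, s h = k := by
    intro k hk
    obtain ⟨⟨h, hh⟩, e⟩ := σ.surjective ⟨k, hk⟩
    refine ⟨h, hh, ?_⟩
    rw [hs h hh, e]
  obtain ⟨e, heH, hle⟩ := exists_plane_iso hα hL hα hL hov hov s hsH hsinj hssurj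
  refine ⟨e, ⟨(mem_aut_iff L e).mpr hle, ?_⟩, ?_⟩
  · intro p
    rw [heH p.1 p.2, hs p.1 p.2]
  · rintro g ⟨hg, hgH⟩
    have hg' := (mem_aut_iff L g).mp hg
    apply Equiv.ext
    intro x
    apply plane_iso_unique hα hL hα hL hov hov s hsH hsinj g e ?_ heH hg' hle x
    intro h hh
    rw [hs h hh]
    exact hgH ⟨h, hh⟩

end Cfsg.Agent.S5628
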