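import Cfsg.Statements.S5632
import Cfsg.Agent.Lib.Helper95.Transvection

set_option autoImplicit false
open Cfsg

namespace Cfsg.Agent.S5632

open Cfsg.Agent.Lib.Helper95

/-- For a finite field F and subspaces 0 < W < U of F^n with dim W + dim U = n, the elements of SL_n(F) stabilising both W and U form a subgroup that is not maximal in SL_n(F): some subgroup lies strictly between it and SL_n(F). -/
theorem result {F : Type*} [Field F] [Fintype F] (n : ℕ) (W U : Submodule F (Fin n → F)) (hW0 : W ≠ ⊥) (hWU : W < U) (hdim : Module.finrank F W + Module.finrank F U = n) : ∃ K : Subgroup (Matrix.GeneralLinearGroup (Fin n) F), Cfsg.Geo.subspaceStabilizer W ⊓ Cfsg.Geo.subspaceStabilizer U ⊓ Cfsg.Geo.specialLinear (Fin n) F < K ∧ K < Cfsg.Geo.specialLinear (Fin n) F := by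
  have hU1 : U ≠ ⊤ := by
    rintro rfl
    rw [finrank_top, Module.finrank_fin_fun] at hdim
    have : Module.finrank F W = 0 := by omega
    exact hW0 (Submodule.finrank_eq_zero.mp this)
  have hW1 : W ≠ ⊤ := by
    rintro rfl
    exact hU1 (top_le_iff.mp hWU.le)
  obtain ⟨u, huU, huW⟩ := SetLike.exists_of_lt hWU
  obtain ⟨v, hv⟩ : ∃ v, v ∉ U := by
    by_contra hcon
    push Not at hcon
    exact hU1 (eq_top_iff.mpr fun x _ => hcon x)
  have huS : u ∉ W ⊔ Submodule.span F {v} := by
    intro hmem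
    obtain ⟨w, hw, y, hy, hwy⟩ := Submodule.mem_sup.mp hmem
    obtain ⟨c, rfl⟩ := Submodule.mem_span_singleton.mp hy
    by_cases hc : c = 0
    · subst hc
      rw [zero_smul, add_zero] at hwy
      exact huW (hwy ▸ hw)
    · apply hv
      have h1 : c • v = u - w := by rw [← hwy]; abel
      have h2 : c • v ∈ U := by
        rw [h1]
        exact U.sub_mem huU (hWU.le hw)
      have : v = c⁻¹ • (c • v) := by rw [smul_smul, inv_mul_cancel₀ hc, one_smul]
      rw [this]
      exact U.smul_mem _ h2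
  refine ⟨Cfsg.Geo.subspaceStabilizer W ⊓ Cfsg.Geo.specialLinear (Fin n) F, ?_, ?_⟩
  · rw [SetLike.lt_iff_le_and_exists]
    refine ⟨inf_le_inf_right _ inf_le_left, ?_⟩
    obtain ⟨g, hgSL, hgW, hgU⟩ := exists_specialLinear_stabilizing_not_stabilizing W U u v huU hv huS
    exact ⟨g, ⟨hgW, hgSL⟩, fun h => hgU h.1.2⟩
  · rw [SetLike.lt_iff_le_and_exists]
    refine ⟨inf_le_right, ?_⟩
    obtain ⟨g, hgSL, hgW⟩ := exists_specialLinear_not_stabilizing W hW0 hW1
    exact ⟨g, hgSL, fun h => hgW h.1⟩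

end Cfsg.Agent.S5632
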