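import Cfsg.Statements.S5633
import Cfsg.Agent.Lib.Helper95.Transvection

set_option autoImplicit false
open Cfsg

namespace Cfsg.Agent.S5633

open Cfsg.Agent.Lib.Helper95

/-- For a finite field F and complementary non-zero subspaces W ⊕ U = F^n with dim W < dim U, the elements of SL_n(F) stabilising both W and U form a subgroup that is not maximal in SL_n(F): some subgroup lies strictly between it and SL_n(F). -/
theorem result {F : Type*} [Field F] [Fintype F] (n : ℕ) (W U : Submodule F (Fin n → F)) (hW0 : W ≠ ⊥) (hWU : W ⊓ U = ⊥) (hWU' : W ⊔ U = ⊤) (hdim : Module.finrank F W < Module.finrank F U) : ∃ K : Subgroup (Matrix.GeneralLinearGroup (Fin n) F), Cfsg.Geo.subspaceStabilizer W ⊓ Cfsg.Geo.subspaceStabilizer U ⊓ Cfsg.Geo.specialLinear (Fin n) F < K ∧ K < Cfsg.Geo.specialLinear (Fin n) F := by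
  have hU0 : U ≠ ⊥ := by
    rintro rfl
    rw [finrank_bot] at hdim
    omega
  have hW1 : W ≠ ⊤ := by
    rintro rfl
    rw [top_inf_eq] at hWU
    exact hU0 hWU
  obtain ⟨u, huU, hu0⟩ := (Submodule.ne_bot_iff U).mp hU0
  obtain ⟨v, hvW, hv0⟩ := (Submodule.ne_bot_iff W).mp hW0
  have hdisj : ∀ x, x ∈ W → x ∈ U → x = 0 := by
    intro x hxW hxU
    have : x ∈ W ⊓ U := ⟨hxW, hxU⟩
    rw [hWU] at this
    simpa using this
  have hv : v ∉ U := fun h => hv0 (hdisj v hvW h)
  have huS : u ∉ W ⊔ Submodule.span F {v} := by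
    have : W ⊔ Submodule.span F {v} = W := by
      rw [sup_eq_left, Submodule.span_singleton_le_iff_mem]
      exact hvW
    rw [this]
    exact fun h => hu0 (hdisj u h huU)
  refine ⟨Cfsg.Geo.subspaceStabilizer W ⊓ Cfsg.Geo.specialLinear (Fin n) F, ?_, ?_⟩
  · rw [SetLike.lt_iff_le_and_exists]
    refine ⟨inf_le_inf_right _ inf_le_left, ?_⟩
    obtain ⟨g, hgSL, hgW, hgU⟩ := exists_specialLinear_stabilizing_not_stabilizing W U u v huU hv huS
    exact ⟨g, ⟨hgW, hgSL⟩, fun h => hgU h.1.2⟩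
  · rw [SetLike.lt_iff_le_and_exists]
    refine ⟨inf_le_right, ?_⟩
    obtain ⟨g, hgSL, hgW⟩ := exists_specialLinear_not_stabilizing W hW0 hW1
    exact ⟨g, hgSL, fun h => hgW h.1⟩

end Cfsg.Agent.S5633
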