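import Mathlib
import Cfsg.Statements.S5638
-- import your own Cfsg.Agent.* helpers here

set_option autoImplicit false
open Cfsg

namespace Cfsg.Agent.S5638

open Matrix
open scoped Kronecker

/-- the companion matrix of `x ^ 2 + x + 1`. -/
def om (F : Type*) [Field F] : Matrix (Fin 2) (Fin 2) F := !![0, 1; 1, 1]

lemma det_om (F : Type*) [Field F] : (om F).det = -1 := by
  simp [om, Matrix.det_fin_two]

/-- `om` as an element of `GL₂`. -/
noncomputable def omg (F : Type*) [Field F] : GL (Fin 2) F :=
  Matrix.GeneralLinearGroup.mkOfDetNeZero (om F) (by rw [det_om]; simp)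

lemma omg_val (F : Type*) [Field F] :
    ((omg F : GL (Fin 2) F) : Matrix (Fin 2) (Fin 2) F) = om F := rfl

/-- block-diagonal embedding of `GL₂ ^ m` into `GL (Fin 2 × Fin m)`. -/
noncomputable def bdHom {F : Type*} [Field F] (m : ℕ) :
    (Fin m → GL (Fin 2) F) →* GL (Fin 2 × Fin m) F :=
  (Units.map (Matrix.blockDiagonalRingHom (Fin 2) (Fin m) F).toMonoidHom).comp
    (MulEquiv.piUnits (M := fun _ : Fin m => Matrix (Fin 2) (Fin 2) F)).symm.toMonoidHom

lemma bdHom_val {F : Type*} [Field F] (m : ℕ) (M : Fin m → GL (Fin 2) F) :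
    ((bdHom m M : GL (Fin 2 × Fin m) F) : Matrix (Fin 2 × Fin m) (Fin 2 × Fin m) F) =
      Matrix.blockDiagonal (fun k => ((M k : GL (Fin 2) F) : Matrix (Fin 2) (Fin 2) F)) := rfl

section
variable {F : Type*} [Field F] [Fintype F]

lemma eq_zero_or_one (hq : Fintype.card F = 2) (x : F) : x = 0 ∨ x = 1 := by
  classical
  by_contra hx
  push Not at hx
  have h3 : ({0, 1, x} : Finset F).card = 3 := by
    rw [Finset.card_insert_of_notMem, Finset.card_insert_of_notMem, Finset.card_singleton]
    · simp only [Finset.mem_singleton]; exact hx.2.symm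
    · simp only [Finset.mem_insert, Finset.mem_singleton, not_or]
      exact ⟨zero_ne_one, hx.1.symm⟩
  have := Finset.card_le_univ ({0, 1, x} : Finset F)
  omega

lemma two_eq_zero (hq : Fintype.card F = 2) : (1 : F) + 1 = 0 := by
  rcases eq_zero_or_one hq ((1 : F) + 1) with h | h
  · exact h
  · exfalso
    have : (1 : F) = 0 := by
      have h2 : (1 : F) + 1 - 1 = 1 - 1 := by rw [h]
      simpa using h2
    exact one_ne_zero this

/-- a conjugate of `om` is `om` or its inverse. -/
lemma conj_om (hq : Fintype.card F = 2) (a : GL (Fin 2) F) :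
    a * omg F * a⁻¹ = omg F ∨ a * omg F * a⁻¹ = (omg F)⁻¹ := by
  have h2 := two_eq_zero hq
  have hneg : (-1 : F) = 1 := by
    rw [neg_eq_iff_add_eq_zero]; exact h2
  set M : Matrix (Fin 2) (Fin 2) F := ((a * omg F * a⁻¹ : GL (Fin 2) F) : Matrix (Fin 2) (Fin 2) F)
    with hM
  have hMval : M = (a : Matrix (Fin 2) (Fin 2) F) * om F * ((a⁻¹ : GL (Fin 2) F) : Matrix (Fin 2) (Fin 2) F) := rfl
  have htr : M.trace = 1 := by
    rw [hMval, Matrix.trace_units_conj]
    simp [om, Matrix.trace_fin_two]
  have hdet : M.det = 1 := by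
    rw [hMval, Matrix.det_units_conj, det_om, hneg]
  rw [Matrix.trace_fin_two] at htr
  rw [Matrix.det_fin_two] at hdet
  -- the inverse of om
  have hinv : (((omg F)⁻¹ : GL (Fin 2) F) : Matrix (Fin 2) (Fin 2) F) = !![1, 1; 1, 0] := by
    have h1 : (omg F) * (Matrix.GeneralLinearGroup.mkOfDetNeZero (!![1, 1; 1, 0] : Matrix (Fin 2) (Fin 2) F)
        (by simp [Matrix.det_fin_two])) = 1 := by
      apply Units.ext
      show om F * !![1, 1; 1, 0] = 1
      ext i j
      fin_cases i <;> fin_cases j <;> simp [om, Matrix.mul_apply, Fin.sum_univ_two, h2]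
    rw [← eq_inv_of_mul_eq_one_right h1]
    rfl
  have hent : ∀ i j, M i j = 0 ∨ M i j = 1 := fun i j => eq_zero_or_one hq _
  have key : M = om F ∨ M = !![1, 1; 1, 0] := by
    rcases hent 0 0 with h00 | h00 <;> rcases hent 0 1 with h01 | h01 <;>
    rcases hent 1 0 with h10 | h10 <;> rcases hent 1 1 with h11 | h11 <;>
    simp only [h00, h01, h10, h11, mul_zero, mul_one, zero_mul, sub_zero, sub_self, zero_sub,
      add_zero, zero_add, zero_ne_one, one_ne_zero, hneg, h2] at htr hdet
    · left
      ext i j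
      fin_cases i <;> fin_cases j <;> simp [om, h00, h01, h10, h11]
    · right
      ext i j
      fin_cases i <;> fin_cases j <;> simp [h00, h01, h10, h11]
  rcases key with h | h
  · left
    apply Units.ext
    exact h
  · right
    apply Units.ext
    rw [hinv]
    exact h

end

/-- Over the field with 2 elements, for n = 2 n₂ ≥ 13, the stabiliser in SL_n of a tensor decomposition with factors of dimensions 2 and n₂ (the conjugate by any P of the Kronecker-product subgroup transported along any bijection Fin n ≃ Fin 2 × Fin n₂, intersected with SL_n) is not a maximal subgroup: some subgroup lies strictly between it and SL_n. -/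
theorem result {F : Type*} [Field F] [Fintype F] (n : ℕ) (hn : 13 ≤ n) (hq : Fintype.card F = 2) (n₂ : ℕ) (e : Fin n ≃ Fin 2 × Fin n₂) (P : Matrix.GeneralLinearGroup (Fin n) F) : ∃ K : Subgroup (Matrix.GeneralLinearGroup (Fin n) F), Cfsg.Geo.tensorProductSubgroup 2 n₂ e P ⊓ Cfsg.Geo.specialLinear (Fin n) F < K ∧ K < Cfsg.Geo.specialLinear (Fin n) F := by
  classical
  -- n₂ ≥ 7
  have hcard : n = 2 * n₂ := by
    have := Fintype.card_congr e
    simpa using this
  have hn₂ : 2 ≤ n₂ := by omega
  -- the special linear group is everything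
  have hunits : ∀ u : Fˣ, u = 1 := by
    have h1 : Fintype.card Fˣ = 1 := by rw [Fintype.card_units, hq]
    intro u
    exact (Fintype.card_le_one_iff.1 h1.le) u 1
  have hSL : Cfsg.Geo.specialLinear (Fin n) F = ⊤ := by
    rw [eq_top_iff]
    intro g _
    exact hunits _
  rw [hSL, inf_top_eq]
  -- the transport isomorphism
  set φ : GL (Fin 2 × Fin n₂) F →* GL (Fin n) F :=
    (MulAut.conj P).toMonoidHom.comp (Cfsg.Geo.glReindex e.symm).toMonoidHom with hφ
  have hφinj : Function.Injective φ := by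
    intro x y hxy
    have := (MulAut.conj P).injective hxy
    exact (Cfsg.Geo.glReindex e.symm).injective this
  have hφsurj : Function.Surjective φ := by
    intro y
    obtain ⟨z, hz⟩ := (MulAut.conj P).surjective y
    obtain ⟨x, hx⟩ := (Cfsg.Geo.glReindex e.symm).surjective z
    exact ⟨x, by rw [hφ]; simp only [MonoidHom.coe_comp, Function.comp_apply]; rw [← hz, ← hx]; rfl⟩
  have hH : Cfsg.Geo.tensorProductSubgroup 2 n₂ e P = (Cfsg.Geo.kroneckerSubgroup 2 n₂ F).map φ := by
    unfold Cfsg.Geo.tensorProductSubgroup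
    rw [Subgroup.map_map]
  rw [hH]
  -- the overgroup upstairs
  set i0 : Fin n₂ := ⟨0, by omega⟩ with hi0
  set i1 : Fin n₂ := ⟨1, by omega⟩ with hi1
  have hi01 : i0 ≠ i1 := by
    intro h; rw [Fin.ext_iff] at h; simp [hi0, hi1] at h
  set Wg : GL (Fin 2 × Fin n₂) F := bdHom n₂ (fun _ => omg F) with hWg
  set K₀ : Subgroup (GL (Fin 2 × Fin n₂) F) := Subgroup.normalizer (Subgroup.zpowers Wg : Set _) with hK₀
  -- membership criterion
  have hcrit : ∀ g : GL (Fin 2 × Fin n₂) F, (g * Wg * g⁻¹ = Wg ∨ g * Wg * g⁻¹ = Wg⁻¹) →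
      (g⁻¹ * Wg * g = Wg ∨ g⁻¹ * Wg * g = Wg⁻¹) → g ∈ K₀ := by
    intro g h1 h2
    rw [hK₀, Subgroup.mem_normalizer_iff]
    have hfwd : ∀ (x : GL (Fin 2 × Fin n₂) F), (x * Wg * x⁻¹ = Wg ∨ x * Wg * x⁻¹ = Wg⁻¹) →
        ∀ h ∈ Subgroup.zpowers Wg, x * h * x⁻¹ ∈ Subgroup.zpowers Wg := by
      intro x hx h hh
      obtain ⟨k, rfl⟩ := Subgroup.mem_zpowers_iff.1 hh
      have : x * Wg ^ k * x⁻¹ = (x * Wg * x⁻¹) ^ k := by
        rw [conj_zpow]
      rw [this]
      rcases hx with hx | hx
      · rw [hx]; exact Subgroup.zpow_mem _ (Subgroup.mem_zpowers Wg) k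
      · rw [hx]; exact Subgroup.zpow_mem _ (Subgroup.inv_mem _ (Subgroup.mem_zpowers Wg)) k
    intro h
    constructor
    · exact hfwd g h1 h
    · intro hh
      have := hfwd g⁻¹ (by simpa using h2) _ hh
      simpa [mul_assoc] using this
  refine ⟨K₀.map φ, ?_, ?_⟩
  · rw [Subgroup.map_lt_map_iff_of_injective hφinj]
    refine lt_of_le_of_ne ?_ ?_
    · -- Kronecker products normalise
      have hconj : ∀ g ∈ Cfsg.Geo.kroneckerSubgroup 2 n₂ F,
          (g * Wg * g⁻¹ = Wg ∨ g * Wg * g⁻¹ = Wg⁻¹) := by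
        rintro g ⟨a, b, hg⟩
        have hkey : g * Wg = bdHom n₂ (fun _ => a * omg F * a⁻¹) * g := by
          apply Units.ext
          rw [Units.val_mul, Units.val_mul, hg, hWg, bdHom_val, bdHom_val]
          have e1 : (Matrix.blockDiagonal fun _ : Fin n₂ => ((omg F : GL (Fin 2) F) : Matrix (Fin 2) (Fin 2) F))
              = (om F) ⊗ₖ (1 : Matrix (Fin n₂) (Fin n₂) F) := by
            rw [Matrix.kronecker_one]; rfl
          have e2 : (Matrix.blockDiagonal fun _ : Fin n₂ =>
              ((a * omg F * a⁻¹ : GL (Fin 2) F) : Matrix (Fin 2) (Fin 2) F))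
              = (((a * omg F * a⁻¹ : GL (Fin 2) F) : Matrix (Fin 2) (Fin 2) F)) ⊗ₖ
                (1 : Matrix (Fin n₂) (Fin n₂) F) := by
            rw [Matrix.kronecker_one]
          rw [e1, e2, ← Matrix.mul_kronecker_mul, ← Matrix.mul_kronecker_mul, mul_one, one_mul]
          congr 1
          rw [Units.val_mul, Units.val_mul, mul_assoc, mul_assoc, ← Units.val_mul, inv_mul_cancel,
            Units.val_one, mul_one]
          rfl
        have hconj' : g * Wg * g⁻¹ = bdHom n₂ (fun _ => a * omg F * a⁻¹) := by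
          rw [hkey, mul_assoc, mul_inv_cancel, mul_one]
        rw [hconj']
        rcases conj_om hq a with h | h
        · left
          rw [h]
        · right
          rw [h, hWg, ← map_inv]
          rfl
      intro g hg
      apply hcrit g (hconj g hg)
      have := hconj g⁻¹ (Subgroup.inv_mem _ hg)
      simpa using this
    · -- a block diagonal element that is not a Kronecker product
      intro heq
      set g₀ : GL (Fin 2 × Fin n₂) F := bdHom n₂ (fun k => if k = i0 then omg F else 1) with hg₀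
      have hcomm : g₀ * Wg = Wg * g₀ := by
        rw [hg₀, hWg, ← map_mul, ← map_mul]
        congr 1
        funext k
        simp only [Pi.mul_apply]
        split_ifs <;> simp
      have hg₀K : g₀ ∈ K₀ := by
        apply hcrit
        · left; rw [hcomm, mul_assoc, mul_inv_cancel, mul_one]
        · left; rw [mul_assoc, ← hcomm, ← mul_assoc, inv_mul_cancel, one_mul]
      rw [← heq] at hg₀K
      obtain ⟨a, b, hab⟩ := hg₀K
      have hent : ∀ (i j : Fin 2) (k l : Fin n₂),
          (if k = l then (((if k = i0 then omg F else 1 : GL (Fin 2) F)) : Matrix (Fin 2) (Fin 2) F) i j else 0)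
            = (a : Matrix (Fin 2) (Fin 2) F) i j * (b : Matrix (Fin n₂) (Fin n₂) F) k l := by
        intro i j k l
        have := congrFun (congrFun hab (i, k)) (j, l)
        rw [hg₀, bdHom_val, Matrix.blockDiagonal_apply, Matrix.kroneckerMap_apply] at this
        exact this
      have h1 := hent 0 0 i1 i1
      have h2 := hent 0 1 i1 i1
      have h3 := hent 0 1 i0 i0
      rw [if_pos rfl, if_neg (Ne.symm hi01)] at h1 h2
      rw [if_pos rfl, if_pos rfl] at h3
      simp only [Units.val_one, Matrix.one_apply_eq] at h1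
      have h2' : (0 : F) = (a : Matrix (Fin 2) (Fin 2) F) 0 1 * (b : Matrix (Fin n₂) (Fin n₂) F) i1 i1 := by
        simpa using h2
      have h3' : (1 : F) = (a : Matrix (Fin 2) (Fin 2) F) 0 1 * (b : Matrix (Fin n₂) (Fin n₂) F) i0 i0 := by
        simpa [omg_val, om] using h3
      have hb : (b : Matrix (Fin n₂) (Fin n₂) F) i1 i1 ≠ 0 := by
        intro hb0; rw [hb0, mul_zero] at h1; exact one_ne_zero h1
      have ha : (a : Matrix (Fin 2) (Fin 2) F) 0 1 = 0 := by
        rcases mul_eq_zero.1 h2'.symm with h | h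
        · exact h
        · exact absurd h hb
      rw [ha, zero_mul] at h3'
      exact one_ne_zero h3'
  · have htop : (⊤ : Subgroup (GL (Fin n) F)) = (⊤ : Subgroup (GL (Fin 2 × Fin n₂) F)).map φ := by
      rw [Subgroup.map_top_of_surjective φ hφsurj]
    rw [htop, Subgroup.map_lt_map_iff_of_injective hφinj]
    rw [lt_top_iff_ne_top]
    intro htop'
    -- a transvection that does not normalise
    set p : Fin 2 × Fin n₂ := (0, i0) with hp
    set r : Fin 2 × Fin n₂ := (0, i1) with hr
    have hpr : p ≠ r := by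
      intro h; rw [hp, hr, Prod.mk.injEq] at h; exact hi01 h.2
    set g₁ : GL (Fin 2 × Fin n₂) F :=
      Matrix.GeneralLinearGroup.mkOfDetNeZero (Matrix.transvection p r (1 : F))
        (by rw [Matrix.det_transvection_of_ne p r hpr]; exact one_ne_zero) with hg₁
    have hg₁K : g₁ ∈ K₀ := by rw [htop']; exact Subgroup.mem_top _
    rw [hK₀, Subgroup.mem_normalizer_iff] at hg₁K
    have hmem := (hg₁K Wg).1 (Subgroup.mem_zpowers Wg)
    -- the conjugate is block diagonal
    have hz : ∃ N : Fin n₂ → GL (Fin 2) F, g₁ * Wg * g₁⁻¹ = bdHom n₂ N := by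
      rw [hWg, ← MonoidHom.map_zpowers] at hmem
      obtain ⟨y, _, hy⟩ := hmem
      exact ⟨y, hy.symm⟩
    obtain ⟨N, hN⟩ := hz
    have heq : g₁ * Wg = bdHom n₂ N * g₁ := by
      rw [← hN, mul_assoc, mul_assoc, inv_mul_cancel, mul_one]
    have heq' := congrArg (fun x : GL (Fin 2 × Fin n₂) F =>
      (x : Matrix (Fin 2 × Fin n₂) (Fin 2 × Fin n₂) F) p ((1 : Fin 2), i1)) heq
    simp only [Units.val_mul] at heq'
    rw [hWg, bdHom_val, bdHom_val] at heq'
    have hg₁val : (g₁ : Matrix (Fin 2 × Fin n₂) (Fin 2 × Fin n₂) F) = Matrix.transvection p r (1 : F) := rfl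
    rw [hg₁val, Matrix.transvection, Matrix.add_mul, Matrix.mul_add, Matrix.one_mul, Matrix.mul_one] at heq'
    simp only [Matrix.add_apply, Matrix.blockDiagonal_apply] at heq'
    rw [Matrix.single_mul_apply_same, Matrix.mul_single_apply_of_ne] at heq'
    · simp only [hp, hr, omg_val, om] at heq'
      rw [Matrix.blockDiagonal_apply] at heq'
      simp at heq'
      rw [if_neg hi01, if_neg hi01] at heq'
      simp at heq'
    · intro h
      rw [hr, Prod.mk.injEq] at h
      exact absurd h.1 (by decide)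

end Cfsg.Agent.S5638
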