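import Cfsg.Statements.S5645
import Cfsg.Agent.Lib.Helper11.SpMax

set_option autoImplicit false
open Cfsg

namespace Cfsg.Agent.S5645

open Cfsg.Agent.Lib.Helper18 Cfsg.Agent.Lib.Helper11.SpPerfect Cfsg.Agent.Lib.Helper11.SpMax Matrix

section
variable {F : Type*} [Field F] (m : ℕ)

local notation "V" => (Fin m ⊕ Fin m → F)
local notation "ff" => Cfsg.sympForm m F
local notation "GLm" => Matrix.GeneralLinearGroup (Fin m ⊕ Fin m) F

/-- membership in the perp of `W` -/
def Perp (W : Submodule F V) (v : V) : Prop := ∀ w ∈ W, ff w v = 0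

theorem Perp.add {W : Submodule F V} {u v : V} (hu : Perp m W u) (hv : Perp m W v) :
    Perp m W (u + v) := by
  intro w hw
  rw [sf_add_right, hu w hw, hv w hw, add_zero]

theorem Perp.smul {W : Submodule F V} {u : V} (a : F) (hu : Perp m W u) : Perp m W (a • u) := by
  intro w hw
  rw [sf_smul_right, hu w hw, mul_zero]

theorem Perp.symm' {W : Submodule F V} {u : V} (hu : Perp m W u) (w : V) (hw : w ∈ W) :
    ff u w = 0 := by
  rw [sf_swap, hu w hw, neg_zero]

theorem not_perp {W : Submodule F V} {x : V} (h : ¬ Perp m W x) : ∃ w ∈ W, ff x w ≠ 0 := by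
  unfold Perp at h
  push Not at h
  obtain ⟨w, hw, hwx⟩ := h
  refine ⟨w, hw, ?_⟩
  rw [sf_swap]
  exact neg_ne_zero.mpr hwx

theorem not_perp_of {W : Submodule F V} {x u : V} (hu : u ∈ W) (h : ff x u ≠ 0) :
    ¬ Perp m W x := by
  intro hx
  exact h (hx.symm' m u hu)

theorem tg_mem_stab_of_perp (W : Submodule F V) (v : V) (hv : Perp m W v) (c : F) :
    tg m v c ∈ Cfsg.Geo.subspaceStabilizer W := by
  apply mem_stab_of
  · intro x hx
    rw [tg_act, hv x hx, mul_zero, zero_smul, add_zero]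
    exact hx
  · intro x hx
    rw [tg_inv, tg_act, hv x hx, mul_zero, zero_smul, add_zero]
    exact hx

/-- the Siegel-type element -/
def sig (u v : V) (c : F) : GLm := tg m (u + v) c * tg m u (-c) * tg m v (-c)

theorem sig_mem (u v : V) (c : F) : sig m u v c ∈ Cfsg.spGL m F :=
  Subgroup.mul_mem _ (Subgroup.mul_mem _ (tg_mem m _ _) (tg_mem m _ _)) (tg_mem m _ _)

theorem sig_act (u v : V) (huv : ff u v = 0) (c : F) (x : V) :
    (sig m u v c).1 *ᵥ x = x + (c * ff x u) • v + (c * ff x v) • u := by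
  have hvu : ff v u = 0 := by rw [sf_swap, huv, neg_zero]
  unfold sig
  rw [gl_mul_act, gl_mul_act, tg_act, tg_act, tg_act]
  simp only [sf_add_left, sf_add_right, sf_smul_left, sf_self, huv, hvu, mul_zero, add_zero,
    zero_add]
  ext k
  simp only [Pi.add_apply, Pi.smul_apply, smul_eq_mul]
  ring

theorem sig_inv (u v : V) (huv : ff u v = 0) (c : F) : (sig m u v c)⁻¹ = sig m u v (-c) := by
  have hvu : ff v u = 0 := by rw [sf_swap, huv, neg_zero]
  apply inv_eq_of_mul_eq_one_right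
  apply gl_ext
  intro x
  rw [gl_mul_act, sig_act m u v huv, sig_act m u v huv, Units.val_one, Matrix.one_mulVec]
  simp only [sf_add_left, sf_smul_left, sf_self, huv, hvu, mul_zero, add_zero]
  ext k
  simp only [Pi.add_apply, Pi.smul_apply, smul_eq_mul]
  ring

theorem sig_mem_stab (W : Submodule F V) (hW : Cfsg.Geo.IsTotallySingularFor (Cfsg.sympForm m F) W)
    (u v : V) (hu : u ∈ W) (huv : ff u v = 0) (c : F) :
    sig m u v c ∈ Cfsg.Geo.subspaceStabilizer W := by
  apply mem_stab_of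
  · intro x hx
    rw [sig_act m u v huv, hW x hx u hu, mul_zero, zero_smul, add_zero]
    exact W.add_mem hx (W.smul_mem _ hu)
  · intro x hx
    rw [sig_inv m u v huv, sig_act m u v huv, hW x hx u hu, mul_zero, zero_smul, add_zero]
    exact W.add_mem hx (W.smul_mem _ hu)

theorem perp_sub_XS (W : Submodule F V) (M : Subgroup GLm) (hPM : Cfsg.Geo.subspaceStabilizer W ⊓ Cfsg.spGL m F ≤ M) (v : V) (hv : Perp m W v) : v ∈ XS m M :=
  fun c => hPM ⟨tg_mem_stab_of_perp m W v hv c, tg_mem m v c⟩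

theorem W_sub_perp (W : Submodule F V) (hW : Cfsg.Geo.IsTotallySingularFor (Cfsg.sympForm m F) W) (w : V) (hw : w ∈ W) : Perp m W w := fun w' hw' => hW w' hw' w hw

theorem step_a (W : Submodule F V) (hW : Cfsg.Geo.IsTotallySingularFor (Cfsg.sympForm m F) W) (M : Subgroup GLm) (hMI : M ≤ Cfsg.spGL m F)
    (hPM : Cfsg.Geo.subspaceStabilizer W ⊓ Cfsg.spGL m F ≤ M) (x y : V) (hx : x ∈ XS m M) (hxU : ¬ Perp m W x) (hy : Perp m W y) :
    x + y ∈ XS m M := by
  obtain ⟨w, hw, hxw⟩ := not_perp m hxU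
  have hyX := perp_sub_XS m W M hPM y hy
  by_cases hxy : ff x y = 0
  · have hy' : Perp m W (y + w) := hy.add m (W_sub_perp m W hW w hw)
    have hxy' : ff x (y + w) ≠ 0 := by rw [sf_add_right, hxy, zero_add]; exact hxw
    have h1 := XS_hyp m M hMI (y + w) x (perp_sub_XS m W M hPM _ hy') hx hxy' 1
    have hx1w : ff (x + (1 : F) • (y + w)) w ≠ 0 := by
      rw [sf_add_left, sf_smul_left, sf_add_left, hy.symm' m w hw, sf_self, add_zero, mul_zero,
        add_zero]
      exact hxw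
    have h2 := XS_hyp m M hMI w _ (perp_sub_XS m W M hPM w (W_sub_perp m W hW w hw)) h1 hx1w (-1)
    have e : x + (1 : F) • (y + w) + (-1 : F) • w = x + y := by
      rw [one_smul, neg_one_smul]; abel
    rwa [e] at h2
  · have h1 := XS_hyp m M hMI y x hyX hx hxy 1
    rwa [one_smul] at h1

theorem step_b (W : Submodule F V) (hW : Cfsg.Geo.IsTotallySingularFor (Cfsg.sympForm m F) W) (M : Subgroup GLm) (hMI : M ≤ Cfsg.spGL m F)
    (hPM : Cfsg.Geo.subspaceStabilizer W ⊓ Cfsg.spGL m F ≤ M) (x u z : V) (hx : x ∈ XS m M) (hu : u ∈ W) (hxu : ff x u ≠ 0) (hzu : ff z u ≠ 0) :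
    z ∈ XS m M := by
  have hxU : ¬ Perp m W x := not_perp_of m hu hxu
  set l : F := ff z u / ff x u with hl
  have hl0 : l ≠ 0 := div_ne_zero hzu hxu
  set v' : V := l⁻¹ • z - x with hv'
  have hv'u : ff v' u = 0 := by
    rw [hv', sf_sub_left, sf_smul_left, hl, inv_div, div_mul_cancel₀ _ hzu, sub_self]
  have huv' : ff u v' = 0 := by rw [sf_swap, hv'u, neg_zero]
  set c : F := (ff x u)⁻¹ with hc
  have hsM : sig m u v' c ∈ M := hPM ⟨sig_mem_stab m W hW u v' hu huv' c, sig_mem m u v' c⟩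
  have h2 := XS_act m M hMI _ hsM x hx
  rw [sig_act m u v' huv', hc, inv_mul_cancel₀ hxu, one_smul] at h2
  have e1 : x + v' = l⁻¹ • z := by rw [hv']; abel
  rw [e1] at h2
  -- `l⁻¹ • z ∈ XS`
  have key : l⁻¹ • z ∈ XS m M := by
    set mu : F := (ff x u)⁻¹ * ff x v' with hmu
    by_cases hP : Perp m W (l⁻¹ • z + mu • u)
    · have : Perp m W (l⁻¹ • z + mu • u + (-mu) • u) :=
        hP.add m ((W_sub_perp m W hW u hu).smul m _)
      have e : l⁻¹ • z + mu • u + (-mu) • u = l⁻¹ • z := by rw [neg_smul]; abel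
      rw [e] at this
      exact perp_sub_XS m W M hPM _ this
    · have := step_a m W hW M hMI hPM _ ((-mu) • u) h2 hP ((W_sub_perp m W hW u hu).smul m _)
      have e : l⁻¹ • z + mu • u + (-mu) • u = l⁻¹ • z := by rw [neg_smul]; abel
      rwa [e] at this
  have := XS_smul m M l _ key
  rwa [smul_smul, mul_inv_cancel₀ hl0, one_smul] at this

theorem step_c (W : Submodule F V) (hW : Cfsg.Geo.IsTotallySingularFor (Cfsg.sympForm m F) W) (M : Subgroup GLm) (hMI : M ≤ Cfsg.spGL m F)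
    (hPM : Cfsg.Geo.subspaceStabilizer W ⊓ Cfsg.spGL m F ≤ M) (x0 : V) (hx0 : x0 ∈ XS m M) (hx0U : ¬ Perp m W x0) (z : V) : z ∈ XS m M := by
  by_cases hz : Perp m W z
  · exact perp_sub_XS m W M hPM z hz
  obtain ⟨u, hu, hxu⟩ := not_perp m hx0U
  obtain ⟨u', hu', hzu'⟩ := not_perp m hz
  by_cases h1 : ff x0 u' = 0
  · by_cases h2 : ff z u = 0
    · have hx0' : x0 + z ∈ XS m M := by
        apply step_b m W hW M hMI hPM x0 u (x0 + z) hx0 hu hxu
        rw [sf_add_left, h2, add_zero]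
        exact hxu
      apply step_b m W hW M hMI hPM (x0 + z) u' z hx0' hu' _ hzu'
      rw [sf_add_left, h1, zero_add]
      exact hzu'
    · exact step_b m W hW M hMI hPM x0 u z hx0 hu hxu h2
  · exact step_b m W hW M hMI hPM x0 u' z hx0 hu' h1 hzu'

theorem exists_x0 (W : Submodule F V) (M : Subgroup GLm) (hMI : M ≤ Cfsg.spGL m F)
    (hPM : Cfsg.Geo.subspaceStabilizer W ⊓ Cfsg.spGL m F ≤ M) (g : GLm) (hgM : g ∈ M) (hg : g ∉ Cfsg.Geo.subspaceStabilizer W) :
    ∃ x0 : V, x0 ∈ XS m M ∧ ¬ Perp m W x0 := by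
  have key : ∃ h : GLm, h ∈ M ∧ ∃ w ∈ W, h.1 *ᵥ w ∉ W := by
    by_contra hcon
    push Not at hcon
    exact hg (mem_stab_of m W g (fun v hv => hcon g hgM v hv)
      (fun v hv => hcon g⁻¹ (M.inv_mem hgM) v hv))
  obtain ⟨h, hhM, w, hw, hhw⟩ := key
  obtain ⟨u, hu, hhwu⟩ := exists_perp_sep m W _ hhw
  refine ⟨h⁻¹.1 *ᵥ u, XS_act m M hMI _ (M.inv_mem hhM) u (perp_sub_XS m W M hPM u hu), ?_⟩
  intro hP
  have := hP w hw
  rw [sf_inv_right m h (hMI hhM)] at this
  exact hhwu this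

theorem not_stab (W : Submodule F V) (hW0 : W ≠ ⊥)
    (hW : Cfsg.Geo.IsTotallySingularFor (Cfsg.sympForm m F) W) :
    ∃ g : GLm, g ∈ Cfsg.spGL m F ∧ g ∉ Cfsg.Geo.subspaceStabilizer W := by
  obtain ⟨w, hw, hw0⟩ := Submodule.exists_mem_ne_zero_of_ne_bot hW0
  obtain ⟨y, hy⟩ := sf_nondeg_top m w hw0
  have hyW : y ∉ W := fun h => hy (hW w hw y h)
  have hy0 : y ≠ 0 := by
    rintro rfl
    exact hy (sf_zero_right m w)
  obtain ⟨g, hg, hgw⟩ := exists_spGL_move m w y hw0 hy0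
  refine ⟨g, hg, fun hgs => ?_⟩
  have := ((mem_stab_iff m W g).mp hgs w).mp hw
  rw [hgw] at this
  exact hyW this

end

/-- For a finite field F and m ≥ 7, in the symplectic group Sp_2m(F) of the standard alternating form on F^(2m) (as a subgroup of GL_2m(F)), the stabiliser of any non-zero subspace on which the form vanishes identically is a maximal subgroup. -/
theorem result {F : Type*} [Field F] [Fintype F] (m : ℕ) (hm : 7 ≤ m) (W : Submodule F (Fin m ⊕ Fin m → F)) (hW0 : W ≠ ⊥) (hW : Cfsg.Geo.IsTotallySingularFor (Cfsg.sympForm m F) W) : Cfsg.Geo.IsMaximalIn (Cfsg.spGL m F) (Cfsg.Geo.subspaceStabilizer W ⊓ Cfsg.spGL m F) := by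
  refine ⟨lt_of_le_of_ne inf_le_right ?_, ?_⟩
  · intro heq
    obtain ⟨g, hg, hgs⟩ := not_stab m W hW0 hW
    rw [← heq] at hg
    exact hgs hg.1
  · intro M hPM hMI
    by_cases hMP : M = Cfsg.Geo.subspaceStabilizer W ⊓ Cfsg.spGL m F
    · exact Or.inl hMP
    right
    have : ∃ g ∈ M, g ∉ Cfsg.Geo.subspaceStabilizer W ⊓ Cfsg.spGL m F := by
      by_contra hcon
      push Not at hcon
      exact hMP (le_antisymm hcon hPM)
    obtain ⟨g, hgM, hgP⟩ := this
    have hgs : g ∉ Cfsg.Geo.subspaceStabilizer W := fun h => hgP ⟨h, hMI hgM⟩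
    obtain ⟨x0, hx0, hx0U⟩ := exists_x0 m W M hMI hPM g hgM hgs
    exact le_antisymm hMI (le_of_XS_univ m M (step_c m W hW M hMI hPM x0 hx0 hx0U))

end Cfsg.Agent.S5645
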