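import Cfsg.Statements.S5646
import Cfsg.Agent.S5645

set_option autoImplicit false
open Cfsg

namespace Cfsg.Agent.S5646

open Cfsg.Agent.Lib.Helper18 Cfsg.Agent.Lib.Helper11.SpPerfect Cfsg.Agent.Lib.Helper11.SpMax Matrix
open Cfsg.Agent.S5645

section
variable {F : Type*} [Field F] (m : ℕ)

local notation "V" => (Fin m ⊕ Fin m → F)
local notation "ff" => Cfsg.sympForm m F
local notation "G" => Matrix.symplecticGroup (Fin m) F
local notation "GLm" => Matrix.GeneralLinearGroup (Fin m ⊕ Fin m) F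

/-- the form as a Mathlib bilinear form -/
noncomputable def BF : LinearMap.BilinForm F V := Matrix.toBilin' (Matrix.J (Fin m) F)

theorem BF_apply (x y : V) : BF m x y = ff x y := Matrix.toBilin'_apply' _ _ _

/-- the perp as a submodule -/
noncomputable def perpS (W : Submodule F V) : Submodule F V := (BF m).orthogonal W

theorem mem_perpS (W : Submodule F V) (v : V) : v ∈ perpS m W ↔ Perp m W v := by
  unfold perpS Perp
  rw [LinearMap.BilinForm.mem_orthogonal_iff]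
  simp only [BF_apply]

theorem isCompl_perpS (W : Submodule F V)
    (hW : Cfsg.Geo.IsNondegenerateOn (Cfsg.sympForm m F) W) : IsCompl W (perpS m W) := by
  apply LinearMap.BilinForm.isCompl_orthogonal_of_restrict_nondegenerate
  · intro x y h
    rw [BF_apply] at h ⊢
    rw [sf_swap, h, neg_zero]
  · constructor
    · rintro ⟨x, hx⟩ h
      by_contra hx0
      have hx0' : x ≠ 0 := fun h0 => hx0 (Subtype.ext h0)
      obtain ⟨y, hy, hxy⟩ := (hW x hx hx0').2
      have := h ⟨y, hy⟩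
      simp only [LinearMap.BilinForm.restrict_apply, LinearMap.domRestrict_apply, BF_apply] at this
      exact hxy this
    · rintro ⟨x, hx⟩ h
      by_contra hx0
      have hx0' : x ≠ 0 := fun h0 => hx0 (Subtype.ext h0)
      obtain ⟨y, hy, hxy⟩ := (hW x hx hx0').1
      have := h ⟨y, hy⟩
      simp only [LinearMap.BilinForm.restrict_apply, LinearMap.domRestrict_apply, BF_apply] at this
      exact hxy this

theorem decomp (W : Submodule F V) (hW : Cfsg.Geo.IsNondegenerateOn (Cfsg.sympForm m F) W) (v : V) :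
    ∃ a ∈ W, ∃ b ∈ perpS m W, a + b = v := by
  have h : v ∈ W ⊔ perpS m W := by rw [(isCompl_perpS m W hW).sup_eq_top]; trivial
  exact Submodule.mem_sup.mp h

theorem inter_zero (W : Submodule F V) (hW : Cfsg.Geo.IsNondegenerateOn (Cfsg.sympForm m F) W)
    (v : V) (h1 : v ∈ W) (h2 : v ∈ perpS m W) : v = 0 := by
  have : v ∈ W ⊓ perpS m W := ⟨h1, h2⟩
  rw [(isCompl_perpS m W hW).inf_eq_bot] at this
  exact this

theorem perpS_nondeg (W : Submodule F V) (hW : Cfsg.Geo.IsNondegenerateOn (Cfsg.sympForm m F) W) :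
    ∀ x ∈ perpS m W, x ≠ 0 → ∃ y ∈ perpS m W, ff x y ≠ 0 := by
  intro x hx hx0
  obtain ⟨z, hz⟩ := sf_nondeg_top m x hx0
  obtain ⟨a, ha, b, hb, hab⟩ := decomp m W hW z
  refine ⟨b, hb, ?_⟩
  have hxa : ff x a = 0 := ((mem_perpS m W x).mp hx).symm' m a ha
  rw [← hab, sf_add_right, hxa, zero_add] at hz
  exact hz

theorem W_nondeg (W : Submodule F V) (hW : Cfsg.Geo.IsNondegenerateOn (Cfsg.sympForm m F) W) :
    ∀ x ∈ W, x ≠ 0 → ∃ y ∈ W, ff x y ≠ 0 := fun x hx hx0 => (hW x hx hx0).2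

/-- the image of `A : Sp` in `GL` -/
def toGL (A : G) : GLm := ((Cfsg.Agent.S0270.phi m A : ↥(Cfsg.spGL m F)) : GLm)

theorem toGL_mem (A : G) : toGL m A ∈ Cfsg.spGL m F := (Cfsg.Agent.S0270.phi m A).2

theorem toGL_act (A : G) (x : V) : (toGL m A).1 *ᵥ x = A.1 *ᵥ x := rfl

theorem toGL_inv (A : G) : (toGL m A)⁻¹ = toGL m A⁻¹ := by
  unfold toGL
  rw [map_inv]
  rfl

theorem toGL_mem_stab (W : Submodule F V) (A : G) (h1 : ∀ x ∈ W, A.1 *ᵥ x ∈ W)
    (h2 : ∀ x ∈ W, A⁻¹.1 *ᵥ x ∈ W) : toGL m A ∈ Cfsg.Geo.subspaceStabilizer W := by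
  apply mem_stab_of
  · exact h1
  · intro x hx
    rw [toGL_inv, toGL_act]
    exact h2 x hx

theorem toGL_TW_mem_stab (W : Submodule F V) (A : G) (hA : A ∈ TW m W) :
    toGL m A ∈ Cfsg.Geo.subspaceStabilizer W :=
  toGL_mem_stab m W A (fun x hx => TW_maps m W A hA x hx)
    (fun x hx => TW_maps m W A⁻¹ ((TW m W).inv_mem hA) x hx)

theorem toGL_TW_perp_mem_stab (W : Submodule F V) (A : G) (hA : A ∈ TW m (perpS m W)) :
    toGL m A ∈ Cfsg.Geo.subspaceStabilizer W := by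
  have hfix : ∀ B ∈ TW m (perpS m W), ∀ x ∈ W, B.1 *ᵥ x = x := by
    intro B hB x hx
    apply TW_fixes m _ B hB
    intro u hu
    exact ((mem_perpS m W u).mp hu).symm' m x hx |> fun h => by rw [sf_swap, h, neg_zero]
  apply toGL_mem_stab
  · intro x hx
    rw [hfix A hA x hx]; exact hx
  · intro x hx
    rw [hfix A⁻¹ ((TW m _).inv_mem hA) x hx]; exact hx

/-- transitivity of the stabiliser on sums of nonzero vectors -/
theorem trans_sum (W : Submodule F V) (hW : Cfsg.Geo.IsNondegenerateOn (Cfsg.sympForm m F) W)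
    (w w' u u' : V) (hw : w ∈ W) (hw' : w' ∈ W) (hu : u ∈ perpS m W) (hu' : u' ∈ perpS m W)
    (hw0 : w ≠ 0) (hw'0 : w' ≠ 0) (hu0 : u ≠ 0) (hu'0 : u' ≠ 0) :
    ∃ h : GLm, h ∈ Cfsg.Geo.subspaceStabilizer W ⊓ Cfsg.spGL m F ∧ h.1 *ᵥ (w + u) = w' + u' := by
  obtain ⟨A, hA, hAw⟩ := reach_of_ne_zero m W (W_nondeg m W hW) w w' hw hw' hw0 hw'0
  obtain ⟨A', hA', hA'u⟩ := reach_of_ne_zero m (perpS m W) (perpS_nondeg m W hW) u u' hu hu' hu0 hu'0
  have hAu : A.1 *ᵥ u = u := by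
    apply TW_fixes m W A hA
    intro x hx
    exact ((mem_perpS m W u).mp hu).symm' m x hx
  have hA'w : A'.1 *ᵥ w' = w' := by
    apply TW_fixes m _ A' hA'
    intro x hx
    have := (mem_perpS m W x).mp hx w' hw'
    exact this
  refine ⟨toGL m A' * toGL m A, ⟨Subgroup.mul_mem _ (toGL_TW_perp_mem_stab m W A' hA')
    (toGL_TW_mem_stab m W A hA), Subgroup.mul_mem _ (toGL_mem m A') (toGL_mem m A)⟩, ?_⟩
  rw [gl_mul_act, toGL_act, toGL_act, Matrix.mulVec_add, hAw, hAu, Matrix.mulVec_add, hA'w, hA'u]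

theorem finrank_perpS (W : Submodule F V) (hW : Cfsg.Geo.IsNondegenerateOn (Cfsg.sympForm m F) W) :
    Module.finrank F W + Module.finrank F (perpS m W) = 2 * m := by
  rw [Submodule.finrank_add_eq_of_isCompl (isCompl_perpS m W hW), Module.finrank_fintype_fun_eq_card,
    Fintype.card_sum, Fintype.card_fin]
  ring

/-- some vector of the perp is not mapped into `W` -/
theorem exists_not_mapped (W : Submodule F V)
    (hW : Cfsg.Geo.IsNondegenerateOn (Cfsg.sympForm m F) W) (hdim : Module.finrank F W < m)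
    (h : GLm) : ∃ u ∈ perpS m W, h.1 *ᵥ u ∉ W := by
  by_contra hcon
  push Not at hcon
  let f0 : V →ₗ[F] V := Matrix.mulVecLin h.1
  let f1 : perpS m W →ₗ[F] W :=
    (f0.domRestrict (perpS m W)).codRestrict W (fun u => hcon u.1 u.2)
  have hinj : Function.Injective f1 := by
    intro a b hab
    have h1 : h.1 *ᵥ a.1 = h.1 *ᵥ b.1 := congrArg Subtype.val hab
    apply Subtype.ext
    have := congrArg (fun x => h⁻¹.1 *ᵥ x) h1
    simp only [gl_inv_act] at this
    exact this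
  have hle := LinearMap.finrank_le_finrank_of_injective hinj
  have := finrank_perpS m W hW
  omega

theorem W_sub_XS (W : Submodule F V) (M : Subgroup GLm)
    (hPM : Cfsg.Geo.subspaceStabilizer W ⊓ Cfsg.spGL m F ≤ M) (w : V) (hw : w ∈ W) :
    w ∈ XS m M := by
  intro c
  apply hPM
  refine ⟨?_, tg_mem m w c⟩
  apply mem_stab_of
  · intro x hx
    rw [tg_act]
    exact W.add_mem hx (W.smul_mem _ hw)
  · intro x hx
    rw [tg_inv, tg_act]
    exact W.add_mem hx (W.smul_mem _ hw)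

theorem U_sub_XS (W : Submodule F V) (M : Subgroup GLm)
    (hPM : Cfsg.Geo.subspaceStabilizer W ⊓ Cfsg.spGL m F ≤ M) (u : V) (hu : u ∈ perpS m W) :
    u ∈ XS m M :=
  perp_sub_XS m W M hPM u ((mem_perpS m W u).mp hu)

theorem exists_x0 (W : Submodule F V) (hW0 : W ≠ ⊥)
    (hW : Cfsg.Geo.IsNondegenerateOn (Cfsg.sympForm m F) W) (hdim : Module.finrank F W < m)
    (M : Subgroup GLm) (hMI : M ≤ Cfsg.spGL m F)
    (hPM : Cfsg.Geo.subspaceStabilizer W ⊓ Cfsg.spGL m F ≤ M)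
    (g : GLm) (hgM : g ∈ M) (hg : g ∉ Cfsg.Geo.subspaceStabilizer W) :
    ∃ a ∈ W, ∃ b ∈ perpS m W, a ≠ 0 ∧ b ≠ 0 ∧ a + b ∈ XS m M := by
  have key : ∃ h : GLm, h ∈ M ∧ ∃ w ∈ W, h.1 *ᵥ w ∉ W := by
    by_contra hcon
    push Not at hcon
    exact hg (mem_stab_of m W g (fun v hv => hcon g hgM v hv)
      (fun v hv => hcon g⁻¹ (M.inv_mem hgM) v hv))
  obtain ⟨h, hhM, w1, hw1, hhw1⟩ := key
  by_contra hcon
  push Not at hcon
  -- every vector of XS lies in W or in the perp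
  have claimA : ∀ x ∈ XS m M, x ∈ W ∨ x ∈ perpS m W := by
    intro x hx
    obtain ⟨a, ha, b, hb, hab⟩ := decomp m W hW x
    by_cases ha0 : a = 0
    · right; rw [← hab, ha0, zero_add]; exact hb
    · by_cases hb0 : b = 0
      · left; rw [← hab, hb0, add_zero]; exact ha
      · exfalso
        apply hcon a ha b hb ha0 hb0
        rw [hab]; exact hx
  have hact : ∀ x ∈ XS m M, h.1 *ᵥ x ∈ XS m M := fun x hx => XS_act m M hMI h hhM x hx
  have hw1U : h.1 *ᵥ w1 ∈ perpS m W := by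
    rcases claimA _ (hact w1 (W_sub_XS m W M hPM w1 hw1)) with h' | h'
    · exact absurd h' hhw1
    · exact h'
  have claimB : ∀ w ∈ W, h.1 *ᵥ w ∈ perpS m W := by
    intro w hw
    rcases claimA _ (hact w (W_sub_XS m W M hPM w hw)) with h1 | h1
    · rcases claimA _ (hact (w + w1) (W_sub_XS m W M hPM _ (W.add_mem hw hw1))) with h2 | h2
      · exfalso
        rw [Matrix.mulVec_add] at h2
        have := W.sub_mem h2 h1
        rw [add_sub_cancel_left] at this
        exact hhw1 this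
      · rw [Matrix.mulVec_add] at h2
        have := (perpS m W).sub_mem h2 hw1U
        rwa [add_sub_cancel_right] at this
    · exact h1
  have claimC : ∀ w' ∈ W, h⁻¹.1 *ᵥ w' ∈ perpS m W := by
    intro w' hw'
    rw [mem_perpS]
    intro w hw
    rw [sf_inv_right m h (hMI hhM)]
    exact ((mem_perpS m W _).mp (claimB w hw)).symm' m w' hw'
  obtain ⟨u2, hu2, hhu2⟩ := exists_not_mapped m W hW hdim h
  have hu2U : h.1 *ᵥ u2 ∈ perpS m W := by
    rcases claimA _ (hact u2 (U_sub_XS m W M hPM u2 hu2)) with h' | h'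
    · exact absurd h' hhu2
    · exact h'
  have hu20 : h.1 *ᵥ u2 ≠ 0 := by
    intro h0
    rw [h0] at hhu2
    exact hhu2 W.zero_mem
  obtain ⟨w', hw', hw'0⟩ := Submodule.exists_mem_ne_zero_of_ne_bot hW0
  have hx : h.1 *ᵥ (h⁻¹.1 *ᵥ w' + u2) ∈ XS m M :=
    hact _ (U_sub_XS m W M hPM _ ((perpS m W).add_mem (claimC w' hw') hu2))
  rw [Matrix.mulVec_add, gl_act_inv] at hx
  exact hcon w' hw' _ hu2U hw'0 hu20 hx

theorem all_XS (W : Submodule F V) (hW0 : W ≠ ⊥)
    (hW : Cfsg.Geo.IsNondegenerateOn (Cfsg.sympForm m F) W) (hdim : Module.finrank F W < m)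
    (M : Subgroup GLm) (hMI : M ≤ Cfsg.spGL m F)
    (hPM : Cfsg.Geo.subspaceStabilizer W ⊓ Cfsg.spGL m F ≤ M)
    (g : GLm) (hgM : g ∈ M) (hg : g ∉ Cfsg.Geo.subspaceStabilizer W) (v : V) : v ∈ XS m M := by
  obtain ⟨a0, ha0, b0, hb0, ha00, hb00, hx0⟩ := exists_x0 m W hW0 hW hdim M hMI hPM g hgM hg
  obtain ⟨a, ha, b, hb, hab⟩ := decomp m W hW v
  by_cases ha' : a = 0
  · rw [← hab, ha', zero_add]; exact U_sub_XS m W M hPM b hb
  · by_cases hb' : b = 0
    · rw [← hab, hb', add_zero]; exact W_sub_XS m W M hPM a ha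
    · obtain ⟨h, hh, hhx⟩ := trans_sum m W hW a0 a b0 b ha0 ha hb0 hb ha00 ha' hb00 hb'
      rw [← hab, ← hhx]
      exact XS_act m M hMI h (hPM hh) _ hx0

theorem not_stab (W : Submodule F V) (hW0 : W ≠ ⊥)
    (hW : Cfsg.Geo.IsNondegenerateOn (Cfsg.sympForm m F) W) (hdim : Module.finrank F W < m) :
    ∃ g : GLm, g ∈ Cfsg.spGL m F ∧ g ∉ Cfsg.Geo.subspaceStabilizer W := by
  obtain ⟨w, hw, hw0⟩ := Submodule.exists_mem_ne_zero_of_ne_bot hW0
  have hU0 : perpS m W ≠ ⊥ := by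
    intro h0
    have h1 := finrank_perpS m W hW
    rw [h0, finrank_bot] at h1
    omega
  obtain ⟨u, hu, hu0⟩ := Submodule.exists_mem_ne_zero_of_ne_bot hU0
  obtain ⟨g, hg, hgw⟩ := exists_spGL_move m w u hw0 hu0
  refine ⟨g, hg, fun hgs => ?_⟩
  have := ((mem_stab_iff m W g).mp hgs w).mp hw
  rw [hgw] at this
  exact hu0 (inter_zero m W hW u this hu)

end

/-- For a finite field F and m ≥ 7, in the symplectic group Sp_2m(F) of the standard alternating form on F^(2m), the stabiliser of any non-zero subspace W on which the form is non-degenerate and with dim W < m is a maximal subgroup. -/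
theorem result {F : Type*} [Field F] [Fintype F] (m : ℕ) (hm : 7 ≤ m) (W : Submodule F (Fin m ⊕ Fin m → F)) (hW0 : W ≠ ⊥) (hW : Cfsg.Geo.IsNondegenerateOn (Cfsg.sympForm m F) W) (hdim : Module.finrank F W < m) : Cfsg.Geo.IsMaximalIn (Cfsg.spGL m F) (Cfsg.Geo.subspaceStabilizer W ⊓ Cfsg.spGL m F) := by
  refine ⟨lt_of_le_of_ne inf_le_right ?_, ?_⟩
  · intro heq
    obtain ⟨g, hg, hgs⟩ := not_stab m W hW0 hW hdim
    rw [← heq] at hg
    exact hgs hg.1
  · intro M hPM hMI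
    by_cases hMP : M = Cfsg.Geo.subspaceStabilizer W ⊓ Cfsg.spGL m F
    · exact Or.inl hMP
    right
    have : ∃ g ∈ M, g ∉ Cfsg.Geo.subspaceStabilizer W ⊓ Cfsg.spGL m F := by
      by_contra hcon
      push Not at hcon
      exact hMP (le_antisymm hcon hPM)
    obtain ⟨g, hgM, hgP⟩ := this
    have hgs : g ∉ Cfsg.Geo.subspaceStabilizer W := fun h => hgP ⟨h, hMI hgM⟩
    exact le_antisymm hMI (le_of_XS_univ m M (all_XS m W hW0 hW hdim M hMI hPM g hgM hgs))

end Cfsg.Agent.S5646
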