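import Cfsg.Statements.S5648
import Cfsg.Agent.S5646

set_option autoImplicit false
open Cfsg

namespace Cfsg.Agent.S5648

open Cfsg.Agent.Lib.Helper18 Cfsg.Agent.Lib.Helper11.SpPerfect Cfsg.Agent.Lib.Helper11.SpMax Matrix
open Cfsg.Agent.S5646
open scoped Classical

section
variable {F : Type*} [Field F] [Fintype F] (m : ℕ)

local notation "V" => (Fin m ⊕ Fin m → F)
local notation "ff" => Cfsg.sympForm m F
local notation "GLm" => Matrix.GeneralLinearGroup (Fin m ⊕ Fin m) F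

theorem f2_cases (hq : Fintype.card F = 2) (x : F) : x = 0 ∨ x = 1 := by
  have h := FiniteField.pow_card x
  rw [hq] at h
  have h2 : x * (x - 1) = 0 := by linear_combination h
  rcases mul_eq_zero.mp h2 with h3 | h3
  · exact Or.inl h3
  · exact Or.inr (sub_eq_zero.mp h3)

theorem two_eq_zero (hq : Fintype.card F = 2) : (2 : F) = 0 := by
  have := Nat.cast_card_eq_zero F
  rw [hq] at this
  exact_mod_cast this

theorem sf_sum_left {t : ℕ} (c : Fin t → V) (d : V) : ff (∑ j, c j) d = ∑ j, ff (c j) d := by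
  have : BF m (∑ j, c j) d = ∑ j, BF m (c j) d := by rw [map_sum, LinearMap.sum_apply]
  simpa only [BF_apply] using this

/-- `v` is not orthogonal to `D i` -/
def NI {t : ℕ} (D : Fin t → Submodule F V) (v : V) (i : Fin t) : Prop := ∃ d ∈ D i, ff v d ≠ 0

/-- the quadratic form -/
noncomputable def qq {t : ℕ} (D : Fin t → Submodule F V) (v : V) : F :=
  ∑ i : Fin t, (if NI m D v i then (1 : F) else 0)

/-- the overgroup -/
noncomputable def KK {t : ℕ} (D : Fin t → Submodule F V) : Subgroup GLm where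
  carrier := {g | g ∈ Cfsg.spGL m F ∧ ∀ v : V, qq m D (g.1 *ᵥ v) = qq m D v}
  one_mem' := ⟨Subgroup.one_mem _, fun v => by rw [Units.val_one, Matrix.one_mulVec]⟩
  mul_mem' := fun {a b} ha hb =>
    ⟨Subgroup.mul_mem _ ha.1 hb.1, fun v => by rw [gl_mul_act, ha.2, hb.2]⟩
  inv_mem' := fun {a} ha => ⟨Subgroup.inv_mem _ ha.1, fun v => by
    have := ha.2 (a⁻¹.1 *ᵥ v)
    rw [gl_act_inv] at this
    exact this.symm⟩

theorem mem_KK {t : ℕ} (D : Fin t → Submodule F V) (g : GLm) :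
    g ∈ KK m D ↔ g ∈ Cfsg.spGL m F ∧ ∀ v : V, qq m D (g.1 *ᵥ v) = qq m D v := Iff.rfl

theorem KK_le {t : ℕ} (D : Fin t → Submodule F V) : KK m D ≤ Cfsg.spGL m F := fun _ hg => hg.1

theorem stab_le_KK {t : ℕ} (D : Fin t → Submodule F V) :
    Cfsg.Geo.decompositionStabilizer D ⊓ Cfsg.spGL m F ≤ KK m D := by
  rintro g ⟨⟨σ, hσ⟩, hg⟩
  refine ⟨hg, fun v => ?_⟩
  have key : ∀ i, NI m D (g.1 *ᵥ v) (σ i) ↔ NI m D v i := by
    intro i
    constructor
    · rintro ⟨d, hd, hne⟩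
      rw [← hσ i, Submodule.mem_map] at hd
      obtain ⟨d', hd', rfl⟩ := hd
      rw [Matrix.toLin'_apply, (mem_spGL_iff m g).mp hg] at hne
      exact ⟨d', hd', hne⟩
    · rintro ⟨d', hd', hne⟩
      refine ⟨g.1 *ᵥ d', ?_, ?_⟩
      · rw [← hσ i, Submodule.mem_map]
        exact ⟨d', hd', Matrix.toLin'_apply _ _⟩
      · rw [(mem_spGL_iff m g).mp hg]
        exact hne
  unfold qq
  rw [← Equiv.sum_comp σ]
  apply Finset.sum_congr rfl
  intro i _
  simp only [key i]

theorem NI_sum {t : ℕ} (D : Fin t → Submodule F V)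
    (hD : Cfsg.Geo.IsNondegenerateMDecomposition (Cfsg.sympForm m F) 2 D) (c : Fin t → V) (hc : ∀ j, c j ∈ D j) (i : Fin t) :
    NI m D (∑ j, c j) i ↔ c i ≠ 0 := by
  have hval : ∀ d ∈ D i, ff (∑ j, c j) d = ff (c i) d := by
    intro d hd
    rw [sf_sum_left]
    apply Finset.sum_eq_single i
    · intro j _ hji
      exact hD.orthogonal j i hji (c j) (hc j) d hd
    · intro h; exact absurd (Finset.mem_univ i) h
  constructor
  · rintro ⟨d, hd, hne⟩ h0
    rw [hval d hd, h0, sf_zero_left] at hne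
    exact hne rfl
  · intro h0
    obtain ⟨x, hx, hne⟩ := (hD.nondegenerate i (c i) (hc i) h0).2
    exact ⟨x, hx, by rw [hval x hx]; exact hne⟩

theorem qq_sum {t : ℕ} (D : Fin t → Submodule F V)
    (hD : Cfsg.Geo.IsNondegenerateMDecomposition (Cfsg.sympForm m F) 2 D) (c : Fin t → V) (hc : ∀ j, c j ∈ D j) :
    qq m D (∑ j, c j) = ∑ j, (if c j ≠ 0 then (1 : F) else 0) := by
  unfold qq
  apply Finset.sum_congr rfl
  intro i _
  simp only [NI_sum m D hD c hc i]

theorem exists_decomp {t : ℕ} (D : Fin t → Submodule F V)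
    (hD : Cfsg.Geo.IsNondegenerateMDecomposition (Cfsg.sympForm m F) 2 D) (v : V) : ∃ c : Fin t → V, (∀ j, c j ∈ D j) ∧ ∑ j, c j = v := by
  have hv : v ∈ ⨆ i ∈ (Finset.univ : Finset (Fin t)), D i := by
    simp only [Finset.mem_univ, iSup_pos, hD.decomp.iSup_eq_top, Submodule.mem_top]
  obtain ⟨μ, hμ⟩ := (Submodule.mem_iSup_finset_iff_exists_sum D v).mp hv
  exact ⟨fun i => (μ i : V), fun j => (μ j).2, hμ⟩

theorem span_pair {t : ℕ} (D : Fin t → Submodule F V)
    (hD : Cfsg.Geo.IsNondegenerateMDecomposition (Cfsg.sympForm m F) 2 D) (i : Fin t) (a b : V) (ha : a ∈ D i) (hb : b ∈ D i) (hab : ff a b = 1) :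
    ∀ c ∈ D i, ∃ s u : F, s • a + u • b = c := by
  have ha0 : a ≠ 0 := by
    rintro rfl
    rw [sf_zero_left] at hab
    exact zero_ne_one hab
  have hli : LinearIndependent F ![a, b] := by
    rw [LinearIndependent.pair_iff' ha0]
    intro s hs
    rw [← hs, sf_smul_right, sf_self, mul_zero] at hab
    exact zero_ne_one hab
  have hfr := finrank_span_eq_card hli
  rw [Fintype.card_fin] at hfr
  have hrange : Set.range ![a, b] = {a, b} := by
    ext x
    simp only [Set.mem_range, Set.mem_insert_iff, Set.mem_singleton_iff]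
    constructor
    · rintro ⟨k, rfl⟩
      fin_cases k
      · left; rfl
      · right; rfl
    · rintro (rfl | rfl)
      · exact ⟨0, rfl⟩
      · exact ⟨1, rfl⟩
  rw [hrange] at hfr
  have hle : Submodule.span F {a, b} ≤ D i := by
    rw [Submodule.span_le]
    intro x hx
    rcases hx with rfl | rfl
    · exact ha
    · exact hb
  have heq : Submodule.span F {a, b} = D i :=
    Submodule.eq_of_le_of_finrank_eq hle (by rw [hfr, hD.decomp.finrank_eq i])
  intro c hc
  rw [← heq, Submodule.mem_span_pair] at hc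
  exact hc

theorem delta_flip {t : ℕ} (D : Fin t → Submodule F V)
    (hD : Cfsg.Geo.IsNondegenerateMDecomposition (Cfsg.sympForm m F) 2 D) (hq : Fintype.card F = 2) (i : Fin t) (a b : V) (ha : a ∈ D i) (hb : b ∈ D i)
    (hab : ff a b = 1) (c : V) (hc : c ∈ D i) :
    (if c + a ≠ 0 then (1 : F) else 0) = (if c ≠ 0 then (1 : F) else 0) + 1 + ff c a := by
  have h2 := two_eq_zero hq
  have ha0 : a ≠ 0 := by
    rintro rfl
    rw [sf_zero_left] at hab
    exact zero_ne_one hab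
  have haa : a + a = 0 := by
    rw [← two_smul F a, h2, zero_smul]
  rcases f2_cases hq (ff c a) with h0 | h1
  · obtain ⟨s, u, hsu⟩ := span_pair m D hD i a b ha hb hab c hc
    have hu : u = 0 := by
      rw [← hsu, sf_add_left, sf_smul_left, sf_smul_left, sf_self, mul_zero, zero_add, sf_swap,
        hab] at h0
      have : u = 0 := by linear_combination -h0
      exact this
    rw [hu, zero_smul, add_zero] at hsu
    rcases f2_cases hq s with hs | hs
    · rw [hs, zero_smul] at hsu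
      rw [← hsu, zero_add, if_pos ha0, if_neg (by simp), sf_zero_left]
      ring
    · rw [hs, one_smul] at hsu
      rw [← hsu, haa, if_neg (by simp), if_pos ha0, sf_self]
      linear_combination -h2
  · have hc0 : c ≠ 0 := by
      rintro rfl
      rw [sf_zero_left] at h1
      exact zero_ne_one h1
    have hca : c + a ≠ 0 := by
      intro h
      have : c = a := by
        have := congrArg (fun x => x + a) h
        simp only [add_assoc, haa, add_zero, zero_add] at this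
        exact this
      rw [this, sf_self] at h1
      exact zero_ne_one h1
    rw [if_pos hca, if_pos hc0, h1]
    linear_combination -h2

theorem qq_add {t : ℕ} (D : Fin t → Submodule F V)
    (hD : Cfsg.Geo.IsNondegenerateMDecomposition (Cfsg.sympForm m F) 2 D) (hq : Fintype.card F = 2) (i : Fin t) (a b : V) (ha : a ∈ D i) (hb : b ∈ D i)
    (hab : ff a b = 1) (v : V) : qq m D (v + a) = qq m D v + 1 + ff v a := by
  obtain ⟨c, hc, rfl⟩ := exists_decomp m D hD v
  set c' : Fin t → V := fun j => c j + (if j = i then a else 0) with hc'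
  have hc'mem : ∀ j, c' j ∈ D j := by
    intro j
    rw [hc']
    by_cases hji : j = i
    · simp only [hji, if_true]
      exact (D i).add_mem (hc i) ha
    · simp only [hji, if_false, add_zero]
      exact hc j
  have hsum : ∑ j, c j + a = ∑ j, c' j := by
    rw [hc', Finset.sum_add_distrib, Finset.sum_ite_eq' Finset.univ i (fun _ => a)]
    simp
  have hfa : ff (∑ j, c j) a = ff (c i) a := by
    rw [sf_sum_left]
    apply Finset.sum_eq_single i
    · intro j _ hji
      exact hD.orthogonal j i hji (c j) (hc j) a ha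
    · intro h; exact absurd (Finset.mem_univ i) h
  rw [hsum, qq_sum m D hD c' hc'mem, qq_sum m D hD c hc, hfa]
  have hterm : ∀ j, (if c' j ≠ 0 then (1 : F) else 0) =
      (if c j ≠ 0 then (1 : F) else 0) + (if j = i then 1 + ff (c i) a else 0) := by
    intro j
    by_cases hji : j = i
    · subst hji
      simp only [hc', if_true]
      rw [delta_flip m D hD hq j a b ha hb hab (c j) (hc j)]
      ring
    · simp only [hc', hji, if_false, add_zero]
  rw [Finset.sum_congr rfl (fun j _ => hterm j), Finset.sum_add_distrib,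
    Finset.sum_ite_eq' Finset.univ i (fun _ => 1 + ff (c i) a)]
  simp only [Finset.mem_univ, if_true]
  ring

theorem exists_pair {t : ℕ} (D : Fin t → Submodule F V)
    (hD : Cfsg.Geo.IsNondegenerateMDecomposition (Cfsg.sympForm m F) 2 D) (hq : Fintype.card F = 2) (i : Fin t) :
    ∃ a b : V, a ∈ D i ∧ b ∈ D i ∧ ff a b = 1 := by
  have hne : D i ≠ ⊥ := by
    intro h
    have := hD.decomp.finrank_eq i
    rw [h, finrank_bot] at this
    omega
  obtain ⟨a, ha, ha0⟩ := Submodule.exists_mem_ne_zero_of_ne_bot hne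
  obtain ⟨b, hb, hab⟩ := (hD.nondegenerate i a ha ha0).2
  rcases f2_cases hq (ff a b) with h | h
  · exact absurd h hab
  · exact ⟨a, b, ha, hb, h⟩

theorem NI_of_mem {t : ℕ} (D : Fin t → Submodule F V)
    (hD : Cfsg.Geo.IsNondegenerateMDecomposition (Cfsg.sympForm m F) 2 D) (k i : Fin t) (x : V) (hx : x ∈ D k) (h : NI m D x i) : i = k := by
  by_contra hik
  obtain ⟨d, hd, hne⟩ := h
  exact hne (hD.orthogonal k i (Ne.symm hik) x hx d hd)

theorem t_ge {t : ℕ} (D : Fin t → Submodule F V)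
    (hD : Cfsg.Geo.IsNondegenerateMDecomposition (Cfsg.sympForm m F) 2 D) : m ≤ t := by
  let Φ : (∀ i : Fin t, D i) →ₗ[F] V := ∑ i, (D i).subtype.comp (LinearMap.proj i)
  have hΦ : ∀ c : (∀ i : Fin t, D i), Φ c = ∑ i, (c i : V) := by
    intro c
    simp [Φ, LinearMap.sum_apply]
  have hsurj : Function.Surjective Φ := by
    intro v
    obtain ⟨c, hc, rfl⟩ := exists_decomp m D hD v
    exact ⟨fun i => ⟨c i, hc i⟩, by rw [hΦ]⟩
  have hV : Module.finrank F V = 2 * m := by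
    rw [Module.finrank_fintype_fun_eq_card, Fintype.card_sum, Fintype.card_fin]
    ring
  have hP : Module.finrank F (∀ i : Fin t, D i) = 2 * t := by
    rw [Module.finrank_pi_fintype]
    simp only [hD.decomp.finrank_eq, Finset.sum_const, Finset.card_univ, Fintype.card_fin,
      smul_eq_mul]
    ring
  have h1 := LinearMap.finrank_range_add_finrank_ker Φ
  rw [LinearMap.range_eq_top.mpr hsurj, finrank_top, hV, hP] at h1
  omega

theorem tau3_mem_KK {t : ℕ} (D : Fin t → Submodule F V)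
    (hD : Cfsg.Geo.IsNondegenerateMDecomposition (Cfsg.sympForm m F) 2 D)
    (hq : Fintype.card F = 2) (i1 i2 i3 : Fin t) (h12 : i1 ≠ i2) (h13 : i1 ≠ i3) (h23 : i2 ≠ i3)
    (a1 b1 a2 b2 a3 b3 : V) (ha1 : a1 ∈ D i1) (hb1 : b1 ∈ D i1) (hab1 : ff a1 b1 = 1)
    (ha2 : a2 ∈ D i2) (hb2 : b2 ∈ D i2) (hab2 : ff a2 b2 = 1)
    (ha3 : a3 ∈ D i3) (hb3 : b3 ∈ D i3) (hab3 : ff a3 b3 = 1) :
    tg m (a1 + a2 + a3) 1 ∈ KK m D := by
  have h2 := two_eq_zero hq
  refine ⟨tg_mem m _ _, fun v => ?_⟩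
  rw [tg_act, one_mul]
  rcases f2_cases hq (ff v (a1 + a2 + a3)) with h0 | h1
  · rw [h0, zero_smul, add_zero]
  · rw [h1, one_smul]
    have e : v + (a1 + a2 + a3) = ((v + a1) + a2) + a3 := by abel
    rw [e, qq_add m D hD hq i3 a3 b3 ha3 hb3 hab3, qq_add m D hD hq i2 a2 b2 ha2 hb2 hab2,
      qq_add m D hD hq i1 a1 b1 ha1 hb1 hab1]
    have o12 : ff a1 a2 = 0 := hD.orthogonal i1 i2 h12 a1 ha1 a2 ha2
    have o13 : ff a1 a3 = 0 := hD.orthogonal i1 i3 h13 a1 ha1 a3 ha3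
    have o23 : ff a2 a3 = 0 := hD.orthogonal i2 i3 h23 a2 ha2 a3 ha3
    rw [sf_add_right, sf_add_right] at h1
    simp only [sf_add_left, o12, o13, o23, add_zero]
    linear_combination h1 + 2 * h2

theorem tau3_not_stab {t : ℕ} (D : Fin t → Submodule F V)
    (hD : Cfsg.Geo.IsNondegenerateMDecomposition (Cfsg.sympForm m F) 2 D)
    (i1 i2 i3 : Fin t) (h12 : i1 ≠ i2) (h13 : i1 ≠ i3) (h23 : i2 ≠ i3)
    (a1 b1 a2 b2 a3 b3 : V) (ha1 : a1 ∈ D i1) (hb1 : b1 ∈ D i1) (hab1 : ff a1 b1 = 1)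
    (ha2 : a2 ∈ D i2) (hb2 : b2 ∈ D i2) (hab2 : ff a2 b2 = 1)
    (ha3 : a3 ∈ D i3) (hb3 : b3 ∈ D i3) (hab3 : ff a3 b3 = 1) :
    tg m (a1 + a2 + a3) 1 ∉ Cfsg.Geo.decompositionStabilizer D := by
  rintro ⟨σ, hσ⟩
  set x : V := (tg m (a1 + a2 + a3) 1).1 *ᵥ b1 with hx
  have hxmem : x ∈ D (σ i1) := by
    rw [← hσ i1, Submodule.mem_map]
    exact ⟨b1, hb1, Matrix.toLin'_apply _ _⟩
  have hb1w : ff b1 (a1 + a2 + a3) = -1 := by
    rw [sf_add_right, sf_add_right, hD.orthogonal i1 i2 h12 b1 hb1 a2 ha2,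
      hD.orthogonal i1 i3 h13 b1 hb1 a3 ha3, sf_swap, hab1]
    ring
  have hxv : x = b1 + (-1 : F) • (a1 + a2 + a3) := by
    rw [hx, tg_act, one_mul, hb1w]
  have hN2 : NI m D x i2 := by
    refine ⟨b2, hb2, ?_⟩
    rw [hxv]
    simp only [sf_add_left, sf_smul_left, hD.orthogonal i1 i2 h12 b1 hb1 b2 hb2,
      hD.orthogonal i1 i2 h12 a1 ha1 b2 hb2, hD.orthogonal i3 i2 (Ne.symm h23) a3 ha3 b2 hb2, hab2]
    norm_num
  have hN3 : NI m D x i3 := by
    refine ⟨b3, hb3, ?_⟩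
    rw [hxv]
    simp only [sf_add_left, sf_smul_left, hD.orthogonal i1 i3 h13 b1 hb1 b3 hb3,
      hD.orthogonal i1 i3 h13 a1 ha1 b3 hb3, hD.orthogonal i2 i3 h23 a2 ha2 b3 hb3, hab3]
    norm_num
  have e2 := NI_of_mem m D hD (σ i1) i2 x hxmem hN2
  have e3 := NI_of_mem m D hD (σ i1) i3 x hxmem hN3
  exact h23 (e2.trans e3.symm)

theorem tau2_not_KK {t : ℕ} (D : Fin t → Submodule F V)
    (hD : Cfsg.Geo.IsNondegenerateMDecomposition (Cfsg.sympForm m F) 2 D)
    (hq : Fintype.card F = 2) (i1 i2 : Fin t) (h12 : i1 ≠ i2)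
    (a1 b1 a2 b2 : V) (ha1 : a1 ∈ D i1) (hb1 : b1 ∈ D i1) (hab1 : ff a1 b1 = 1)
    (ha2 : a2 ∈ D i2) (hb2 : b2 ∈ D i2) (hab2 : ff a2 b2 = 1) :
    tg m (a1 + a2) 1 ∉ KK m D := by
  have h2 := two_eq_zero hq
  rintro ⟨-, hK⟩
  have h := hK b1
  have hb1a1 : ff b1 a1 = 1 := by
    rw [sf_swap, hab1]
    linear_combination -h2
  have hb1w : ff b1 (a1 + a2) = 1 := by
    rw [sf_add_right, hD.orthogonal i1 i2 h12 b1 hb1 a2 ha2, add_zero, hb1a1]
  rw [tg_act, one_mul, hb1w, one_smul] at h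
  have e : b1 + (a1 + a2) = (b1 + a1) + a2 := by abel
  rw [e, qq_add m D hD hq i2 a2 b2 ha2 hb2 hab2, qq_add m D hD hq i1 a1 b1 ha1 hb1 hab1,
    sf_add_left, hD.orthogonal i1 i2 h12 b1 hb1 a2 ha2, hD.orthogonal i1 i2 h12 a1 ha1 a2 ha2,
    hb1a1] at h
  have : (1 : F) = 0 := by linear_combination h - h2
  exact one_ne_zero this

end

/-- Over the field with 2 elements and for m ≥ 7, let D be a decomposition of F^(2m) into t pairwise orthogonal non-degenerate 2-dimensional subspaces for the standard alternating form (t = m ≥ 2). Then the elements of Sp_2m(2) permuting the members of D form a subgroup that is not maximal: some subgroup lies strictly between it and Sp_2m(2). -/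
theorem result {F : Type*} [Field F] [Fintype F] (m : ℕ) (hm : 7 ≤ m) (hq : Fintype.card F = 2) {t : ℕ} (D : Fin t → Submodule F (Fin m ⊕ Fin m → F)) (hD : Cfsg.Geo.IsNondegenerateMDecomposition (Cfsg.sympForm m F) 2 D) : ∃ K : Subgroup (Matrix.GeneralLinearGroup (Fin m ⊕ Fin m) F), Cfsg.Geo.decompositionStabilizer D ⊓ Cfsg.spGL m F < K ∧ K < Cfsg.spGL m F := by
  have hmt : m ≤ t := t_ge m D hD
  have h12 : (⟨0, by omega⟩ : Fin t) ≠ ⟨1, by omega⟩ := by simp [Fin.ext_iff]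
  have h13 : (⟨0, by omega⟩ : Fin t) ≠ ⟨2, by omega⟩ := by simp [Fin.ext_iff]
  have h23 : (⟨1, by omega⟩ : Fin t) ≠ ⟨2, by omega⟩ := by simp [Fin.ext_iff]
  obtain ⟨a1, b1, ha1, hb1, hab1⟩ := exists_pair m D hD hq ⟨0, by omega⟩
  obtain ⟨a2, b2, ha2, hb2, hab2⟩ := exists_pair m D hD hq ⟨1, by omega⟩
  obtain ⟨a3, b3, ha3, hb3, hab3⟩ := exists_pair m D hD hq ⟨2, by omega⟩
  refine ⟨KK m D, lt_of_le_of_ne (stab_le_KK m D) ?_, lt_of_le_of_ne (KK_le m D) ?_⟩
  · intro heq
    have h1 := tau3_mem_KK m D hD hq _ _ _ h12 h13 h23 a1 b1 a2 b2 a3 b3 ha1 hb1 hab1 ha2 hb2 hab2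
      ha3 hb3 hab3
    rw [← heq] at h1
    exact tau3_not_stab m D hD _ _ _ h12 h13 h23 a1 b1 a2 b2 a3 b3 ha1 hb1 hab1 ha2 hb2 hab2
      ha3 hb3 hab3 h1.1
  · intro heq
    have h1 : tg m (a1 + a2) 1 ∈ Cfsg.spGL m F := tg_mem m _ _
    rw [← heq] at h1
    exact tau2_not_KK m D hD hq _ _ h12 a1 b1 a2 b2 ha1 hb1 hab1 ha2 hb2 hab2 h1

end Cfsg.Agent.S5648
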