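import Cfsg.Statements.S5649
import Cfsg.Agent.Lib.Helper43.SpPair4

set_option autoImplicit false
open Cfsg

namespace Cfsg.Agent.S5649

/-- For a finite field F of odd order and m ≥ 7, let D be a decomposition of F^(2m) into two complementary subspaces of dimension m on each of which the standard alternating form vanishes identically. Then the elements of Sp_2m(F) preserving or interchanging the two subspaces form a maximal subgroup of Sp_2m(F). -/
theorem result {F : Type*} [Field F] [Fintype F] (m : ℕ) (hm : 7 ≤ m) (hodd : Odd (Fintype.card F)) (D : Fin 2 → Submodule F (Fin m ⊕ Fin m → F)) (hD : Cfsg.Geo.IsMDecomposition m D) (hts : ∀ i, Cfsg.Geo.IsTotallySingularFor (Cfsg.sympForm m F) (D i)) : Cfsg.Geo.IsMaximalIn (Cfsg.spGL m F) (Cfsg.Geo.decompositionStabilizer D ⊓ Cfsg.spGL m F) := by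
  classical
  have h2 : (2 : F) ≠ 0 := by
    intro h2
    have hchar : CharP F 2 := CharTwo.of_one_ne_zero_of_two_eq_zero one_ne_zero h2
    obtain ⟨n, _, hn⟩ := FiniteField.card F 2
    rw [hn] at hodd
    have heven : Even (2 ^ (n : ℕ)) := by
      rw [Nat.even_pow]
      exact ⟨even_two, n.pos.ne'⟩
    exact (Nat.not_even_iff_odd.2 hodd) heven
  have hfr0 : Module.finrank F (D 0) = m := hD.finrank_eq 0
  have hfr1 : Module.finrank F (D 1) = m := hD.finrank_eq 1
  have hp : Cfsg.Agent.Lib.Helper43.SpPair.LagPair (D 0) (D 1) := by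
    apply Cfsg.Agent.Lib.Helper43.SpPair.LagPair.of_disjoint_sup m (hts 0) (hts 1)
    · exact hD.indep.pairwiseDisjoint (by decide)
    · apply le_antisymm le_top
      rw [← hD.iSup_eq_top]
      apply iSup_le
      intro i
      fin_cases i
      · exact le_sup_left
      · exact le_sup_right
  exact Cfsg.Agent.Lib.Helper43.SpPair.pair_maximal_geo m h2 D hp m hfr0 hfr1 (by omega)

end Cfsg.Agent.S5649
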