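import Mathlib
import Cfsg.Statements.S5650
import Cfsg.Agent.Lib.Helper48.SpSub.Reduce
-- import your own Cfsg.Agent.* helpers here

set_option autoImplicit false
open Cfsg

namespace Cfsg.Agent.S5650

/-- For a finite field F, a subfield F₀ with |F| = |F₀| ^ r for a prime r, and m ≥ 7, let P be an invertible matrix and ζ a non-zero scalar such that ζ times the standard alternating form takes values in F₀ on the F₀-span of the columns of P. Then the elements of Sp_2m(F) lying in the subfield group of P (the conjugate by P of the product of GL_2m(F₀) with the scalars) form a maximal subgroup of Sp_2m(F). -/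
theorem result {F : Type*} [Field F] [Fintype F] (m : ℕ) (hm : 7 ≤ m) (F₀ : Subfield F) (r : ℕ) (hr : r.Prime) (hcard : Fintype.card F = Nat.card F₀ ^ r) (P : Matrix.GeneralLinearGroup (Fin m ⊕ Fin m) F) (ζ : F) (hζ : ζ ≠ 0) (hP : Cfsg.Geo.IsFormRationalStructure (Cfsg.sympForm m F) F₀ ζ P) : Cfsg.Geo.IsMaximalIn (Cfsg.spGL m F) (Cfsg.Geo.subfieldSubgroup F₀ P ⊓ Cfsg.spGL m F) := by
  classical
  obtain ⟨Q, hQ0, hsim⟩ := Cfsg.Agent.Lib.Helper48.SpSub.exists_darboux F₀ P ζ hζ hP
  have hstd := Cfsg.Agent.Lib.Helper48.SpSub.maximal_std (m := m) (by omega) F₀ r hr hcard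
  have hSmap := Cfsg.Agent.Lib.Helper48.SpSub.spGL_map_conj (P * Q) ζ hζ hsim
  have h1 := Cfsg.Agent.Lib.Helper48.SpSub.isMaximalIn_map_conj' _ _ (P * Q) hSmap hstd
  have hinj : Function.Injective (MulAut.conj (P * Q)).toMonoidHom := (MulAut.conj (P * Q)).injective
  rw [Subgroup.map_inf _ _ _ hinj, hSmap] at h1
  have h2 : (Cfsg.Agent.Lib.Helper48.Subfield.ratUpTo (ι := Fin m ⊕ Fin m) F₀).map
      (MulAut.conj (P * Q)).toMonoidHom = Cfsg.Geo.subfieldSubgroup F₀ P := by
    unfold Cfsg.Geo.subfieldSubgroup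
    have h3 : (MulAut.conj (P * Q)).toMonoidHom
        = (MulAut.conj P).toMonoidHom.comp (MulAut.conj Q).toMonoidHom := by
      ext x
      simp [MulAut.conj_apply, mul_assoc]
    rw [h3, ← Subgroup.map_map,
      Cfsg.Agent.Lib.Helper48.SpSub.map_conj_eq_of_mem _ Q
        (Cfsg.Agent.Lib.Helper48.SpSub.G0_le_ratUpTo F₀ hQ0),
      ← Cfsg.Agent.Lib.Helper48.Subfield.sup_eq_ratUpTo]
    rfl
  rw [h2] at h1
  exact h1

end Cfsg.Agent.S5650
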