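import Cfsg.Statements.S5653
import Cfsg.Agent.Lib.Helper51.SUMax1

set_option autoImplicit false
open Cfsg

namespace Cfsg.Agent.S5653

open Cfsg.Agent.Lib.Helper51 Cfsg.Agent.Lib.Helper08 Matrix

section
variable {F : Type*} [Field F] [Fintype F] {q : ℕ} {n : ℕ}

local notation "GLn" => Matrix.GeneralLinearGroup (Fin n) F
local notation "hh" => hform (Fin n) F q

/-- isotropic vectors of the perp of `W` are centres -/
theorem perp_sub_XM (hF : Fintype.card F = q ^ 2) (W : Submodule F (Fin n → F)) (M : Subgroup GLn)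
    (hPM : Cfsg.Geo.subspaceStabilizer W ⊓
      (Cfsg.GU n F q ⊓ Cfsg.Geo.specialLinear (Fin n) F) ≤ M)
    (v : Fin n → F) (hv0 : hh v v = 0) (hv : ∀ w ∈ W, hh w v = 0) : v ∈ XM q M := by
  refine ⟨hv0, fun c hc t ht => hPM ⟨mem_stab_of_maps W t (fun x hx => ?_), (mem_GUSL_iff t).mpr ⟨?_, ?_⟩⟩⟩
  · rw [ht, qrefl_mulVec, hv x hx, mul_zero, zero_smul, add_zero]
    exact hx
  · rw [ht]
    exact qrefl_iso_skew hF v hv0 c hc
  · rw [ht, det_qrefl', hv0, mul_zero, add_zero]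

theorem step1 (hF : Fintype.card F = q ^ 2) (W : Submodule F (Fin n → F))
    (hW : Cfsg.Geo.IsTotallySingularFor (Cfsg.hermForm n F q) W) (M : Subgroup GLn)
    (hPM : Cfsg.Geo.subspaceStabilizer W ⊓
      (Cfsg.GU n F q ⊓ Cfsg.Geo.specialLinear (Fin n) F) ≤ M)
    (x0 : Fin n → F) (hx0 : x0 ∈ XM q M) (u : Fin n → F) (hu : u ∈ W) (hxu : hh x0 u ≠ 0)
    (z : Fin n → F) (hz : hh z z = 0) (hzu : hh z u ≠ 0) : z ∈ XM q M := by
  have hq0 := q_ne_zero' hF
  have hx00 : hh x0 x0 = 0 := hx0.1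
  set a : F := ((hh x0 u)⁻¹) ^ q with ha
  set u' : Fin n → F := a • u with hu'
  have hu'W : u' ∈ W := W.smul_mem _ hu
  have hxu' : hh x0 u' = 1 := by
    rw [hu', hform_smul_right, ha, pow_q_pow_q' hF, inv_mul_cancel₀ hxu]
  have ha0 : a ≠ 0 := by
    rw [ha]; exact pow_ne_zero _ (inv_ne_zero hxu)
  have hzu'0 : hh z u' ≠ 0 := by
    rw [hu', hform_smul_right]
    exact mul_ne_zero (pow_ne_zero _ ha0) hzu
  set b : F := (hh z u')⁻¹ with hb
  have hb0 : b ≠ 0 := inv_ne_zero hzu'0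
  set z' : Fin n → F := b • z with hz'
  have hz'u' : hh z' u' = 1 := by
    rw [hz', hform_smul_left, hb, inv_mul_cancel₀ hzu'0]
  have hz'z' : hh z' z' = 0 := by
    rw [hz', hform_smul_left, hform_smul_right, hz, mul_zero, mul_zero]
  have hu'u' : hh u' u' = 0 := hW u' hu'W u' hu'W
  have hu'x : hh u' x0 = 1 := by rw [← hform_conj hF, hxu', one_pow]
  have hu'z' : hh u' z' = 1 := by rw [← hform_conj hF, hz'u', one_pow]
  set y : Fin n → F := z' - x0 with hy
  have hu'y : hh u' y = 0 := by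
    rw [hy, hform_sub_right hF, hu'z', hu'x, sub_self]
  set α : F := hh x0 z' with hα
  have hαq : α ^ q = hh z' x0 := by rw [hα, hform_conj hF]
  have hyy : hh y y = - hh z' x0 - hh x0 z' := by
    rw [hy, hform_sub_left, hform_sub_right hF, hform_sub_right hF, hz'z', hx00]
    ring
  have hiso : IsIsoMat q (eichler q u' y α) := by
    apply eichler_iso hF u' y α hu'u' hu'y
    rw [hαq, hyy, hα]
    ring
  have hdet : (eichler q u' y α).det = 1 := eichler_det hF u' y α hu'u' hu'y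
  have hEx : eichler q u' y α *ᵥ x0 = z' := by
    rw [eichler_mulVec hF u' y α hu'u' hu'y, hxu', one_smul]
    have : hh x0 y = α := by
      rw [hy, hform_sub_right hF, hx00, sub_zero]
    rw [this, hy]
    funext i
    simp only [Pi.add_apply, Pi.sub_apply, Pi.smul_apply, smul_eq_mul]
    ring
  set t : GLn := (hiso.isUnit hF).unit with ht
  have htv : t.1 = eichler q u' y α := rfl
  have htP : t ∈ Cfsg.Geo.subspaceStabilizer W ⊓
      (Cfsg.GU n F q ⊓ Cfsg.Geo.specialLinear (Fin n) F) := by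
    refine ⟨mem_stab_of_maps W t (fun x hx => ?_), (mem_GUSL_iff t).mpr ⟨hiso, hdet⟩⟩
    rw [htv, eichler_mulVec hF u' y α hu'u' hu'y]
    have : hh x u' = 0 := hW x hx u' hu'W
    rw [this, zero_smul, add_zero]
    exact W.sub_mem hx (W.smul_mem _ hu'W)
  have h1 := XM_act hF M t (hPM htP) hiso x0 hx0
  rw [htv, hEx] at h1
  have h2 := XM_smul hF M b⁻¹ z' h1
  rwa [hz', smul_smul, inv_mul_cancel₀ hb0, one_smul] at h2

theorem exists_x0 (hF : Fintype.card F = q ^ 2) (W : Submodule F (Fin n → F))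
    (hW : Cfsg.Geo.IsTotallySingularFor (Cfsg.hermForm n F q) W) (M : Subgroup GLn)
    (hMI : M ≤ Cfsg.GU n F q ⊓ Cfsg.Geo.specialLinear (Fin n) F)
    (hPM : Cfsg.Geo.subspaceStabilizer W ⊓
      (Cfsg.GU n F q ⊓ Cfsg.Geo.specialLinear (Fin n) F) ≤ M)
    (g : GLn) (hgM : g ∈ M) (hg : g ∉ Cfsg.Geo.subspaceStabilizer W) :
    ∃ x0 ∈ XM q M, ∃ w ∈ W, hh x0 w ≠ 0 := by
  have hq0 := q_ne_zero' hF
  have key : ∃ w ∈ W, g.1 *ᵥ w ∉ W := by
    by_contra hcon
    push Not at hcon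
    exact hg (mem_stab_of_maps W g hcon)
  obtain ⟨w, hw, hgw⟩ := key
  have hgiso : IsIsoMat q g.1 := ((mem_GUSL_iff g).mp (hMI hgM)).1
  have hginv : IsIsoMat q g⁻¹.1 := ((mem_GUSL_iff g⁻¹).mp (hMI (M.inv_mem hgM))).1
  have hwX : w ∈ XM q M := perp_sub_XM hF W M hPM w (hW w hw w hw) (fun w' hw' => hW w' hw' w hw)
  have huX := XM_act hF M g hgM hgiso w hwX
  set u : Fin n → F := g.1 *ᵥ w with hu
  by_cases hcase : ∃ w' ∈ W, hh u w' ≠ 0
  · obtain ⟨w', hw', h⟩ := hcase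
    exact ⟨u, huX, w', hw', h⟩
  push Not at hcase
  have huW : ∀ w' ∈ W, hh w' u = 0 := by
    intro w' hw'
    rw [← hform_conj hF, hcase w' hw', zero_pow hq0]
  obtain ⟨y', hy'W, hy'u⟩ := perp_sep hF W u hgw
  set β : F := hh u y' with hβ
  have hνfix : (- hh y' y') ^ q = - hh y' y' := by
    rw [neg_pow_q hF, hform_self_pow hF]
  obtain ⟨t, ht⟩ := exists_tr_eq hF (- hh y' y') hνfix
  set a : F := t / β with ha
  set z : Fin n → F := y' + a • u with hz
  have huu : hh u u = 0 := huX.1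
  have hy'u' : hh y' u = β ^ q := by rw [hβ, hform_conj hF]
  have hzz : hh z z = 0 := by
    rw [hz, hform_add_left, hform_add_right hF, hform_add_right hF, hform_smul_left,
      hform_smul_left, hform_smul_right, hform_smul_right, huu, hy'u', ← hβ]
    have h1 : a * β = t := by rw [ha, div_mul_cancel₀ _ hy'u]
    have h2 : a ^ q * β ^ q = t ^ q := by rw [← mul_pow, h1]
    have h3 : hh y' y' = -(t + t ^ q) := by rw [ht]; ring
    rw [h2, h1, h3]
    ring
  have hzW : ∀ w' ∈ W, hh w' z = 0 := by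
    intro w' hw'
    rw [hz, hform_add_right hF, hform_smul_right, hy'W w' hw', huW w' hw', mul_zero, add_zero]
  have huz : hh u z ≠ 0 := by
    rw [hz, hform_add_right hF, hform_smul_right, huu, mul_zero, add_zero]
    exact hy'u
  have hzX : z ∈ XM q M := perp_sub_XM hF W M hPM z hzz hzW
  refine ⟨g⁻¹.1 *ᵥ z, XM_act hF M g⁻¹ (M.inv_mem hgM) hginv z hzX, w, hw, ?_⟩
  have h1 : hh (g⁻¹.1 *ᵥ z) w = hh z u := by
    rw [← hgiso (g⁻¹.1 *ᵥ z) w, gl_act_inv']
  rw [h1, ← hform_conj hF]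
  exact pow_ne_zero _ huz

theorem all_XM (hF : Fintype.card F = q ^ 2) (W : Submodule F (Fin n → F))
    (hW : Cfsg.Geo.IsTotallySingularFor (Cfsg.hermForm n F q) W) (M : Subgroup GLn)
    (hMI : M ≤ Cfsg.GU n F q ⊓ Cfsg.Geo.specialLinear (Fin n) F)
    (hPM : Cfsg.Geo.subspaceStabilizer W ⊓
      (Cfsg.GU n F q ⊓ Cfsg.Geo.specialLinear (Fin n) F) ≤ M)
    (g : GLn) (hgM : g ∈ M) (hg : g ∉ Cfsg.Geo.subspaceStabilizer W)
    (z : Fin n → F) (hz : hh z z = 0) : z ∈ XM q M := by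
  have hq0 := q_ne_zero' hF
  obtain ⟨x0, hx0, w, hw, hxw⟩ := exists_x0 hF W hW M hMI hPM g hgM hg
  by_cases hzW : ∀ w' ∈ W, hh w' z = 0
  · exact perp_sub_XM hF W M hPM z hz hzW
  push Not at hzW
  obtain ⟨w', hw', hw'z⟩ := hzW
  have hzw' : hh z w' ≠ 0 := by
    rw [← hform_conj hF]; exact pow_ne_zero _ hw'z
  by_cases h1 : hh x0 w' = 0
  · by_cases h2 : hh z w = 0
    · apply step1 hF W hW M hPM x0 hx0 (w + w') (W.add_mem hw hw') _ z hz
      · rw [hform_add_right hF, h2, zero_add]; exact hzw'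
      · rw [hform_add_right hF, h1, add_zero]; exact hxw
    · exact step1 hF W hW M hPM x0 hx0 w hw hxw z hz h2
  · exact step1 hF W hW M hPM x0 hx0 w' hw' h1 z hz hzw'

theorem not_stab (hF : Fintype.card F = q ^ 2) (hn : 3 ≤ n) (W : Submodule F (Fin n → F))
    (hW0 : W ≠ ⊥) (hW : Cfsg.Geo.IsTotallySingularFor (Cfsg.hermForm n F q) W) :
    ∃ g : GLn, g ∈ Cfsg.GU n F q ⊓ Cfsg.Geo.specialLinear (Fin n) F ∧
      g ∉ Cfsg.Geo.subspaceStabilizer W := by
  obtain ⟨w, hw, hw0⟩ := Submodule.exists_mem_ne_zero_of_ne_bot hW0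
  have hww : hh w w = 0 := hW w hw w hw
  obtain ⟨z, hzz, hwz, _⟩ := exists_isotropic_nonorth hF w w hw0 hw0 hww hww
  have hz0 : z ≠ 0 := by
    rintro rfl
    apply hwz
    rw [← hform_conj hF, hform_zero_left, zero_pow (q_ne_zero' hF)]
  obtain ⟨M0, hM0, hdet, hM0w⟩ := exists_SU_map hF hn w z hw0 hz0 hww hzz
  refine ⟨(hM0.isUnit hF).unit, (mem_GUSL_iff _).mpr ⟨hM0, hdet⟩, fun hgs => ?_⟩
  have h1 := stab_maps W _ hgs w hw
  have h2 : ((hM0.isUnit hF).unit : GLn).1 *ᵥ w = z := hM0w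
  rw [h2] at h1
  exact hwz (hW w hw z h1)

end

/-- Let F be the field with q² elements and n ≥ 13, and let SU_n(q) be the group of matrices of determinant one preserving the standard unitary form Σ u_i v_i^q on F^n (the intersection of the unitary group GU_n with the kernel of the determinant). The elements of SU_n(q) stabilising a non-zero subspace on which the form vanishes identically form a maximal subgroup of SU_n(q). -/
theorem result {F : Type*} [Field F] [Fintype F] (n q : ℕ) (hF : Fintype.card F = q ^ 2) (hn : 13 ≤ n) (W : Submodule F (Fin n → F)) (hW0 : W ≠ ⊥) (hW : Cfsg.Geo.IsTotallySingularFor (Cfsg.hermForm n F q) W) : Cfsg.Geo.IsMaximalIn (Cfsg.GU n F q ⊓ Cfsg.Geo.specialLinear (Fin n) F) (Cfsg.Geo.subspaceStabilizer W ⊓ (Cfsg.GU n F q ⊓ Cfsg.Geo.specialLinear (Fin n) F)) := by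
  have h32 : ¬ (n = 3 ∧ q = 2) := by omega
  refine ⟨lt_of_le_of_ne inf_le_right ?_, ?_⟩
  · intro heq
    obtain ⟨g, hg, hgs⟩ := not_stab hF (by omega) W hW0 hW
    rw [← heq] at hg
    exact hgs hg.1
  · intro M hPM hMI
    by_cases hMP : M = Cfsg.Geo.subspaceStabilizer W ⊓
        (Cfsg.GU n F q ⊓ Cfsg.Geo.specialLinear (Fin n) F)
    · exact Or.inl hMP
    right
    have : ∃ g ∈ M, g ∉ Cfsg.Geo.subspaceStabilizer W ⊓
        (Cfsg.GU n F q ⊓ Cfsg.Geo.specialLinear (Fin n) F) := by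
      by_contra hcon
      push Not at hcon
      exact hMP (le_antisymm hcon hPM)
    obtain ⟨g, hgM, hgP⟩ := this
    have hgs : g ∉ Cfsg.Geo.subspaceStabilizer W := fun h => hgP ⟨h, hMI hgM⟩
    exact le_antisymm hMI (le_of_XM hF h32 M (all_XM hF W hW M hMI hPM g hgM hgs))

end Cfsg.Agent.S5653
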