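import Cfsg.Statements.S5657
import Cfsg.Agent.Lib.Helper43.SUPair4

set_option autoImplicit false
open Cfsg

namespace Cfsg.Agent.S5657

/-- Let F be the field with q² elements and n = 2k ≥ 13. Let D be a decomposition of F^n into two complementary subspaces of dimension k on each of which the standard unitary form vanishes identically. Then the elements of SU_n(q) preserving or interchanging the two subspaces form a maximal subgroup of SU_n(q). -/
theorem result {F : Type*} [Field F] [Fintype F] (n q : ℕ) (hF : Fintype.card F = q ^ 2) (hn : 13 ≤ n) (k : ℕ) (hk : 2 * k = n) (D : Fin 2 → Submodule F (Fin n → F)) (hD : Cfsg.Geo.IsMDecomposition k D) (hts : ∀ i, Cfsg.Geo.IsTotallySingularFor (Cfsg.hermForm n F q) (D i)) : Cfsg.Geo.IsMaximalIn (Cfsg.GU n F q ⊓ Cfsg.Geo.specialLinear (Fin n) F) (Cfsg.Geo.decompositionStabilizer D ⊓ (Cfsg.GU n F q ⊓ Cfsg.Geo.specialLinear (Fin n) F)) := by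
  classical
  have hfr0 : Module.finrank F (D 0) = k := hD.finrank_eq 0
  have hfr1 : Module.finrank F (D 1) = k := hD.finrank_eq 1
  have hp : Cfsg.Agent.Lib.Helper43.SUPair.UPair q (D 0) (D 1) := by
    apply Cfsg.Agent.Lib.Helper43.SUPair.UPair.of_disjoint_sup (hts 0) (hts 1)
    · exact hD.indep.pairwiseDisjoint (by decide)
    · apply le_antisymm le_top
      rw [← hD.iSup_eq_top]
      apply iSup_le
      intro i
      fin_cases i
      · exact le_sup_left
      · exact le_sup_right
  exact Cfsg.Agent.Lib.Helper43.SUPair.pair_maximal_geo hF (by omega) D hp k hfr0 hfr1 (by omega)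

end Cfsg.Agent.S5657
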