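import Cfsg.Statements.S5667
import Cfsg.Agent.Lib.Helper11.SymF3
import Cfsg.Agent.Lib.Helper11.TensorPlumb
import Cfsg.Agent.Lib.Helper11.SpMax

set_option autoImplicit false
set_option linter.unusedSectionVars false
open Cfsg

namespace Cfsg.Agent.S5667

open Cfsg.Agent.Lib.Helper18 Cfsg.Agent.Lib.Helper11.SpPerfect Cfsg.Agent.Lib.Helper11.SpMax
open Cfsg.Agent.Lib.Helper11.SymF3 Cfsg.Agent.Lib.Helper11.TensorPlumb Matrix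
open scoped Kronecker

section
variable {F : Type*} [Field F] [Fintype F] (m : ℕ) {n₁ : ℕ}

local notation "V" => (Fin m ⊕ Fin m → F)
local notation "ff" => Cfsg.sympForm m F
local notation "GLm" => Matrix.GeneralLinearGroup (Fin m ⊕ Fin m) F

/-- pure tensors whose second factor has norm `δ` -/
def Lam (e : (Fin m ⊕ Fin m) ≃ Fin n₁ × Fin 3) (P : GLm)
    (f₂ : (Fin 3 → F) → (Fin 3 → F) → F) (δ : F) : Set V :=
  {v | ∃ (x : Fin n₁ → F) (y : Fin 3 → F), v = tau e P (pt x y) ∧ f₂ y y = δ}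

/-- the overgroup -/
def KK (e : (Fin m ⊕ Fin m) ≃ Fin n₁ × Fin 3) (P : GLm)
    (f₂ : (Fin 3 → F) → (Fin 3 → F) → F) (δ : F) : Subgroup GLm where
  carrier := {g | g ∈ Cfsg.spGL m F ∧ ∀ v : V, g.1 *ᵥ v ∈ Lam m e P f₂ δ ↔ v ∈ Lam m e P f₂ δ}
  one_mem' := ⟨Subgroup.one_mem _, fun v => by rw [Units.val_one, Matrix.one_mulVec]⟩
  mul_mem' := fun {a b} ha hb =>
    ⟨Subgroup.mul_mem _ ha.1 hb.1, fun v => by rw [gl_mul_act, ha.2, hb.2]⟩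
  inv_mem' := fun {a} ha => ⟨Subgroup.inv_mem _ ha.1, fun v => by
    have := ha.2 (a⁻¹.1 *ᵥ v)
    rw [gl_act_inv] at this
    exact this.symm⟩

theorem KK_le (e : (Fin m ⊕ Fin m) ≃ Fin n₁ × Fin 3) (P : GLm)
    (f₂ : (Fin 3 → F) → (Fin 3 → F) → F) (δ : F) : KK m e P f₂ δ ≤ Cfsg.spGL m F :=
  fun _ hg => hg.1

theorem Phi_pt (e : (Fin m ⊕ Fin m) ≃ Fin n₁ × Fin 3) (P : GLm)
    (f₁ : (Fin n₁ → F) → (Fin n₁ → F) → F) (f₂ : (Fin 3 → F) → (Fin 3 → F) → F)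
    (hf₁ : Cfsg.Geo.IsSymplecticForm f₁) (hf₂ : Cfsg.Geo.IsSymmetricForm f₂) (c : F)
    (hT : ∀ x y : Fin n₁ × Fin 3 → F, ff (P.1 *ᵥ (x ∘ e)) (P.1 *ᵥ (y ∘ e)) =
      c * Cfsg.Geo.formOfGram id (Cfsg.Geo.gramMatrix f₁ ⊗ₖ Cfsg.Geo.gramMatrix f₂) x y)
    (x x' : Fin n₁ → F) (y y' : Fin 3 → F) :
    ff (tau e P (pt x y)) (tau e P (pt x' y')) = c * (f₁ x x' * f₂ y y') := by
  have := hT (pt x y) (pt x' y')
  rw [gram_pt _ (fun a b => rfl), ← bf_eq_gram f₁ hf₁.bilinear, ← bf_eq_gram f₂ hf₂.bilinear]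
    at this
  exact this

theorem exists_hyp (f₁ : (Fin n₁ → F) → (Fin n₁ → F) → F)
    (hf₁ : Cfsg.Geo.IsSymplecticForm f₁) (hn₁ : 1 ≤ n₁) :
    ∃ z w : Fin n₁ → F, f₁ z w = 1 ∧ f₁ w z = -1 ∧ f₁ z z = 0 := by
  have hw0 : (Pi.single (⟨0, by omega⟩ : Fin n₁) (1 : F) : Fin n₁ → F) ≠ 0 := by
    intro h
    have := congrFun h ⟨0, by omega⟩
    simp at this
  obtain ⟨x, hx⟩ := (hf₁.nondegenerate _ hw0).1
  refine ⟨(f₁ x (Pi.single (⟨0, by omega⟩ : Fin n₁) (1 : F)))⁻¹ • x, Pi.single ⟨0, by omega⟩ 1,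
    ?_, ?_, hf₁.alternating _⟩
  · rw [hf₁.bilinear.smul_left, inv_mul_cancel₀ hx]
  · rw [hf₁.skew, hf₁.bilinear.smul_left, inv_mul_cancel₀ hx]


theorem tens_fwd (hF : Fintype.card F = 3) (e : (Fin m ⊕ Fin m) ≃ Fin n₁ × Fin 3) (P : GLm)
    (f₁ : (Fin n₁ → F) → (Fin n₁ → F) → F) (f₂ : (Fin 3 → F) → (Fin 3 → F) → F)
    (hf₁ : Cfsg.Geo.IsSymplecticForm f₁) (hf₂ : Cfsg.Geo.IsSymmetricForm f₂) (c : F)
    (hc : c ≠ 0)
    (hΦ : ∀ (x x' : Fin n₁ → F) (y y' : Fin 3 → F),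
      ff (tau e P (pt x y)) (tau e P (pt x' y')) = c * (f₁ x x' * f₂ y y'))
    (hn₁ : 1 ≤ n₁) (R : Frame f₂) (g : GLm)
    (hg : g ∈ Cfsg.Geo.tensorProductSubgroup n₁ 3 e P ⊓ Cfsg.spGL m F) (v : V)
    (hv : v ∈ Lam m e P f₂ R.δ) : g.1 *ᵥ v ∈ Lam m e P f₂ R.δ := by
  obtain ⟨x, y, rfl, hy⟩ := hv
  obtain ⟨a, b, hab⟩ := mem_tensor e P g hg.1
  obtain ⟨z, w, hzw, -, -⟩ := exists_hyp f₁ hf₁ hn₁
  have hsp := (mem_spGL_iff m g).mp hg.2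
  have hsim : ∀ y y', f₁ (a.1 *ᵥ z) (a.1 *ᵥ w) * f₂ (b.1 *ᵥ y) (b.1 *ᵥ y') = f₂ y y' := by
    intro y y'
    have h1 := hsp (tau e P (pt z y)) (tau e P (pt w y'))
    rw [hab, hab, kron_pt, kron_pt, hΦ, hΦ, hzw, one_mul] at h1
    exact mul_left_cancel₀ hc h1
  have hμ : f₁ (a.1 *ᵥ z) (a.1 *ᵥ w) ≠ 0 := by
    intro h0
    have := hsim R.e₁ R.e₁
    rw [h0, zero_mul, R.h11] at this
    exact R.hδ this.symm
  have hsim' : ∀ y y', f₂ (b.1 *ᵥ y) (b.1 *ᵥ y') = (f₁ (a.1 *ᵥ z) (a.1 *ᵥ w))⁻¹ * f₂ y y' := by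
    intro y y'
    rw [← hsim y y', ← mul_assoc, inv_mul_cancel₀ hμ, one_mul]
  have hone : (f₁ (a.1 *ᵥ z) (a.1 *ᵥ w))⁻¹ = 1 := by
    rcases R.sim_one hF hf₂ (by simp) b.1 _ hsim' with h | h
    · exact absurd h (inv_ne_zero hμ)
    · exact h
  refine ⟨a.1 *ᵥ x, b.1 *ᵥ y, ?_, ?_⟩
  · rw [hab, kron_pt]
  · rw [hsim', hone, one_mul, hy]

theorem tens_le_KK (hF : Fintype.card F = 3) (e : (Fin m ⊕ Fin m) ≃ Fin n₁ × Fin 3) (P : GLm)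
    (f₁ : (Fin n₁ → F) → (Fin n₁ → F) → F) (f₂ : (Fin 3 → F) → (Fin 3 → F) → F)
    (hf₁ : Cfsg.Geo.IsSymplecticForm f₁) (hf₂ : Cfsg.Geo.IsSymmetricForm f₂) (c : F)
    (hc : c ≠ 0)
    (hΦ : ∀ (x x' : Fin n₁ → F) (y y' : Fin 3 → F),
      ff (tau e P (pt x y)) (tau e P (pt x' y')) = c * (f₁ x x' * f₂ y y'))
    (hn₁ : 1 ≤ n₁) (R : Frame f₂) :
    Cfsg.Geo.tensorProductSubgroup n₁ 3 e P ⊓ Cfsg.spGL m F ≤ KK m e P f₂ R.δ := by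
  intro g hg
  refine ⟨hg.2, fun v => ⟨fun h => ?_,
    fun h => tens_fwd m hF e P f₁ f₂ hf₁ hf₂ c hc hΦ hn₁ R g hg v h⟩⟩
  have := tens_fwd m hF e P f₁ f₂ hf₁ hf₂ c hc hΦ hn₁ R g⁻¹ (Subgroup.inv_mem _ hg) _ h
  rwa [gl_inv_act] at this

theorem wit2 (hF : Fintype.card F = 3) (e : (Fin m ⊕ Fin m) ≃ Fin n₁ × Fin 3) (P : GLm)
    (f₁ : (Fin n₁ → F) → (Fin n₁ → F) → F) (f₂ : (Fin 3 → F) → (Fin 3 → F) → F)
    (hf₁ : Cfsg.Geo.IsSymplecticForm f₁) (hf₂ : Cfsg.Geo.IsSymmetricForm f₂) (c : F)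
    (hc : c ≠ 0)
    (hΦ : ∀ (x x' : Fin n₁ → F) (y y' : Fin 3 → F),
      ff (tau e P (pt x y)) (tau e P (pt x' y')) = c * (f₁ x x' * f₂ y y'))
    (hn₁ : 1 ≤ n₁) (R : Frame f₂) :
    ∃ g ∈ KK m e P f₂ R.δ, g ∉ Cfsg.Geo.tensorProductSubgroup n₁ 3 e P := by
  have hb₁ := hf₁.bilinear
  have hb₂ := hf₂.bilinear
  have hdd := R.dd hF
  obtain ⟨z, w, hzw, hwz, hzz⟩ := exists_hyp f₁ hf₁ hn₁
  obtain ⟨u, hu⟩ : ∃ u, u = tau e P (pt w R.e₁) := ⟨_, rfl⟩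
  have hfix2 : ∀ (l : F) x, (tg m u l).1 *ᵥ tau e P (pt x R.e₂) = tau e P (pt x R.e₂) := by
    intro l x
    rw [tg_act, hu, hΦ, R.h21 hf₂, mul_zero, mul_zero, mul_zero, zero_smul, add_zero]
  have hfix3 : ∀ (l : F) x, (tg m u l).1 *ᵥ tau e P (pt x R.e₃) = tau e P (pt x R.e₃) := by
    intro l x
    rw [tg_act, hu, hΦ, R.h31 hf₂, mul_zero, mul_zero, mul_zero, zero_smul, add_zero]
  have hmove : ∀ (l : F) x, (tg m u l).1 *ᵥ tau e P (pt x R.e₁) =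
      tau e P (pt (x + (l * (c * (f₁ x w * R.δ))) • w) R.e₁) := by
    intro l x
    rw [tg_act, hu, hΦ, R.h11, pt_add_left, pt_smul_left, tau_add, tau_smul]
  have hfwd : ∀ (l : F), ∀ v ∈ Lam m e P f₂ R.δ, (tg m u l).1 *ᵥ v ∈ Lam m e P f₂ R.δ := by
    rintro l v ⟨x, y, rfl, hy⟩
    rcases R.norm_cases hF hf₂ (by simp) y hy with ⟨s, rfl⟩ | ⟨s, rfl⟩ | ⟨s, rfl⟩
    · rw [pt_smul_right, ← pt_smul_left, hmove]
      exact ⟨_, _, rfl, R.h11⟩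
    · rw [pt_smul_right, ← pt_smul_left, hfix2]
      exact ⟨_, _, rfl, R.h22⟩
    · rw [pt_smul_right, ← pt_smul_left, hfix3]
      exact ⟨_, _, rfl, R.h33⟩
  have hinv : ∀ v : V, (tg m u (-1)).1 *ᵥ ((tg m u 1).1 *ᵥ v) = v := by
    intro v
    rw [tg_act, tg_act, sf_add_left, sf_smul_left, sf_self, mul_zero, add_zero, one_mul,
      add_assoc, ← add_smul]
    have : ff v u + -1 * ff v u = 0 := by ring
    rw [this, zero_smul, add_zero]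
  refine ⟨tg m u 1, ⟨tg_mem m u 1, fun v => ⟨fun h => ?_, hfwd 1 v⟩⟩, ?_⟩
  · have := hfwd (-1) _ h
    rwa [hinv] at this
  · intro hT
    obtain ⟨a, b, hab⟩ := mem_tensor e P _ hT
    have E2 : ∀ x x', f₁ (a.1 *ᵥ x) x' * f₂ (b.1 *ᵥ R.e₂) R.e₂ = f₁ x x' * R.δ := by
      intro x x'
      have h1 := hab (pt x R.e₂)
      rw [hfix2, kron_pt] at h1
      have h2 := congrArg (fun v => ff v (tau e P (pt x' R.e₂))) h1
      simp only [hΦ, R.h22] at h2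
      exact (mul_left_cancel₀ hc h2).symm
    have E1 : ∀ x x', f₁ (a.1 *ᵥ x) x' * f₂ (b.1 *ᵥ R.e₁) R.e₁ =
        (f₁ x x' + (1 * (c * (f₁ x w * R.δ))) * f₁ w x') * R.δ := by
      intro x x'
      have h1 := hab (pt x R.e₁)
      rw [hmove, kron_pt] at h1
      have h2 := congrArg (fun v => ff v (tau e P (pt x' R.e₁))) h1
      simp only [hΦ, R.h11, hb₁.add_left, hb₁.smul_left] at h2
      exact (mul_left_cancel₀ hc h2).symm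
    have a1 := E2 z w
    have a2 := E2 z z
    have a3 := E1 z z
    rw [hzw, one_mul] at a1
    rw [hzz, zero_mul] at a2
    rw [hzz, hzw, hwz] at a3
    have hβ : f₂ (b.1 *ᵥ R.e₂) R.e₂ ≠ 0 := by
      intro h0
      rw [h0, mul_zero] at a1
      exact R.hδ a1.symm
    have h0 : f₁ (a.1 *ᵥ z) z = 0 := (mul_eq_zero.mp a2).resolve_right hβ
    rw [h0, zero_mul] at a3
    apply hc
    linear_combination a3 - c * hdd

theorem wit1 (hF : Fintype.card F = 3) (e : (Fin m ⊕ Fin m) ≃ Fin n₁ × Fin 3) (P : GLm)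
    (f₁ : (Fin n₁ → F) → (Fin n₁ → F) → F) (f₂ : (Fin 3 → F) → (Fin 3 → F) → F)
    (hf₁ : Cfsg.Geo.IsSymplecticForm f₁) (hf₂ : Cfsg.Geo.IsSymmetricForm f₂) (c : F)
    (hc : c ≠ 0)
    (hΦ : ∀ (x x' : Fin n₁ → F) (y y' : Fin 3 → F),
      ff (tau e P (pt x y)) (tau e P (pt x' y')) = c * (f₁ x x' * f₂ y y'))
    (hn₁ : 1 ≤ n₁) (R : Frame f₂) :
    ∃ g ∈ Cfsg.spGL m F, g ∉ KK m e P f₂ R.δ := by
  have hb₁ := hf₁.bilinear
  have hb₂ := hf₂.bilinear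
  have hdd := R.dd hF
  obtain ⟨z, w, hzw, hwz, hzz⟩ := exists_hyp f₁ hf₁ hn₁
  obtain ⟨u, hu⟩ : ∃ u, u = tau e P (pt w (R.e₁ + R.e₂)) := ⟨_, rfl⟩
  obtain ⟨v, hv⟩ : ∃ v, v = tau e P (pt z R.e₁) := ⟨_, rfl⟩
  have hvL : v ∈ Lam m e P f₂ R.δ := ⟨z, R.e₁, hv, R.h11⟩
  have hvu : ff v u = c * R.δ := by
    rw [hv, hu, hΦ, hzw, hb₂.add_right, R.h11, R.h12, add_zero, one_mul]
  refine ⟨tg m u 1, tg_mem m u 1, fun hK => ?_⟩
  obtain ⟨x'', y'', hxy, hy''⟩ := (hK.2 v).mpr hvL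
  rw [tg_act, hvu, one_mul] at hxy
  have A : ∀ x', c * (f₁ z x' * R.δ) + c * R.δ * (c * (f₁ w x' * R.δ)) =
      c * (f₁ x'' x' * f₂ y'' R.e₁) := by
    intro x'
    have h3 := congrArg (fun t => ff t (tau e P (pt x' R.e₁))) hxy
    simp only [hv, hu, sf_add_left, sf_smul_left, hΦ, hb₂.add_left, R.h11, R.h21 hf₂,
      add_zero] at h3
    exact h3
  have B : ∀ x', c * R.δ * (c * (f₁ w x' * R.δ)) = c * (f₁ x'' x' * f₂ y'' R.e₂) := by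
    intro x'
    have h3 := congrArg (fun t => ff t (tau e P (pt x' R.e₂))) hxy
    simp only [hv, hu, sf_add_left, sf_smul_left, hΦ, hb₂.add_left, R.h12, R.h22,
      zero_add, mul_zero] at h3
    exact h3
  have A1 := A w
  have B1 := B z
  rw [hzw, hf₁.alternating w] at A1
  rw [hwz] at B1
  have hne1 : f₂ y'' R.e₁ ≠ 0 := by
    intro h0
    rw [h0] at A1
    have : c * R.δ = 0 := by linear_combination A1
    exact (mul_ne_zero hc R.hδ) this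
  have hne2 : f₂ y'' R.e₂ ≠ 0 := by
    intro h0
    rw [h0] at B1
    have : c * c = 0 := by linear_combination -B1 - c * c * hdd
    exact hc (mul_self_eq_zero.mp this)
  exact R.norm_ne hF hf₂ (by simp) y'' hne1 hne2 hy''

end

/-- Over the field with 3 elements and for m ≥ 7, suppose the standard alternating form on F^(2m) is similar, through P and e, to the tensor product of a non-degenerate symplectic form f₁ on F^(n₁) and a non-degenerate symmetric bilinear form f₂ on F^3. Then the elements of Sp_2m(3) in the stabiliser of this tensor decomposition form a subgroup that is not maximal: some subgroup lies strictly between it and Sp_2m(3). -/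
theorem result {F : Type*} [Field F] [Fintype F] (m : ℕ) (hm : 7 ≤ m) (hq : Fintype.card F = 3) (n₁ : ℕ) (e : (Fin m ⊕ Fin m) ≃ Fin n₁ × Fin 3) (P : Matrix.GeneralLinearGroup (Fin m ⊕ Fin m) F) (f₁ : (Fin n₁ → F) → (Fin n₁ → F) → F) (f₂ : (Fin 3 → F) → (Fin 3 → F) → F) (hf₁ : Cfsg.Geo.IsSymplecticForm f₁) (hf₂ : Cfsg.Geo.IsSymmetricForm f₂) (hT : Cfsg.Geo.IsTensorFormStructure id (Cfsg.sympForm m F) f₁ f₂ e P) : ∃ K : Subgroup (Matrix.GeneralLinearGroup (Fin m ⊕ Fin m) F), Cfsg.Geo.tensorProductSubgroup n₁ 3 e P ⊓ Cfsg.spGL m F < K ∧ K < Cfsg.spGL m F := by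
  obtain ⟨c, hc, hTc⟩ := hT
  have hcard : m + m = n₁ * 3 := by
    have := Fintype.card_congr e
    simpa using this
  have hn₁ : 1 ≤ n₁ := by omega
  have hΦ := Phi_pt m e P f₁ f₂ hf₁ hf₂ c hTc
  obtain ⟨R⟩ := exists_frame' hq f₂ hf₂ (by simp)
  obtain ⟨g, hg1, hg2⟩ := wit2 m hq e P f₁ f₂ hf₁ hf₂ c hc hΦ hn₁ R
  obtain ⟨g', hg'1, hg'2⟩ := wit1 m hq e P f₁ f₂ hf₁ hf₂ c hc hΦ hn₁ R
  refine ⟨KK m e P f₂ R.δ,
    lt_of_le_of_ne (tens_le_KK m hq e P f₁ f₂ hf₁ hf₂ c hc hΦ hn₁ R) ?_,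
    lt_of_le_of_ne (KK_le m e P f₂ R.δ) ?_⟩
  · intro heq
    rw [← heq] at hg1
    exact hg2 hg1.1
  · intro heq
    rw [← heq] at hg'1
    exact hg'2 hg'1

end Cfsg.Agent.S5667
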