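import Cfsg.Statements.S5671
import Cfsg.Agent.Lib.Helper11.HermF4
import Cfsg.Agent.Lib.Helper11.TensorPlumb

set_option autoImplicit false
set_option linter.unusedSectionVars false
open Cfsg

namespace Cfsg.Agent.S5671

open Cfsg.Agent.Lib.Helper19 Cfsg.Agent.Lib.Helper11.UnitaryTv Cfsg.Agent.S5656
open Cfsg.Agent.Lib.Helper11.HermF4 Cfsg.Agent.Lib.Helper11.TensorPlumb Matrix
open scoped Kronecker

section
variable {F : Type*} [Field F] [Fintype F] (n : ℕ) {n₂ : ℕ}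

local notation "V" => (Fin n → F)
local notation "hh" => Cfsg.hermForm n F 2
local notation "GLn" => Matrix.GeneralLinearGroup (Fin n) F
local notation "II" => (Cfsg.GU n F 2 ⊓ Cfsg.Geo.specialLinear (Fin n) F)

/-- non-isotropic pure tensors -/
def Lam (e : Fin n ≃ Fin 2 × Fin n₂) (P : GLn) : Set V :=
  {v | (∃ (x : Fin 2 → F) (y : Fin n₂ → F), v = tau e P (pt x y)) ∧ hh v v ≠ 0}

/-- the overgroup -/
def KK (e : Fin n ≃ Fin 2 × Fin n₂) (P : GLn) : Subgroup GLn where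
  carrier := {g | g ∈ II ∧ ∀ v : V, g.1 *ᵥ v ∈ Lam n e P ↔ v ∈ Lam n e P}
  one_mem' := ⟨Subgroup.one_mem _, fun v => by rw [Units.val_one, Matrix.one_mulVec]⟩
  mul_mem' := fun {a b} ha hb =>
    ⟨Subgroup.mul_mem _ ha.1 hb.1, fun v => by rw [gl_mul_act, ha.2, hb.2]⟩
  inv_mem' := fun {a} ha => ⟨Subgroup.inv_mem _ ha.1, fun v => by
    have := ha.2 (a⁻¹.1 *ᵥ v)
    rw [gl_act_inv] at this
    exact this.symm⟩

theorem KK_le (e : Fin n ≃ Fin 2 × Fin n₂) (P : GLn) : KK n e P ≤ II := fun _ hg => hg.1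

theorem tens_fwd (e : Fin n ≃ Fin 2 × Fin n₂) (P : GLn) (g : GLn)
    (hg : g ∈ Cfsg.Geo.tensorProductSubgroup 2 n₂ e P ⊓ II) (v : V) (hv : v ∈ Lam n e P) :
    g.1 *ᵥ v ∈ Lam n e P := by
  obtain ⟨⟨x, y, rfl⟩, hne⟩ := hv
  obtain ⟨a, b, hab⟩ := mem_tensor e P g hg.1
  refine ⟨⟨a.1 *ᵥ x, b.1 *ᵥ y, ?_⟩, ?_⟩
  · rw [hab, kron_pt]
  · rw [(mem_GU_iff n g).mp hg.2.1]
    exact hne

theorem tens_le_KK (e : Fin n ≃ Fin 2 × Fin n₂) (P : GLn) :
    Cfsg.Geo.tensorProductSubgroup 2 n₂ e P ⊓ II ≤ KK n e P := by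
  intro g hg
  refine ⟨hg.2, fun v => ⟨fun h => ?_, fun h => tens_fwd n e P g hg v h⟩⟩
  have := tens_fwd n e P g⁻¹ (Subgroup.inv_mem _ hg) _ h
  rwa [gl_inv_act] at this


theorem Phi_pt (hF : Fintype.card F = 4) (e : Fin n ≃ Fin 2 × Fin n₂) (P : GLn)
    (f₁ : (Fin 2 → F) → (Fin 2 → F) → F) (f₂ : (Fin n₂ → F) → (Fin n₂ → F) → F)
    (hf₁ : Cfsg.Geo.IsUnitaryFormPow 2 f₁) (hf₂ : Cfsg.Geo.IsUnitaryFormPow 2 f₂) (c : F)
    (hT : ∀ x y : Fin 2 × Fin n₂ → F, hh (P.1 *ᵥ (x ∘ e)) (P.1 *ᵥ (y ∘ e)) =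
      c * Cfsg.Geo.formOfGram (fun t : F => t ^ 2)
        (Cfsg.Geo.gramMatrix f₁ ⊗ₖ Cfsg.Geo.gramMatrix f₂) x y)
    (x x' : Fin 2 → F) (y y' : Fin n₂ → F) :
    hh (tau e P (pt x y)) (tau e P (pt x' y')) = c * (f₁ x x' * f₂ y y') := by
  have := hT (pt x y) (pt x' y')
  rw [gram_pt _ (fun a b => mul_pow a b 2), ← uf_eq_gram hF f₁ hf₁, ← uf_eq_gram hF f₂ hf₂] at this
  exact this

theorem wit2 (hF : Fintype.card F = 4) (e : Fin n ≃ Fin 2 × Fin n₂) (P : GLn)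
    (f₁ : (Fin 2 → F) → (Fin 2 → F) → F) (f₂ : (Fin n₂ → F) → (Fin n₂ → F) → F)
    (hf₁ : Cfsg.Geo.IsUnitaryFormPow 2 f₁) (hf₂ : Cfsg.Geo.IsUnitaryFormPow 2 f₂) (c : F)
    (hc : c ≠ 0)
    (hΦ : ∀ (x x' : Fin 2 → F) (y y' : Fin n₂ → F),
      hh (tau e P (pt x y)) (tau e P (pt x' y')) = c * (f₁ x x' * f₂ y y'))
    (hn₂ : 3 ≤ n₂) : ∃ g ∈ KK n e P, g ∉ Cfsg.Geo.tensorProductSubgroup 2 n₂ e P := by
  obtain ⟨e₁, e₂, h11, h22, h12, h21⟩ := exists_on2 hF f₁ hf₁ (by simp)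
  have hspan := span_on2 f₁ hf₁ (by simp) e₁ e₂ h11 h22 h12 h21
  obtain ⟨y₁, y₂, y₃, k11, k22, k33, k12, k21, k13, k31, k23, k32⟩ :=
    exists_on3 hF f₂ hf₂ (by simpa using hn₂)
  obtain ⟨w, hw⟩ : ∃ w, w = y₁ + y₂ := ⟨_, rfl⟩
  have hww : f₂ w w = 0 := by
    rw [hw, hf₂.add_left, uf_add_right hF f₂ hf₂, uf_add_right hF f₂ hf₂, k11, k22, k12, k21]
    linear_combination two_eq_zero hF
  have hy1w : f₂ y₁ w = 1 := by rw [hw, uf_add_right hF f₂ hf₂, k11, k12, add_zero]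
  have hwy2 : f₂ w y₂ = 1 := by rw [hw, hf₂.add_left, k12, k22, zero_add]
  obtain ⟨u, hu⟩ : ∃ u, u = tau e P (pt e₁ w) := ⟨_, rfl⟩
  have huu : hh u u = 0 := by rw [hu, hΦ, hww, mul_zero, mul_zero]
  have hfix : ∀ y, (gt n u).1 *ᵥ tau e P (pt e₂ y) = tau e P (pt e₂ y) := by
    intro y
    rw [gt_act n hF u huu, hu, hΦ, h21, zero_mul, mul_zero, zero_smul, add_zero]
  have hmove : ∀ y, (gt n u).1 *ᵥ tau e P (pt e₁ y) =
      tau e P (pt e₁ (y + (c * f₂ y w) • w)) := by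
    intro y
    rw [gt_act n hF u huu, hu, hΦ, h11, one_mul, pt_add_right, pt_smul_right, tau_add, tau_smul]
  have hfwd : ∀ v ∈ Lam n e P, (gt n u).1 *ᵥ v ∈ Lam n e P := by
    rintro v ⟨⟨x, y, rfl⟩, hne⟩
    obtain ⟨α, β, rfl⟩ := hspan x
    have hgu := (mem_GU_iff n (gt n u)).mp (gt_mem n u).1
    refine ⟨?_, by rw [hgu]; exact hne⟩
    rw [hΦ] at hne
    have hx : f₁ (α • e₁ + β • e₂) (α • e₁ + β • e₂) = α * α ^ 2 + β * β ^ 2 := by
      simp only [hf₁.add_left, hf₁.smul_left, uf_add_right hF f₁ hf₁, uf_smul_right f₁ hf₁, h11,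
        h22, h12, h21]
      ring
    by_cases hα : α = 0
    · subst hα
      rw [zero_smul, zero_add, pt_smul_left, ← pt_smul_right, hfix]
      exact ⟨_, _, rfl⟩
    · by_cases hβ : β = 0
      · subst hβ
        rw [zero_smul, add_zero, pt_smul_left, ← pt_smul_right, hmove]
        exact ⟨_, _, rfl⟩
      · exfalso
        apply hne
        rw [hx, cube_eq_one hF α hα, cube_eq_one hF β hβ, add_self hF, zero_mul, mul_zero]
  refine ⟨gt n u, ⟨gt_mem n u, fun v => ⟨fun h => ?_, hfwd v⟩⟩, ?_⟩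
  · have := hfwd _ h
    rwa [gt_gt n hF u huu] at this
  · intro hT
    obtain ⟨a, b, hab⟩ := mem_tensor e P _ hT
    have E1 : ∀ y y', f₁ (a.1 *ᵥ e₂) e₂ * f₂ (b.1 *ᵥ y) y' = f₂ y y' := by
      intro y y'
      have h1 := hab (pt e₂ y)
      rw [hfix, kron_pt] at h1
      have h2 := congrArg (fun v => hh v (tau e P (pt e₂ y'))) h1
      simp only [hΦ, h22, one_mul] at h2
      exact (mul_left_cancel₀ hc h2).symm
    have E2 : ∀ y y', f₁ (a.1 *ᵥ e₁) e₁ * f₂ (b.1 *ᵥ y) y' =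
        f₂ y y' + c * f₂ y w * f₂ w y' := by
      intro y y'
      have h1 := hab (pt e₁ y)
      rw [hmove, kron_pt] at h1
      have h2 := congrArg (fun v => hh v (tau e P (pt e₁ y'))) h1
      simp only [hΦ, h11, one_mul, hf₂.add_left, hf₂.smul_left] at h2
      exact (mul_left_cancel₀ hc h2).symm
    have a1 := E1 y₁ y₁
    have a2 := E1 y₁ y₂
    have a3 := E2 y₁ y₂
    rw [k11] at a1
    rw [k12] at a2
    rw [k12, hy1w, hwy2] at a3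
    have hl : f₁ (a.1 *ᵥ e₂) e₂ ≠ 0 := by
      intro h0
      rw [h0, zero_mul] at a1
      exact zero_ne_one a1
    have h0 : f₂ (b.1 *ᵥ y₁) y₂ = 0 := (mul_eq_zero.mp a2).resolve_left hl
    rw [h0, mul_zero] at a3
    apply hc
    linear_combination -a3

theorem wit1 (hF : Fintype.card F = 4) (e : Fin n ≃ Fin 2 × Fin n₂) (P : GLn)
    (f₁ : (Fin 2 → F) → (Fin 2 → F) → F) (f₂ : (Fin n₂ → F) → (Fin n₂ → F) → F)
    (hf₁ : Cfsg.Geo.IsUnitaryFormPow 2 f₁) (hf₂ : Cfsg.Geo.IsUnitaryFormPow 2 f₂) (c : F)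
    (hc : c ≠ 0)
    (hΦ : ∀ (x x' : Fin 2 → F) (y y' : Fin n₂ → F),
      hh (tau e P (pt x y)) (tau e P (pt x' y')) = c * (f₁ x x' * f₂ y y'))
    (hn₂ : 3 ≤ n₂) : ∃ g ∈ II, g ∉ KK n e P := by
  have hF2 := card_sq hF
  have h2 := two_eq_zero hF
  obtain ⟨e₁, e₂, h11, h22, h12, h21⟩ := exists_on2 hF f₁ hf₁ (by simp)
  obtain ⟨y₁, y₂, y₃, k11, k22, k33, k12, k21, k13, k31, k23, k32⟩ :=
    exists_on3 hF f₂ hf₂ (by simpa using hn₂)
  obtain ⟨s, hs⟩ : ∃ s, s = y₁ + y₂ + y₃ := ⟨_, rfl⟩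
  have hs1 : f₂ s y₁ = 1 := by
    rw [hs, hf₂.add_left, hf₂.add_left, k11, k21, k31, add_zero, add_zero]
  have hs3 : f₂ s y₃ = 1 := by
    rw [hs, hf₂.add_left, hf₂.add_left, k13, k23, k33, zero_add, zero_add]
  have hss : f₂ s s = 1 := by
    have e1 : f₂ s s = f₂ s y₁ + f₂ s y₂ + f₂ s y₃ := by
      conv_lhs => rw [hs, uf_add_right hF f₂ hf₂, uf_add_right hF f₂ hf₂, ← hs]
    have hs2 : f₂ s y₂ = 1 := by
      rw [hs, hf₂.add_left, hf₂.add_left, k12, k22, k32, zero_add, add_zero]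
    rw [e1, hs1, hs2, hs3]
    linear_combination h2
  obtain ⟨u, hu⟩ : ∃ u, u = tau e P (pt e₁ y₁) + tau e P (pt e₂ y₂) := ⟨_, rfl⟩
  have huu : hh u u = 0 := by
    rw [hu, hermForm_add_left, hermForm_add_right hF2, hermForm_add_right hF2]
    simp only [hΦ, h11, h22, h12, h21, k11, k22]
    linear_combination c * h2
  obtain ⟨v, hv⟩ : ∃ v, v = tau e P (pt e₁ s) := ⟨_, rfl⟩
  have hvL : v ∈ Lam n e P := by
    refine ⟨⟨e₁, s, hv⟩, ?_⟩
    rw [hv, hΦ, h11, hss, mul_one, mul_one]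
    exact hc
  have hvu : hh v u = c := by
    rw [hv, hu, hermForm_add_right hF2, hΦ, hΦ, h11, h12, hs1]
    ring
  refine ⟨gt n u, gt_mem n u, fun hK => ?_⟩
  obtain ⟨⟨x, y, hxy⟩, -⟩ := (hK.2 v).mpr hvL
  rw [gt_act n hF u huu, hvu] at hxy
  have A : ∀ y', c * (f₁ x e₁ * f₂ y y') = c * f₂ s y' + c * (c * f₂ y₁ y') := by
    intro y'
    have h3 := congrArg (fun t => hh t (tau e P (pt e₁ y'))) hxy
    simp only [hv, hu, hermForm_add_left, hermForm_smul_left, hΦ, h11, h21, one_mul, zero_mul,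
      mul_zero, add_zero] at h3
    exact h3.symm
  have B : ∀ y', c * (f₁ x e₂ * f₂ y y') = c * (c * f₂ y₂ y') := by
    intro y'
    have h3 := congrArg (fun t => hh t (tau e P (pt e₂ y'))) hxy
    simp only [hv, hu, hermForm_add_left, hermForm_smul_left, hΦ, h12, h22, one_mul, zero_mul,
      mul_zero, zero_add] at h3
    exact h3.symm
  have A3 := A y₃
  have B3 := B y₃
  have B2 := B y₂
  rw [hs3, k13] at A3
  rw [k23] at B3
  rw [k22] at B2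
  have hy3 : f₂ y y₃ ≠ 0 := by
    intro h0
    rw [h0] at A3
    apply hc
    linear_combination -A3
  have hβ : f₁ x e₂ = 0 := by
    have h4 : c * (f₁ x e₂ * f₂ y y₃) = 0 := by rw [B3]; ring
    rcases mul_eq_zero.mp h4 with h | h
    · exact absurd h hc
    · exact (mul_eq_zero.mp h).resolve_right hy3
  rw [hβ] at B2
  have h5 : c * c = 0 := by linear_combination -B2
  exact hc (mul_self_eq_zero.mp h5)

end

/-- Let F be the field with 4 elements (q = 2) and n = 2 n₂ ≥ 13. Suppose the standard unitary form Σ u_i v_i² on F^n is similar, through P and e, to the tensor product of non-degenerate unitary forms f₁ on F^2 and f₂ on F^(n₂). Then the elements of SU_n(2) in the stabiliser of this tensor decomposition form a subgroup that is not maximal: some subgroup lies strictly between it and SU_n(2). -/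
theorem result {F : Type*} [Field F] [Fintype F] (n : ℕ) (hF : Fintype.card F = 4) (hn : 13 ≤ n) (n₂ : ℕ) (e : Fin n ≃ Fin 2 × Fin n₂) (P : Matrix.GeneralLinearGroup (Fin n) F) (f₁ : (Fin 2 → F) → (Fin 2 → F) → F) (f₂ : (Fin n₂ → F) → (Fin n₂ → F) → F) (hf₁ : Cfsg.Geo.IsUnitaryFormPow 2 f₁) (hf₂ : Cfsg.Geo.IsUnitaryFormPow 2 f₂) (hT : Cfsg.Geo.IsTensorFormStructure (fun x : F => x ^ 2) (Cfsg.hermForm n F 2) f₁ f₂ e P) : ∃ K : Subgroup (Matrix.GeneralLinearGroup (Fin n) F), Cfsg.Geo.tensorProductSubgroup 2 n₂ e P ⊓ (Cfsg.GU n F 2 ⊓ Cfsg.Geo.specialLinear (Fin n) F) < K ∧ K < (Cfsg.GU n F 2 ⊓ Cfsg.Geo.specialLinear (Fin n) F) := by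
  obtain ⟨c, hc, hTc⟩ := hT
  have hcard : n = 2 * n₂ := by
    have := Fintype.card_congr e
    simpa using this
  have hn₂ : 3 ≤ n₂ := by omega
  have hΦ := Phi_pt n hF e P f₁ f₂ hf₁ hf₂ c hTc
  obtain ⟨g, hg1, hg2⟩ := wit2 n hF e P f₁ f₂ hf₁ hf₂ c hc hΦ hn₂
  obtain ⟨g', hg'1, hg'2⟩ := wit1 n hF e P f₁ f₂ hf₁ hf₂ c hc hΦ hn₂
  refine ⟨KK n e P, lt_of_le_of_ne (tens_le_KK n e P) ?_, lt_of_le_of_ne (KK_le n e P) ?_⟩
  · intro heq
    rw [← heq] at hg1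
    exact hg2 hg1.1
  · intro heq
    rw [← heq] at hg'1
    exact hg'2 hg'1

end Cfsg.Agent.S5671
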