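import Cfsg.Statements.S5675
import Cfsg.Agent.Lib.Helper43.OmegaNondeg7
import Cfsg.Agent.Lib.Helper43.OmegaSimpleModels

set_option autoImplicit false
open Cfsg

namespace Cfsg.Agent.S5675

/-- Let F be a finite field of odd order q, m ≥ 6, Q the standard quadratic form on F^(2m+1) and Ω the commutator subgroup of its isometry group. Let W be a non-zero subspace of even dimension on which the polar form of Q is non-degenerate; exclude the case q = 3, dim W = 2 with Q vanishing on some line of W (a plus-type plane). Then the elements of Ω stabilising W (equivalently, stabilising its orthogonal complement, of odd dimension) form a maximal subgroup of Ω. -/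
theorem result {F : Type*} [Field F] [Fintype F] (hodd : Odd (Fintype.card F)) (m : ℕ) (hm : 6 ≤ m) (W : Submodule F (Unit ⊕ (Fin m ⊕ Fin m) → F)) (hW0 : W ≠ ⊥) (hev : Even (Module.finrank F W)) (hW : Cfsg.Geo.IsNondegenerateOn (QuadraticMap.polar (Cfsg.quadFormOdd m F)) W) (hex : ¬ (Fintype.card F = 3 ∧ Module.finrank F W = 2 ∧ Cfsg.Geo.IsPlusTypeOn (Cfsg.quadFormOdd m F) W)) : Cfsg.Geo.IsMaximalIn (Cfsg.Geo.omegaGL (Cfsg.quadFormOdd m F)) (Cfsg.Geo.subspaceStabilizer W ⊓ Cfsg.Geo.omegaGL (Cfsg.quadFormOdd m F)) := by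
  classical
  have h2 := Cfsg.Agent.Lib.Helper43.two_ne_zero_of_odd_card43 hodd
  have hQ' := (Cfsg.Agent.Lib.Helper43.qdataOdd43 m h2).qf_nondeg
  have hcardι : Fintype.card (Unit ⊕ (Fin m ⊕ Fin m)) = 2 * m + 1 := by
    rw [Fintype.card_sum, Fintype.card_sum, Fintype.card_fin, Fintype.card_unit]; omega
  have hcard7 : 7 ≤ Fintype.card (Unit ⊕ (Fin m ⊕ Fin m)) := by rw [hcardι]; omega
  have hdW : Disjoint W (Cfsg.Agent.Lib.Helper43.orthC (Cfsg.Agent.Lib.Helper43.qdataOdd43 m h2).qf W) :=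
    Cfsg.Agent.Lib.Helper43.disjoint_of_isNondegenerateOn
      (Cfsg.Agent.Lib.Helper43.qdataOdd43 m h2).qf W hW
  have hsum := Cfsg.Agent.Lib.Helper43.finrank_add_finrank_orthC
    (Cfsg.Agent.Lib.Helper43.qdataOdd43 m h2).qf hQ' W
  rw [hcardι] at hsum
  have hoo := Cfsg.Agent.Lib.Helper43.orthC_orthC (Cfsg.Agent.Lib.Helper43.qdataOdd43 m h2).qf hQ' W
  have hWpos : 0 < Module.finrank F W := by
    rw [Module.finrank_pos_iff_exists_ne_zero]
    obtain ⟨w, hw, hw0⟩ := (Submodule.ne_bot_iff W).1 hW0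
    exact ⟨⟨w, hw⟩, fun h => hw0 (congrArg Subtype.val h)⟩
  obtain ⟨r, hr⟩ := hev
  by_cases hlt : Module.finrank F
      (Cfsg.Agent.Lib.Helper43.orthC (Cfsg.Agent.Lib.Helper43.qdataOdd43 m h2).qf W)
      < Module.finrank F W
  · have h := Cfsg.Agent.Lib.Helper43.nondeg_maximal_geo
      (Cfsg.Agent.Lib.Helper43.qdataOdd43 m h2).qf hQ'
      hcard7 W W (Or.inl rfl) hdW (by omega) ?_
      (Cfsg.Agent.Lib.Helper43.hns_of_finrank_lt (Cfsg.Agent.Lib.Helper43.qdataOdd43 m h2).qf W hlt) ?_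
    · exact h
    · intro hbot
      rw [hbot, finrank_bot] at hsum
      omega
    · rintro - ⟨h2', -⟩
      omega
  · have hlt' : Module.finrank F W < Module.finrank F
        (Cfsg.Agent.Lib.Helper43.orthC (Cfsg.Agent.Lib.Helper43.qdataOdd43 m h2).qf W) := by
      omega
    have h := Cfsg.Agent.Lib.Helper43.nondeg_maximal_geo
      (Cfsg.Agent.Lib.Helper43.qdataOdd43 m h2).qf hQ'
      hcard7 W (Cfsg.Agent.Lib.Helper43.orthC (Cfsg.Agent.Lib.Helper43.qdataOdd43 m h2).qf W)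
      (Or.inr rfl)
      (Cfsg.Agent.Lib.Helper43.disjoint_orthC_orthC _ hQ' W hdW) (by omega) ?_
      (Cfsg.Agent.Lib.Helper43.hns_of_finrank_lt (Cfsg.Agent.Lib.Helper43.qdataOdd43 m h2).qf _
        (by rw [hoo]; exact hlt')) ?_
    · exact h
    · rw [hoo]
      exact hW0
    · rw [hoo]
      rintro hcard3 ⟨h2', z, hz, hz0, hzQ⟩
      apply hex
      have hc1 : 1 < Fintype.card F := Fintype.one_lt_card
      obtain ⟨t, ht⟩ := hodd
      refine ⟨by omega, h2', ?_⟩
      exact Cfsg.Agent.Lib.Helper43.isPlusTypeOn_of_singular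
        (Cfsg.Agent.Lib.Helper43.qdataOdd43 m h2).qf W h2' z hz hz0 hzQ

end Cfsg.Agent.S5675
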