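import Mathlib
import Cfsg.Statements.S5683
import Cfsg.Agent.Lib.Helper48.OSub.Reduce
-- import your own Cfsg.Agent.* helpers here

set_option autoImplicit false
open Cfsg

namespace Cfsg.Agent.S5683

/-- Let F be a finite field of odd order, m ≥ 6, Q the standard quadratic form on F^(2m+1) and Ω the commutator subgroup of its isometry group. Let F₀ be a subfield with |F| = |F₀| ^ r for a prime r and P an invertible matrix such that Q takes values in F₀ on the F₀-span of the columns of P. Then the elements of Ω lying in the subfield group of P (the conjugate by P of the product of GL_(2m+1)(F₀) with the scalars) form a maximal subgroup of Ω. -/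
theorem result {F : Type*} [Field F] [Fintype F] (hodd : Odd (Fintype.card F)) (m : ℕ) (hm : 6 ≤ m) (F₀ : Subfield F) (r : ℕ) (hr : r.Prime) (hcard : Fintype.card F = Nat.card F₀ ^ r) (P : Matrix.GeneralLinearGroup (Unit ⊕ (Fin m ⊕ Fin m)) F) (hP : Cfsg.Geo.IsQuadFormRationalStructure (Cfsg.quadFormOdd m F) F₀ P) : Cfsg.Geo.IsMaximalIn (Cfsg.Geo.omegaGL (Cfsg.quadFormOdd m F)) (Cfsg.Geo.subfieldSubgroup F₀ P ⊓ Cfsg.Geo.omegaGL (Cfsg.quadFormOdd m F)) := by
  classical
  have h2 : (2 : F) ≠ 0 := Cfsg.Agent.Lib.Helper43.two_ne_zero_of_odd_card43 hodd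
  obtain ⟨N, c, hN0, hc, hsim⟩ := Cfsg.Agent.Lib.Helper48.OSub.exists_normal_form h2 F₀ P hP
  have hstd := Cfsg.Agent.Lib.Helper48.OSub.maximal_std (m := m) h2 hm F₀ r hr hcard
  have hSmap := Cfsg.Agent.Lib.Helper48.OSub.omegaGL_map_conj (Cfsg.quadFormOdd m F) (P * N) c hc hsim
  have h1 := Cfsg.Agent.Lib.Helper48.SpSub.isMaximalIn_map_conj' _ _ (P * N) hSmap hstd
  have hinj : Function.Injective (MulAut.conj (P * N)).toMonoidHom := (MulAut.conj (P * N)).injective
  rw [Subgroup.map_inf _ _ _ hinj, hSmap] at h1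
  have h3 : (Cfsg.Agent.Lib.Helper48.Subfield.ratUpTo (ι := Unit ⊕ (Fin m ⊕ Fin m)) F₀).map
      (MulAut.conj (P * N)).toMonoidHom = Cfsg.Geo.subfieldSubgroup F₀ P := by
    unfold Cfsg.Geo.subfieldSubgroup
    have h4 : (MulAut.conj (P * N)).toMonoidHom
        = (MulAut.conj P).toMonoidHom.comp (MulAut.conj N).toMonoidHom := by
      ext x
      simp [MulAut.conj_apply, mul_assoc]
    rw [h4, ← Subgroup.map_map,
      Cfsg.Agent.Lib.Helper48.SpSub.map_conj_eq_of_mem _ N
        (Cfsg.Agent.Lib.Helper48.SpSub.G0_le_ratUpTo F₀ hN0),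
      ← Cfsg.Agent.Lib.Helper48.Subfield.sup_eq_ratUpTo]
    rfl
  rw [h3] at h1
  exact h1

end Cfsg.Agent.S5683
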