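import Cfsg.Statements.S5689
import Cfsg.Agent.Lib.Helper43.OmegaNondeg9

set_option autoImplicit false
open Cfsg

namespace Cfsg.Agent.S5689

/-- Let F be a finite field with q elements, n ≥ 13 even, Q a non-degenerate quadratic form on F^n of minus type (no subspace of dimension n/2 is totally singular), and Ω the commutator subgroup of the isometry group of Q, viewed inside GL_n(F). Let W be a non-zero proper subspace on which the polar form of Q is non-degenerate, not of odd dimension n/2. Exclude the case q ≤ 3 in which W, or its orthogonal complement, is a plane containing a line on which Q vanishes. Then the elements of Ω stabilising W form a maximal subgroup of Ω. -/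
theorem result {F : Type*} [Field F] [Fintype F] {n : ℕ} (hn : 13 ≤ n) (heven : Even n) (Q : (Fin n → F) → F) (hQ : Cfsg.Geo.IsNondegenerateQuadraticForm Q) (hminus : ¬ Cfsg.Geo.IsPlusTypeOn Q ⊤) (W : Submodule F (Fin n → F)) (hW0 : W ≠ ⊥) (hW1 : W ≠ ⊤) (hdim : ¬ (2 * Module.finrank F W = n ∧ Odd (Module.finrank F W))) (hW : Cfsg.Geo.IsNondegenerateOn (QuadraticMap.polar Q) W) (hex : ¬ (Fintype.card F ≤ 3 ∧ (∃ U : Submodule F (Fin n → F), Module.finrank F U = 2 ∧ Cfsg.Geo.IsNondegenerateOn (QuadraticMap.polar Q) U ∧ Cfsg.Geo.IsPlusTypeOn Q U ∧ (U = W ∨ (Cfsg.Geo.AreOrthogonalFor (QuadraticMap.polar Q) U W ∧ Module.finrank F U + Module.finrank F W = n))))) : Cfsg.Geo.IsMaximalIn (Cfsg.Geo.omegaGL Q) (Cfsg.Geo.subspaceStabilizer W ⊓ Cfsg.Geo.omegaGL Q) := by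
  classical
  have hQ' := Cfsg.Agent.Lib.Helper43.geoQF_nondegenerate Q hQ
  have hdW : Disjoint W (Cfsg.Agent.Lib.Helper43.orthC (Cfsg.Agent.Lib.Helper43.geoQF Q hQ) W) :=
    Cfsg.Agent.Lib.Helper43.disjoint_of_isNondegenerateOn (Cfsg.Agent.Lib.Helper43.geoQF Q hQ) W hW
  have hsum := Cfsg.Agent.Lib.Helper43.finrank_add_finrank_orthC
    (Cfsg.Agent.Lib.Helper43.geoQF Q hQ) hQ' W
  rw [Fintype.card_fin] at hsum
  have hcard7 : 7 ≤ Fintype.card (Fin n) := by rw [Fintype.card_fin]; omega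
  have hoo := Cfsg.Agent.Lib.Helper43.orthC_orthC (Cfsg.Agent.Lib.Helper43.geoQF Q hQ) hQ' W
  by_cases hhalf : 2 * Module.finrank F W = n
  · have hev : Even (Module.finrank F W) := by
      by_contra h
      exact hdim ⟨hhalf, Nat.not_even_iff_odd.1 h⟩
    have h := Cfsg.Agent.Lib.Helper43.nondeg_maximal_geo (Cfsg.Agent.Lib.Helper43.geoQF Q hQ) hQ'
      hcard7 W W (Or.inl rfl) hdW (by omega) ?_ ?_ ?_
    · exact h
    · intro hbot
      rw [hbot, finrank_bot] at hsum
      omega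
    · intro g hg
      apply hminus
      by_cases h2 : (2 : F) = 0
      · obtain ⟨U, hUts, hUfr⟩ := Cfsg.Agent.Lib.Helper43.exists_ts_double_char_two
          (Cfsg.Agent.Lib.Helper43.geoQF Q hQ) h2 W hdW
          (Cfsg.Agent.Lib.Helper43.lo (Cfsg.Agent.Lib.Helper43.geoQF Q hQ) g)
          (Cfsg.Agent.Lib.Helper43.lo_isometry (Cfsg.Agent.Lib.Helper43.geoQF Q hQ) g) hg
        refine ⟨U, le_top, hUts, ?_⟩
        rw [hUfr, finrank_top, Module.finrank_fin_fun]
        exact hhalf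
      · obtain ⟨r, hr⟩ := hev
        obtain ⟨U, -, hUts, hUfr⟩ := Cfsg.Agent.Lib.Helper43.exists_ts_double
          (Cfsg.Agent.Lib.Helper43.geoQF Q hQ) hQ' h2 W
          (Cfsg.Agent.Lib.Helper43.lo (Cfsg.Agent.Lib.Helper43.geoQF Q hQ) g)
          (Cfsg.Agent.Lib.Helper43.lo_isometry (Cfsg.Agent.Lib.Helper43.geoQF Q hQ) g) hg
          r W le_rfl hdW (by omega)
        refine ⟨U, le_top, hUts, ?_⟩
        rw [hUfr, finrank_top, Module.finrank_fin_fun]
        omega
    · rintro - ⟨h2, -⟩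
      omega
  by_cases hlt : Module.finrank F (Cfsg.Agent.Lib.Helper43.orthC (Cfsg.Agent.Lib.Helper43.geoQF Q hQ) W)
      < Module.finrank F W
  · have h := Cfsg.Agent.Lib.Helper43.nondeg_maximal_geo (Cfsg.Agent.Lib.Helper43.geoQF Q hQ) hQ'
      hcard7 W W (Or.inl rfl) hdW (by omega) ?_
      (Cfsg.Agent.Lib.Helper43.hns_of_finrank_lt (Cfsg.Agent.Lib.Helper43.geoQF Q hQ) W hlt) ?_
    · exact h
    · intro hbot
      apply hW1
      apply Submodule.eq_top_of_finrank_eq
      rw [hbot, finrank_bot] at hsum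
      rw [Module.finrank_fin_fun]
      omega
    · rintro hcard3 ⟨h2, z, hz, hz0, hzQ⟩
      apply hex
      refine ⟨hcard3, Cfsg.Agent.Lib.Helper43.orthC (Cfsg.Agent.Lib.Helper43.geoQF Q hQ) W, h2,
        Cfsg.Agent.Lib.Helper43.isNondegenerateOn_of_disjoint _ _
          (Cfsg.Agent.Lib.Helper43.disjoint_orthC_orthC _ hQ' W hdW),
        Cfsg.Agent.Lib.Helper43.isPlusTypeOn_of_singular _ _ h2 z hz hz0 hzQ, Or.inr ⟨?_, by omega⟩⟩
      intro u hu v hv
      have h1 := (Cfsg.Agent.Lib.Helper43.mem_orthC _ W u).1 hu v hv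
      rw [Cfsg.Agent.Lib.Helper43.polar_symm, QuadraticMap.polarBilin_apply_apply] at h1
      exact h1
  · have hlt' : Module.finrank F W <
        Module.finrank F (Cfsg.Agent.Lib.Helper43.orthC (Cfsg.Agent.Lib.Helper43.geoQF Q hQ) W) := by
      omega
    have h := Cfsg.Agent.Lib.Helper43.nondeg_maximal_geo (Cfsg.Agent.Lib.Helper43.geoQF Q hQ) hQ'
      hcard7 W (Cfsg.Agent.Lib.Helper43.orthC (Cfsg.Agent.Lib.Helper43.geoQF Q hQ) W) (Or.inr rfl)
      (Cfsg.Agent.Lib.Helper43.disjoint_orthC_orthC _ hQ' W hdW) (by omega) ?_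
      (Cfsg.Agent.Lib.Helper43.hns_of_finrank_lt (Cfsg.Agent.Lib.Helper43.geoQF Q hQ) _
        (by rw [hoo]; exact hlt')) ?_
    · exact h
    · rw [hoo]
      exact hW0
    · rw [hoo]
      rintro hcard3 ⟨h2, z, hz, hz0, hzQ⟩
      apply hex
      exact ⟨hcard3, W, h2, hW,
        Cfsg.Agent.Lib.Helper43.isPlusTypeOn_of_singular _ _ h2 z hz hz0 hzQ, Or.inl rfl⟩

end Cfsg.Agent.S5689
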