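import Cfsg.Statements.S5697
import Cfsg.Agent.Lib.Helper43.OmegaPair5

set_option autoImplicit false
open Cfsg

namespace Cfsg.Agent.S5697

/-- Let F be a finite field with q elements, n ≥ 13 even, Q a non-degenerate quadratic form on F^n of plus type (some subspace of dimension n/2 is totally singular), and Ω the commutator subgroup of the isometry group of Q, viewed inside GL_n(F). Suppose n/2 is even and let D be a decomposition of F^n into two complementary subspaces of dimension n/2 on each of which Q vanishes. Then the elements of Ω preserving or interchanging the two subspaces form a maximal subgroup of Ω. -/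
theorem result {F : Type*} [Field F] [Fintype F] {n : ℕ} (hn : 13 ≤ n) (heven : Even n) (Q : (Fin n → F) → F) (hQ : Cfsg.Geo.IsNondegenerateQuadraticForm Q) (hplus : Cfsg.Geo.IsPlusTypeOn Q ⊤) (k : ℕ) (hk : 2 * k = n) (hke : Even k) (D : Fin 2 → Submodule F (Fin n → F)) (hD : Cfsg.Geo.IsMDecomposition k D) (hts : ∀ i, Cfsg.Geo.IsTotallySingularQuad Q (D i)) : Cfsg.Geo.IsMaximalIn (Cfsg.Geo.omegaGL Q) (Cfsg.Geo.decompositionStabilizer D ⊓ Cfsg.Geo.omegaGL Q) := by
  classical
  have hQ' := Cfsg.Agent.Lib.Helper43.geoQF_nondegenerate Q hQ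
  have hcard7 : 7 ≤ Fintype.card (Fin n) := by rw [Fintype.card_fin]; omega
  have hfr0 : Module.finrank F (D 0) = k := hD.finrank_eq 0
  have hfr1 : Module.finrank F (D 1) = k := hD.finrank_eq 1
  obtain ⟨r, hr⟩ := hke
  have hp : Cfsg.Agent.Lib.Helper43.TSPair (Cfsg.Agent.Lib.Helper43.geoQF Q hQ) (D 0) (D 1) := by
    refine ⟨hts 0, hts 1, ?_, ?_⟩
    · exact hD.indep.pairwiseDisjoint (by decide)
    · apply le_antisymm le_top
      rw [← hD.iSup_eq_top]
      apply iSup_le
      intro i
      fin_cases i
      · exact le_sup_left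
      · exact le_sup_right
  exact Cfsg.Agent.Lib.Helper43.pair_maximal_geo (Cfsg.Agent.Lib.Helper43.geoQF Q hQ) hQ' hcard7 D hp r
    (by omega) (by omega) (by omega)

end Cfsg.Agent.S5697
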