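import Cfsg.Statements.S5699
import Cfsg.Agent.Lib.Helper43.OmegaNondeg8

set_option autoImplicit false
open Cfsg

namespace Cfsg.Agent.S5699

/-- Let F be a finite field with q elements, n ≥ 13 even, Q a non-degenerate quadratic form on F^n (of either type), and Ω the commutator subgroup of the isometry group of Q, viewed inside GL_n(F). Let D be a decomposition of F^n into two orthogonal subspaces of odd dimension n/2 on which the polar form is non-degenerate and which are not Q-isometric to each other. Then the elements of Ω permuting (necessarily fixing) the two subspaces form a maximal subgroup of Ω. -/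
theorem result {F : Type*} [Field F] [Fintype F] {n : ℕ} (hn : 13 ≤ n) (heven : Even n) (Q : (Fin n → F) → F) (hQ : Cfsg.Geo.IsNondegenerateQuadraticForm Q) (k : ℕ) (hk : 2 * k = n) (hko : Odd k) (D : Fin 2 → Submodule F (Fin n → F)) (hD : Cfsg.Geo.IsNondegenerateMDecomposition (QuadraticMap.polar Q) k D) (hni : ¬ Cfsg.Geo.AreIsometricFor Q (D 0) (D 1)) : Cfsg.Geo.IsMaximalIn (Cfsg.Geo.omegaGL Q) (Cfsg.Geo.decompositionStabilizer D ⊓ Cfsg.Geo.omegaGL Q) := by
  classical
  have hQ' := Cfsg.Agent.Lib.Helper43.geoQF_nondegenerate Q hQ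
  have hcard7 : 7 ≤ Fintype.card (Fin n) := by rw [Fintype.card_fin]; omega
  have hfr0 : Module.finrank F (D 0) = k := hD.decomp.finrank_eq 0
  have hfr1 : Module.finrank F (D 1) = k := hD.decomp.finrank_eq 1
  have hsum := Cfsg.Agent.Lib.Helper43.finrank_add_finrank_orthC
    (Cfsg.Agent.Lib.Helper43.geoQF Q hQ) hQ' (D 0)
  rw [Fintype.card_fin] at hsum
  have hle : D 1 ≤ Cfsg.Agent.Lib.Helper43.orthC (Cfsg.Agent.Lib.Helper43.geoQF Q hQ) (D 0) := by
    intro v hv
    rw [Cfsg.Agent.Lib.Helper43.mem_orthC]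
    intro y hy
    exact hD.orthogonal 0 1 (by decide) y hy v hv
  have h1 : D 1 = Cfsg.Agent.Lib.Helper43.orthC (Cfsg.Agent.Lib.Helper43.geoQF Q hQ) (D 0) :=
    Submodule.eq_of_le_of_finrank_eq hle (by omega)
  have hni' : ¬ Cfsg.Geo.AreIsometricFor (⇑(Cfsg.Agent.Lib.Helper43.geoQF Q hQ)) (D 0) (D 1) := hni
  have heq := Cfsg.Agent.Lib.Helper43.decompStab_inf_omegaGL_eq
    (Cfsg.Agent.Lib.Helper43.geoQF Q hQ) hQ' D h1 (by rw [hfr0, hfr1]) hni'
  have hd : Disjoint (D 0)
      (Cfsg.Agent.Lib.Helper43.orthC (Cfsg.Agent.Lib.Helper43.geoQF Q hQ) (D 0)) :=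
    Cfsg.Agent.Lib.Helper43.disjoint_of_isNondegenerateOn _ (D 0) (hD.nondegenerate 0)
  have h := Cfsg.Agent.Lib.Helper43.nondeg_maximal_geo (Cfsg.Agent.Lib.Helper43.geoQF Q hQ) hQ'
    hcard7 (D 0) (D 0) (Or.inl rfl) hd (by omega) ?_ ?_ ?_
  · rw [← heq] at h
    exact h
  · intro hbot
    rw [hbot, finrank_bot] at hsum
    omega
  · intro g hg
    apply hni'
    apply Cfsg.Agent.Lib.Helper43.areIsometricFor_of_map_le _ (D 0) (D 1) g _ (by rw [hfr0, hfr1])
    intro v hv
    rw [h1]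
    exact hg v hv
  · rintro - ⟨h2, -⟩
    omega

end Cfsg.Agent.S5699
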