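import Cfsg.Statements.S5713
import Cfsg.Agent.Lib.Helper53.MinDeg5

set_option autoImplicit false
open Cfsg

namespace Cfsg.Agent.S5713

/-- A classification-free minimal-degree bound. Let G be a finite group acting faithfully and primitively on a finite set Ω with n elements, and suppose that the image of G in the symmetric group on Ω does not contain the alternating group on Ω. Then every non-identity element of G moves at least (√n − 1)/2 points of Ω, that is, it fixes at most n − (√n − 1)/2 points. -/
theorem result {G Ω : Type*} [Group G] [Finite G] [MulAction G Ω] [FaithfulSMul G Ω] [Fintype Ω] [DecidableEq Ω]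
    (hprim : MulAction.IsPreprimitive G Ω)
    (hA : ¬ alternatingGroup Ω ≤ (MulAction.toPermHom G Ω).range)
    (g : G) (hg : g ≠ 1) :
    (Real.sqrt (Fintype.card Ω) - 1) / 2 ≤ (Fintype.card Ω : ℝ) - Nat.card (MulAction.fixedBy Ω g) := by
  classical
  have h := Cfsg.Agent.Lib.Helper53.MinDeg.card_le_four_mul_sq (G := G) (Ω := Ω) hA g hg
  set m := (Finset.univ.filter (fun ω : Ω => g • ω ≠ ω)).card with hm
  have hfix : Nat.card (MulAction.fixedBy Ω g) + m = Fintype.card Ω := by
    have h1 : Nat.card (MulAction.fixedBy Ω g) =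
        (Finset.univ.filter (fun ω : Ω => g • ω = ω)).card := by
      rw [Nat.card_eq_fintype_card, Fintype.card_subtype]
      congr 1
    rw [h1, hm]
    have := Finset.card_filter_add_card_filter_not (s := (Finset.univ : Finset Ω))
      (fun ω : Ω => g • ω = ω)
    rw [Finset.card_univ] at this
    convert this using 2
  have h2 : (Fintype.card Ω : ℝ) - Nat.card (MulAction.fixedBy Ω g) = (m : ℝ) := by
    have : (Fintype.card Ω : ℝ) = (Nat.card (MulAction.fixedBy Ω g) : ℝ) + (m : ℝ) := by
      exact_mod_cast hfix.symm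
    linarith
  rw [h2]
  have h3 : Real.sqrt (Fintype.card Ω) ≤ 2 * (m : ℝ) := by
    have h4 : ((Fintype.card Ω : ℕ) : ℝ) ≤ (2 * (m : ℝ)) ^ 2 := by
      have : ((Fintype.card Ω : ℕ) : ℝ) ≤ ((4 * m ^ 2 : ℕ) : ℝ) := by exact_mod_cast h
      push_cast at this
      nlinarith
    calc Real.sqrt (Fintype.card Ω) ≤ Real.sqrt ((2 * (m : ℝ)) ^ 2) := Real.sqrt_le_sqrt h4
      _ = 2 * (m : ℝ) := Real.sqrt_sq (by positivity)
  linarith

end Cfsg.Agent.S5713
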