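import Cfsg.Statements.S5726

set_option autoImplicit false
open Cfsg

namespace Cfsg.Agent.S5726

open MulAction

theorem sylow_orbit_eq_univ {G Ω : Type*} [Group G] [Finite G] [MulAction G Ω] [Finite Ω]
    [MulAction.IsPretransitive G Ω] (p k : ℕ) [Fact p.Prime] (hΩ : Nat.card Ω = p ^ k)
    (P : Sylow p G) (ω : Ω) : orbit P ω = Set.univ := by
  have hp : p.Prime := Fact.out
  set S := stabilizer G ω with hSdef
  have hS : S.index = p ^ k := by
    rw [hSdef, index_stabilizer_of_transitive, hΩ]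
  have key : stabilizer P ω = S.subgroupOf P := by
    ext g
    simp [mem_stabilizer_iff, Subgroup.mem_subgroupOf, hSdef, Subgroup.smul_def]
  have h1 : (S ⊓ ↑P).relIndex ↑P = (orbit P ω).ncard := by
    rw [Subgroup.inf_relIndex_right, Subgroup.relIndex, ← key, index_stabilizer]
  have h2 : (S ⊓ ↑P).relIndex ↑P * (P : Subgroup G).index = (S ⊓ ↑P).index :=
    Subgroup.relIndex_mul_index inf_le_right
  have h3 : (S ⊓ ↑P).relIndex S * S.index = (S ⊓ ↑P).index :=
    Subgroup.relIndex_mul_index inf_le_left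
  have h4 : p ^ k ∣ (orbit P ω).ncard * (P : Subgroup G).index := by
    rw [← h1, h2, ← h3, hS]
    exact dvd_mul_left _ _
  have hcop : Nat.Coprime (p ^ k) (P : Subgroup G).index :=
    Nat.Coprime.pow_left k ((Nat.Prime.coprime_iff_not_dvd hp).2 P.not_dvd_index)
  have h5 : p ^ k ∣ (orbit P ω).ncard := hcop.dvd_of_dvd_mul_right h4
  have hpos : 0 < (orbit P ω).ncard := by
    rw [Set.ncard_pos]
    exact nonempty_orbit ω
  have h6 : (orbit P ω).ncard ≤ Nat.card Ω := by
    rw [← Set.ncard_univ]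
    exact Set.ncard_le_ncard (Set.subset_univ _)
  rw [Set.eq_univ_iff_ncard]
  rw [hΩ] at h6 ⊢
  exact le_antisymm h6 (Nat.le_of_dvd hpos h5)

/-- If a finite group acts faithfully and transitively on a set with p^k elements, p a prime and k ≥ 1, then some element of order p fixes no point. -/
theorem result {G Ω : Type*} [Group G] [Finite G] [MulAction G Ω] [FaithfulSMul G Ω] [Fintype Ω] (htr : MulAction.IsPretransitive G Ω)
    (p k : ℕ) (hp : p.Prime) (hk : 1 ≤ k) (hΩ : Fintype.card Ω = p ^ k) :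
    ∃ g : G, orderOf g = p ∧ ∀ ω : Ω, g • ω ≠ ω := by
  classical
  have : Fact p.Prime := ⟨hp⟩
  obtain ⟨P⟩ : Nonempty (Sylow p G) := inferInstance
  have hΩ' : Nat.card Ω = p ^ k := by rw [Nat.card_eq_fintype_card, hΩ]
  have horb : ∀ ω, orbit P ω = Set.univ := fun ω => sylow_orbit_eq_univ p k hΩ' P ω
  have hcard2 : 2 ≤ Nat.card Ω := by
    rw [hΩ']
    calc 2 ≤ p := hp.two_le
      _ = p ^ 1 := (pow_one p).symm
      _ ≤ p ^ k := Nat.pow_le_pow_right hp.pos hk
  have hne : Nonempty Ω := by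
    rw [← Finite.card_pos_iff]
    omega
  obtain ⟨ω₀⟩ := hne
  have hPnt : Nontrivial P := by
    by_contra h
    rw [not_nontrivial_iff_subsingleton] at h
    have h1 : orbit P ω₀ = {ω₀} := by
      ext x
      constructor
      · rintro ⟨g, rfl⟩
        have : g = 1 := Subsingleton.elim _ _
        simp [this]
      · rintro rfl
        exact mem_orbit_self _
    have h2 : (Set.univ : Set Ω).ncard = 1 := by
      rw [← horb ω₀, h1, Set.ncard_singleton]
    rw [Set.ncard_univ] at h2
    omega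
  have hPg : IsPGroup p P := P.isPGroup'
  have := hPg.center_nontrivial
  have hZg : IsPGroup p (Subgroup.center P) := hPg.to_subgroup _
  obtain ⟨n, hn⟩ := IsPGroup.iff_card.mp hZg
  have hn0 : n ≠ 0 := by
    rintro rfl
    rw [pow_zero] at hn
    have := (Nat.card_eq_one_iff_unique.mp hn).1
    exact not_nontrivial_iff_subsingleton.mpr this ‹_›
  have hdvd : p ∣ Nat.card (Subgroup.center P) := by
    rw [hn]
    exact dvd_pow_self p hn0
  obtain ⟨z, hz⟩ := exists_prime_orderOf_dvd_card' p hdvd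
  have hzG : orderOf (((z : P) : G)) = p := by
    rw [Subgroup.orderOf_coe, Subgroup.orderOf_coe, hz]
  refine ⟨((z : P) : G), hzG, ?_⟩
  intro ω hfix
  have hall : ∀ ω' : Ω, ((z : P) : G) • ω' = ω' := by
    intro ω'
    have hmem : ω' ∈ orbit P ω := by rw [horb]; trivial
    obtain ⟨g, rfl⟩ := hmem
    have hcomm : (z : P) * g = g * (z : P) := ((Subgroup.mem_center_iff.mp z.2) g).symm
    have : ((z : P) : G) • (g • ω) = (g : G) • (((z : P) : G) • ω) := by
      rw [Subgroup.smul_def, smul_smul, smul_smul, ← Subgroup.coe_mul, hcomm, Subgroup.coe_mul]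
    rw [this, hfix]
    rfl
  have h1 : ((z : P) : G) = 1 := by
    apply FaithfulSMul.eq_of_smul_eq_smul (α := Ω)
    intro ω'
    rw [hall ω', one_smul]
  rw [h1, orderOf_one] at hzG
  exact hp.one_lt.ne hzG

end Cfsg.Agent.S5726
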