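import Cfsg.Statements.S5727
import Cfsg.Agent.S5726

set_option autoImplicit false
open Cfsg

namespace Cfsg.Agent.S5727

open MulAction

theorem sylow_dvd_orbit {G Ω : Type*} [Group G] [Finite G] [MulAction G Ω] [Finite Ω]
    [MulAction.IsPretransitive G Ω] (p k : ℕ) [Fact p.Prime] (hΩ : p ^ k ∣ Nat.card Ω)
    (P : Sylow p G) (ω : Ω) : p ^ k ∣ (orbit P ω).ncard := by
  have hp : p.Prime := Fact.out
  set S := stabilizer G ω with hSdef
  have hS : S.index = Nat.card Ω := by
    rw [hSdef, index_stabilizer_of_transitive]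
  have key : stabilizer P ω = S.subgroupOf P := by
    ext g
    simp [mem_stabilizer_iff, Subgroup.mem_subgroupOf, hSdef, Subgroup.smul_def]
  have h1 : (S ⊓ ↑P).relIndex ↑P = (orbit P ω).ncard := by
    rw [Subgroup.inf_relIndex_right, Subgroup.relIndex, ← key, index_stabilizer]
  have h2 : (S ⊓ ↑P).relIndex ↑P * (P : Subgroup G).index = (S ⊓ ↑P).index :=
    Subgroup.relIndex_mul_index inf_le_right
  have h3 : (S ⊓ ↑P).relIndex S * S.index = (S ⊓ ↑P).index :=
    Subgroup.relIndex_mul_index inf_le_left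
  have h4 : p ^ k ∣ (orbit P ω).ncard * (P : Subgroup G).index := by
    rw [← h1, h2, ← h3, hS]
    exact Dvd.dvd.mul_left hΩ _
  have hcop : Nat.Coprime (p ^ k) (P : Subgroup G).index :=
    Nat.Coprime.pow_left k ((Nat.Prime.coprime_iff_not_dvd hp).2 P.not_dvd_index)
  exact hcop.dvd_of_dvd_mul_right h4

/-- A finite `p`-group all of whose orbits have size `p`, on fewer than `p * p` points, contains
a fixed-point-free element whose `p`-th power acts trivially. -/
theorem core {P Ω : Type*} [Group P] [Finite P] [MulAction P Ω] [Fintype Ω]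
    (p m : ℕ) (hp : p.Prime) (hP : IsPGroup p P) (hmp : m < p) (hΩ : Fintype.card Ω = m * p)
    (horb : ∀ ω : Ω, (orbit P ω).ncard = p) :
    ∃ g : P, (∀ ω : Ω, g • ω ≠ ω) ∧ ∀ ω : Ω, g ^ p • ω = ω := by
  classical
  have : Fintype P := Fintype.ofFinite P
  have : Fact p.Prime := ⟨hp⟩
  have hidx : ∀ ω : Ω, (stabilizer P ω).index = p := fun ω => by rw [index_stabilizer, horb]
  by_cases hne : Nonempty Ω
  swap
  · rw [not_nonempty_iff] at hne
    exact ⟨1, fun ω => hne.elim ω, fun ω => hne.elim ω⟩
  obtain ⟨ω₀⟩ := hne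
  obtain ⟨n, hn⟩ := IsPGroup.iff_card.mp hP
  have hn0 : n ≠ 0 := by
    rintro rfl
    have h1 := (stabilizer P ω₀).index_dvd_card
    rw [hidx, hn, pow_zero] at h1
    exact hp.one_lt.ne' (Nat.dvd_one.mp h1)
  have hnormal : ∀ ω : Ω, (stabilizer P ω).Normal := by
    intro ω
    apply Subgroup.normal_of_index_eq_minFac_card
    rw [hidx, hn, hp.pow_minFac hn0]
  -- the common order of the point stabilisers
  have hc : ∀ ω : Ω, p * Nat.card (stabilizer P ω) = Nat.card P := by
    intro ω
    rw [← hidx ω]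
    exact Subgroup.index_mul_card _
  have hfix : ∀ (g : P) (ω : Ω), g • ω = ω → p ≤ (Finset.univ.filter (fun ω' : Ω => g • ω' = ω')).card := by
    intro g ω hg
    have hsub : orbit P ω ⊆ ((Finset.univ.filter (fun ω' : Ω => g • ω' = ω') : Finset Ω) : Set Ω) := by
      rintro _ ⟨h, rfl⟩
      simp only [Finset.coe_filter, Finset.mem_univ, true_and, Set.mem_ofPred_eq]
      have hN := hnormal ω
      have h1 : h⁻¹ * g * h⁻¹⁻¹ ∈ stabilizer P ω := hN.conj_mem g hg h⁻¹
      have h2 : (h⁻¹ * g * h) • ω = ω := by simpa using h1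
      calc g • h • ω = h • (h⁻¹ * g * h) • ω := by simp [smul_smul, mul_assoc]
        _ = h • ω := by rw [h2]
    have := Set.ncard_le_ncard hsub (Finset.finite_toSet _)
    rw [horb, Set.ncard_coe_finset] at this
    exact this
  by_contra hcon
  push Not at hcon
  -- every element has a fixed point, or its p-th power moves something
  have hpow : ∀ (g : P) (ω : Ω), g ^ p • ω = ω := by
    intro g ω
    have hN := hnormal ω
    have := (stabilizer P ω).pow_index_mem g
    rw [hidx] at this
    exact this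
  have hall : ∀ g : P, ∃ ω : Ω, g • ω = ω := by
    intro g
    by_contra h
    push Not at h
    obtain ⟨ω, hω⟩ := hcon g h
    exact hω (hpow g ω)
  set c := Nat.card P / p with hcdef
  have h3 : ∀ ω : Ω, Nat.card (stabilizer P ω) = c := by
    intro ω
    rw [hcdef, ← hc ω, Nat.mul_div_cancel_left _ hp.pos]
  have h3' : p * c = Fintype.card P := by
    rw [← h3 ω₀, hc ω₀, Nat.card_eq_fintype_card]
  have hcount := Finset.card_nsmul_le_card_nsmul (s := (Finset.univ : Finset P))
    (t := (Finset.univ : Finset Ω)) (r := fun (g : P) (ω : Ω) => g • ω = ω) (m := p)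
    (n := c)
    (by
      intro g _
      obtain ⟨ω, hω⟩ := hall g
      have := hfix g ω hω
      simpa [Finset.bipartiteAbove] using this)
    (by
      intro ω _
      have h1 : (Finset.univ.bipartiteBelow (fun (g : P) (ω : Ω) => g • ω = ω) ω).card
          = Nat.card (stabilizer P ω) := by
        rw [Nat.card_eq_fintype_card, Fintype.card_subtype]
        rfl
      rw [h1, h3 ω]
      simp)
  simp only [Finset.card_univ, smul_eq_mul, hΩ, ← h3'] at hcount
  have hpos : 0 < c := by
    rw [← h3 ω₀]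
    exact Nat.card_pos
  have h4 : p * (p * c) ≤ m * (p * c) := by
    calc p * (p * c) = p * c * p := by ring
      _ ≤ m * p * c := hcount
      _ = m * (p * c) := by ring
  have h5 : 0 < p * c := Nat.mul_pos hp.pos hpos
  have := Nat.le_of_mul_le_mul_right h4 h5
  omega

theorem result {G Ω : Type*} [Group G] [Finite G] [MulAction G Ω] [FaithfulSMul G Ω] [Fintype Ω] (htr : MulAction.IsPretransitive G Ω)
    (p m : ℕ) (hp : p.Prime) (hm : 1 ≤ m) (hmp : m ≤ p) (hΩ : Fintype.card Ω = m * p) :
    ∃ g : G, orderOf g = p ∧ ∀ ω : Ω, g • ω ≠ ω := by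
  classical
  rcases hmp.eq_or_lt with rfl | hlt
  · exact Cfsg.Agent.S5726.result htr m 2 hp (by norm_num) (by rw [hΩ, sq])
  · have : Fact p.Prime := ⟨hp⟩
    obtain ⟨P⟩ : Nonempty (Sylow p G) := inferInstance
    have hΩ' : Nat.card Ω = m * p := by rw [Nat.card_eq_fintype_card, hΩ]
    have hpos : 0 < Nat.card Ω := by
      rw [hΩ']
      exact Nat.mul_pos hm hp.pos
    have hne : Nonempty Ω := by
      rw [← Finite.card_pos_iff]
      exact hpos
    obtain ⟨ω₀⟩ := hne
    have horb : ∀ ω : Ω, (orbit P ω).ncard = p := by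
      intro ω
      have h1 : p ∣ (orbit P ω).ncard := by
        have := sylow_dvd_orbit p 1 (by rw [pow_one, hΩ']; exact dvd_mul_left p m) P ω
        rwa [pow_one] at this
      obtain ⟨j, hj⟩ := P.isPGroup'.card_orbit ω
      rw [Nat.card_coe_set_eq] at hj
      have h2 : (orbit P ω).ncard ≤ Nat.card Ω := by
        rw [← Set.ncard_univ]
        exact Set.ncard_le_ncard (Set.subset_univ _)
      rw [hj] at h1 h2 ⊢
      have hj1 : j ≠ 0 := by
        rintro rfl
        rw [pow_zero] at h1
        exact hp.one_lt.ne' (Nat.dvd_one.mp h1)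
      have hj2 : j < 2 := by
        by_contra hcon
        push Not at hcon
        have h3 : p ^ 2 ≤ p ^ j := Nat.pow_le_pow_right hp.pos hcon
        have h4 : m * p < p * p := Nat.mul_lt_mul_of_pos_right hlt hp.pos
        rw [hΩ'] at h2
        rw [sq] at h3
        omega
      have : j = 1 := by omega
      rw [this, pow_one]
    obtain ⟨g, hg1, hg2⟩ := core (P := P) p m hp P.isPGroup' hlt hΩ horb
    have hgp : ((g : P) : G) ^ p = 1 := by
      apply FaithfulSMul.eq_of_smul_eq_smul (α := Ω)
      intro ω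
      rw [one_smul]
      exact hg2 ω
    have hg1' : ((g : P) : G) ≠ 1 := fun h => hg1 ω₀ (by
      change ((g : P) : G) • ω₀ = ω₀
      rw [h, one_smul])
    exact ⟨(g : G), orderOf_eq_prime hgp hg1', fun ω => hg1 ω⟩

end Cfsg.Agent.S5727
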