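import Cfsg.Statements.S5728

set_option autoImplicit false
open Cfsg

namespace Cfsg.Agent.S5728

theorem pow_char_eq_self {K : Type*} [Field K] [Finite K] (p s : ℕ) [Fact p.Prime]
    (hs : p = 2 ^ s - 1) (hcard : Nat.card K = p ^ 2) (a : K) (ha0 : a ≠ 0) (ha1 : a ≠ 1)
    (r : ℕ) (hr : r.Prime) (har : a ^ r = 1) : a ^ p = a := by
  have hp : p.Prime := Fact.out
  have : Fintype K := Fintype.ofFinite K
  have : Fact r.Prime := ⟨hr⟩
  have hord : orderOf a = r := orderOf_eq_prime har ha1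
  have h1 : a ^ (p ^ 2 - 1) = 1 := by
    have := FiniteField.pow_card_sub_one_eq_one a ha0
    rwa [← Nat.card_eq_fintype_card, hcard] at this
  have h2 : r ∣ p ^ 2 - 1 := by
    rw [← hord]
    exact orderOf_dvd_of_pow_eq_one h1
  have hs1 : 1 ≤ s := by
    rcases Nat.eq_zero_or_pos s with h | h
    · subst h
      simp at hs
      exact absurd (hs ▸ hp) Nat.not_prime_zero
    · exact h
  have hpow : 2 ≤ 2 ^ s := by
    calc 2 = 2 ^ 1 := rfl
      _ ≤ 2 ^ s := Nat.pow_le_pow_right (by norm_num) hs1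
  have hp1 : p + 1 = 2 ^ s := by omega
  have hfac : p ^ 2 - 1 = (p - 1) * (p + 1) := by
    have h1p : 1 ≤ p := hp.one_lt.le
    obtain ⟨k, rfl⟩ := Nat.exists_eq_add_of_le h1p
    simp only [Nat.add_sub_cancel_left]
    have : (1 + k) ^ 2 = k * (1 + k + 1) + 1 := by ring
    rw [this, Nat.add_sub_cancel]
  have h3 : r ∣ p - 1 := by
    rw [hfac] at h2
    rcases (Nat.Prime.dvd_mul hr).mp h2 with h | h
    · exact h
    · rw [hp1] at h
      have hr2 : r = 2 := (Nat.prime_dvd_prime_iff_eq hr Nat.prime_two).mp (hr.dvd_of_dvd_pow h)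
      rw [hr2]
      have : 2 ∣ 2 ^ s := dvd_pow_self 2 (by omega)
      omega
  obtain ⟨k, hk⟩ := h3
  have h4 : a ^ (p - 1) = 1 := by rw [hk, pow_mul, har, one_pow]
  have h1p : 1 ≤ p := hp.one_lt.le
  calc a ^ p = a ^ (p - 1 + 1) := by rw [Nat.sub_add_cancel h1p]
    _ = a := by rw [pow_succ, h4, one_mul]

theorem mem_prime_field {K : Type*} [Field K] (p : ℕ) [Fact p.Prime] [CharP K p]
    [Algebra (ZMod p) K] (a : K) (ha : a ^ p = a) : ∃ a₀ : ZMod p, algebraMap (ZMod p) K a₀ = a := by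
  have h1 : a ∈ (⊥ : Subfield K) := (Subfield.mem_bot_iff_pow_eq_self K p).mpr ha
  obtain ⟨n, hn⟩ := (mem_bot_iff_intCast p K).mp h1
  exact ⟨(n : ZMod p), by rw [map_intCast, hn]⟩

theorem result (p s : ℕ) [Fact p.Prime] (hs : p = 2 ^ s - 1)
    (g : Equiv.Perm (GaloisField p 2)) (hg : g ∈ Cfsg.affineGroup (GaloisField p 2)) (hord : (orderOf g).Prime) :
    ∃ x ∈ Cfsg.affineGroup (GaloisField p 2), ∃ a b : ZMod p, a ≠ 0 ∧
      ∀ y : GaloisField p 2, (x * g * x⁻¹) y = algebraMap (ZMod p) (GaloisField p 2) a * y + algebraMap (ZMod p) (GaloisField p 2) b := by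
  have hp : p.Prime := Fact.out
  obtain ⟨a, b, hab⟩ := hg
  set r := orderOf g with hrdef
  have hgr : g ^ r = 1 := pow_orderOf_eq_one g
  have hg1 : g ≠ 1 := by
    rintro rfl
    rw [hrdef, orderOf_one] at hord
    exact Nat.not_prime_one hord
  have hcard : Nat.card (GaloisField p 2) = p ^ 2 := GaloisField.card p 2 (by norm_num)
  by_cases ha1 : (a : GaloisField p 2) = 1
  · -- translation
    have hb : b ≠ 0 := by
      rintro rfl
      apply hg1
      ext y
      rw [hab y, ha1]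
      simp
    refine ⟨Equiv.mulLeft₀ b⁻¹ (inv_ne_zero hb), ⟨Units.mk0 b⁻¹ (inv_ne_zero hb), 0, fun y => by simp⟩,
      1, 1, one_ne_zero, fun y => ?_⟩
    have hxinv : (Equiv.mulLeft₀ b⁻¹ (inv_ne_zero hb))⁻¹ y = b * y := by
      rw [Equiv.Perm.inv_def, Equiv.symm_apply_eq]
      simp [hb]
    rw [Equiv.Perm.mul_apply, Equiv.Perm.mul_apply, hxinv, hab, ha1]
    simp only [Equiv.mulLeft₀_apply, map_one, one_mul]
    field_simp
  · -- fixed point
    have h1a : (1 : GaloisField p 2) - a ≠ 0 := fun h => ha1 (sub_eq_zero.mp h).symm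
    set y₀ : GaloisField p 2 := b / (1 - a) with hy₀
    have hfix : (a : GaloisField p 2) * y₀ + b = y₀ := by
      rw [hy₀]
      field_simp
      ring
    have hshift : ∀ (k : ℕ) (z : GaloisField p 2), (g ^ k) (y₀ + z) = y₀ + (a : GaloisField p 2) ^ k * z := by
      intro k
      induction k with
      | zero => intro z; simp
      | succ k ih =>
        intro z
        rw [pow_succ', Equiv.Perm.mul_apply, ih, hab, pow_succ']
        linear_combination hfix
    have har : (a : GaloisField p 2) ^ r = 1 := by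
      have := hshift r 1
      rw [hgr, Equiv.Perm.one_apply, mul_one] at this
      exact (add_left_cancel this).symm
    have hap : (a : GaloisField p 2) ^ p = a :=
      pow_char_eq_self p s hs hcard (a : GaloisField p 2) a.ne_zero ha1 r hord har
    obtain ⟨a₀, ha₀⟩ := mem_prime_field p (a : GaloisField p 2) hap
    have ha₀0 : a₀ ≠ 0 := by
      rintro rfl
      rw [map_zero] at ha₀
      exact a.ne_zero ha₀.symm
    refine ⟨Equiv.addRight (-y₀), ⟨1, -y₀, fun y => by simp⟩, a₀, 0, ha₀0, fun y => ?_⟩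
    have hxinv : (Equiv.addRight (-y₀))⁻¹ y = y + y₀ := by
      rw [Equiv.Perm.inv_def, Equiv.symm_apply_eq]
      simp
    rw [Equiv.Perm.mul_apply, Equiv.Perm.mul_apply, hxinv, hab, ha₀]
    simp only [Equiv.coe_addRight, map_zero, add_zero]
    linear_combination hfix

end Cfsg.Agent.S5728
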