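import Cfsg.Statements.S5729

set_option autoImplicit false
open Cfsg

namespace Cfsg.Agent.S5729

open MulAction

section
variable {G X : Type*} [Group G] [Fintype G] [MulAction G X] [Fintype X] [DecidableEq X]

theorem burnside_one [IsPretransitive G X] [Nonempty X] :
    ∑ g : G, Fintype.card (fixedBy X g) = Fintype.card G := by
  classical
  have h := sum_card_fixedBy_eq_card_orbits_mul_card_group G X
  obtain ⟨u⟩ := (pretransitive_iff_unique_quotient_of_nonempty G X).mp inferInstance
  have h1 : Fintype.card (Quotient (orbitRel G X)) = 1 := Fintype.card_eq_one_iff.mpr ⟨u.default, u.uniq⟩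
  rw [h, h1, one_mul]

/-- fixed points of the diagonal action on pairs -/
def fixedProdEquiv (g : G) : fixedBy (X × X) g ≃ fixedBy X g × fixedBy X g where
  toFun p := (⟨p.1.1, congrArg Prod.fst p.2⟩, ⟨p.1.2, congrArg Prod.snd p.2⟩)
  invFun q := ⟨(q.1.1, q.2.1), Prod.ext q.1.2 q.2.2⟩
  left_inv := fun _ => rfl
  right_inv := fun _ => rfl

theorem burnside_two (x y : X) (hxy : x ≠ y) :
    ∃ r : ℕ, 2 ≤ r ∧ ∑ g : G, Fintype.card (fixedBy X g) ^ 2 = r * Fintype.card G := by
  classical
  refine ⟨Fintype.card (Quotient (orbitRel G (X × X))), ?_, ?_⟩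
  · have : Nontrivial (Quotient (orbitRel G (X × X))) := by
      refine ⟨⟨⟦(x, x)⟧, ⟦(x, y)⟧, fun h => hxy ?_⟩⟩
      have h' := Quotient.exact h
      obtain ⟨g, hg⟩ := h'
      have h1 : g • x = x := congrArg Prod.fst hg
      have h2 : g • y = x := congrArg Prod.snd hg
      have : g • y = g • x := by rw [h1, h2]
      exact (smul_left_cancel g this).symm
    exact Fintype.one_lt_card_iff_nontrivial.mpr this
  · rw [← sum_card_fixedBy_eq_card_orbits_mul_card_group G (X × X)]
    refine Finset.sum_congr rfl fun g _ => ?_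
    rw [sq, ← Fintype.card_prod]
    exact (Fintype.card_congr (fixedProdEquiv g)).symm

end

theorem result {G Ω : Type*} [Group G] [Finite G] [MulAction G Ω] [FaithfulSMul G Ω] [Fintype Ω] (htr : MulAction.IsPretransitive G Ω) (hn : 3 ≤ Fintype.card Ω) :
    ((MulAction.IsPretransitive G Ω ∧ (∃ g : G, g ≠ 1 ∧ ∃ ω : Ω, g • ω = ω) ∧ ∀ g : G, g ≠ 1 → Nat.card (MulAction.fixedBy Ω g) ≤ 1) ∧ Nat.card G = Fintype.card Ω * (Fintype.card Ω - 1) ∧ Fintype.card Ω * Nat.card {g : G // ∀ ω : Ω, g • ω ≠ ω} = Nat.card G) ∨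
    Nat.card G < Fintype.card Ω * Nat.card {g : G // ∀ ω : Ω, g • ω ≠ ω} := by
  classical
  have : Fintype G := Fintype.ofFinite G
  set n := Fintype.card Ω with hndef
  have hcard : 1 < Fintype.card Ω := by omega
  obtain ⟨x, y, hxy⟩ := Fintype.exists_pair_of_one_lt_card hcard
  have : Nonempty Ω := ⟨x⟩
  set a : G → ℕ := fun g => Fintype.card (fixedBy Ω g) with hadef
  have hS1 : ∑ g : G, a g = Fintype.card G := burnside_one
  obtain ⟨r, hr2, hS2⟩ := burnside_two (G := G) x y hxy
  have ha_le : ∀ g, a g ≤ n := fun g => Fintype.card_subtype_le _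
  have ha_zero : ∀ g, a g = 0 ↔ ∀ ω : Ω, g • ω ≠ ω := by
    intro g
    simp only [hadef]
    rw [Fintype.card_eq_zero_iff]
    constructor
    · intro h ω hω; exact h.false ⟨ω, hω⟩
    · intro h; exact ⟨fun ⟨ω, hω⟩ => h ω hω⟩
  have ha_n : ∀ g, a g = n → g = 1 := by
    intro g hg
    apply FaithfulSMul.eq_of_smul_eq_smul (α := Ω)
    intro ω
    rw [one_smul]
    have h1 : (fixedBy Ω g).toFinset = Finset.univ := by
      apply Finset.eq_univ_of_card
      rw [Set.toFinset_card]
      exact hg
    have hω : ω ∈ (fixedBy Ω g).toFinset := by rw [h1]; exact Finset.mem_univ _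
    have hω' : ω ∈ fixedBy Ω g := Set.mem_toFinset.mp hω
    exact hω'
  have ha_one : a 1 = n := by
    simp only [hadef]
    rw [hndef]
    apply Fintype.card_of_subtype Finset.univ
    intro ω
    simp
  set d := Nat.card {g : G // ∀ ω : Ω, g • ω ≠ ω} with hd
  have hd' : (d : ℤ) = ∑ g : G, (if a g = 0 then (1:ℤ) else 0) := by
    rw [hd, Nat.card_eq_fintype_card, Fintype.card_subtype, Finset.card_filter]
    push_cast
    refine Finset.sum_congr rfl fun g _ => ?_
    simp only [ha_zero]
  have hS1' : ∑ g : G, (a g : ℤ) = Fintype.card G := by exact_mod_cast hS1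
  have hS2' : ∑ g : G, (a g : ℤ)^2 = r * Fintype.card G := by exact_mod_cast hS2
  have hterm : ∀ g : G, ((a g : ℤ) - 1) * ((a g : ℤ) - n) ≤ n * (if a g = 0 then (1:ℤ) else 0) := by
    intro g
    by_cases h0 : a g = 0
    · simp [h0]
    · simp only [h0, if_false, mul_zero]
      have h1 : (1:ℤ) ≤ a g := by exact_mod_cast Nat.one_le_iff_ne_zero.mpr h0
      have h2 : (a g : ℤ) ≤ n := by exact_mod_cast ha_le g
      nlinarith
  have hsum : ∑ g : G, ((a g : ℤ) - 1) * ((a g : ℤ) - n) = ((r:ℤ) - 1) * Fintype.card G := by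
    have e1 : ∀ g : G, ((a g : ℤ) - 1) * ((a g : ℤ) - n) = (a g : ℤ)^2 - (n + 1) * (a g : ℤ) + n := by
      intro g; ring
    simp only [e1]
    rw [Finset.sum_add_distrib, Finset.sum_sub_distrib, ← Finset.mul_sum, Finset.sum_const,
      Finset.card_univ, hS1', hS2']
    simp only [nsmul_eq_mul]
    ring
  have hle : ((r:ℤ) - 1) * Fintype.card G ≤ n * d := by
    rw [← hsum, hd', Finset.mul_sum]
    exact Finset.sum_le_sum fun g _ => hterm g
  have hr1 : (1:ℤ) ≤ (r:ℤ) - 1 := by
    have : (2:ℤ) ≤ r := by exact_mod_cast hr2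
    linarith
  have hG0 : (0:ℤ) ≤ Fintype.card G := by positivity
  have hGle : (Fintype.card G : ℤ) ≤ n * d := by nlinarith
  rw [Nat.card_eq_fintype_card]
  by_cases hlt : Fintype.card G < n * d
  · right; exact hlt
  · left
    have heq : n * d = Fintype.card G := le_antisymm (not_lt.mp hlt) (by exact_mod_cast hGle)
    have heqZ : (n:ℤ) * d = Fintype.card G := by exact_mod_cast heq
    have hsumeq : ∑ g : G, ((a g : ℤ) - 1) * ((a g : ℤ) - n)
        = ∑ g : G, (n:ℤ) * (if a g = 0 then (1:ℤ) else 0) := by
      apply le_antisymm (Finset.sum_le_sum fun g _ => hterm g)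
      rw [← Finset.mul_sum, ← hd', hsum, heqZ]
      nlinarith
    have hall := (Finset.sum_eq_sum_iff_of_le (fun g _ => hterm g)).mp hsumeq
    have hval : ∀ g : G, a g = 0 ∨ a g = 1 ∨ a g = n := by
      intro g
      by_cases h0 : a g = 0
      · left; exact h0
      · right
        have := hall g (Finset.mem_univ g)
        simp only [h0, if_false, mul_zero] at this
        rcases mul_eq_zero.mp this with h | h
        · left
          have : (a g : ℤ) = 1 := by linarith
          exact_mod_cast this
        · right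
          have : (a g : ℤ) = n := by linarith
          exact_mod_cast this
    have hval' : ∀ g : G, g ≠ 1 → a g = 0 ∨ a g = 1 := by
      intro g hg
      rcases hval g with h | h | h
      · left; exact h
      · right; exact h
      · exact absurd (ha_n g h) hg
    have hn0 : n ≠ 0 := by omega
    have hterm2 : ∀ g : G, (a g : ℤ) - 1
        = (if g = 1 then (n:ℤ) - 1 else 0) - (if a g = 0 then (1:ℤ) else 0) := by
      intro g
      by_cases hg : g = 1
      · subst hg
        rw [ha_one]
        simp [hn0]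
      · rcases hval' g hg with h | h <;> simp [hg, h]
    have hsum2 : ∑ g : G, ((a g : ℤ) - 1) = 0 := by
      rw [Finset.sum_sub_distrib, hS1', Finset.sum_const, Finset.card_univ]
      simp
    have hd_eq : (d : ℤ) = n - 1 := by
      have h := hsum2
      simp only [hterm2] at h
      rw [Finset.sum_sub_distrib, ← hd', Finset.sum_ite_eq' Finset.univ (1 : G) (fun _ => (n:ℤ) - 1)] at h
      simp only [Finset.mem_univ, if_true] at h
      linarith
    have hd_eqN : d = n - 1 := by omega
    have hGcard : Fintype.card G = n * (n - 1) := by rw [← heq, hd_eqN]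
    refine ⟨⟨htr, ?_, ?_⟩, hGcard, heq⟩
    · by_contra hcon
      push Not at hcon
      have hall0 : ∀ g : G, g ≠ 1 → a g = 0 := fun g hg => (ha_zero g).mpr (hcon g hg)
      have hd2 : (d : ℤ) = Fintype.card G - 1 := by
        rw [hd']
        have : ∀ g : G, (if a g = 0 then (1:ℤ) else 0) = 1 - (if g = 1 then (1:ℤ) else 0) := by
          intro g
          by_cases hg : g = 1
          · subst hg
            rw [ha_one]
            simp [hn0]
          · simp [hg, hall0 g hg]
        simp only [this]
        rw [Finset.sum_sub_distrib, Finset.sum_const, Finset.card_univ,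
          Finset.sum_ite_eq' Finset.univ (1 : G) (fun _ => (1:ℤ))]
        simp
      have hGZ : (Fintype.card G : ℤ) = n * (n - 1) := by
        rw [hGcard]
        have : 1 ≤ n := by omega
        push_cast [Nat.cast_sub this]
        ring
      have hn3 : (3:ℤ) ≤ n := by exact_mod_cast hn
      nlinarith
    · intro g hg
      rw [Nat.card_eq_fintype_card]
      rcases hval' g hg with h | h
      · change a g ≤ 1; omega
      · change a g ≤ 1; omega

end Cfsg.Agent.S5729
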