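import Cfsg.Statements.S5738

set_option autoImplicit false
open Cfsg

namespace Cfsg.Agent.S5738

section
variable {F K : Type*} [Field F] [Field K] [Algebra F K]

/-- left multiplication as a homomorphism into the units of the endomorphism ring -/
noncomputable abbrev θ (F K : Type*) [Field F] [Field K] [Algebra F K] : Kˣ →* (Module.End F K)ˣ :=
  Units.map ((Algebra.lmul F K : K →ₐ[F] Module.End F K) : K →* Module.End F K)

theorem lmul_injective : Function.Injective (Algebra.lmul F K) := by
  intro a b h
  have := congrArg (fun f : Module.End F K => f 1) h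
  simpa using this

theorem θ_val (a : Kˣ) : ((θ F K a : (Module.End F K)ˣ) : Module.End F K) = Algebra.lmul F K (a : K) := rfl

theorem mem_normalizer_of_finite {G : Type*} [Group G] (H : Subgroup G) [Finite H] (g : G)
    (h : ∀ x ∈ H, g * x * g⁻¹ ∈ H) : g ∈ Subgroup.normalizer (H : Set G) := by
  rw [Subgroup.mem_normalizer_iff_map_conj_eq]
  apply Subgroup.eq_of_le_of_card_ge
  · rintro _ ⟨x, hx, rfl⟩
    exact h x hx
  · exact (Subgroup.card_map_of_injective (MulAut.conj g).injective).ge

/-- the candidate elements of the normaliser -/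
noncomputable def Φ (p : Kˣ × (K ≃ₐ[F] K)) : (Module.End F K)ˣ :=
  θ F K p.1 * LinearMap.GeneralLinearGroup.ofLinearEquiv p.2.toLinearEquiv

theorem Φ_apply (p : Kˣ × (K ≃ₐ[F] K)) (x : K) :
    ((Φ p : (Module.End F K)ˣ) : Module.End F K) x = (p.1 : K) * p.2 x := by
  simp [Φ]

theorem Φ_injective : Function.Injective (Φ (F := F) (K := K)) := by
  rintro ⟨a, σ⟩ ⟨b, τ⟩ h
  have h1 : ∀ x : K, (a : K) * σ x = (b : K) * τ x := by
    intro x
    rw [← Φ_apply (a, σ), ← Φ_apply (b, τ), h]
  have hab : (a : K) = b := by simpa using h1 1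
  have hab' : a = b := Units.ext hab
  subst hab'
  have : σ = τ := by
    ext x
    exact mul_left_cancel₀ a.ne_zero (h1 x)
  rw [this]

theorem sigma_conj (σ : K ≃ₐ[F] K) (b : Kˣ) :
    LinearMap.GeneralLinearGroup.ofLinearEquiv σ.toLinearEquiv * θ F K b *
      (LinearMap.GeneralLinearGroup.ofLinearEquiv σ.toLinearEquiv)⁻¹
      = θ F K (Units.map (σ : K →* K) b) := by
  apply Units.ext
  apply LinearMap.ext
  intro x
  rw [← LinearMap.GeneralLinearGroup.ofLinearEquiv_inv]
  simp

theorem Φ_mem [Finite K] (p : Kˣ × (K ≃ₐ[F] K)) :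
    Φ p ∈ Subgroup.normalizer (((θ F K).range : Subgroup (Module.End F K)ˣ) : Set (Module.End F K)ˣ) := by
  have : Finite (Module.End F K) := Finite.of_injective (fun f => (f : K → K)) DFunLike.coe_injective
  apply Subgroup.mul_mem
  · exact Subgroup.le_normalizer ⟨p.1, rfl⟩
  · apply mem_normalizer_of_finite
    rintro _ ⟨b, rfl⟩
    rw [sigma_conj]
    exact ⟨_, rfl⟩

theorem mem_range_Φ [FiniteDimensional F K] (u : (Module.End F K)ˣ)
    (hu : u ∈ Subgroup.normalizer (((θ F K).range : Subgroup (Module.End F K)ˣ) : Set (Module.End F K)ˣ)) :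
    ∃ p : Kˣ × (K ≃ₐ[F] K), Φ p = u := by
  set U : Module.End F K := (u : Module.End F K) with hU
  set Ui : Module.End F K := ((u⁻¹ : (Module.End F K)ˣ) : Module.End F K) with hUi
  have hUUi : U * Ui = 1 := Units.mul_inv u
  have hUiU : Ui * U = 1 := Units.inv_mul u
  set w : K := Ui 1 with hw
  set φl : K →ₗ[F] K := U ∘ₗ (LinearMap.mulRight F w) with hφl
  have hφ : ∀ b : K, φl b = U (b * w) := fun b => rfl
  have key : ∀ b : K, U * Algebra.lmul F K b * Ui = Algebra.lmul F K (φl b) := by
    intro b
    by_cases hb : b = 0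
    · subst hb
      simp [hφ]
    · have h1 : θ F K (Units.mk0 b hb) ∈ (θ F K).range := ⟨_, rfl⟩
      have h2 := (Subgroup.mem_normalizer_iff.mp hu _).mp h1
      obtain ⟨c, hc⟩ := h2
      have h3 := congrArg (fun v : (Module.End F K)ˣ => (v : Module.End F K)) hc
      simp only [Units.val_mul, θ_val, Units.val_mk0] at h3
      have h4 : (c : K) = φl b := by
        have := congrArg (fun f : Module.End F K => f 1) h3
        simpa [hφ, hw, hU, hUi] using this
      rw [← h4, h3]
  have hone : φl 1 = 1 := by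
    rw [hφ, one_mul, hw]
    exact congrArg (fun f : Module.End F K => f 1) hUUi
  have hmul : ∀ x y : K, φl (x * y) = φl x * φl y := by
    intro x y
    apply lmul_injective (F := F)
    rw [← key (x * y), map_mul (Algebra.lmul F K) (φl x) (φl y), ← key x, ← key y,
      map_mul (Algebra.lmul F K) x y]
    calc U * (Algebra.lmul F K x * Algebra.lmul F K y) * Ui
        = U * Algebra.lmul F K x * 1 * Algebra.lmul F K y * Ui := by simp [mul_assoc]
      _ = U * Algebra.lmul F K x * Ui * (U * Algebra.lmul F K y * Ui) := by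
        rw [← hUiU]; simp [mul_assoc]
  set φ : K →ₐ[F] K := AlgHom.ofLinearMap φl hone hmul with hφdef
  set σ : K ≃ₐ[F] K := AlgEquiv.ofBijective φ (AlgHom.bijective φ) with hσ
  have hσ_apply : ∀ x : K, σ x = φl x := fun x => rfl
  have hu1 : U 1 ≠ 0 := by
    intro h
    have h1 : Ui (U 1) = 1 := congrArg (fun f : Module.End F K => f 1) hUiU
    rw [h, map_zero] at h1
    exact zero_ne_one h1
  refine ⟨(Units.mk0 (U 1) hu1, σ), ?_⟩
  apply Units.ext
  apply LinearMap.ext
  intro x
  rw [Φ_apply]
  simp only [Units.val_mk0, hσ_apply]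
  have h1 : Ui (U 1) = 1 := congrArg (fun f : Module.End F K => f 1) hUiU
  have h2 := congrArg (fun f : Module.End F K => f (U 1)) (key x)
  simp only [Module.End.mul_apply, h1] at h2
  simp at h2
  change U 1 * φl x = U x
  rw [mul_comm, ← h2]

end

theorem result {F K : Type*} [Field F] [Fintype F] [Field K] [Fintype K] [Algebra F K] (n : ℕ) (hn : 2 ≤ n) (hdim : Module.finrank F K = n) :
    Nat.card (Subgroup.normalizer (((Units.map ((Algebra.lmul F K : K →ₐ[F] Module.End F K) : K →* Module.End F K)).range : Subgroup (Module.End F K)ˣ) : Set (Module.End F K)ˣ)) = n * (Fintype.card K - 1) := by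
  classical
  have : FiniteDimensional F K := inferInstance
  change Nat.card (Subgroup.normalizer (((θ F K).range : Subgroup (Module.End F K)ˣ) : Set (Module.End F K)ˣ)) = n * (Fintype.card K - 1)
  have hset : ((Subgroup.normalizer (((θ F K).range : Subgroup (Module.End F K)ˣ) : Set (Module.End F K)ˣ) : Subgroup (Module.End F K)ˣ) : Set (Module.End F K)ˣ)
      = Set.range (Φ (F := F) (K := K)) := by
    ext u
    constructor
    · intro hu
      exact mem_range_Φ u hu
    · rintro ⟨p, rfl⟩
      exact Φ_mem p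
  have h1 : Nat.card (Subgroup.normalizer (((θ F K).range : Subgroup (Module.End F K)ˣ) : Set (Module.End F K)ˣ))
      = Nat.card (Set.range (Φ (F := F) (K := K))) := by
    exact Nat.card_congr (Equiv.setCongr hset)
  rw [h1, Nat.card_congr (Equiv.ofInjective _ Φ_injective).symm, Nat.card_prod, Nat.card_units,
    Nat.card_eq_fintype_card, IsGalois.card_aut_eq_finrank, hdim, mul_comm]

end Cfsg.Agent.S5738
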