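import Cfsg.Statements.S5739

set_option autoImplicit false
open Cfsg

namespace Cfsg.Agent.S5739

section
variable {F K : Type*} [Field F] [Field K] [Algebra F K]

/-- left multiplication as a homomorphism into the units of the endomorphism ring -/
noncomputable abbrev θ (F K : Type*) [Field F] [Field K] [Algebra F K] : Kˣ →* (Module.End F K)ˣ :=
  Units.map ((Algebra.lmul F K : K →ₐ[F] Module.End F K) : K →* Module.End F K)

theorem lmul_injective : Function.Injective (Algebra.lmul F K) := by
  intro a b h
  have := congrArg (fun f : Module.End F K => f 1) h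
  simpa using this

theorem θ_injective : Function.Injective (θ F K) := by
  intro a b h
  have h1 : ((θ F K a : (Module.End F K)ˣ) : Module.End F K) = ((θ F K b : (Module.End F K)ˣ) : Module.End F K) := by
    rw [h]
  simp only [θ, Units.coe_map, MonoidHom.coe_coe] at h1
  exact Units.ext (lmul_injective h1)

/-- the elements `b` of `K` such that multiplication by `b` is conjugate under `g` to a
multiplication -/
noncomputable def conjField (g : (Module.End F K)ˣ) : IntermediateField F K where
  carrier := {b | ∃ c : K, Algebra.lmul F K b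
    = (g : Module.End F K) * Algebra.lmul F K c * ((g⁻¹ : (Module.End F K)ˣ) : Module.End F K)}
  mul_mem' := by
    rintro b b' ⟨c, hc⟩ ⟨c', hc'⟩
    refine ⟨c * c', ?_⟩
    rw [map_mul, map_mul, hc, hc']
    simp only [mul_assoc, Units.inv_mul_cancel_left]
  one_mem' := ⟨1, by rw [map_one, mul_one, Units.mul_inv]⟩
  add_mem' := by
    rintro b b' ⟨c, hc⟩ ⟨c', hc'⟩
    exact ⟨c + c', by rw [map_add, map_add, hc, hc', mul_add, add_mul]⟩
  zero_mem' := ⟨0, by simp⟩
  algebraMap_mem' := fun r => ⟨algebraMap F K r, by
    rw [AlgHom.commutes, Algebra.algebraMap_eq_smul_one, mul_smul_comm, smul_mul_assoc, mul_one,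
      Units.mul_inv]⟩
  inv_mem' := by
    rintro b ⟨c, hc⟩
    by_cases hb : b = 0
    · subst hb
      exact ⟨0, by simp⟩
    · refine ⟨c⁻¹, ?_⟩
      have hc0 : c ≠ 0 := by
        rintro rfl
        apply hb
        apply lmul_injective (F := F)
        rw [hc]
        simp
      have h1 : Algebra.lmul F K b⁻¹ * Algebra.lmul F K b = 1 := by
        rw [← map_mul, inv_mul_cancel₀ hb, map_one]
      have h2 : Algebra.lmul F K b * ((g : Module.End F K) * Algebra.lmul F K c⁻¹
          * ((g⁻¹ : (Module.End F K)ˣ) : Module.End F K)) = 1 := by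
        rw [hc]
        simp only [mul_assoc, Units.inv_mul_cancel_left]
        rw [← mul_assoc (Algebra.lmul F K c), ← map_mul, mul_inv_cancel₀ hc0, map_one, one_mul,
          Units.mul_inv]
      calc Algebra.lmul F K b⁻¹ = Algebra.lmul F K b⁻¹ * (Algebra.lmul F K b *
            ((g : Module.End F K) * Algebra.lmul F K c⁻¹
              * ((g⁻¹ : (Module.End F K)ˣ) : Module.End F K))) := by rw [h2, mul_one]
        _ = _ := by rw [← mul_assoc, h1, one_mul]

theorem mem_conjField (g : (Module.End F K)ˣ) (b : K) : b ∈ conjField g ↔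
    ∃ c : K, Algebra.lmul F K b
      = (g : Module.End F K) * Algebra.lmul F K c * ((g⁻¹ : (Module.End F K)ˣ) : Module.End F K) :=
  Iff.rfl

end

theorem result {F K : Type*} [Field F] [Fintype F] [Field K] [Fintype K] [Algebra F K] (n : ℕ) (hn : 2 ≤ n) (hdim : Module.finrank F K = n)
    (g : (Module.End F K)ˣ) (hg : ((Units.map ((Algebra.lmul F K : K →ₐ[F] Module.End F K) : K →* Module.End F K)).range).map (MulAut.conj g).toMonoidHom ≠ (Units.map ((Algebra.lmul F K : K →ₐ[F] Module.End F K) : K →* Module.End F K)).range) :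
    ∃ r : ℕ, 1 ≤ r ∧ r ∣ n ∧ r < n ∧ Nat.card ↥(((Units.map ((Algebra.lmul F K : K →ₐ[F] Module.End F K) : K →* Module.End F K)).range).map (MulAut.conj g).toMonoidHom ⊓ (Units.map ((Algebra.lmul F K : K →ₐ[F] Module.End F K) : K →* Module.End F K)).range) ∣ Fintype.card F ^ r - 1 := by
  classical
  set M : Subgroup (Module.End F K)ˣ := (θ F K).range with hM
  change ∃ r : ℕ, 1 ≤ r ∧ r ∣ n ∧ r < n ∧
    Nat.card ↥(M.map (MulAut.conj g).toMonoidHom ⊓ M) ∣ Fintype.card F ^ r - 1
  change M.map (MulAut.conj g).toMonoidHom ≠ M at hg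
  set Mg : Subgroup (Module.End F K)ˣ := M.map (MulAut.conj g).toMonoidHom with hMg
  set L : IntermediateField F K := conjField g with hL
  have : FiniteDimensional F K := inferInstance
  have : Finite (Module.End F K) := Finite.of_injective (fun f => (f : K → K)) DFunLike.coe_injective
  -- membership in `Mg` gives membership in `L`
  have hmem : ∀ a : Kˣ, θ F K a ∈ Mg → (a : K) ∈ L := by
    intro a ha
    obtain ⟨m, ⟨c, rfl⟩, hm⟩ := ha
    refine ⟨(c : K), ?_⟩
    have := congrArg (fun u : (Module.End F K)ˣ => (u : Module.End F K)) hm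
    simp only [MulEquiv.coe_toMonoidHom, MulAut.conj_apply, Units.val_mul, Units.coe_map,
      MonoidHom.coe_coe] at this
    exact this.symm
  -- the subgroup of `Kˣ` corresponding to the intersection
  set D' : Subgroup Kˣ := Mg.comap (θ F K) with hD'
  have hcardD : Nat.card ↥(Mg ⊓ M) = Nat.card D' := by
    have h1 : D'.map (θ F K) = Mg ⊓ M := by
      rw [hD', Subgroup.map_comap_eq, inf_comm]
    rw [← h1, Subgroup.card_map_of_injective θ_injective]
  -- an injective homomorphism into the units of `L`
  let ψ : D' →* (↥L)ˣ :=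
    { toFun := fun a => Units.mk0 (⟨((a : Kˣ) : K), hmem a.1 a.2⟩ : ↥L) (by
        intro h
        exact (a : Kˣ).ne_zero (congrArg Subtype.val h))
      map_one' := by
        apply Units.ext
        apply Subtype.ext
        simp
      map_mul' := by
        intro a b
        apply Units.ext
        apply Subtype.ext
        simp }
  have hψ : Function.Injective ψ := by
    intro a b hab
    have h1 := congrArg (fun u : (↥L)ˣ => ((u : ↥L) : K)) hab
    simp only [ψ, MonoidHom.coe_mk, OneHom.coe_mk, Units.val_mk0] at h1
    exact Subtype.ext (Units.ext h1)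
  have hdvd : Nat.card D' ∣ Nat.card (↥L)ˣ := Subgroup.card_dvd_of_injective ψ hψ
  have hcardL : Nat.card (↥L)ˣ = Fintype.card F ^ Module.finrank F ↥L - 1 := by
    rw [Nat.card_units, Nat.card_eq_fintype_card, Module.card_eq_pow_finrank (K := F) (V := ↥L)]
  have htower : Module.finrank F ↥L * Module.finrank ↥L K = Module.finrank F K :=
    Module.finrank_mul_finrank F ↥L K
  refine ⟨Module.finrank F ↥L, Module.finrank_pos, ?_, ?_, ?_⟩
  · rw [← hdim, ← htower]
    exact dvd_mul_right _ _
  · have hle : Module.finrank F ↥L ≤ n := by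
      rw [← hdim, ← htower]
      exact Nat.le_mul_of_pos_right _ Module.finrank_pos
    refine lt_of_le_of_ne hle (fun heq => hg ?_)
    -- `L` is everything
    have htop : ∀ b : K, b ∈ L := by
      intro b
      have h1 : L.toSubalgebra.toSubmodule = ⊤ := by
        apply Submodule.eq_top_of_finrank_eq
        change Module.finrank F ↥L = Module.finrank F K
        rw [heq, hdim]
      have : b ∈ L.toSubalgebra.toSubmodule := by rw [h1]; trivial
      exact this
    -- hence `M ≤ Mg`
    have hle' : M ≤ Mg := by
      rintro _ ⟨a, rfl⟩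
      obtain ⟨c, hc⟩ := htop (a : K)
      have hc0 : c ≠ 0 := by
        rintro rfl
        apply a.ne_zero
        apply lmul_injective (F := F)
        rw [hc]
        simp
      refine ⟨θ F K (Units.mk0 c hc0), ⟨_, rfl⟩, ?_⟩
      apply Units.ext
      simp only [MulEquiv.coe_toMonoidHom, MulAut.conj_apply, Units.val_mul, Units.coe_map,
        MonoidHom.coe_coe, Units.val_mk0]
      exact hc.symm
    have hcard : Nat.card Mg = Nat.card M := by
      rw [hMg]
      exact Subgroup.card_map_of_injective (MulAut.conj g).injective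
    exact (Subgroup.eq_of_le_of_card_ge hle' hcard.le).symm
  · rw [hcardD, ← hcardL]
    exact hdvd

end Cfsg.Agent.S5739
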