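import Cfsg.Statements.S5747

set_option autoImplicit false
open Cfsg

namespace Cfsg.Agent.S5747

open MulAction

section
variable {G Ω : Type*} [Group G] [MulAction G Ω]

/-- `l` is an irredundant base for the subgroup `H`. -/
def IB : List Ω → Subgroup G → Prop
  | [], H => H = ⊥
  | a :: l, H => (∃ g ∈ H, g • a ≠ a) ∧ IB l (H ⊓ stabilizer G a)

/-- the pointwise stabiliser of `l` in `H` is trivial -/
def IsBase (H : Subgroup G) (l : List Ω) : Prop :=
  ∀ g ∈ H, (∀ a ∈ l, g • a = a) → g = 1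

/-- the tuple version for a subgroup -/
def IBfin (H : Subgroup G) {t : ℕ} (f : Fin t → Ω) : Prop :=
  (∀ g ∈ H, (∀ i : Fin t, g • f i = f i) → g = 1) ∧
    ∀ i : Fin t, ∃ g ∈ H, (∀ j : Fin t, j < i → g • f j = f j) ∧ g • f i ≠ f i

theorem ibfin_zero (H : Subgroup G) (f : Fin 0 → Ω) : IBfin H f ↔ H = ⊥ := by
  constructor
  · rintro ⟨h1, _⟩
    rw [Subgroup.eq_bot_iff_forall]
    intro g hg
    exact h1 g hg (fun i => i.elim0)
  · rintro rfl
    refine ⟨fun g hg _ => Subgroup.mem_bot.mp hg, fun i => i.elim0⟩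

theorem ibfin_succ (H : Subgroup G) {t : ℕ} (f : Fin (t + 1) → Ω) :
    IBfin H f ↔ (∃ g ∈ H, g • f 0 ≠ f 0) ∧
      IBfin (H ⊓ stabilizer G (f 0)) (fun i => f i.succ) := by
  constructor
  · rintro ⟨h1, h2⟩
    refine ⟨?_, ?_, ?_⟩
    · obtain ⟨g, hg, _, hg2⟩ := h2 0
      exact ⟨g, hg, hg2⟩
    · intro g hg hfix
      apply h1 g hg.1
      intro i
      refine Fin.cases ?_ (fun j => ?_) i
      · exact hg.2
      · exact hfix j
    · intro i
      obtain ⟨g, hg, hg1, hg2⟩ := h2 i.succ
      refine ⟨g, ⟨hg, ?_⟩, ?_, hg2⟩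
      · exact hg1 0 (Fin.succ_pos i)
      · intro j hj
        exact hg1 j.succ (Fin.succ_lt_succ_iff.mpr hj)
  · rintro ⟨⟨g0, hg0, hg0'⟩, h1, h2⟩
    refine ⟨?_, ?_⟩
    · intro g hg hfix
      exact h1 g ⟨hg, hfix 0⟩ (fun i => hfix i.succ)
    · intro i
      refine Fin.cases ?_ (fun j => ?_) i
      · exact ⟨g0, hg0, fun j hj => absurd hj (Fin.not_lt_zero j), hg0'⟩
      · obtain ⟨g, hg, hg1, hg2⟩ := h2 j
        refine ⟨g, hg.1, ?_, hg2⟩
        intro k
        refine Fin.cases ?_ (fun k' => ?_) k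
        · intro _
          exact hg.2
        · intro hk
          exact hg1 k' (Fin.succ_lt_succ_iff.mp hk)

theorem ibfin_iff : ∀ {t : ℕ} (H : Subgroup G) (f : Fin t → Ω), IBfin H f ↔ IB (List.ofFn f) H
  | 0, H, f => by rw [ibfin_zero, List.ofFn_zero]; rfl
  | t + 1, H, f => by
    rw [ibfin_succ, List.ofFn_succ, ibfin_iff]
    rfl

theorem ib_isBase : ∀ (l : List Ω) (H : Subgroup G), IB l H → IsBase H l
  | [], H, h => by
    intro g hg _
    have h' : H = ⊥ := h
    rw [h'] at hg
    exact Subgroup.mem_bot.mp hg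
  | a :: l, H, h => by
    intro g hg hfix
    exact ib_isBase l _ h.2 g ⟨hg, hfix a List.mem_cons_self⟩
      (fun b hb => hfix b (List.mem_cons_of_mem _ hb))

theorem ib_faithful (l : List Ω) (H : Subgroup G) (h : IB l H) :
    ∀ g ∈ H, (∀ ω : Ω, g • ω = ω) → g = 1 :=
  fun g hg hfix => ib_isBase l H h g hg (fun a _ => hfix a)

/-- Every base contains an irredundant base, of the same length only if it is irredundant itself. -/
theorem reduce : ∀ (l : List Ω) (H : Subgroup G), IsBase H l →
    ∃ l' : List Ω, IB l' H ∧ l'.length ≤ l.length ∧ (l'.length = l.length → IB l H)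
  | [], H, h => by
    have hH : H = ⊥ := by
      rw [Subgroup.eq_bot_iff_forall]
      intro g hg
      exact h g hg (fun a ha => absurd ha List.not_mem_nil)
    exact ⟨[], hH, le_refl _, fun _ => hH⟩
  | a :: l, H, h => by
    by_cases ha : ∃ g ∈ H, g • a ≠ a
    · have hb : IsBase (H ⊓ stabilizer G a) l := by
        intro g hg hfix
        apply h g hg.1
        intro b hb
        rcases List.mem_cons.mp hb with rfl | hb'
        · exact hg.2
        · exact hfix b hb'
      obtain ⟨l', h1, h2, h3⟩ := reduce l _ hb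
      refine ⟨a :: l', ⟨ha, h1⟩, by simpa using h2, fun hlen => ⟨ha, h3 (by simpa using hlen)⟩⟩
    · push Not at ha
      have hb : IsBase H l := by
        intro g hg hfix
        apply h g hg
        intro b hb
        rcases List.mem_cons.mp hb with rfl | hb'
        · exact ha g hg
        · exact hfix b hb'
      obtain ⟨l', h1, h2, _⟩ := reduce l H hb
      refine ⟨l', h1, by simp; omega, fun hlen => ?_⟩
      simp at hlen
      omega

end

section
variable {G Ω : Type*} [Group G] [MulAction G Ω]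

theorem card_lt_of_lt' [Finite G] {H K : Subgroup G} (h : H < K) : Nat.card H < Nat.card K := by
  by_contra hcon
  push Not at hcon
  exact h.ne (Subgroup.eq_of_le_of_card_ge h.le hcon)

/-- Existence of an irredundant base for a subgroup acting faithfully. -/
theorem exists_ib [Finite G] : ∀ (N : ℕ) (H : Subgroup G), Nat.card H ≤ N →
    (∀ g ∈ H, (∀ ω : Ω, g • ω = ω) → g = 1) → ∃ l : List Ω, IB l H := by
  intro N
  induction N with
  | zero =>
    intro H hN _
    have : 0 < Nat.card H := Nat.card_pos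
    omega
  | succ N ih =>
    intro H hN hf
    by_cases hH : H = ⊥
    · exact ⟨[], hH⟩
    · obtain ⟨g, hg1⟩ := (Subgroup.ne_bot_iff_exists_ne_one).mp hH
      have hg' : (g : G) ∈ H := g.2
      have hg1' : (g : G) ≠ 1 := fun h => hg1 (Subtype.ext h)
      have hmove : ∃ ω : Ω, (g : G) • ω ≠ ω := by
        by_contra hcon
        push Not at hcon
        exact hg1' (hf _ hg' hcon)
      obtain ⟨ω, hω⟩ := hmove
      have hlt : H ⊓ stabilizer G ω < H := by
        refine lt_of_le_of_ne inf_le_left (fun heq => hω ?_)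
        have : (g : G) ∈ H ⊓ stabilizer G ω := by rw [heq]; exact hg'
        exact this.2
      have hcard : Nat.card ↥(H ⊓ stabilizer G ω) < Nat.card H := card_lt_of_lt' hlt
      obtain ⟨l, hl⟩ := ih (H ⊓ stabilizer G ω) (by omega) (fun g hg hfix => hf g hg.1 hfix)
      exact ⟨ω :: l, ⟨(g : G), hg', hω⟩, hl⟩

/-- Irredundant bases of `H` are closed under reordering. -/
def PermClosed (Ω : Type*) [MulAction G Ω] (H : Subgroup G) : Prop :=
  ∀ (t : ℕ) (f : Fin t → Ω) (σ : Equiv.Perm (Fin t)), IB (List.ofFn f) H → IB (List.ofFn (f ∘ σ)) H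

theorem permClosed_stab (H : Subgroup G) (a : Ω) (ha : ∃ g ∈ H, g • a ≠ a) (hP : PermClosed Ω H) :
    PermClosed Ω (H ⊓ stabilizer G a) := by
  intro t f τ hf
  have h1 : IB (List.ofFn (Fin.cons a f : Fin (t + 1) → Ω)) H := by
    rw [List.ofFn_cons]
    exact ⟨ha, hf⟩
  have h2 := hP (t + 1) (Fin.cons a f) (Equiv.Perm.decomposeFin.symm (0, τ)) h1
  have h3 : (Fin.cons a f : Fin (t + 1) → Ω) ∘ (Equiv.Perm.decomposeFin.symm (0, τ))
      = Fin.cons a (f ∘ τ) := by
    funext i
    refine Fin.cases ?_ (fun j => ?_) i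
    · simp
    · simp
  rw [h3, List.ofFn_cons] at h2
  exact h2.2

theorem permClosed_swap (H : Subgroup G) (hP : PermClosed Ω H) (a b : Ω) (n : List Ω)
    (h : IB (a :: b :: n) H) : IB (b :: a :: n) H := by
  have h1 : IB (List.ofFn (Fin.cons a (Fin.cons b n.get) : Fin (n.length + 1 + 1) → Ω)) H := by
    rw [List.ofFn_cons, List.ofFn_cons, List.ofFn_get]
    exact h
  have h2 := hP _ _ (Equiv.swap 0 1) h1
  have h3 : (Fin.cons a (Fin.cons b n.get) : Fin (n.length + 1 + 1) → Ω) ∘ (Equiv.swap 0 1)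
      = Fin.cons b (Fin.cons a n.get) := by
    funext i
    refine Fin.cases ?_ (fun j => ?_) i
    · simp
    · refine Fin.cases ?_ (fun k => ?_) j
      · simp
      · have hne0 : k.succ.succ ≠ (0 : Fin (n.length + 1 + 1)) := Fin.succ_ne_zero _
        have hne1 : k.succ.succ ≠ (1 : Fin (n.length + 1 + 1)) := by
          rw [← Fin.succ_zero_eq_one]
          intro h
          exact Fin.succ_ne_zero k (Fin.succ_injective _ h)
        simp [Equiv.swap_apply_of_ne_of_ne hne0 hne1]
  rw [h3, List.ofFn_cons, List.ofFn_cons, List.ofFn_get] at h2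
  exact h2

theorem same_length [Finite G] : ∀ (N : ℕ) (H : Subgroup G), Nat.card H ≤ N → PermClosed Ω H →
    ∀ l l' : List Ω, IB l H → IB l' H → l.length = l'.length := by
  intro N
  induction N with
  | zero =>
    intro H hN
    have : 0 < Nat.card H := Nat.card_pos
    omega
  | succ N ih =>
    intro H hN hP l l' hl hl'
    have hbot : ∀ (b : Ω) (m' : List Ω), H = ⊥ → ¬ IB (b :: m') H := by
      rintro b m' rfl ⟨⟨g, hg, hgb⟩, _⟩
      rw [Subgroup.mem_bot.mp hg, one_smul] at hgb
      exact hgb rfl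
    cases l with
    | nil =>
      cases l' with
      | nil => rfl
      | cons b m' => exact absurd hl' (hbot b m' hl)
    | cons a m =>
      cases l' with
      | nil => exact absurd hl (hbot a m hl')
      | cons b m' =>
        obtain ⟨hma, hm⟩ := hl
        obtain ⟨hmb, hm'⟩ := hl'
        have hlt : ∀ c : Ω, (∃ g ∈ H, g • c ≠ c) → Nat.card ↥(H ⊓ stabilizer G c) ≤ N := by
          rintro c ⟨g, hg, hgc⟩
          have hlt : H ⊓ stabilizer G c < H := by
            refine lt_of_le_of_ne inf_le_left (fun heq => hgc ?_)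
            have : g ∈ H ⊓ stabilizer G c := by rw [heq]; exact hg
            exact this.2
          have := card_lt_of_lt' hlt
          omega
        have hPa := permClosed_stab H a hma hP
        have hPb := permClosed_stab H b hmb hP
        have hQa := ih _ (hlt a hma) hPa
        have hQb := ih _ (hlt b hmb) hPb
        have hfaith : ∀ g ∈ H, (∀ ω : Ω, g • ω = ω) → g = 1 := ib_faithful (a :: m) H ⟨hma, hm⟩
        simp only [List.length_cons, add_left_inj]
        by_cases hab : ∃ g ∈ H ⊓ stabilizer G a, g • b ≠ b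
        · obtain ⟨n, hn⟩ := exists_ib (Ω := Ω) (Nat.card ↥(H ⊓ stabilizer G a ⊓ stabilizer G b))
            (H ⊓ stabilizer G a ⊓ stabilizer G b) le_rfl (fun g hg hfix => hfaith g hg.1.1 hfix)
          have h1 : IB (a :: b :: n) H := ⟨hma, hab, hn⟩
          have h2 : IB (b :: a :: n) H := permClosed_swap H hP a b n h1
          have e1 := hQa m (b :: n) hm ⟨hab, hn⟩
          have e2 := hQb m' (a :: n) hm' h2.2
          simp only [List.length_cons] at e1 e2
          omega
        · push Not at hab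
          by_cases hba : ∃ g ∈ H ⊓ stabilizer G b, g • a ≠ a
          · exfalso
            obtain ⟨n, hn⟩ := exists_ib (Ω := Ω) (Nat.card ↥(H ⊓ stabilizer G b ⊓ stabilizer G a))
              (H ⊓ stabilizer G b ⊓ stabilizer G a) le_rfl (fun g hg hfix => hfaith g hg.1.1 hfix)
            have h1 : IB (b :: a :: n) H := ⟨hmb, hba, hn⟩
            have h2 : IB (a :: b :: n) H := permClosed_swap H hP b a n h1
            obtain ⟨g, hg, hgb⟩ := h2.2.1
            exact hgb (hab g hg)
          · push Not at hba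
            have heq : H ⊓ stabilizer G a = H ⊓ stabilizer G b := by
              apply le_antisymm
              · intro g hg
                exact ⟨hg.1, hab g hg⟩
              · intro g hg
                exact ⟨hg.1, hba g hg⟩
            rw [heq] at hm
            exact hQb m m' hm hm'

end

theorem top_iff {G Ω : Type*} [Group G] [MulAction G Ω] {t : ℕ} (f : Fin t → Ω) :
    ((∀ g : G, (∀ i : Fin t, g • f i = f i) → g = 1) ∧ ∀ i : Fin t, ∃ g : G, (∀ j : Fin t, j < i → g • f j = f j) ∧ g • f i ≠ f i) ↔ IB (List.ofFn f) (⊤ : Subgroup G) := by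
  rw [← ibfin_iff]
  simp [IBfin]

theorem result {G Ω : Type*} [Group G] [Finite G] [MulAction G Ω] [Fintype Ω] :
    (∀ (t t' : ℕ) (f : Fin t → Ω) (f' : Fin t' → Ω), ((∀ g : G, (∀ i : Fin t, g • f i = f i) → g = 1) ∧ ∀ i : Fin t, ∃ g : G, (∀ j : Fin t, j < i → g • f j = f j) ∧ g • f i ≠ f i) → ((∀ g : G, (∀ i : Fin t', g • f' i = f' i) → g = 1) ∧ ∀ i : Fin t', ∃ g : G, (∀ j : Fin t', j < i → g • f' j = f' j) ∧ g • f' i ≠ f' i) → t = t') ↔
    (∀ (t : ℕ) (f : Fin t → Ω) (σ : Equiv.Perm (Fin t)), ((∀ g : G, (∀ i : Fin t, g • f i = f i) → g = 1) ∧ ∀ i : Fin t, ∃ g : G, (∀ j : Fin t, j < i → g • f j = f j) ∧ g • f i ≠ f i) → ((∀ g : G, (∀ i : Fin t, g • (f ∘ σ) i = (f ∘ σ) i) → g = 1) ∧ ∀ i : Fin t, ∃ g : G, (∀ j : Fin t, j < i → g • (f ∘ σ) j = (f ∘ σ) j) ∧ g • (f ∘ σ) i ≠ (f ∘ σ) i)) := by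
  simp only [top_iff]
  constructor
  · intro hA t f σ hf
    have hperm : List.Perm (List.ofFn (f ∘ σ)) (List.ofFn f) := σ.ofFn_comp_perm f
    have hbase : IsBase (⊤ : Subgroup G) (List.ofFn (f ∘ σ)) := by
      intro g hg hfix
      exact ib_isBase _ _ hf g hg (fun a ha => hfix a (hperm.mem_iff.mpr ha))
    obtain ⟨l', h1, h2, h3⟩ := reduce _ _ hbase
    apply h3
    have := hA l'.length t l'.get f (by rw [List.ofFn_get]; exact h1) hf
    rw [List.length_ofFn]
    exact this
  · intro hB t t' f f' hf hf'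
    have hP : PermClosed Ω (⊤ : Subgroup G) := fun t f σ h => hB t f σ h
    have := same_length (Nat.card (⊤ : Subgroup G)) ⊤ le_rfl hP _ _ hf hf'
    simpa using this

end Cfsg.Agent.S5747
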