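import Cfsg.Statements.S5752
import Cfsg.Agent.Lib.Helper66.TWWielandt

set_option autoImplicit false
open Cfsg

namespace Cfsg.Agent.S5752

open Cfsg.Agent.Lib.Helper66.TW
open Cfsg.Agent.Lib.Helper67

/-- A core-free maximal subgroup satisfies the normalizer hypothesis. -/
theorem normHyp_of_coatom {G : Type*} [Group G] {M : Subgroup G} (hmax : IsCoatom M)
    (hcore : M.normalCore = ⊥) : NormHyp M := by
  intro X hX hXM hn
  rcases hmax.le_iff.mp hn with h | h
  · exfalso
    apply hX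
    have hXn : X.Normal := Subgroup.normalizer_eq_top_iff.mp h
    have : X ≤ M.normalCore := Subgroup.normal_le_normalCore.mpr hXM
    rw [hcore] at this
    exact le_bot_iff.mp this
  · exact h.le

/-- `F*(Y) = O_p(Y)` for a normal subgroup `Y` of a group `M` with `F*(M) = O_p(M)`. -/
theorem genFitting_eq_pCore_of_normal_sub {G : Type*} [Group G] [Finite G] {p : ℕ} [Fact p.Prime]
    {M Y : Subgroup G} (hYM : Y ≤ M) (hn : M ≤ Subgroup.normalizer (Y : Set G))
    (h : Cfsg.generalizedFittingSubgroup ↥M = Cfsg.pCore p ↥M) :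
    Cfsg.generalizedFittingSubgroup ↥Y = Cfsg.pCore p ↥Y := by
  rw [Cfsg.Agent.Lib.Helper56.genFitting_eq_pCore_iff] at h ⊢
  have hN : (Y.subgroupOf M).Normal := Subgroup.normal_subgroupOf_of_le_normalizer hn
  have h1 := Cfsg.Agent.Lib.Helper56.charP_of_isSubnormal h (Y.subgroupOf M) hN.isSubnormal
  exact Cfsg.Agent.Lib.Helper56.charP_of_mulEquiv (Subgroup.subgroupOfEquivOfLe hYM) h1

/-- A form of the Thompson–Wielandt Theorem on primitive permutation groups. Let G be a finite group and M₁, M₂ two distinct conjugate maximal subgroups of G with trivial core in G; define two descending sequences of subgroups by A₀ = M₁, B₀ = M₂ and, for every i, A_{i+1} = the core in M₁ of A_i ∩ B_i and B_{i+1} = the core in M₂ of A_i ∩ B_i (the core in M of a subgroup Y ≤ M is the largest normal subgroup of M contained in Y). If A₂ and B₂ are both non-trivial, then for some prime p the subgroup generated by A₂ and B₂ is a p-group, and for each j the generalized Fitting subgroups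 of M_j and of its first core (A₁, resp. B₁) are their largest normal p-subgroups. -/
theorem result {G : Type*} [Group G] [Finite G] (M₁ M₂ : Subgroup G) (hmax : IsCoatom M₁) (g : G)
    (hconj : M₂ = M₁.map (MulAut.conj g).toMonoidHom) (hne : M₁ ≠ M₂) (hcore : M₁.normalCore = ⊥)
    (A B : ℕ → Subgroup G) (hA0 : A 0 = M₁) (hB0 : B 0 = M₂)
    (hA : ∀ i, A (i + 1) = ((A i ⊓ B i).subgroupOf M₁).normalCore.map M₁.subtype)
    (hB : ∀ i, B (i + 1) = ((A i ⊓ B i).subgroupOf M₂).normalCore.map M₂.subtype) (hA2 : A 2 ≠ ⊥) (hB2 : B 2 ≠ ⊥) :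
    ∃ p : ℕ, p.Prime ∧ IsPGroup p ↥(A 2 ⊔ B 2) ∧
      Cfsg.generalizedFittingSubgroup ↥M₁ = Cfsg.pCore p ↥M₁ ∧ Cfsg.generalizedFittingSubgroup ↥(A 1) = Cfsg.pCore p ↥(A 1) ∧
      Cfsg.generalizedFittingSubgroup ↥M₂ = Cfsg.pCore p ↥M₂ ∧ Cfsg.generalizedFittingSubgroup ↥(B 1) = Cfsg.pCore p ↥(B 1) := by
  have hA1 : A 1 = coreIn M₁ (M₁ ⊓ M₂) := by
    have := hA 0
    rw [hA0, hB0] at this
    exact this
  have hB1 : B 1 = coreIn M₂ (M₁ ⊓ M₂) := by
    have := hB 0
    rw [hA0, hB0] at this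
    exact this
  have hA2' : A 2 = coreIn M₁ (coreIn M₁ (M₁ ⊓ M₂) ⊓ coreIn M₂ (M₁ ⊓ M₂)) := by
    have := hA 1
    rw [hA1, hB1] at this
    exact this
  have hB2' : B 2 = coreIn M₂ (coreIn M₁ (M₁ ⊓ M₂) ⊓ coreIn M₂ (M₁ ⊓ M₂)) := by
    have := hB 1
    rw [hA1, hB1] at this
    exact this
  have hH : NormHyp M₁ := normHyp_of_coatom hmax hcore
  have hmax2 : IsCoatom M₂ := by
    rw [hconj]
    exact (OrderIso.isCoatom_iff (MulEquiv.mapSubgroup (MulAut.conj g)) M₁).mpr hmax
  have hcore2 : M₂.normalCore = ⊥ := by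
    have h1 : M₂.normalCore ≤ M₁ := by
      intro x hx
      have h2 : g * x * g⁻¹ ∈ M₂ := M₂.normalCore_le ((M₂.normalCore_normal).conj_mem x hx g)
      rw [hconj] at h2
      obtain ⟨m, hm, hmx⟩ := h2
      have : m = x := by
        have h3 : g * m * g⁻¹ = g * x * g⁻¹ := by simpa [MulAut.conj_apply] using hmx
        have h4 := congrArg (fun t => g⁻¹ * t * g) h3
        simpa [mul_assoc] using h4
      rwa [← this]
    have h2 : M₂.normalCore ≤ M₁.normalCore := Subgroup.normal_le_normalCore.mpr h1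
    rw [hcore] at h2
    exact le_bot_iff.mp h2
  have hK : NormHyp M₂ := normHyp_of_coatom hmax2 hcore2
  rw [hA2'] at hA2
  rw [hB2'] at hB2
  obtain ⟨p, hp, hcH, hcK, _, _, hUV⟩ := thompson_wielandt g hconj hne hH hK hA2 hB2
  have : Fact p.Prime := ⟨hp⟩
  have hF1 := genFitting_eq_pCore_of_internal hcH
  have hF2 := genFitting_eq_pCore_of_internal hcK
  refine ⟨p, hp, ?_, hF1, ?_, hF2, ?_⟩
  · rw [hA2', hB2']
    exact hUV
  · apply genFitting_eq_pCore_of_normal_sub (M := M₁) _ _ hF1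
    · rw [hA1]; exact coreIn_le_left _ _
    · rw [hA1]; exact coreIn_normalizer _ _
  · apply genFitting_eq_pCore_of_normal_sub (M := M₂) _ _ hF2
    · rw [hB1]; exact coreIn_le_left _ _
    · rw [hB1]; exact coreIn_normalizer _ _

end Cfsg.Agent.S5752
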