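import Cfsg.Statements.S5754

set_option autoImplicit false
open Cfsg

namespace Cfsg.Agent.S5754

open QuadraticMap

variable {F V : Type*} [Field F] [AddCommGroup V] [Module F V]

/-- The linear functional `x ↦ polar Q x w / Q w`. -/
noncomputable def reflFun (Q : QuadraticForm F V) (w : V) : Module.Dual F V :=
  (Q w)⁻¹ • (QuadraticMap.polarBilin Q).flip w

theorem reflFun_apply (Q : QuadraticForm F V) (w x : V) :
    reflFun Q w x = (Q w)⁻¹ * polar Q x w := by
  simp [reflFun]

theorem sub_eq (Q : QuadraticForm F V) (x y : V) : Q (x - y) = Q x + Q y - polar Q x y := by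
  have h := QuadraticMap.map_add Q x (-y)
  rw [polar_neg_right, QuadraticMap.map_neg, ← sub_eq_add_neg] at h
  rw [h]; ring

theorem reflFun_self (Q : QuadraticForm F V) (w : V) (hw : Q w ≠ 0) : reflFun Q w w = 2 := by
  rw [reflFun_apply, polar_self, two_smul, ← two_mul]
  field_simp

/-- The reflection in the non-singular vector `w`. -/
noncomputable def reflIso (Q : QuadraticForm F V) (w : V) (hw : Q w ≠ 0) : Q.IsometryEquiv Q :=
  { Module.reflection (reflFun_self Q w hw) with
    map_app' := by
      intro m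
      change Q (Module.reflection (reflFun_self Q w hw) m) = Q m
      rw [Module.reflection_apply, sub_eq, QuadraticMap.map_smul, polar_smul_right, reflFun_apply]
      simp only [smul_eq_mul]
      field_simp
      ring }

theorem reflIso_apply (Q : QuadraticForm F V) (w : V) (hw : Q w ≠ 0) (x : V) :
    reflIso Q w hw x = x - ((Q w)⁻¹ * polar Q x w) • w := by
  change Module.reflection (reflFun_self Q w hw) x = _
  rw [Module.reflection_apply, reflFun_apply]

theorem polar_eq (Q : QuadraticForm F V) (x y : V) : polar Q x y = Q x + Q y - Q (x - y) := by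
  rw [sub_eq]; ring

theorem isometry_polar (Q : QuadraticForm F V) (φ : Q.IsometryEquiv Q) (x y : V) :
    polar Q (φ x) (φ y) = polar Q x y := by
  rw [polar_eq, polar_eq, ← map_sub, φ.map_app, φ.map_app, φ.map_app]

theorem witt_aux (Q : QuadraticForm F V) (hQ : Q.Anisotropic) (n : ℕ) (v v' : Fin n → V)
    (h1 : ∀ i, Q (v i) = Q (v' i)) (h2 : ∀ i j, Q (v i - v j) = Q (v' i - v' j)) (k : ℕ) :
    ∃ φ : Q.IsometryEquiv Q, ∀ i : Fin n, i.val < k → φ (v i) = v' i := by
  induction k with
  | zero => exact ⟨QuadraticMap.IsometryEquiv.refl Q, fun i hi => absurd hi (Nat.not_lt_zero _)⟩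
  | succ k ih =>
    obtain ⟨φ, hφ⟩ := ih
    by_cases hk : k < n
    · set ik : Fin n := ⟨k, hk⟩ with hik
      set x := φ (v ik) with hx
      set y := v' ik with hy
      by_cases hw : x - y = 0
      · refine ⟨φ, fun i hi => ?_⟩
        rcases Nat.lt_succ_iff_lt_or_eq.mp hi with h | h
        · exact hφ i h
        · have : i = ik := Fin.ext h
          rw [this]
          exact sub_eq_zero.mp hw
      · have hQw : Q (x - y) ≠ 0 := fun h => hw (hQ _ h)
        have hQxy : Q x = Q y := by rw [hx, φ.map_app, h1]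
        refine ⟨φ.trans (reflIso Q (x - y) hQw), fun i hi => ?_⟩
        change reflIso Q (x - y) hQw (φ (v i)) = v' i
        rcases Nat.lt_succ_iff_lt_or_eq.mp hi with h | h
        · rw [hφ i h, reflIso_apply]
          have hpol : polar Q (v' i) (x - y) = 0 := by
            rw [polar_sub_right, ← hφ i h, hx, isometry_polar, hφ i h, hy, polar_eq, polar_eq, h1 i,
              h1 ik, h2 i ik]
            ring
          rw [hpol, mul_zero, zero_smul, sub_zero]
        · have : i = ik := Fin.ext h
          rw [this, ← hx, reflIso_apply]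
          have hpol : polar Q x (x - y) = Q (x - y) := by
            rw [polar_sub_right, polar_self, sub_eq, two_smul, hQxy]
          rw [hpol, inv_mul_cancel₀ hQw, one_smul]
          abel
    · refine ⟨φ, fun i _ => hφ i ?_⟩
      have := i.isLt
      omega

theorem result {F V : Type*} [Field F] [Finite F] [AddCommGroup V] [Module F V] [Module.Finite F V]
    (Q : QuadraticForm F V) (hQ : Q.Anisotropic) (n : ℕ) (hn : 2 ≤ n) (u u' : Fin n → V)
    (h2 : ∀ i j : Fin n, i ≠ j → ∃ (φ : Q.IsometryEquiv Q) (c : V), φ (u i) + c = u' i ∧ φ (u j) + c = u' j) :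
    ∃ (φ : Q.IsometryEquiv Q) (c : V), ∀ i, φ (u i) + c = u' i := by
  have h0 : 0 < n := by omega
  set i0 : Fin n := ⟨0, h0⟩ with hi0
  have hd : ∀ i j, Q (u i - u j) = Q (u' i - u' j) := by
    intro i j
    by_cases hij : i = j
    · subst hij; simp
    · obtain ⟨φ, c, hi, hj⟩ := h2 i j hij
      rw [← hi, ← hj, add_sub_add_right_eq_sub, ← map_sub, φ.map_app]
  obtain ⟨φ, hφ⟩ := witt_aux Q hQ n (fun i => u i - u i0) (fun i => u' i - u' i0)
    (fun i => hd i i0) (fun i j => by simp only [sub_sub_sub_cancel_right]; exact hd i j) n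
  refine ⟨φ, u' i0 - φ (u i0), fun i => ?_⟩
  have h := hφ i i.isLt
  simp only [map_sub] at h
  have h' : φ (u i) = u' i - u' i0 + φ (u i0) := by
    rw [← h]; abel
  rw [h']; abel

end Cfsg.Agent.S5754
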