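import Cfsg.Statements.S5763
import Mathlib

set_option autoImplicit false
open Cfsg

namespace Cfsg.Agent.S5763

open Equiv

/-- the standard fixed-point-free involution `i ↦ i xor 1` as a function -/
def sf : Fin 8 → Fin 8 := ![1, 0, 3, 2, 5, 4, 7, 6]

/-- ... and as a permutation -/
def s : Perm (Fin 8) := ⟨sf, sf, by decide, by decide⟩

/-- index of the pair `{2k, 2k+1}` containing a point -/
def e : Fin 8 → Fin 4 := ![0, 0, 1, 1, 2, 2, 3, 3]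
def β₁ : Fin 4 → Fin 2 := ![0, 0, 1, 1]
def β₂ : Fin 4 → Fin 2 := ![0, 1, 0, 1]
def rep : Fin 4 → Fin 8 := ![0, 2, 4, 6]

lemma s_apply (i : Fin 8) : s i = sf i := rfl
lemma e_sf : ∀ i : Fin 8, e (sf i) = e i := by decide
lemma rep_or : ∀ i : Fin 8, i = rep (e i) ∨ i = sf (rep (e i)) := by decide
lemma e_rep : ∀ k : Fin 4, e (rep k) = k := by decide
lemma eq_or_of_e : ∀ i j : Fin 8, e j = e i → j = i ∨ j = sf i := by decide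
lemma sf_sf : ∀ i : Fin 8, sf (sf i) = i := by decide
lemma sf_ne : ∀ i : Fin 8, sf i ≠ i := by decide
lemma e_ne_of : ∀ i j : Fin 8, j ≠ i → j ≠ sf i → e j ≠ e i := by decide
lemma swap_comm_sf : ∀ a i : Fin 8, swap a (sf a) (sf i) = sf (swap a (sf a) i) := by decide
lemma e_swap : ∀ a i : Fin 8, e (swap a (sf a) i) = e i := by decide

lemma s_mul_s : s * s = 1 := by
  ext i
  simp only [Perm.mul_apply, s_apply, sf_sf, Perm.one_apply]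

/-! ### the decision lemma on pairs of disjoint perfect matchings -/

def Concl (f : Fin 8 → Fin 8) : Prop :=
  (∀ i, sf (f (sf (f i))) = i ∧ sf (f i) ≠ i ∧ sf (f i) ≠ sf i ∧ sf (f i) ≠ f i ∧
      sf (f (sf i)) = sf (sf (f i)) ∧ sf (f (f i)) = f (sf (f i))) ∨
  (∀ i, sf (f (sf (f (sf (f (sf (f i))))))) = i ∧ sf (f (sf (f i))) ≠ i ∧ sf (f (sf (f i))) ≠ sf i ∧
      sf (f (sf (f i))) ≠ f i ∧ sf (f (sf (f (sf i)))) = sf (sf (f (sf (f i)))) ∧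
      sf (f (sf (f (f i)))) = f (sf (f (sf (f i)))))

instance (f : Fin 8 → Fin 8) : Decidable (Concl f) := by unfold Concl; infer_instance

def L7 (a0 a1 a2 a3 a4 a5 a6 : Fin 8) : Prop :=
  ∀ a7 : Fin 8, (a7 ≠ 7 ∧ a7 ≠ 6 ∧ a7 ≠ a0 ∧ a7 ≠ a1 ∧ a7 ≠ a2 ∧ a7 ≠ a3 ∧ a7 ≠ a4 ∧ a7 ≠ a5 ∧ a7 ≠ a6 ∧ (a7 = 0 → a0 = 7) ∧ (a7 = 1 → a1 = 7) ∧ (a7 = 2 → a2 = 7) ∧ (a7 = 3 → a3 = 7) ∧ (a7 = 4 → a4 = 7) ∧ (a7 = 5 → a5 = 7) ∧ (a7 = 6 → a6 = 7) ∧ (a0 = 7 → a7 = 0) ∧ (a1 = 7 → a7 = 1) ∧ (a2 = 7 → a7 = 2) ∧ (a3 = 7 → a7 = 3) ∧ (a4 = 7 → a7 = 4) ∧ (a5 = 7 → a7 = 5) ∧ (a6 = 7 → a7 = 6)) → Concl ![a0, a1, a2, a3, a4, a5, a6, a7]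

instance (a0 a1 a2 a3 a4 a5 a6 : Fin 8) : Decidable (L7 a0 a1 a2 a3 a4 a5 a6) := by unfold L7; infer_instance

def L6 (a0 a1 a2 a3 a4 a5 : Fin 8) : Prop :=
  ∀ a6 : Fin 8, (a6 ≠ 6 ∧ a6 ≠ 7 ∧ a6 ≠ a0 ∧ a6 ≠ a1 ∧ a6 ≠ a2 ∧ a6 ≠ a3 ∧ a6 ≠ a4 ∧ a6 ≠ a5 ∧ (a6 = 0 → a0 = 6) ∧ (a6 = 1 → a1 = 6) ∧ (a6 = 2 → a2 = 6) ∧ (a6 = 3 → a3 = 6) ∧ (a6 = 4 → a4 = 6) ∧ (a6 = 5 → a5 = 6) ∧ (a0 = 6 → a6 = 0) ∧ (a1 = 6 → a6 = 1) ∧ (a2 = 6 → a6 = 2) ∧ (a3 = 6 → a6 = 3) ∧ (a4 = 6 → a6 = 4) ∧ (a5 = 6 → a6 = 5)) → L7 a0 a1 a2 a3 a4 a5 a6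

instance (a0 a1 a2 a3 a4 a5 : Fin 8) : Decidable (L6 a0 a1 a2 a3 a4 a5) := by unfold L6; infer_instance

def L5 (a0 a1 a2 a3 a4 : Fin 8) : Prop :=
  ∀ a5 : Fin 8, (a5 ≠ 5 ∧ a5 ≠ 4 ∧ a5 ≠ a0 ∧ a5 ≠ a1 ∧ a5 ≠ a2 ∧ a5 ≠ a3 ∧ a5 ≠ a4 ∧ (a5 = 0 → a0 = 5) ∧ (a5 = 1 → a1 = 5) ∧ (a5 = 2 → a2 = 5) ∧ (a5 = 3 → a3 = 5) ∧ (a5 = 4 → a4 = 5) ∧ (a0 = 5 → a5 = 0) ∧ (a1 = 5 → a5 = 1) ∧ (a2 = 5 → a5 = 2) ∧ (a3 = 5 → a5 = 3) ∧ (a4 = 5 → a5 = 4)) → L6 a0 a1 a2 a3 a4 a5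

instance (a0 a1 a2 a3 a4 : Fin 8) : Decidable (L5 a0 a1 a2 a3 a4) := by unfold L5; infer_instance

def L4 (a0 a1 a2 a3 : Fin 8) : Prop :=
  ∀ a4 : Fin 8, (a4 ≠ 4 ∧ a4 ≠ 5 ∧ a4 ≠ a0 ∧ a4 ≠ a1 ∧ a4 ≠ a2 ∧ a4 ≠ a3 ∧ (a4 = 0 → a0 = 4) ∧ (a4 = 1 → a1 = 4) ∧ (a4 = 2 → a2 = 4) ∧ (a4 = 3 → a3 = 4) ∧ (a0 = 4 → a4 = 0) ∧ (a1 = 4 → a4 = 1) ∧ (a2 = 4 → a4 = 2) ∧ (a3 = 4 → a4 = 3)) → L5 a0 a1 a2 a3 a4

instance (a0 a1 a2 a3 : Fin 8) : Decidable (L4 a0 a1 a2 a3) := by unfold L4; infer_instance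

def L3 (a0 a1 a2 : Fin 8) : Prop :=
  ∀ a3 : Fin 8, (a3 ≠ 3 ∧ a3 ≠ 2 ∧ a3 ≠ a0 ∧ a3 ≠ a1 ∧ a3 ≠ a2 ∧ (a3 = 0 → a0 = 3) ∧ (a3 = 1 → a1 = 3) ∧ (a3 = 2 → a2 = 3) ∧ (a0 = 3 → a3 = 0) ∧ (a1 = 3 → a3 = 1) ∧ (a2 = 3 → a3 = 2)) → L4 a0 a1 a2 a3

instance (a0 a1 a2 : Fin 8) : Decidable (L3 a0 a1 a2) := by unfold L3; infer_instance

def L2 (a0 a1 : Fin 8) : Prop :=
  ∀ a2 : Fin 8, (a2 ≠ 2 ∧ a2 ≠ 3 ∧ a2 ≠ a0 ∧ a2 ≠ a1 ∧ (a2 = 0 → a0 = 2) ∧ (a2 = 1 → a1 = 2) ∧ (a0 = 2 → a2 = 0) ∧ (a1 = 2 → a2 = 1)) → L3 a0 a1 a2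

instance (a0 a1 : Fin 8) : Decidable (L2 a0 a1) := by unfold L2; infer_instance

def L1 (a0 : Fin 8) : Prop :=
  ∀ a1 : Fin 8, (a1 ≠ 1 ∧ a1 ≠ 0 ∧ a1 ≠ a0 ∧ (a1 = 0 → a0 = 1) ∧ (a0 = 1 → a1 = 0)) → L2 a0 a1

instance (a0 : Fin 8) : Decidable (L1 a0) := by unfold L1; infer_instance

def L0  : Prop :=
  ∀ a0 : Fin 8, (a0 ≠ 0 ∧ a0 ≠ 1) → L1 a0

instance  : Decidable (L0 ) := by unfold L0; infer_instance

theorem D : L0 := by decide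

lemma vec8 (f : Fin 8 → Fin 8) : (![f 0, f 1, f 2, f 3, f 4, f 5, f 6, f 7] : Fin 8 → Fin 8) = f := by
  funext i
  fin_cases i <;> rfl

theorem concl_of (z : Perm (Fin 8)) (hinv : ∀ i, z (z i) = i) (hfpf : ∀ i, z i ≠ i)
    (hne : ∀ i, z i ≠ sf i) : Concl z := by
  have hinj : ∀ i j : Fin 8, i ≠ j → z i ≠ z j := fun i j hij h => hij (z.injective h)
  have hb : ∀ i j : Fin 8, z j = i → z i = j := fun i j h => by rw [← h]; exact hinv j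
  have h := D
    (z 0) ⟨hfpf 0, hne 0⟩
    (z 1) ⟨hfpf 1, hne 1, hinj 1 0 (by decide), hb 0 1, hb 1 0⟩
    (z 2) ⟨hfpf 2, hne 2, hinj 2 0 (by decide), hinj 2 1 (by decide), hb 0 2, hb 1 2, hb 2 0, hb 2 1⟩
    (z 3) ⟨hfpf 3, hne 3, hinj 3 0 (by decide), hinj 3 1 (by decide), hinj 3 2 (by decide), hb 0 3, hb 1 3, hb 2 3, hb 3 0, hb 3 1, hb 3 2⟩
    (z 4) ⟨hfpf 4, hne 4, hinj 4 0 (by decide), hinj 4 1 (by decide), hinj 4 2 (by decide), hinj 4 3 (by decide), hb 0 4, hb 1 4, hb 2 4, hb 3 4, hb 4 0, hb 4 1, hb 4 2, hb 4 3⟩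
    (z 5) ⟨hfpf 5, hne 5, hinj 5 0 (by decide), hinj 5 1 (by decide), hinj 5 2 (by decide), hinj 5 3 (by decide), hinj 5 4 (by decide), hb 0 5, hb 1 5, hb 2 5, hb 3 5, hb 4 5, hb 5 0, hb 5 1, hb 5 2, hb 5 3, hb 5 4⟩
    (z 6) ⟨hfpf 6, hne 6, hinj 6 0 (by decide), hinj 6 1 (by decide), hinj 6 2 (by decide), hinj 6 3 (by decide), hinj 6 4 (by decide), hinj 6 5 (by decide), hb 0 6, hb 1 6, hb 2 6, hb 3 6, hb 4 6, hb 5 6, hb 6 0, hb 6 1, hb 6 2, hb 6 3, hb 6 4, hb 6 5⟩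
    (z 7) ⟨hfpf 7, hne 7, hinj 7 0 (by decide), hinj 7 1 (by decide), hinj 7 2 (by decide), hinj 7 3 (by decide), hinj 7 4 (by decide), hinj 7 5 (by decide), hinj 7 6 (by decide), hb 0 7, hb 1 7, hb 2 7, hb 3 7, hb 4 7, hb 5 7, hb 6 7, hb 7 0, hb 7 1, hb 7 2, hb 7 3, hb 7 4, hb 7 5, hb 7 6⟩
  rw [vec8 z] at h
  exact h

/-! ### the 2-group `R₀` -/

def Pres (β : Fin 4 → Fin 2) (σ : Perm (Fin 8)) : Prop :=
  ∀ i j, β (e i) = β (e j) ↔ β (e (σ i)) = β (e (σ j))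

def R₀ : Subgroup (Perm (Fin 8)) where
  carrier := {σ | σ * s = s * σ ∧ Pres β₁ σ ∧ Pres β₂ σ}
  mul_mem' := by
    rintro σ τ ⟨h1, h2, h3⟩ ⟨k1, k2, k3⟩
    refine ⟨?_, ?_, ?_⟩
    · calc σ * τ * s = σ * (τ * s) := mul_assoc _ _ _
        _ = σ * (s * τ) := by rw [k1]
        _ = (σ * s) * τ := (mul_assoc _ _ _).symm
        _ = s * σ * τ := by rw [h1]
        _ = s * (σ * τ) := mul_assoc _ _ _
    · intro i j
      rw [k2 i j, h2 (τ i) (τ j)]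
      rfl
    · intro i j
      rw [k3 i j, h3 (τ i) (τ j)]
      rfl
  one_mem' := ⟨by simp, fun i j => Iff.rfl, fun i j => Iff.rfl⟩
  inv_mem' := by
    rintro σ ⟨h1, h2, h3⟩
    refine ⟨?_, ?_, ?_⟩
    · have : s * σ⁻¹ = σ⁻¹ * (σ * s) * σ⁻¹ := by group
      rw [this, h1]; group
    · intro i j
      have := h2 (σ⁻¹ i) (σ⁻¹ j)
      simp only [Perm.coe_inv, Equiv.apply_symm_apply] at this
      exact this.symm
    · intro i j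
      have := h3 (σ⁻¹ i) (σ⁻¹ j)
      simp only [Perm.coe_inv, Equiv.apply_symm_apply] at this
      exact this.symm

lemma mem_R₀ {σ : Perm (Fin 8)} : σ ∈ R₀ ↔ σ * s = s * σ ∧ Pres β₁ σ ∧ Pres β₂ σ := Iff.rfl

lemma comm_apply {σ : Perm (Fin 8)} (h : σ * s = s * σ) (i : Fin 8) : σ (sf i) = sf (σ i) := by
  have := congrArg (fun p : Perm (Fin 8) => p i) h
  simpa [Perm.mul_apply, s_apply] using this

lemma e_apply {σ : Perm (Fin 8)} (h : σ * s = s * σ) (i : Fin 8) :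
    e (σ i) = e (σ (rep (e i))) := by
  rcases rep_or i with h1 | h1
  · rw [← h1]
  · calc e (σ i) = e (σ (sf (rep (e i)))) := by rw [← h1]
      _ = e (sf (σ (rep (e i)))) := by rw [comm_apply h]
      _ = e (σ (rep (e i))) := e_sf _

lemma vec4 (f : Fin 4 → Fin 4) : (![f 0, f 1, f 2, f 3] : Fin 4 → Fin 4) = f := by
  funext i
  fin_cases i <;> rfl

def PresF (β : Fin 4 → Fin 2) (f : Fin 4 → Fin 4) : Prop :=
  ∀ k l, β k = β l ↔ β (f k) = β (f l)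

instance (β : Fin 4 → Fin 2) (f : Fin 4 → Fin 4) : Decidable (PresF β f) := by
  unfold PresF; infer_instance

lemma dec2 : ∀ a0 a1 a2 a3 : Fin 4, PresF β₁ ![a0, a1, a2, a3] → PresF β₂ ![a0, a1, a2, a3] →
    ∀ k, (![a0, a1, a2, a3] : Fin 4 → Fin 4) ((![a0, a1, a2, a3] : Fin 4 → Fin 4) k) = k := by
  decide

lemma dec3 : ∀ a0 a1 a2 a3 : Fin 4,
    (∀ k, (![a0, a1, a2, a3] : Fin 4 → Fin 4) ((![a0, a1, a2, a3] : Fin 4 → Fin 4) k) = k) →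
    (∀ k, (![a0, a1, a2, a3] : Fin 4 → Fin 4) k ≠ k) →
    PresF β₁ ![a0, a1, a2, a3] ∧ PresF β₂ ![a0, a1, a2, a3] := by
  decide

lemma dec2' (f : Fin 4 → Fin 4) (h1 : PresF β₁ f) (h2 : PresF β₂ f) : ∀ k, f (f k) = k := by
  have := dec2 (f 0) (f 1) (f 2) (f 3)
  rw [vec4 f] at this
  exact this h1 h2

lemma dec3' (f : Fin 4 → Fin 4) (h1 : ∀ k, f (f k) = k) (h2 : ∀ k, f k ≠ k) :
    PresF β₁ f ∧ PresF β₂ f := by
  have := dec3 (f 0) (f 1) (f 2) (f 3)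
  rw [vec4 f] at this
  exact this h1 h2

/-- the induced map on pairs -/
def bar (σ : Perm (Fin 8)) : Fin 4 → Fin 4 := fun k => e (σ (rep k))

lemma e_apply' {σ : Perm (Fin 8)} (h : σ * s = s * σ) (i : Fin 8) : e (σ i) = bar σ (e i) :=
  e_apply h i

lemma presF_of_pres {β : Fin 4 → Fin 2} {σ : Perm (Fin 8)} (h : Pres β σ) : PresF β (bar σ) := by
  intro k l
  have := h (rep k) (rep l)
  rw [e_rep, e_rep] at this
  exact this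

lemma pres_of_presF {β : Fin 4 → Fin 2} {σ : Perm (Fin 8)} (hs : σ * s = s * σ)
    (h : PresF β (bar σ)) : Pres β σ := by
  intro i j
  rw [e_apply' hs i, e_apply' hs j]
  exact h (e i) (e j)

theorem pow_four_eq_one {σ : Perm (Fin 8)} (hσ : σ ∈ R₀) : σ ^ 4 = 1 := by
  obtain ⟨hs, h1, h2⟩ := hσ
  have hff := dec2' (bar σ) (presF_of_pres h1) (presF_of_pres h2)
  have hτs : (σ * σ) * s = s * (σ * σ) := by
    calc σ * σ * s = σ * (σ * s) := mul_assoc _ _ _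
      _ = σ * (s * σ) := by rw [hs]
      _ = (σ * s) * σ := (mul_assoc _ _ _).symm
      _ = s * σ * σ := by rw [hs]
      _ = s * (σ * σ) := mul_assoc _ _ _
  have hτe : ∀ i, e ((σ * σ) i) = e i := by
    intro i
    rw [Perm.mul_apply, e_apply' hs, e_apply' hs, hff]
  have hττ : ∀ i, (σ * σ) ((σ * σ) i) = i := by
    intro i
    rcases eq_or_of_e i _ (hτe i) with h | h
    · rw [h, h]
    · rw [h, comm_apply hτs, h, sf_sf]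
  have : σ ^ 4 = (σ * σ) * (σ * σ) := by
    rw [show (4 : ℕ) = 2 + 2 from rfl, pow_add, pow_two]
  rw [this]
  ext i
  rw [Perm.mul_apply, hττ, Perm.one_apply]

theorem isPGroup_R₀ : IsPGroup 2 R₀ := by
  intro g
  refine ⟨2, ?_⟩
  apply Subtype.ext
  have := pow_four_eq_one g.2
  simpa using this

theorem mem_of_inv {u : Perm (Fin 8)} (hs : u * s = s * u) (hu : ∀ i, u (u i) = i)
    (hne : ∀ i, e (u i) ≠ e i) : u ∈ R₀ := by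
  have h1 : ∀ k, bar u (bar u k) = k := by
    intro k
    show e (u (rep (e (u (rep k))))) = k
    rw [← e_apply hs, hu, e_rep]
  have h2 : ∀ k, bar u k ≠ k := by
    intro k
    have := hne (rep k)
    rw [e_rep] at this
    exact this
  obtain ⟨h3, h4⟩ := dec3' (bar u) h1 h2
  exact ⟨hs, pres_of_presF hs h3, pres_of_presF hs h4⟩

theorem swap_mem (a : Fin 8) : swap a (sf a) ∈ R₀ := by
  refine ⟨?_, ?_, ?_⟩
  · ext i
    simp only [Perm.mul_apply, s_apply]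
    rw [swap_comm_sf]
  · intro i j
    rw [e_swap, e_swap]
  · intro i j
    rw [e_swap, e_swap]

lemma inv_app (y : Perm (Fin 8)) (i : Fin 8) : y⁻¹ (y i) = i := y.symm_apply_apply i
lemma app_inv (y : Perm (Fin 8)) (i : Fin 8) : y (y⁻¹ i) = i := y.apply_symm_apply i

/-- finishing step: an involution `u` commuting with `s` and `z' = y s y⁻¹`, moving every point
off its `s`-pair and off its `z'`-pair, lies in `R₀` and in its conjugate. -/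
theorem finish (y u : Perm (Fin 8)) (huu : ∀ i, u (u i) = i) (h1 : ∀ i, u i ≠ i)
    (h2 : ∀ i, u i ≠ sf i) (h3 : ∀ i, u i ≠ y (sf (y⁻¹ i)))
    (h4 : ∀ i, u (sf i) = sf (u i)) (h5 : ∀ i, u (y (sf (y⁻¹ i))) = y (sf (y⁻¹ (u i)))) :
    ∃ v ∈ R₀, v ≠ 1 ∧ y⁻¹ * v * y ∈ R₀ := by
  refine ⟨u, ?_, ?_, ?_⟩
  · apply mem_of_inv
    · ext i
      simp only [Perm.mul_apply, s_apply, h4]
    · exact huu
    · intro i
      exact e_ne_of i (u i) (h1 i) (h2 i)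
  · intro h
    apply h1 0
    rw [h, Perm.one_apply]
  · apply mem_of_inv
    · ext i
      simp only [Perm.mul_apply, s_apply]
      have := h5 (y i)
      simp only [inv_app] at this
      rw [this]
      simp
    · intro i
      simp only [Perm.mul_apply, app_inv, huu, inv_app]
    · intro i
      apply e_ne_of
      · intro h
        simp only [Perm.mul_apply] at h
        apply h1 (y i)
        rw [Perm.inv_eq_iff_eq] at h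
        exact h
      · intro h
        simp only [Perm.mul_apply] at h
        apply h3 (y i)
        rw [Perm.inv_eq_iff_eq] at h
        rw [h, inv_app]

theorem key (y : Perm (Fin 8)) : ∃ v ∈ R₀, v ≠ 1 ∧ y⁻¹ * v * y ∈ R₀ := by
  set z : Perm (Fin 8) := y * s * y⁻¹ with hz
  have hzapp : ∀ i, z i = y (sf (y⁻¹ i)) := fun i => rfl
  have hinv : ∀ i, z (z i) = i := by
    intro i
    rw [hzapp, hzapp, inv_app, sf_sf, app_inv]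
  have hfpf : ∀ i, z i ≠ i := by
    intro i h
    rw [hzapp] at h
    apply sf_ne (y⁻¹ i)
    rw [← Perm.eq_inv_iff_eq] at h
    exact h.symm ▸ rfl
  by_cases hcommon : ∃ a, z a = sf a
  · obtain ⟨a, ha⟩ := hcommon
    refine ⟨swap a (sf a), swap_mem a, ?_, ?_⟩
    · intro h
      have := congrArg (fun p : Perm (Fin 8) => p a) h
      simp only [swap_apply_left, Perm.one_apply] at this
      exact sf_ne a this
    · have h1 : y⁻¹ * swap a (sf a) * y = swap (y⁻¹ a) (y⁻¹ (sf a)) := by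
        rw [Equiv.swap_apply_apply]
        simp
      have h2 : y⁻¹ (sf a) = sf (y⁻¹ a) := by
        rw [← ha, hzapp, inv_app]
      rw [h1, h2]
      exact swap_mem _
  · push Not at hcommon
    rcases concl_of z hinv hfpf hcommon with hc | hc
    · refine finish y (s * z) ?_ ?_ ?_ ?_ ?_ ?_
      · intro i; exact (hc i).1
      · intro i; exact (hc i).2.1
      · intro i; exact (hc i).2.2.1
      · intro i; exact (hc i).2.2.2.1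
      · intro i; exact (hc i).2.2.2.2.1
      · intro i; exact (hc i).2.2.2.2.2
    · refine finish y ((s * z) * (s * z)) ?_ ?_ ?_ ?_ ?_ ?_
      · intro i; exact (hc i).1
      · intro i; exact (hc i).2.1
      · intro i; exact (hc i).2.2.1
      · intro i; exact (hc i).2.2.2.1
      · intro i; exact (hc i).2.2.2.2.1
      · intro i; exact (hc i).2.2.2.2.2

theorem result (H : Sylow 2 (Equiv.Perm (Fin 8))) (x : Equiv.Perm (Fin 8)) :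
    (H : Subgroup (Equiv.Perm (Fin 8))) ⊓ (H : Subgroup (Equiv.Perm (Fin 8))).map (MulAut.conj x).toMonoidHom ≠ ⊥ := by
  haveI : Fact (Nat.Prime 2) := ⟨Nat.prime_two⟩
  obtain ⟨P₀, hP₀⟩ := isPGroup_R₀.exists_le_sylow
  obtain ⟨g, hg⟩ := MulAction.exists_smul_eq (Equiv.Perm (Fin 8)) P₀ H
  have hmemH : ∀ r ∈ R₀, g * r * g⁻¹ ∈ (H : Subgroup (Equiv.Perm (Fin 8))) := by
    intro r hr
    rw [← hg, Sylow.coe_subgroup_smul, Subgroup.mem_pointwise_smul_iff_inv_smul_mem]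
    simp only [MulAut.smul_def, map_inv, MulAut.inv_apply, MulAut.conj_symm_apply]
    have : g⁻¹ * (g * r * g⁻¹) * g = r := by group
    rw [this]
    exact hP₀ hr
  obtain ⟨v, hv, hv1, hv2⟩ := key (g⁻¹ * x * g)
  intro hbot
  have hmem : g * v * g⁻¹ ∈ (H : Subgroup (Equiv.Perm (Fin 8))) ⊓
      (H : Subgroup (Equiv.Perm (Fin 8))).map (MulAut.conj x).toMonoidHom := by
    refine ⟨hmemH v hv, ?_⟩
    refine ⟨g * ((g⁻¹ * x * g)⁻¹ * v * (g⁻¹ * x * g)) * g⁻¹, hmemH _ hv2, ?_⟩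
    simp only [MulEquiv.coe_toMonoidHom, MulAut.conj_apply]
    group
  rw [hbot, Subgroup.mem_bot] at hmem
  apply hv1
  have : v = g⁻¹ * (g * v * g⁻¹) * g := by group
  rw [this, hmem]
  group

end Cfsg.Agent.S5763
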