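import Cfsg.Statements.S5781
import Cfsg.Agent.Lib.Helper61.SLMaxGlue2
-- import your own Cfsg.Agent.* helpers here

set_option autoImplicit false
open Cfsg

namespace Cfsg.Agent.S5781

/-- Every maximal subgroup of SL_4(q) is of one of the listed geometric types or lies in the residual class. Let F be a finite field with q elements and H a maximal subgroup of SL_4(F) (inside GL_4(F)). Then H is the intersection with SL_4(F) of one of: the stabiliser of a proper non-zero subspace; for q ≥ 7, the stabiliser of a decomposition into four independent lines; for q ≥ 4, the stabiliser of a decomposition into two independent planes; the normaliser of a degree-2 subfield of the matrix algebra; a subfield group for a subfield F₀ with |F| = |F₀|^r, r prime; for q = p ≡ 1 mod 4 prime, the normaliser of an absolutely irreducible 2-subgroup R of exponent 4 with centre of order 4, all of whose characteristic abelian subgroups are cyclic, of order 2^(2+2m) for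 some m (here |R| = 64), with 4 dividing p − 1; for q odd, the similarity group of a non-degenerate quadratic form; the similarity group of a non-degenerate symplectic form; the similarity group of a non-degenerate unitary form — or else H lies in the residual class of the linear case. -/
theorem result {F : Type*} [Field F] [Fintype F] (H : Subgroup (Matrix.GeneralLinearGroup (Fin 4) F)) (hH : Cfsg.Geo.IsMaximalIn (Cfsg.Geo.specialLinear (Fin 4) F) H) :
    (∃ W : Submodule F (Fin 4 → F), W ≠ ⊥ ∧ W ≠ ⊤ ∧ H = Cfsg.Geo.subspaceStabilizer W ⊓ Cfsg.Geo.specialLinear (Fin 4) F) ∨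
    (7 ≤ Fintype.card F ∧ ∃ D : Fin 4 → Submodule F (Fin 4 → F), Cfsg.Geo.IsMDecomposition 1 D ∧ H = Cfsg.Geo.decompositionStabilizer D ⊓ Cfsg.Geo.specialLinear (Fin 4) F) ∨
    (4 ≤ Fintype.card F ∧ ∃ D : Fin 2 → Submodule F (Fin 4 → F), Cfsg.Geo.IsMDecomposition 2 D ∧ H = Cfsg.Geo.decompositionStabilizer D ⊓ Cfsg.Geo.specialLinear (Fin 4) F) ∨
    (∃ K : Subalgebra F (Matrix (Fin 4) (Fin 4) F), Cfsg.Geo.IsFieldSubalgebra 2 K ∧ H = Cfsg.Geo.subalgebraNormalizer K ⊓ Cfsg.Geo.specialLinear (Fin 4) F) ∨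
    (∃ (F₀ : Subfield F) (r : ℕ) (P : Matrix.GeneralLinearGroup (Fin 4) F), r.Prime ∧ Fintype.card F = Nat.card F₀ ^ r ∧ H = Cfsg.Geo.subfieldSubgroup F₀ P ⊓ Cfsg.Geo.specialLinear (Fin 4) F) ∨
    (∃ (p : ℕ) (R : Subgroup (Matrix.GeneralLinearGroup (Fin 4) F)), p.Prime ∧ Fintype.card F = p ∧ p % 4 = 1 ∧ Cfsg.Geo.IsLinearSymplecticTypeData 2 R ∧ H = Cfsg.Geo.subgroupNormalizer R ⊓ Cfsg.Geo.specialLinear (Fin 4) F) ∨
    (Odd (Fintype.card F) ∧ ∃ Q : (Fin 4 → F) → F, Cfsg.Geo.IsNondegenerateQuadraticForm Q ∧ H = Cfsg.Geo.quadSimilarityGroup Q ⊓ Cfsg.Geo.specialLinear (Fin 4) F) ∨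
    (∃ f : (Fin 4 → F) → (Fin 4 → F) → F, Cfsg.Geo.IsSymplecticForm f ∧ H = Cfsg.Geo.similarityGroup f ⊓ Cfsg.Geo.specialLinear (Fin 4) F) ∨
    (∃ (σ : F ≃+* F) (f : (Fin 4 → F) → (Fin 4 → F) → F), Cfsg.Geo.IsUnitaryForm σ f ∧ H = Cfsg.Geo.similarityGroup f ⊓ Cfsg.Geo.specialLinear (Fin 4) F) ∨
    Cfsg.Geo.InLinearResidualClass H := by
  have hn : (3 : ℕ) ≤ 4 := by norm_num
  rcases Cfsg.Agent.Lib.Helper61.SLMax.refined hn H hH with h | h | h | h | h | h | h | h | h | h | h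
  · exact Or.inl h
  · -- class 2
    obtain ⟨t, m, D, hD, htm, h1, h2, hHD⟩ := h
    have ht := hD.two_le
    have hm := hD.pos
    have htm' : (t = 4 ∧ m = 1) ∨ (t = 2 ∧ m = 2) := by
      have h5 : t ≤ 4 := Nat.le_of_dvd (by norm_num) ⟨m, htm.symm⟩
      interval_cases t <;> omega
    rcases htm' with ⟨rfl, rfl⟩ | ⟨rfl, rfl⟩
    · have h5 := h1 rfl
      by_cases hq : 7 ≤ Fintype.card F
      · exact Or.inr (Or.inl ⟨hq, D, hD, hHD⟩)
      · exfalso
        have h6 := Cfsg.Agent.Lib.Helper61.SLMax.card_ne_six (F := F)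
        have hq5 : Fintype.card F = 5 := by omega
        exact Cfsg.Agent.Lib.Helper61.SLMax.x7 hq5 D hD (hHD ▸ hH)
    · have h3 := h2 rfl
      by_cases hq : 4 ≤ Fintype.card F
      · exact Or.inr (Or.inr (Or.inl ⟨hq, D, hD, hHD⟩))
      · have hq3 : Fintype.card F = 3 := by omega
        obtain ⟨f, hf, hle⟩ := Cfsg.Agent.Lib.Helper61.SLMax.x6 hq3 D hD
        exact Or.inr (Or.inr (Or.inr (Or.inr (Or.inr (Or.inr (Or.inr (Or.inl ⟨f, hf,
          Cfsg.Agent.Lib.Helper61.SLMax.eq_inf_of_le hH (hHD ▸ hle)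
            (Cfsg.Agent.Lib.Helper61.SLMax.n8a hn f hf)⟩)))))))
  · -- class 3
    obtain ⟨r, K, hr, hdvd, hK, hHK⟩ := h
    have hr5 : r = 2 := by
      have h9 : r ≤ 4 := Nat.le_of_dvd (by norm_num) hdvd
      interval_cases r <;> first | rfl | (exfalso; revert hr; decide) | (exfalso; revert hdvd; decide)
    subst hr5
    exact Or.inr (Or.inr (Or.inr (Or.inl ⟨K, hK, hHK⟩)))
  · -- class 4
    exfalso
    obtain ⟨n₁, n₂, e, P, h1, h2, hnn, _, _⟩ := h
    have h5 : n₁ ≤ 4 := Nat.le_of_dvd (by norm_num) ⟨n₂, hnn.symm⟩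
    interval_cases n₁ <;> omega
  · exact Or.inr (Or.inr (Or.inr (Or.inr (Or.inl h))))
  · -- class 6
    obtain ⟨r, R, hr, hdvd, hR, hHR⟩ := h
    have hr5 : r = 2 := by
      have h9 : r ≤ 4 := Nat.le_of_dvd (by norm_num) hdvd
      interval_cases r <;> first | rfl | (exfalso; revert hr; decide) | (exfalso; revert hdvd; decide)
    subst hr5
    obtain ⟨p, hp, hcard, hp4⟩ := Cfsg.Agent.Lib.Helper61.SLMax.c6_field_two hn R hR
    exact Or.inr (Or.inr (Or.inr (Or.inr (Or.inr (Or.inl ⟨p, R, hp, hcard, hp4, hR, hHR⟩)))))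
  · -- class 7
    exfalso
    obtain ⟨m, t, e, P, hm, ht, hmt, _⟩ := h
    have := Cfsg.Agent.Lib.Helper61.SLMax.wreath_arith hm ht hmt (by norm_num)
    omega
  · -- symplectic
    exact Or.inr (Or.inr (Or.inr (Or.inr (Or.inr (Or.inr (Or.inr (Or.inl h.2)))))))
  · exact Or.inr (Or.inr (Or.inr (Or.inr (Or.inr (Or.inr (Or.inr (Or.inr (Or.inl h))))))))
  · exact Or.inr (Or.inr (Or.inr (Or.inr (Or.inr (Or.inr (Or.inl h))))))
  · exact Or.inr (Or.inr (Or.inr (Or.inr (Or.inr (Or.inr (Or.inr (Or.inr (Or.inr h))))))))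

end Cfsg.Agent.S5781
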