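import Cfsg.Statements.S5784
import Cfsg.Agent.S5663
import Cfsg.Agent.Lib.Helper38.SUMaxG1
import Cfsg.Agent.Lib.Helper32.SUMaxN1
import Cfsg.Agent.Lib.Helper26.SUMaxN2
import Cfsg.Agent.Lib.Helper70.SUMaxN5
import Cfsg.Agent.Lib.Helper94.SUMaxD6a
import Cfsg.Agent.Lib.Helper91.SUMaxD6b
import Cfsg.Agent.Lib.Helper79.SUMaxXA
import Cfsg.Agent.Lib.Helper36.SLMaxD2
import Cfsg.Agent.Lib.Helper63.SLMaxD3
import Cfsg.Agent.Lib.Helper84.SU4C
import Cfsg.Agent.Lib.Helper23.SU4B
import Cfsg.Agent.Lib.Helper53.SU4A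

set_option autoImplicit false
open Cfsg

namespace Cfsg.Agent.S5784

open Cfsg.Geo in
/-- a maximal subgroup of `K` inside `X` with `K` not inside `X` is `X ⊓ K` -/
theorem eq_inf_of_le {G : Type*} [Group G] {K H X : Subgroup G} (hH : IsMaximalIn K H) (hle : H ≤ X)
    (hne : ¬ K ≤ X) : H = X ⊓ K := by
  rcases hH.2 (X ⊓ K) (le_inf hle hH.1.le) inf_le_right with h | h
  · exact h.symm
  · exact absurd (h ▸ inf_le_left : K ≤ X) hne

open Cfsg.Geo in
/-- the whole space is not totally singular -/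
theorem ts_ne_top {F : Type*} [Field F] (q : ℕ) {W : Submodule F (Fin 4 → F)}
    (hW : IsTotallySingularFor (Cfsg.hermForm 4 F q) W) : W ≠ ⊤ := by
  rintro rfl
  have h := hW (Pi.single 0 1) Submodule.mem_top (Pi.single 0 1) Submodule.mem_top
  unfold Cfsg.hermForm at h
  rw [Finset.sum_eq_single (0 : Fin 4)] at h
  · simp at h
  · intro b _ hb
    simp [hb]
  · intro h0; exact absurd (Finset.mem_univ _) h0

/-- a subspace of small dimension is proper -/
theorem ne_top_of_finrank {F : Type*} [Field F] {W : Submodule F (Fin 4 → F)}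
    (h : 2 * Module.finrank F W < 4) : W ≠ ⊤ := by
  rintro rfl
  rw [finrank_top, Module.finrank_fin_fun] at h
  omega

theorem two_le_q {F : Type*} [Field F] [Fintype F] {q : ℕ} (hF : Fintype.card F = q ^ 2) : 2 ≤ q := by
  have h1 : 1 < Fintype.card F := Fintype.one_lt_card
  rw [hF] at h1
  by_contra hlt
  have : q = 0 ∨ q = 1 := by omega
  rcases this with rfl | rfl <;> simp at h1

/-- Every maximal subgroup of SU_4(q) is of one of the listed geometric types or lies in the residual class. Let F be the field with q² elements, f the standard unitary form Σ u_i v_i^q on F^4, and H a maximal subgroup of SU_4(q) (inside GL_4(F)). Then H is the intersection with SU_4(q) of one of: the stabiliser of a non-zero subspace on which f vanishes; the stabiliser of a non-degenerate 1-space; for q ≠ 3, the stabiliser of a decomposition into four mutually orthogonal non-degenerate 1-spaces; for q ≥ 3, of a decomposition into two orthogonal non-degenerate 2-spaces;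 for q ≥ 4, of a decomposition into two totally isotropic 2-spaces; a subfield group of odd prime index whose F₀-structure carries f; a subfield group of index 2 whose F₀-structure carries ζ f, vanishing on pairs (u, u), for some non-zero ζ with ζ + ζ^q = 0; for q odd, a subfield group of index 2 whose F₀-structure carries f; for q = p ≡ 3 mod 4 prime, the normaliser of an absolutely irreducible symplectic-type 2-group of exponent 4, order 64 and centre of order 4 inside the similarity group of f — or else H lies in the residual class of the unitary case. -/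
theorem result {F : Type*} [Field F] [Fintype F] (q : ℕ) (hF : Fintype.card F = q ^ 2) (H : Subgroup (Matrix.GeneralLinearGroup (Fin 4) F)) (hH : Cfsg.Geo.IsMaximalIn (Cfsg.GU 4 F q ⊓ Cfsg.Geo.specialLinear (Fin 4) F) H) :
    (∃ W : Submodule F (Fin 4 → F), W ≠ ⊥ ∧ Cfsg.Geo.IsTotallySingularFor (Cfsg.hermForm 4 F q) W ∧ H = Cfsg.Geo.subspaceStabilizer W ⊓ (Cfsg.GU 4 F q ⊓ Cfsg.Geo.specialLinear (Fin 4) F)) ∨
    (∃ W : Submodule F (Fin 4 → F), W ≠ ⊥ ∧ Cfsg.Geo.IsNondegenerateOn (Cfsg.hermForm 4 F q) W ∧ 2 * Module.finrank F W < 4 ∧ H = Cfsg.Geo.subspaceStabilizer W ⊓ (Cfsg.GU 4 F q ⊓ Cfsg.Geo.specialLinear (Fin 4) F)) ∨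
    (q ≠ 3 ∧ ∃ D : Fin 4 → Submodule F (Fin 4 → F), Cfsg.Geo.IsNondegenerateMDecomposition (Cfsg.hermForm 4 F q) 1 D ∧ H = Cfsg.Geo.decompositionStabilizer D ⊓ (Cfsg.GU 4 F q ⊓ Cfsg.Geo.specialLinear (Fin 4) F)) ∨
    (3 ≤ q ∧ ∃ D : Fin 2 → Submodule F (Fin 4 → F), Cfsg.Geo.IsNondegenerateMDecomposition (Cfsg.hermForm 4 F q) 2 D ∧ H = Cfsg.Geo.decompositionStabilizer D ⊓ (Cfsg.GU 4 F q ⊓ Cfsg.Geo.specialLinear (Fin 4) F)) ∨
    (4 ≤ q ∧ ∃ D : Fin 2 → Submodule F (Fin 4 → F), Cfsg.Geo.IsMDecomposition 2 D ∧ (∀ i, Cfsg.Geo.IsTotallySingularFor (Cfsg.hermForm 4 F q) (D i)) ∧ H = Cfsg.Geo.decompositionStabilizer D ⊓ (Cfsg.GU 4 F q ⊓ Cfsg.Geo.specialLinear (Fin 4) F)) ∨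
    (∃ (F₀ : Subfield F) (r : ℕ) (P : Matrix.GeneralLinearGroup (Fin 4) F), r.Prime ∧ Odd r ∧ Fintype.card F = Nat.card F₀ ^ r ∧ Cfsg.Geo.IsFormRationalStructure (Cfsg.hermForm 4 F q) F₀ 1 P ∧ H = Cfsg.Geo.subfieldSubgroup F₀ P ⊓ (Cfsg.GU 4 F q ⊓ Cfsg.Geo.specialLinear (Fin 4) F)) ∨
    (∃ (F₀ : Subfield F) (P : Matrix.GeneralLinearGroup (Fin 4) F) (ζ : F), Fintype.card F = Nat.card F₀ ^ 2 ∧ ζ ≠ 0 ∧ ζ + ζ ^ q = 0 ∧ Cfsg.Geo.IsFormRationalStructure (Cfsg.hermForm 4 F q) F₀ ζ P ∧ (∀ u : Fin 4 → F, (∀ i, u i ∈ F₀) → (Cfsg.hermForm 4 F q) (Matrix.mulVec (P : Matrix (Fin 4) (Fin 4) F) u) (Matrix.mulVec (P : Matrix (Fin 4) (Fin 4) F) u) = 0) ∧ H = Cfsg.Geo.subfieldSubgroup F₀ P ⊓ (Cfsg.GU 4 F q ⊓ Cfsg.Geo.specialLinear (Fin 4) F)) ∨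
    (Odd q ∧ ∃ (F₀ : Subfield F) (P : Matrix.GeneralLinearGroup (Fin 4) F), Fintype.card F = Nat.card F₀ ^ 2 ∧ Cfsg.Geo.IsFormRationalStructure (Cfsg.hermForm 4 F q) F₀ 1 P ∧ H = Cfsg.Geo.subfieldSubgroup F₀ P ⊓ (Cfsg.GU 4 F q ⊓ Cfsg.Geo.specialLinear (Fin 4) F)) ∨
    (∃ (p : ℕ) (R : Subgroup (Matrix.GeneralLinearGroup (Fin 4) F)), p.Prime ∧ q = p ∧ p % 4 = 3 ∧ Cfsg.Geo.IsSymplecticTypeGroup 2 R ∧ Cfsg.Geo.ActsAbsolutelyIrreducibly (Cfsg.Geo.matrixSet R) ∧ R ≤ Cfsg.Geo.similarityGroup (Cfsg.hermForm 4 F q) ∧ Nat.card R = 64 ∧ Nat.card (Subgroup.center R) = 4 ∧ H = Cfsg.Geo.subgroupNormalizer R ⊓ (Cfsg.GU 4 F q ⊓ Cfsg.Geo.specialLinear (Fin 4) F)) ∨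
    Cfsg.Geo.InUnitaryResidualClass H := by
  have hn : (3 : ℕ) ≤ 4 := by norm_num
  have hex : ¬ ((4 : ℕ) = 3 ∧ q = 2) := by omega
  have hq2 := two_le_q hF
  have hprop := Cfsg.Agent.Lib.Helper38.SUMax.sup_scalars_ne_of_isMaximalIn hF hn hex H hH
  rcases Cfsg.Agent.S5663.result 4 q hF hn hex H hH.1.le hprop with ⟨M, hM, hHM⟩ | hres
  · unfold Cfsg.Geo.InUnitaryClass Cfsg.Geo.InUnitaryPartialClass at hM
    rcases hM with (⟨W, h0, hW, rfl⟩ | ⟨W, h0, hW, hlt, rfl⟩ | ⟨t, k, D, hD, rfl⟩ | ⟨k, D, hk, hD, hts, rfl⟩ |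
        ⟨F₀, r, P, hr, hodd, hc, hP, rfl⟩ | ⟨F₀, P, hodd, hc, hP, rfl⟩ |
        ⟨F₀, P, ζ, hev, hc, hζ0, hζ, hP, hiso, rfl⟩ |
        ⟨r, R, p, e, k, hR, habs, hsim, hrp, hmin, hcases, rfl⟩) |
      ⟨r, K, hr, hodd, hK, hadj, rfl⟩ | ⟨n₁, n₂, e, P, f₁, f₂, h1, h2, hf1, hf2, hT, rfl⟩ |
      ⟨k, t, e, P, f₁, hk, ht, hne, hf1, hT, rfl⟩
    · -- totally singular subspace
      exact Or.inl ⟨W, h0, hW, eq_inf_of_le hH (hHM.trans inf_le_left)
        (Cfsg.Agent.Lib.Helper32.SUMax.su_not_le_subspaceStabilizer hF hn hex W h0 (ts_ne_top q hW))⟩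
    · -- non-degenerate subspace
      exact Or.inr (Or.inl ⟨W, h0, hW, hlt, eq_inf_of_le hH (hHM.trans inf_le_left)
        (Cfsg.Agent.Lib.Helper32.SUMax.su_not_le_subspaceStabilizer hF hn hex W h0 (ne_top_of_finrank hlt))⟩)
    · -- non-degenerate decompositions
      have htk := Cfsg.Agent.Lib.Helper36.SLMax.mul_eq_of_isMDecomposition D hD.decomp
      have ht2 := hD.decomp.two_le
      have hk0 := hD.decomp.pos
      have hEq := eq_inf_of_le hH (hHM.trans inf_le_left)
        (Cfsg.Agent.Lib.Helper26.SUMax.su_not_le_decompositionStabilizer hF hn hex D hD.decomp)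
      have htk' : (t = 4 ∧ k = 1) ∨ (t = 2 ∧ k = 2) := by
        have h5 : t ≤ 4 := Nat.le_of_dvd (by norm_num) ⟨k, htk.symm⟩
        interval_cases t <;> omega
      rcases htk' with ⟨rfl, rfl⟩ | ⟨rfl, rfl⟩
      · by_cases hq3 : q = 3
        · exfalso
          exact Cfsg.Agent.Lib.Helper53.SU4.not_isMaximalIn_frame_of_three hF hq3 D hD (hEq ▸ hH)
        · exact Or.inr (Or.inr (Or.inl ⟨hq3, D, hD, hEq⟩))
      · by_cases hq3 : 3 ≤ q
        · exact Or.inr (Or.inr (Or.inr (Or.inl ⟨hq3, D, hD, hEq⟩)))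
        · have hq : q = 2 := by omega
          obtain ⟨t', D', hD', hle⟩ :=
            Cfsg.Agent.Lib.Helper79.SUMax.nondeg_planes_le_lines_of_two hF hq D hD
          have ht' := Cfsg.Agent.Lib.Helper36.SLMax.mul_eq_of_isMDecomposition D' hD'.decomp
          have ht4 : t' = 4 := by omega
          subst ht4
          have hEq' := eq_inf_of_le hH (hHM.trans hle)
            (Cfsg.Agent.Lib.Helper26.SUMax.su_not_le_decompositionStabilizer hF hn hex D' hD'.decomp)
          exact Or.inr (Or.inr (Or.inl ⟨by omega, D', hD', hEq'⟩))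
    · -- totally isotropic pair
      have hk2 : k = 2 := by omega
      subst hk2
      have hEq := eq_inf_of_le hH (hHM.trans inf_le_left)
        (Cfsg.Agent.Lib.Helper26.SUMax.su_not_le_decompositionStabilizer hF hn hex D hD)
      by_cases hq4 : 4 ≤ q
      · exact Or.inr (Or.inr (Or.inr (Or.inr (Or.inl ⟨hq4, D, hD, hts, hEq⟩))))
      · exfalso
        have hq : q = 2 ∨ q = 3 := by omega
        exact Cfsg.Agent.Lib.Helper23.SU4.not_isMaximalIn_isotropicPair_of_le_three hF hq D hD hts (hEq ▸ hH)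
    · -- subfield, odd index
      exact Or.inr (Or.inr (Or.inr (Or.inr (Or.inr (Or.inl ⟨F₀, r, P, hr, hodd, hc, hP,
        eq_inf_of_le hH (hHM.trans inf_le_left)
          (Cfsg.Agent.Lib.Helper70.SUMax.su_not_le_subfieldSubgroup hF hn hex F₀ r hr hc P)⟩)))))
    · -- subfield, index two, orthogonal type
      exact Or.inr (Or.inr (Or.inr (Or.inr (Or.inr (Or.inr (Or.inr (Or.inl ⟨hodd, F₀, P, hc, hP,
        eq_inf_of_le hH (hHM.trans inf_le_left)
          (Cfsg.Agent.Lib.Helper70.SUMax.su_not_le_subfieldSubgroup hF hn hex F₀ 2 Nat.prime_two hc P)⟩)))))))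
    · -- subfield, index two, symplectic type
      exact Or.inr (Or.inr (Or.inr (Or.inr (Or.inr (Or.inr (Or.inl ⟨F₀, P, ζ, hc, hζ0, hζ, hP, hiso,
        eq_inf_of_le hH (hHM.trans inf_le_left)
          (Cfsg.Agent.Lib.Helper70.SUMax.su_not_le_subfieldSubgroup hF hn hex F₀ 2 Nat.prime_two hc P)⟩))))))
    · -- symplectic-type normaliser
      have hcl := Cfsg.Agent.Lib.Helper91.SUMax.commutator_central_of_symplecticType R hR
      have hcard := Cfsg.Agent.Lib.Helper94.SUMax.card_sq_mul_card_center_fin (by norm_num : 0 < 4) R habs hcl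
      have hEq := eq_inf_of_le hH (hHM.trans inf_le_left)
        (Cfsg.Agent.Lib.Helper84.SU4.su4_not_le_subgroupNormalizer hF R hR habs)
      obtain ⟨hp, hchar, hFp, hdvd, hminimal⟩ := hmin
      rcases hcases with ⟨hrodd, hZ, hk1, hRc⟩ | ⟨rfl, rfl, hZ, hRc⟩
      · exfalso
        rw [hZ, hRc] at hcard
        have hr0 : 0 < r := hR.prime.pos
        have h16 : r ^ (2 * k) = 16 := by
          have : r * 16 = r * r ^ (2 * k) := by
            rw [← pow_succ']
            have : 2 * k + 1 = 1 + 2 * k := by ring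
            rw [this]
            linarith
          exact (Nat.eq_of_mul_eq_mul_left hr0 this).symm
        have hrdvd : r ∣ 2 ^ 4 := by
          have : r ∣ r ^ (2 * k) := dvd_pow_self r (by omega)
          rw [h16] at this
          exact this
        have hr2 : r = 2 := (Nat.prime_dvd_prime_iff_eq hR.prime Nat.prime_two).mp
          (hR.prime.dvd_of_dvd_pow hrdvd)
        rw [hr2] at hrodd
        exact absurd hrodd (by decide)
      · have hpq : q = p := by
          have : q ^ 2 = p ^ 2 := by rw [← hF, hFp]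
          exact Nat.pow_left_injective (by norm_num : 2 ≠ 0) this
        have hRc64 : Nat.card R = 64 := by rw [← hcard, hZ]; norm_num
        have hp2 : p ≠ 2 := fun h => hrp h.symm
        have hp4 : p % 4 = 3 := by
          have hodd : p % 2 = 1 := by
            rcases hp.eq_two_or_odd with h | h
            · exact absurd h hp2
            · exact h
          by_contra h3
          have h1 : p % 4 = 1 := by omega
          apply hminimal 1 (by norm_num) (by norm_num)
          rw [hZ, pow_one]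
          exact (Nat.modEq_iff_dvd' hp.one_le).mp (by
            show 1 % 4 = p % 4
            rw [h1])
        exact Or.inr (Or.inr (Or.inr (Or.inr (Or.inr (Or.inr (Or.inr (Or.inr (Or.inl
          ⟨p, R, hp, hpq, hp4, hR, habs, hsim, hRc64, hZ, hEq⟩))))))))
    · -- extension field: impossible in dimension 4
      exfalso
      have hdvd := Cfsg.Agent.Lib.Helper63.SLMax.dvd_of_isFieldSubalgebra K hK
      have hr2 : r = 2 := (Nat.prime_dvd_prime_iff_eq hr Nat.prime_two).mp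
        (hr.dvd_of_dvd_pow (show r ∣ 2 ^ 2 from hdvd))
      rw [hr2] at hodd
      exact absurd hodd (by decide)
    · -- tensor product: impossible in dimension 4
      exfalso
      have hcard := Fintype.card_congr e
      rw [Fintype.card_fin, Fintype.card_prod, Fintype.card_fin, Fintype.card_fin] at hcard
      nlinarith
    · -- tensor power: impossible in dimension 4
      exfalso
      have hcard := Fintype.card_congr e
      rw [Fintype.card_fin, Fintype.card_fun, Fintype.card_fin, Fintype.card_fin] at hcard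
      have h9 : 3 ^ 2 ≤ k ^ t :=
        (Nat.pow_le_pow_left hk 2).trans (Nat.pow_le_pow_right (by omega) ht)
      omega
  · exact Or.inr (Or.inr (Or.inr (Or.inr (Or.inr (Or.inr (Or.inr (Or.inr (Or.inr hres))))))))

end Cfsg.Agent.S5784
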