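import Cfsg.Statements.S5787
import Mathlib
import Cfsg.Agent.Lib.Helper44.SpMaxGlue2
import Cfsg.Agent.Lib.Helper44.SpMaxKeys2

set_option autoImplicit false
open Cfsg

namespace Cfsg.Agent.S5787

/-- Every maximal subgroup of Sp_4(q), q odd, is of one of the listed geometric types or lies in the residual class. Let F be a finite field of odd order q, f the standard alternating form on F^4 (coordinates Fin 2 ⊕ Fin 2), and H a maximal subgroup of the isometry group Sp_4(F) (inside GL_4(F)). Then H is the intersection with Sp_4(F) of one of: the stabiliser of a non-zero totally isotropic subspace; the stabiliser of a decomposition into two orthogonal non-degenerate 2-spaces; for q ≥ 5, of a decomposition into two totally isotropic 2-spaces; the normaliser of a degree-2 subfield K of the matrix algebra, self-adjoint with f(k v, v) = 0; for q ≥ 5, the normaliser of a degree-2 subfield closed under adjoints but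 not self-adjoint; a subfield group whose F₀-structure carries a non-zero multiple of f, |F| = |F₀|^r with r prime; for q = p prime, the normaliser of an absolutely irreducible symplectic-type 2-group of exponent 4, order 32, centre of order 2 and minus type inside the similarity group of f — or else H lies in the residual class of the symplectic case. -/
theorem result {F : Type*} [Field F] [Fintype F] (hodd : Odd (Fintype.card F)) (H : Subgroup (Matrix.GeneralLinearGroup (Fin 2 ⊕ Fin 2) F)) (hH : Cfsg.Geo.IsMaximalIn (Cfsg.spGL 2 F) H) :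
    (∃ W : Submodule F (Fin 2 ⊕ Fin 2 → F), W ≠ ⊥ ∧ Cfsg.Geo.IsTotallySingularFor (Cfsg.sympForm 2 F) W ∧ H = Cfsg.Geo.subspaceStabilizer W ⊓ Cfsg.spGL 2 F) ∨
    (∃ D : Fin 2 → Submodule F (Fin 2 ⊕ Fin 2 → F), Cfsg.Geo.IsNondegenerateMDecomposition (Cfsg.sympForm 2 F) 2 D ∧ H = Cfsg.Geo.decompositionStabilizer D ⊓ Cfsg.spGL 2 F) ∨
    (5 ≤ Fintype.card F ∧ ∃ D : Fin 2 → Submodule F (Fin 2 ⊕ Fin 2 → F), Cfsg.Geo.IsMDecomposition 2 D ∧ (∀ i, Cfsg.Geo.IsTotallySingularFor (Cfsg.sympForm 2 F) (D i)) ∧ H = Cfsg.Geo.decompositionStabilizer D ⊓ Cfsg.spGL 2 F) ∨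
    (∃ K : Subalgebra F (Matrix (Fin 2 ⊕ Fin 2) (Fin 2 ⊕ Fin 2) F), Cfsg.Geo.IsFieldSubalgebra 2 K ∧ Cfsg.Geo.IsSelfAdjointFor (Cfsg.sympForm 2 F) K ∧ (∀ k ∈ K, ∀ v : (Fin 2 ⊕ Fin 2 → F), (Cfsg.sympForm 2 F) (Matrix.mulVec k v) v = 0) ∧ H = Cfsg.Geo.subalgebraNormalizer K ⊓ Cfsg.spGL 2 F) ∨
    (5 ≤ Fintype.card F ∧ ∃ K : Subalgebra F (Matrix (Fin 2 ⊕ Fin 2) (Fin 2 ⊕ Fin 2) F), Cfsg.Geo.IsFieldSubalgebra 2 K ∧ Cfsg.Geo.IsAdjointClosedFor (Cfsg.sympForm 2 F) K ∧ ¬ Cfsg.Geo.IsSelfAdjointFor (Cfsg.sympForm 2 F) K ∧ H = Cfsg.Geo.subalgebraNormalizer K ⊓ Cfsg.spGL 2 F) ∨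
    (∃ (F₀ : Subfield F) (r : ℕ) (P : Matrix.GeneralLinearGroup (Fin 2 ⊕ Fin 2) F) (ζ : F), r.Prime ∧ Fintype.card F = Nat.card F₀ ^ r ∧ ζ ≠ 0 ∧ Cfsg.Geo.IsFormRationalStructure (Cfsg.sympForm 2 F) F₀ ζ P ∧ H = Cfsg.Geo.subfieldSubgroup F₀ P ⊓ Cfsg.spGL 2 F) ∨
    (∃ (p : ℕ) (R : Subgroup (Matrix.GeneralLinearGroup (Fin 2 ⊕ Fin 2) F)), p.Prime ∧ Fintype.card F = p ∧ Cfsg.Geo.IsSymplecticTypeGroup 2 R ∧ Cfsg.Geo.ActsAbsolutelyIrreducibly (Cfsg.Geo.matrixSet R) ∧ R ≤ Cfsg.Geo.similarityGroup (Cfsg.sympForm 2 F) ∧ Nat.card R = 32 ∧ Nat.card (Subgroup.center R) = 2 ∧ Cfsg.Geo.IsOfMinusType 2 R ∧ H = Cfsg.Geo.subgroupNormalizer R ⊓ Cfsg.spGL 2 F) ∨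
    Cfsg.Geo.InSymplecticResidualClass H := by
  classical
  have hm : (2 : ℕ) ≤ 2 := le_rfl
  have hex : ¬ ((2 : ℕ) = 2 ∧ Fintype.card F = 2) := by
    rintro ⟨-, h⟩
    rw [h] at hodd
    exact absurd hodd (by decide)
  rcases Cfsg.Agent.Lib.Helper44.SpMaxGlue.eq_class_or_residual hm hex H hH with ⟨M, hM, rfl⟩ | hres
  swap
  · exact Or.inr (Or.inr (Or.inr (Or.inr (Or.inr (Or.inr (Or.inr hres))))))
  unfold Cfsg.Geo.InSymplecticClass Cfsg.Geo.InSymplecticPartialClass at hM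
  rcases hM with (⟨W, h0, hW, rfl⟩ | ⟨W, h0, hW, hlt, rfl⟩ | ⟨t, k, D, hD, rfl⟩ | ⟨D, hodd', hD, hts, rfl⟩ |
      ⟨F₀, r, P, ζ, hr, hF, hζ, hrat, rfl⟩ | ⟨R, p, k, hR, habs, hsim, hp, hpodd, hFp, hcard, hZ, hminus, rfl⟩ |
      ⟨Q, heven', hQ, hpol, rfl⟩) | ⟨r, K, hr, hK, hsa, halt, rfl⟩ | ⟨K, hodd', hK, hac, hnsa, rfl⟩ |
      ⟨n₁, n₂, e, P, f₁, f₂, hodd', hn₂, h₁, h₂, hT, rfl⟩ | ⟨k, t, e, P, f₁, hodd', hto, ht, hne, h₁, hT, rfl⟩
  · exact Or.inl ⟨W, h0, hW, rfl⟩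
  · -- nondegenerate subspace of dimension < 2: impossible
    exfalso
    have hev := Cfsg.Agent.Lib.Helper44.SpMaxKeys.even_finrank_of_isNondegenerateOn W hW
    have hpos : 0 < Module.finrank F W := by
      rw [Module.finrank_pos_iff_exists_ne_zero]
      obtain ⟨w, hw, hw0⟩ := (Submodule.ne_bot_iff W).mp h0
      exact ⟨⟨w, hw⟩, fun h => hw0 (congrArg Subtype.val h)⟩
    rcases hev with ⟨j, hj⟩
    omega
  · -- nondegenerate decomposition: t * j = 2, k = 2 j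
    obtain ⟨ht2, j, hj0, hkj, htj⟩ := Cfsg.Agent.Lib.Helper44.SpMaxGlue.nondeg_decomposition_shape D hD
    have hj1 : j = 1 := by
      by_contra h
      have : 2 * 2 ≤ t * j := Nat.mul_le_mul ht2 (by omega)
      omega
    have hk : k = 2 := by omega
    have ht : t = 2 := by subst hj1; omega
    subst hk; subst ht
    exact Or.inr (Or.inl ⟨D, hD, rfl⟩)
  · -- totally isotropic pair: maximal only for q ≥ 5
    by_cases hq : 5 ≤ Fintype.card F
    · exact Or.inr (Or.inr (Or.inl ⟨hq, D, hD, hts, rfl⟩))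
    · exfalso
      have hq3 := Cfsg.Agent.Lib.Helper44.SpMaxGlue.card_three_of_odd_lt_five hodd hq
      exact Cfsg.Agent.Lib.Helper44.SpMaxKeys2.tipair_not_maximal_of_card_three hq3 D hD hts hH
  · exact Or.inr (Or.inr (Or.inr (Or.inr (Or.inr (Or.inl ⟨F₀, r, P, ζ, hr, hF, hζ, hrat, rfl⟩)))))
  · -- symplectic type: 16 = 2 ^ (2 k), so k = 2
    have h := Cfsg.Agent.Lib.Helper44.SpMaxKeys.card_sq_eq_of_symplecticType (hFp ▸ hpodd) R hR habs k hcard hZ
    have hk : k = 2 := by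
      have h16 : (2 : ℕ) ^ 4 = 2 ^ (2 * k) := by simpa using h
      have := Nat.pow_right_injective (le_refl 2) h16
      omega
    subst hk
    exact Or.inr (Or.inr (Or.inr (Or.inr (Or.inr (Or.inr (Or.inl
      ⟨p, R, hp, hFp, hR, habs, hsim, by simpa using hcard, hZ, hminus, rfl⟩))))))
  · exact absurd hodd heven'
  · -- extension field of prime degree r ∣ 2
    have hdvd := Cfsg.Agent.Lib.Helper44.SpMaxKeys.dvd_of_isSelfAdjointFor K hK hsa halt
    have hr2 : r = 2 := (Nat.prime_dvd_prime_iff_eq hr Nat.prime_two).mp hdvd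
    subst hr2
    exact Or.inr (Or.inr (Or.inr (Or.inl ⟨K, hK, hsa, halt, rfl⟩)))
  · -- unitary-type extension field: maximal only for q ≥ 5
    by_cases hq : 5 ≤ Fintype.card F
    · exact Or.inr (Or.inr (Or.inr (Or.inr (Or.inl ⟨hq, K, hK, hac, hnsa, rfl⟩))))
    · exfalso
      have hq3 := Cfsg.Agent.Lib.Helper44.SpMaxGlue.card_three_of_odd_lt_five hodd hq
      exact Cfsg.Agent.Lib.Helper44.SpMaxKeys2.unitary_field_not_maximal_of_card_three hq3 K hK hac hnsa hH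
  · -- tensor product: n₁ even, n₂ ≥ 3, n₁ n₂ = 4 impossible
    exfalso
    have hmul := Cfsg.Agent.Lib.Helper44.SpMaxGlue.two_mul_eq_mul_of_equiv e
    obtain ⟨j, hj⟩ := Cfsg.Agent.Lib.Helper44.SpMaxKeys.even_of_isSymplecticForm f₁ h₁
    have hjn : j * n₂ = 2 := by subst hj; rw [Nat.add_mul] at hmul; omega
    rcases Nat.eq_zero_or_pos j with rfl | hjpos
    · simp at hjn
    · have : 1 * 3 ≤ j * n₂ := Nat.mul_le_mul hjpos hn₂
      omega
  · -- tensor wreath: k ^ t = 4 with t ≥ 3 impossible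
    exfalso
    have hpow := Cfsg.Agent.Lib.Helper44.SpMaxGlue.two_mul_eq_pow_of_equiv e
    rcases Cfsg.Agent.Lib.Helper44.SpMaxGlue.pow_eq_cases ht hpow with h | h | h | h <;> omega

end Cfsg.Agent.S5787
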