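import Cfsg.Statements.S5790
import Mathlib
import Cfsg.Agent.Lib.Helper44.SpMaxGlue

set_option autoImplicit false
open Cfsg

namespace Cfsg.Agent.S5790

/-- Every maximal subgroup of Sp_4(q), q ≥ 4 even, is of one of the listed geometric types or lies in the residual class. Let F be a finite field of even order q ≥ 4, f the standard alternating form on F^4 (coordinates Fin 2 ⊕ Fin 2), and H a maximal subgroup of Sp_4(F) (inside GL_4(F)). Then H is the intersection with Sp_4(F) of one of: the stabiliser of a non-zero totally isotropic subspace; the stabiliser of a decomposition into two orthogonal non-degenerate 2-spaces; the normaliser of a degree-2 subfield K of the matrix algebra, self-adjoint with f(k v, v) = 0; a subfield group whose F₀-structure carries a non-zero multiple of f, |F| = |F₀|^r with r prime; the similarity group of a non-degenerate quadratic form whose polar form is f — or else H lies in the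 residual class of the symplectic case. -/
theorem result {F : Type*} [Field F] [Fintype F] (heven : ¬ Odd (Fintype.card F)) (h4 : 4 ≤ Fintype.card F) (H : Subgroup (Matrix.GeneralLinearGroup (Fin 2 ⊕ Fin 2) F)) (hH : Cfsg.Geo.IsMaximalIn (Cfsg.spGL 2 F) H) :
    (∃ W : Submodule F (Fin 2 ⊕ Fin 2 → F), W ≠ ⊥ ∧ Cfsg.Geo.IsTotallySingularFor (Cfsg.sympForm 2 F) W ∧ H = Cfsg.Geo.subspaceStabilizer W ⊓ Cfsg.spGL 2 F) ∨
    (∃ D : Fin 2 → Submodule F (Fin 2 ⊕ Fin 2 → F), Cfsg.Geo.IsNondegenerateMDecomposition (Cfsg.sympForm 2 F) 2 D ∧ H = Cfsg.Geo.decompositionStabilizer D ⊓ Cfsg.spGL 2 F) ∨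
    (∃ K : Subalgebra F (Matrix (Fin 2 ⊕ Fin 2) (Fin 2 ⊕ Fin 2) F), Cfsg.Geo.IsFieldSubalgebra 2 K ∧ Cfsg.Geo.IsSelfAdjointFor (Cfsg.sympForm 2 F) K ∧ (∀ k ∈ K, ∀ v : (Fin 2 ⊕ Fin 2 → F), (Cfsg.sympForm 2 F) (Matrix.mulVec k v) v = 0) ∧ H = Cfsg.Geo.subalgebraNormalizer K ⊓ Cfsg.spGL 2 F) ∨
    (∃ (F₀ : Subfield F) (r : ℕ) (P : Matrix.GeneralLinearGroup (Fin 2 ⊕ Fin 2) F) (ζ : F), r.Prime ∧ Fintype.card F = Nat.card F₀ ^ r ∧ ζ ≠ 0 ∧ Cfsg.Geo.IsFormRationalStructure (Cfsg.sympForm 2 F) F₀ ζ P ∧ H = Cfsg.Geo.subfieldSubgroup F₀ P ⊓ Cfsg.spGL 2 F) ∨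
    (∃ Q : (Fin 2 ⊕ Fin 2 → F) → F, Cfsg.Geo.IsNondegenerateQuadraticForm Q ∧ (∀ u v : (Fin 2 ⊕ Fin 2 → F), QuadraticMap.polar Q u v = (Cfsg.sympForm 2 F) u v) ∧ H = Cfsg.Geo.quadSimilarityGroup Q ⊓ Cfsg.spGL 2 F) ∨
    Cfsg.Geo.InSymplecticResidualClass H := by
  classical
  have hm : (2 : ℕ) ≤ 2 := le_rfl
  have hex : ¬ ((2 : ℕ) = 2 ∧ Fintype.card F = 2) := by
    rintro ⟨-, h⟩; omega
  rcases Cfsg.Agent.Lib.Helper44.SpMaxGlue.eq_class_or_residual hm hex H hH with ⟨M, hM, rfl⟩ | hres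
  swap
  · exact Or.inr (Or.inr (Or.inr (Or.inr (Or.inr hres))))
  unfold Cfsg.Geo.InSymplecticClass Cfsg.Geo.InSymplecticPartialClass at hM
  rcases hM with (⟨W, h0, hW, rfl⟩ | ⟨W, h0, hW, hlt, rfl⟩ | ⟨t, k, D, hD, rfl⟩ | ⟨D, hodd, hD, hts, rfl⟩ |
      ⟨F₀, r, P, ζ, hr, hF, hζ, hrat, rfl⟩ | ⟨R, p, k, hR, habs, hsim, hp, hpodd, hFp, hcard, hZ, hminus, rfl⟩ |
      ⟨Q, heven', hQ, hpol, rfl⟩) | ⟨r, K, hr, hK, hsa, halt, rfl⟩ | ⟨K, hodd, hK, hac, hnsa, rfl⟩ |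
      ⟨n₁, n₂, e, P, f₁, f₂, hodd, hn₂, h₁, h₂, hT, rfl⟩ | ⟨k, t, e, P, f₁, hodd, hto, ht, hne, h₁, hT, rfl⟩
  · exact Or.inl ⟨W, h0, hW, rfl⟩
  · -- nondegenerate subspace of dimension < 2: impossible
    exfalso
    have hev := Cfsg.Agent.Lib.Helper44.SpMaxKeys.even_finrank_of_isNondegenerateOn W hW
    have hpos : 0 < Module.finrank F W := by
      rw [Module.finrank_pos_iff_exists_ne_zero]
      obtain ⟨w, hw, hw0⟩ := (Submodule.ne_bot_iff W).mp h0
      exact ⟨⟨w, hw⟩, fun h => hw0 (congrArg Subtype.val h)⟩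
    rcases hev with ⟨j, hj⟩
    omega
  · -- nondegenerate decomposition: t * k = 4, k even
    have hmul := Cfsg.Agent.Lib.Helper44.SpMaxKeys.mul_eq_of_isMDecomposition D hD.decomp
    have hev := Cfsg.Agent.Lib.Helper44.SpMaxKeys.even_finrank_of_isNondegenerateOn (D ⟨0, by have := hD.decomp.two_le; omega⟩)
      (hD.nondegenerate _)
    rw [hD.decomp.finrank_eq] at hev
    have ht2 := hD.decomp.two_le
    have hk0 := hD.decomp.pos
    rcases hev with ⟨j, hj⟩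
    have htj : t * j = 2 := by subst hj; rw [Nat.mul_add] at hmul; omega
    have hjle : j ≤ 1 := by
      by_contra h
      push Not at h
      have : 2 * 2 ≤ t * j := Nat.mul_le_mul ht2 h
      omega
    have hj1 : j = 1 := by omega
    have hk : k = 2 := by omega
    have ht : t = 2 := by subst hj1; omega
    subst hk; subst ht
    exact Or.inr (Or.inl ⟨D, hD, rfl⟩)
  · exact absurd hodd heven
  · exact Or.inr (Or.inr (Or.inr (Or.inl ⟨F₀, r, P, ζ, hr, hF, hζ, hrat, rfl⟩)))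
  · exact absurd (hFp ▸ hpodd) heven
  · exact Or.inr (Or.inr (Or.inr (Or.inr (Or.inl ⟨Q, hQ, hpol, rfl⟩))))
  · -- extension field of prime degree r ∣ 4
    have hdvd := Cfsg.Agent.Lib.Helper44.SpMaxKeys.dvd_of_isFieldSubalgebra K hK
    have hr2 : r = 2 := by
      have : r ∣ 2 ^ 2 := by simpa using hdvd
      exact (Nat.prime_dvd_prime_iff_eq hr Nat.prime_two).mp (hr.dvd_of_dvd_pow this)
    subst hr2
    exact Or.inr (Or.inr (Or.inl ⟨K, hK, hsa, halt, rfl⟩))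
  · exact absurd hodd heven
  · exact absurd hodd heven
  · exact absurd hodd heven

end Cfsg.Agent.S5790
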