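import Cfsg.Statements.S5796
import Mathlib
import Cfsg.Agent.S5663
import Cfsg.Agent.Lib.Helper38.SUMaxG1
import Cfsg.Agent.Lib.Helper32.SUMaxN1
import Cfsg.Agent.Lib.Helper26.SUMaxN2
import Cfsg.Agent.Lib.Helper14.SUMaxN3
import Cfsg.Agent.Lib.Helper70.SUMaxN5
import Cfsg.Agent.Lib.Helper63.SUMaxN6
import Cfsg.Agent.Lib.Helper94.SUMaxD6a
import Cfsg.Agent.Lib.Helper91.SUMaxD6b
import Cfsg.Agent.Lib.Helper63.SLMaxD3
import Cfsg.Agent.Lib.Helper36.SLMaxD2
import Cfsg.Agent.Lib.Helper59.SU5X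
import Cfsg.Agent.Lib.Helper59.SU5Row
import Cfsg.Agent.Lib.Helper19.UnitaryDet

set_option autoImplicit false
open Cfsg

namespace Cfsg.Agent.S5796

/-- Every maximal subgroup of SU_5(q) is of one of the listed geometric types or lies in the residual class. Let F be the field with q² elements (characteristic p), f the standard unitary form Σ u_i v_i^q on F^5, and H a maximal subgroup of SU_5(q) (inside GL_5(F)). Then H is the intersection with SU_5(q) of one of: the stabiliser of a non-zero totally isotropic subspace; the stabiliser of a non-degenerate 1-space or 2-space; the stabiliser of a decomposition into five mutually orthogonal non-degenerate 1-spaces; for q ≥ 3, the normaliser of an adjoint-closed degree-5 subfield of the matrix algebra; a subfield group of odd prime index whose F₀-structure carries f; for q odd, a subfield group of index 2 whose F₀-structure carries f; for q = p ≡ 4 mod 5 or q = p² with p ≡ 2, 3 mod 5, the normaliser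 of an absolutely irreducible 5-group of exponent 5, order 125 and centre of order 5 with all characteristic abelian subgroups cyclic inside the similarity group of f — or else H lies in the residual class of the unitary case. -/
theorem result {F : Type*} [Field F] [Fintype F] (q : ℕ) (hF : Fintype.card F = q ^ 2) (H : Subgroup (Matrix.GeneralLinearGroup (Fin 5) F)) (hH : Cfsg.Geo.IsMaximalIn (Cfsg.GU 5 F q ⊓ Cfsg.Geo.specialLinear (Fin 5) F) H) :
    (∃ W : Submodule F (Fin 5 → F), W ≠ ⊥ ∧ Cfsg.Geo.IsTotallySingularFor (Cfsg.hermForm 5 F q) W ∧ H = Cfsg.Geo.subspaceStabilizer W ⊓ (Cfsg.GU 5 F q ⊓ Cfsg.Geo.specialLinear (Fin 5) F)) ∨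
    (∃ W : Submodule F (Fin 5 → F), W ≠ ⊥ ∧ Cfsg.Geo.IsNondegenerateOn (Cfsg.hermForm 5 F q) W ∧ 2 * Module.finrank F W < 5 ∧ H = Cfsg.Geo.subspaceStabilizer W ⊓ (Cfsg.GU 5 F q ⊓ Cfsg.Geo.specialLinear (Fin 5) F)) ∨
    (∃ D : Fin 5 → Submodule F (Fin 5 → F), Cfsg.Geo.IsNondegenerateMDecomposition (Cfsg.hermForm 5 F q) 1 D ∧ H = Cfsg.Geo.decompositionStabilizer D ⊓ (Cfsg.GU 5 F q ⊓ Cfsg.Geo.specialLinear (Fin 5) F)) ∨
    (3 ≤ q ∧ ∃ K : Subalgebra F (Matrix (Fin 5) (Fin 5) F), Cfsg.Geo.IsFieldSubalgebra 5 K ∧ Cfsg.Geo.IsAdjointClosedFor (Cfsg.hermForm 5 F q) K ∧ H = Cfsg.Geo.subalgebraNormalizer K ⊓ (Cfsg.GU 5 F q ⊓ Cfsg.Geo.specialLinear (Fin 5) F)) ∨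
    (∃ (F₀ : Subfield F) (r : ℕ) (P : Matrix.GeneralLinearGroup (Fin 5) F), r.Prime ∧ Odd r ∧ Fintype.card F = Nat.card F₀ ^ r ∧ Cfsg.Geo.IsFormRationalStructure (Cfsg.hermForm 5 F q) F₀ 1 P ∧ H = Cfsg.Geo.subfieldSubgroup F₀ P ⊓ (Cfsg.GU 5 F q ⊓ Cfsg.Geo.specialLinear (Fin 5) F)) ∨
    (Odd q ∧ ∃ (F₀ : Subfield F) (P : Matrix.GeneralLinearGroup (Fin 5) F), Fintype.card F = Nat.card F₀ ^ 2 ∧ Cfsg.Geo.IsFormRationalStructure (Cfsg.hermForm 5 F q) F₀ 1 P ∧ H = Cfsg.Geo.subfieldSubgroup F₀ P ⊓ (Cfsg.GU 5 F q ⊓ Cfsg.Geo.specialLinear (Fin 5) F)) ∨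
    (∃ (p : ℕ) (R : Subgroup (Matrix.GeneralLinearGroup (Fin 5) F)), p.Prime ∧ CharP F p ∧ ((q = p ∧ p % 5 = 4) ∨ (q = p ^ 2 ∧ (p % 5 = 2 ∨ p % 5 = 3))) ∧ Cfsg.Geo.IsSymplecticTypeGroup 5 R ∧ Cfsg.Geo.ActsAbsolutelyIrreducibly (Cfsg.Geo.matrixSet R) ∧ R ≤ Cfsg.Geo.similarityGroup (Cfsg.hermForm 5 F q) ∧ Nat.card R = 125 ∧ Nat.card (Subgroup.center R) = 5 ∧ H = Cfsg.Geo.subgroupNormalizer R ⊓ (Cfsg.GU 5 F q ⊓ Cfsg.Geo.specialLinear (Fin 5) F)) ∨
    Cfsg.Geo.InUnitaryResidualClass H := by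
  classical
  have hn : (3 : ℕ) ≤ 5 := by norm_num
  have hex : ¬ ((5 : ℕ) = 3 ∧ q = 2) := by rintro ⟨h, -⟩; omega
  have hq2 : 2 ≤ q := by
    have := Cfsg.Agent.Lib.Helper19.one_lt_q hF
    omega
  have hproper := Cfsg.Agent.Lib.Helper38.SUMax.sup_scalars_ne_of_isMaximalIn hF hn hex H hH
  rcases Cfsg.Agent.S5663.result 5 q hF hn hex H hH.1.le hproper with ⟨M, hM, hHM⟩ | hres
  swap
  · exact Or.inr (Or.inr (Or.inr (Or.inr (Or.inr (Or.inr (Or.inr hres))))))
  have hfin : Module.finrank F (Fin 5 → F) = 5 := by simp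
  unfold Cfsg.Geo.InUnitaryClass Cfsg.Geo.InUnitaryPartialClass at hM
  dsimp only at hM
  rcases hM with (h | h | h | h | h | h | h | h) | h | h | h
  · -- totally singular subspace
    obtain ⟨W, h0, hts, rfl⟩ := h
    have h1 : W ≠ ⊤ := by
      rintro rfl
      have := hts (Pi.single 0 1) Submodule.mem_top (Pi.single 0 1) Submodule.mem_top
      rw [Cfsg.Agent.Lib.Helper19.hermForm_single_single hF, if_pos rfl] at this
      exact one_ne_zero this
    exact Or.inl ⟨W, h0, hts, Cfsg.Agent.Lib.Helper59.SU5Row.eq_inf_of_max hH hHM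
      (Cfsg.Agent.Lib.Helper32.SUMax.su_not_le_subspaceStabilizer hF hn hex W h0 h1)⟩
  · -- non-degenerate subspace
    obtain ⟨W, h0, hnd, hdim, rfl⟩ := h
    have h1 : W ≠ ⊤ := by
      rintro rfl
      rw [finrank_top, hfin] at hdim
      omega
    exact Or.inr (Or.inl ⟨W, h0, hnd, hdim, Cfsg.Agent.Lib.Helper59.SU5Row.eq_inf_of_max hH hHM
      (Cfsg.Agent.Lib.Helper32.SUMax.su_not_le_subspaceStabilizer hF hn hex W h0 h1)⟩)
  · -- non-degenerate decomposition
    obtain ⟨t, k, D, hD, rfl⟩ := h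
    have hsum := Cfsg.Agent.Lib.Helper36.SLMax.finrank_eq_sum_of_indep D hD.decomp.indep
      hD.decomp.iSup_eq_top
    rw [hfin] at hsum
    simp only [hD.decomp.finrank_eq, Finset.sum_const, Finset.card_univ, Fintype.card_fin,
      smul_eq_mul] at hsum
    have ht := hD.decomp.two_le
    have hk := hD.decomp.pos
    have htk : t = 5 ∧ k = 1 := by
      have h5 : t ≤ 5 := Nat.le_of_dvd (by norm_num) ⟨k, hsum⟩
      interval_cases t <;> omega
    obtain ⟨rfl, rfl⟩ := htk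
    exact Or.inr (Or.inr (Or.inl ⟨D, hD, Cfsg.Agent.Lib.Helper59.SU5Row.eq_inf_of_max hH hHM
      (Cfsg.Agent.Lib.Helper26.SUMax.su_not_le_decompositionStabilizer hF hn hex D hD.decomp)⟩))
  · -- totally isotropic pair
    exfalso
    obtain ⟨k, D, hk, -⟩ := h
    omega
  · -- subfield, odd prime index
    obtain ⟨F₀, r, P, hr, hodd, hcard, hrat, rfl⟩ := h
    exact Or.inr (Or.inr (Or.inr (Or.inr (Or.inl ⟨F₀, r, P, hr, hodd, hcard, hrat,
      Cfsg.Agent.Lib.Helper59.SU5Row.eq_inf_of_max hH hHM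
        (Cfsg.Agent.Lib.Helper70.SUMax.su_not_le_subfieldSubgroup hF hn hex F₀ r hr hcard P)⟩))))
  · -- subfield, index 2
    obtain ⟨F₀, P, hodd, hcard, hrat, rfl⟩ := h
    exact Or.inr (Or.inr (Or.inr (Or.inr (Or.inr (Or.inl ⟨hodd, F₀, P, hcard, hrat,
      Cfsg.Agent.Lib.Helper59.SU5Row.eq_inf_of_max hH hHM
        (Cfsg.Agent.Lib.Helper70.SUMax.su_not_le_subfieldSubgroup hF hn hex F₀ 2 Nat.prime_two hcard P)⟩)))))
  · -- symplectic-type subfield structure: even dimension only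
    exfalso
    obtain ⟨F₀, P, ζ, heven, -⟩ := h
    revert heven
    decide
  · -- class 6
    obtain ⟨r, R, p, e, k, hR, habs, hsim, hrp, hminf, hcase, rfl⟩ := h
    have hcl := Cfsg.Agent.Lib.Helper91.SUMax.commutator_central_of_symplecticType R hR
    have hcard := Cfsg.Agent.Lib.Helper94.SUMax.card_sq_mul_card_center R habs hcl
    rw [Fintype.card_fin] at hcard
    obtain ⟨hp, hchar, hFp, h5dvd, hmin⟩ := hminf
    have hrprime := hR.prime
    have hkey : r = 5 ∧ Nat.card (Subgroup.center R) = 5 ∧ Nat.card R = 125 := by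
      rcases hcase with ⟨hrodd, hz, hk1, hRc⟩ | ⟨hr2, -, hz, hRc⟩
      · rw [hz, hRc] at hcard
        have h25 : r ^ (2 * k) = 25 := by
          have hr0 : 0 < r := hrprime.pos
          have : 5 ^ 2 * r = r ^ (2 * k) * r := by rw [hcard]; ring
          exact (Nat.eq_of_mul_eq_mul_right hr0 this).symm
        have hr5 : r = 5 := by
          have hdvd : r ∣ 5 ^ 2 := by
            rw [show (5 : ℕ) ^ 2 = 25 by norm_num, ← h25]
            exact dvd_pow_self r (by omega)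
          exact (Nat.prime_dvd_prime_iff_eq hrprime (by norm_num)).mp (hrprime.dvd_of_dvd_pow hdvd)
        subst hr5
        have hk' : k = 1 := by
          have : (5 : ℕ) ^ (2 * k) = 5 ^ 2 := by rw [h25]; norm_num
          have := Nat.pow_right_injective (le_refl 2 |>.trans (by norm_num : 2 ≤ 5)) this
          omega
        subst hk'
        exact ⟨rfl, hz, by rw [hRc]; norm_num⟩
      · exfalso
        rw [hz, hRc] at hcard
        have h2 : (2 : ℕ) ^ (2 + 2 * k) = 100 := by rw [← hcard]; norm_num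
        have hk7 : 2 + 2 * k < 7 := by
          by_contra hcon
          push Not at hcon
          have : (2 : ℕ) ^ 7 ≤ 2 ^ (2 + 2 * k) := Nat.pow_le_pow_right (by norm_num) hcon
          omega
        have hk3 : k < 3 := by omega
        interval_cases k <;> simp at h2
    obtain ⟨hr5, hz5, hR125⟩ := hkey
    subst hr5
    rw [hz5] at h5dvd hmin
    have harith := Cfsg.Agent.Lib.Helper59.SU5Row.c6_arith q p e hq2 hp (Ne.symm hrp)
      (by rw [← hF, hFp]) h5dvd hmin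
    exact Or.inr (Or.inr (Or.inr (Or.inr (Or.inr (Or.inr (Or.inl ⟨p, R, hp, hchar, harith, hR, habs,
      hsim, hR125, hz5, Cfsg.Agent.Lib.Helper59.SU5Row.eq_inf_of_max hH hHM
        (Cfsg.Agent.Lib.Helper63.SUMax.su_not_le_subgroupNormalizer_of_five_le hF (le_refl 5) R hR habs)⟩))))))
  · -- class 3
    obtain ⟨r, K, hr, hodd, hK, hadj, rfl⟩ := h
    have hdvd := Cfsg.Agent.Lib.Helper63.SLMax.dvd_of_isFieldSubalgebra K hK
    have hr5 : r = 5 := (Nat.prime_dvd_prime_iff_eq hr (by norm_num)).mp hdvd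
    subst hr5
    have hHK := Cfsg.Agent.Lib.Helper59.SU5Row.eq_inf_of_max hH hHM
      (Cfsg.Agent.Lib.Helper14.SUMax.su_not_le_subalgebraNormalizer hF hn hex (by norm_num) K hK)
    by_cases hq3 : 3 ≤ q
    · exact Or.inr (Or.inr (Or.inr (Or.inl ⟨hq3, K, hK, hadj, hHK⟩)))
    · exfalso
      have hq : q = 2 := by omega
      subst hq
      rw [hHK] at hH
      exact Cfsg.Agent.Lib.Helper59.SU5X.fieldNormalizer_not_maximal hF K hK hadj hH
  · -- tensor product
    exfalso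
    obtain ⟨n₁, n₂, e, P, f₁, f₂, h1, h12, -⟩ := h
    have hc := Fintype.card_congr e
    simp only [Fintype.card_fin, Fintype.card_prod] at hc
    have h5 : n₁ ≤ 5 := Nat.le_of_dvd (by norm_num) ⟨n₂, hc⟩
    interval_cases n₁ <;> omega
  · -- tensor wreath
    exfalso
    obtain ⟨k, t, e, P, f₁, hk, ht, -⟩ := h
    have hc := Fintype.card_congr e
    simp only [Fintype.card_fin, Fintype.card_pi, Finset.prod_const, Finset.card_univ] at hc
    have h9 : 3 ^ 2 ≤ k ^ t := by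
      calc 3 ^ 2 ≤ k ^ 2 := Nat.pow_le_pow_left hk 2
        _ ≤ k ^ t := Nat.pow_le_pow_right (by omega) ht
    omega


end Cfsg.Agent.S5796
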