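import Cfsg.Statements.S5802
import Mathlib
import Cfsg.Agent.Lib.Helper73.SU6Glue

set_option autoImplicit false
open Cfsg

namespace Cfsg.Agent.S5802

/-- Every maximal subgroup of SU_6(q) is of one of the listed geometric types or lies in the residual class. Let F be the field with q² elements, f the standard unitary form Σ u_i v_i^q on F^6, and H a maximal subgroup of SU_6(q) (inside GL_6(F)). Then H is the intersection with SU_6(q) of one of: the stabiliser of a non-zero totally isotropic subspace; the stabiliser of a non-degenerate 1- or 2-space; for q ≥ 3, the stabiliser of a decomposition into six mutually orthogonal non-degenerate 1-spaces; for q ≥ 3, of a decomposition into three mutually orthogonal non-degenerate 2-spaces; of a decomposition into two orthogonal non-degenerate 3-spaces; of a decomposition into two totally isotropic 3-spaces; for q ≥ 3, the normaliser of an adjoint-closed degree-3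 subfield of the matrix algebra; for q ≥ 3, the stabiliser of a tensor decomposition of f into unitary forms on F^2 and F^3; a subfield group of odd prime index whose F₀-structure carries f; a subfield group of index 2 and symplectic type; for q odd, a subfield group of index 2 and orthogonal type — or else H lies in the residual class of the unitary case. -/
theorem result {F : Type*} [Field F] [Fintype F] (q : ℕ) (hF : Fintype.card F = q ^ 2) (H : Subgroup (Matrix.GeneralLinearGroup (Fin 6) F)) (hH : Cfsg.Geo.IsMaximalIn (Cfsg.GU 6 F q ⊓ Cfsg.Geo.specialLinear (Fin 6) F) H) :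
    (∃ W : Submodule F (Fin 6 → F), W ≠ ⊥ ∧ Cfsg.Geo.IsTotallySingularFor (Cfsg.hermForm 6 F q) W ∧ H = Cfsg.Geo.subspaceStabilizer W ⊓ (Cfsg.GU 6 F q ⊓ Cfsg.Geo.specialLinear (Fin 6) F)) ∨
    (∃ W : Submodule F (Fin 6 → F), W ≠ ⊥ ∧ Cfsg.Geo.IsNondegenerateOn (Cfsg.hermForm 6 F q) W ∧ 2 * Module.finrank F W < 6 ∧ H = Cfsg.Geo.subspaceStabilizer W ⊓ (Cfsg.GU 6 F q ⊓ Cfsg.Geo.specialLinear (Fin 6) F)) ∨
    (3 ≤ q ∧ ∃ D : Fin 6 → Submodule F (Fin 6 → F), Cfsg.Geo.IsNondegenerateMDecomposition (Cfsg.hermForm 6 F q) 1 D ∧ H = Cfsg.Geo.decompositionStabilizer D ⊓ (Cfsg.GU 6 F q ⊓ Cfsg.Geo.specialLinear (Fin 6) F)) ∨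
    (3 ≤ q ∧ ∃ D : Fin 3 → Submodule F (Fin 6 → F), Cfsg.Geo.IsNondegenerateMDecomposition (Cfsg.hermForm 6 F q) 2 D ∧ H = Cfsg.Geo.decompositionStabilizer D ⊓ (Cfsg.GU 6 F q ⊓ Cfsg.Geo.specialLinear (Fin 6) F)) ∨
    (∃ D : Fin 2 → Submodule F (Fin 6 → F), Cfsg.Geo.IsNondegenerateMDecomposition (Cfsg.hermForm 6 F q) 3 D ∧ H = Cfsg.Geo.decompositionStabilizer D ⊓ (Cfsg.GU 6 F q ⊓ Cfsg.Geo.specialLinear (Fin 6) F)) ∨
    (∃ D : Fin 2 → Submodule F (Fin 6 → F), Cfsg.Geo.IsMDecomposition 3 D ∧ (∀ i, Cfsg.Geo.IsTotallySingularFor (Cfsg.hermForm 6 F q) (D i)) ∧ H = Cfsg.Geo.decompositionStabilizer D ⊓ (Cfsg.GU 6 F q ⊓ Cfsg.Geo.specialLinear (Fin 6) F)) ∨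
    (3 ≤ q ∧ ∃ K : Subalgebra F (Matrix (Fin 6) (Fin 6) F), Cfsg.Geo.IsFieldSubalgebra 3 K ∧ Cfsg.Geo.IsAdjointClosedFor (Cfsg.hermForm 6 F q) K ∧ H = Cfsg.Geo.subalgebraNormalizer K ⊓ (Cfsg.GU 6 F q ⊓ Cfsg.Geo.specialLinear (Fin 6) F)) ∨
    (3 ≤ q ∧ ∃ (e : Fin 6 ≃ Fin 2 × Fin 3) (P : Matrix.GeneralLinearGroup (Fin 6) F) (f₁ : (Fin 2 → F) → (Fin 2 → F) → F) (f₂ : (Fin 3 → F) → (Fin 3 → F) → F), Cfsg.Geo.IsUnitaryFormPow q f₁ ∧ Cfsg.Geo.IsUnitaryFormPow q f₂ ∧ Cfsg.Geo.IsTensorFormStructure (fun x : F => x ^ q) (Cfsg.hermForm 6 F q) f₁ f₂ e P ∧ H = Cfsg.Geo.tensorProductSubgroup 2 3 e P ⊓ (Cfsg.GU 6 F q ⊓ Cfsg.Geo.specialLinear (Fin 6) F)) ∨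
    (∃ (F₀ : Subfield F) (r : ℕ) (P : Matrix.GeneralLinearGroup (Fin 6) F), r.Prime ∧ Odd r ∧ Fintype.card F = Nat.card F₀ ^ r ∧ Cfsg.Geo.IsFormRationalStructure (Cfsg.hermForm 6 F q) F₀ 1 P ∧ H = Cfsg.Geo.subfieldSubgroup F₀ P ⊓ (Cfsg.GU 6 F q ⊓ Cfsg.Geo.specialLinear (Fin 6) F)) ∨
    (∃ (F₀ : Subfield F) (P : Matrix.GeneralLinearGroup (Fin 6) F) (ζ : F), Fintype.card F = Nat.card F₀ ^ 2 ∧ ζ ≠ 0 ∧ ζ + ζ ^ q = 0 ∧ Cfsg.Geo.IsFormRationalStructure (Cfsg.hermForm 6 F q) F₀ ζ P ∧ (∀ u : Fin 6 → F, (∀ i, u i ∈ F₀) → (Cfsg.hermForm 6 F q) (Matrix.mulVec (P : Matrix (Fin 6) (Fin 6) F) u) (Matrix.mulVec (P : Matrix (Fin 6) (Fin 6) F) u) = 0) ∧ H = Cfsg.Geo.subfieldSubgroup F₀ P ⊓ (Cfsg.GU 6 F q ⊓ Cfsg.Geo.specialLinear (Fin 6) F)) ∨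
    (Odd q ∧ ∃ (F₀ : Subfield F) (P : Matrix.GeneralLinearGroup (Fin 6) F), Fintype.card F = Nat.card F₀ ^ 2 ∧ Cfsg.Geo.IsFormRationalStructure (Cfsg.hermForm 6 F q) F₀ 1 P ∧ H = Cfsg.Geo.subfieldSubgroup F₀ P ⊓ (Cfsg.GU 6 F q ⊓ Cfsg.Geo.specialLinear (Fin 6) F)) ∨
    Cfsg.Geo.InUnitaryResidualClass H := by
  classical
  have hn : (3 : ℕ) ≤ 6 := by norm_num
  have hex : ¬ ((6 : ℕ) = 3 ∧ q = 2) := by rintro ⟨h, -⟩; omega
  have hq2 : 2 ≤ q := Cfsg.Agent.Lib.Helper73.SU6Glue.two_le_q hF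
  have hSUle : H ≤ Cfsg.GU 6 F q ⊓ Cfsg.Geo.specialLinear (Fin 6) F := hH.1.le
  rcases Cfsg.Agent.Lib.Helper73.SU6Keys.aschbacher_unitary 6 q hF hn hex H hSUle
      (Cfsg.Agent.Lib.Helper73.SU6Keys.sup_scalars_ne_of_isMaximalIn hF hn hex H hH) with ⟨M, hM, hHM⟩ | hres
  swap
  · exact Or.inr (Or.inr (Or.inr (Or.inr (Or.inr (Or.inr (Or.inr (Or.inr (Or.inr (Or.inr (Or.inr hres))))))))))
  unfold Cfsg.Geo.InUnitaryClass Cfsg.Geo.InUnitaryPartialClass at hM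
  rcases hM with (⟨W, h0, hW, rfl⟩ | ⟨W, h0, hW, hlt, rfl⟩ | ⟨t, k, D, hD, rfl⟩ | ⟨k, D, hk, hD, hts, rfl⟩ |
      ⟨F₀, r, P, hr, hodd, hc, hrat, rfl⟩ | ⟨F₀, P, hodd, hc, hrat, rfl⟩ |
      ⟨F₀, P, ζ, hev, hc, hζ0, hζ, hrat, halt, rfl⟩ |
      ⟨r, R, p, e, k, hR, habs, hsim, hrp, hmin, hcases, rfl⟩) | ⟨r, K, hr, hodd, hK, hadj, rfl⟩ |
      ⟨n₁, n₂, e, P, f₁, f₂, h1, h12, hf1, hf2, hT, rfl⟩ | ⟨k, t, e, P, f₁, hk, ht, hne, hf1, hT, rfl⟩
  · -- totally singular subspace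
    have := Cfsg.Agent.Lib.Helper73.SU6Glue.eq_inf_of_le hH (le_trans hHM inf_le_left)
      (Cfsg.Agent.Lib.Helper73.SU6Keys.su_not_le_subspaceStabilizer hF hn hex W h0
        (Cfsg.Agent.Lib.Helper73.SU6Glue.ne_top_of_isTotallySingularFor hF (by norm_num) W hW))
    exact Or.inl ⟨W, h0, hW, this⟩
  · -- non-degenerate subspace
    have := Cfsg.Agent.Lib.Helper73.SU6Glue.eq_inf_of_le hH (le_trans hHM inf_le_left)
      (Cfsg.Agent.Lib.Helper73.SU6Keys.su_not_le_subspaceStabilizer hF hn hex W h0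
        (Cfsg.Agent.Lib.Helper73.SU6Glue.ne_top_of_two_mul_finrank_lt W hlt))
    exact Or.inr (Or.inl ⟨W, h0, hW, hlt, this⟩)
  · -- non-degenerate decomposition: t * k = 6
    have htk := Cfsg.Agent.Lib.Helper73.SU6Keys.mul_eq_of_isMDecomposition D hD.decomp
    have ht2 := hD.decomp.two_le
    have hk0 := hD.decomp.pos
    have hH' := Cfsg.Agent.Lib.Helper73.SU6Glue.eq_inf_of_le hH (le_trans hHM inf_le_left)
      (Cfsg.Agent.Lib.Helper73.SU6Keys.su_not_le_decompositionStabilizer hF hn hex D hD.decomp)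
    have hcases : (t = 6 ∧ k = 1) ∨ (t = 3 ∧ k = 2) ∨ (t = 2 ∧ k = 3) := by
      have ht6 : t ≤ 6 := by nlinarith
      have hk6 : k ≤ 6 := by nlinarith
      interval_cases t <;> interval_cases k <;> simp_all
    rcases hcases with ⟨rfl, rfl⟩ | ⟨rfl, rfl⟩ | ⟨rfl, rfl⟩
    · by_cases hq : 3 ≤ q
      · exact Or.inr (Or.inr (Or.inl ⟨hq, D, hD, hH'⟩))
      · exfalso
        have hq' : q = 2 := by omega
        apply Cfsg.Agent.Lib.Helper73.SU6Keys.frames_not_maximal_of_two hF hq' D hD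
        rw [← hH']; exact hH
    · by_cases hq : 3 ≤ q
      · exact Or.inr (Or.inr (Or.inr (Or.inl ⟨hq, D, hD, hH'⟩)))
      · exfalso
        have hq' : q = 2 := by omega
        obtain ⟨t', D', hD', hle⟩ :=
          Cfsg.Agent.Lib.Helper73.SU6Keys.nondeg_planes_le_lines_of_two hF hq' D hD
        have ht' := Cfsg.Agent.Lib.Helper73.SU6Keys.mul_eq_of_isMDecomposition D' hD'.decomp
        have ht6 : t' = 6 := by omega
        subst ht6
        have hH'' := Cfsg.Agent.Lib.Helper73.SU6Glue.eq_inf_of_le hH (le_trans hHM hle)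
          (Cfsg.Agent.Lib.Helper73.SU6Keys.su_not_le_decompositionStabilizer hF hn hex D' hD'.decomp)
        apply Cfsg.Agent.Lib.Helper73.SU6Keys.frames_not_maximal_of_two hF hq' D' hD'
        rw [← hH'']; exact hH
    · exact Or.inr (Or.inr (Or.inr (Or.inr (Or.inl ⟨D, hD, hH'⟩))))
  · -- pair of totally singular subspaces
    have hk3 : k = 3 := by omega
    subst hk3
    have := Cfsg.Agent.Lib.Helper73.SU6Glue.eq_inf_of_le hH (le_trans hHM inf_le_left)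
      (Cfsg.Agent.Lib.Helper73.SU6Keys.su_not_le_decompositionStabilizer hF hn hex D hD)
    exact Or.inr (Or.inr (Or.inr (Or.inr (Or.inr (Or.inl ⟨D, hD, hts, this⟩)))))
  · -- subfield of odd prime index
    have := Cfsg.Agent.Lib.Helper73.SU6Glue.eq_inf_of_le hH (le_trans hHM inf_le_left)
      (Cfsg.Agent.Lib.Helper73.SU6Keys.su_not_le_subfieldSubgroup hF hn hex F₀ r hr hc P)
    exact Or.inr (Or.inr (Or.inr (Or.inr (Or.inr (Or.inr (Or.inr (Or.inr (Or.inl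
      ⟨F₀, r, P, hr, hodd, hc, hrat, this⟩))))))))
  · -- subfield of index two, orthogonal type
    have := Cfsg.Agent.Lib.Helper73.SU6Glue.eq_inf_of_le hH (le_trans hHM inf_le_left)
      (Cfsg.Agent.Lib.Helper73.SU6Keys.su_not_le_subfieldSubgroup hF hn hex F₀ 2 Nat.prime_two hc P)
    exact Or.inr (Or.inr (Or.inr (Or.inr (Or.inr (Or.inr (Or.inr (Or.inr (Or.inr (Or.inr (Or.inl
      ⟨hodd, F₀, P, hc, hrat, this⟩))))))))))
  · -- subfield of index two, symplectic type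
    have := Cfsg.Agent.Lib.Helper73.SU6Glue.eq_inf_of_le hH (le_trans hHM inf_le_left)
      (Cfsg.Agent.Lib.Helper73.SU6Keys.su_not_le_subfieldSubgroup hF hn hex F₀ 2 Nat.prime_two hc P)
    exact Or.inr (Or.inr (Or.inr (Or.inr (Or.inr (Or.inr (Or.inr (Or.inr (Or.inr (Or.inl
      ⟨F₀, P, ζ, hc, hζ0, hζ, hrat, halt, this⟩)))))))))
  · -- symplectic type: 36 |Z(R)| = |R| is impossible
    exfalso
    have hcard := Cfsg.Agent.Lib.Helper73.SU6Keys.card_sq_mul_card_center_fin (by norm_num : 0 < 6) R habs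
      (Cfsg.Agent.Lib.Helper73.SU6Keys.commutator_central_of_symplecticType R hR)
    have hrprime := hR.prime
    rcases hcases with ⟨hrodd, hZ, hk1, hRc⟩ | ⟨hr2, he2, hZ, hRc⟩
    · rw [hZ, hRc, pow_add, pow_one, mul_comm] at hcard
      have h36 : r ^ (2 * k) = 36 := by
        have hr0 : 0 < r := hrprime.pos
        exact (Nat.eq_of_mul_eq_mul_left hr0 hcard).symm
      have hdvd : r ∣ 36 := by
        rw [← h36]; exact dvd_pow_self r (by omega)
      have h23 : r = 2 ∨ r = 3 := by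
        have : r ∣ 2 ^ 2 * 3 ^ 2 := by norm_num; exact hdvd
        rcases (Nat.Prime.dvd_mul hrprime).mp this with h | h
        · exact Or.inl ((Nat.prime_dvd_prime_iff_eq hrprime Nat.prime_two).mp (hrprime.dvd_of_dvd_pow h))
        · exact Or.inr ((Nat.prime_dvd_prime_iff_eq hrprime Nat.prime_three).mp (hrprime.dvd_of_dvd_pow h))
      rcases h23 with rfl | rfl
      · exact absurd hrodd (by decide)
      · have h9 : (9 : ℕ) ^ k = 36 := by rw [← h36, pow_mul]; norm_num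
        rcases Nat.lt_or_ge k 2 with hk2 | hk2
        · interval_cases k; omega
        · have : (9 : ℕ) ^ 2 ≤ 9 ^ k := Nat.pow_le_pow_right (by norm_num) hk2
          omega
    · rw [hZ, hRc] at hcard
      have h4 : (4 : ℕ) ^ k = 36 := by
        have : (2 : ℕ) ^ (2 + 2 * k) = 4 * 4 ^ k := by rw [pow_add, pow_mul]; norm_num
        rw [this] at hcard; omega
      rcases Nat.lt_or_ge k 3 with hk3 | hk3
      · interval_cases k <;> omega
      · have : (4 : ℕ) ^ 3 ≤ 4 ^ k := Nat.pow_le_pow_right (by norm_num) hk3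
        omega
  · -- extension field of odd prime degree r ∣ 6
    have hdvd := Cfsg.Agent.Lib.Helper73.SU6Keys.dvd_of_isFieldSubalgebra K hK
    have hr3 : r = 3 := by
      have : r ∣ 2 * 3 := hdvd
      rcases (Nat.Prime.dvd_mul hr).mp this with h | h
      · have := (Nat.prime_dvd_prime_iff_eq hr Nat.prime_two).mp h
        subst this; exact absurd hodd (by decide)
      · exact (Nat.prime_dvd_prime_iff_eq hr Nat.prime_three).mp h
    subst hr3
    by_cases hq : 3 ≤ q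
    · have := Cfsg.Agent.Lib.Helper73.SU6Glue.eq_inf_of_le hH (le_trans hHM inf_le_left)
        (Cfsg.Agent.Lib.Helper73.SU6Keys.su_not_le_subalgebraNormalizer hF hn hex (by norm_num) K hK)
      exact Or.inr (Or.inr (Or.inr (Or.inr (Or.inr (Or.inr (Or.inl ⟨hq, K, hK, hadj, this⟩))))))
    · have hq' : q = 2 := by omega
      obtain ⟨F₀, P, ζ, hc, hζ0, hζ, hrat, halt, hle⟩ :=
        Cfsg.Agent.Lib.Helper73.SU6Keys.field_three_le_subfield_of_two hF hq' K hK hadj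
      have hHle : H ≤ Cfsg.Geo.subfieldSubgroup F₀ P :=
        le_trans (le_inf (le_trans hHM inf_le_left) hSUle) hle
      have := Cfsg.Agent.Lib.Helper73.SU6Glue.eq_inf_of_le hH hHle
        (Cfsg.Agent.Lib.Helper73.SU6Keys.su_not_le_subfieldSubgroup hF hn hex F₀ 2 Nat.prime_two hc P)
      exact Or.inr (Or.inr (Or.inr (Or.inr (Or.inr (Or.inr (Or.inr (Or.inr (Or.inr (Or.inl
        ⟨F₀, P, ζ, hc, hζ0, hζ, hrat, halt, this⟩)))))))))
  · -- tensor product: n₁ n₂ = 6, 2 ≤ n₁ < n₂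
    have hmul := Cfsg.Agent.Lib.Helper73.SU6Glue.six_eq_mul_of_equiv e
    have hn12 : n₁ = 2 ∧ n₂ = 3 := by
      have h16 : n₁ ≤ 6 := by nlinarith
      have h26 : n₂ ≤ 6 := by nlinarith
      interval_cases n₁ <;> interval_cases n₂ <;> simp_all
    obtain ⟨rfl, rfl⟩ := hn12
    by_cases hq : 3 ≤ q
    · have := Cfsg.Agent.Lib.Helper73.SU6Glue.eq_inf_of_le hH (le_trans hHM inf_le_left)
        (Cfsg.Agent.Lib.Helper73.SU6Keys.su_not_le_tensorProductSubgroup hF hn hex (by norm_num) (by norm_num) e P)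
      exact Or.inr (Or.inr (Or.inr (Or.inr (Or.inr (Or.inr (Or.inr (Or.inl
        ⟨hq, e, P, f₁, f₂, hf1, hf2, hT, this⟩)))))))
    · have hq' : q = 2 := by omega
      obtain ⟨D, hD, hle⟩ := Cfsg.Agent.Lib.Helper73.SU6Keys.tensor_two_le_decomposition_of_two hF hq'
        (by norm_num) e P f₁ f₂ hf1 hf2 hT
      have := Cfsg.Agent.Lib.Helper73.SU6Glue.eq_inf_of_le hH (le_trans hHM hle)
        (Cfsg.Agent.Lib.Helper73.SU6Keys.su_not_le_decompositionStabilizer hF hn hex D hD.decomp)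
      exact Or.inr (Or.inr (Or.inr (Or.inr (Or.inl ⟨D, hD, this⟩))))
  · -- tensor wreath: k ^ t = 6 with k ≥ 3, t ≥ 2 impossible
    exfalso
    have hpow := Cfsg.Agent.Lib.Helper73.SU6Glue.six_eq_pow_of_equiv e
    have : 3 ^ 2 ≤ k ^ t := (Nat.pow_le_pow_left hk 2).trans (Nat.pow_le_pow_right (by omega) ht)
    omega

end Cfsg.Agent.S5802
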