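import Cfsg.Statements.S5811
import Mathlib
import Cfsg.Agent.Lib.Helper44.SUMaxGlue2

set_option autoImplicit false
open Cfsg

namespace Cfsg.Agent.S5811

/-- Every maximal subgroup of SU_7(q) is of one of the listed geometric types or lies in the residual class. Let F be the field with q² elements (characteristic p), f the standard unitary form Σ u_i v_i^q on F^7, and H a maximal subgroup of SU_7(q) (inside GL_7(F)). Then H is the intersection with SU_7(q) of one of: the stabiliser of a non-zero totally isotropic subspace; the stabiliser of a non-degenerate 1-, 2- or 3-space; the stabiliser of a decomposition into seven mutually orthogonal non-degenerate 1-spaces; the normaliser of an adjoint-closed degree-7 subfield of the matrix algebra; a subfield group of odd prime index whose F₀-structure carries f; for q odd, a subfield group of index 2 whose F₀-structure carries f; for q = p prime with p ≡ 6 mod 7, or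 q = p³ with p ≡ 3 or 5 mod 7, the normaliser of an absolutely irreducible 7-group R of exponent 7, order 343 and centre of order 7, all of whose characteristic abelian subgroups are cyclic, contained in the similarity group of f — or else H lies in the residual class of the unitary case (modulo scalars H is almost simple, with absolutely irreducible perfect socle preimage realisable over no proper subfield and fixing no non-degenerate quadratic or symplectic form). -/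
theorem result {F : Type*} [Field F] [Fintype F] (q : ℕ) (hF : Fintype.card F = q ^ 2) (H : Subgroup (Matrix.GeneralLinearGroup (Fin 7) F)) (hH : Cfsg.Geo.IsMaximalIn (Cfsg.GU 7 F q ⊓ Cfsg.Geo.specialLinear (Fin 7) F) H) :
    (∃ W : Submodule F (Fin 7 → F), W ≠ ⊥ ∧ Cfsg.Geo.IsTotallySingularFor (Cfsg.hermForm 7 F q) W ∧ H = Cfsg.Geo.subspaceStabilizer W ⊓ (Cfsg.GU 7 F q ⊓ Cfsg.Geo.specialLinear (Fin 7) F)) ∨
    (∃ W : Submodule F (Fin 7 → F), W ≠ ⊥ ∧ Cfsg.Geo.IsNondegenerateOn (Cfsg.hermForm 7 F q) W ∧ 2 * Module.finrank F W < 7 ∧ H = Cfsg.Geo.subspaceStabilizer W ⊓ (Cfsg.GU 7 F q ⊓ Cfsg.Geo.specialLinear (Fin 7) F)) ∨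
    (∃ D : Fin 7 → Submodule F (Fin 7 → F), Cfsg.Geo.IsNondegenerateMDecomposition (Cfsg.hermForm 7 F q) 1 D ∧ H = Cfsg.Geo.decompositionStabilizer D ⊓ (Cfsg.GU 7 F q ⊓ Cfsg.Geo.specialLinear (Fin 7) F)) ∨
    (∃ K : Subalgebra F (Matrix (Fin 7) (Fin 7) F), Cfsg.Geo.IsFieldSubalgebra 7 K ∧ Cfsg.Geo.IsAdjointClosedFor (Cfsg.hermForm 7 F q) K ∧ H = Cfsg.Geo.subalgebraNormalizer K ⊓ (Cfsg.GU 7 F q ⊓ Cfsg.Geo.specialLinear (Fin 7) F)) ∨
    (∃ (F₀ : Subfield F) (r : ℕ) (P : Matrix.GeneralLinearGroup (Fin 7) F), r.Prime ∧ Odd r ∧ Fintype.card F = Nat.card F₀ ^ r ∧ Cfsg.Geo.IsFormRationalStructure (Cfsg.hermForm 7 F q) F₀ 1 P ∧ H = Cfsg.Geo.subfieldSubgroup F₀ P ⊓ (Cfsg.GU 7 F q ⊓ Cfsg.Geo.specialLinear (Fin 7) F)) ∨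
    (Odd q ∧ ∃ (F₀ : Subfield F) (P : Matrix.GeneralLinearGroup (Fin 7) F), Fintype.card F = Nat.card F₀ ^ 2 ∧ Cfsg.Geo.IsFormRationalStructure (Cfsg.hermForm 7 F q) F₀ 1 P ∧ H = Cfsg.Geo.subfieldSubgroup F₀ P ⊓ (Cfsg.GU 7 F q ⊓ Cfsg.Geo.specialLinear (Fin 7) F)) ∨
    (∃ (p : ℕ) (R : Subgroup (Matrix.GeneralLinearGroup (Fin 7) F)), p.Prime ∧ CharP F p ∧ ((q = p ∧ p % 7 = 6) ∨ (q = p ^ 3 ∧ (p % 7 = 3 ∨ p % 7 = 5))) ∧ Cfsg.Geo.IsSymplecticTypeGroup 7 R ∧ Cfsg.Geo.ActsAbsolutelyIrreducibly (Cfsg.Geo.matrixSet R) ∧ R ≤ Cfsg.Geo.similarityGroup (Cfsg.hermForm 7 F q) ∧ Nat.card R = 343 ∧ Nat.card (Subgroup.center R) = 7 ∧ H = Cfsg.Geo.subgroupNormalizer R ⊓ (Cfsg.GU 7 F q ⊓ Cfsg.Geo.specialLinear (Fin 7) F)) ∨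
    Cfsg.Geo.InUnitaryResidualClass H := by
  classical
  have hn : (3 : ℕ) ≤ 7 := by norm_num
  have hex : ¬ ((7 : ℕ) = 3 ∧ q = 2) := by
    rintro ⟨h, -⟩; omega
  rcases Cfsg.Agent.Lib.Helper44.SUMaxGlue.eq_class_or_residual hF (by norm_num) H hH with ⟨M, hM, rfl⟩ | hres
  swap
  · exact Or.inr (Or.inr (Or.inr (Or.inr (Or.inr (Or.inr (Or.inr hres))))))
  unfold Cfsg.Geo.InUnitaryClass Cfsg.Geo.InUnitaryPartialClass at hM
  rcases hM with (⟨W, h0, hW, rfl⟩ | ⟨W, h0, hW, hlt, rfl⟩ | ⟨t, k, D, hD, rfl⟩ | ⟨k, D, hk, hD, hts, rfl⟩ |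
      ⟨F₀, r, P, hr, hrodd, hF₀, hrat, rfl⟩ | ⟨F₀, P, hqodd, hF₀, hrat, rfl⟩ |
      ⟨F₀, P, ζ, hneven, hF₀, hζ, hζq, hrat, hvan, rfl⟩ |
      ⟨r, R, p, e, k, hR, habs, hsim, hrp, hmin, hcase, rfl⟩) | ⟨r, K, hr, hrodd, hK, hac, rfl⟩ |
      ⟨n₁, n₂, e, P, f₁, f₂, hn₁, hn₁₂, h₁, h₂, hT, rfl⟩ | ⟨k, t, e, P, f₁, hk, ht, hne, h₁, hT, rfl⟩
  · exact Or.inl ⟨W, h0, hW, inf_assoc _ _ _⟩
  · exact Or.inr (Or.inl ⟨W, h0, hW, hlt, inf_assoc _ _ _⟩)
  · -- nondegenerate decomposition: t * k = 7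
    obtain ⟨hmul, ht2, hk0⟩ := Cfsg.Agent.Lib.Helper44.SUMaxGlue.mul_eq_of_nondeg D hD
    have hk1 : k = 1 := by
      have hdvd : k ∣ 7 := ⟨t, by rw [← hmul]; ring⟩
      rcases (Nat.dvd_prime (by norm_num : Nat.Prime 7)).mp hdvd with h | h
      · exact h
      · subst h; omega
    have ht7 : t = 7 := by subst hk1; omega
    subst hk1; subst ht7
    exact Or.inr (Or.inr (Or.inl ⟨D, hD, inf_assoc _ _ _⟩))
  · omega
  · exact Or.inr (Or.inr (Or.inr (Or.inr (Or.inl ⟨F₀, r, P, hr, hrodd, hF₀, hrat, inf_assoc _ _ _⟩))))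
  · exact Or.inr (Or.inr (Or.inr (Or.inr (Or.inr (Or.inl ⟨hqodd, F₀, P, hF₀, hrat, inf_assoc _ _ _⟩)))))
  · exact absurd hneven (by decide)
  · -- symplectic type: 7 ^ 2 = r ^ (2 k)
    have hsq := Cfsg.Agent.Lib.Helper44.SUMaxGlue.sq_eq_pow_of_class6 R hR habs
      (hcase.imp id (fun h => ⟨h.1, h.2.2.1, h.2.2.2⟩))
    have hpow := Cfsg.Agent.Lib.Helper44.SUMaxGlue.eq_pow_of_sq_eq hsq
    obtain ⟨hr7, hk1⟩ := (Nat.Prime.pow_eq_iff (by norm_num : Nat.Prime 7)).mp hpow.symm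
    subst hr7; subst hk1
    rcases hcase with ⟨-, hZ, -, hcard⟩ | ⟨h2, -⟩
    swap
    · omega
    obtain ⟨hp, hchar, hcardF, hdvd, hminim⟩ := hmin
    have hmin' : Cfsg.Geo.IsMinimalFieldFor 7 p e F := by
      rw [hZ] at hdvd hminim
      exact ⟨hp, hchar, hcardF, hdvd, hminim⟩
    obtain ⟨-, -, -, he0, hedvd, hpe, hmin7⟩ :=
      Cfsg.Agent.Lib.Helper44.SLMax.minimalField_arith (by norm_num : Nat.Prime 7) hrp hmin'
    obtain ⟨j, hej, hqj⟩ := Cfsg.Agent.Lib.Helper44.SUMaxGlue.exists_half_exponent hp (hcardF.symm.trans hF)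
    have hj : j = 1 ∨ j = 3 := by
      subst hej
      have : 2 * j ∣ 6 := by simpa using hedvd
      have hjle : 2 * j ≤ 6 := Nat.le_of_dvd (by norm_num) this
      have hj3 : j ≤ 3 := by omega
      interval_cases j
      · omega
      · left; rfl
      · exfalso; revert this; decide
      · right; rfl
    refine Or.inr (Or.inr (Or.inr (Or.inr (Or.inr (Or.inr (Or.inl
      ⟨p, R, hp, hchar, ?_, hR, habs, hsim, by rw [hcard]; norm_num, hZ, inf_assoc _ _ _⟩))))))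
    rcases hj with rfl | rfl
    · left
      refine ⟨by simpa using hqj, ?_⟩
      subst hej
      exact Cfsg.Agent.Lib.Helper44.SUMaxGlue.mod7_order_two p hpe (hmin7 1 (by norm_num) (by norm_num))
    · right
      refine ⟨hqj, ?_⟩
      subst hej
      exact Cfsg.Agent.Lib.Helper44.SUMaxGlue.mod7_order_six p hpe (hmin7 1 (by norm_num) (by norm_num))
        (hmin7 2 (by norm_num) (by norm_num)) (hmin7 3 (by norm_num) (by norm_num))
  · -- extension field of odd prime degree r ∣ 7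
    have hdvd := Cfsg.Agent.Lib.Helper63.SLMax.dvd_of_isFieldSubalgebra K hK
    have hr7 : r = 7 := (Nat.prime_dvd_prime_iff_eq hr (by norm_num : Nat.Prime 7)).mp hdvd
    subst hr7
    exact Or.inr (Or.inr (Or.inr (Or.inl ⟨K, hK, hac, inf_assoc _ _ _⟩)))
  · -- tensor product: n₁ n₂ = 7 with 2 ≤ n₁ < n₂ impossible
    exfalso
    have hmul := Cfsg.Agent.Lib.Helper44.SUMaxGlue.eq_mul_of_equiv e
    have hdvd : n₁ ∣ 7 := ⟨n₂, hmul⟩
    rcases (Nat.dvd_prime (by norm_num : Nat.Prime 7)).mp hdvd with h | h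
    · omega
    · subst h
      have : n₂ = 1 := by omega
      omega
  · -- tensor wreath: k ^ t = 7 with k ≥ 3, t ≥ 2 impossible
    exfalso
    have hpow := Cfsg.Agent.Lib.Helper44.SUMaxGlue.eq_pow_of_equiv e
    have : 3 ^ 2 ≤ k ^ t := (Nat.pow_le_pow_left hk 2).trans (Nat.pow_le_pow_right (by omega) ht)
    omega

end Cfsg.Agent.S5811
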