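import Cfsg.Statements.S5820
import Mathlib
import Cfsg.Agent.Lib.Helper44.SUMaxGlue2

set_option autoImplicit false
open Cfsg

namespace Cfsg.Agent.S5820

/-- Every maximal subgroup of SU_8(q) is of one of the listed geometric types or lies in the residual class. Let F be the field with q² elements, f the standard unitary form Σ u_i v_i^q on F^8, and H a maximal subgroup of SU_8(q) (inside GL_8(F)). Then H is the intersection with SU_8(q) of one of: the stabiliser of a non-zero totally isotropic subspace; the stabiliser of a non-degenerate 1-, 2- or 3-space; the stabiliser of a decomposition into eight mutually orthogonal non-degenerate 1-spaces; for q ≥ 3, of a decomposition into four mutually orthogonal non-degenerate 2-spaces; of a decomposition into two orthogonal non-degenerate 4-spaces; of a decomposition into two totally isotropic 4-spaces; for q ≥ 3, the stabiliser of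 a tensor decomposition of f into unitary forms on F^2 and F^4; a subfield group of odd prime index whose F₀-structure carries f; a subfield group of index 2 and symplectic type; for q odd, a subfield group of index 2 and orthogonal type; for q = p ≡ 3 mod 4 prime, the normaliser of an absolutely irreducible symplectic-type 2-group of order 2^8 with centre of order 4 inside the similarity group of f — or else H lies in the residual class of the unitary case. -/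
theorem result {F : Type*} [Field F] [Fintype F] (q : ℕ) (hF : Fintype.card F = q ^ 2) (H : Subgroup (Matrix.GeneralLinearGroup (Fin 8) F)) (hH : Cfsg.Geo.IsMaximalIn (Cfsg.GU 8 F q ⊓ Cfsg.Geo.specialLinear (Fin 8) F) H) :
    (∃ W : Submodule F (Fin 8 → F), W ≠ ⊥ ∧ Cfsg.Geo.IsTotallySingularFor (Cfsg.hermForm 8 F q) W ∧ H = Cfsg.Geo.subspaceStabilizer W ⊓ (Cfsg.GU 8 F q ⊓ Cfsg.Geo.specialLinear (Fin 8) F)) ∨
    (∃ W : Submodule F (Fin 8 → F), W ≠ ⊥ ∧ Cfsg.Geo.IsNondegenerateOn (Cfsg.hermForm 8 F q) W ∧ 2 * Module.finrank F W < 8 ∧ H = Cfsg.Geo.subspaceStabilizer W ⊓ (Cfsg.GU 8 F q ⊓ Cfsg.Geo.specialLinear (Fin 8) F)) ∨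
    (∃ D : Fin 8 → Submodule F (Fin 8 → F), Cfsg.Geo.IsNondegenerateMDecomposition (Cfsg.hermForm 8 F q) 1 D ∧ H = Cfsg.Geo.decompositionStabilizer D ⊓ (Cfsg.GU 8 F q ⊓ Cfsg.Geo.specialLinear (Fin 8) F)) ∨
    (3 ≤ q ∧ ∃ D : Fin 4 → Submodule F (Fin 8 → F), Cfsg.Geo.IsNondegenerateMDecomposition (Cfsg.hermForm 8 F q) 2 D ∧ H = Cfsg.Geo.decompositionStabilizer D ⊓ (Cfsg.GU 8 F q ⊓ Cfsg.Geo.specialLinear (Fin 8) F)) ∨
    (∃ D : Fin 2 → Submodule F (Fin 8 → F), Cfsg.Geo.IsNondegenerateMDecomposition (Cfsg.hermForm 8 F q) 4 D ∧ H = Cfsg.Geo.decompositionStabilizer D ⊓ (Cfsg.GU 8 F q ⊓ Cfsg.Geo.specialLinear (Fin 8) F)) ∨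
    (∃ D : Fin 2 → Submodule F (Fin 8 → F), Cfsg.Geo.IsMDecomposition 4 D ∧ (∀ i, Cfsg.Geo.IsTotallySingularFor (Cfsg.hermForm 8 F q) (D i)) ∧ H = Cfsg.Geo.decompositionStabilizer D ⊓ (Cfsg.GU 8 F q ⊓ Cfsg.Geo.specialLinear (Fin 8) F)) ∨
    (3 ≤ q ∧ ∃ (e : Fin 8 ≃ Fin 2 × Fin 4) (P : Matrix.GeneralLinearGroup (Fin 8) F) (f₁ : (Fin 2 → F) → (Fin 2 → F) → F) (f₂ : (Fin 4 → F) → (Fin 4 → F) → F), Cfsg.Geo.IsUnitaryFormPow q f₁ ∧ Cfsg.Geo.IsUnitaryFormPow q f₂ ∧ Cfsg.Geo.IsTensorFormStructure (fun x : F => x ^ q) (Cfsg.hermForm 8 F q) f₁ f₂ e P ∧ H = Cfsg.Geo.tensorProductSubgroup 2 4 e P ⊓ (Cfsg.GU 8 F q ⊓ Cfsg.Geo.specialLinear (Fin 8) F)) ∨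
    (∃ (F₀ : Subfield F) (r : ℕ) (P : Matrix.GeneralLinearGroup (Fin 8) F), r.Prime ∧ Odd r ∧ Fintype.card F = Nat.card F₀ ^ r ∧ Cfsg.Geo.IsFormRationalStructure (Cfsg.hermForm 8 F q) F₀ 1 P ∧ H = Cfsg.Geo.subfieldSubgroup F₀ P ⊓ (Cfsg.GU 8 F q ⊓ Cfsg.Geo.specialLinear (Fin 8) F)) ∨
    (∃ (F₀ : Subfield F) (P : Matrix.GeneralLinearGroup (Fin 8) F) (ζ : F), Fintype.card F = Nat.card F₀ ^ 2 ∧ ζ ≠ 0 ∧ ζ + ζ ^ q = 0 ∧ Cfsg.Geo.IsFormRationalStructure (Cfsg.hermForm 8 F q) F₀ ζ P ∧ (∀ u : Fin 8 → F, (∀ i, u i ∈ F₀) → (Cfsg.hermForm 8 F q) (Matrix.mulVec (P : Matrix (Fin 8) (Fin 8) F) u) (Matrix.mulVec (P : Matrix (Fin 8) (Fin 8) F) u) = 0) ∧ H = Cfsg.Geo.subfieldSubgroup F₀ P ⊓ (Cfsg.GU 8 F q ⊓ Cfsg.Geo.specialLinear (Fin 8) F)) ∨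
    (Odd q ∧ ∃ (F₀ : Subfield F) (P : Matrix.GeneralLinearGroup (Fin 8) F), Fintype.card F = Nat.card F₀ ^ 2 ∧ Cfsg.Geo.IsFormRationalStructure (Cfsg.hermForm 8 F q) F₀ 1 P ∧ H = Cfsg.Geo.subfieldSubgroup F₀ P ⊓ (Cfsg.GU 8 F q ⊓ Cfsg.Geo.specialLinear (Fin 8) F)) ∨
    (∃ (p : ℕ) (R : Subgroup (Matrix.GeneralLinearGroup (Fin 8) F)), p.Prime ∧ q = p ∧ p % 4 = 3 ∧ Cfsg.Geo.IsSymplecticTypeGroup 2 R ∧ Cfsg.Geo.ActsAbsolutelyIrreducibly (Cfsg.Geo.matrixSet R) ∧ R ≤ Cfsg.Geo.similarityGroup (Cfsg.hermForm 8 F q) ∧ Nat.card R = 256 ∧ Nat.card (Subgroup.center R) = 4 ∧ H = Cfsg.Geo.subgroupNormalizer R ⊓ (Cfsg.GU 8 F q ⊓ Cfsg.Geo.specialLinear (Fin 8) F)) ∨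
    Cfsg.Geo.InUnitaryResidualClass H := by
  classical
  have hn : (3 : ℕ) ≤ 8 := by norm_num
  have hex : ¬ ((8 : ℕ) = 3 ∧ q = 2) := by
    rintro ⟨h, -⟩; omega
  rcases Cfsg.Agent.Lib.Helper44.SUMaxGlue.eq_class_or_residual hF (by norm_num) H hH with ⟨M, hM, rfl⟩ | hres
  swap
  · exact Or.inr (Or.inr (Or.inr (Or.inr (Or.inr (Or.inr (Or.inr (Or.inr (Or.inr (Or.inr (Or.inr hres))))))))))
  unfold Cfsg.Geo.InUnitaryClass Cfsg.Geo.InUnitaryPartialClass at hM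
  rcases hM with (⟨W, h0, hW, rfl⟩ | ⟨W, h0, hW, hlt, rfl⟩ | ⟨t, k, D, hD, rfl⟩ | ⟨k, D, hk, hD, hts, rfl⟩ |
      ⟨F₀, r, P, hr, hrodd, hF₀, hrat, rfl⟩ | ⟨F₀, P, hqodd, hF₀, hrat, rfl⟩ |
      ⟨F₀, P, ζ, hneven, hF₀, hζ, hζq, hrat, hvan, rfl⟩ |
      ⟨r, R, p, e, k, hR, habs, hsim, hrp, hmin, hcase, rfl⟩) | ⟨r, K, hr, hrodd, hK, hac, rfl⟩ |
      ⟨n₁, n₂, e, P, f₁, f₂, hn₁, hn₁₂, h₁, h₂, hT, rfl⟩ | ⟨k, t, e, P, f₁, hk, ht, hne, h₁, hT, rfl⟩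
  · exact Or.inl ⟨W, h0, hW, inf_assoc _ _ _⟩
  · exact Or.inr (Or.inl ⟨W, h0, hW, hlt, inf_assoc _ _ _⟩)
  · -- nondegenerate decomposition: t * k = 8
    obtain ⟨hmul, ht2, hk0⟩ := Cfsg.Agent.Lib.Helper44.SUMaxGlue.mul_eq_of_nondeg D hD
    have hkle : k ≤ 4 := by
      by_contra h
      have : 2 * 5 ≤ t * k := Nat.mul_le_mul ht2 (by omega)
      omega
    interval_cases k
    · have ht8 : t = 8 := by omega
      subst ht8
      exact Or.inr (Or.inr (Or.inl ⟨D, hD, inf_assoc _ _ _⟩))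
    · have ht4 : t = 4 := by omega
      subst ht4
      by_cases hq : 3 ≤ q
      · exact Or.inr (Or.inr (Or.inr (Or.inl ⟨hq, D, hD, inf_assoc _ _ _⟩)))
      · have hq2 := Cfsg.Agent.Lib.Helper44.SUMaxGlue.q_eq_two_of_lt_three hF hq
        obtain ⟨t', D', hD', hle⟩ := Cfsg.Agent.Lib.Helper44.SUMaxKeys.nondeg_planes_le_lines_of_two hF hq2 D hD
        have := Cfsg.Agent.Lib.Helper44.SUMaxGlue.eq_inf_of_le hH rfl hle
          (Cfsg.Agent.Lib.Helper44.SUMaxKeys.su_not_le_decompositionStabilizer hF hn hex D' hD'.decomp)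
        have ht' : t' = 8 := by
          have := (Cfsg.Agent.Lib.Helper44.SUMaxGlue.mul_eq_of_nondeg D' hD').1
          omega
        subst ht'
        exact Or.inr (Or.inr (Or.inl ⟨D', hD', this⟩))
    · omega
    · have ht2' : t = 2 := by omega
      subst ht2'
      exact Or.inr (Or.inr (Or.inr (Or.inr (Or.inl ⟨D, hD, inf_assoc _ _ _⟩))))
  · have hk4 : k = 4 := by omega
    subst hk4
    exact Or.inr (Or.inr (Or.inr (Or.inr (Or.inr (Or.inl ⟨D, hD, hts, inf_assoc _ _ _⟩)))))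
  · exact Or.inr (Or.inr (Or.inr (Or.inr (Or.inr (Or.inr (Or.inr (Or.inl
      ⟨F₀, r, P, hr, hrodd, hF₀, hrat, inf_assoc _ _ _⟩)))))))
  · exact Or.inr (Or.inr (Or.inr (Or.inr (Or.inr (Or.inr (Or.inr (Or.inr (Or.inr (Or.inl
      ⟨hqodd, F₀, P, hF₀, hrat, inf_assoc _ _ _⟩)))))))))
  · exact Or.inr (Or.inr (Or.inr (Or.inr (Or.inr (Or.inr (Or.inr (Or.inr (Or.inl
      ⟨F₀, P, ζ, hF₀, hζ, hζq, hrat, hvan, inf_assoc _ _ _⟩))))))))
  · -- symplectic type: 8 ^ 2 = r ^ (2 k)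
    have hsq := Cfsg.Agent.Lib.Helper44.SUMaxGlue.sq_eq_pow_of_class6 R hR habs
      (hcase.imp id (fun h => ⟨h.1, h.2.2.1, h.2.2.2⟩))
    have hpow := Cfsg.Agent.Lib.Helper44.SUMaxGlue.eq_pow_of_sq_eq hsq
    obtain ⟨hr2, hk3⟩ := Cfsg.Agent.Lib.Helper44.SUMaxGlue.prime_pow_eq_eight hR.prime hpow
    subst hr2; subst hk3
    rcases hcase with ⟨hodd, -⟩ | ⟨-, he2, hZ, hcard⟩
    · exact absurd hodd (by decide)
    subst he2
    obtain ⟨hp, hchar, hcardF, hdvd, hminim⟩ := hmin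
    rw [hZ] at hdvd hminim
    obtain ⟨j, hej, hqj⟩ := Cfsg.Agent.Lib.Helper44.SUMaxGlue.exists_half_exponent hp (hcardF.symm.trans hF)
    have hj : j = 1 := by omega
    subst hj
    have hqp : q = p := by simpa using hqj
    have hp3 := Cfsg.Agent.Lib.Helper44.SUMaxGlue.mod4_of_minimal hdvd (hminim 1 (by norm_num) (by norm_num))
    exact Or.inr (Or.inr (Or.inr (Or.inr (Or.inr (Or.inr (Or.inr (Or.inr (Or.inr (Or.inr (Or.inl
      ⟨p, R, hp, hqp, hp3, hR, habs, hsim, by rw [hcard]; norm_num, hZ, inf_assoc _ _ _⟩))))))))))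
  · -- extension field of odd prime degree r ∣ 8: impossible
    exfalso
    have hdvd := Cfsg.Agent.Lib.Helper63.SLMax.dvd_of_isFieldSubalgebra K hK
    have hr2 : r = 2 := by
      have : r ∣ 2 ^ 3 := by simpa using hdvd
      exact (Nat.prime_dvd_prime_iff_eq hr Nat.prime_two).mp (hr.dvd_of_dvd_pow this)
    subst hr2
    exact absurd hrodd (by decide)
  · -- tensor product: n₁ n₂ = 8 with 2 ≤ n₁ < n₂: (2, 4)
    have hmul := Cfsg.Agent.Lib.Helper44.SUMaxGlue.eq_mul_of_equiv e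
    have hle : n₁ ≤ 2 := by
      by_contra h
      have : 3 * 4 ≤ n₁ * n₂ := Nat.mul_le_mul (by omega) (by omega)
      omega
    have hn₁2 : n₁ = 2 := by omega
    subst hn₁2
    have hn₂4 : n₂ = 4 := by omega
    subst hn₂4
    by_cases hq : 3 ≤ q
    · exact Or.inr (Or.inr (Or.inr (Or.inr (Or.inr (Or.inr (Or.inl ⟨hq, e, P, f₁, f₂, h₁, h₂, hT, inf_assoc _ _ _⟩))))))
    · have hq2 := Cfsg.Agent.Lib.Helper44.SUMaxGlue.q_eq_two_of_lt_three hF hq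
      obtain ⟨D, hD, hle⟩ := Cfsg.Agent.Lib.Helper44.SUMaxKeys.tensor_two_le_decomposition_of_two hF hq2
        (by norm_num) e P f₁ f₂ h₁ h₂ hT
      have := Cfsg.Agent.Lib.Helper44.SUMaxGlue.eq_inf_of_le hH rfl hle
        (Cfsg.Agent.Lib.Helper44.SUMaxKeys.su_not_le_decompositionStabilizer hF hn hex D hD.decomp)
      exact Or.inr (Or.inr (Or.inr (Or.inr (Or.inl ⟨D, hD, this⟩))))
  · -- tensor wreath: k ^ t = 8 with k ≥ 3, t ≥ 2 impossible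
    exfalso
    have hpow := Cfsg.Agent.Lib.Helper44.SUMaxGlue.eq_pow_of_equiv e
    have : 3 ^ 2 ≤ k ^ t := (Nat.pow_le_pow_left hk 2).trans (Nat.pow_le_pow_right (by omega) ht)
    omega

end Cfsg.Agent.S5820
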