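import Cfsg.Statements.S5823
import Mathlib
import Cfsg.Agent.Lib.Helper44.SpMaxGlue2
import Cfsg.Agent.Lib.Helper44.SpMaxKeys2

set_option autoImplicit false
open Cfsg

namespace Cfsg.Agent.S5823

/-- Every maximal subgroup of Sp_8(q) is of one of the listed geometric types or lies in the residual class. Let F be a finite field with q elements, f the standard alternating form on F^8 (coordinates Fin 4 ⊕ Fin 4), and H a maximal subgroup of Sp_8(F) (inside GL_8(F)). Then H is the intersection with Sp_8(F) of one of: the stabiliser of a non-zero totally isotropic subspace; the stabiliser of a non-degenerate 2-space; for q ≥ 3, the stabiliser of a decomposition into four mutually orthogonal non-degenerate 2-spaces; of a decomposition into two orthogonal non-degenerate 4-spaces; for q odd, of a decomposition into two totally isotropic 4-spaces; the normaliser of a degree-2 subfield K, self-adjoint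 with f(k v, v) = 0; for q odd, the normaliser of a degree-2 subfield closed under adjoints but not self-adjoint; for q odd, the stabiliser of a tensor decomposition of f into an alternating form on F^2 and a minus-type symmetric form on F^4; a subfield group (|F| = |F₀|^r, r prime) whose F₀-structure carries a non-zero multiple of f; for q = p an odd prime, the normaliser of an absolutely irreducible extraspecial group 2_-^(1+6) of exponent 4 inside the similarity group of f; for q odd, q ≥ 5, the stabiliser of a tensor decomposition of f as a third tensor power of an alternating form on F^2; for q even, the similarity group of a non-degenerate quadratic form polarising to f — or else H lies in the residual class of the symplectic case. -/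
theorem result {F : Type*} [Field F] [Fintype F] (H : Subgroup (Matrix.GeneralLinearGroup (Fin 4 ⊕ Fin 4) F)) (hH : Cfsg.Geo.IsMaximalIn (Cfsg.spGL 4 F) H) :
    (∃ W : Submodule F (Fin 4 ⊕ Fin 4 → F), W ≠ ⊥ ∧ Cfsg.Geo.IsTotallySingularFor (Cfsg.sympForm 4 F) W ∧ H = Cfsg.Geo.subspaceStabilizer W ⊓ Cfsg.spGL 4 F) ∨
    (∃ W : Submodule F (Fin 4 ⊕ Fin 4 → F), W ≠ ⊥ ∧ Cfsg.Geo.IsNondegenerateOn (Cfsg.sympForm 4 F) W ∧ Module.finrank F W < 4 ∧ H = Cfsg.Geo.subspaceStabilizer W ⊓ Cfsg.spGL 4 F) ∨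
    (3 ≤ Fintype.card F ∧ ∃ D : Fin 4 → Submodule F (Fin 4 ⊕ Fin 4 → F), Cfsg.Geo.IsNondegenerateMDecomposition (Cfsg.sympForm 4 F) 2 D ∧ H = Cfsg.Geo.decompositionStabilizer D ⊓ Cfsg.spGL 4 F) ∨
    (∃ D : Fin 2 → Submodule F (Fin 4 ⊕ Fin 4 → F), Cfsg.Geo.IsNondegenerateMDecomposition (Cfsg.sympForm 4 F) 4 D ∧ H = Cfsg.Geo.decompositionStabilizer D ⊓ Cfsg.spGL 4 F) ∨
    (Odd (Fintype.card F) ∧ ∃ D : Fin 2 → Submodule F (Fin 4 ⊕ Fin 4 → F), Cfsg.Geo.IsMDecomposition 4 D ∧ (∀ i, Cfsg.Geo.IsTotallySingularFor (Cfsg.sympForm 4 F) (D i)) ∧ H = Cfsg.Geo.decompositionStabilizer D ⊓ Cfsg.spGL 4 F) ∨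
    (∃ K : Subalgebra F (Matrix (Fin 4 ⊕ Fin 4) (Fin 4 ⊕ Fin 4) F), Cfsg.Geo.IsFieldSubalgebra 2 K ∧ Cfsg.Geo.IsSelfAdjointFor (Cfsg.sympForm 4 F) K ∧ (∀ k ∈ K, ∀ v : (Fin 4 ⊕ Fin 4 → F), (Cfsg.sympForm 4 F) (Matrix.mulVec k v) v = 0) ∧ H = Cfsg.Geo.subalgebraNormalizer K ⊓ Cfsg.spGL 4 F) ∨
    (Odd (Fintype.card F) ∧ ∃ K : Subalgebra F (Matrix (Fin 4 ⊕ Fin 4) (Fin 4 ⊕ Fin 4) F), Cfsg.Geo.IsFieldSubalgebra 2 K ∧ Cfsg.Geo.IsAdjointClosedFor (Cfsg.sympForm 4 F) K ∧ ¬ Cfsg.Geo.IsSelfAdjointFor (Cfsg.sympForm 4 F) K ∧ H = Cfsg.Geo.subalgebraNormalizer K ⊓ Cfsg.spGL 4 F) ∨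
    (Odd (Fintype.card F) ∧ ∃ (e : (Fin 4 ⊕ Fin 4) ≃ Fin 2 × Fin 4) (P : Matrix.GeneralLinearGroup (Fin 4 ⊕ Fin 4) F) (f₁ : (Fin 2 → F) → (Fin 2 → F) → F) (f₂ : (Fin 4 → F) → (Fin 4 → F) → F), Cfsg.Geo.IsSymplecticForm f₁ ∧ Cfsg.Geo.IsSymmetricForm f₂ ∧ ¬ Cfsg.Geo.IsPlusTypeOn (fun v : Fin 4 → F => f₂ v v) ⊤ ∧ Cfsg.Geo.IsTensorFormStructure id (Cfsg.sympForm 4 F) f₁ f₂ e P ∧ H = Cfsg.Geo.tensorProductSubgroup 2 4 e P ⊓ Cfsg.spGL 4 F) ∨
    (∃ (F₀ : Subfield F) (r : ℕ) (P : Matrix.GeneralLinearGroup (Fin 4 ⊕ Fin 4) F) (ζ : F), r.Prime ∧ Fintype.card F = Nat.card F₀ ^ r ∧ ζ ≠ 0 ∧ Cfsg.Geo.IsFormRationalStructure (Cfsg.sympForm 4 F) F₀ ζ P ∧ H = Cfsg.Geo.subfieldSubgroup F₀ P ⊓ Cfsg.spGL 4 F) ∨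
    (∃ (p : ℕ) (R : Subgroup (Matrix.GeneralLinearGroup (Fin 4 ⊕ Fin 4) F)), p.Prime ∧ Odd p ∧ Fintype.card F = p ∧ Cfsg.Geo.IsSymplecticTypeGroup 2 R ∧ Cfsg.Geo.ActsAbsolutelyIrreducibly (Cfsg.Geo.matrixSet R) ∧ R ≤ Cfsg.Geo.similarityGroup (Cfsg.sympForm 4 F) ∧ Nat.card R = 128 ∧ Nat.card (Subgroup.center R) = 2 ∧ Cfsg.Geo.IsOfMinusType 3 R ∧ H = Cfsg.Geo.subgroupNormalizer R ⊓ Cfsg.spGL 4 F) ∨
    (Odd (Fintype.card F) ∧ 5 ≤ Fintype.card F ∧ ∃ (e : (Fin 4 ⊕ Fin 4) ≃ (Fin 3 → Fin 2)) (P : Matrix.GeneralLinearGroup (Fin 4 ⊕ Fin 4) F) (f₁ : (Fin 2 → F) → (Fin 2 → F) → F), Cfsg.Geo.IsSymplecticForm f₁ ∧ Cfsg.Geo.IsTensorPowerFormStructure id (Cfsg.sympForm 4 F) f₁ e P ∧ H = Cfsg.Geo.tensorWreathSubgroup 2 3 e P ⊓ Cfsg.spGL 4 F) ∨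
    (¬ Odd (Fintype.card F) ∧ ∃ Q : (Fin 4 ⊕ Fin 4 → F) → F, Cfsg.Geo.IsNondegenerateQuadraticForm Q ∧ (∀ u v : (Fin 4 ⊕ Fin 4 → F), QuadraticMap.polar Q u v = (Cfsg.sympForm 4 F) u v) ∧ H = Cfsg.Geo.quadSimilarityGroup Q ⊓ Cfsg.spGL 4 F) ∨
    Cfsg.Geo.InSymplecticResidualClass H := by
  classical
  have hm : (2 : ℕ) ≤ 4 := by norm_num
  have hex : ¬ ((4 : ℕ) = 2 ∧ Fintype.card F = 2) := by
    rintro ⟨h, -⟩; omega
  rcases Cfsg.Agent.Lib.Helper44.SpMaxGlue.eq_class_or_residual hm hex H hH with ⟨M, hM, rfl⟩ | hres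
  swap
  · exact Or.inr (Or.inr (Or.inr (Or.inr (Or.inr (Or.inr (Or.inr (Or.inr (Or.inr (Or.inr (Or.inr (Or.inr hres)))))))))))
  unfold Cfsg.Geo.InSymplecticClass Cfsg.Geo.InSymplecticPartialClass at hM
  rcases hM with (⟨W, h0, hW, rfl⟩ | ⟨W, h0, hW, hlt, rfl⟩ | ⟨t, k, D, hD, rfl⟩ | ⟨D, hodd, hD, hts, rfl⟩ |
      ⟨F₀, r, P, ζ, hr, hF, hζ, hrat, rfl⟩ | ⟨R, p, k, hR, habs, hsim, hp, hpodd, hFp, hcard, hZ, hminus, rfl⟩ |
      ⟨Q, heven', hQ, hpol, rfl⟩) | ⟨r, K, hr, hK, hsa, halt, rfl⟩ | ⟨K, hodd, hK, hac, hnsa, rfl⟩ |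
      ⟨n₁, n₂, e, P, f₁, f₂, hodd, hn₂, h₁, h₂, hT, rfl⟩ | ⟨k, t, e, P, f₁, hodd, hto, ht, hne, h₁, hT, rfl⟩
  · exact Or.inl ⟨W, h0, hW, rfl⟩
  · exact Or.inr (Or.inl ⟨W, h0, hW, hlt, rfl⟩)
  · -- nondegenerate decomposition: t * j = 4, k = 2 j
    obtain ⟨ht2, j, hj0, hkj, htj⟩ := Cfsg.Agent.Lib.Helper44.SpMaxGlue.nondeg_decomposition_shape D hD
    have hj2 : j ≤ 2 := by
      by_contra h
      have : 2 * 3 ≤ t * j := Nat.mul_le_mul ht2 (by omega)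
      omega
    have hj12 : j = 1 ∨ j = 2 := by omega
    rcases hj12 with hj1 | hj2'
    · have hk : k = 2 := by omega
      have ht : t = 4 := by subst hj1; omega
      subst hk; subst ht
      by_cases hq : 3 ≤ Fintype.card F
      · exact Or.inr (Or.inr (Or.inl ⟨hq, D, hD, rfl⟩))
      · have hq2 := Cfsg.Agent.Lib.Helper44.SpMaxGlue.card_two_of_lt_three hq
        obtain ⟨Q, hQ, hpol, hle⟩ :=
          Cfsg.Agent.Lib.Helper44.SpMaxKeys.nondeg_planes_le_quadSimilarityGroup_of_card_two hq2 D hD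
        have := Cfsg.Agent.Lib.Helper44.SpMaxGlue.eq_inf_of_le hH rfl hle
          (Cfsg.Agent.Lib.Helper44.SpMaxKeys.sp_not_le_quadSimilarityGroup hm Q hQ hpol)
        exact Or.inr (Or.inr (Or.inr (Or.inr (Or.inr (Or.inr (Or.inr (Or.inr (Or.inr (Or.inr (Or.inr (Or.inl
          ⟨Cfsg.Agent.Lib.Helper44.SpMaxGlue.not_odd_of_card_two hq2, Q, hQ, hpol, this⟩)))))))))))
    · have hk : k = 4 := by omega
      have ht : t = 2 := by subst hj2'; omega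
      subst hk; subst ht
      exact Or.inr (Or.inr (Or.inr (Or.inl ⟨D, hD, rfl⟩)))
  · exact Or.inr (Or.inr (Or.inr (Or.inr (Or.inl ⟨hodd, D, hD, hts, rfl⟩))))
  · exact Or.inr (Or.inr (Or.inr (Or.inr (Or.inr (Or.inr (Or.inr (Or.inr (Or.inl ⟨F₀, r, P, ζ, hr, hF, hζ, hrat, rfl⟩))))))))
  · -- symplectic type: 64 = 2 ^ (2 k), so k = 3
    have h := Cfsg.Agent.Lib.Helper44.SpMaxKeys.card_sq_eq_of_symplecticType (hFp ▸ hpodd) R hR habs k hcard hZ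
    have hk : k = 3 := by
      have h64 : (2 : ℕ) ^ 6 = 2 ^ (2 * k) := by simpa using h
      have := Nat.pow_right_injective (le_refl 2) h64
      omega
    subst hk
    exact Or.inr (Or.inr (Or.inr (Or.inr (Or.inr (Or.inr (Or.inr (Or.inr (Or.inr (Or.inl
      ⟨p, R, hp, hpodd, hFp, hR, habs, hsim, by simpa using hcard, hZ, hminus, rfl⟩)))))))))
  · exact Or.inr (Or.inr (Or.inr (Or.inr (Or.inr (Or.inr (Or.inr (Or.inr (Or.inr (Or.inr (Or.inr (Or.inl ⟨heven', Q, hQ, hpol, rfl⟩)))))))))))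
  · -- extension field of prime degree r ∣ 4
    have hdvd := Cfsg.Agent.Lib.Helper44.SpMaxKeys.dvd_of_isSelfAdjointFor K hK hsa halt
    have hr2 : r = 2 := by
      have : r ∣ 2 ^ 2 := by simpa using hdvd
      exact (Nat.prime_dvd_prime_iff_eq hr Nat.prime_two).mp (hr.dvd_of_dvd_pow this)
    subst hr2
    exact Or.inr (Or.inr (Or.inr (Or.inr (Or.inr (Or.inl ⟨K, hK, hsa, halt, rfl⟩)))))
  · exact Or.inr (Or.inr (Or.inr (Or.inr (Or.inr (Or.inr (Or.inl ⟨hodd, K, hK, hac, hnsa, rfl⟩))))))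
  · -- tensor product: n₁ even, n₂ ≥ 3, n₁ n₂ = 8, so (n₁, n₂) = (2, 4)
    have hmul := Cfsg.Agent.Lib.Helper44.SpMaxGlue.two_mul_eq_mul_of_equiv e
    obtain ⟨j, hj⟩ := Cfsg.Agent.Lib.Helper44.SpMaxKeys.even_of_isSymplecticForm f₁ h₁
    have hjn : j * n₂ = 4 := by subst hj; rw [Nat.add_mul] at hmul; omega
    have hj1 : j = 1 := by
      rcases Nat.eq_zero_or_pos j with rfl | hjpos
      · simp at hjn
      · by_contra h
        have : 2 * 3 ≤ j * n₂ := Nat.mul_le_mul (by omega) hn₂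
        omega
    have hn₁ : n₁ = 2 := by omega
    have hn₂' : n₂ = 4 := by subst hj1; omega
    subst hn₁; subst hn₂'
    by_cases hplus : Cfsg.Geo.IsPlusTypeOn (fun v : Fin 4 → F => f₂ v v) ⊤
    · exfalso
      exact Cfsg.Agent.Lib.Helper44.SpMaxKeys2.tensor_two_four_plus_not_maximal hodd e P f₁ f₂ h₁ h₂ hplus hT hH
    · exact Or.inr (Or.inr (Or.inr (Or.inr (Or.inr (Or.inr (Or.inr (Or.inl ⟨hodd, e, P, f₁, f₂, h₁, h₂, hplus, hT, rfl⟩)))))))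
  · -- tensor wreath: k ^ t = 8 with t odd, t ≥ 3: k = 2, t = 3
    have hpow := Cfsg.Agent.Lib.Helper44.SpMaxGlue.two_mul_eq_pow_of_equiv e
    have hk2 : k = 2 ∧ t = 3 := by
      rcases Nat.lt_or_ge k 2 with hk | hk
      · exfalso
        interval_cases k
        · rw [zero_pow (by omega)] at hpow; omega
        · rw [one_pow] at hpow; omega
      · have h1 : k ^ 3 ≤ k ^ t := Nat.pow_le_pow_right (by omega) ht
        rcases Nat.lt_or_ge k 3 with hk3 | hk3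
        · have hk2 : k = 2 := by omega
          subst hk2
          refine ⟨rfl, ?_⟩
          have h8 : (2 : ℕ) ^ 3 = 2 ^ t := by rw [← hpow]; norm_num
          exact (Nat.pow_right_injective (le_refl 2) h8).symm
        · exfalso
          have : 3 ^ 3 ≤ k ^ 3 := Nat.pow_le_pow_left hk3 3
          omega
    obtain ⟨hk2', ht3⟩ := hk2
    subst hk2'; subst ht3
    have hq5 : 5 ≤ Fintype.card F := by
      by_contra hq
      have hq3 := Cfsg.Agent.Lib.Helper44.SpMaxGlue.card_three_of_odd_lt_five hodd hq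
      exact hne ⟨hq3, rfl⟩
    exact Or.inr (Or.inr (Or.inr (Or.inr (Or.inr (Or.inr (Or.inr (Or.inr (Or.inr (Or.inr (Or.inl
      ⟨hodd, hq5, e, P, f₁, h₁, hT, rfl⟩))))))))))

end Cfsg.Agent.S5823
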