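import Cfsg.Statements.S5832
import Mathlib
import Cfsg.Agent.Lib.Helper44.SUMaxGlue2

set_option autoImplicit false
open Cfsg

namespace Cfsg.Agent.S5832

/-- Every maximal subgroup of SU_9(q) is of one of the listed geometric types or lies in the residual class. Let F be the field with q² elements, f the standard unitary form Σ u_i v_i^q on F^9, and H a maximal subgroup of SU_9(q) (inside GL_9(F)). Then H is the intersection with SU_9(q) of one of: the stabiliser of a non-zero totally isotropic subspace; the stabiliser of a non-degenerate 1-, 2-, 3- or 4-space; the stabiliser of a decomposition into nine mutually orthogonal non-degenerate 1-spaces; of a decomposition into three mutually orthogonal non-degenerate 3-spaces; the normaliser of an adjoint-closed degree-3 subfield of the matrix algebra; a subfield group of odd prime index whose F₀-structure carries f; for q odd, a subfield group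 of index 2 whose F₀-structure carries f; for q = p ≡ 2 mod 3 prime, the normaliser of an absolutely irreducible extraspecial group 3_+^(1+4) of exponent 3 inside the similarity group of f; for q ≥ 3, the stabiliser of a tensor decomposition of f as a tensor square of a unitary form on F^3 — or else H lies in the residual class of the unitary case. -/
theorem result {F : Type*} [Field F] [Fintype F] (q : ℕ) (hF : Fintype.card F = q ^ 2) (H : Subgroup (Matrix.GeneralLinearGroup (Fin 9) F)) (hH : Cfsg.Geo.IsMaximalIn (Cfsg.GU 9 F q ⊓ Cfsg.Geo.specialLinear (Fin 9) F) H) :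
    (∃ W : Submodule F (Fin 9 → F), W ≠ ⊥ ∧ Cfsg.Geo.IsTotallySingularFor (Cfsg.hermForm 9 F q) W ∧ H = Cfsg.Geo.subspaceStabilizer W ⊓ (Cfsg.GU 9 F q ⊓ Cfsg.Geo.specialLinear (Fin 9) F)) ∨
    (∃ W : Submodule F (Fin 9 → F), W ≠ ⊥ ∧ Cfsg.Geo.IsNondegenerateOn (Cfsg.hermForm 9 F q) W ∧ 2 * Module.finrank F W < 9 ∧ H = Cfsg.Geo.subspaceStabilizer W ⊓ (Cfsg.GU 9 F q ⊓ Cfsg.Geo.specialLinear (Fin 9) F)) ∨
    (∃ D : Fin 9 → Submodule F (Fin 9 → F), Cfsg.Geo.IsNondegenerateMDecomposition (Cfsg.hermForm 9 F q) 1 D ∧ H = Cfsg.Geo.decompositionStabilizer D ⊓ (Cfsg.GU 9 F q ⊓ Cfsg.Geo.specialLinear (Fin 9) F)) ∨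
    (∃ D : Fin 3 → Submodule F (Fin 9 → F), Cfsg.Geo.IsNondegenerateMDecomposition (Cfsg.hermForm 9 F q) 3 D ∧ H = Cfsg.Geo.decompositionStabilizer D ⊓ (Cfsg.GU 9 F q ⊓ Cfsg.Geo.specialLinear (Fin 9) F)) ∨
    (∃ K : Subalgebra F (Matrix (Fin 9) (Fin 9) F), Cfsg.Geo.IsFieldSubalgebra 3 K ∧ Cfsg.Geo.IsAdjointClosedFor (Cfsg.hermForm 9 F q) K ∧ H = Cfsg.Geo.subalgebraNormalizer K ⊓ (Cfsg.GU 9 F q ⊓ Cfsg.Geo.specialLinear (Fin 9) F)) ∨
    (∃ (F₀ : Subfield F) (r : ℕ) (P : Matrix.GeneralLinearGroup (Fin 9) F), r.Prime ∧ Odd r ∧ Fintype.card F = Nat.card F₀ ^ r ∧ Cfsg.Geo.IsFormRationalStructure (Cfsg.hermForm 9 F q) F₀ 1 P ∧ H = Cfsg.Geo.subfieldSubgroup F₀ P ⊓ (Cfsg.GU 9 F q ⊓ Cfsg.Geo.specialLinear (Fin 9) F)) ∨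
    (Odd q ∧ ∃ (F₀ : Subfield F) (P : Matrix.GeneralLinearGroup (Fin 9) F), Fintype.card F = Nat.card F₀ ^ 2 ∧ Cfsg.Geo.IsFormRationalStructure (Cfsg.hermForm 9 F q) F₀ 1 P ∧ H = Cfsg.Geo.subfieldSubgroup F₀ P ⊓ (Cfsg.GU 9 F q ⊓ Cfsg.Geo.specialLinear (Fin 9) F)) ∨
    (∃ (p : ℕ) (R : Subgroup (Matrix.GeneralLinearGroup (Fin 9) F)), p.Prime ∧ q = p ∧ p % 3 = 2 ∧ Cfsg.Geo.IsSymplecticTypeGroup 3 R ∧ Cfsg.Geo.ActsAbsolutelyIrreducibly (Cfsg.Geo.matrixSet R) ∧ R ≤ Cfsg.Geo.similarityGroup (Cfsg.hermForm 9 F q) ∧ Nat.card R = 243 ∧ Nat.card (Subgroup.center R) = 3 ∧ H = Cfsg.Geo.subgroupNormalizer R ⊓ (Cfsg.GU 9 F q ⊓ Cfsg.Geo.specialLinear (Fin 9) F)) ∨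
    (3 ≤ q ∧ ∃ (e : Fin 9 ≃ (Fin 2 → Fin 3)) (P : Matrix.GeneralLinearGroup (Fin 9) F) (f₁ : (Fin 3 → F) → (Fin 3 → F) → F), Cfsg.Geo.IsUnitaryFormPow q f₁ ∧ Cfsg.Geo.IsTensorPowerFormStructure (fun x : F => x ^ q) (Cfsg.hermForm 9 F q) f₁ e P ∧ H = Cfsg.Geo.tensorWreathSubgroup 3 2 e P ⊓ (Cfsg.GU 9 F q ⊓ Cfsg.Geo.specialLinear (Fin 9) F)) ∨
    Cfsg.Geo.InUnitaryResidualClass H := by
  classical
  have hn : (3 : ℕ) ≤ 9 := by norm_num
  have hex : ¬ ((9 : ℕ) = 3 ∧ q = 2) := by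
    rintro ⟨h, -⟩; omega
  rcases Cfsg.Agent.Lib.Helper44.SUMaxGlue.eq_class_or_residual hF (by norm_num) H hH with ⟨M, hM, rfl⟩ | hres
  swap
  · exact Or.inr (Or.inr (Or.inr (Or.inr (Or.inr (Or.inr (Or.inr (Or.inr (Or.inr hres))))))))
  unfold Cfsg.Geo.InUnitaryClass Cfsg.Geo.InUnitaryPartialClass at hM
  rcases hM with (⟨W, h0, hW, rfl⟩ | ⟨W, h0, hW, hlt, rfl⟩ | ⟨t, k, D, hD, rfl⟩ | ⟨k, D, hk, hD, hts, rfl⟩ |
      ⟨F₀, r, P, hr, hrodd, hF₀, hrat, rfl⟩ | ⟨F₀, P, hqodd, hF₀, hrat, rfl⟩ |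
      ⟨F₀, P, ζ, hneven, hF₀, hζ, hζq, hrat, hvan, rfl⟩ |
      ⟨r, R, p, e, k, hR, habs, hsim, hrp, hmin, hcase, rfl⟩) | ⟨r, K, hr, hrodd, hK, hac, rfl⟩ |
      ⟨n₁, n₂, e, P, f₁, f₂, hn₁, hn₁₂, h₁, h₂, hT, rfl⟩ | ⟨k, t, e, P, f₁, hk, ht, hne, h₁, hT, rfl⟩
  · exact Or.inl ⟨W, h0, hW, inf_assoc _ _ _⟩
  · exact Or.inr (Or.inl ⟨W, h0, hW, hlt, inf_assoc _ _ _⟩)
  · -- nondegenerate decomposition: t * k = 9
    obtain ⟨hmul, ht2, hk0⟩ := Cfsg.Agent.Lib.Helper44.SUMaxGlue.mul_eq_of_nondeg D hD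
    have hkle : k ≤ 4 := by
      by_contra h
      have : 2 * 5 ≤ t * k := Nat.mul_le_mul ht2 (by omega)
      omega
    interval_cases k
    · have ht9 : t = 9 := by omega
      subst ht9
      exact Or.inr (Or.inr (Or.inl ⟨D, hD, inf_assoc _ _ _⟩))
    · omega
    · have ht3 : t = 3 := by omega
      subst ht3
      exact Or.inr (Or.inr (Or.inr (Or.inl ⟨D, hD, inf_assoc _ _ _⟩)))
    · omega
  · omega
  · exact Or.inr (Or.inr (Or.inr (Or.inr (Or.inr (Or.inl ⟨F₀, r, P, hr, hrodd, hF₀, hrat, inf_assoc _ _ _⟩)))))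
  · exact Or.inr (Or.inr (Or.inr (Or.inr (Or.inr (Or.inr (Or.inl ⟨hqodd, F₀, P, hF₀, hrat, inf_assoc _ _ _⟩))))))
  · exact absurd hneven (by decide)
  · -- symplectic type: 9 ^ 2 = r ^ (2 k)
    have hsq := Cfsg.Agent.Lib.Helper44.SUMaxGlue.sq_eq_pow_of_class6 R hR habs
      (hcase.imp id (fun h => ⟨h.1, h.2.2.1, h.2.2.2⟩))
    have hpow := Cfsg.Agent.Lib.Helper44.SUMaxGlue.eq_pow_of_sq_eq hsq
    obtain ⟨hr3, hk2⟩ := Cfsg.Agent.Lib.Helper44.SUMaxGlue.prime_pow_eq_nine hR.prime hpow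
    subst hr3; subst hk2
    rcases hcase with ⟨-, hZ, -, hcard⟩ | ⟨h2, -⟩
    swap
    · omega
    obtain ⟨hp, hchar, hcardF, hdvd, hminim⟩ := hmin
    have hmin' : Cfsg.Geo.IsMinimalFieldFor 3 p e F := by
      rw [hZ] at hdvd hminim
      exact ⟨hp, hchar, hcardF, hdvd, hminim⟩
    obtain ⟨-, -, -, he0, hedvd, hpe, hmin3⟩ :=
      Cfsg.Agent.Lib.Helper44.SLMax.minimalField_arith Nat.prime_three hrp hmin'
    obtain ⟨j, hej, hqj⟩ := Cfsg.Agent.Lib.Helper44.SUMaxGlue.exists_half_exponent hp (hcardF.symm.trans hF)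
    have hj : j = 1 := by
      subst hej
      have : 2 * j ∣ 2 := by simpa using hedvd
      have hjle : 2 * j ≤ 2 := Nat.le_of_dvd (by norm_num) this
      omega
    subst hj
    have hqp : q = p := by simpa using hqj
    subst hej
    have hp2 := Cfsg.Agent.Lib.Helper44.SUMaxGlue.mod3_order_two p hpe (hmin3 1 (by norm_num) (by norm_num))
    exact Or.inr (Or.inr (Or.inr (Or.inr (Or.inr (Or.inr (Or.inr (Or.inl
      ⟨p, R, hp, hqp, hp2, hR, habs, hsim, by rw [hcard]; norm_num, hZ, inf_assoc _ _ _⟩)))))))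
  · -- extension field of odd prime degree r ∣ 9
    have hdvd := Cfsg.Agent.Lib.Helper63.SLMax.dvd_of_isFieldSubalgebra K hK
    have hr3 : r = 3 := by
      have : r ∣ 3 ^ 2 := by simpa using hdvd
      exact (Nat.prime_dvd_prime_iff_eq hr Nat.prime_three).mp (hr.dvd_of_dvd_pow this)
    subst hr3
    exact Or.inr (Or.inr (Or.inr (Or.inr (Or.inl ⟨K, hK, hac, inf_assoc _ _ _⟩))))
  · -- tensor product: n₁ n₂ = 9 with 2 ≤ n₁ < n₂ impossible
    exfalso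
    have hmul := Cfsg.Agent.Lib.Helper44.SUMaxGlue.eq_mul_of_equiv e
    have : n₁ ≤ 2 := by
      by_contra h
      have : 3 * 4 ≤ n₁ * n₂ := Nat.mul_le_mul (by omega) (by omega)
      omega
    have hn₁2 : n₁ = 2 := by omega
    subst hn₁2
    omega
  · -- tensor wreath: k ^ t = 9 with k ≥ 3, t ≥ 2: k = 3, t = 2
    have hpow := Cfsg.Agent.Lib.Helper44.SUMaxGlue.eq_pow_of_equiv e
    have hk3 : k = 3 := by
      by_contra h
      have : 4 ^ 2 ≤ k ^ t := (Nat.pow_le_pow_left (by omega : 4 ≤ k) 2).trans (Nat.pow_le_pow_right (by omega) ht)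
      omega
    subst hk3
    have ht2 : t = 2 := by
      by_contra h
      have : 3 ^ 3 ≤ 3 ^ t := Nat.pow_le_pow_right (by norm_num) (by omega)
      omega
    subst ht2
    have hq2 := Cfsg.Agent.Lib.Helper44.SUMaxGlue.two_le_q hF
    have hq3 : 3 ≤ q := by
      by_contra h
      exact hne ⟨by omega, rfl⟩
    exact Or.inr (Or.inr (Or.inr (Or.inr (Or.inr (Or.inr (Or.inr (Or.inr (Or.inl
      ⟨hq3, e, P, f₁, h₁, hT, inf_assoc _ _ _⟩))))))))

end Cfsg.Agent.S5832
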