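import Cfsg.Statements.S5844
import Mathlib
import Cfsg.Agent.Lib.Helper44.SpMaxGlue2

set_option autoImplicit false
open Cfsg

namespace Cfsg.Agent.S5844

/-- Every maximal subgroup of Sp_10(q) is of one of the listed geometric types or lies in the residual class. Let F be a finite field with q elements (characteristic p), f the standard alternating form on F^10 (coordinates Fin 5 ⊕ Fin 5), and H a maximal subgroup of Sp_10(F) (inside GL_10(F)). Then H is the intersection with Sp_10(F) of one of: the stabiliser of a non-zero totally isotropic subspace; the stabiliser of a non-zero non-degenerate subspace of dimension less than 5; for q ≥ 3, the stabiliser of a decomposition into 5 mutually orthogonal non-degenerate 2-spaces; for q odd, of a decomposition into two totally isotropic 5-spaces; the normaliser of a degree-5 subfield K of the matrix algebra, self-adjoint with f(k v, v) = 0;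 for q odd, the normaliser of a degree-2 subfield closed under adjoints but not self-adjoint; for q odd, the stabiliser of a tensor decomposition of f into an alternating form on F^2 and a symmetric form on F^5; a subfield group (|F| = |F₀|^r, r prime) whose F₀-structure carries a non-zero multiple of f; for q even, the similarity group of a non-degenerate quadratic form polarising to f — or else H lies in the residual class of the symplectic case (modulo scalars H is almost simple, with absolutely irreducible perfect socle preimage realisable over no proper subfield and fixing no non-degenerate quadratic or unitary form). -/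
theorem result {F : Type*} [Field F] [Fintype F] (H : Subgroup (Matrix.GeneralLinearGroup (Fin 5 ⊕ Fin 5) F)) (hH : Cfsg.Geo.IsMaximalIn (Cfsg.spGL 5 F) H) :
    (∃ W : Submodule F (Fin 5 ⊕ Fin 5 → F), W ≠ ⊥ ∧ Cfsg.Geo.IsTotallySingularFor (Cfsg.sympForm 5 F) W ∧ H = Cfsg.Geo.subspaceStabilizer W ⊓ Cfsg.spGL 5 F) ∨
    (∃ W : Submodule F (Fin 5 ⊕ Fin 5 → F), W ≠ ⊥ ∧ Cfsg.Geo.IsNondegenerateOn (Cfsg.sympForm 5 F) W ∧ Module.finrank F W < 5 ∧ H = Cfsg.Geo.subspaceStabilizer W ⊓ Cfsg.spGL 5 F) ∨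
    (3 ≤ Fintype.card F ∧ ∃ D : Fin 5 → Submodule F (Fin 5 ⊕ Fin 5 → F), Cfsg.Geo.IsNondegenerateMDecomposition (Cfsg.sympForm 5 F) 2 D ∧ H = Cfsg.Geo.decompositionStabilizer D ⊓ Cfsg.spGL 5 F) ∨
    (Odd (Fintype.card F) ∧ ∃ D : Fin 2 → Submodule F (Fin 5 ⊕ Fin 5 → F), Cfsg.Geo.IsMDecomposition 5 D ∧ (∀ i, Cfsg.Geo.IsTotallySingularFor (Cfsg.sympForm 5 F) (D i)) ∧ H = Cfsg.Geo.decompositionStabilizer D ⊓ Cfsg.spGL 5 F) ∨
    (∃ K : Subalgebra F (Matrix (Fin 5 ⊕ Fin 5) (Fin 5 ⊕ Fin 5) F), Cfsg.Geo.IsFieldSubalgebra 5 K ∧ Cfsg.Geo.IsSelfAdjointFor (Cfsg.sympForm 5 F) K ∧ (∀ k ∈ K, ∀ v : (Fin 5 ⊕ Fin 5 → F), (Cfsg.sympForm 5 F) (Matrix.mulVec k v) v = 0) ∧ H = Cfsg.Geo.subalgebraNormalizer K ⊓ Cfsg.spGL 5 F) ∨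
    (Odd (Fintype.card F) ∧ ∃ K : Subalgebra F (Matrix (Fin 5 ⊕ Fin 5) (Fin 5 ⊕ Fin 5) F), Cfsg.Geo.IsFieldSubalgebra 2 K ∧ Cfsg.Geo.IsAdjointClosedFor (Cfsg.sympForm 5 F) K ∧ ¬ Cfsg.Geo.IsSelfAdjointFor (Cfsg.sympForm 5 F) K ∧ H = Cfsg.Geo.subalgebraNormalizer K ⊓ Cfsg.spGL 5 F) ∨
    (Odd (Fintype.card F) ∧ ∃ (e : (Fin 5 ⊕ Fin 5) ≃ Fin 2 × Fin 5) (P : Matrix.GeneralLinearGroup (Fin 5 ⊕ Fin 5) F) (f₁ : (Fin 2 → F) → (Fin 2 → F) → F) (f₂ : (Fin 5 → F) → (Fin 5 → F) → F), Cfsg.Geo.IsSymplecticForm f₁ ∧ Cfsg.Geo.IsSymmetricForm f₂ ∧ Cfsg.Geo.IsTensorFormStructure id (Cfsg.sympForm 5 F) f₁ f₂ e P ∧ H = Cfsg.Geo.tensorProductSubgroup 2 5 e P ⊓ Cfsg.spGL 5 F) ∨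
    (∃ (F₀ : Subfield F) (r : ℕ) (P : Matrix.GeneralLinearGroup (Fin 5 ⊕ Fin 5) F) (ζ : F), r.Prime ∧ Fintype.card F = Nat.card F₀ ^ r ∧ ζ ≠ 0 ∧ Cfsg.Geo.IsFormRationalStructure (Cfsg.sympForm 5 F) F₀ ζ P ∧ H = Cfsg.Geo.subfieldSubgroup F₀ P ⊓ Cfsg.spGL 5 F) ∨
    (¬ Odd (Fintype.card F) ∧ ∃ Q : (Fin 5 ⊕ Fin 5 → F) → F, Cfsg.Geo.IsNondegenerateQuadraticForm Q ∧ (∀ u v : (Fin 5 ⊕ Fin 5 → F), QuadraticMap.polar Q u v = (Cfsg.sympForm 5 F) u v) ∧ H = Cfsg.Geo.quadSimilarityGroup Q ⊓ Cfsg.spGL 5 F) ∨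
    Cfsg.Geo.InSymplecticResidualClass H := by
  classical
  have hm : (2 : ℕ) ≤ 5 := by norm_num
  have hex : ¬ ((5 : ℕ) = 2 ∧ Fintype.card F = 2) := by
    rintro ⟨h, -⟩; omega
  rcases Cfsg.Agent.Lib.Helper44.SpMaxGlue.eq_class_or_residual hm hex H hH with ⟨M, hM, rfl⟩ | hres
  swap
  · exact Or.inr (Or.inr (Or.inr (Or.inr (Or.inr (Or.inr (Or.inr (Or.inr (Or.inr hres))))))))
  unfold Cfsg.Geo.InSymplecticClass Cfsg.Geo.InSymplecticPartialClass at hM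
  rcases hM with (⟨W, h0, hW, rfl⟩ | ⟨W, h0, hW, hlt, rfl⟩ | ⟨t, k, D, hD, rfl⟩ | ⟨D, hodd, hD, hts, rfl⟩ |
      ⟨F₀, r, P, ζ, hr, hF, hζ, hrat, rfl⟩ | ⟨R, p, k, hR, habs, hsim, hp, hpodd, hFp, hcard, hZ, hminus, rfl⟩ |
      ⟨Q, heven', hQ, hpol, rfl⟩) | ⟨r, K, hr, hK, hsa, halt, rfl⟩ | ⟨K, hodd, hK, hac, hnsa, rfl⟩ |
      ⟨n₁, n₂, e, P, f₁, f₂, hodd, hn₂, h₁, h₂, hT, rfl⟩ | ⟨k, t, e, P, f₁, hodd, hto, ht, hne, h₁, hT, rfl⟩
  · exact Or.inl ⟨W, h0, hW, rfl⟩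
  · exact Or.inr (Or.inl ⟨W, h0, hW, hlt, rfl⟩)
  · -- nondegenerate decomposition: t * j = 5, k = 2 j
    obtain ⟨ht2, j, hj0, hkj, htj⟩ := Cfsg.Agent.Lib.Helper44.SpMaxGlue.nondeg_decomposition_shape D hD
    have hj1 : j = 1 := by
      have hdvd : j ∣ 5 := ⟨t, by rw [← htj]; ring⟩
      rcases (Nat.dvd_prime (by norm_num : Nat.Prime 5)).mp hdvd with h | h
      · exact h
      · subst h; omega
    have hk : k = 2 := by omega
    have ht : t = 5 := by subst hj1; omega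
    subst hk; subst ht
    by_cases hq : 3 ≤ Fintype.card F
    · exact Or.inr (Or.inr (Or.inl ⟨hq, D, hD, rfl⟩))
    · have hq2 := Cfsg.Agent.Lib.Helper44.SpMaxGlue.card_two_of_lt_three hq
      obtain ⟨Q, hQ, hpol, hle⟩ :=
        Cfsg.Agent.Lib.Helper44.SpMaxKeys.nondeg_planes_le_quadSimilarityGroup_of_card_two hq2 D hD
      have := Cfsg.Agent.Lib.Helper44.SpMaxGlue.eq_inf_of_le hH rfl hle
        (Cfsg.Agent.Lib.Helper44.SpMaxKeys.sp_not_le_quadSimilarityGroup hm Q hQ hpol)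
      exact Or.inr (Or.inr (Or.inr (Or.inr (Or.inr (Or.inr (Or.inr (Or.inr (Or.inl
        ⟨Cfsg.Agent.Lib.Helper44.SpMaxGlue.not_odd_of_card_two hq2, Q, hQ, hpol, this⟩))))))))
  · exact Or.inr (Or.inr (Or.inr (Or.inl ⟨hodd, D, hD, hts, rfl⟩)))
  · exact Or.inr (Or.inr (Or.inr (Or.inr (Or.inr (Or.inr (Or.inr (Or.inl ⟨F₀, r, P, ζ, hr, hF, hζ, hrat, rfl⟩)))))))
  · -- symplectic type: 100 = 2 ^ (2 k) impossible
    exfalso
    have h := Cfsg.Agent.Lib.Helper44.SpMaxKeys.card_sq_eq_of_symplecticType (hFp ▸ hpodd) R hR habs k hcard hZ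
    exact Cfsg.Agent.Lib.Helper44.SpMaxGlue.pow_two_mul_ne (n := 100) (Or.inr (Or.inl rfl)) k (by simpa using h)
  · exact Or.inr (Or.inr (Or.inr (Or.inr (Or.inr (Or.inr (Or.inr (Or.inr (Or.inl ⟨heven', Q, hQ, hpol, rfl⟩))))))))
  · -- extension field of prime degree r, self-adjoint: r ∣ 5
    have hdvd := Cfsg.Agent.Lib.Helper44.SpMaxKeys.dvd_of_isSelfAdjointFor K hK hsa halt
    have hr5 : r = 5 := (Nat.prime_dvd_prime_iff_eq hr (by norm_num : Nat.Prime 5)).mp hdvd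
    subst hr5
    exact Or.inr (Or.inr (Or.inr (Or.inr (Or.inl ⟨K, hK, hsa, halt, rfl⟩))))
  · exact Or.inr (Or.inr (Or.inr (Or.inr (Or.inr (Or.inl ⟨hodd, K, hK, hac, hnsa, rfl⟩)))))
  · -- tensor product: n₁ even, n₂ ≥ 3, n₁ n₂ = 10
    have hmul := Cfsg.Agent.Lib.Helper44.SpMaxGlue.two_mul_eq_mul_of_equiv e
    obtain ⟨j, hj⟩ := Cfsg.Agent.Lib.Helper44.SpMaxKeys.even_of_isSymplecticForm f₁ h₁
    have hjn : j * n₂ = 5 := by subst hj; rw [Nat.add_mul] at hmul; omega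
    have hn5 : n₂ = 5 := by
      have hdvd : n₂ ∣ 5 := ⟨j, by rw [← hjn]; ring⟩
      rcases (Nat.dvd_prime (by norm_num : Nat.Prime 5)).mp hdvd with h | h
      · omega
      · exact h
    have hj1 : j = 1 := by subst hn5; omega
    have hn₁ : n₁ = 2 := by omega
    subst hn₁; subst hn5
    exact Or.inr (Or.inr (Or.inr (Or.inr (Or.inr (Or.inr (Or.inl ⟨hodd, e, P, f₁, f₂, h₁, h₂, hT, rfl⟩))))))
  · -- tensor wreath: k ^ t = 10 with t ≥ 3 impossible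
    exfalso
    have hpow := Cfsg.Agent.Lib.Helper44.SpMaxGlue.two_mul_eq_pow_of_equiv e
    rcases Cfsg.Agent.Lib.Helper44.SpMaxGlue.pow_eq_cases ht hpow with h | h | h | h <;> omega

end Cfsg.Agent.S5844
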