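import Cfsg.Statements.S5850
import Cfsg.Agent.Lib.Helper91.O10mRow
import Cfsg.Agent.Lib.Helper46.AschEMain
import Cfsg.Agent.Lib.Helper51.OEvenN5
import Cfsg.Agent.Lib.Helper19.OEvenType3
import Cfsg.Agent.Lib.Helper27.OEvenXX1
import Cfsg.Agent.Lib.Helper80.OEvenXX2
import Cfsg.Agent.Lib.Helper60.OEvenXX3
import Cfsg.Agent.Lib.Helper79.OEvenXX7
import Cfsg.Agent.Lib.Helper81.OEvenXX12
import Cfsg.Agent.Lib.Helper30.O10mY1
import Cfsg.Agent.Lib.Helper90.O10mY3
import Cfsg.Agent.Lib.Helper81.O10mY7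
import Cfsg.Agent.Lib.Helper43.OEvenN2
import Cfsg.Agent.Lib.Helper23.O10mY8
import Cfsg.Agent.Lib.Helper46.OEvenXX9
import Cfsg.Agent.Lib.Helper46.O12X2m3
import Cfsg.Agent.Lib.Helper79.O10mY4
import Cfsg.Agent.Lib.Helper79.O10mY5
import Cfsg.Agent.Lib.Helper22.O10mY6

set_option autoImplicit false
open Cfsg

namespace Cfsg.Agent.S5850

/-- Every maximal subgroup of Ω_10^-(q) is of one of the listed geometric types or lies in the residual class. Let F be a finite field with q elements (characteristic p), Q a non-degenerate quadratic form on F^10 of minus type (Witt index 4: no totally singular 5-space), Ω the commutator subgroup of its isometry group, and H a maximal subgroup of Ω (inside GL_10(F)). Then H is the intersection with Ω of one of: the stabiliser of a non-zero totally singular subspace; for q odd, the stabiliser of a non-degenerate subspace of odd dimension ≠ 5; the stabiliser of a non-degenerate 2-space of minus type;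 for q ≥ 4, the stabiliser of a non-degenerate 2-space of plus type; the stabiliser of a non-degenerate 4-space; for q even, the stabiliser of the span of a non-singular vector; for q = p prime with p ≡ 3 mod 4, the stabiliser of a decomposition into 10 pairwise orthogonal, pairwise isometric non-degenerate 1-spaces; for q ≠ 3, the stabiliser of a decomposition into 5 pairwise orthogonal, pairwise isometric non-degenerate 2-spaces; for q ≡ 3 mod 4, the stabiliser of a decomposition into 2 pairwise orthogonal, pairwise isometric non-degenerate 5-spaces; for q ≡ 1 mod 4, the stabiliser of a decomposition into two orthogonal, non-isometric non-degenerate 5-spaces; for q odd, the normaliser of a degree-2 subfield of the matrix algebra, self-adjoint for the polar form; the normaliser of a degree-2 subfield K, adjoint-closed but not self-adjoint, acting by similarities of Q; a subfield group (|F| = |F₀|^r, r odd prime) whose F₀-structure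 carries a non-zero multiple of Q — or else H lies in the residual class of the orthogonal case (modulo scalars H is almost simple, with absolutely irreducible perfect socle preimage realisable over no proper subfield and fixing no non-degenerate unitary form). -/
theorem result {F : Type*} [Field F] [Fintype F] (Q : (Fin 10 → F) → F) (hQ : Cfsg.Geo.IsNondegenerateQuadraticForm Q) (hminus : ¬ Cfsg.Geo.IsPlusTypeOn Q ⊤) (H : Subgroup (Matrix.GeneralLinearGroup (Fin 10) F)) (hH : Cfsg.Geo.IsMaximalIn (Cfsg.Geo.omegaGL Q) H) :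
    (∃ W : Submodule F (Fin 10 → F), W ≠ ⊥ ∧ Cfsg.Geo.IsTotallySingularQuad Q W ∧ H = Cfsg.Geo.subspaceStabilizer W ⊓ Cfsg.Geo.omegaGL Q) ∨
    (Odd (Fintype.card F) ∧ ∃ W : Submodule F (Fin 10 → F), W ≠ ⊥ ∧ W ≠ ⊤ ∧ Odd (Module.finrank F W) ∧ 2 * Module.finrank F W ≠ 10 ∧ Cfsg.Geo.IsNondegenerateOn (QuadraticMap.polar Q) W ∧ H = Cfsg.Geo.subspaceStabilizer W ⊓ Cfsg.Geo.omegaGL Q) ∨
    (∃ W : Submodule F (Fin 10 → F), Module.finrank F W = 2 ∧ Cfsg.Geo.IsNondegenerateOn (QuadraticMap.polar Q) W ∧ ¬ Cfsg.Geo.IsPlusTypeOn Q W ∧ H = Cfsg.Geo.subspaceStabilizer W ⊓ Cfsg.Geo.omegaGL Q) ∨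
    (4 ≤ Fintype.card F ∧ ∃ W : Submodule F (Fin 10 → F), Module.finrank F W = 2 ∧ Cfsg.Geo.IsNondegenerateOn (QuadraticMap.polar Q) W ∧ Cfsg.Geo.IsPlusTypeOn Q W ∧ H = Cfsg.Geo.subspaceStabilizer W ⊓ Cfsg.Geo.omegaGL Q) ∨
    (∃ W : Submodule F (Fin 10 → F), Module.finrank F W = 4 ∧ Cfsg.Geo.IsNondegenerateOn (QuadraticMap.polar Q) W ∧ H = Cfsg.Geo.subspaceStabilizer W ⊓ Cfsg.Geo.omegaGL Q) ∨
    (¬ Odd (Fintype.card F) ∧ ∃ v : (Fin 10 → F), Q v ≠ 0 ∧ H = Cfsg.Geo.subspaceStabilizer (Submodule.span F {v}) ⊓ Cfsg.Geo.omegaGL Q) ∨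
    ((∃ p : ℕ, p.Prime ∧ Fintype.card F = p ∧ (p % 4 = 3)) ∧ ∃ D : Fin 10 → Submodule F (Fin 10 → F), Cfsg.Geo.IsOrthogonalMDecomposition Q 1 D ∧ H = Cfsg.Geo.decompositionStabilizer D ⊓ Cfsg.Geo.omegaGL Q) ∨
    (Fintype.card F ≠ 3 ∧ ∃ D : Fin 5 → Submodule F (Fin 10 → F), Cfsg.Geo.IsOrthogonalMDecomposition Q 2 D ∧ H = Cfsg.Geo.decompositionStabilizer D ⊓ Cfsg.Geo.omegaGL Q) ∨
    (Fintype.card F % 4 = 3 ∧ ∃ D : Fin 2 → Submodule F (Fin 10 → F), Cfsg.Geo.IsOrthogonalMDecomposition Q 5 D ∧ H = Cfsg.Geo.decompositionStabilizer D ⊓ Cfsg.Geo.omegaGL Q) ∨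
    (Fintype.card F % 4 = 1 ∧ ∃ D : Fin 2 → Submodule F (Fin 10 → F), Cfsg.Geo.IsNondegenerateMDecomposition (QuadraticMap.polar Q) 5 D ∧ ¬ Cfsg.Geo.AreIsometricFor Q (D 0) (D 1) ∧ H = Cfsg.Geo.decompositionStabilizer D ⊓ Cfsg.Geo.omegaGL Q) ∨
    (Odd (Fintype.card F) ∧ ∃ K : Subalgebra F (Matrix (Fin 10) (Fin 10) F), Cfsg.Geo.IsFieldSubalgebra 2 K ∧ Cfsg.Geo.IsSelfAdjointFor (QuadraticMap.polar Q) K ∧ H = Cfsg.Geo.subalgebraNormalizer K ⊓ Cfsg.Geo.omegaGL Q) ∨
    (∃ K : Subalgebra F (Matrix (Fin 10) (Fin 10) F), Cfsg.Geo.IsFieldSubalgebra 2 K ∧ Cfsg.Geo.IsAdjointClosedFor (QuadraticMap.polar Q) K ∧ ¬ Cfsg.Geo.IsSelfAdjointFor (QuadraticMap.polar Q) K ∧ (∀ k ∈ K, ∃ c : F, ∀ v : (Fin 10 → F), Q (Matrix.mulVec k v) = c * Q v) ∧ H = Cfsg.Geo.subalgebraNormalizer K ⊓ Cfsg.Geo.omegaGL Q) ∨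
    (∃ (F₀ : Subfield F) (r : ℕ) (P : Matrix.GeneralLinearGroup (Fin 10) F) (ζ : F), r.Prime ∧ Odd r ∧ Fintype.card F = Nat.card F₀ ^ r ∧ ζ ≠ 0 ∧ Cfsg.Geo.IsQuadFormRationalStructure (fun v : Fin 10 → F => ζ * Q v) F₀ P ∧ H = Cfsg.Geo.subfieldSubgroup F₀ P ⊓ Cfsg.Geo.omegaGL Q) ∨
    Cfsg.Geo.InOrthogonalResidualClass H := by
  have h7 : 7 ≤ 10 := by norm_num
  have hyp : Cfsg.Agent.Lib.Helper91.O10m.Hyps Q :=
    { asch := fun H hH => Cfsg.Agent.Lib.Helper46.AschE.aschbacher_orth_even (by norm_num) Q hQ H hH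
      n1 := fun W h0 h1 => Cfsg.Agent.Lib.Helper51.OEvenN.omegaGL_not_le_subspaceStabilizer h7 Q hQ W h0 h1
      n2o := fun D hD =>
        Cfsg.Agent.Lib.Helper43.OEvenN2.omegaGL_not_le_decompositionStabilizer_nondeg h7 Q hQ D hD.decomp
      n2p := fun D hD =>
        Cfsg.Agent.Lib.Helper43.OEvenN2.omegaGL_not_le_decompositionStabilizer_nondeg h7 Q hQ D hD
      n3 := fun K hK =>
        Cfsg.Agent.Lib.Helper51.OEvenN.omegaGL_not_le_subalgebraNormalizer h7 Q hQ (le_refl 2) K hK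
      n5 := fun F₀ r P hr hF =>
        Cfsg.Agent.Lib.Helper51.OEvenN.omegaGL_not_le_subfieldSubgroup h7 Q hQ F₀ r hr hF P
      x1 := fun W hW => Cfsg.Agent.Lib.Helper27.OEvenX.exists_perp_of_isNondegenerateOn Q hQ W hW
      x2 := fun W hW hodd => Cfsg.Agent.Lib.Helper80.OEvenX.odd_card_of_odd_finrank Q hQ W hW hodd
      x3 := fun hq W hdim hW hplus =>
        Cfsg.Agent.Lib.Helper60.OEvenX.nonmax_plusPlane_small (by norm_num) Q hQ hq W hdim hW hplus
      x7 := fun F₀ hF P ζ hζ hrat =>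
        Cfsg.Agent.Lib.Helper79.OEvenX.plus_of_subfield_two (by decide) Q hQ F₀ hF P ζ hζ hrat
      x9 := fun D hD hplus => Cfsg.Agent.Lib.Helper46.OEvenX9.plus_of_decomposition_plus Q hQ D hD hplus
      x12 := fun f => Cfsg.Agent.Lib.Helper81.OEvenX.not_isSymplecticForm_of_odd (by decide) f
      tEven := fun h2 {t k} D hD ht =>
        Cfsg.Agent.Lib.Helper19.OEvenType.isPlusTypeOn_top_iff_of_even_decomposition_of_odd Q hQ h2
          (M := 5) (by norm_num) (by decide) D hD ht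
      tPair := fun h2 {k} D hD =>
        Cfsg.Agent.Lib.Helper19.OEvenType.areIsometricFor_iff_of_pair_of_odd Q hQ h2
          (M := 5) (by norm_num) (by decide) D hD
      y1 := fun W h0 hW hdim => Cfsg.Agent.Lib.Helper30.O10m.pair_of_half_dim Q hQ W h0 hW hdim
      y2 := fun hq {t} D hD hm => Cfsg.Agent.Lib.Helper46.O12.planes_minus_card_three Q hQ hq D hD hm
      y3 := fun h2 E hE hsa =>
        Cfsg.Agent.Lib.Helper90.O10m.four_dvd_of_selfAdjoint_quadratic_field h2 Q hQ E hE hsa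
      y4 := fun h2 E hE hsa =>
        Cfsg.Agent.Lib.Helper79.O10m.exists_skew_of_field_five h2 Q hQ hminus E hE hsa
      y5 := fun h2 E hE hsa =>
        Cfsg.Agent.Lib.Helper79.O10m.exists_artinSchreier_of_field_five h2 Q hQ E hE hsa
      y6 := fun h2 J δ hδ hJ2 hskew =>
        Cfsg.Agent.Lib.Helper22.O10m.unitaryField_of_skew h2 Q hQ hminus J δ hδ hJ2 hskew
      y7 := fun h2 u c₀ hu2 hpol =>
        Cfsg.Agent.Lib.Helper81.O10m.unitaryField_of_artinSchreier h2 Q hQ hminus u c₀ hu2 hpol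
      y8 := fun h2 e P f₁ f₂ hf₁ hf₂ hT =>
        Cfsg.Agent.Lib.Helper23.O10m.exists_skew_of_tensor_two h2 Q hQ e P f₁ f₂ hf₁ hf₂ hT }
  exact Cfsg.Agent.Lib.Helper91.O10m.row hQ hminus hyp hH

end Cfsg.Agent.S5850
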