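import Cfsg.Statements.S5868
import Mathlib
import Cfsg.Agent.Lib.Helper44.SpMaxGlue2

set_option autoImplicit false
open Cfsg

namespace Cfsg.Agent.S5868

/-- Every maximal subgroup of Sp_12(q) is of one of the listed geometric types or lies in the residual class. Let F be a finite field with q elements (characteristic p), f the standard alternating form on F^12 (coordinates Fin 6 ⊕ Fin 6), and H a maximal subgroup of Sp_12(F) (inside GL_12(F)). Then H is the intersection with Sp_12(F) of one of: the stabiliser of a non-zero totally isotropic subspace; the stabiliser of a non-zero non-degenerate subspace of dimension less than 6; for q ≥ 3, the stabiliser of a decomposition into 6 mutually orthogonal non-degenerate 2-spaces; the stabiliser of a decomposition into 3 mutually orthogonal non-degenerate 4-spaces; the stabiliser of a decomposition into 2 mutually orthogonal non-degenerate 6-spaces;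 for q odd, of a decomposition into two totally isotropic 6-spaces; the normaliser of a degree-2 subfield K of the matrix algebra, self-adjoint with f(k v, v) = 0; the normaliser of a degree-3 subfield K of the matrix algebra, self-adjoint with f(k v, v) = 0; for q odd, the normaliser of a degree-2 subfield closed under adjoints but not self-adjoint; for q odd, the stabiliser of a tensor decomposition of f into an alternating form on F^2 and a symmetric form on F^6; for q odd with q ≥ 5, the stabiliser of a tensor decomposition of f into an alternating form on F^4 and a symmetric form on F^3; a subfield group (|F| = |F₀|^r, r prime) whose F₀-structure carries a non-zero multiple of f; for q even, the similarity group of a non-degenerate quadratic form polarising to f — or else H lies in the residual class of the symplectic case (modulo scalars H is almost simple, with absolutely irreducible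 perfect socle preimage realisable over no proper subfield and fixing no non-degenerate quadratic or unitary form). -/
theorem result {F : Type*} [Field F] [Fintype F] (H : Subgroup (Matrix.GeneralLinearGroup (Fin 6 ⊕ Fin 6) F)) (hH : Cfsg.Geo.IsMaximalIn (Cfsg.spGL 6 F) H) :
    (∃ W : Submodule F (Fin 6 ⊕ Fin 6 → F), W ≠ ⊥ ∧ Cfsg.Geo.IsTotallySingularFor (Cfsg.sympForm 6 F) W ∧ H = Cfsg.Geo.subspaceStabilizer W ⊓ Cfsg.spGL 6 F) ∨
    (∃ W : Submodule F (Fin 6 ⊕ Fin 6 → F), W ≠ ⊥ ∧ Cfsg.Geo.IsNondegenerateOn (Cfsg.sympForm 6 F) W ∧ Module.finrank F W < 6 ∧ H = Cfsg.Geo.subspaceStabilizer W ⊓ Cfsg.spGL 6 F) ∨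
    (3 ≤ Fintype.card F ∧ ∃ D : Fin 6 → Submodule F (Fin 6 ⊕ Fin 6 → F), Cfsg.Geo.IsNondegenerateMDecomposition (Cfsg.sympForm 6 F) 2 D ∧ H = Cfsg.Geo.decompositionStabilizer D ⊓ Cfsg.spGL 6 F) ∨
    (∃ D : Fin 3 → Submodule F (Fin 6 ⊕ Fin 6 → F), Cfsg.Geo.IsNondegenerateMDecomposition (Cfsg.sympForm 6 F) 4 D ∧ H = Cfsg.Geo.decompositionStabilizer D ⊓ Cfsg.spGL 6 F) ∨
    (∃ D : Fin 2 → Submodule F (Fin 6 ⊕ Fin 6 → F), Cfsg.Geo.IsNondegenerateMDecomposition (Cfsg.sympForm 6 F) 6 D ∧ H = Cfsg.Geo.decompositionStabilizer D ⊓ Cfsg.spGL 6 F) ∨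
    (Odd (Fintype.card F) ∧ ∃ D : Fin 2 → Submodule F (Fin 6 ⊕ Fin 6 → F), Cfsg.Geo.IsMDecomposition 6 D ∧ (∀ i, Cfsg.Geo.IsTotallySingularFor (Cfsg.sympForm 6 F) (D i)) ∧ H = Cfsg.Geo.decompositionStabilizer D ⊓ Cfsg.spGL 6 F) ∨
    (∃ K : Subalgebra F (Matrix (Fin 6 ⊕ Fin 6) (Fin 6 ⊕ Fin 6) F), Cfsg.Geo.IsFieldSubalgebra 2 K ∧ Cfsg.Geo.IsSelfAdjointFor (Cfsg.sympForm 6 F) K ∧ (∀ k ∈ K, ∀ v : (Fin 6 ⊕ Fin 6 → F), (Cfsg.sympForm 6 F) (Matrix.mulVec k v) v = 0) ∧ H = Cfsg.Geo.subalgebraNormalizer K ⊓ Cfsg.spGL 6 F) ∨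
    (∃ K : Subalgebra F (Matrix (Fin 6 ⊕ Fin 6) (Fin 6 ⊕ Fin 6) F), Cfsg.Geo.IsFieldSubalgebra 3 K ∧ Cfsg.Geo.IsSelfAdjointFor (Cfsg.sympForm 6 F) K ∧ (∀ k ∈ K, ∀ v : (Fin 6 ⊕ Fin 6 → F), (Cfsg.sympForm 6 F) (Matrix.mulVec k v) v = 0) ∧ H = Cfsg.Geo.subalgebraNormalizer K ⊓ Cfsg.spGL 6 F) ∨
    (Odd (Fintype.card F) ∧ ∃ K : Subalgebra F (Matrix (Fin 6 ⊕ Fin 6) (Fin 6 ⊕ Fin 6) F), Cfsg.Geo.IsFieldSubalgebra 2 K ∧ Cfsg.Geo.IsAdjointClosedFor (Cfsg.sympForm 6 F) K ∧ ¬ Cfsg.Geo.IsSelfAdjointFor (Cfsg.sympForm 6 F) K ∧ H = Cfsg.Geo.subalgebraNormalizer K ⊓ Cfsg.spGL 6 F) ∨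
    (Odd (Fintype.card F) ∧ ∃ (e : (Fin 6 ⊕ Fin 6) ≃ Fin 2 × Fin 6) (P : Matrix.GeneralLinearGroup (Fin 6 ⊕ Fin 6) F) (f₁ : (Fin 2 → F) → (Fin 2 → F) → F) (f₂ : (Fin 6 → F) → (Fin 6 → F) → F), Cfsg.Geo.IsSymplecticForm f₁ ∧ Cfsg.Geo.IsSymmetricForm f₂ ∧ Cfsg.Geo.IsTensorFormStructure id (Cfsg.sympForm 6 F) f₁ f₂ e P ∧ H = Cfsg.Geo.tensorProductSubgroup 2 6 e P ⊓ Cfsg.spGL 6 F) ∨
    (Odd (Fintype.card F) ∧ 5 ≤ Fintype.card F ∧ ∃ (e : (Fin 6 ⊕ Fin 6) ≃ Fin 4 × Fin 3) (P : Matrix.GeneralLinearGroup (Fin 6 ⊕ Fin 6) F) (f₁ : (Fin 4 → F) → (Fin 4 → F) → F) (f₂ : (Fin 3 → F) → (Fin 3 → F) → F), Cfsg.Geo.IsSymplecticForm f₁ ∧ Cfsg.Geo.IsSymmetricForm f₂ ∧ Cfsg.Geo.IsTensorFormStructure id (Cfsg.sympForm 6 F) f₁ f₂ e P ∧ H = Cfsg.Geo.tensorProductSubgroup 4 3 e P ⊓ Cfsg.spGL 6 F) ∨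
    (∃ (F₀ : Subfield F) (r : ℕ) (P : Matrix.GeneralLinearGroup (Fin 6 ⊕ Fin 6) F) (ζ : F), r.Prime ∧ Fintype.card F = Nat.card F₀ ^ r ∧ ζ ≠ 0 ∧ Cfsg.Geo.IsFormRationalStructure (Cfsg.sympForm 6 F) F₀ ζ P ∧ H = Cfsg.Geo.subfieldSubgroup F₀ P ⊓ Cfsg.spGL 6 F) ∨
    (¬ Odd (Fintype.card F) ∧ ∃ Q : (Fin 6 ⊕ Fin 6 → F) → F, Cfsg.Geo.IsNondegenerateQuadraticForm Q ∧ (∀ u v : (Fin 6 ⊕ Fin 6 → F), QuadraticMap.polar Q u v = (Cfsg.sympForm 6 F) u v) ∧ H = Cfsg.Geo.quadSimilarityGroup Q ⊓ Cfsg.spGL 6 F) ∨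
    Cfsg.Geo.InSymplecticResidualClass H := by
  classical
  have hm : (2 : ℕ) ≤ 6 := by norm_num
  have hex : ¬ ((6 : ℕ) = 2 ∧ Fintype.card F = 2) := by
    rintro ⟨h, -⟩; omega
  rcases Cfsg.Agent.Lib.Helper44.SpMaxGlue.eq_class_or_residual hm hex H hH with ⟨M, hM, rfl⟩ | hres
  swap
  · exact Or.inr (Or.inr (Or.inr (Or.inr (Or.inr (Or.inr (Or.inr (Or.inr (Or.inr (Or.inr (Or.inr (Or.inr (Or.inr hres))))))))))))
  unfold Cfsg.Geo.InSymplecticClass Cfsg.Geo.InSymplecticPartialClass at hM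
  rcases hM with (⟨W, h0, hW, rfl⟩ | ⟨W, h0, hW, hlt, rfl⟩ | ⟨t, k, D, hD, rfl⟩ | ⟨D, hodd, hD, hts, rfl⟩ |
      ⟨F₀, r, P, ζ, hr, hF, hζ, hrat, rfl⟩ | ⟨R, p, k, hR, habs, hsim, hp, hpodd, hFp, hcard, hZ, hminus, rfl⟩ |
      ⟨Q, heven', hQ, hpol, rfl⟩) | ⟨r, K, hr, hK, hsa, halt, rfl⟩ | ⟨K, hodd, hK, hac, hnsa, rfl⟩ |
      ⟨n₁, n₂, e, P, f₁, f₂, hodd, hn₂, h₁, h₂, hT, rfl⟩ | ⟨k, t, e, P, f₁, hodd, hto, ht, hne, h₁, hT, rfl⟩
  · exact Or.inl ⟨W, h0, hW, rfl⟩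
  · exact Or.inr (Or.inl ⟨W, h0, hW, hlt, rfl⟩)
  · -- nondegenerate decomposition: t * j = 6, k = 2 j
    obtain ⟨ht2, j, hj0, hkj, htj⟩ := Cfsg.Agent.Lib.Helper44.SpMaxGlue.nondeg_decomposition_shape D hD
    have hjle : j ≤ 3 := by
      by_contra h
      have : 2 * 4 ≤ t * j := Nat.mul_le_mul ht2 (by omega)
      omega
    interval_cases j
    · -- j = 1, k = 2, t = 6
      have hk : k = 2 := by omega
      have ht : t = 6 := by omega
      subst hk; subst ht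
      by_cases hq : 3 ≤ Fintype.card F
      · exact Or.inr (Or.inr (Or.inl ⟨hq, D, hD, rfl⟩))
      · have hq2 := Cfsg.Agent.Lib.Helper44.SpMaxGlue.card_two_of_lt_three hq
        obtain ⟨Q, hQ, hpol, hle⟩ :=
          Cfsg.Agent.Lib.Helper44.SpMaxKeys.nondeg_planes_le_quadSimilarityGroup_of_card_two hq2 D hD
        have := Cfsg.Agent.Lib.Helper44.SpMaxGlue.eq_inf_of_le hH rfl hle
          (Cfsg.Agent.Lib.Helper44.SpMaxKeys.sp_not_le_quadSimilarityGroup hm Q hQ hpol)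
        exact Or.inr (Or.inr (Or.inr (Or.inr (Or.inr (Or.inr (Or.inr (Or.inr (Or.inr (Or.inr (Or.inr (Or.inr (Or.inl
          ⟨Cfsg.Agent.Lib.Helper44.SpMaxGlue.not_odd_of_card_two hq2, Q, hQ, hpol, this⟩))))))))))))
    · -- j = 2, k = 4, t = 3
      have hk : k = 4 := by omega
      have ht : t = 3 := by omega
      subst hk; subst ht
      exact Or.inr (Or.inr (Or.inr (Or.inl ⟨D, hD, rfl⟩)))
    · -- j = 3, k = 6, t = 2
      have hk : k = 6 := by omega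
      have ht : t = 2 := by omega
      subst hk; subst ht
      exact Or.inr (Or.inr (Or.inr (Or.inr (Or.inl ⟨D, hD, rfl⟩))))
  · exact Or.inr (Or.inr (Or.inr (Or.inr (Or.inr (Or.inl ⟨hodd, D, hD, hts, rfl⟩)))))
  · exact Or.inr (Or.inr (Or.inr (Or.inr (Or.inr (Or.inr (Or.inr (Or.inr (Or.inr (Or.inr (Or.inr (Or.inl
      ⟨F₀, r, P, ζ, hr, hF, hζ, hrat, rfl⟩)))))))))))
  · -- symplectic type: 144 = 2 ^ (2 k) impossible
    exfalso
    have h := Cfsg.Agent.Lib.Helper44.SpMaxKeys.card_sq_eq_of_symplecticType (hFp ▸ hpodd) R hR habs k hcard hZ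
    exact Cfsg.Agent.Lib.Helper44.SpMaxGlue.pow_two_mul_ne (n := 144) (Or.inr (Or.inr rfl)) k (by simpa using h)
  · exact Or.inr (Or.inr (Or.inr (Or.inr (Or.inr (Or.inr (Or.inr (Or.inr (Or.inr (Or.inr (Or.inr (Or.inr (Or.inl
      ⟨heven', Q, hQ, hpol, rfl⟩))))))))))))
  · -- extension field of prime degree r, self-adjoint: r ∣ 6
    have hdvd := Cfsg.Agent.Lib.Helper44.SpMaxKeys.dvd_of_isSelfAdjointFor K hK hsa halt
    have hr23 : r = 2 ∨ r = 3 := by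
      have h6 : r ∣ 2 * 3 := by simpa using hdvd
      rcases (Nat.Prime.dvd_mul hr).mp h6 with h | h
      · exact Or.inl ((Nat.prime_dvd_prime_iff_eq hr Nat.prime_two).mp h)
      · exact Or.inr ((Nat.prime_dvd_prime_iff_eq hr Nat.prime_three).mp h)
    rcases hr23 with rfl | rfl
    · exact Or.inr (Or.inr (Or.inr (Or.inr (Or.inr (Or.inr (Or.inl ⟨K, hK, hsa, halt, rfl⟩))))))
    · exact Or.inr (Or.inr (Or.inr (Or.inr (Or.inr (Or.inr (Or.inr (Or.inl ⟨K, hK, hsa, halt, rfl⟩)))))))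
  · exact Or.inr (Or.inr (Or.inr (Or.inr (Or.inr (Or.inr (Or.inr (Or.inr (Or.inl ⟨hodd, K, hK, hac, hnsa, rfl⟩))))))))
  · -- tensor product: n₁ even, n₂ ≥ 3, n₁ n₂ = 12
    have hmul := Cfsg.Agent.Lib.Helper44.SpMaxGlue.two_mul_eq_mul_of_equiv e
    obtain ⟨j, hj⟩ := Cfsg.Agent.Lib.Helper44.SpMaxKeys.even_of_isSymplecticForm f₁ h₁
    have hjn : j * n₂ = 6 := by subst hj; rw [Nat.add_mul] at hmul; omega
    have hjle : j ≤ 2 := by
      by_contra h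
      have : 3 * 3 ≤ j * n₂ := Nat.mul_le_mul (by omega) hn₂
      omega
    interval_cases j
    · simp at hjn
    · -- j = 1: n₁ = 2, n₂ = 6
      have hn₁ : n₁ = 2 := by omega
      have hn6 : n₂ = 6 := by omega
      subst hn₁; subst hn6
      exact Or.inr (Or.inr (Or.inr (Or.inr (Or.inr (Or.inr (Or.inr (Or.inr (Or.inr (Or.inl
        ⟨hodd, e, P, f₁, f₂, h₁, h₂, hT, rfl⟩)))))))))
    · -- j = 2: n₁ = 4, n₂ = 3
      have hn₁ : n₁ = 4 := by omega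
      have hn3 : n₂ = 3 := by omega
      subst hn₁; subst hn3
      by_cases hq : 5 ≤ Fintype.card F
      · exact Or.inr (Or.inr (Or.inr (Or.inr (Or.inr (Or.inr (Or.inr (Or.inr (Or.inr (Or.inr (Or.inl
          ⟨hodd, hq, e, P, f₁, f₂, h₁, h₂, hT, rfl⟩))))))))))
      · have hq3 := Cfsg.Agent.Lib.Helper44.SpMaxGlue.card_three_of_odd_lt_five hodd hq
        obtain ⟨D, hD, hle⟩ :=
          Cfsg.Agent.Lib.Helper44.SpMaxKeys.tensor_three_le_decomposition_of_card_three hq3 (by norm_num) e P f₁ f₂ h₁ h₂ hT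
        have := Cfsg.Agent.Lib.Helper44.SpMaxGlue.eq_inf_of_le hH rfl hle
          (Cfsg.Agent.Lib.Helper44.SpMaxKeys.sp_not_le_decompositionStabilizer D hD.decomp)
        exact Or.inr (Or.inr (Or.inr (Or.inl ⟨D, hD, this⟩)))
  · -- tensor wreath: k ^ t = 12 with t ≥ 3 impossible
    exfalso
    have hpow := Cfsg.Agent.Lib.Helper44.SpMaxGlue.two_mul_eq_pow_of_equiv e
    rcases Cfsg.Agent.Lib.Helper44.SpMaxGlue.pow_eq_cases ht hpow with h | h | h | h <;> omega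

end Cfsg.Agent.S5868
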