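import Cfsg.Statements.S5876
import Cfsg.Agent.Lib.Helper97.CommTrick
import Cfsg.Agent.Lib.Helper97.GroupLemma
import Cfsg.Agent.Lib.Helper97.AbelianFpf

set_option autoImplicit false
open Cfsg

namespace Cfsg.Agent.S5876

open Cfsg.Agent.Lib.Helper97
open scoped commutatorElement

/-- Fixed-point spaces in primitive soluble linear groups. Let F be a finite field and G a soluble subgroup of GL_n(F) that acts irreducibly on F^n and primitively (G preserves no decomposition of F^n into two or more independent subspaces of equal dimension). Then every non-identity element g of G has fixed-point space {v : g v = v} of dimension at most 3n/4. -/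
theorem result {F : Type*} [Field F] [Fintype F] {n : ℕ} (G : Subgroup (Matrix.GeneralLinearGroup (Fin n) F)) (hsol : IsSolvable G) (hirr : Cfsg.Geo.ActsIrreducibly (Cfsg.Geo.matrixSet G)) (hprim : ∀ (m t : ℕ) (D : Fin t → Submodule F (Fin n → F)), 2 ≤ t → Cfsg.Geo.IsMDecomposition m D → ¬ G ≤ Cfsg.Geo.decompositionStabilizer D) (g : Matrix.GeneralLinearGroup (Fin n) F) (hg : g ∈ G) (hg1 : g ≠ 1) :
    4 * Module.finrank F (Module.End.eigenspace (Matrix.toLin' (g : Matrix (Fin n) (Fin n) F)) 1) ≤ 3 * n := by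
  classical
  have hsol' : Group.IsSolvable G := hsol
  obtain ⟨A, hAn, hAc, h₁, h₂, hcase⟩ := exists_abelian_normal_comm (⟨g, hg⟩ : G)
  let A' : Subgroup (Matrix.GeneralLinearGroup (Fin n) F) := A.map G.subtype
  have hnorm : ∀ h ∈ G, ∀ a ∈ A', h * a * h⁻¹ ∈ A' := by
    rintro h hh _ ⟨a, ha, rfl⟩
    exact ⟨(⟨h, hh⟩ : G) * a * (⟨h, hh⟩ : G)⁻¹, hAn.conj_mem a ha ⟨h, hh⟩, rfl⟩
  have hcomm : ∀ a ∈ A', ∀ b ∈ A', a * b = b * a := by
    rintro _ ⟨a, ha, rfl⟩ _ ⟨b, hb, rfl⟩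
    have := hAc a ha b hb
    exact congrArg Subtype.val this
  have hfpf : ∀ a ∈ A', a ≠ 1 → fixSp a = ⊥ := fun a ha ha1 =>
    fixSp_eq_bot_of_abelian_normal G hirr hprim A' hnorm hcomm a ha ha1
  show 4 * Module.finrank F (fixSp g) ≤ 3 * n
  rcases hcase with h | ⟨hne, hmem⟩ | ⟨hne, hmem⟩
  · have h1 : fixSp g = ⊥ := hfpf g ⟨⟨g, hg⟩, h, rfl⟩ hg1
    rw [h1, finrank_bot]
    omega
  · have h1 : fixSp ⁅g, h₁.1⁆ = ⊥ := by
      refine hfpf _ ⟨_, hmem, rfl⟩ ?_
      intro h0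
      apply hne
      exact Subtype.ext h0
    have h2 := fixSp_commutator g h₁.1
    rw [h1, finrank_bot] at h2
    omega
  · have h1 : fixSp ⁅⁅g, h₁.1⁆, h₂.1⁆ = ⊥ := by
      refine hfpf _ ⟨_, hmem, rfl⟩ ?_
      intro h0
      apply hne
      exact Subtype.ext h0
    have h2 := fixSp_commutator ⁅g, h₁.1⁆ h₂.1
    have h3 := fixSp_commutator g h₁.1
    rw [h1, finrank_bot] at h2
    omega

end Cfsg.Agent.S5876
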