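import Cfsg.Statements.S5877
import Cfsg.Agent.Lib.Helper40.ExtraEq

set_option autoImplicit false
open Cfsg

namespace Cfsg.Agent.S5877

/-- Eigenspaces of elements normalising an absolutely irreducible extraspecial group. Let F be a finite field, r a prime, and R ≤ GL_n(F) an absolutely irreducible extraspecial r-group (an r-group whose centre equals its derived subgroup and has order r) of exponent r or 4. Let g ∈ GL_n(F) normalise the product of R with the scalar matrices, have prime order ϖ and not be scalar, and let W be the eigenspace of g for any c ∈ F (W may be the zero subspace). Then dim W ≤ 3n/4 if ϖ = 2, dim W ≤ 2n/3 if ϖ = 3, and dim W ≤ n/2 if ϖ > 3; moreover if ϖ = 3 and 3 does not divide n then dim W ≤ n/2. -/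
theorem result {F : Type*} [Field F] [Fintype F] {n r ϖ : ℕ} (R : Subgroup (Matrix.GeneralLinearGroup (Fin n) F)) (hr : r.Prime) (hR : IsPGroup r R) (hZ : Nat.card (Subgroup.center R) = r) (hext : commutator R = Subgroup.center R) (hexp : Monoid.exponent R = r ∨ Monoid.exponent R = 4) (hirr : Cfsg.Geo.ActsAbsolutelyIrreducibly (Cfsg.Geo.matrixSet R)) (g : Matrix.GeneralLinearGroup (Fin n) F) (hg : g ∈ Cfsg.Geo.subgroupNormalizer (R ⊔ Cfsg.Geo.scalars (Fin n) F)) (hϖ : ϖ.Prime) (hord : orderOf g = ϖ) (hns : g ∉ Cfsg.Geo.scalars (Fin n) F) (c : F) :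
    (ϖ = 2 → 4 * Module.finrank F (Module.End.eigenspace (Matrix.toLin' (g : Matrix (Fin n) (Fin n) F)) c) ≤ 3 * n) ∧
    (ϖ = 3 → 3 * Module.finrank F (Module.End.eigenspace (Matrix.toLin' (g : Matrix (Fin n) (Fin n) F)) c) ≤ 2 * n) ∧
    (3 < ϖ → 2 * Module.finrank F (Module.End.eigenspace (Matrix.toLin' (g : Matrix (Fin n) (Fin n) F)) c) ≤ n) ∧
    (ϖ = 3 → ¬ 3 ∣ n → 2 * Module.finrank F (Module.End.eigenspace (Matrix.toLin' (g : Matrix (Fin n) (Fin n) F)) c) ≤ n) := by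
  have h := Cfsg.Agent.Lib.Helper40.ExtraGL.cfg_of_hyps R hr hR hZ hext hirr
  have hgN : g ∈ Subgroup.normalizer ((R ⊔ Cfsg.Geo.scalars (Fin n) F : Subgroup
      (Cfsg.Agent.Lib.Helper40.ExtraGL.GLn n F)) : Set (Cfsg.Agent.Lib.Helper40.ExtraGL.GLn n F)) := hg
  have hns' : ¬ ∃ k : Fˣ, Cfsg.Agent.Lib.Helper40.ExtraGL.sc k = g :=
    fun hs => hns ((Cfsg.Agent.Lib.Helper40.ExtraGL.mem_scalars_iff_sc g).mpr hs)
  have hgϖ : g ^ ϖ = 1 := hord ▸ pow_orderOf_eq_one g
  have hbasic := Cfsg.Agent.Lib.Helper40.ExtraOrd.basic_bound h hgN hns' c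
  have hdvd : r ∣ n := h.dvd_degree
  have hr2 : 2 ≤ r := hr.two_le
  have hodd : ϖ ≠ 2 → ϖ ≠ r → 2 * Module.finrank F
      ((Cfsg.Agent.Lib.Helper40.ExtraGL.act g).eigenspace c) ≤ n :=
    fun h2 hne => Cfsg.Agent.Lib.Helper40.ExtraOrd.odd_ne_bound h hgN hns' hϖ h2 hne hgϖ c
  have heq : ϖ = r → r ≠ 2 → r * Module.finrank F
      ((Cfsg.Agent.Lib.Helper40.ExtraGL.act g).eigenspace c) ≤ 2 * n :=
    fun hϖr hr2' => Cfsg.Agent.Lib.Helper40.ExtraEq.eq_prime_bound h hr2' hgN hns' (hϖr ▸ hgϖ) c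
  show (ϖ = 2 → 4 * Module.finrank F ((Cfsg.Agent.Lib.Helper40.ExtraGL.act g).eigenspace c) ≤ 3 * n) ∧
    (ϖ = 3 → 3 * Module.finrank F ((Cfsg.Agent.Lib.Helper40.ExtraGL.act g).eigenspace c) ≤ 2 * n) ∧
    (3 < ϖ → 2 * Module.finrank F ((Cfsg.Agent.Lib.Helper40.ExtraGL.act g).eigenspace c) ≤ n) ∧
    (ϖ = 3 → ¬ 3 ∣ n → 2 * Module.finrank F ((Cfsg.Agent.Lib.Helper40.ExtraGL.act g).eigenspace c) ≤ n)
  generalize Module.finrank F ((Cfsg.Agent.Lib.Helper40.ExtraGL.act g).eigenspace c) = w at hbasic hodd heq ⊢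
  refine ⟨?_, ?_, ?_, ?_⟩
  · intro _
    -- 4 w ≤ 3 n from r (2 w) ≤ (r + 1) n and r ≥ 2
    have h1 : r * (4 * w) ≤ r * (3 * n) := by
      have e1 : r * (4 * w) = 2 * (r * (2 * w)) := by ring
      have e2 : (r + 1) * n = r * n + n := by ring
      have e3 : n * 2 ≤ n * r := Nat.mul_le_mul_left n hr2
      have e4 : r * (3 * n) = 3 * (r * n) := by ring
      rw [e1, e4]
      rw [e2] at hbasic
      nlinarith
    exact Nat.le_of_mul_le_mul_left h1 hr.pos
  · intro h3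
    by_cases hr3 : r = 3
    · rw [hr3] at hbasic
      omega
    · have := hodd (by omega) (by omega)
      omega
  · intro h3
    by_cases hϖr : ϖ = r
    · have h1 := heq hϖr (by omega)
      have h4 : 4 ≤ r := by omega
      have h5 : 4 * w ≤ r * w := Nat.mul_le_mul_right _ h4
      have h6 := le_trans h5 h1
      omega
    · exact hodd (by omega) hϖr
  · intro h3 hn3
    have hr3 : r ≠ 3 := fun h => hn3 (h ▸ hdvd)
    exact hodd (by omega) (by omega)

end Cfsg.Agent.S5877
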