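import Cfsg.Statements.S5887
import Mathlib

set_option autoImplicit false
open Cfsg Matrix

namespace Cfsg.Agent.S5887

section aux
variable {F : Type*} [Field F] {n : ℕ}

/-- a unipotent matrix `1 + E` with `E * E = 0` has determinant one -/
lemma det_one_add_of_sq_zero (E : Matrix (Fin n) (Fin n) F) (hE : E * E = 0) :
    (1 + E).det = 1 := by
  have hnil : IsNilpotent (-E) := ⟨2, by rw [pow_two, neg_mul_neg, hE]⟩
  have h1 := Matrix.isNilpotent_charpoly_sub_pow_of_isNilpotent hnil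
  have h2 : (-E).charpoly = Polynomial.X ^ Fintype.card (Fin n) := by
    rw [← sub_eq_zero]; exact h1.eq_zero
  have h3 := Matrix.eval_charpoly (-E) (1 : F)
  rw [h2, Polynomial.eval_pow, Polynomial.eval_X, one_pow, map_one, sub_neg_eq_add] at h3
  exact h3.symm


lemma lemmaD (K₀ K : Subalgebra F (Matrix (Fin n) (Fin n) F))
    (h01 : K₀ ≤ K) (hne : K₀ ≠ K)
    (hcomm : ∀ x ∈ K, ∀ y ∈ K, x * y = y * x)
    (hinv₀ : ∀ x ∈ K₀, x ≠ 0 → ∃ y ∈ K₀, x * y = 1)
    (hinv : ∀ x ∈ K, x ≠ 0 → ∃ y ∈ K, x * y = 1)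
    (hdim : Module.finrank F K < n) :
    ∃ g : GL (Fin n) F, g ∈ Cfsg.Geo.specialLinear (Fin n) F ∧
      (∀ a ∈ K₀, (g : Matrix (Fin n) (Fin n) F) * a = a * g) ∧
      g ∉ Cfsg.Geo.subalgebraNormalizer K := by
  classical
  have hn : 0 < n := by omega
  haveI : NeZero n := ⟨hn.ne'⟩
  -- a nonzero vector
  let v : Fin n → F := Pi.single 0 1
  have hv : v ≠ 0 := by
    intro h
    have := congrFun h 0
    simp [v] at this
  -- nonzero elements of K act injectively
  have hKinj : ∀ x ∈ K, x ≠ 0 → ∀ y : Fin n → F, x *ᵥ y = 0 → y = 0 := by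
    intro x hx hx0 y hy
    obtain ⟨x', hx', hxx'⟩ := hinv x hx hx0
    have h1 : x' * x = 1 := by rw [hcomm x' hx' x hx]; exact hxx'
    have : (x' * x) *ᵥ y = 0 := by rw [← Matrix.mulVec_mulVec, hy, Matrix.mulVec_zero]
    rwa [h1, Matrix.one_mulVec] at this
  -- evaluation at v
  let ev : Matrix (Fin n) (Fin n) F →ₗ[F] (Fin n → F) :=
    { toFun := fun k => k *ᵥ v
      map_add' := fun a b => Matrix.add_mulVec a b v
      map_smul' := fun c a => Matrix.smul_mulVec c a v }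
  let S : Submodule F (Fin n → F) := (Subalgebra.toSubmodule K).map ev
  have hS : Module.finrank F S < n := lt_of_le_of_lt (Submodule.finrank_map_le _ _) hdim
  have hSne : S ≠ ⊤ := by
    intro h
    rw [h, finrank_top, Module.finrank_fin_fun] at hS
    omega
  obtain ⟨u, hu⟩ : ∃ u, u ∉ S := by
    by_contra h
    push Not at h
    exact hSne (eq_top_iff.mpr fun x _ => h x)
  have hSmem : ∀ x ∈ K, x *ᵥ v ∈ S := fun x hx => ⟨x, hx, rfl⟩
  obtain ⟨k, hkK, hkK₀⟩ : ∃ k ∈ K, k ∉ K₀ := SetLike.exists_of_lt (lt_of_le_of_ne h01 hne)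
  -- field structure on K₀
  have hF : IsField K₀ :=
    { exists_pair_ne := ⟨0, 1, zero_ne_one⟩
      mul_comm := fun a b => Subtype.ext (hcomm _ (h01 a.2) _ (h01 b.2))
      mul_inv_cancel := fun {a} ha => by
        obtain ⟨y, hy, hxy⟩ := hinv₀ a.1 a.2 (fun h => ha (Subtype.ext h))
        exact ⟨⟨y, hy⟩, Subtype.ext hxy⟩ }
  letI : Field K₀ := hF.toField
  let ρ : K₀ →+* Module.End F (Fin n → F) :=
    ((Matrix.toLinAlgEquiv' : Matrix (Fin n) (Fin n) F ≃ₐ[F] _).toAlgHom.comp K₀.val).toRingHom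
  letI : Module K₀ (Fin n → F) := Module.compHom (Fin n → F) ρ
  have hsmul : ∀ (a : K₀) (x : Fin n → F), a • x = a.1 *ᵥ x := fun a x => rfl
  let w : Fin n → F := k *ᵥ v
  have hw : w ∉ Submodule.span K₀ ({v, u} : Set (Fin n → F)) := by
    rw [Submodule.mem_span_pair]
    rintro ⟨a, b, hab'⟩
    have hab : a.1 *ᵥ v + b.1 *ᵥ u = k *ᵥ v := hab'
    by_cases hb : b = 0
    · rw [hb] at hab
      have h1 : (k - a.1) *ᵥ v = 0 := by
        rw [Matrix.sub_mulVec, ← hab]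
        simp
      have h2 : k - a.1 ≠ 0 := by
        intro h
        apply hkK₀
        rw [sub_eq_zero.mp h]; exact a.2
      exact hv (hKinj _ (K.sub_mem hkK (h01 a.2)) h2 v h1)
    · obtain ⟨y, hy, hby⟩ := hinv₀ b.1 b.2 (fun h => hb (Subtype.ext h))
      have hyb : y * b.1 = 1 := by rw [hcomm y (h01 hy) b.1 (h01 b.2)]; exact hby
      have h1 : b.1 *ᵥ u = (k - a.1) *ᵥ v := by
        rw [Matrix.sub_mulVec, ← hab]; simp
      have h2 : u = (y * (k - a.1)) *ᵥ v := by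
        rw [← Matrix.mulVec_mulVec, ← h1, Matrix.mulVec_mulVec, hyb, Matrix.one_mulVec]
      apply hu
      rw [h2]
      exact hSmem _ (K.mul_mem (h01 hy) (K.sub_mem hkK (h01 a.2)))
  haveI : Module.Free K₀ ((Fin n → F) ⧸ Submodule.span K₀ ({v, u} : Set (Fin n → F))) :=
    Module.Free.of_divisionRing _ _
  obtain ⟨ψ, hψw, hψT⟩ := Submodule.exists_dual_map_eq_bot_of_notMem hw Module.Projective.of_free
  have hψzero : ∀ x ∈ Submodule.span K₀ ({v, u} : Set (Fin n → F)), ψ x = 0 := by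
    intro x hx
    have : ψ x ∈ Submodule.map ψ (Submodule.span K₀ ({v, u} : Set (Fin n → F))) := ⟨x, hx, rfl⟩
    rw [hψT] at this
    exact (Submodule.mem_bot _).mp this
  have hψv : ψ v = 0 := hψzero v (Submodule.subset_span (by simp))
  have hψu : ψ u = 0 := hψzero u (Submodule.subset_span (by simp))
  have hψsmul : ∀ (a : K₀) (x : Fin n → F), ψ (a.1 *ᵥ x) = a * ψ x := by
    intro a x
    have := ψ.map_smul a x
    rw [smul_eq_mul] at this
    exact this
  have hψF : ∀ (c : F) (x : Fin n → F), ψ (c • x) = algebraMap F K₀ c * ψ x := by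
    intro c x
    rw [← hψsmul]
    congr 1
    rw [Subalgebra.coe_algebraMap, Algebra.algebraMap_eq_smul_one, Matrix.smul_mulVec,
      Matrix.one_mulVec]
  let EF : (Fin n → F) →ₗ[F] (Fin n → F) :=
    { toFun := fun x => (ψ x).1 *ᵥ u
      map_add' := fun x y => by
        rw [map_add]
        show ((ψ x).1 + (ψ y).1) *ᵥ u = _
        rw [Matrix.add_mulVec]
      map_smul' := fun c x => by
        rw [hψF]
        show ((algebraMap F K₀ c).1 * (ψ x).1) *ᵥ u = c • ((ψ x).1 *ᵥ u)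
        rw [Subalgebra.coe_algebraMap, Algebra.algebraMap_eq_smul_one, Matrix.smul_mul,
          Matrix.one_mul, Matrix.smul_mulVec] }
  let E : Matrix (Fin n) (Fin n) F := LinearMap.toMatrix' EF
  have hE : ∀ x, E *ᵥ x = (ψ x).1 *ᵥ u := fun x => LinearMap.toMatrix'_mulVec EF x
  have hEE : E * E = 0 := by
    apply Matrix.mulVec_injective
    funext x
    rw [← Matrix.mulVec_mulVec, hE, hE, hψsmul, hψu, mul_zero]
    simp
  have hEa : ∀ a ∈ K₀, E * a = a * E := by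
    intro a ha
    apply Matrix.mulVec_injective
    funext x
    rw [← Matrix.mulVec_mulVec, ← Matrix.mulVec_mulVec, hE, hE, hψsmul ⟨a, ha⟩ x]
    show (a * (ψ x).1) *ᵥ u = _
    rw [Matrix.mulVec_mulVec]
  -- the unipotent element
  have h1 : (1 + E) * (1 - E) = 1 := by
    rw [mul_sub, mul_one, add_mul, one_mul, hEE]; abel
  have h2 : (1 - E) * (1 + E) = 1 := by
    rw [mul_add, mul_one, sub_mul, one_mul, hEE]; abel
  let g : GL (Fin n) F := ⟨1 + E, 1 - E, h1, h2⟩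
  have hgval : (g : Matrix (Fin n) (Fin n) F) = 1 + E := rfl
  have hginv : ((g⁻¹ : GL (Fin n) F) : Matrix (Fin n) (Fin n) F) = 1 - E := rfl
  refine ⟨g, ?_, ?_, ?_⟩
  · show Matrix.GeneralLinearGroup.det g = 1
    apply Units.ext
    show (g : Matrix (Fin n) (Fin n) F).det = 1
    rw [hgval]
    exact det_one_add_of_sq_zero E hEE
  · intro a ha
    rw [hgval, add_mul, one_mul, mul_add, mul_one, hEa a ha]
  · intro hg
    have hk' : (g : Matrix (Fin n) (Fin n) F) * k * ((g⁻¹ : GL (Fin n) F) : Matrix (Fin n) (Fin n) F) ∈ K :=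
      (hg k).mp hkK
    rw [hgval, hginv] at hk'
    set k' := (1 + E) * k * (1 - E) with hk'def
    have h3 : k' *ᵥ v = w + (ψ w).1 *ᵥ u := by
      rw [hk'def, ← Matrix.mulVec_mulVec, ← Matrix.mulVec_mulVec, Matrix.sub_mulVec,
        Matrix.one_mulVec, hE v, hψv]
      have : ((0 : K₀) : Matrix (Fin n) (Fin n) F) *ᵥ u = 0 := by
        show (0 : Matrix (Fin n) (Fin n) F) *ᵥ u = 0
        exact Matrix.zero_mulVec u
      rw [this, sub_zero, Matrix.add_mulVec, Matrix.one_mulVec, hE]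
    set c := ψ w with hc
    obtain ⟨y, hy, hcy⟩ := hinv₀ c.1 c.2 (fun h => hψw (Subtype.ext h))
    have hyc : y * c.1 = 1 := by rw [hcomm y (h01 hy) c.1 (h01 c.2)]; exact hcy
    have h4 : c.1 *ᵥ u = (k' - k) *ᵥ v := by
      rw [Matrix.sub_mulVec, h3]; simp [w]
    have h5 : u = (y * (k' - k)) *ᵥ v := by
      rw [← Matrix.mulVec_mulVec, ← h4, Matrix.mulVec_mulVec, hyc, Matrix.one_mulVec]
    apply hu
    rw [h5]
    exact hSmem _ (K.mul_mem (h01 hy) (K.sub_mem hk' hkK))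


/-- the fixed points of `x ↦ x ^ Q` in a commutative subalgebra, when `Q` is a power of the
characteristic that fixes the scalars -/
def fixedSub [Fintype F] (K : Subalgebra F (Matrix (Fin n) (Fin n) F))
    (hcomm : ∀ x ∈ K, ∀ y ∈ K, x * y = y * x) (d : ℕ) :
    Subalgebra F (Matrix (Fin n) (Fin n) F) where
  carrier := {x | x ∈ K ∧ x ^ (Fintype.card F ^ d) = x}
  mul_mem' := by
    rintro a b ⟨ha, ha'⟩ ⟨hb, hb'⟩
    refine ⟨K.mul_mem ha hb, ?_⟩
    rw [(show Commute a b from hcomm a ha b hb).mul_pow, ha', hb']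
  add_mem' := by
    rintro a b ⟨ha, ha'⟩ ⟨hb, hb'⟩
    refine ⟨K.add_mem ha hb, ?_⟩
    rcases Nat.eq_zero_or_pos n with hn | hn
    · subst hn
      exact Subsingleton.elim _ _
    haveI : NeZero n := ⟨hn.ne'⟩
    obtain ⟨p, hp⟩ := CharP.exists F
    obtain ⟨f, hpp, hf⟩ := FiniteField.card F p
    haveI : Fact p.Prime := ⟨hpp⟩
    rw [hf, ← pow_mul] at ha' hb' ⊢
    rw [add_pow_char_pow_of_commute p _ (show Commute a b from hcomm a ha b hb), ha', hb']
  algebraMap_mem' := by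
    intro c
    refine ⟨K.algebraMap_mem c, ?_⟩
    rw [← map_pow, FiniteField.pow_card_pow]

lemma mem_fixedSub [Fintype F] (K : Subalgebra F (Matrix (Fin n) (Fin n) F))
    (hcomm : ∀ x ∈ K, ∀ y ∈ K, x * y = y * x) (d : ℕ) (x : Matrix (Fin n) (Fin n) F) :
    x ∈ fixedSub K hcomm d ↔ x ∈ K ∧ x ^ (Fintype.card F ^ d) = x := Iff.rfl


lemma fixedSub_le [Fintype F] (K : Subalgebra F (Matrix (Fin n) (Fin n) F))
    (hcomm : ∀ x ∈ K, ∀ y ∈ K, x * y = y * x) (d : ℕ) : fixedSub K hcomm d ≤ K :=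
  fun _ hx => hx.1

lemma fixedSub_inv [Fintype F] (K : Subalgebra F (Matrix (Fin n) (Fin n) F))
    (hcomm : ∀ x ∈ K, ∀ y ∈ K, x * y = y * x)
    (hinv : ∀ x ∈ K, x ≠ 0 → ∃ y ∈ K, x * y = 1) (d : ℕ) :
    ∀ x ∈ fixedSub K hcomm d, x ≠ 0 → ∃ y ∈ fixedSub K hcomm d, x * y = 1 := by
  rintro x ⟨hx, hx'⟩ hx0
  obtain ⟨y, hy, hxy⟩ := hinv x hx hx0
  refine ⟨y, ⟨hy, ?_⟩, hxy⟩
  have hyx : y * x = 1 := by rw [hcomm y hy x hx]; exact hxy
  have h1 : x * y ^ (Fintype.card F ^ d) = 1 := by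
    have := (show Commute x y from hcomm x hx y hy).mul_pow (Fintype.card F ^ d)
    rw [hxy, one_pow, hx'] at this
    exact this.symm
  calc y ^ (Fintype.card F ^ d) = (y * x) * y ^ (Fintype.card F ^ d) := by rw [hyx, one_mul]
    _ = y * (x * y ^ (Fintype.card F ^ d)) := by rw [mul_assoc]
    _ = y := by rw [h1, mul_one]

lemma normalizer_le_fixedSub [Fintype F] (K : Subalgebra F (Matrix (Fin n) (Fin n) F))
    (hcomm : ∀ x ∈ K, ∀ y ∈ K, x * y = y * x) (d : ℕ) :
    Cfsg.Geo.subalgebraNormalizer K ≤ Cfsg.Geo.subalgebraNormalizer (fixedSub K hcomm d) := by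
  intro g hg k
  have hgk := hg k
  rw [mem_fixedSub, mem_fixedSub, Units.conj_pow]
  constructor
  · rintro ⟨h1, h2⟩
    exact ⟨hgk.mp h1, by rw [h2]⟩
  · rintro ⟨h1, h2⟩
    refine ⟨hgk.mpr h1, ?_⟩
    have h3 : ((g⁻¹ : GL (Fin n) F) : Matrix (Fin n) (Fin n) F) *
        ((g : Matrix (Fin n) (Fin n) F) * k ^ (Fintype.card F ^ d) *
          ((g⁻¹ : GL (Fin n) F) : Matrix (Fin n) (Fin n) F)) * (g : Matrix (Fin n) (Fin n) F) =
        ((g⁻¹ : GL (Fin n) F) : Matrix (Fin n) (Fin n) F) *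
        ((g : Matrix (Fin n) (Fin n) F) * k *
          ((g⁻¹ : GL (Fin n) F) : Matrix (Fin n) (Fin n) F)) * (g : Matrix (Fin n) (Fin n) F) := by
      rw [h2]
    simpa [mul_assoc] using h3


lemma pow_lt_arith (q d r : ℕ) (hq : 2 ≤ q) (hdr : d < r) : q ^ d - 1 < q ^ r - 1 := by
  have h1 : q ^ d < q ^ r := Nat.pow_lt_pow_right (by omega) hdr
  have h2 : 1 ≤ q ^ d := Nat.one_le_pow _ _ (by omega)
  omega

lemma pow_lt_arith' (q d : ℕ) (hq : 2 ≤ q) (hd : 2 ≤ d) : q - 1 < q ^ d - 1 := by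
  have := pow_lt_arith q 1 d hq (by omega)
  rwa [pow_one] at this

lemma fixedSub_ne [Fintype F] (K : Subalgebra F (Matrix (Fin n) (Fin n) F))
    (hcomm : ∀ x ∈ K, ∀ y ∈ K, x * y = y * x)
    (hinv : ∀ x ∈ K, x ≠ 0 → ∃ y ∈ K, x * y = 1) (r d : ℕ)
    (hfin : Module.finrank F K = r) (hd : d ∣ r) (hd2 : 2 ≤ d) (hdr : d < r) (hn : 0 < n) :
    fixedSub K hcomm d ≠ K ∧ (⊥ : Subalgebra F (Matrix (Fin n) (Fin n) F)) ≠ fixedSub K hcomm d := by
  classical
  haveI : NeZero n := ⟨hn.ne'⟩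
  have hF : IsField K :=
    { exists_pair_ne := ⟨0, 1, zero_ne_one⟩
      mul_comm := fun a b => Subtype.ext (hcomm _ a.2 _ b.2)
      mul_inv_cancel := fun {a} ha => by
        obtain ⟨y, hy, hxy⟩ := hinv a.1 a.2 (fun h => ha (Subtype.ext h))
        exact ⟨⟨y, hy⟩, Subtype.ext hxy⟩ }
  letI : Field K := hF.toField
  set q := Fintype.card F with hq
  have hq2 : 2 ≤ q := Fintype.one_lt_card
  have hcardK : Nat.card K = q ^ r := by
    rw [Module.natCard_eq_pow_finrank (K := F) (V := K), hfin, Nat.card_eq_fintype_card]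
  have hcardU : Nat.card Kˣ = q ^ r - 1 := by rw [Nat.card_units, hcardK]
  obtain ⟨ξ, hξ⟩ := IsCyclic.exists_generator (α := Kˣ)
  have hordξ : orderOf ξ = q ^ r - 1 := by
    rw [orderOf_eq_card_of_forall_mem_zpowers hξ, hcardU]
  -- powers of the matrix of a unit
  have hpow : ∀ (η : Kˣ) (j : ℕ), (η.1.1 : Matrix (Fin n) (Fin n) F) ^ j = ((η ^ j : Kˣ).1).1 := by
    intro η j
    rw [Units.val_pow_eq_pow_val, SubmonoidClass.coe_pow]
  have hfix : ∀ η : Kˣ, (η.1.1 : Matrix (Fin n) (Fin n) F) ^ (q ^ d) = η.1.1 ↔ η ^ (q ^ d - 1) = 1 := by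
    intro η
    have h1 : 1 ≤ q ^ d := Nat.one_le_pow _ _ (by omega)
    rw [hpow]
    constructor
    · intro h
      have h2 : η ^ (q ^ d) = η := Units.ext (Subtype.ext h)
      have h3 : η ^ (q ^ d - 1) * η = 1 * η := by
        rw [← pow_succ, Nat.sub_add_cancel h1, one_mul, h2]
      exact mul_right_cancel h3
    · intro h
      have h2 : η ^ (q ^ d) = η := by
        rw [← Nat.sub_add_cancel h1, pow_succ, h, one_mul]
      rw [h2]
  constructor
  · intro heq
    have h1 : (ξ.1.1 : Matrix (Fin n) (Fin n) F) ∈ fixedSub K hcomm d := by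
      rw [heq]; exact ξ.1.2
    have h2 := (hfix ξ).mp h1.2
    have h3 : q ^ r - 1 ∣ q ^ d - 1 := by
      rw [← hordξ]; exact orderOf_dvd_of_pow_eq_one h2
    have h4 := pow_lt_arith q d r hq2 hdr
    have h5 : 0 < q ^ d - 1 := by
      have := pow_lt_arith' q d hq2 hd2
      omega
    exact absurd (Nat.le_of_dvd h5 h3) (by omega)
  · intro heq
    obtain ⟨e, rfl⟩ := hd
    have hdvd : q ^ d - 1 ∣ q ^ (d * e) - 1 := by
      rw [pow_mul]
      simpa using Nat.sub_dvd_pow_sub_pow (q ^ d) 1 e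
    have hpos : 0 < q ^ d - 1 := by
      have := pow_lt_arith' q d hq2 hd2
      omega
    have hpos' : 0 < q ^ (d * e) - 1 := lt_of_lt_of_le hpos (Nat.le_of_dvd (by
      have := pow_lt_arith q d (d * e) hq2 hdr; omega) hdvd)
    set j := (q ^ (d * e) - 1) / (q ^ d - 1) with hj
    have hjmul : j * (q ^ d - 1) = q ^ (d * e) - 1 := Nat.div_mul_cancel hdvd
    have hj0 : j ≠ 0 := by
      intro h
      rw [h, zero_mul] at hjmul
      omega
    have hjdvd : j ∣ orderOf ξ := by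
      rw [hordξ]; exact ⟨q ^ d - 1, hjmul.symm⟩
    set ζ := ξ ^ j with hζ
    have hordζ : orderOf ζ = q ^ d - 1 := by
      rw [hζ, orderOf_pow_of_dvd hj0 hjdvd, hordξ]
      exact Nat.div_eq_of_eq_mul_right (Nat.pos_of_ne_zero hj0) hjmul.symm
    have hζfix : ζ ^ (q ^ d - 1) = 1 := by
      rw [← hordζ]; exact pow_orderOf_eq_one ζ
    have hζmem : (ζ.1.1 : Matrix (Fin n) (Fin n) F) ∈ fixedSub K hcomm d :=
      ⟨ζ.1.2, (hfix ζ).mpr hζfix⟩
    rw [← heq, Algebra.mem_bot] at hζmem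
    obtain ⟨c, hc⟩ := hζmem
    have hc0 : c ≠ 0 := by
      rintro rfl
      rw [map_zero] at hc
      have : (ζ.1 : K) = 0 := Subtype.ext hc.symm
      exact ζ.ne_zero this
    have hcpow : c ^ (q - 1) = 1 := FiniteField.pow_card_sub_one_eq_one c hc0
    have h1 : (ζ.1.1 : Matrix (Fin n) (Fin n) F) ^ (q - 1) = 1 := by
      rw [← hc, ← map_pow, hcpow, map_one]
    have h2 : ζ ^ (q - 1) = 1 := by
      apply Units.ext
      apply Subtype.ext
      rw [← hpow, h1]; rfl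
    have h3 : q ^ d - 1 ∣ q - 1 := by
      rw [← hordζ]; exact orderOf_dvd_of_pow_eq_one h2
    have h4 : q - 1 < q ^ d - 1 := pow_lt_arith' q d hq2 hd2
    exact absurd (Nat.le_of_dvd (by omega) h3) (by omega)


end aux


/-- Let F be a finite field, n a positive integer and r a composite number (r > 1, not prime) that divides n with r < n. Let K be a subalgebra of the algebra of n × n matrices over F which is a field of degree r over F (commutative, every non-zero element invertible, of dimension r over F). Then the normaliser N of K in GL_n(F) (a group of type ΓL_{n/r}(F_{q^r})) is not a maximal subgroup of GL_n(F), and N ∩ SL_n(F) is not a maximal subgroup of SL_n(F): both lie properly inside the normaliser of an intermediate subfield of prime degree over F. -/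
theorem result {F : Type*} [Field F]
    [Fintype F] (n r : ℕ) (hr1 : 1 < r) (hrp : ¬ r.Prime) (hrn : r ∣ n) (hlt : r < n)
    (K : Subalgebra F (Matrix (Fin n) (Fin n) F)) (hK : Cfsg.Geo.IsFieldSubalgebra r K) :
    ¬ IsCoatom (Cfsg.Geo.subalgebraNormalizer K) ∧
      ¬ Cfsg.Geo.IsMaximalIn (Cfsg.Geo.specialLinear (Fin n) F)
        (Cfsg.Geo.subalgebraNormalizer K ⊓ Cfsg.Geo.specialLinear (Fin n) F) := by
  classical
  have hn : 0 < n := by omega
  obtain ⟨d, hdr, hd2, hdlt⟩ := Nat.exists_dvd_of_not_prime2 (by omega : 2 ≤ r) hrp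
  set K₀ := fixedSub K hK.comm d with hK₀
  have h01 : K₀ ≤ K := fixedSub_le K hK.comm d
  have hinv₀ := fixedSub_inv K hK.comm hK.inv d
  obtain ⟨hne, hbot⟩ := fixedSub_ne K hK.comm hK.inv r d hK.finrank_eq hdr hd2 hdlt hn
  have hN := normalizer_le_fixedSub K hK.comm d
  have hcomm₀ : ∀ x ∈ K₀, ∀ y ∈ K₀, x * y = y * x :=
    fun x hx y hy => hK.comm x (h01 hx) y (h01 hy)
  have hinvbot : ∀ x ∈ (⊥ : Subalgebra F (Matrix (Fin n) (Fin n) F)), x ≠ 0 →
      ∃ y ∈ (⊥ : Subalgebra F (Matrix (Fin n) (Fin n) F)), x * y = 1 := by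
    intro x hx hx0
    rw [Algebra.mem_bot] at hx
    obtain ⟨c, rfl⟩ := hx
    have hc : c ≠ 0 := by
      rintro rfl
      exact hx0 (map_zero _)
    refine ⟨algebraMap F _ c⁻¹, Subalgebra.algebraMap_mem _ _, ?_⟩
    rw [← map_mul, mul_inv_cancel₀ hc, map_one]
  have hdimK : Module.finrank F K < n := by rw [hK.finrank_eq]; exact hlt
  have hdimK₀ : Module.finrank F K₀ < n := by
    refine lt_of_le_of_lt ?_ hdimK
    exact Submodule.finrank_mono (show Subalgebra.toSubmodule K₀ ≤ Subalgebra.toSubmodule K from h01)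
  obtain ⟨g₁, hg₁SL, hg₁c, hg₁N⟩ := lemmaD K₀ K h01 hne hK.comm hinv₀ hK.inv hdimK
  obtain ⟨g₂, hg₂SL, -, hg₂N⟩ := lemmaD ⊥ K₀ bot_le hbot hcomm₀ hinvbot hinv₀ hdimK₀
  have hg₁N₀ : g₁ ∈ Cfsg.Geo.subalgebraNormalizer K₀ := by
    intro k
    constructor
    · intro hk
      rw [hg₁c k hk, mul_assoc, Units.mul_inv, mul_one]
      exact hk
    · intro hk
      have h1 := hg₁c _ hk
      have h2 : k = ((g₁⁻¹ : GL (Fin n) F) : Matrix (Fin n) (Fin n) F) *
          ((g₁ : Matrix (Fin n) (Fin n) F) * k *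
            ((g₁⁻¹ : GL (Fin n) F) : Matrix (Fin n) (Fin n) F)) * (g₁ : Matrix (Fin n) (Fin n) F) := by
        simp [mul_assoc]
      rw [h2, mul_assoc, ← h1, ← mul_assoc, Units.inv_mul, one_mul]
      exact hk
  constructor
  · intro hco
    have hlt' : Cfsg.Geo.subalgebraNormalizer K < Cfsg.Geo.subalgebraNormalizer K₀ :=
      lt_of_le_of_ne hN (fun h => hg₁N (h ▸ hg₁N₀))
    have := hco.2 _ hlt'
    apply hg₂N
    rw [this]
    exact Subgroup.mem_top _
  · rintro ⟨-, hmax⟩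
    rcases hmax (Cfsg.Geo.subalgebraNormalizer K₀ ⊓ Cfsg.Geo.specialLinear (Fin n) F)
      (inf_le_inf_right _ hN) inf_le_right with h | h
    · have : g₁ ∈ Cfsg.Geo.subalgebraNormalizer K₀ ⊓ Cfsg.Geo.specialLinear (Fin n) F :=
        ⟨hg₁N₀, hg₁SL⟩
      rw [h] at this
      exact hg₁N this.1
    · have : g₂ ∈ Cfsg.Geo.subalgebraNormalizer K₀ ⊓ Cfsg.Geo.specialLinear (Fin n) F := by
        rw [h]; exact hg₂SL
      exact hg₂N this.1

end Cfsg.Agent.S5887
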