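import Cfsg.Statements.S5890
import Cfsg.Agent.Lib.Helper98.PGLM4

set_option autoImplicit false
open Cfsg

namespace Cfsg.Agent.S5890

/-- Let F be a finite field with q ≥ 4 elements, let L ≤ PGL₂(F) be the image of SL₂(F) (a copy of PSL₂(F), of index gcd(2, q − 1)), and let M be a maximal subgroup of PGL₂(F) that does not contain L. Suppose q ∉ {7, 9, 11} and that q is not a prime congruent to ±11 or ±19 modulo 40. Then M ∩ L is a maximal subgroup of L. (For the excluded q there are maximal subgroups of PGL₂(q) — dihedral groups of order 12 and 16 at q = 7, of order 20 and 16 at q = 9, of order 20 at q = 11, and S₄ at the excluded primes — whose intersection with L is not maximal in L.) -/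
theorem result {F : Type*} [Field F]
    [Fintype F] (h4 : 4 ≤ Fintype.card F) (h7 : Fintype.card F ≠ 7) (h9 : Fintype.card F ≠ 9) (h11 : Fintype.card F ≠ 11)
    (h40 : (Fintype.card F).Prime → Fintype.card F % 40 ∉ ({11, 19, 21, 29} : Finset ℕ))
    (M : Subgroup (Matrix.ProjGenLinGroup (Fin 2) F)) (hM : IsCoatom M)
    (hML : ¬ (Matrix.ProjGenLinGroup.mk.comp Matrix.SpecialLinearGroup.toGL).range ≤ M) :
    IsCoatom ((M ⊓ (Matrix.ProjGenLinGroup.mk.comp Matrix.SpecialLinearGroup.toGL).range).subgroupOf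
      (Matrix.ProjGenLinGroup.mk.comp Matrix.SpecialLinearGroup.toGL).range) := by
  classical
  open Cfsg.Agent.Lib.Helper98.PGLM Cfsg.Agent.Lib.Helper98.PGL2 in
  show IsCoatom ((M ⊓ (LG : Subgroup (Matrix.ProjGenLinGroup (Fin 2) F))).subgroupOf
    (LG : Subgroup (Matrix.ProjGenLinGroup (Fin 2) F)))
  rcases Nat.mod_two_eq_zero_or_one (Fintype.card F) with heven | hodd'
  · have htop := Cfsg.Agent.Lib.Helper98.PGLM.LG_eq_top_of_even (F := F) heven
    rw [htop, inf_top_eq]
    exact Cfsg.Agent.Lib.Helper98.PGLM.isCoatom_subgroupOf_top M hM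
  · have hodd : Odd (Fintype.card F) := Nat.odd_iff.2 hodd'
    have h5 : 5 ≤ Fintype.card F := by
      rcases hodd with ⟨c, hc⟩
      omega
    obtain ⟨p, hp⟩ := CharP.exists F
    haveI := hp
    haveI : Fact p.Prime := ⟨CharP.char_is_prime F p⟩
    have h40' : (Fintype.card F).Prime → ¬ (Fintype.card F % 40 = 11 ∨ Fintype.card F % 40 = 19 ∨
        Fintype.card F % 40 = 21 ∨ Fintype.card F % 40 = 29) := by
      intro hq hcon
      apply h40 hq
      simp only [Finset.mem_insert, Finset.mem_singleton]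
      exact hcon
    exact Cfsg.Agent.Lib.Helper98.PGLM.isCoatom_subgroupOf_LG _
      (Cfsg.Agent.Lib.Helper98.PGLM.inter_isCoatom_odd p hodd h5 h7 h9 h11 h40' M hM hML)

end Cfsg.Agent.S5890
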