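import Cfsg.Statements.S5894

set_option autoImplicit false
open Cfsg
open scoped Pointwise

namespace Cfsg.Agent.S5894

theorem isCoatom_map_subgroupOf_range {G G' : Type*} [Group G] [Group G'] (φ : G →* G')
    (hφ : Function.Injective φ) (A : Subgroup G) (hA : IsCoatom A) :
    IsCoatom ((A.map φ).subgroupOf φ.range) := by
  let e : G ≃* φ.range := MonoidHom.ofInjective hφ
  have h1 : IsCoatom (e.mapSubgroup A) := (OrderIso.isCoatom_iff e.mapSubgroup A).mpr hA
  have h2 : e.mapSubgroup A = (A.map φ).subgroupOf φ.range := by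
    ext ⟨y, hy⟩
    simp only [MulEquiv.mapSubgroup_apply, Subgroup.mem_map, Subgroup.mem_subgroupOf]
    constructor
    · rintro ⟨a, ha, hay⟩
      refine ⟨a, ha, ?_⟩
      exact congrArg Subtype.val hay
    · rintro ⟨a, ha, hay⟩
      refine ⟨a, ha, ?_⟩
      apply Subtype.ext
      exact hay
  rw [← h2]; exact h1


/-- For every m ≥ 2 the symmetric group on 2m letters has a maximal subgroup M of index 2m together with a maximal subgroup H of M that is not second maximal: some maximal subgroup K of the symmetric group contains H without H being maximal in K. (One may take M the stabiliser of a letter, H ≅ S_m × S_{m−1} inside it, and K ≅ S_m ≀ S₂ the stabiliser of a partition into two m-sets, with H < S_m × S_m < K.) So the prime-index hypothesis in the second-maximality criterion cannot be relaxed to any even index ≥ 4. -/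
theorem result (m : ℕ) (hm : 2 ≤ m) :
    ∃ M H K : Subgroup (Equiv.Perm (Fin (2 * m))), IsCoatom M ∧ M.index = 2 * m ∧ H ≤ M ∧ IsCoatom (H.subgroupOf M) ∧
      IsCoatom K ∧ H ≤ K ∧ ¬ IsCoatom (H.subgroupOf K) := by
  classical
  have h2m : 0 < 2 * m := by omega
  let z : Fin (2 * m) := ⟨0, h2m⟩
  let z' : Fin (2 * m) := ⟨1, by omega⟩
  let w : Fin (2 * m) := ⟨m, by omega⟩
  have hz'z : z' ≠ z := by simp [z, z', Fin.ext_iff]
  have hwz : w ≠ z := by simp [z, w, Fin.ext_iff]; omega
  let p : Fin (2 * m) → Prop := fun x => x ≠ z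
  let φ : Equiv.Perm (Subtype p) →* Equiv.Perm (Fin (2 * m)) := Equiv.Perm.ofSubtype
  have hφ : Function.Injective φ := Equiv.Perm.ofSubtype_injective
  let O : Set (Fin (2 * m)) := {x | x.val < m}
  let s : Set (Subtype p) := {x | x.val ∈ O}
  have hMrange : MulAction.stabilizer (Equiv.Perm (Fin (2 * m))) z = φ.range := by
    ext g
    rw [Equiv.Perm.mem_range_ofSubtype_iff, MulAction.mem_stabilizer_iff]
    constructor
    · intro hg x hx
      simp only [Finset.mem_coe, Equiv.Perm.mem_support] at hx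
      show x ≠ z
      rintro rfl
      exact hx hg
    · intro hg
      by_contra hne
      have : z ∈ (g.support : Set (Fin (2 * m))) := by
        simp only [Finset.mem_coe, Equiv.Perm.mem_support]; exact hne
      exact (hg this) rfl
  have hcardp : Nat.card (Subtype p) + 1 = 2 * m := by
    rw [Nat.card_eq_fintype_card, Fintype.card_subtype_compl, Fintype.card_subtype_eq,
      Fintype.card_fin]
    omega
  have hAco : IsCoatom (MulAction.stabilizer (Equiv.Perm (Subtype p)) s) := by
    apply Equiv.Perm.isCoatom_stabilizer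
    · exact ⟨⟨z', hz'z⟩, by show (1 : ℕ) < m; omega⟩
    · exact ⟨⟨w, hwz⟩, by show ¬ (m < m); omega⟩
    · omega
  refine ⟨MulAction.stabilizer (Equiv.Perm (Fin (2 * m))) z,
    (MulAction.stabilizer (Equiv.Perm (Subtype p)) s).map φ, ?_⟩
  -- the partition stabilizer
  set K₀ : Subgroup (Equiv.Perm (Fin (2 * m))) :=
    MulAction.stabilizer (Equiv.Perm (Fin (2 * m))) ({O, Oᶜ} : Set (Set (Fin (2 * m)))) with hK₀
  have hmemK : ∀ σ : Equiv.Perm (Fin (2 * m)),
      σ ∈ K₀ ↔ ({σ • O, (σ • O)ᶜ} : Set (Set (Fin (2 * m)))) = {O, Oᶜ} := by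
    intro σ
    rw [hK₀, MulAction.mem_stabilizer_iff, Set.smul_set_insert, Set.smul_set_singleton,
      Set.smul_set_compl]
  have hzO : z ∈ O := by show (0 : ℕ) < m; omega
  have hz'O : z' ∈ O := by show (1 : ℕ) < m; omega
  have hwO : w ∉ O := by show ¬ (m < m); omega
  have hK₀top : K₀ ≠ ⊤ := by
    intro htop
    have ht : Equiv.swap z w ∈ K₀ := htop ▸ Subgroup.mem_top _
    rw [hmemK] at ht
    have h1 : Equiv.swap z w • O ∈ ({O, Oᶜ} : Set (Set (Fin (2 * m)))) := by
      rw [← ht]; exact Set.mem_insert _ _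
    have hb_mem : w ∈ Equiv.swap z w • O := ⟨z, hzO, by simp⟩
    have ha'_mem : z' ∈ Equiv.swap z w • O :=
      ⟨z', hz'O, by
        have hz'w : z' ≠ w := fun h => hwO (h ▸ hz'O)
        simp [Equiv.swap_apply_of_ne_of_ne hz'z hz'w]⟩
    rcases h1 with h1 | h1
    · rw [h1] at hb_mem; exact hwO hb_mem
    · rw [Set.mem_singleton_iff] at h1
      rw [h1] at ha'_mem; exact ha'_mem hz'O
  obtain ⟨K, hK, hK₀K⟩ := (eq_top_or_exists_le_coatom K₀).resolve_left hK₀top
  have hStabK₀ : MulAction.stabilizer (Equiv.Perm (Fin (2 * m))) O ≤ K₀ := by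
    intro σ hσ
    rw [MulAction.mem_stabilizer_iff] at hσ
    rw [hmemK, hσ]
  have hHStab : (MulAction.stabilizer (Equiv.Perm (Subtype p)) s).map φ ≤
      MulAction.stabilizer (Equiv.Perm (Fin (2 * m))) O := by
    rintro _ ⟨τ, hτ, rfl⟩
    rw [MulAction.mem_stabilizer_set_iff_smul_set_subset (Set.toFinite O)]
    rintro _ ⟨x, hx, rfl⟩
    show φ τ x ∈ O
    by_cases hxz : x = z
    · have : φ τ x = x := Equiv.Perm.ofSubtype_apply_of_not_mem τ (by simpa [p] using hxz)
      rw [this]; exact hx
    · have : φ τ x = τ ⟨x, hxz⟩ := Equiv.Perm.ofSubtype_apply_of_mem τ hxz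
      rw [this]
      have hmem : τ ⟨x, hxz⟩ ∈ τ • s := ⟨⟨x, hxz⟩, hx, rfl⟩
      have hτ' : τ • s = s := MulAction.mem_stabilizer_iff.mp hτ
      rw [hτ'] at hmem
      exact hmem
  refine ⟨K, ?_, ?_, ?_, ?_, hK, hHStab.trans (hStabK₀.trans hK₀K), ?_⟩
  · -- M coatom
    have := Equiv.Perm.isCoatom_stabilizer (α := Fin (2 * m)) (s := {z})
      (Set.singleton_nonempty z) ⟨w, by simpa using hwz⟩
      (by rw [Nat.card_eq_fintype_card, Fintype.card_fin, Set.ncard_singleton]; omega)
    rwa [MulAction.stabilizer_singleton] at this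
  · -- index
    rw [MulAction.index_stabilizer_of_transitive, Nat.card_eq_fintype_card, Fintype.card_fin]
  · rw [hMrange]; exact Subgroup.map_le_range φ _
  · rw [hMrange]; exact isCoatom_map_subgroupOf_range φ hφ _ hAco
  · -- not coatom in K
    intro hco
    have hlt : ((MulAction.stabilizer (Equiv.Perm (Subtype p)) s).map φ).subgroupOf K <
        (MulAction.stabilizer (Equiv.Perm (Fin (2 * m))) O).subgroupOf K := by
      refine lt_of_le_of_ne (Subgroup.comap_mono hHStab) ?_
      intro heq
      have hsw : Equiv.swap z z' ∈ MulAction.stabilizer (Equiv.Perm (Fin (2 * m))) O :=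
        Equiv.Perm.swap_mem_stabilizer hzO hz'O
      have hswK : Equiv.swap z z' ∈ K := hK₀K (hStabK₀ hsw)
      have h1 : (⟨Equiv.swap z z', hswK⟩ : K) ∈
          (MulAction.stabilizer (Equiv.Perm (Fin (2 * m))) O).subgroupOf K := hsw
      rw [← heq] at h1
      have h2 : Equiv.swap z z' ∈ (MulAction.stabilizer (Equiv.Perm (Subtype p)) s).map φ := h1
      have h3 : Equiv.swap z z' ∈ MulAction.stabilizer (Equiv.Perm (Fin (2 * m))) z := by
        rw [hMrange]; exact Subgroup.map_le_range φ _ h2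
      rw [MulAction.mem_stabilizer_iff] at h3
      simp at h3
      exact hz'z h3
    have htop := hco.2 _ hlt
    rw [Subgroup.subgroupOf_eq_top] at htop
    -- Fin.revPerm is in K₀ but not in the stabilizer of O
    have hrev : (Fin.revPerm : Equiv.Perm (Fin (2 * m))) • O = Oᶜ := by
      ext x
      rw [Set.mem_smul_set_iff_inv_smul_mem]
      show ((Fin.revPerm : Equiv.Perm (Fin (2 * m)))⁻¹ x).val < m ↔ ¬ (x.val < m)
      have : (Fin.revPerm : Equiv.Perm (Fin (2 * m)))⁻¹ x = Fin.rev x := by
        rw [Equiv.Perm.inv_def]; simp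
      rw [this, Fin.val_rev]
      omega
    have hrevK₀ : (Fin.revPerm : Equiv.Perm (Fin (2 * m))) ∈ K₀ := by
      rw [hmemK, hrev, compl_compl, Set.pair_comm]
    have := htop (hK₀K hrevK₀)
    rw [MulAction.mem_stabilizer_iff, hrev] at this
    have hz : z ∈ Oᶜ := by rw [this]; exact hzO
    exact hz hzO

end Cfsg.Agent.S5894
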