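import Cfsg.Statements.S5895

set_option autoImplicit false
open Cfsg

namespace Cfsg.Agent.S5895

open SemidirectProduct

theorem isCoatom_map_subgroupOf_range {G G' : Type*} [Group G] [Group G'] (φ : G →* G')
    (hφ : Function.Injective φ) (A : Subgroup G) (hA : IsCoatom A) :
    IsCoatom ((A.map φ).subgroupOf φ.range) := by
  let e : G ≃* φ.range := MonoidHom.ofInjective hφ
  have h1 : IsCoatom (e.mapSubgroup A) := (OrderIso.isCoatom_iff e.mapSubgroup A).mpr hA
  have h2 : e.mapSubgroup A = (A.map φ).subgroupOf φ.range := by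
    ext ⟨y, hy⟩
    simp only [MulEquiv.mapSubgroup_apply, Subgroup.mem_map, Subgroup.mem_subgroupOf]
    constructor
    · rintro ⟨a, ha, hay⟩
      exact ⟨a, ha, congrArg Subtype.val hay⟩
    · rintro ⟨a, ha, hay⟩
      exact ⟨a, ha, Subtype.ext hay⟩
  rw [← h2]; exact h1

section abstract

variable {N L : Type*} [Group N] [Group L] (ψ : L →* MulAut N)

theorem isCoatom_range_inr [Nontrivial N]
    (hirr : ∀ W : Subgroup N, (∀ l : L, ∀ v ∈ W, ψ l v ∈ W) → W = ⊥ ∨ W = ⊤) :
    IsCoatom (inr : L →* N ⋊[ψ] L).range := by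
  constructor
  · intro h
    obtain ⟨v, hv⟩ := exists_ne (1 : N)
    have hmem : (inl v : N ⋊[ψ] L) ∈ (inr : L →* N ⋊[ψ] L).range := h ▸ Subgroup.mem_top _
    obtain ⟨l, hl⟩ := hmem
    have := congrArg SemidirectProduct.left hl
    simp at this
    exact hv this.symm
  · intro X hX
    set W : Subgroup N := X.comap (inl : N →* N ⋊[ψ] L) with hW
    have hinv : ∀ l : L, ∀ v ∈ W, ψ l v ∈ W := by
      intro l v hv
      show (inl (ψ l v) : N ⋊[ψ] L) ∈ X
      rw [inl_aut]
      have hl : (inr l : N ⋊[ψ] L) ∈ X := hX.le ⟨l, rfl⟩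
      exact X.mul_mem (X.mul_mem hl hv) (by rw [map_inv]; exact X.inv_mem hl)
    have hne : W ≠ ⊥ := by
      obtain ⟨g, hgX, hgM⟩ := SetLike.exists_of_lt hX
      intro hbot
      have hr : (inr g.right : N ⋊[ψ] L) ∈ X := hX.le ⟨g.right, rfl⟩
      have hl : (inl g.left : N ⋊[ψ] L) ∈ X := by
        have h3 := X.mul_mem hgX (X.inv_mem hr)
        have h4 : g * (inr g.right : N ⋊[ψ] L)⁻¹ = inl g.left := by
          rw [mul_inv_eq_iff_eq_mul, inl_left_mul_inr_right]
        rwa [h4] at h3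
      have : g.left ∈ W := hl
      rw [hbot, Subgroup.mem_bot] at this
      apply hgM
      refine ⟨g.right, ?_⟩
      conv_rhs => rw [← inl_left_mul_inr_right g, this, map_one, one_mul]
    have hWtop := (hirr W hinv).resolve_left hne
    rw [eq_top_iff]
    intro g _
    rw [← inl_left_mul_inr_right g]
    have hgl : g.left ∈ W := hWtop ▸ Subgroup.mem_top _
    exact X.mul_mem hgl (hX.le ⟨g.right, rfl⟩)

theorem index_range_inr [Finite N] [Finite L] :
    (inr : L →* N ⋊[ψ] L).range.index = Nat.card N := by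
  have h1 := Subgroup.index_mul_card (inr : L →* N ⋊[ψ] L).range
  have h2 : Nat.card (inr : L →* N ⋊[ψ] L).range = Nat.card L :=
    Nat.card_congr (MonoidHom.ofInjective (inr_injective (φ := ψ))).toEquiv.symm
  rw [h2, SemidirectProduct.card] at h1
  exact Nat.eq_of_mul_eq_mul_right Nat.card_pos h1

/-- The subgroup `W ⋊ H₀`. -/
def prodSub (W : Subgroup N) (H₀ : Subgroup L) (hinv : ∀ l ∈ H₀, ∀ v ∈ W, ψ l v ∈ W) :
    Subgroup (N ⋊[ψ] L) where
  carrier := {g | g.left ∈ W ∧ g.right ∈ H₀}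
  mul_mem' := by
    rintro a b ⟨ha1, ha2⟩ ⟨hb1, hb2⟩
    exact ⟨W.mul_mem ha1 (hinv _ ha2 _ hb1), H₀.mul_mem ha2 hb2⟩
  one_mem' := ⟨W.one_mem, H₀.one_mem⟩
  inv_mem' := by
    rintro a ⟨ha1, ha2⟩
    exact ⟨hinv _ (H₀.inv_mem ha2) _ (W.inv_mem ha1), H₀.inv_mem ha2⟩

theorem not_isCoatom_of_invariant (W : Subgroup N) (H₀ : Subgroup L)
    (hinv : ∀ l ∈ H₀, ∀ v ∈ W, ψ l v ∈ W) (hbot : W ≠ ⊥) (htop : W ≠ ⊤) :
    ¬ IsCoatom ((H₀.map (inr : L →* N ⋊[ψ] L)).subgroupOf
      (H₀.comap (rightHom : N ⋊[ψ] L →* L))) := by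
  intro hco
  set H := H₀.map (inr : L →* N ⋊[ψ] L) with hH
  set K := H₀.comap (rightHom : N ⋊[ψ] L →* L) with hK
  set J := prodSub ψ W H₀ hinv with hJ
  have hHJ : H ≤ J := by
    rintro _ ⟨h, hh, rfl⟩
    exact ⟨by simp [W.one_mem], by simpa using hh⟩
  have hJK : J ≤ K := by
    rintro g ⟨_, hg2⟩
    exact hg2
  obtain ⟨w, hwW, hw1⟩ : ∃ w ∈ W, w ≠ 1 := by
    by_contra hcon
    push Not at hcon
    exact hbot ((Subgroup.eq_bot_iff_forall W).mpr hcon)
  obtain ⟨v, hvW⟩ : ∃ v, v ∉ W := by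
    by_contra hcon
    push Not at hcon
    exact htop ((Subgroup.eq_top_iff' W).mpr hcon)
  have hlt : H.subgroupOf K < J.subgroupOf K := by
    refine lt_of_le_of_ne (Subgroup.comap_mono hHJ) ?_
    intro heq
    have hwJ : (inl w : N ⋊[ψ] L) ∈ J := ⟨by simpa using hwW, by simp [H₀.one_mem]⟩
    have hwK : (inl w : N ⋊[ψ] L) ∈ K := hJK hwJ
    have h1 : (⟨inl w, hwK⟩ : K) ∈ J.subgroupOf K := hwJ
    rw [← heq] at h1
    have h2 : (inl w : N ⋊[ψ] L) ∈ H := h1
    obtain ⟨h, _, hh⟩ := h2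
    have := congrArg SemidirectProduct.left hh
    simp at this
    exact hw1 this.symm
  have hJtop := hco.2 _ hlt
  rw [Subgroup.subgroupOf_eq_top] at hJtop
  have hvK : (inl v : N ⋊[ψ] L) ∈ K := by
    show rightHom (inl v : N ⋊[ψ] L) ∈ H₀
    simp [H₀.one_mem]
  have := hJtop hvK
  exact hvW (by simpa using this.1)

end abstract


section main

variable {N A : Type} [Group N] [Group A] [Finite N] [Finite A] (φ : A →* MulAut N)

/-- Irreducibility of a subgroup of the acting group. -/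
def Irr (L : Subgroup A) : Prop :=
  ∀ W : Subgroup N, (∀ l ∈ L, ∀ v ∈ W, φ l v ∈ W) → W = ⊥ ∨ W = ⊤

theorem abstract_main (hirr : Irr φ ⊤) (W₀ : Subgroup N) (h₀ : W₀ ≠ ⊥) (h₁ : W₀ ≠ ⊤) :
    ∃ (G : Type) (_ : Group G) (_ : Finite G) (M H K : Subgroup G), IsCoatom M ∧
      M.index = Nat.card N ∧ H ≤ M ∧
      IsCoatom (H.subgroupOf M) ∧ IsCoatom K ∧ H ≤ K ∧ ¬ IsCoatom (H.subgroupOf K) := by
  classical
  obtain ⟨L, hL, hmin⟩ := wellFounded_lt.has_min {L : Subgroup A | Irr φ L} ⟨⊤, hirr⟩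
  have hLbot : L ≠ ⊥ := by
    rintro rfl
    rcases hL W₀ (by
      intro l hl v hv
      rw [Subgroup.mem_bot] at hl
      subst hl
      simpa using hv) with h | h
    · exact h₀ h
    · exact h₁ h
  have hne : (⊥ : Subgroup L) ≠ ⊤ := by
    intro h
    apply hLbot
    rw [eq_bot_iff]
    intro l hl
    have : (⟨l, hl⟩ : L) ∈ (⊥ : Subgroup L) := h ▸ Subgroup.mem_top _
    rw [Subgroup.mem_bot] at this
    rw [Subgroup.mem_bot]
    exact congrArg Subtype.val this
  obtain ⟨H₀, hH₀, -⟩ := (eq_top_or_exists_le_coatom (⊥ : Subgroup L)).resolve_left hne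
  have hlt : H₀.map L.subtype < L := by
    refine lt_of_le_of_ne (Subgroup.map_subtype_le H₀) ?_
    intro heq
    apply hH₀.1
    rw [eq_top_iff]
    rintro ⟨x, hx⟩ _
    have : x ∈ H₀.map L.subtype := by rw [heq]; exact hx
    obtain ⟨y, hy, hyx⟩ := this
    have : y = ⟨x, hx⟩ := Subtype.ext hyx
    rwa [this] at hy
  have hnirr : ¬ Irr φ (H₀.map L.subtype) := fun h => hmin _ h hlt
  unfold Irr at hnirr
  push Not at hnirr
  obtain ⟨W, hWinv, hWbot, hWtop⟩ := hnirr
  set ψ : L →* MulAut N := φ.comp L.subtype with hψ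
  have hNnt : Nontrivial N := by
    by_contra hcon
    rw [not_nontrivial_iff_subsingleton] at hcon
    apply h₀
    rw [eq_bot_iff]
    intro x _
    rw [Subgroup.mem_bot]
    exact Subsingleton.elim _ _
  have hψirr : ∀ W : Subgroup N, (∀ l : L, ∀ v ∈ W, ψ l v ∈ W) → W = ⊥ ∨ W = ⊤ := by
    intro W hW
    exact hL W (fun l hl v hv => hW ⟨l, hl⟩ v hv)
  have hfin : Finite (N ⋊[ψ] L) := Finite.of_equiv _ (equivProd (φ := ψ)).symm
  refine ⟨N ⋊[ψ] L, inferInstance, hfin, (inr : L →* N ⋊[ψ] L).range, H₀.map inr,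
    H₀.comap rightHom, isCoatom_range_inr ψ hψirr, index_range_inr ψ, Subgroup.map_le_range _ _,
    isCoatom_map_subgroupOf_range _ inr_injective _ hH₀,
    Subgroup.isCoatom_comap_of_surjective rightHom_surjective hH₀, ?_, ?_⟩
  · rintro _ ⟨h, hh, rfl⟩
    show rightHom (inr h : N ⋊[ψ] L) ∈ H₀
    simpa using hh
  · apply not_isCoatom_of_invariant ψ W H₀ _ hWbot hWtop
    intro l hl v hv
    exact hWinv l.1 ⟨l, hl, rfl⟩ v hv

end main

/-- Units of a field acting on its additive group. -/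
def unitsAct (F : Type*) [Field F] : Fˣ →* MulAut (Multiplicative F) where
  toFun u :=
    { toFun := fun x => Multiplicative.ofAdd ((u : F) * Multiplicative.toAdd x)
      invFun := fun x => Multiplicative.ofAdd (((u⁻¹ : Fˣ) : F) * Multiplicative.toAdd x)
      left_inv := fun x => by simp
      right_inv := fun x => by simp
      map_mul' := fun x y => by simp [mul_add] }
  map_one' := by ext x; simp
  map_mul' := fun u v => by ext x; simp [mul_assoc]

theorem unitsAct_apply (F : Type*) [Field F] (u : Fˣ) (x : Multiplicative F) :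
    unitsAct F u x = Multiplicative.ofAdd ((u : F) * Multiplicative.toAdd x) := rfl

/-- For every prime p and every d ≥ 2 there is a finite group G with a maximal subgroup M of index p^d and a maximal subgroup H of M that is not second maximal in G: some maximal subgroup K of G contains H without H being maximal in K. (One may take G the affine group V ⋊ GL(V) of V = 𝔽_p^d, M = GL(V), H the stabiliser in M of a line W of V, and K = V ⋊ H, with H < W ⋊ H < K.) So the prime-index hypothesis in the second-maximality criterion cannot be relaxed to prime-power index. -/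
theorem result (p d : ℕ) (hp : p.Prime)
    (hd : 2 ≤ d) :
    ∃ (G : Type) (_ : Group G) (_ : Finite G) (M H K : Subgroup G), IsCoatom M ∧ M.index = p ^ d ∧ H ≤ M ∧
      IsCoatom (H.subgroupOf M) ∧ IsCoatom K ∧ H ≤ K ∧ ¬ IsCoatom (H.subgroupOf K) := by
  have : Fact p.Prime := ⟨hp⟩
  have hcard : Nat.card (Multiplicative (GaloisField p d)) = p ^ d := by
    rw [Nat.card_congr Multiplicative.toAdd]
    exact GaloisField.card p d (by omega)
  have : Finite (GaloisField p d) := by
    apply Nat.finite_of_card_ne_zero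
    rw [GaloisField.card p d (by omega)]
    exact pow_ne_zero _ hp.ne_zero
  have hirr : Irr (unitsAct (GaloisField p d)) ⊤ := by
    intro W hW
    rw [or_iff_not_imp_left]
    intro hbot
    obtain ⟨w, hwW, hw1⟩ : ∃ w ∈ W, w ≠ 1 := by
      by_contra hcon
      push Not at hcon
      exact hbot ((Subgroup.eq_bot_iff_forall W).mpr hcon)
    have hw0 : Multiplicative.toAdd w ≠ 0 := fun h => hw1 (Multiplicative.toAdd.injective h)
    rw [eq_top_iff]
    intro x _
    by_cases hx : Multiplicative.toAdd x = 0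
    · have : x = 1 := Multiplicative.toAdd.injective hx
      rw [this]; exact W.one_mem
    · have := hW (Units.mk0 (Multiplicative.toAdd x / Multiplicative.toAdd w)
        (div_ne_zero hx hw0)) (Subgroup.mem_top _) w hwW
      rw [unitsAct_apply, Units.val_mk0, div_mul_cancel₀ _ hw0] at this
      exact this
  obtain ⟨W₀, hW₀⟩ := Sylow.exists_subgroup_card_pow_prime (G := Multiplicative (GaloisField p d)) p
    (n := 1) (by rw [hcard]; exact pow_dvd_pow p (by omega))
  rw [pow_one] at hW₀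
  have h₀ : W₀ ≠ ⊥ := by
    rintro rfl
    rw [Subgroup.card_bot] at hW₀
    exact hp.one_lt.ne hW₀
  have h₁ : W₀ ≠ ⊤ := by
    rintro rfl
    rw [Subgroup.card_top, hcard] at hW₀
    have : p ^ 1 < p ^ d := Nat.pow_lt_pow_right hp.one_lt (by omega)
    rw [pow_one] at this
    omega
  obtain ⟨G, i1, i2, M, H, K, h1, h2, h3⟩ :=
    abstract_main (unitsAct (GaloisField p d)) hirr W₀ h₀ h₁
  exact ⟨G, i1, i2, M, H, K, h1, by rw [h2, hcard], h3⟩

end Cfsg.Agent.S5895
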