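import Cfsg.Statements.S5896

set_option autoImplicit false
open Cfsg

open Matrix
open scoped commutatorElement

namespace Cfsg.Agent.S5896

variable {R : Type*} [CommRing R]

abbrev SL₂ (R : Type*) [CommRing R] := Matrix.SpecialLinearGroup (Fin 2) R

def U (a : R) : SL₂ R := ⟨!![1, a; 0, 1], by simp [Matrix.det_fin_two]⟩
def L (a : R) : SL₂ R := ⟨!![1, 0; a, 1], by simp [Matrix.det_fin_two]⟩
def D (u ui : R) (h : u * ui = 1) : SL₂ R := ⟨!![u, 0; 0, ui], by simp [Matrix.det_fin_two, h]⟩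
def Wm (c ci : R) (h : c * ci = 1) : SL₂ R :=
  ⟨!![0, -ci; c, 0], by simp [Matrix.det_fin_two]; linear_combination h⟩

theorem U_val (a : R) : (U a).1 = !![1, a; 0, 1] := rfl
theorem L_val (a : R) : (L a).1 = !![1, 0; a, 1] := rfl
theorem D_val (u ui : R) (h : u * ui = 1) : (D u ui h).1 = !![u, 0; 0, ui] := rfl
theorem Wm_val (c ci : R) (h : c * ci = 1) : (Wm c ci h).1 = !![0, -ci; c, 0] := rfl

theorem U_mul (a b : R) : U a * U b = U (a + b) := by
  apply Matrix.SpecialLinearGroup.ext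
  intro i j
  simp only [Matrix.SpecialLinearGroup.coe_mul, U_val]
  fin_cases i <;> fin_cases j <;> simp [Matrix.mul_apply, Fin.sum_univ_two]
  ring

theorem L_mul (a b : R) : L a * L b = L (a + b) := by
  apply Matrix.SpecialLinearGroup.ext
  intro i j
  simp only [Matrix.SpecialLinearGroup.coe_mul, L_val]
  fin_cases i <;> fin_cases j <;> simp [Matrix.mul_apply, Fin.sum_univ_two]

theorem U_zero : U (0 : R) = 1 := by
  apply Matrix.SpecialLinearGroup.ext
  intro i j
  simp only [U_val, Matrix.SpecialLinearGroup.coe_one]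
  fin_cases i <;> fin_cases j <;> simp

theorem L_zero : L (0 : R) = 1 := by
  apply Matrix.SpecialLinearGroup.ext
  intro i j
  simp only [L_val, Matrix.SpecialLinearGroup.coe_one]
  fin_cases i <;> fin_cases j <;> simp

theorem U_inv (a : R) : (U a)⁻¹ = U (-a) := by
  rw [inv_eq_iff_mul_eq_one, U_mul, add_neg_cancel, U_zero]

theorem L_inv (a : R) : (L a)⁻¹ = L (-a) := by
  rw [inv_eq_iff_mul_eq_one, L_mul, add_neg_cancel, L_zero]

theorem D_mul_U (u ui : R) (h : u * ui = 1) (a : R) : D u ui h * U a = U (u * u * a) * D u ui h := by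
  apply Matrix.SpecialLinearGroup.ext
  intro i j
  simp only [Matrix.SpecialLinearGroup.coe_mul, U_val, D_val]
  fin_cases i <;> fin_cases j <;> simp [Matrix.mul_apply, Fin.sum_univ_two]
  linear_combination (-(u * a)) * h

theorem D_mul_L (u ui : R) (h : u * ui = 1) (a : R) : D u ui h * L a = L (ui * ui * a) * D u ui h := by
  apply Matrix.SpecialLinearGroup.ext
  intro i j
  simp only [Matrix.SpecialLinearGroup.coe_mul, L_val, D_val]
  fin_cases i <;> fin_cases j <;> simp [Matrix.mul_apply, Fin.sum_univ_two]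
  linear_combination (-(ui * a)) * h

theorem D_eq (u ui : R) (h : u * ui = 1) (x y : R) (hu : u = 1 + x * y) :
    D u ui h = L (-(y * ui)) * U x * L y * U (-(x * ui)) := by
  apply Matrix.SpecialLinearGroup.ext
  intro i j
  simp only [Matrix.SpecialLinearGroup.coe_mul, L_val, D_val, U_val]
  subst hu
  fin_cases i <;> fin_cases j <;> simp [Matrix.mul_apply, Fin.sum_univ_two]
  all_goals grind


theorem Wm_eq (c ci : R) (h : c * ci = 1) : Wm c ci h = U (-ci) * L c * U (-ci) := by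
  apply Matrix.SpecialLinearGroup.ext
  intro i j
  simp only [Matrix.SpecialLinearGroup.coe_mul, L_val, Wm_val, U_val]
  fin_cases i <;> fin_cases j <;> simp [Matrix.mul_apply, Fin.sum_univ_two]
  all_goals grind

theorem decomp (g : SL₂ R) (ci : R) (h : g.1 1 0 * ci = 1) :
    g = U (g.1 0 0 * ci) * Wm (g.1 1 0) ci h * U (g.1 1 1 * ci) := by
  have hdet : g.1 0 0 * g.1 1 1 - g.1 0 1 * g.1 1 0 = 1 := by
    have := g.2
    rwa [Matrix.det_fin_two] at this
  apply Matrix.SpecialLinearGroup.ext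
  intro i j
  simp only [Matrix.SpecialLinearGroup.coe_mul, Wm_val, U_val]
  fin_cases i <;> fin_cases j <;> simp [Matrix.mul_apply, Fin.sum_univ_two]
  all_goals grind

theorem Wm_mul_D (c ci : R) (h : c * ci = 1) (c' ci' : R) (h' : c' * ci' = 1) :
    Wm c' ci' h' = Wm c ci h * D (c' * ci) (c * ci') (by linear_combination (c * ci) * h' + h) := by
  apply Matrix.SpecialLinearGroup.ext
  intro i j
  simp only [Matrix.SpecialLinearGroup.coe_mul, Wm_val, D_val]
  fin_cases i <;> fin_cases j <;> simp [Matrix.mul_apply, Fin.sum_univ_two]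
  all_goals grind


theorem det_eq (g : SL₂ R) : g.1 0 0 * g.1 1 1 - g.1 0 1 * g.1 1 0 = 1 := by
  have := g.2
  rwa [Matrix.det_fin_two] at this

section groups

variable (π : R)

/-- Matrices whose lower left entry is divisible by `π`. -/
def H0 : Subgroup (SL₂ R) where
  carrier := {g | π ∣ g.1 1 0}
  mul_mem' := by
    intro g h hg hh
    show π ∣ (g * h).1 1 0
    rw [Matrix.SpecialLinearGroup.coe_mul, Matrix.mul_apply, Fin.sum_univ_two]
    exact dvd_add (Dvd.dvd.mul_right hg _) (Dvd.dvd.mul_left hh _)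
  one_mem' := by
    show π ∣ (1 : SL₂ R).1 1 0
    simp
  inv_mem' := by
    intro g hg
    show π ∣ (g⁻¹).1 1 0
    rw [Matrix.SpecialLinearGroup.coe_inv, Matrix.adjugate_fin_two]
    simpa using hg

theorem mem_H0_iff (g : SL₂ R) : g ∈ H0 π ↔ π ∣ g.1 1 0 := Iff.rfl

theorem U_mem_H0 (a : R) : U a ∈ H0 π := by
  rw [mem_H0_iff, U_val]; simp

theorem D_mem_H0 (u ui : R) (h : u * ui = 1) : D u ui h ∈ H0 π := by
  rw [mem_H0_iff, D_val]; simp

theorem L_mem_H0 (a : R) (ha : π ∣ a) : L a ∈ H0 π := by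
  rw [mem_H0_iff, L_val]; simpa using ha

/-- The elementary subgroup. -/
def E (R : Type*) [CommRing R] : Subgroup (SL₂ R) :=
  Subgroup.closure {g | (∃ a, g = U a) ∨ ∃ a, g = L a}

theorem U_mem_E (a : R) : U a ∈ E R := Subgroup.subset_closure (Or.inl ⟨a, rfl⟩)
theorem L_mem_E (a : R) : L a ∈ E R := Subgroup.subset_closure (Or.inr ⟨a, rfl⟩)

theorem mem_E_of_unit (g : SL₂ R) (hc : IsUnit (g.1 1 0)) : g ∈ E R := by
  obtain ⟨ci, h⟩ := isUnit_iff_exists_inv.mp hc
  rw [decomp g ci h, Wm_eq]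
  exact mul_mem (mul_mem (U_mem_E _) (mul_mem (mul_mem (U_mem_E _) (L_mem_E _)) (U_mem_E _)))
    (U_mem_E _)

theorem E_eq_top (hloc : ∀ x : R, IsUnit x ∨ π ∣ x) (hπ : ¬ π ∣ 1) : E R = ⊤ := by
  rw [eq_top_iff]
  intro g _
  rcases hloc (g.1 1 0) with hc | hc
  · exact mem_E_of_unit g hc
  · have ha : IsUnit (g.1 0 0) := by
      rcases hloc (g.1 0 0) with h | h
      · exact h
      · exfalso
        apply hπ
        rw [← det_eq g]
        exact dvd_sub (h.mul_right _) (hc.mul_left _)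
    have hmem : (L 1 * g) ∈ E R := by
      apply mem_E_of_unit
      have h1 : (L 1 * g).1 1 0 = g.1 0 0 + g.1 1 0 := by
        simp [Matrix.SpecialLinearGroup.coe_mul, L_val, Matrix.mul_apply, Fin.sum_univ_two]
      rw [h1]
      rcases hloc (g.1 0 0 + g.1 1 0) with h | h
      · exact h
      · exfalso
        have h2 : π ∣ g.1 0 0 := (dvd_add_left hc).mp h
        obtain ⟨ai, hai⟩ := isUnit_iff_exists_inv.mp ha
        apply hπ
        rw [← hai]
        exact h2.mul_right _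
    have h2 : g = L (-1) * (L 1 * g) := by
      rw [← mul_assoc, L_mul]
      simp [L_zero]
    rw [h2]
    exact mul_mem (L_mem_E _) hmem

theorem comm_D_U (u ui : R) (h : u * ui = 1) (b : R) :
    ⁅D u ui h, U b⁆ = U ((u * u - 1) * b) := by
  rw [commutatorElement_def, D_mul_U, mul_assoc (U _), mul_inv_cancel, mul_one, U_inv, U_mul]
  congr 1
  ring

theorem comm_D_L (u ui : R) (h : u * ui = 1) (b : R) :
    ⁅D u ui h, L b⁆ = L ((ui * ui - 1) * b) := by
  rw [commutatorElement_def, D_mul_L, mul_assoc (L _), mul_inv_cancel, mul_one, L_inv, L_mul]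
  congr 1
  ring

theorem commutator_eq_top (hloc : ∀ x : R, IsUnit x ∨ π ∣ x) (hπ : ¬ π ∣ 1)
    (u ui : R) (hu : u * ui = 1) (vi : R) (hv : (u * u - 1) * vi = 1) :
    commutator (SL₂ R) = ⊤ := by
  rw [eq_top_iff, ← E_eq_top π hloc hπ, E, Subgroup.closure_le]
  rintro g (⟨a, rfl⟩ | ⟨a, rfl⟩)
  · have : U a = ⁅D u ui hu, U (vi * a)⁆ := by
      rw [comm_D_U, show (u * u - 1) * (vi * a) = a by linear_combination a * hv]
    rw [this, commutator_def]
    exact Subgroup.commutator_mem_commutator (Subgroup.mem_top _) (Subgroup.mem_top _)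
  · have : L a = ⁅D u ui hu, L (-(vi * u * u) * a)⁆ := by
      rw [comm_D_L, show (ui * ui - 1) * (-(vi * u * u) * a) = a by grind]
    rw [this, commutator_def]
    exact Subgroup.commutator_mem_commutator (Subgroup.mem_top _) (Subgroup.mem_top _)

theorem H0_isCoatom (hloc : ∀ x : R, IsUnit x ∨ π ∣ x) (hπ : ¬ π ∣ 1) : IsCoatom (H0 π) := by
  constructor
  · intro htop
    have : L 1 ∈ H0 π := htop ▸ Subgroup.mem_top _
    rw [mem_H0_iff, L_val] at this
    apply hπ
    simpa using this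
  · intro X hX
    obtain ⟨g, hgX, hgH⟩ := SetLike.exists_of_lt hX
    have hc : IsUnit (g.1 1 0) := (hloc _).resolve_right hgH
    obtain ⟨ci, h⟩ := isUnit_iff_exists_inv.mp hc
    have hUX : ∀ a, U a ∈ X := fun a => hX.le (U_mem_H0 π a)
    have hW : Wm (g.1 1 0) ci h ∈ X := by
      obtain ⟨A, B, W, hWdef, key⟩ : ∃ A B W, W = Wm (g.1 1 0) ci h ∧ g = U A * W * U B :=
        ⟨_, _, _, rfl, decomp g ci h⟩
      rw [← hWdef]
      have h2 : W = (U A)⁻¹ * g * (U B)⁻¹ := by
        rw [key]; group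
      rw [h2]
      exact mul_mem (mul_mem (inv_mem (hUX A)) hgX) (inv_mem (hUX B))
    rw [eq_top_iff]
    intro g' _
    by_cases hg' : g' ∈ H0 π
    · exact hX.le hg'
    · have hc' : IsUnit (g'.1 1 0) := (hloc _).resolve_right hg'
      obtain ⟨ci', h'⟩ := isUnit_iff_exists_inv.mp hc'
      rw [decomp g' ci' h', Wm_mul_D (g.1 1 0) ci h (g'.1 1 0) ci' h']
      exact mul_mem (mul_mem (hUX _) (mul_mem hW (hX.le (D_mem_H0 π _ _ _)))) (hUX _)


/-- The subgroup generated by elementary matrices with entries divisible by `π ^ j`. -/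
def F (j : ℕ) : Subgroup (SL₂ R) :=
  Subgroup.closure {g | (∃ a, g = U (π ^ j * a)) ∨ ∃ a, g = L (π ^ j * a)}

theorem U_mem_F (j : ℕ) (a : R) : U (π ^ j * a) ∈ F π j :=
  Subgroup.subset_closure (Or.inl ⟨a, rfl⟩)

theorem L_mem_F (j : ℕ) (a : R) : L (π ^ j * a) ∈ F π j :=
  Subgroup.subset_closure (Or.inr ⟨a, rfl⟩)

theorem F_le_comm (hloc : ∀ x : R, IsUnit x ∨ π ∣ x) (hπ : ¬ π ∣ 1) (h2 : IsUnit (2 : R))
    (j : ℕ) (hj : 1 ≤ j) : F π (3 * j) ≤ ⁅F π j, F π j⁆ := by
  have hdvd : π ∣ π ^ j * π ^ j := by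
    obtain ⟨i, rfl⟩ : ∃ i, j = i + 1 := ⟨j - 1, by omega⟩
    exact Dvd.intro _ (by ring : π * (π ^ i * π ^ (i + 1)) = π ^ (i + 1) * π ^ (i + 1))
  have hu : IsUnit (1 + π ^ j * π ^ j) := by
    refine (hloc _).resolve_right (fun h => hπ ?_)
    exact (dvd_add_left hdvd).mp h
  have hw : IsUnit (2 + π ^ j * π ^ j) := by
    refine (hloc _).resolve_right (fun h => hπ ?_)
    have h3 : π ∣ 2 := (dvd_add_left hdvd).mp h
    obtain ⟨t, ht⟩ := isUnit_iff_exists_inv.mp h2
    rw [← ht]; exact h3.mul_right _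
  obtain ⟨ui, hui⟩ := isUnit_iff_exists_inv.mp hu
  obtain ⟨wi, hwi⟩ := isUnit_iff_exists_inv.mp hw
  set u := 1 + π ^ j * π ^ j with hudef
  have hDF : D u ui hui ∈ F π j := by
    rw [D_eq u ui hui (π ^ j) (π ^ j) hudef]
    have e1 : -(π ^ j * ui) = π ^ j * (-ui) := by ring
    have e2 : π ^ j = π ^ j * 1 := by ring
    rw [e1]
    refine mul_mem (mul_mem (mul_mem (L_mem_F π j _) ?_) ?_) (U_mem_F π j _)
    · rw [e2]; exact U_mem_F π j 1
    · rw [e2]; exact L_mem_F π j 1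
  rw [F, Subgroup.closure_le]
  rintro g (⟨a, rfl⟩ | ⟨a, rfl⟩)
  · have : U (π ^ (3 * j) * a) = ⁅D u ui hui, U (π ^ j * (wi * a))⁆ := by
      rw [comm_D_U]
      congr 1
      have : π ^ (3 * j) = π ^ j * π ^ j * π ^ j := by ring
      rw [this, hudef]
      linear_combination (-(π ^ j * π ^ j * π ^ j * a)) * hwi
    rw [this]
    exact Subgroup.commutator_mem_commutator hDF (U_mem_F π j _)
  · have : L (π ^ (3 * j) * a) = ⁅D u ui hui, L (π ^ j * (-(wi * u * u) * a))⁆ := by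
      rw [comm_D_L]
      congr 1
      have : π ^ (3 * j) = π ^ j * π ^ j * π ^ j := by ring
      rw [this]
      have hui' : (1 + π ^ j * π ^ j) * ui = 1 := hui
      grind
    rw [this]
    exact Subgroup.commutator_mem_commutator hDF (L_mem_F π j _)

theorem F_le_derived (hloc : ∀ x : R, IsUnit x ∨ π ∣ x) (hπ : ¬ π ∣ 1) (h2 : IsUnit (2 : R))
    (k : ℕ) : F π (3 ^ k) ≤ (derivedSeries (H0 π) k).map (H0 π).subtype := by
  induction k with
  | zero =>
    rw [derivedSeries_zero, ← MonoidHom.range_eq_map, Subgroup.range_subtype, F, Subgroup.closure_le]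
    rintro g (⟨a, rfl⟩ | ⟨a, rfl⟩)
    · exact U_mem_H0 π _
    · exact L_mem_H0 π _ (by simp)
  | succ k ih =>
    rw [derivedSeries_succ, Subgroup.map_commutator, pow_succ, mul_comm]
    exact (F_le_comm π hloc hπ h2 (3 ^ k) (Nat.one_le_pow _ _ (by norm_num))).trans
      (Subgroup.commutator_mono ih ih)

theorem derived_ne_bot (hloc : ∀ x : R, IsUnit x ∨ π ∣ x) (hπ : ¬ π ∣ 1) (h2 : IsUnit (2 : R))
    (d : ℕ) (hne : π ^ (3 ^ d) ≠ 0) : derivedSeries (H0 π) d ≠ ⊥ := by
  intro hbot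
  have h1 := F_le_derived π hloc hπ h2 d (U_mem_F π (3 ^ d) 1)
  rw [hbot, Subgroup.map_bot, Subgroup.mem_bot] at h1
  have h3 := congrArg (fun g : SL₂ R => g.1 0 1) h1
  simp [U_val] at h3
  exact hne h3

end groups

section solvable

/-- A chain criterion for solvability of a subgroup. -/
theorem solvable_of_chain {G : Type*} [Group G] (K : Subgroup G) (Δ : ℕ → Subgroup G)
    (h0 : K ≤ Δ 0) (hstep : ∀ k, ⁅Δ k, Δ k⁆ ≤ Δ (k + 1)) (N : ℕ) (hN : Δ N = ⊥) :
    Group.IsSolvable K := by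
  have key : ∀ k, (derivedSeries K k).map K.subtype ≤ Δ k := by
    intro k
    induction k with
    | zero =>
      rw [derivedSeries_zero, ← MonoidHom.range_eq_map, Subgroup.range_subtype]
      exact h0
    | succ k ih =>
      rw [derivedSeries_succ, Subgroup.map_commutator]
      exact (Subgroup.commutator_mono ih ih).trans (hstep k)
  rw [Group.isSolvable_def]
  refine ⟨N, ?_⟩
  have := key N
  rw [hN, le_bot_iff] at this
  exact (Subgroup.map_eq_bot_iff_of_injective _ K.subtype_injective).mp this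

theorem comap_commutator_le {G G' : Type*} [Group G] [Group G'] (f : G →* G')
    (A B : Subgroup G') : ⁅A.comap f, B.comap f⁆ ≤ (⁅A, B⁆).comap f := by
  rw [Subgroup.commutator_le]
  intro g hg h hh
  show f ⁅g, h⁆ ∈ ⁅A, B⁆
  rw [map_commutatorElement]
  exact Subgroup.commutator_mem_commutator hg hh

variable {k : Type*} [CommRing k]

/-- The Borel subgroup. -/
def Bor (k : Type*) [CommRing k] : Subgroup (SL₂ k) := H0 (0 : k)

theorem mem_Bor_iff (g : SL₂ k) : g ∈ Bor k ↔ g.1 1 0 = 0 := by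
  rw [Bor, mem_H0_iff, zero_dvd_iff]

/-- The unipotent subgroup. -/
def Uni (k : Type*) [CommRing k] : Subgroup (SL₂ k) where
  carrier := {g | g.1 1 0 = 0 ∧ g.1 0 0 = 1 ∧ g.1 1 1 = 1}
  mul_mem' := by
    rintro g h ⟨hg1, hg2, hg3⟩ ⟨hh1, hh2, hh3⟩
    refine ⟨?_, ?_, ?_⟩ <;>
    simp [Matrix.SpecialLinearGroup.coe_mul, Matrix.mul_apply, Fin.sum_univ_two, *]
  one_mem' := by
    refine ⟨?_, ?_, ?_⟩ <;> simp
  inv_mem' := by
    rintro g ⟨hg1, hg2, hg3⟩
    refine ⟨?_, ?_, ?_⟩ <;>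
    simp [Matrix.SpecialLinearGroup.coe_inv, Matrix.adjugate_fin_two, *]

theorem Bor_comm_le : ⁅Bor k, Bor k⁆ ≤ Uni k := by
  rw [Subgroup.commutator_le]
  intro g hg h hh
  rw [mem_Bor_iff] at hg hh
  have hdg := det_eq g
  have hdh := det_eq h
  rw [hg] at hdg
  rw [hh] at hdh
  refine ⟨?_, ?_, ?_⟩ <;>
  simp [commutatorElement_def, Matrix.SpecialLinearGroup.coe_mul, Matrix.SpecialLinearGroup.coe_inv,
    Matrix.adjugate_fin_two, Matrix.mul_apply, Fin.sum_univ_two, hg, hh] <;>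
  grind

theorem Uni_comm_le : ⁅Uni k, Uni k⁆ ≤ ⊥ := by
  rw [Subgroup.commutator_le]
  rintro g ⟨hg1, hg2, hg3⟩ h ⟨hh1, hh2, hh3⟩
  rw [Subgroup.mem_bot]
  have eg : g = U (g.1 0 1) := by
    apply Matrix.SpecialLinearGroup.ext
    intro i j
    rw [U_val]
    fin_cases i <;> fin_cases j <;> simp [hg1, hg2, hg3]
  have eh : h = U (h.1 0 1) := by
    apply Matrix.SpecialLinearGroup.ext
    intro i j
    rw [U_val]
    fin_cases i <;> fin_cases j <;> simp [hh1, hh2, hh3]
  rw [eg, eh, commutatorElement_def, U_inv, U_inv, U_mul, U_mul, U_mul]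
  rw [show g.1 0 1 + h.1 0 1 + -g.1 0 1 + -h.1 0 1 = 0 by ring, U_zero]

end solvable

section congruence

variable (π : R)

/-- All entries divisible by `π ^ n`. -/
def DivM (n : ℕ) (M : Matrix (Fin 2) (Fin 2) R) : Prop := ∀ r s, π ^ n ∣ M r s

theorem DivM.add {n : ℕ} {M N : Matrix (Fin 2) (Fin 2) R} (hM : DivM π n M) (hN : DivM π n N) :
    DivM π n (M + N) := fun r s => dvd_add (hM r s) (hN r s)

theorem DivM.sub {n : ℕ} {M N : Matrix (Fin 2) (Fin 2) R} (hM : DivM π n M) (hN : DivM π n N) :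
    DivM π n (M - N) := fun r s => dvd_sub (hM r s) (hN r s)

theorem DivM.neg {n : ℕ} {M : Matrix (Fin 2) (Fin 2) R} (hM : DivM π n M) :
    DivM π n (-M) := fun r s => (dvd_neg).mpr (hM r s)

theorem DivM.mul_right {n : ℕ} {M : Matrix (Fin 2) (Fin 2) R} (hM : DivM π n M)
    (N : Matrix (Fin 2) (Fin 2) R) : DivM π n (M * N) := by
  intro r s
  rw [Matrix.mul_apply]
  exact Finset.dvd_sum (fun t _ => (hM r t).mul_right _)

theorem DivM.mul_left {n : ℕ} {M : Matrix (Fin 2) (Fin 2) R} (hM : DivM π n M)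
    (N : Matrix (Fin 2) (Fin 2) R) : DivM π n (N * M) := by
  intro r s
  rw [Matrix.mul_apply]
  exact Finset.dvd_sum (fun t _ => (hM t s).mul_left _)

theorem DivM.mul {i j : ℕ} {M N : Matrix (Fin 2) (Fin 2) R} (hM : DivM π i M) (hN : DivM π j N) :
    DivM π (i + j) (M * N) := by
  intro r s
  rw [Matrix.mul_apply]
  refine Finset.dvd_sum (fun t _ => ?_)
  rw [pow_add]
  exact mul_dvd_mul (hM r t) (hN t s)

theorem coe_inv_mul (g : SL₂ R) : (g⁻¹).1 * g.1 = 1 := by
  rw [← Matrix.SpecialLinearGroup.coe_mul, inv_mul_cancel, Matrix.SpecialLinearGroup.coe_one]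

theorem coe_mul_inv (g : SL₂ R) : g.1 * (g⁻¹).1 = 1 := by
  rw [← Matrix.SpecialLinearGroup.coe_mul, mul_inv_cancel, Matrix.SpecialLinearGroup.coe_one]

/-- The principal congruence subgroup of level `π ^ i`. -/
def Gam (i : ℕ) : Subgroup (SL₂ R) where
  carrier := {g | DivM π i (g.1 - 1)}
  mul_mem' := by
    intro g h hg hh
    show DivM π i ((g * h).1 - 1)
    have : (g * h).1 - 1 = (g.1 - 1) * h.1 + (h.1 - 1) := by
      rw [Matrix.SpecialLinearGroup.coe_mul]; noncomm_ring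
    rw [this]
    exact (DivM.mul_right π hg _).add π hh
  one_mem' := by
    show DivM π i ((1 : SL₂ R).1 - 1)
    rw [Matrix.SpecialLinearGroup.coe_one, sub_self]
    intro r s
    simp
  inv_mem' := by
    intro g hg
    show DivM π i ((g⁻¹).1 - 1)
    have : (g⁻¹).1 - 1 = -((g⁻¹).1 * (g.1 - 1)) := by
      rw [mul_sub, coe_inv_mul, mul_one]; noncomm_ring
    rw [this]
    exact (DivM.mul_left π hg _).neg π

theorem mem_Gam_iff (i : ℕ) (g : SL₂ R) : g ∈ Gam π i ↔ DivM π i (g.1 - 1) := Iff.rfl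

theorem Gam_comm_le (i : ℕ) : ⁅Gam π i, Gam π i⁆ ≤ Gam π (2 * i) := by
  rw [Subgroup.commutator_le]
  intro g hg h hh
  rw [mem_Gam_iff] at hg hh ⊢
  have hc : (⁅g, h⁆ : SL₂ R).1 - 1 =
      ((g.1 - 1) * (h.1 - 1) - (h.1 - 1) * (g.1 - 1)) * (g⁻¹).1 * (h⁻¹).1 := by
    rw [commutatorElement_def, Matrix.SpecialLinearGroup.coe_mul, Matrix.SpecialLinearGroup.coe_mul,
      Matrix.SpecialLinearGroup.coe_mul]
    have e1 : ((g.1 - 1) * (h.1 - 1) - (h.1 - 1) * (g.1 - 1)) = g.1 * h.1 - h.1 * g.1 := by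
      noncomm_ring
    rw [e1, sub_mul, sub_mul, mul_assoc h.1 g.1, coe_mul_inv, mul_one, coe_mul_inv]
  rw [hc, two_mul]
  exact (((DivM.mul π hg hh).sub π (DivM.mul π hh hg)).mul_right π _).mul_right π _

theorem Gam_eq_bot (N : ℕ) (hN : π ^ N = 0) : Gam π N = ⊥ := by
  rw [eq_bot_iff]
  intro g hg
  rw [mem_Gam_iff] at hg
  rw [Subgroup.mem_bot]
  apply Matrix.SpecialLinearGroup.ext
  intro r s
  have := hg r s
  rw [hN, zero_dvd_iff, Matrix.sub_apply, sub_eq_zero] at this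
  rw [this, Matrix.SpecialLinearGroup.coe_one]

/-- reduction modulo `π` -/
noncomputable def red : SL₂ R →* SL₂ (R ⧸ Ideal.span {π}) :=
  Matrix.SpecialLinearGroup.map (Ideal.Quotient.mk (Ideal.span {π}))

theorem red_apply (g : SL₂ R) (r s : Fin 2) :
    (red π g).1 r s = Ideal.Quotient.mk (Ideal.span {π}) (g.1 r s) := rfl

theorem mk_eq_zero_iff (x : R) : Ideal.Quotient.mk (Ideal.span {π}) x = 0 ↔ π ∣ x := by
  rw [Ideal.Quotient.eq_zero_iff_mem, Ideal.mem_span_singleton]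

theorem H0_le_comap_Bor : H0 π ≤ (Bor (R ⧸ Ideal.span {π})).comap (red π) := by
  intro g hg
  rw [Subgroup.mem_comap, mem_Bor_iff, red_apply, mk_eq_zero_iff]
  exact hg

theorem comap_bot_le_Gam : (⊥ : Subgroup (SL₂ (R ⧸ Ideal.span {π}))).comap (red π) ≤ Gam π 1 := by
  intro g hg
  rw [Subgroup.mem_comap, Subgroup.mem_bot] at hg
  rw [mem_Gam_iff]
  intro r s
  rw [pow_one, ← mk_eq_zero_iff, Matrix.sub_apply, map_sub, ← red_apply, hg,
    Matrix.SpecialLinearGroup.coe_one]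
  by_cases hrs : r = s
  · subst hrs; simp
  · simp [Matrix.one_apply_ne hrs]

theorem H0_solvable (m : ℕ) (hm : π ^ m = 0) : Group.IsSolvable (H0 π) := by
  let Δ : ℕ → Subgroup (SL₂ R) := fun k =>
    if k = 0 then (Bor (R ⧸ Ideal.span {π})).comap (red π)
    else if k = 1 then (Uni (R ⧸ Ideal.span {π})).comap (red π)
    else Gam π (2 ^ (k - 2))
  apply solvable_of_chain (H0 π) Δ (H0_le_comap_Bor π) _ (m + 2)
  · show Gam π (2 ^ (m + 2 - 2)) = ⊥
    apply Gam_eq_bot
    have : m ≤ 2 ^ (m + 2 - 2) := by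
      rw [Nat.add_sub_cancel]
      exact Nat.lt_two_pow_self.le
    obtain ⟨t, ht⟩ := Nat.exists_eq_add_of_le this
    rw [ht, pow_add, hm, zero_mul]
  · intro k
    by_cases hk0 : k = 0
    · subst hk0
      show ⁅(Bor _).comap (red π), (Bor _).comap (red π)⁆ ≤ (Uni _).comap (red π)
      exact (comap_commutator_le _ _ _).trans (Subgroup.comap_mono Bor_comm_le)
    · by_cases hk1 : k = 1
      · subst hk1
        show ⁅(Uni _).comap (red π), (Uni _).comap (red π)⁆ ≤ Gam π (2 ^ (1 + 1 - 2))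
        exact ((comap_commutator_le _ _ _).trans (Subgroup.comap_mono Uni_comm_le)).trans
          (comap_bot_le_Gam π)
      · have e1 : Δ k = Gam π (2 ^ (k - 2)) := by simp [Δ, hk0, hk1]
        have e2 : Δ (k + 1) = Gam π (2 ^ (k + 1 - 2)) := by
          have h1 : k + 1 ≠ 0 := by omega
          have h2 : k + 1 ≠ 1 := by omega
          show (if k + 1 = 0 then _ else if k + 1 = 1 then _ else Gam π (2 ^ (k + 1 - 2))) = _
          rw [if_neg h1, if_neg h2]
        rw [e1, e2]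
        have e3 : 2 ^ (k + 1 - 2) = 2 * 2 ^ (k - 2) := by
          rw [show k + 1 - 2 = (k - 2) + 1 by omega, pow_succ, mul_comm]
        rw [e3]
        exact Gam_comm_le π _

end congruence


section final

theorem zmod_local (m : ℕ) (x : ZMod (5 ^ m)) : IsUnit x ∨ (5 : ZMod (5 ^ m)) ∣ x := by
  have : NeZero (5 ^ m) := ⟨by positivity⟩
  rw [← ZMod.natCast_zmod_val x]
  by_cases h : 5 ∣ x.val
  · right
    obtain ⟨t, ht⟩ := h
    rw [ht]
    exact ⟨(t : ZMod (5 ^ m)), by push_cast; ring⟩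
  · left
    rw [ZMod.isUnit_iff_coprime]
    apply Nat.Coprime.pow_right
    exact ((Nat.Prime.coprime_iff_not_dvd (by norm_num)).mpr h).symm

theorem zmod_not_dvd_one (m : ℕ) (hm : 1 ≤ m) : ¬ (5 : ZMod (5 ^ m)) ∣ 1 := by
  rintro ⟨y, hy⟩
  have h5 : (5 : ℕ) ∣ 5 ^ m := dvd_pow_self 5 (by omega)
  have := congrArg (ZMod.castHom h5 (ZMod 5)) hy
  rw [map_one, map_mul, map_ofNat] at this
  have h0 : (5 : ZMod 5) = 0 := by decide
  rw [h0, zero_mul] at this
  exact absurd this (by decide)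

theorem zmod_isUnit_natCast (m k : ℕ) (hk : Nat.Coprime k 5) : IsUnit ((k : ℕ) : ZMod (5 ^ m)) := by
  rw [ZMod.isUnit_iff_coprime]
  exact Nat.Coprime.pow_right _ hk

/-- Finite perfect groups have solvable maximal subgroups of unbounded derived length: for every d there is a finite perfect group G (equal to its commutator subgroup) with a solvable maximal subgroup H whose derived length exceeds d, i.e. the d-th term of the derived series of H is non-trivial. (Take the derived subgroup of a wreath product S ≀ A₅ with S solvable of large derived length, and H the preimage of a maximal subgroup of A₅.) -/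
theorem result (d : ℕ) :
    ∃ (G : Type) (_ : Group G) (_ : Finite G) (H : Subgroup G), commutator G = ⊤ ∧ IsCoatom H ∧ Group.IsSolvable H ∧
      derivedSeries H d ≠ ⊥ := by
  have hm1 : 1 ≤ 3 ^ d + 1 := Nat.le_add_left 1 _
  have : NeZero (5 ^ (3 ^ d + 1)) := ⟨by positivity⟩
  have hloc := zmod_local (3 ^ d + 1)
  have hπ := zmod_not_dvd_one (3 ^ d + 1) hm1
  have h2 : IsUnit (2 : ZMod (5 ^ (3 ^ d + 1))) := by
    have := zmod_isUnit_natCast (3 ^ d + 1) 2 (by norm_num)
    simpa using this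
  have h3 : IsUnit (3 : ZMod (5 ^ (3 ^ d + 1))) := by
    have := zmod_isUnit_natCast (3 ^ d + 1) 3 (by norm_num)
    simpa using this
  obtain ⟨ui, hui⟩ := isUnit_iff_exists_inv.mp h2
  obtain ⟨vi, hvi⟩ := isUnit_iff_exists_inv.mp h3
  have hvi' : ((2 : ZMod (5 ^ (3 ^ d + 1))) * 2 - 1) * vi = 1 := by
    linear_combination hvi
  have hm : (5 : ZMod (5 ^ (3 ^ d + 1))) ^ (3 ^ d + 1) = 0 := by
    have := ZMod.natCast_self (5 ^ (3 ^ d + 1))
    push_cast at this
    exact this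
  have hne : (5 : ZMod (5 ^ (3 ^ d + 1))) ^ (3 ^ d) ≠ 0 := by
    intro h0
    have h1 : ((5 ^ (3 ^ d) : ℕ) : ZMod (5 ^ (3 ^ d + 1))) = 0 := by
      push_cast; exact h0
    rw [ZMod.natCast_eq_zero_iff] at h1
    have := (Nat.pow_dvd_pow_iff_le_right (by norm_num : 1 < 5)).mp h1
    omega
  exact ⟨SL₂ (ZMod (5 ^ (3 ^ d + 1))), inferInstance, inferInstance, H0 (5 : ZMod (5 ^ (3 ^ d + 1))),
    commutator_eq_top 5 hloc hπ 2 ui hui vi hvi', H0_isCoatom 5 hloc hπ,
    H0_solvable 5 (3 ^ d + 1) hm, derived_ne_bot 5 hloc hπ h2 d hne⟩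

end final

end Cfsg.Agent.S5896
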