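import Cfsg.Statements.S5902
import Cfsg.Agent.S5901

set_option autoImplicit false
open Cfsg

namespace Cfsg.Agent.S5902

theorem interval_of_complemented {G : Type*} [Group G] (X : Subgroup G)
    (hK : ComplementedLattice (Subgroup X)) (Y : Subgroup G) (hYX : Y ≤ X) :
    ∃ C : Subgroup G, ⊥ ≤ C ∧ C ≤ X ∧ Y ⊔ C = X ∧ Y ⊓ C = ⊥ := by
  obtain ⟨C', hC'⟩ := hK.exists_isCompl (Y.subgroupOf X)
  refine ⟨C'.map X.subtype, bot_le, Subgroup.map_subtype_le C', ?_, ?_⟩
  · have hY : Y = (Y.subgroupOf X).map X.subtype := (Subgroup.map_subgroupOf_eq_of_le hYX).symm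
    conv_lhs => rw [hY]
    rw [← Subgroup.map_sup, hC'.sup_eq_top, ← MonoidHom.range_eq_map, Subgroup.range_subtype]
  · have hY : Y = (Y.subgroupOf X).map X.subtype := (Subgroup.map_subgroupOf_eq_of_le hYX).symm
    conv_lhs => rw [hY]
    rw [← Subgroup.map_inf _ _ _ X.subtype_injective, hC'.inf_eq_bot, Subgroup.map_bot]

theorem exists_compl {G : Type*} [Group G] [Finite G] (X M : Subgroup G)
    (hK : ComplementedLattice (Subgroup X))
    (hM : IsCoatom M) (hXM : X ≤ M) (huniq : ∀ M' : Subgroup G, IsCoatom M' → X ≤ M' → M' = M)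
    (H : Subgroup G) (hH : ¬ H ≤ M.normalCore) : ∃ C : Subgroup G, H ⊔ C = ⊤ ∧ H ⊓ C = ⊥ := by
  have hXtop : X ≠ ⊤ := fun h => hM.1 (top_le_iff.mp (h ▸ hXM))
  obtain ⟨h, hhH, hhM⟩ := SetLike.not_le_iff_exists.mp hH
  have : ∃ b : G, b * h * b⁻¹ ∉ M := by
    by_contra hcon
    push Not at hcon
    exact hhM hcon
  obtain ⟨b, hb⟩ := this
  set H' : Subgroup G := H.map (MulAut.conj b).toMonoidHom with hH'
  have hH'M : ¬ H' ≤ M := by
    intro hle
    apply hb
    apply hle
    refine ⟨h, hhH, ?_⟩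
    simp [MulAut.conj_apply]
  obtain ⟨C', hsup, hinf⟩ := Cfsg.Agent.S5901.result ⊥ X M bot_le hXtop
    (fun Y _ hYX => interval_of_complemented X hK Y hYX) hM hXM huniq H' hH'M (inf_bot_eq _)
  have hHH' : H = H'.map (MulAut.conj b⁻¹).toMonoidHom := by
    rw [hH', Subgroup.map_map]
    have : (MulAut.conj b⁻¹).toMonoidHom.comp (MulAut.conj b).toMonoidHom = MonoidHom.id G := by
      ext x
      simp [MulAut.conj_apply, mul_assoc]
    rw [this, Subgroup.map_id]
  refine ⟨C'.map (MulAut.conj b⁻¹).toMonoidHom, ?_, ?_⟩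
  · rw [hHH', ← Subgroup.map_sup, hsup]
    exact Subgroup.map_top_of_surjective _ (MulAut.conj b⁻¹).surjective
  · rw [hHH', ← Subgroup.map_inf _ _ _ (MulAut.conj b⁻¹).injective, hinf, Subgroup.map_bot]

/-- Let G be a finite group, X a subgroup whose own subgroup lattice is complemented, and suppose X lies in exactly one maximal subgroup M of G. Then every subgroup H of G not contained in the normal core of M has a complement in the subgroup lattice of G (some C with H ⊔ C = G and H ⊓ C = 1); in particular the subgroup lattice of G modulo the normal core of M is complemented. -/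
theorem result {G : Type*} [Group G] [Finite G] (X M : Subgroup G)
    (hK : ComplementedLattice (Subgroup X))
    (hM : IsCoatom M) (hXM : X ≤ M) (huniq : ∀ M' : Subgroup G, IsCoatom M' → X ≤ M' → M' = M) :
    (∀ H : Subgroup G, ¬ H ≤ M.normalCore → ∃ C : Subgroup G, H ⊔ C = ⊤ ∧ H ⊓ C = ⊥) ∧
    ComplementedLattice (Subgroup (G ⧸ M.normalCore)) := by
  refine ⟨exists_compl X M hK hM hXM huniq, ⟨fun Hbar => ?_⟩⟩
  by_cases hbot : Hbar = ⊥
  · exact ⟨⊤, hbot ▸ isCompl_bot_top⟩
  set N := M.normalCore with hN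
  set H : Subgroup G := Hbar.comap (QuotientGroup.mk' N) with hHdef
  have hsurj : Function.Surjective (QuotientGroup.mk' N) := QuotientGroup.mk'_surjective N
  have hmap : H.map (QuotientGroup.mk' N) = Hbar := Subgroup.map_comap_eq_self_of_surjective hsurj Hbar
  have hHN : ¬ H ≤ N := by
    intro hle
    apply hbot
    rw [← hmap, eq_bot_iff]
    calc H.map (QuotientGroup.mk' N) ≤ N.map (QuotientGroup.mk' N) := Subgroup.map_mono hle
      _ = ⊥ := QuotientGroup.map_mk'_self N
  obtain ⟨C, hsup, hinf⟩ := exists_compl X M hK hM hXM huniq H hHN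
  refine ⟨C.map (QuotientGroup.mk' N), IsCompl.of_eq ?_ ?_⟩
  · rw [eq_bot_iff]
    rintro x ⟨hxH, c, hcC, rfl⟩
    have hcH : c ∈ H := hxH
    have : c ∈ H ⊓ C := ⟨hcH, hcC⟩
    rw [hinf, Subgroup.mem_bot] at this
    rw [this, map_one]
    exact Subgroup.one_mem _
  · rw [← hmap, ← Subgroup.map_sup, hsup]
    exact Subgroup.map_top_of_surjective _ hsurj

end Cfsg.Agent.S5902
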