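import Cfsg.Statements.S5903
import Cfsg.Agent.S5901

set_option autoImplicit false
open Cfsg

namespace Cfsg.Agent.S5903

theorem compl_of_conj {G : Type*} [Group G] (H : Subgroup G) (b : G)
    (h : ∃ C : Subgroup G, H.map (MulAut.conj b).toMonoidHom ⊔ C = ⊤ ∧
      H.map (MulAut.conj b).toMonoidHom ⊓ C = ⊥) :
    ∃ C : Subgroup G, H ⊔ C = ⊤ ∧ H ⊓ C = ⊥ := by
  obtain ⟨C', hsup, hinf⟩ := h
  have hHH' : H = (H.map (MulAut.conj b).toMonoidHom).map (MulAut.conj b⁻¹).toMonoidHom := by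
    rw [Subgroup.map_map]
    have : (MulAut.conj b⁻¹).toMonoidHom.comp (MulAut.conj b).toMonoidHom = MonoidHom.id G := by
      ext x
      simp [MulAut.conj_apply, mul_assoc]
    rw [this, Subgroup.map_id]
  refine ⟨C'.map (MulAut.conj b⁻¹).toMonoidHom, ?_, ?_⟩
  · rw [hHH', ← Subgroup.map_sup, hsup]
    exact Subgroup.map_top_of_surjective _ (MulAut.conj b⁻¹).surjective
  · rw [hHH', ← Subgroup.map_inf _ _ _ (MulAut.conj b⁻¹).injective, hinf, Subgroup.map_bot]

theorem interval_of_quotient {G : Type*} [Group G] (X N : Subgroup G) (hNX : N ≤ X)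
    [(N.subgroupOf X).Normal] (hK : ComplementedLattice (Subgroup (X ⧸ N.subgroupOf X)))
    (Y : Subgroup G) (hNY : N ≤ Y) (hYX : Y ≤ X) :
    ∃ C : Subgroup G, N ≤ C ∧ C ≤ X ∧ Y ⊔ C = X ∧ Y ⊓ C = N := by
  set N' := N.subgroupOf X with hN'
  set π := QuotientGroup.mk' N' with hπ
  have hsurj : Function.Surjective π := QuotientGroup.mk'_surjective N'
  have hker : π.ker = N' := QuotientGroup.ker_mk' N'
  set Y' := Y.subgroupOf X with hY'
  have hN'Y' : N' ≤ Y' := Subgroup.comap_mono hNY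
  obtain ⟨Cbar, hC⟩ := hK.exists_isCompl (Y'.map π)
  set C' := Cbar.comap π with hC'
  have hN'C' : N' ≤ C' := by
    rw [← hker]
    exact Subgroup.ker_le_comap π Cbar
  have hY : Y = Y'.map X.subtype := (Subgroup.map_subgroupOf_eq_of_le hYX).symm
  have hNmap : N = N'.map X.subtype := (Subgroup.map_subgroupOf_eq_of_le hNX).symm
  have hYcomap : (Y'.map π).comap π = Y' := by
    apply Subgroup.comap_map_eq_self
    rw [hker]; exact hN'Y'
  refine ⟨C'.map X.subtype, ?_, Subgroup.map_subtype_le C', ?_, ?_⟩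
  · conv_lhs => rw [hNmap]
    exact Subgroup.map_mono hN'C'
  · conv_lhs => rw [hY]
    rw [← Subgroup.map_sup]
    have : Y' ⊔ C' = ⊤ := by
      have h1 : (Y' ⊔ C').map π = ⊤ := by
        rw [Subgroup.map_sup, hC', Subgroup.map_comap_eq_self_of_surjective hsurj, hC.sup_eq_top]
      have h2 : ((Y' ⊔ C').map π).comap π = Y' ⊔ C' := by
        apply Subgroup.comap_map_eq_self
        rw [hker]; exact hN'Y'.trans le_sup_left
      rw [← h2, h1, Subgroup.comap_top]
    rw [this, ← MonoidHom.range_eq_map, Subgroup.range_subtype]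
  · conv_lhs => rw [hY]
    rw [← Subgroup.map_inf _ _ _ X.subtype_injective]
    have : Y' ⊓ C' = N' := by
      rw [← hYcomap, hC', ← Subgroup.comap_inf, hC.inf_eq_bot]
      exact (MonoidHom.comap_bot π).trans hker
    rw [this, ← hNmap]

theorem exists_conj_good {G : Type*} [Group G] [Finite G] [IsSimpleGroup G] (M N : Subgroup G)
    (hM : IsCoatom M) (hN : (Nat.card N).Prime) (hcen : ∀ n ∈ N, ∀ m ∈ M, m * n = n * m)
    (H : Subgroup G) (hbot : H ≠ ⊥) (htop : H ≠ ⊤) :
    ∃ c : G, (¬ ∀ h ∈ H, c⁻¹ * h * c ∈ M) ∧ ¬ (∀ n ∈ N, c * n * c⁻¹ ∈ H) := by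
  by_contra hcon0
  have hcon : ∀ c : G, (¬ ∀ h ∈ H, c⁻¹ * h * c ∈ M) → ∀ n ∈ N, c * n * c⁻¹ ∈ H := by
    intro c hc
    by_contra h2
    exact hcon0 ⟨c, hc, h2⟩
  -- hcon : ∀ c, (¬ ∀ h ∈ H, c⁻¹ h c ∈ M) → ∀ n ∈ N, c n c⁻¹ ∈ H
  have hNbot : N ≠ ⊥ := by
    intro h
    rw [h] at hN
    simp at hN
    exact Nat.not_prime_one hN
  set S : Set G := {x | ∃ c n, n ∈ N ∧ (∀ n' ∈ N, c * n' * c⁻¹ ∈ H) ∧ x = c * n * c⁻¹} with hS
  set L : Subgroup G := Subgroup.closure S with hL
  have hLH : L ≤ H := by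
    rw [hL, Subgroup.closure_le]
    rintro x ⟨c, n, hn, hc, rfl⟩
    exact hc n hn
  -- normal closure of N is everything
  have hncl : Subgroup.normalClosure (N : Set G) = ⊤ := by
    rcases (Subgroup.normalClosure_normal (s := (N : Set G))).eq_bot_or_eq_top with h | h
    · exfalso
      apply hNbot
      rw [eq_bot_iff, ← h]
      exact Subgroup.le_normalClosure
    · exact h
  have hnorm : ∀ y ∈ Group.conjugatesOfSet (N : Set G), y ∈ Subgroup.normalizer (L : Set G) := by
    intro y hy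
    rw [Group.mem_conjugatesOfSet_iff] at hy
    obtain ⟨n, hn, hconj⟩ := hy
    rw [isConj_iff] at hconj
    obtain ⟨c, rfl⟩ := hconj
    by_cases hc : ∀ h ∈ H, c⁻¹ * h * c ∈ M
    · -- y centralizes H
      have hcomm : ∀ h ∈ H, (c * n * c⁻¹) * h = h * (c * n * c⁻¹) := by
        intro h hh
        have := hcen n hn _ (hc h hh)
        -- (c⁻¹ h c) n = n (c⁻¹ h c)
        calc c * n * c⁻¹ * h = c * (n * (c⁻¹ * h * c)) * c⁻¹ := by group
          _ = c * ((c⁻¹ * h * c) * n) * c⁻¹ := by rw [this]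
          _ = h * (c * n * c⁻¹) := by group
      rw [Subgroup.mem_normalizer_iff]
      intro x
      constructor
      · intro hx
        have := hcomm x (hLH hx)
        rw [this, mul_inv_cancel_right]
        exact hx
      · intro hx
        have h1 : (c * n * c⁻¹)⁻¹ * (c * n * c⁻¹ * x * (c * n * c⁻¹)⁻¹) * (c * n * c⁻¹) = x := by group
        have h2 := hcomm _ (hLH hx)
        rw [← h1, mul_assoc, ← h2, ← mul_assoc, inv_mul_cancel, one_mul]
        exact hx
    · have hcN := hcon c hc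
      have : c * n * c⁻¹ ∈ L := Subgroup.subset_closure ⟨c, n, hn, hcN, rfl⟩
      exact Subgroup.le_normalizer this
  have hLnormalizer : Subgroup.normalizer (L : Set G) = ⊤ := by
    rw [eq_top_iff, ← hncl, Subgroup.normalClosure, Subgroup.closure_le]
    exact hnorm
  have hLnormal : L.Normal := Subgroup.normalizer_eq_top_iff.mp hLnormalizer
  have hLbot : L = ⊥ := by
    rcases hLnormal.eq_bot_or_eq_top with h | h
    · exact h
    · exact absurd (top_le_iff.mp (h ▸ hLH)) htop
  have hall : ∀ c : G, ∀ h ∈ H, c⁻¹ * h * c ∈ M := by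
    intro c
    by_contra hc
    have hcN := hcon c hc
    apply hNbot
    rw [eq_bot_iff]
    intro n hn
    have : c * n * c⁻¹ ∈ L := Subgroup.subset_closure ⟨c, n, hn, hcN, rfl⟩
    rw [hLbot, Subgroup.mem_bot] at this
    rw [Subgroup.mem_bot]
    have h3 : n = c⁻¹ * (c * n * c⁻¹) * c := by group
    rw [h3, this]; group
  have hcore : M.normalCore = ⊥ := by
    rcases (Subgroup.normalCore_normal M).eq_bot_or_eq_top with h | h
    · exact h
    · exact absurd (top_le_iff.mp (h ▸ Subgroup.normalCore_le M)) hM.1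
  apply hbot
  rw [eq_bot_iff, ← hcore]
  intro h hh
  show ∀ b : G, b * h * b⁻¹ ∈ M
  intro b
  have := hall b⁻¹ h hh
  simpa using this

/-- Let G be a finite simple group, X a subgroup lying in exactly one maximal subgroup M of G, and N a subgroup of prime order with N ≤ X that is central in M. If the subgroup lattice of X/N is complemented, then the subgroup lattice of G is complemented. -/
theorem result {G : Type*} [Group G] [Finite G] [IsSimpleGroup G] (X M N : Subgroup G)
    (hM : IsCoatom M) (hXM : X ≤ M) (huniq : ∀ M' : Subgroup G, IsCoatom M' → X ≤ M' → M' = M)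
    (hNX : N ≤ X) (hN : (Nat.card N).Prime) (hcen : ∀ n ∈ N, ∀ m ∈ M, m * n = n * m)
    [(N.subgroupOf X).Normal] (hK : ComplementedLattice (Subgroup (X ⧸ N.subgroupOf X))) :
    ComplementedLattice (Subgroup G) := by
  refine ⟨fun H => ?_⟩
  by_cases hbot : H = ⊥
  · exact ⟨⊤, hbot ▸ isCompl_bot_top⟩
  by_cases htop : H = ⊤
  · exact ⟨⊥, htop ▸ isCompl_top_bot⟩
  have hXtop : X ≠ ⊤ := fun h => hM.1 (top_le_iff.mp (h ▸ hXM))
  obtain ⟨c, hc1, hc2⟩ := exists_conj_good M N hM hN hcen H hbot htop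
  set H' : Subgroup G := H.map (MulAut.conj c⁻¹).toMonoidHom with hH'
  have hH'M : ¬ H' ≤ M := by
    intro hle
    apply hc1
    intro h hh
    have : (MulAut.conj c⁻¹) h ∈ H' := ⟨h, hh, rfl⟩
    have := hle this
    simpa [MulAut.conj_apply] using this
  have hH'N : H' ⊓ N = ⊥ := by
    by_contra hne
    apply hc2
    -- H' ⊓ N is a nontrivial subgroup of N of prime order so equals N
    have hle : H' ⊓ N ≤ N := inf_le_right
    have hdvd : Nat.card ↥(H' ⊓ N) ∣ Nat.card N := Subgroup.card_dvd_of_le hle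
    rcases (Nat.dvd_prime hN).mp hdvd with h1 | h1
    · exact absurd (Subgroup.eq_bot_of_card_eq _ h1) hne
    · have heq : H' ⊓ N = N := Subgroup.eq_of_le_of_card_ge hle (le_of_eq h1.symm)
      intro n hn
      have hnH' : n ∈ H' := by
        have : n ∈ H' ⊓ N := by rw [heq]; exact hn
        exact this.1
      obtain ⟨h, hh, rfl⟩ := hnH'
      simp only [MulEquiv.coe_toMonoidHom, MulAut.conj_apply, inv_inv]
      have : c * (c⁻¹ * h * c) * c⁻¹ = h := by group
      rw [this]; exact hh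
  have := Cfsg.Agent.S5901.result N X M hNX hXtop
    (fun Y hNY hYX => interval_of_quotient X N hNX hK Y hNY hYX) hM hXM huniq H' hH'M hH'N
  obtain ⟨C, hsup, hinf⟩ := compl_of_conj H c⁻¹ this
  exact ⟨C, IsCompl.of_eq hinf hsup⟩

end Cfsg.Agent.S5903
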