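import Cfsg.Statements.S5904

set_option autoImplicit false
open scoped Pointwise
open Cfsg

namespace Cfsg.Agent.S5904

/-- Let Ω be a finite set with more than two elements and O ⊆ Ω a subset with exactly as many elements as its complement. Then the setwise stabilizer of O in the symmetric group on Ω is not a maximal subgroup (it is properly contained in the stabilizer of the partition {O, Ω ∖ O}, which is proper). -/
theorem result {Ω : Type*} [Fintype Ω] [DecidableEq Ω] (hΩ : 2 < Fintype.card Ω)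
    (O : Set Ω) (hO : Nat.card O = Nat.card ↥Oᶜ) :
    ¬ IsCoatom (MulAction.stabilizer (Equiv.Perm Ω) O) := by
  classical
  intro hco
  -- cardinalities
  have hcard : O.ncard + Oᶜ.ncard = Fintype.card Ω := by
    rw [Set.ncard_add_ncard_compl, Nat.card_eq_fintype_card]
  have hO' : O.ncard = Oᶜ.ncard := by
    rw [← Nat.card_coe_set_eq, ← Nat.card_coe_set_eq]; exact hO
  have h2 : 1 < O.ncard := by omega
  have h2' : 0 < Oᶜ.ncard := by omega
  obtain ⟨a, a', ha, ha', haa'⟩ := (Set.one_lt_ncard_iff).mp h2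
  obtain ⟨b, hb⟩ := (Set.ncard_pos).mp h2'
  -- the swapping permutation
  obtain ⟨e⟩ : Nonempty (O ≃ (Oᶜ : Set Ω)) := (Finite.card_eq).mp hO
  set g : Equiv.Perm Ω :=
    ((Equiv.Set.sumCompl O).symm.trans ((Equiv.sumCongr e e.symm).trans (Equiv.sumComm _ _))).trans
      (Equiv.Set.sumCompl O) with hg
  have hg1 : g • O ⊆ Oᶜ := by
    rintro _ ⟨x, hx, rfl⟩
    show g x ∈ Oᶜ
    simp only [hg, Equiv.trans_apply, Equiv.Set.sumCompl_symm_apply_of_mem hx, Equiv.sumCongr_apply,
      Sum.map_inl, Equiv.sumComm_apply, Sum.swap_inl, Equiv.Set.sumCompl_apply_inr]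
    exact (e ⟨x, hx⟩).2
  have hg2 : g • Oᶜ ⊆ O := by
    rintro _ ⟨x, hx, rfl⟩
    show g x ∈ O
    simp only [hg, Equiv.trans_apply, Equiv.Set.sumCompl_symm_apply_of_notMem hx, Equiv.sumCongr_apply,
      Sum.map_inr, Equiv.sumComm_apply, Sum.swap_inr, Equiv.Set.sumCompl_apply_inl]
    exact (e.symm ⟨x, hx⟩).2
  have hgO : g • O = Oᶜ := by
    apply Set.Subset.antisymm hg1
    rw [Set.smul_set_compl] at hg2
    exact Set.compl_subset_comm.mp hg2
  set K : Subgroup (Equiv.Perm Ω) :=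
    MulAction.stabilizer (Equiv.Perm Ω) ({O, Oᶜ} : Set (Set Ω)) with hK
  have hmemK : ∀ σ : Equiv.Perm Ω, σ ∈ K ↔ ({σ • O, (σ • O)ᶜ} : Set (Set Ω)) = {O, Oᶜ} := by
    intro σ
    rw [hK, MulAction.mem_stabilizer_iff, Set.smul_set_insert, Set.smul_set_singleton,
      Set.smul_set_compl]
  have hHK : MulAction.stabilizer (Equiv.Perm Ω) O ≤ K := by
    intro σ hσ
    rw [MulAction.mem_stabilizer_iff] at hσ
    rw [hmemK, hσ]
  have hgK : g ∈ K := by
    rw [hmemK, hgO, compl_compl, Set.pair_comm]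
  have hOne : O.Nonempty := ⟨a, ha⟩
  have hgH : g ∉ MulAction.stabilizer (Equiv.Perm Ω) O := by
    rw [MulAction.mem_stabilizer_iff, hgO]
    intro h
    have : a ∈ Oᶜ := by rw [h]; exact ha
    exact this ha
  have hlt : MulAction.stabilizer (Equiv.Perm Ω) O < K :=
    lt_of_le_of_ne hHK (fun h => hgH (h ▸ hgK))
  have hKtop : K = ⊤ := hco.2 K hlt
  -- a permutation not in K
  have hab : a ≠ b := fun h => hb (h ▸ ha)
  have ha'b : a' ≠ b := fun h => hb (h ▸ ha')
  have ht : Equiv.swap a b ∈ K := hKtop ▸ Subgroup.mem_top _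
  rw [hmemK] at ht
  have h1 : Equiv.swap a b • O ∈ ({O, Oᶜ} : Set (Set Ω)) := by
    rw [← ht]; exact Set.mem_insert _ _
  have hb_mem : b ∈ Equiv.swap a b • O := ⟨a, ha, by simp⟩
  have ha'_mem : a' ∈ Equiv.swap a b • O :=
    ⟨a', ha', by simp [Equiv.swap_apply_of_ne_of_ne haa'.symm ha'b]⟩
  rcases h1 with h1 | h1
  · rw [h1] at hb_mem; exact hb hb_mem
  · rw [Set.mem_singleton_iff] at h1
    rw [h1] at ha'_mem; exact ha'_mem ha'

end Cfsg.Agent.S5904
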