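import Cfsg.Statements.S5905

set_option autoImplicit false
set_option linter.unusedSectionVars false
open Cfsg

namespace Cfsg.Agent.S5905

section

variable {Ω : Type*} [Fintype Ω] [DecidableEq Ω] {b : ℕ} (f : Ω → Fin b)

/-- The subgroup of permutations preserving the partition into fibres. -/
def W : Subgroup (Equiv.Perm Ω) where
  carrier := {g | ∀ x y : Ω, f x = f y ↔ f (g x) = f (g y)}
  mul_mem' := by
    intro g h hg hh x y
    rw [hh x y, hg (h x) (h y)]; rfl
  one_mem' := by intro x y; rfl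
  inv_mem' := by
    intro g hg x y
    have := hg (g⁻¹ x) (g⁻¹ y)
    rw [show g (g⁻¹ x) = x from by simp, show g (g⁻¹ y) = y from by simp] at this
    exact this.symm

theorem closure_eq_W :
    Subgroup.closure {g : Equiv.Perm Ω | ∀ x y : Ω, f x = f y ↔ f (g x) = f (g y)} = W f :=
  Subgroup.closure_eq (W f)

theorem mem_W_iff (g : Equiv.Perm Ω) : g ∈ W f ↔ ∀ x y : Ω, f x = f y ↔ f (g x) = f (g y) :=
  Iff.rfl

theorem exists_perm_two {α : Type*} [DecidableEq α] {i i' k k' : α} (h : i ≠ i') (h' : k ≠ k') :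
    ∃ σ : Equiv.Perm α, σ i = k ∧ σ i' = k' := by
  refine ⟨Equiv.swap (Equiv.swap i k i') k' * Equiv.swap i k, ?_, ?_⟩
  · simp only [Equiv.Perm.mul_apply, Equiv.swap_apply_left]
    apply Equiv.swap_apply_of_ne_of_ne
    · intro hk
      have : Equiv.swap i k i = Equiv.swap i k i' := by rw [Equiv.swap_apply_left]; exact hk
      exact h ((Equiv.swap i k).injective this)
    · exact h'
  · simp [Equiv.Perm.mul_apply]

theorem exists_equiv (a : ℕ) (hf : ∀ i : Fin b, Nat.card {x : Ω // f x = i} = a) :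
    ∃ e : Ω ≃ Fin b × Fin a, ∀ x, (e x).1 = f x := by
  have h : ∀ i : Fin b, Nonempty ({x : Ω // f x = i} ≃ Fin a) := by
    intro i
    rw [← Finite.card_eq, hf i, Nat.card_eq_fintype_card, Fintype.card_fin]
  let g : ∀ i : Fin b, {x : Ω // f x = i} ≃ Fin a := fun i => (h i).some
  refine ⟨(Equiv.sigmaFiberEquiv f).symm.trans
    ((Equiv.sigmaCongrRight g).trans (Equiv.sigmaEquivProd (Fin b) (Fin a))), fun x => rfl⟩

variable {a : ℕ} (e : Ω ≃ Fin b × Fin a)

/-- A permutation acting as `σ` on the set of fibres and as `τ i` inside the fibre `i`. -/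
def shear (σ : Equiv.Perm (Fin b)) (τ : Fin b → Equiv.Perm (Fin a)) : Equiv.Perm Ω :=
  e.trans ((Equiv.prodShear σ τ).trans e.symm)

theorem shear_apply (σ : Equiv.Perm (Fin b)) (τ : Fin b → Equiv.Perm (Fin a)) (x : Ω) :
    shear e σ τ x = e.symm (σ (e x).1, τ (e x).1 (e x).2) := rfl

theorem shear_mem (he : ∀ x, (e x).1 = f x) (σ : Equiv.Perm (Fin b))
    (τ : Fin b → Equiv.Perm (Fin a)) : shear e σ τ ∈ W f := by
  intro x y
  rw [shear_apply, shear_apply, ← he, ← he, ← he (e.symm _), ← he (e.symm _),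
    e.apply_symm_apply, e.apply_symm_apply]
  exact (σ.injective.eq_iff).symm

theorem exists_mem_W_map (he : ∀ x, (e x).1 = f x) {u v u' v' : Ω} (huv : f u ≠ f v)
    (hu'v' : f u' ≠ f v') : ∃ w ∈ W f, w u = u' ∧ w v = v' := by
  obtain ⟨σ, hσ1, hσ2⟩ := exists_perm_two huv hu'v'
  let τ : Fin b → Equiv.Perm (Fin a) := fun x =>
    if x = f u then Equiv.swap (e u).2 (e u').2
    else if x = f v then Equiv.swap (e v).2 (e v').2 else 1
  refine ⟨shear e σ τ, shear_mem f e he σ τ, ?_, ?_⟩
  · rw [shear_apply, Equiv.symm_apply_eq]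
    apply Prod.ext
    · simp only [he, hσ1]
    · simp only [he, τ, if_true, Equiv.swap_apply_left]
  · rw [shear_apply, Equiv.symm_apply_eq]
    apply Prod.ext
    · simp only [he, hσ2]
    · simp only [he, τ, if_neg huv.symm, if_true, Equiv.swap_apply_left]

theorem f_swap {p q : Ω} (h : f p = f q) (z : Ω) : f (Equiv.swap p q z) = f z := by
  rw [Equiv.swap_apply_def]
  split_ifs with h1 h2
  · rw [h1, h]
  · rw [h2, h]
  · rfl

theorem swap_mem_W {p q : Ω} (h : f p = f q) : Equiv.swap p q ∈ W f := by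
  intro x y
  rw [f_swap f h, f_swap f h]

end

/-- Let Ω be a finite set and f : Ω → Fin b a map onto b ≥ 2 labels whose fibres all have the same size a ≥ 2 (a partition of Ω into b blocks of size a, so |Ω| = ab). Then the stabilizer of this partition in the symmetric group on Ω — the permutations g such that x and y lie in the same block exactly when g x and g y do, a group isomorphic to the imprimitive wreath product S_a ≀ S_b — is a maximal subgroup of the symmetric group. -/
theorem result {Ω : Type*} [Fintype Ω] [DecidableEq Ω] (a b : ℕ) (ha : 2 ≤ a) (hb : 2 ≤ b)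
    (f : Ω → Fin b) (hf : ∀ i : Fin b, Nat.card {x : Ω // f x = i} = a) :
    IsCoatom (Subgroup.closure {g : Equiv.Perm Ω | ∀ x y : Ω, f x = f y ↔ f (g x) = f (g y)}) := by
  rw [closure_eq_W]
  obtain ⟨e, he⟩ := exists_equiv f a hf
  let i0 : Fin b := ⟨0, by omega⟩
  let i1 : Fin b := ⟨1, by omega⟩
  let j0 : Fin a := ⟨0, by omega⟩
  let j1 : Fin a := ⟨1, by omega⟩
  set x := e.symm (i0, j0) with hx
  set x' := e.symm (i0, j1) with hx'
  set y := e.symm (i1, j0) with hy
  have hfx : f x = i0 := by rw [← he, hx, e.apply_symm_apply]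
  have hfx' : f x' = i0 := by rw [← he, hx', e.apply_symm_apply]
  have hfy : f y = i1 := by rw [← he, hy, e.apply_symm_apply]
  have hi01 : i0 ≠ i1 := by simp [i0, i1, Fin.ext_iff]
  have hxx' : x ≠ x' := by
    intro h
    have := e.symm.injective h
    simp [j0, j1, Fin.ext_iff] at this
  constructor
  · intro htop
    have hmem : Equiv.swap x' y ∈ W f := htop ▸ Subgroup.mem_top _
    have h1 := (hmem x x').mp (hfx.trans hfx'.symm)
    have hxy : x ≠ y := fun h => hi01 (by rw [← hfx, ← hfy, h])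
    rw [Equiv.swap_apply_of_ne_of_ne hxx' hxy, Equiv.swap_apply_left, hfx, hfy] at h1
    exact hi01 h1
  · intro G hG
    obtain ⟨g, hgG, hgW⟩ := SetLike.exists_of_lt hG
    have key : ∀ g ∈ G, ∀ p q, f p = f q → f (g p) ≠ f (g q) →
        ∃ u v, f u ≠ f v ∧ Equiv.swap u v ∈ G := by
      intro g hg p q hpq hne
      refine ⟨g p, g q, hne, ?_⟩
      rw [Equiv.swap_apply_apply]
      exact G.mul_mem (G.mul_mem hg (hG.le (swap_mem_W f hpq))) (G.inv_mem hg)
    have hcross : ∃ u v, f u ≠ f v ∧ Equiv.swap u v ∈ G := by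
      rw [mem_W_iff] at hgW
      push Not at hgW
      obtain ⟨p, q, ⟨h1, h2⟩ | ⟨h1, h2⟩⟩ := hgW
      · exact key g hgG p q h1 h2
      · exact key g⁻¹ (G.inv_mem hgG) (g p) (g q) h2 (by simpa using h1)
    obtain ⟨u, v, huv, hswap⟩ := hcross
    rw [eq_top_iff, ← Equiv.Perm.closure_isSwap, Subgroup.closure_le]
    rintro _ ⟨p, q, hpq, rfl⟩
    by_cases h : f p = f q
    · exact hG.le (swap_mem_W f h)
    · obtain ⟨w, hw, hwu, hwv⟩ := exists_mem_W_map f e he huv h
      rw [← hwu, ← hwv, Equiv.swap_apply_apply]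
      exact G.mul_mem (G.mul_mem (hG.le hw) hswap) (G.inv_mem (hG.le hw))

end Cfsg.Agent.S5905
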