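import Cfsg.Statements.S5909
import Cfsg.Agent.S5905

set_option autoImplicit false
set_option linter.unusedSectionVars false
set_option linter.unusedSimpArgs false
open Cfsg

namespace Cfsg.Agent.S5909

open Cfsg.Agent.S5905 Equiv

section

variable {Ω : Type*} [Fintype Ω] [DecidableEq Ω] {b : ℕ} (f : Ω → Fin b)

/-- The 3-cycle `x ↦ y ↦ z ↦ x`. -/
def cyc3 (x y z : Ω) : Perm Ω := swap x y * swap y z

theorem conj_cyc3 (g : Perm Ω) (x y z : Ω) : g * cyc3 x y z * g⁻¹ = cyc3 (g x) (g y) (g z) := by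
  unfold cyc3
  rw [swap_apply_apply, swap_apply_apply]
  group

theorem cyc3_apply_1 {x y z : Ω} (hxy : x ≠ y) (hxz : x ≠ z) : cyc3 x y z x = y := by
  unfold cyc3
  rw [Perm.mul_apply, swap_apply_of_ne_of_ne hxy hxz, swap_apply_left]

theorem cyc3_apply_2 {x y z : Ω} (hxz : x ≠ z) (hyz : y ≠ z) : cyc3 x y z y = z := by
  unfold cyc3
  rw [Perm.mul_apply, swap_apply_left, swap_apply_of_ne_of_ne hxz.symm hyz.symm]

theorem cyc3_apply_3 (x y z : Ω) : cyc3 x y z z = x := by
  unfold cyc3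
  rw [Perm.mul_apply, swap_apply_right, swap_apply_right]

theorem cyc3_apply_of_ne {x y z w : Ω} (h1 : w ≠ x) (h2 : w ≠ y) (h3 : w ≠ z) : cyc3 x y z w = w := by
  unfold cyc3
  rw [Perm.mul_apply, swap_apply_of_ne_of_ne h2 h3, swap_apply_of_ne_of_ne h1 h2]

theorem cyc3_rot {x y z : Ω} (hxy : x ≠ y) (hxz : x ≠ z) (hyz : y ≠ z) : cyc3 x y z = cyc3 y z x := by
  ext w
  by_cases h1 : w = x
  · rw [h1, cyc3_apply_1 hxy hxz, cyc3_apply_3]
  by_cases h2 : w = y
  · rw [h2, cyc3_apply_2 hxz hyz, cyc3_apply_1 hyz hxy.symm]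
  by_cases h3 : w = z
  · rw [h3, cyc3_apply_3, cyc3_apply_2 hxy.symm hxz.symm]
  rw [cyc3_apply_of_ne h1 h2 h3, cyc3_apply_of_ne h2 h3 h1]

theorem cyc3_rot' {x y z : Ω} (hxy : x ≠ y) (hxz : x ≠ z) (hyz : y ≠ z) : cyc3 x y z = cyc3 z x y := by
  rw [cyc3_rot hxy hxz hyz, cyc3_rot hyz hxy.symm hxz.symm]

theorem cyc3_mem_alt {x y z : Ω} (hxy : x ≠ y) (hyz : y ≠ z) : cyc3 x y z ∈ alternatingGroup Ω :=
  Equiv.Perm.mul_mem_alternatingGroup_of_isSwap ⟨x, y, hxy, rfl⟩ ⟨y, z, hyz, rfl⟩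

theorem cyc3_mem_W {x y z : Ω} (hxy : f x = f y) (hyz : f y = f z) : cyc3 x y z ∈ W f :=
  (W f).mul_mem (swap_mem_W f hxy) (swap_mem_W f hyz)

theorem cyc3_mul {x y z x' : Ω} (hxy : x ≠ y) (hxz : x ≠ z) (hyz : y ≠ z) (h1 : x' ≠ x)
    (h2 : x' ≠ y) (h3 : x' ≠ z) : cyc3 x y z = cyc3 x x' z * cyc3 x y x' := by
  ext w
  rw [Perm.mul_apply]
  by_cases hw1 : w = x
  · rw [hw1, cyc3_apply_1 hxy hxz, cyc3_apply_1 hxy h1.symm, cyc3_apply_of_ne hxy.symm h2.symm hyz]
  by_cases hw2 : w = y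
  · rw [hw2, cyc3_apply_2 hxz hyz, cyc3_apply_2 h1.symm h2.symm, cyc3_apply_2 hxz h3]
  by_cases hw3 : w = z
  · rw [hw3, cyc3_apply_3, cyc3_apply_of_ne hxz.symm hyz.symm h3.symm, cyc3_apply_3]
  by_cases hw4 : w = x'
  · rw [hw4, cyc3_apply_of_ne h1 h2 h3, cyc3_apply_3, cyc3_apply_1 h1.symm hxz]
  rw [cyc3_apply_of_ne hw1 hw2 hw3, cyc3_apply_of_ne hw1 hw2 hw4, cyc3_apply_of_ne hw1 hw4 hw3]

variable {a : ℕ} (e : Ω ≃ Fin b × Fin a)

theorem exists_in_block (he : ∀ x, (e x).1 = f x) (i : Fin b) (S : Finset Ω) (hS : S.card < a) :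
    ∃ r, f r = i ∧ r ∉ S := by
  have hinj : Function.Injective (fun j : Fin a => e.symm (i, j)) := by
    intro j j' h
    have := e.symm.injective h
    exact (Prod.mk.inj this).2
  have hcard : (Finset.univ.image (fun j : Fin a => e.symm (i, j))).card = a := by
    rw [Finset.card_image_of_injective _ hinj, Finset.card_univ, Fintype.card_fin]
  obtain ⟨r, hr, hrS⟩ := Finset.exists_mem_notMem_of_card_lt_card (hcard.symm ▸ hS)
  obtain ⟨j, -, rfl⟩ := Finset.mem_image.mp hr
  exact ⟨_, by rw [← he, e.apply_symm_apply], hrS⟩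

theorem exists_block (T : Finset (Fin b)) (hT : T.card < b) : ∃ i, i ∉ T := by
  have : T.card < (Finset.univ : Finset (Fin b)).card := by
    rw [Finset.card_univ, Fintype.card_fin]; exact hT
  obtain ⟨i, -, hi⟩ := Finset.exists_mem_notMem_of_card_lt_card this
  exact ⟨i, hi⟩

/-- An auxiliary within-block transposition avoiding three given points. -/
theorem exists_aux_pair (he : ∀ x, (e x).1 = f x) (ha : 2 ≤ a) (hab : 3 ≤ a ∨ 3 ≤ b)
    {u u' v : Ω} (hfu : f u = f u') (hfv : f v ≠ f u) :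
    ∃ r r', r ≠ r' ∧ f r = f r' ∧ r ≠ u ∧ r ≠ u' ∧ r ≠ v ∧ r' ≠ u ∧ r' ≠ u' ∧ r' ≠ v := by
  rcases hab with h3 | h3
  · obtain ⟨r, hr, hrS⟩ := exists_in_block f e he (f v) {v} (by simp; omega)
    obtain ⟨r', hr', hrS'⟩ := exists_in_block f e he (f v) {v, r}
      (lt_of_le_of_lt (Finset.card_le_two) (by omega))
    simp only [Finset.mem_singleton, Finset.mem_insert, not_or] at hrS hrS'
    have h1 : ∀ t, f t = f v → t ≠ u := fun t ht htu => hfv (by rw [← ht, htu])
    have h2 : ∀ t, f t = f v → t ≠ u' := fun t ht htu => hfv (by rw [← ht, htu, hfu])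
    exact ⟨r, r', fun h => hrS'.2 h.symm, hr.trans hr'.symm, h1 r hr, h2 r hr, hrS,
      h1 r' hr', h2 r' hr', hrS'.1⟩
  · obtain ⟨i, hi⟩ := exists_block {f u, f v} (lt_of_le_of_lt (Finset.card_le_two) (by omega))
    simp only [Finset.mem_singleton, Finset.mem_insert, not_or] at hi
    obtain ⟨r, hr, -⟩ := exists_in_block f e he i ∅ (by simp; omega)
    obtain ⟨r', hr', hrS'⟩ := exists_in_block f e he i {r} (by simp; omega)
    simp only [Finset.mem_singleton] at hrS'
    have h1 : ∀ t, f t = i → t ≠ u := fun t ht htu => hi.1 (by rw [← ht, htu])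
    have h2 : ∀ t, f t = i → t ≠ u' := fun t ht htu => hi.1 (by rw [← ht, htu, hfu])
    have h3 : ∀ t, f t = i → t ≠ v := fun t ht htu => hi.2 (by rw [← ht, htu])
    exact ⟨r, r', fun h => hrS' h.symm, hr.trans hr'.symm, h1 r hr, h2 r hr, h3 r hr,
      h1 r' hr', h2 r' hr', h3 r' hr'⟩

/-- Even elements of `W` act transitively on configurations `(u, u', v)` with `u ≠ u'` in one block
and `v` in another. -/
theorem exists_even_map (he : ∀ x, (e x).1 = f x) (ha : 2 ≤ a) (hab : 3 ≤ a ∨ 3 ≤ b)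
    {u u' v p p' q : Ω} (huu' : u ≠ u') (hfu : f u = f u') (hfv : f v ≠ f u)
    (hpp' : p ≠ p') (hfp : f p = f p') (hfq : f q ≠ f p) :
    ∃ w ∈ W f ⊓ alternatingGroup Ω, w u = p ∧ w u' = p' ∧ w v = q := by
  obtain ⟨w₁, hw₁, hw₁u, hw₁v⟩ := exists_mem_W_map f e he (Ne.symm hfv) (Ne.symm hfq)
  -- fix the image of u'
  have hfu'' : f (w₁ u') = f p := by
    rw [← hw₁u]; exact ((hw₁ u u').mp hfu).symm
  have hne1 : w₁ u' ≠ p := by
    rw [← hw₁u]; exact fun h => huu' (w₁.injective h).symm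
  have hne2 : w₁ u' ≠ q := fun h => hfq (by rw [← h, hfu''])
  have hne3 : p' ≠ q := fun h => hfq (by rw [← h, hfp])
  let w₂ : Perm Ω := swap (w₁ u') p' * w₁
  have hw₂ : w₂ ∈ W f := (W f).mul_mem (swap_mem_W f (hfu''.trans hfp)) hw₁
  have hw₂u : w₂ u = p := by
    show swap (w₁ u') p' (w₁ u) = p
    rw [hw₁u, swap_apply_of_ne_of_ne hne1.symm hpp']
  have hw₂u' : w₂ u' = p' := by
    show swap (w₁ u') p' (w₁ u') = p'
    rw [swap_apply_left]
  have hw₂v : w₂ v = q := by
    show swap (w₁ u') p' (w₁ v) = q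
    rw [hw₁v, swap_apply_of_ne_of_ne hne2.symm hne3.symm]
  rcases Int.units_eq_one_or (Perm.sign w₂) with hs | hs
  · exact ⟨w₂, ⟨hw₂, Perm.mem_alternatingGroup.mpr hs⟩, hw₂u, hw₂u', hw₂v⟩
  · obtain ⟨r, r', hrr', hfr, h1, h2, h3, h4, h5, h6⟩ := exists_aux_pair f e he ha hab hfu hfv
    refine ⟨w₂ * swap r r', ⟨(W f).mul_mem hw₂ (swap_mem_W f hfr), ?_⟩, ?_, ?_, ?_⟩
    · show w₂ * swap r r' ∈ alternatingGroup Ω
      rw [Perm.mem_alternatingGroup, Perm.sign_mul, hs, Perm.sign_swap hrr']; rfl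
    · rw [Perm.mul_apply, swap_apply_of_ne_of_ne h1.symm h4.symm, hw₂u]
    · rw [Perm.mul_apply, swap_apply_of_ne_of_ne h2.symm h5.symm, hw₂u']
    · rw [Perm.mul_apply, swap_apply_of_ne_of_ne h3.symm h6.symm, hw₂v]

/-- Step B: one mixed 3-cycle gives all of them. -/
theorem step_B (he : ∀ x, (e x).1 = f x) (ha : 2 ≤ a) (hab : 3 ≤ a ∨ 3 ≤ b)
    (G : Subgroup (Perm Ω)) (hMG : W f ⊓ alternatingGroup Ω ≤ G)
    {u u' v : Ω} (huu' : u ≠ u') (hfu : f u = f u') (hfv : f v ≠ f u) (hc : cyc3 u u' v ∈ G)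
    {p p' q : Ω} (hpp' : p ≠ p') (hfp : f p = f p') (hfq : f q ≠ f p) : cyc3 p p' q ∈ G := by
  obtain ⟨w, hw, h1, h2, h3⟩ := exists_even_map f e he ha hab huu' hfu hfv hpp' hfp hfq
  rw [← h1, ← h2, ← h3, ← conj_cyc3]
  exact G.mul_mem (G.mul_mem (hMG hw) hc) (G.inv_mem (hMG hw))

/-- Steps C and D: all mixed 3-cycles give the alternating group. -/
theorem alt_le_of_mixed (he : ∀ x, (e x).1 = f x) (ha : 2 ≤ a)
    (G : Subgroup (Perm Ω)) (hMG : W f ⊓ alternatingGroup Ω ≤ G)
    (hT : ∀ u u' v : Ω, u ≠ u' → f u = f u' → f v ≠ f u → cyc3 u u' v ∈ G) :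
    alternatingGroup Ω ≤ G := by
  rw [← Equiv.Perm.closure_three_cycles_eq_alternating, Subgroup.closure_le]
  intro σ hσ
  have hσ3 : σ.IsThreeCycle := hσ
  obtain ⟨x, hx⟩ : σ.support.Nonempty := by
    rw [← Finset.card_pos, hσ3.card_support]; norm_num
  have hnd := hσ3.nodup_iff_mem_support.mpr hx
  have heq := hσ3.eq_swap_mul_swap_iff_mem_support.mpr hx
  set y := σ x
  set z := σ y
  simp only [List.nodup_cons, List.mem_cons, List.mem_singleton, not_or, List.not_mem_nil,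
    not_false_eq_true, List.nodup_nil, and_true] at hnd
  obtain ⟨⟨hxy, hxz⟩, hyz⟩ := hnd
  have hxy : x ≠ y := hxy
  have hxz : x ≠ z := hxz
  have hyz : y ≠ z := hyz
  have hσ' : σ = cyc3 x y z := heq
  rw [SetLike.mem_coe, hσ']
  by_cases h1 : f x = f y
  · by_cases h2 : f y = f z
    · exact hMG ⟨cyc3_mem_W f h1 h2, cyc3_mem_alt hxy hyz⟩
    · exact hT x y z hxy h1 (fun h => h2 (h1 ▸ h.symm))
  · by_cases h2 : f y = f z
    · rw [cyc3_rot hxy hxz hyz]
      exact hT y z x hyz h2 (fun h => h1 h)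
    · by_cases h3 : f z = f x
      · rw [cyc3_rot' hxy hxz hyz]
        exact hT z x y hxz.symm h3 (fun h => h2 h)
      · obtain ⟨x', hx', hx'S⟩ := exists_in_block f e he (f x) {x} (by simp; omega)
        simp only [Finset.mem_singleton] at hx'S
        have hx'y : x' ≠ y := fun h => h1 (by rw [← hx', h])
        have hx'z : x' ≠ z := fun h => h3 (by rw [← hx', h])
        rw [cyc3_mul hxy hxz hyz hx'S hx'y hx'z]
        apply G.mul_mem
        · exact hT x x' z (Ne.symm hx'S) hx'.symm h3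
        · rw [cyc3_rot' hxy (Ne.symm hx'S) (Ne.symm hx'y)]
          exact hT x' x y hx'S hx' (fun h => h1 (h.trans hx').symm)

/-- Step A when blocks have at least three points. -/
theorem step_A3 (he : ∀ x, (e x).1 = f x) (ha : 3 ≤ a)
    (G : Subgroup (Perm Ω)) (hMG : W f ⊓ alternatingGroup Ω ≤ G) {g : Perm Ω} (hg : g ∈ G)
    {p q : Ω} (hpq : f p = f q) (hne : f (g p) ≠ f (g q)) :
    ∃ u u' v : Ω, u ≠ u' ∧ f u = f u' ∧ f v ≠ f u ∧ cyc3 u u' v ∈ G := by
  have hpq' : p ≠ q := fun h => hne (by rw [h])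
  obtain ⟨r, hr, hrS⟩ := exists_in_block f e he (f p) {p, q}
    (lt_of_le_of_lt Finset.card_le_two (by omega))
  simp only [Finset.mem_insert, Finset.mem_singleton, not_or] at hrS
  have ht : cyc3 p q r ∈ W f ⊓ alternatingGroup Ω :=
    ⟨cyc3_mem_W f hpq (hpq.symm.trans hr.symm), cyc3_mem_alt hpq' (Ne.symm hrS.2)⟩
  have hc : cyc3 (g p) (g q) (g r) ∈ G := by
    rw [← conj_cyc3]
    exact G.mul_mem (G.mul_mem hg (hMG ht)) (G.inv_mem hg)
  have hPQ : g p ≠ g q := fun h => hpq' (g.injective h)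
  have hPR : g p ≠ g r := fun h => hrS.1 (g.injective h).symm
  have hQR : g q ≠ g r := fun h => hrS.2 (g.injective h).symm
  by_cases h1 : f (g r) = f (g p)
  · refine ⟨g r, g p, g q, hPR.symm, h1, fun h => hne (h.trans h1).symm, ?_⟩
    rw [← cyc3_rot' hPQ hPR hQR]; exact hc
  by_cases h2 : f (g r) = f (g q)
  · refine ⟨g q, g r, g p, hQR, h2.symm, hne, ?_⟩
    rw [← cyc3_rot hPQ hPR hQR]; exact hc
  -- three different blocks
  obtain ⟨u', hu', hu'S⟩ := exists_in_block f e he (f (g p)) {g p} (by simp; omega)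
  obtain ⟨u'', hu'', hu''S⟩ := exists_in_block f e he (f (g p)) {g p, u'}
    (lt_of_le_of_lt Finset.card_le_two (by omega))
  simp only [Finset.mem_insert, Finset.mem_singleton, not_or] at hu'S hu''S
  have hs : cyc3 (g p) u' u'' ∈ W f ⊓ alternatingGroup Ω :=
    ⟨cyc3_mem_W f hu'.symm (hu'.trans hu''.symm), cyc3_mem_alt (Ne.symm hu'S) (Ne.symm hu''S.2)⟩
  have h3 : ∀ t, f t = f (g p) → t ≠ g q := fun t ht h => hne (by rw [← ht, h])
  have h4 : ∀ t, f t = f (g p) → t ≠ g r := fun t ht h => h1 (by rw [← ht, h])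
  have hcs := G.mul_mem (G.mul_mem hc (hMG hs)) (G.inv_mem hc)
  rw [conj_cyc3, cyc3_apply_1 hPQ hPR, cyc3_apply_of_ne hu'S (h3 u' hu') (h4 u' hu'),
    cyc3_apply_of_ne hu''S.1 (h3 u'' hu'') (h4 u'' hu'')] at hcs
  refine ⟨u', u'', g q, Ne.symm hu''S.2, hu'.trans hu''.symm, fun h => hne (h.trans hu').symm, ?_⟩
  rw [← cyc3_rot (h3 u' hu').symm (h3 u'' hu'').symm (Ne.symm hu''S.2)]
  exact hcs

theorem two_swaps_mem {r r' s s' : Ω} (hrr' : r ≠ r') (hfr : f r = f r') (hss' : s ≠ s')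
    (hfs : f s = f s') : swap r r' * swap s s' ∈ W f ⊓ alternatingGroup Ω :=
  ⟨(W f).mul_mem (swap_mem_W f hfr) (swap_mem_W f hfs),
    Equiv.Perm.mul_mem_alternatingGroup_of_isSwap ⟨r, r', hrr', rfl⟩ ⟨s, s', hss', rfl⟩⟩

/-- Step A when there are at least five blocks. -/
theorem step_A5 (he : ∀ x, (e x).1 = f x) (ha : 2 ≤ a) (hb : 5 ≤ b)
    (G : Subgroup (Perm Ω)) (hMG : W f ⊓ alternatingGroup Ω ≤ G) {g : Perm Ω} (hg : g ∈ G)
    {p q : Ω} (hpq : f p = f q) (hne : f (g p) ≠ f (g q)) :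
    ∃ u u' v : Ω, u ≠ u' ∧ f u = f u' ∧ f v ≠ f u ∧ cyc3 u u' v ∈ G := by
  have hpq' : p ≠ q := fun h => hne (by rw [h])
  set y := g p with hy
  set z := g q with hz
  obtain ⟨y', hy', hy'S⟩ := exists_in_block f e he (f y) {y} (by simp; omega)
  simp only [Finset.mem_singleton] at hy'S
  have hy'z : y' ≠ z := fun h => hne (by rw [← hy', h])
  have hyz : y ≠ z := fun h => hne (by rw [h])
  -- the block {r, r'}
  obtain ⟨i₀, hi₀⟩ := exists_block {f p, f (g⁻¹ y')} (lt_of_le_of_lt Finset.card_le_two (by omega))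
  simp only [Finset.mem_insert, Finset.mem_singleton, not_or] at hi₀
  obtain ⟨r, hr, -⟩ := exists_in_block f e he i₀ ∅ (by simp; omega)
  obtain ⟨r', hr', hr'S⟩ := exists_in_block f e he i₀ {r} (by simp; omega)
  simp only [Finset.mem_singleton] at hr'S
  have ht := two_swaps_mem f hpq' hpq (Ne.symm hr'S) (hr.trans hr'.symm)
  have hd : swap y z * swap (g r) (g r') ∈ G := by
    have := G.mul_mem (G.mul_mem hg (hMG ht)) (G.inv_mem hg)
    have h2 : g * (swap p q * swap r r') * g⁻¹ = swap (g p) (g q) * swap (g r) (g r') := by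
      rw [swap_apply_apply, swap_apply_apply]; group
    rwa [h2] at this
  set s := g r with hs
  set s' := g r' with hs'
  set d := swap y z * swap s s' with hd_def
  -- facts on s, s'
  have hnb : ∀ t, f t = i₀ → g t ≠ y' := by
    intro t ht h
    apply hi₀.2
    rw [← ht, ← h]; simp
  have hnp : ∀ t, f t = i₀ → t ≠ p := fun t ht h => hi₀.1 (by rw [← ht, h])
  have hnq : ∀ t, f t = i₀ → t ≠ q := fun t ht h => hi₀.1 (by rw [← ht, h, hpq])
  have hsy' : s ≠ y' := hnb r hr
  have hs'y' : s' ≠ y' := hnb r' hr'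
  have hsy : s ≠ y := fun h => hnp r hr (g.injective h)
  have hs'y : s' ≠ y := fun h => hnp r' hr' (g.injective h)
  have hsz : s ≠ z := fun h => hnq r hr (g.injective h)
  have hs'z : s' ≠ z := fun h => hnq r' hr' (g.injective h)
  -- the block {w, w'}
  obtain ⟨i₁, hi₁⟩ := exists_block {f y, f z, f s, f s'}
    (lt_of_le_of_lt (Finset.card_le_four) (by omega))
  simp only [Finset.mem_insert, Finset.mem_singleton, not_or] at hi₁
  obtain ⟨w, hw, -⟩ := exists_in_block f e he i₁ ∅ (by simp; omega)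
  obtain ⟨w', hw', hw'S⟩ := exists_in_block f e he i₁ {w} (by simp; omega)
  simp only [Finset.mem_singleton] at hw'S
  have hm := two_swaps_mem f (Ne.symm hy'S) hy'.symm (Ne.symm hw'S) (hw.trans hw'.symm)
  have hfix : ∀ t, f t = i₁ → d t = t := by
    intro t ht
    have h1 : t ≠ y := fun h => hi₁.1 (by rw [← ht, h])
    have h2 : t ≠ z := fun h => hi₁.2.1 (by rw [← ht, h])
    have h3 : t ≠ s := fun h => hi₁.2.2.1 (by rw [← ht, h])
    have h4 : t ≠ s' := fun h => hi₁.2.2.2 (by rw [← ht, h])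
    rw [hd_def, Perm.mul_apply, swap_apply_of_ne_of_ne h3 h4, swap_apply_of_ne_of_ne h1 h2]
  have hdy : d y = z := by
    rw [hd_def, Perm.mul_apply, swap_apply_of_ne_of_ne (Ne.symm hsy) (Ne.symm hs'y),
      swap_apply_left]
  have hdy' : d y' = y' := by
    rw [hd_def, Perm.mul_apply, swap_apply_of_ne_of_ne (Ne.symm hsy') (Ne.symm hs'y'),
      swap_apply_of_ne_of_ne hy'S hy'z]
  have hc := G.mul_mem (G.mul_mem (G.mul_mem hd (hMG hm)) (G.inv_mem hd)) (G.inv_mem (hMG hm))
  have h3 : d * (swap y y' * swap w w') * d⁻¹ * (swap y y' * swap w w')⁻¹ = cyc3 z y' y := by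
    have h4 : d * (swap y y' * swap w w') * d⁻¹ = swap (d y) (d y') * swap (d w) (d w') := by
      rw [swap_apply_apply, swap_apply_apply]; group
    rw [h4, hdy, hdy', hfix w hw, hfix w' hw', mul_inv_rev, swap_inv, swap_inv]
    unfold cyc3
    rw [mul_assoc, ← mul_assoc (swap w w'), swap_mul_self, one_mul, swap_comm y y']
  rw [h3, cyc3_rot (Ne.symm hy'z) (Ne.symm hyz) hy'S] at hc
  exact ⟨y', y, z, hy'S, hy', fun h => hne (h.trans hy').symm, hc⟩

theorem shear_injective (ha : 1 ≤ a) :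
    Function.Injective (fun st : Perm (Fin b) × (Fin b → Perm (Fin a)) => shear e st.1 st.2) := by
  rintro ⟨σ, τ⟩ ⟨σ', τ'⟩ h
  have key : ∀ i j, (σ i, τ i j) = (σ' i, τ' i j) := by
    intro i j
    have h1 := congrArg (fun g : Perm Ω => e (g (e.symm (i, j)))) h
    simpa [shear_apply] using h1
  have h1 : σ = σ' := Equiv.ext fun i => (Prod.mk.inj (key i ⟨0, by omega⟩)).1
  have h2 : τ = τ' := funext fun i => Equiv.ext fun j => (Prod.mk.inj (key i j)).2
  rw [h1, h2]

theorem exists_shear_eq (he : ∀ x, (e x).1 = f x) (ha : 1 ≤ a) {g : Perm Ω} (hg : g ∈ W f) :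
    ∃ σ τ, shear e σ τ = g := by
  let j0 : Fin a := ⟨0, by omega⟩
  have hfe : ∀ i j, f (e.symm (i, j)) = i := fun i j => by rw [← he, e.apply_symm_apply]
  let σ₀ : Fin b → Fin b := fun i => f (g (e.symm (i, j0)))
  have hσ₀ : ∀ x, f (g x) = σ₀ (f x) := by
    intro x
    exact (hg x (e.symm (f x, j0))).mp (hfe _ _).symm
  have hσ₀inj : Function.Injective σ₀ := by
    intro i i' h
    have := (hg (e.symm (i, j0)) (e.symm (i', j0))).mpr h
    rwa [hfe, hfe] at this
  let σ : Perm (Fin b) := Equiv.ofBijective σ₀ (Finite.injective_iff_bijective.mp hσ₀inj)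
  let τ₀ : Fin b → Fin a → Fin a := fun i j => (e (g (e.symm (i, j)))).2
  have hτ₀inj : ∀ i, Function.Injective (τ₀ i) := by
    intro i j j' h
    have h1 : (e (g (e.symm (i, j)))).1 = (e (g (e.symm (i, j')))).1 := by
      rw [he, he, hσ₀, hσ₀, hfe, hfe]
    have h2 : e (g (e.symm (i, j))) = e (g (e.symm (i, j'))) := Prod.ext h1 h
    have := e.symm.injective (g.injective (e.injective h2))
    exact (Prod.mk.inj this).2
  let τ : Fin b → Perm (Fin a) := fun i =>
    Equiv.ofBijective (τ₀ i) (Finite.injective_iff_bijective.mp (hτ₀inj i))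
  refine ⟨σ, τ, ?_⟩
  ext x
  rw [shear_apply, Equiv.symm_apply_eq]
  apply Prod.ext
  · show σ₀ (e x).1 = (e (g x)).1
    rw [he, he, hσ₀]
  · show τ₀ (e x).1 (e x).2 = (e (g x)).2
    show (e (g (e.symm ((e x).1, (e x).2)))).2 = (e (g x)).2
    rw [Prod.mk.eta, e.symm_apply_apply]

theorem card_W (he : ∀ x, (e x).1 = f x) (ha : 1 ≤ a) :
    Nat.card (W f) = b.factorial * a.factorial ^ b := by
  let Φ : Perm (Fin b) × (Fin b → Perm (Fin a)) → W f :=
    fun st => ⟨shear e st.1 st.2, shear_mem f e he st.1 st.2⟩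
  have hΦ : Function.Bijective Φ := by
    constructor
    · intro st st' h
      exact shear_injective e ha (congrArg Subtype.val h)
    · rintro ⟨g, hg⟩
      obtain ⟨σ, τ, h⟩ := exists_shear_eq f e he ha hg
      exact ⟨(σ, τ), Subtype.ext h⟩
  rw [← Nat.card_eq_of_bijective Φ hΦ, Nat.card_eq_fintype_card, Fintype.card_prod,
    Fintype.card_fun, Fintype.card_perm, Fintype.card_perm, Fintype.card_fin, Fintype.card_fin]

theorem card_M (he : ∀ x, (e x).1 = f x) (ha : 2 ≤ a) (hb : 1 ≤ b) :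
    Nat.card (W f ⊓ alternatingGroup Ω : Subgroup (Perm Ω)) * 2 = b.factorial * a.factorial ^ b := by
  rw [← card_W f e he (by omega)]
  have h1 := Subgroup.relIndex_mul_relIndex ⊥ (W f ⊓ alternatingGroup Ω) (W f) bot_le inf_le_left
  rw [Subgroup.relIndex_bot_left, Subgroup.relIndex_bot_left] at h1
  rw [← h1]
  congr 1
  rw [Subgroup.inf_relIndex_left]
  -- two points in a common block
  let i0 : Fin b := ⟨0, by omega⟩
  let x := e.symm (i0, (⟨0, by omega⟩ : Fin a))
  let x' := e.symm (i0, (⟨1, by omega⟩ : Fin a))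
  have hxx' : x ≠ x' := by
    intro h
    have := e.symm.injective h
    simp [Fin.ext_iff] at this
  have hfx : f x = f x' := by
    rw [← he, ← he, e.apply_symm_apply, e.apply_symm_apply]
  have : Nontrivial Ω := ⟨⟨x, x', hxx'⟩⟩
  have hdvd : (alternatingGroup Ω).relIndex (W f) ∣ 2 := by
    have := Subgroup.relIndex_dvd_index_of_normal (alternatingGroup Ω) (W f)
    rwa [alternatingGroup.index_eq_two] at this
  have hne1 : (alternatingGroup Ω).relIndex (W f) ≠ 1 := by
    rw [Ne, Subgroup.relIndex_eq_one]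
    intro hle
    have := hle (swap_mem_W f hfx)
    rw [Perm.mem_alternatingGroup, Perm.sign_swap hxx'] at this
    exact absurd this (by decide)
  rcases (Nat.dvd_prime Nat.prime_two).mp hdvd with h | h
  · exact absurd h hne1
  · exact h.symm

theorem factorial_aux (n k : ℕ) (hn : 5 ≤ n) (hk : k < n) (h : 2 * k.factorial ≥ n.factorial) : False := by
  have h1 : k.factorial ≤ (n - 1).factorial := Nat.factorial_le (by omega)
  have h2 : n.factorial = n * (n - 1).factorial := by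
    obtain ⟨m, rfl⟩ : ∃ m, n = m + 1 := ⟨n - 1, by omega⟩
    simp [Nat.factorial_succ]
  have h3 : 0 < (n - 1).factorial := Nat.factorial_pos _
  rw [h2] at h
  nlinarith

theorem alt_index_bound (h5 : 5 ≤ Fintype.card Ω) (G : Subgroup (Perm Ω))
    (hne : ¬ alternatingGroup Ω ≤ G) : Fintype.card Ω ≤ G.relIndex (alternatingGroup Ω) := by
  by_contra hlt
  push Not at hlt
  have : Nontrivial Ω := Fintype.one_lt_card_iff_nontrivial.mp (by omega)
  have hsimple : IsSimpleGroup (alternatingGroup Ω) :=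
    alternatingGroup.isSimpleGroup (by rw [Nat.card_eq_fintype_card]; exact h5)
  set A := alternatingGroup Ω with hAdef
  set K : Subgroup A := G.subgroupOf A with hK
  have hKidx : K.index = G.relIndex A := rfl
  rcases (Subgroup.normalCore_normal K).eq_bot_or_eq_top with hc | hc
  · have hinj : Function.Injective (MulAction.toPermHom A (A ⧸ K)) := by
      rw [← MonoidHom.ker_eq_bot_iff, ← Subgroup.normalCore_eq_ker]; exact hc
    have hcard := Nat.card_le_card_of_injective _ hinj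
    rw [Nat.card_perm] at hcard
    have hA2 : 2 * Nat.card A = (Fintype.card Ω).factorial := by
      rw [two_mul_nat_card_alternatingGroup, Nat.card_perm, Nat.card_eq_fintype_card]
    have hq : Nat.card (A ⧸ K) = K.index := rfl
    rw [hq, hKidx] at hcard
    exact factorial_aux (Fintype.card Ω) (G.relIndex A) h5 hlt (by omega)
  · have htop : K = ⊤ := top_le_iff.mp (hc ▸ Subgroup.normalCore_le K)
    exact hne (Subgroup.subgroupOf_eq_top.mp htop)

theorem small_case (he : ∀ x, (e x).1 = f x) (ha : a = 2) (hb : b = 2 ∨ b = 3)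
    (G : Subgroup (Perm Ω)) (hMG : W f ⊓ alternatingGroup Ω ≤ G) (hGA : G ≤ alternatingGroup Ω)
    (hGW : ¬ G ≤ W f) : alternatingGroup Ω ≤ G := by
  subst ha
  have hcardΩ : Fintype.card Ω = b * 2 := by
    rw [Fintype.card_congr e, Fintype.card_prod, Fintype.card_fin, Fintype.card_fin]
  have : Nontrivial Ω := Fintype.one_lt_card_iff_nontrivial.mp (by rcases hb with h | h <;> omega)
  have hM := card_M f e he le_rfl (by rcases hb with h | h <;> omega)
  have hA : 2 * Nat.card (alternatingGroup Ω) = (Fintype.card Ω).factorial := by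
    rw [two_mul_nat_card_alternatingGroup, Nat.card_perm, Nat.card_eq_fintype_card]
  have hdvd := Subgroup.card_dvd_of_le hMG
  have hGr := Subgroup.relIndex_mul_relIndex ⊥ G (alternatingGroup Ω) bot_le hGA
  rw [Subgroup.relIndex_bot_left, Subgroup.relIndex_bot_left] at hGr
  have hlt : Nat.card (W f ⊓ alternatingGroup Ω : Subgroup (Perm Ω)) < Nat.card G := by
    by_contra hcon
    push Not at hcon
    have := Subgroup.eq_of_le_of_card_ge hMG hcon
    exact hGW (this ▸ inf_le_left)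
  rw [← Subgroup.relIndex_eq_one]
  set m := Nat.card (W f ⊓ alternatingGroup Ω : Subgroup (Perm Ω))
  set k := Nat.card G
  set r := G.relIndex (alternatingGroup Ω)
  rcases hb with rfl | rfl
  · -- n = 4
    have h1 : m = 4 := by
      have : Nat.factorial 2 * Nat.factorial 2 ^ 2 = 8 := by decide
      omega
    have h2 : Nat.card (alternatingGroup Ω) = 12 := by
      rw [hcardΩ] at hA
      have : Nat.factorial (2 * 2) = 24 := by decide
      omega
    rw [h2] at hGr
    rw [h1] at hdvd hlt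
    obtain ⟨c, hc⟩ := hdvd
    rw [hc] at hGr hlt
    have hc3 : c * r = 3 := by
      have : 4 * (c * r) = 4 * 3 := by rw [← mul_assoc]; exact hGr
      exact Nat.eq_of_mul_eq_mul_left (by norm_num) this
    have hc2 : 2 ≤ c := by omega
    have hr3 : r ≤ 3 := Nat.le_of_dvd (by norm_num) (Dvd.intro_left c hc3)
    interval_cases r <;> omega
  · -- n = 6
    have h1 : m = 24 := by
      have : Nat.factorial 3 * Nat.factorial 2 ^ 3 = 48 := by decide
      omega
    have h2 : Nat.card (alternatingGroup Ω) = 360 := by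
      rw [hcardΩ] at hA
      have : Nat.factorial (3 * 2) = 720 := by decide
      omega
    rw [h2] at hGr
    rw [h1] at hdvd hlt
    obtain ⟨c, hc⟩ := hdvd
    rw [hc] at hGr hlt
    have hc3 : c * r = 15 := by
      have : 24 * (c * r) = 24 * 15 := by rw [← mul_assoc]; exact hGr
      exact Nat.eq_of_mul_eq_mul_left (by norm_num) this
    have hc2 : 2 ≤ c := by omega
    by_contra hr1
    have hbound := alt_index_bound (by omega) G (fun h => hr1 (Subgroup.relIndex_eq_one.mpr h))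
    rw [hcardΩ] at hbound
    have hr : 6 ≤ r := hbound
    have hr15 : r ≤ 15 := Nat.le_of_dvd (by norm_num) (Dvd.intro_left c hc3)
    interval_cases r <;> omega


/-- The main step: a subgroup of the alternating group properly containing the even part of the
wreath product is the whole alternating group. -/
theorem alt_le (he : ∀ x, (e x).1 = f x) (ha : 2 ≤ a) (hb : 2 ≤ b) (h8 : Fintype.card Ω ≠ 8)
    (G : Subgroup (Perm Ω)) (hMG : W f ⊓ alternatingGroup Ω ≤ G) (hGA : G ≤ alternatingGroup Ω)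
    (hGW : ¬ G ≤ W f) : alternatingGroup Ω ≤ G := by
  have hcardΩ : Fintype.card Ω = b * a := by
    rw [Fintype.card_congr e, Fintype.card_prod, Fintype.card_fin, Fintype.card_fin]
  obtain ⟨g, hgG, hgW⟩ := SetLike.not_le_iff_exists.mp hGW
  have hcross : ∃ g' ∈ G, ∃ p q : Ω, f p = f q ∧ f (g' p) ≠ f (g' q) := by
    rw [mem_W_iff] at hgW
    push Not at hgW
    obtain ⟨p, q, ⟨h1, h2⟩ | ⟨h1, h2⟩⟩ := hgW
    · exact ⟨g, hgG, p, q, h1, h2⟩
    · exact ⟨g⁻¹, G.inv_mem hgG, g p, g q, h2, by simpa using h1⟩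
  obtain ⟨g', hg', p, q, hpq, hne⟩ := hcross
  by_cases ha3 : 3 ≤ a
  · obtain ⟨u, u', v, h1, h2, h3, h4⟩ := step_A3 f e he ha3 G hMG hg' hpq hne
    exact alt_le_of_mixed f e he ha G hMG fun p p' q hpp' hfp hfq =>
      step_B f e he ha (Or.inl ha3) G hMG h1 h2 h3 h4 hpp' hfp hfq
  by_cases hb5 : 5 ≤ b
  · obtain ⟨u, u', v, h1, h2, h3, h4⟩ := step_A5 f e he ha hb5 G hMG hg' hpq hne
    exact alt_le_of_mixed f e he ha G hMG fun p p' q hpp' hfp hfq =>
      step_B f e he ha (Or.inr (by omega)) G hMG h1 h2 h3 h4 hpp' hfp hfq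
  have ha2 : a = 2 := by omega
  have hb' : b = 2 ∨ b = 3 := by
    have : b ≠ 4 := by
      intro h4
      apply h8
      rw [hcardΩ, ha2, h4]
    omega
  exact small_case f e he ha2 hb' G hMG hGA hGW

end

/-- Let Ω be a finite set whose size is not 8, and f : Ω → Fin b a labelling with b ≥ 2 whose fibres all have the same size a ≥ 2 (a partition into b blocks of size a). Then the even permutations preserving the partition — the intersection of the imprimitive wreath product S_a ≀ S_b with the alternating group — form a maximal subgroup of the alternating group on Ω. -/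
theorem result {Ω : Type*} [Fintype Ω] [DecidableEq Ω] (h8 : Fintype.card Ω ≠ 8) (a b : ℕ) (ha : 2 ≤ a) (hb : 2 ≤ b)
    (f : Ω → Fin b) (hf : ∀ i : Fin b, Nat.card {x : Ω // f x = i} = a) :
    IsCoatom ((Subgroup.closure {g : Equiv.Perm Ω | ∀ x y : Ω, f x = f y ↔ f (g x) = f (g y)} ⊓ alternatingGroup Ω).subgroupOf (alternatingGroup Ω)) := by
  rw [closure_eq_W]
  obtain ⟨e, he⟩ := exists_equiv f a hf
  constructor
  · rw [Ne, Subgroup.subgroupOf_eq_top]
    intro hle
    -- a 3-cycle moving a point out of its block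
    let i0 : Fin b := ⟨0, by omega⟩
    let i1 : Fin b := ⟨1, by omega⟩
    let x := e.symm (i0, (⟨0, by omega⟩ : Fin a))
    let x' := e.symm (i0, (⟨1, by omega⟩ : Fin a))
    let y := e.symm (i1, (⟨0, by omega⟩ : Fin a))
    have hfx : f x = i0 := by rw [← he, e.apply_symm_apply]
    have hfx' : f x' = i0 := by rw [← he, e.apply_symm_apply]
    have hfy : f y = i1 := by rw [← he, e.apply_symm_apply]
    have hi01 : i0 ≠ i1 := by simp [i0, i1, Fin.ext_iff]
    have hxx' : x ≠ x' := by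
      intro h
      have := e.symm.injective h
      simp [Fin.ext_iff] at this
    have hxy : x ≠ y := fun h => hi01 (by rw [← hfx, ← hfy, h])
    have hx'y : x' ≠ y := fun h => hi01 (by rw [← hfx', ← hfy, h])
    have hmem := (hle (cyc3_mem_alt hxx' hx'y)).1
    have h1 := (hmem x x').mp (hfx.trans hfx'.symm)
    rw [cyc3_apply_1 hxx' hxy, cyc3_apply_2 hxy hx'y, hfx', hfy] at h1
    exact hi01 h1
  · intro G' hG'
    let G : Subgroup (Equiv.Perm Ω) := G'.map (alternatingGroup Ω).subtype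
    have hGA : G ≤ alternatingGroup Ω := by
      rintro _ ⟨y, -, rfl⟩
      exact y.2
    have hmemG : ∀ (x : Equiv.Perm Ω) (hx : x ∈ alternatingGroup Ω),
        x ∈ G ↔ (⟨x, hx⟩ : alternatingGroup Ω) ∈ G' := by
      intro x hx
      constructor
      · rintro ⟨y, hy, hyx⟩
        have : y = ⟨x, hx⟩ := Subtype.ext hyx
        rwa [← this]
      · intro h
        exact ⟨⟨x, hx⟩, h, rfl⟩
    have hMG : W f ⊓ alternatingGroup Ω ≤ G := by
      intro m hm
      rw [hmemG m hm.2]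
      apply hG'.le
      exact hm
    have hGW : ¬ G ≤ W f := by
      intro hle
      obtain ⟨g, hgG', hgM⟩ := SetLike.exists_of_lt hG'
      apply hgM
      have hg : (g : Equiv.Perm Ω) ∈ G := (hmemG g g.2).mpr hgG'
      exact ⟨hle hg, g.2⟩
    have key := alt_le f e he ha hb h8 G hMG hGA hGW
    rw [eq_top_iff]
    intro x _
    exact (hmemG x x.2).mp (key x.2)

end Cfsg.Agent.S5909
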