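import Cfsg.Statements.S5910
import Cfsg.Agent.S5905

set_option autoImplicit false
open Cfsg

namespace Cfsg.Agent.S5910

abbrev P := ZMod 2 × ZMod 2
abbrev T := ZMod 2
abbrev V := P × T

set_option maxRecDepth 100000 in
theorem D1 : ∀ c : P → ZMod 2, ∑ p, c p = 0 → ∀ p q r, c (p+q+r) = c p + c q + c r := by decide

set_option maxRecDepth 100000 in
theorem D2 : ∀ h : P → P, Function.Injective h → ∀ p q r, h (p+q+r) = h p + h q + h r := by
  decide

set_option maxRecDepth 100000 in
theorem D3 : ∀ c : P → ZMod 2, (∏ p, (if c p = 0 then (1:ℤˣ) else -1)) = 1 → ∑ p, c p = 0 := by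
  decide

theorem D4 : ∀ c : ZMod 2, Equiv.Perm.sign (Equiv.addRight c) = if c = 0 then 1 else -1 := by
  decide

theorem D5 : ∀ x y : ZMod 2, x ≠ y → x = y + 1 := by decide

/-- The affine group of `V = 𝔽₂³`. -/
def Aff : Subgroup (Equiv.Perm V) where
  carrier := {g | ∀ u v w : V, g (u + v + w) = g u + g v + g w}
  mul_mem' := by
    intro g h hg hh u v w
    simp only [Equiv.Perm.mul_apply]
    rw [hh, hg]
  one_mem' := by intro u v w; rfl
  inv_mem' := by
    intro g hg u v w
    apply g.injective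
    rw [hg]; simp

theorem mem_Aff_iff (g : Equiv.Perm V) : g ∈ Aff ↔ ∀ u v w : V, g (u + v + w) = g u + g v + g w :=
  Iff.rfl

theorem aff_of_FP_even (g : Equiv.Perm V)
    (hFP : ∀ u v : V, u.1 = v.1 ↔ (g u).1 = (g v).1) (hs : Equiv.Perm.sign g = 1) :
    g ∈ Aff := by
  let gb : P → P := fun p => (g (p, 0)).1
  let c : P → T := fun p => (g (p, 0)).2
  have hg : ∀ p t, g (p, t) = (gb p, c p + t) := by
    intro p t
    have h1 : (g (p, t)).1 = gb p := (hFP (p, t) (p, 0)).mp rfl
    by_cases ht : t = 0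
    · subst ht
      exact Prod.ext h1 (by simp [c])
    · have ht1 : t = 1 := by
        have := D5 t 0 ht
        simpa using this
      subst ht1
      have hne : (g (p, 1)).2 ≠ c p := by
        intro heq
        have h2 : g (p, 1) = g (p, 0) := Prod.ext h1 heq
        have h3 := g.injective h2
        simp at h3
      exact Prod.ext h1 (D5 _ _ hne)
  have hgb_inj : Function.Injective gb := by
    intro p q hpq
    exact (hFP (p, 0) (q, 0)).mpr hpq
  have hbij : Function.Bijective gb := Finite.injective_iff_bijective.mp hgb_inj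
  let gbe : Equiv.Perm P := Equiv.ofBijective gb hbij
  have hdecomp : g = (Equiv.prodCongrLeft (fun _ : T => gbe)) *
      (Equiv.prodCongrRight (fun p => Equiv.addRight (c p))) := by
    ext ⟨p, t⟩ : 1
    rw [hg]
    simp [Equiv.Perm.mul_apply, gbe, add_comm]
  have hsign : Equiv.Perm.sign g = ∏ p, (if c p = 0 then (1:ℤˣ) else -1) := by
    rw [hdecomp, map_mul, Equiv.Perm.sign_prodCongrLeft, Equiv.Perm.sign_prodCongrRight]
    simp only [D4]
    rw [Finset.prod_const, Finset.card_univ]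
    have : Fintype.card T = 2 := by decide
    rw [this, Int.units_sq, one_mul]
  have hc : ∑ p, c p = 0 := D3 c (hsign ▸ hs)
  rintro ⟨p, s⟩ ⟨q, t⟩ ⟨r, m⟩
  show g (p + q + r, s + t + m) = g (p, s) + g (q, t) + g (r, m)
  rw [hg, hg, hg, hg, D1 c hc, D2 gb hgb_inj]
  refine Prod.ext rfl ?_
  show c p + c q + c r + (s + t + m) = c p + s + (c q + t) + (c r + m)
  ring


/-- An affine even permutation not preserving the fibres. -/
def g2 : Equiv.Perm V :=
  Equiv.swap (((0, 0), 1) : V) ((0, 1), 0) * Equiv.swap (((1, 0), 1) : V) ((1, 1), 0)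

set_option maxRecDepth 100000 in
theorem g2_mem_Aff : g2 ∈ Aff := by
  rw [mem_Aff_iff]
  decide

theorem g2_sign : Equiv.Perm.sign g2 = 1 := by
  unfold g2
  rw [map_mul, Equiv.Perm.sign_swap (by decide), Equiv.Perm.sign_swap (by decide)]
  rfl

theorem g2_not_FP : ¬ ∀ u v : V, u.1 = v.1 ↔ (g2 u).1 = (g2 v).1 := by
  decide

/-- An even permutation that is not affine. -/
def g3 : Equiv.Perm V :=
  Equiv.swap (((0, 0), 0) : V) ((0, 0), 1) * Equiv.swap (((0, 0), 1) : V) ((0, 1), 0)

set_option maxRecDepth 100000 in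
theorem g3_not_mem_Aff : g3 ∉ Aff := by
  rw [mem_Aff_iff]
  decide

theorem g3_sign : Equiv.Perm.sign g3 = 1 := by
  unfold g3
  rw [map_mul, Equiv.Perm.sign_swap (by decide), Equiv.Perm.sign_swap (by decide)]
  rfl

/-- Let Ω be a set with 8 elements and f : Ω → Fin 4 a labelling whose four fibres all have size 2 (a partition of the 8 points into 4 pairs). Then the group of even permutations preserving this partition, (S₂ ≀ S₄) ∩ A₈, is not a maximal subgroup of the alternating group A₈ (it lies in a subgroup isomorphic to the affine group AGL₃(2)). -/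
theorem result {Ω : Type*} [Fintype Ω] [DecidableEq Ω] (h8 : Fintype.card Ω = 8)
    (f : Ω → Fin 4) (hf : ∀ i : Fin 4, Nat.card {x : Ω // f x = i} = 2) :
    ¬ IsCoatom ((Subgroup.closure {g : Equiv.Perm Ω | ∀ x y : Ω, f x = f y ↔ f (g x) = f (g y)} ⊓ alternatingGroup Ω).subgroupOf (alternatingGroup Ω)) := by
  rw [Cfsg.Agent.S5905.closure_eq_W]
  obtain ⟨e, he⟩ := Cfsg.Agent.S5905.exists_equiv f 2 hf
  let ι : Fin 4 ≃ P := Fintype.equivOfCardEq (by decide)
  let e' : Ω ≃ V := e.trans (Equiv.prodCongr ι (Equiv.refl (Fin 2)))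
  have he' : ∀ x y, f x = f y ↔ (e' x).1 = (e' y).1 := by
    intro x y
    show f x = f y ↔ ι (e x).1 = ι (e y).1
    rw [ι.injective.eq_iff, he, he]
  let conj : Equiv.Perm Ω ≃* Equiv.Perm V := e'.permCongrHom
  have hconj_apply : ∀ (g : Equiv.Perm Ω) (v : V), conj g v = e' (g (e'.symm v)) := by
    intro g v; rfl
  have hconj_sign : ∀ g : Equiv.Perm Ω, Equiv.Perm.sign (conj g) = Equiv.Perm.sign g := by
    intro g
    exact Equiv.Perm.sign_permCongr e' g
  have hT : ∀ g : Equiv.Perm Ω, g ∈ Cfsg.Agent.S5905.W f ↔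
      ∀ u v : V, u.1 = v.1 ↔ (conj g u).1 = (conj g v).1 := by
    intro g
    rw [Cfsg.Agent.S5905.mem_W_iff]
    constructor
    · intro hg u v
      rw [hconj_apply, hconj_apply, ← he', ← hg, he', e'.apply_symm_apply, e'.apply_symm_apply]
    · intro hg x y
      have := hg (e' x) (e' y)
      rw [hconj_apply, hconj_apply, e'.symm_apply_apply, e'.symm_apply_apply, ← he', ← he'] at this
      exact this
  set A := alternatingGroup Ω with hA
  set X : Subgroup (Equiv.Perm Ω) := Aff.comap conj.toMonoidHom with hX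
  have hK1 : Cfsg.Agent.S5905.W f ⊓ A ≤ X ⊓ A := by
    intro g hg
    refine ⟨?_, hg.2⟩
    show conj g ∈ Aff
    apply aff_of_FP_even _ ((hT g).mp hg.1)
    rw [hconj_sign]
    exact Equiv.Perm.mem_alternatingGroup.mp hg.2
  intro hco
  -- g₂
  set γ2 : Equiv.Perm Ω := conj.symm g2 with hγ2
  have hγ2c : conj γ2 = g2 := conj.apply_symm_apply g2
  have hγ2A : γ2 ∈ A := by
    rw [hA, Equiv.Perm.mem_alternatingGroup, ← hconj_sign, hγ2c]; exact g2_sign
  have hγ2X : γ2 ∈ X := by
    show conj γ2 ∈ Aff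
    rw [hγ2c]; exact g2_mem_Aff
  have hγ2W : γ2 ∉ Cfsg.Agent.S5905.W f := by
    rw [hT, hγ2c]; exact g2_not_FP
  have hlt : (Cfsg.Agent.S5905.W f ⊓ A).subgroupOf A < (X ⊓ A).subgroupOf A := by
    refine lt_of_le_of_ne (Subgroup.comap_mono hK1) ?_
    intro heq
    have h1 : (⟨γ2, hγ2A⟩ : A) ∈ (X ⊓ A).subgroupOf A := ⟨hγ2X, hγ2A⟩
    rw [← heq] at h1
    exact hγ2W h1.1
  have htop := hco.2 _ hlt
  rw [Subgroup.subgroupOf_eq_top] at htop
  -- g₃
  set γ3 : Equiv.Perm Ω := conj.symm g3 with hγ3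
  have hγ3c : conj γ3 = g3 := conj.apply_symm_apply g3
  have hγ3A : γ3 ∈ A := by
    rw [hA, Equiv.Perm.mem_alternatingGroup, ← hconj_sign, hγ3c]; exact g3_sign
  have hγ3X : γ3 ∈ X := (htop hγ3A).1
  have : conj γ3 ∈ Aff := hγ3X
  rw [hγ3c] at this
  exact g3_not_mem_Aff this

end Cfsg.Agent.S5910
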