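import Cfsg.Statements.S5912
import Cfsg.Agent.Lib.Helper98.SymSix

set_option autoImplicit false
open Cfsg

namespace Cfsg.Agent.S5912

open Cfsg.Agent.Lib.Helper98.SymIndex Cfsg.Agent.Lib.Helper98.SymSix in
theorem not_stab_of_transitive {Ω : Type*} [Fintype Ω] [DecidableEq Ω] (h6 : Fintype.card Ω = 6)
    {H₂ : Subgroup (Equiv.Perm Ω)} (htr : ∀ y z : Ω, ∃ g ∈ H₂, g y = z) (x : Ω) :
    H₂ ≠ MulAction.stabilizer (Equiv.Perm Ω) x := by
  intro h
  have : Nontrivial Ω := Fintype.one_lt_card_iff_nontrivial.mp (by omega)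
  obtain ⟨z, hz⟩ := exists_ne x
  obtain ⟨g, hg, hgx⟩ := htr x z
  rw [h] at hg
  exact hz (hgx.symm.trans hg)

open Cfsg.Agent.Lib.Helper98.SymIndex Cfsg.Agent.Lib.Helper98.SymSix in
/-- The symmetric group on a 6-element set Ω has exactly two conjugacy classes of subgroups of index 6: there are two non-conjugate subgroups of index 6 (a point stabilizer and a transitive subgroup isomorphic to S₅), and every subgroup of index 6 is conjugate to one of them. -/
theorem result {Ω : Type*} [Fintype Ω] [DecidableEq Ω] (h6 : Fintype.card Ω = 6) :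
    ∃ H₁ H₂ : Subgroup (Equiv.Perm Ω), H₁.index = 6 ∧ H₂.index = 6 ∧
      (¬ ∃ g : Equiv.Perm Ω, Subgroup.map (MulAut.conj g).toMonoidHom H₁ = H₂) ∧
      ∀ H : Subgroup (Equiv.Perm Ω), H.index = 6 →
        ∃ g : Equiv.Perm Ω, Subgroup.map (MulAut.conj g).toMonoidHom H₁ = H ∨ Subgroup.map (MulAut.conj g).toMonoidHom H₂ = H := by
  obtain ⟨x₀⟩ : Nonempty Ω := Fintype.card_pos_iff.mp (by omega)
  obtain ⟨H₂, hH₂, htr⟩ := exists_transitive_index_six h6
  have hnotstab : ∀ x : Ω, H₂ ≠ MulAction.stabilizer (Equiv.Perm Ω) x := not_stab_of_transitive h6 htr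
  have hidx1 : (MulAction.stabilizer (Equiv.Perm Ω) x₀).index = 6 := by
    rw [MulAction.index_stabilizer_of_transitive (X := Ω) (Equiv.Perm Ω) x₀,
      Nat.card_eq_fintype_card, h6]
  refine ⟨MulAction.stabilizer (Equiv.Perm Ω) x₀, H₂, hidx1, hH₂, ?_, ?_⟩
  · rintro ⟨g, hg⟩
    rw [← MulAction.stabilizer_smul_eq_stabilizer_map_conj] at hg
    exact hnotstab _ hg.symm
  · intro H hH
    obtain ⟨α, hα⟩ := exists_mulEquiv_comap_stabilizer (by omega) H (by rw [hH, h6]) x₀
    by_cases hps : PS α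
    · obtain ⟨x, hx⟩ := eq_stabilizer_of_comap (by omega) α hps.symm x₀ H (by rw [hH, h6]) hα
      refine ⟨Equiv.swap x₀ x, Or.inl ?_⟩
      rw [← MulAction.stabilizer_smul_eq_stabilizer_map_conj, hx]
      congr 1
      exact Equiv.swap_apply_left x₀ x
    · obtain ⟨α₂, hα₂⟩ := exists_mulEquiv_comap_stabilizer (by omega) H₂ (by rw [hH₂, h6]) x₀
      have hps₂ : ¬ PS α₂ := by
        intro hps₂
        obtain ⟨x, hx⟩ := eq_stabilizer_of_comap (by omega) α₂ hps₂.symm x₀ H₂
          (by rw [hH₂, h6]) hα₂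
        exact hnotstab x hx
      have hβ : PS (α₂.trans α.symm) := PS_trans_of_not h6 hps₂ (not_PS_symm hps)
      obtain ⟨π, hπ⟩ := inner_of_PS (by omega) hβ
      refine ⟨π, Or.inr ?_⟩
      ext g
      rw [Subgroup.mem_map]
      constructor
      · rintro ⟨h, hh, rfl⟩
        rw [hα]
        have : (MulAut.conj π).toMonoidHom h = (α₂.trans α.symm) h := (hπ h).symm
        rw [this]
        simp only [MulEquiv.trans_apply, MulEquiv.apply_symm_apply]
        exact (hα₂ h).mp hh
      · intro hg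
        refine ⟨(α₂.trans α.symm).symm g, ?_, ?_⟩
        · rw [hα₂]
          have : α₂ ((α₂.trans α.symm).symm g) = α g := by
            simp [MulEquiv.symm_trans_apply]
          rw [this]
          exact (hα g).mp hg
        · have : (MulAut.conj π).toMonoidHom ((α₂.trans α.symm).symm g) =
              (α₂.trans α.symm) ((α₂.trans α.symm).symm g) := (hπ _).symm
          rw [this, MulEquiv.apply_symm_apply]

end Cfsg.Agent.S5912
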