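import Cfsg.Statements.S5944

set_option autoImplicit false
open Cfsg

namespace Cfsg.Agent.S5944

theorem factorial_aux (n k : ℕ) (hn : 5 ≤ n) (hk : k < n) (h : 2 * k.factorial ≥ n.factorial) : False := by
  have h1 : k.factorial ≤ (n - 1).factorial := Nat.factorial_le (by omega)
  have h2 : n.factorial = n * (n - 1).factorial := by
    obtain ⟨m, rfl⟩ : ∃ m, n = m + 1 := ⟨n - 1, by omega⟩
    simp [Nat.factorial_succ]
  have h3 : 0 < (n - 1).factorial := Nat.factorial_pos _
  rw [h2] at h
  nlinarith

/-- For n ≠ 4, every proper subgroup of the symmetric group S_n other than the alternating group A_n has index at least n. -/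
theorem result (n : ℕ) (hn : n ≠ 4) (H : Subgroup (Equiv.Perm (Fin n))) (hH : H ≠ ⊤) (hA : H ≠ alternatingGroup (Fin n)) : n ≤ H.index := by
  by_contra hlt
  push Not at hlt
  have hidx0 : H.index ≠ 0 := Subgroup.index_ne_zero_of_finite
  have hidx1 : H.index ≠ 1 := fun h => hH (Subgroup.index_eq_one.mp h)
  have hidx2 : H.index ≠ 2 := fun h => hA (Equiv.Perm.eq_alternatingGroup_of_index_eq_two h)
  have hn5 : 5 ≤ n := by omega
  have : Nontrivial (Fin n) := Fin.nontrivial_iff_two_le.mpr (by omega)
  have hsimple : IsSimpleGroup (alternatingGroup (Fin n)) :=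
    alternatingGroup.isSimpleGroup (by simpa using hn5)
  set A := alternatingGroup (Fin n) with hAdef
  set H' : Subgroup A := H.subgroupOf A with hH'
  have hH'idx : H'.index ≤ H.index := by
    have := Subgroup.relIndex_le_of_le_right (H := H) (le_top : A ≤ ⊤)
      (by rw [Subgroup.relIndex_top_right]; exact hidx0)
    rwa [Subgroup.relIndex_top_right] at this
  rcases (Subgroup.normalCore_normal H').eq_bot_or_eq_top with hc | hc
  · have hinj : Function.Injective (MulAction.toPermHom A (A ⧸ H')) := by
      rw [← MonoidHom.ker_eq_bot_iff, ← Subgroup.normalCore_eq_ker]; exact hc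
    have hcard := Nat.card_le_card_of_injective _ hinj
    rw [Nat.card_perm] at hcard
    have hA2 : 2 * Nat.card A = n.factorial := by
      rw [two_mul_nat_card_alternatingGroup, Nat.card_perm, Nat.card_eq_fintype_card,
        Fintype.card_fin]
    have hq : Nat.card (A ⧸ H') = H'.index := rfl
    rw [hq] at hcard
    have h3 : H'.index.factorial ≤ (n - 1).factorial := Nat.factorial_le (by omega)
    exact factorial_aux n H'.index hn5 (by omega) (by omega)
  · have htop : H' = ⊤ := top_le_iff.mp (hc ▸ Subgroup.normalCore_le H')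
    have hAH : A ≤ H := Subgroup.subgroupOf_eq_top.mp htop
    have hdvd := Subgroup.index_dvd_of_le hAH
    rw [alternatingGroup.index_eq_two] at hdvd
    have := Nat.le_of_dvd (by norm_num) hdvd
    omega

end Cfsg.Agent.S5944
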