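import Cfsg.Statements.S5945
import Cfsg.Agent.Lib.Helper98.SymSix

set_option autoImplicit false
open Cfsg

namespace Cfsg.Agent.S5945

open Cfsg.Agent.Lib.Helper98.SymIndex Cfsg.Agent.Lib.Helper98.SymSix in
theorem not_stab_of_transitive {Ω : Type*} [Fintype Ω] [DecidableEq Ω] (h6 : Fintype.card Ω = 6)
    {H₂ : Subgroup (Equiv.Perm Ω)} (htr : ∀ y z : Ω, ∃ g ∈ H₂, g y = z) (x : Ω) :
    H₂ ≠ MulAction.stabilizer (Equiv.Perm Ω) x := by
  intro h
  have : Nontrivial Ω := Fintype.one_lt_card_iff_nontrivial.mp (by omega)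
  obtain ⟨z, hz⟩ := exists_ne x
  obtain ⟨g, hg, hgx⟩ := htr x z
  rw [h] at hg
  exact hz (hgx.symm.trans hg)

theorem no_fixed_of_type {Ω : Type*} [Fintype Ω] [DecidableEq Ω] (h6 : Fintype.card Ω = 6)
    {u : Equiv.Perm Ω} (hu : u.cycleType = Multiset.replicate 3 2) (a : Ω) : u a ≠ a := by
  have h1 := Equiv.Perm.sum_cycleType u
  rw [hu] at h1
  have h2 : u.support = Finset.univ := by
    apply Finset.eq_univ_of_card
    rw [← h1, h6]; rfl
  rw [← Equiv.Perm.mem_support, h2]
  exact Finset.mem_univ a

/-- The stabilizer of a point in the symmetric group of degree 6 is isomorphic to `S₅`. -/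
theorem stabEquiv_aux {Ω : Type*} [Fintype Ω] [DecidableEq Ω] (x : Ω) :
    (Equiv.Perm.ofSubtype : Equiv.Perm {y : Ω // y ≠ x} →* Equiv.Perm Ω).range =
      MulAction.stabilizer (Equiv.Perm Ω) x := by
  ext g
  rw [Equiv.Perm.mem_range_ofSubtype_iff, MulAction.mem_stabilizer_iff]
  constructor
  · intro h
    by_contra hne
    have : x ∈ (g.support : Set Ω) := by
      simpa [Equiv.Perm.mem_support] using hne
    exact h this rfl
  · intro h y hy hyx
    subst hyx
    simp only [Finset.mem_coe, Equiv.Perm.mem_support] at hy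
    exact hy h

noncomputable def stabEquiv {Ω : Type*} [Fintype Ω] [DecidableEq Ω] (h6 : Fintype.card Ω = 6) (x : Ω) :
    MulAction.stabilizer (Equiv.Perm Ω) x ≃* Equiv.Perm (Fin 5) :=
  ((MulEquiv.subgroupCongr (stabEquiv_aux x)).symm.trans
    (MonoidHom.ofInjective Equiv.Perm.ofSubtype_injective).symm).trans
    (Equiv.permCongrHom (Fintype.equivFinOfCardEq (by
      have h1 := Fintype.card_subtype_compl (fun y : Ω => y = x)
      rw [Fintype.card_subtype_eq] at h1
      rw [h1, h6])))

open Cfsg.Agent.Lib.Helper98.SymIndex Cfsg.Agent.Lib.Helper98.SymSix in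
/-- The symmetric group S_6 has exactly 12 subgroups of index 6; each of them is isomorphic to S_5, and at least one of them is not the stabilizer of any point. -/
theorem result : Nat.card {H : Subgroup (Equiv.Perm (Fin 6)) // H.index = 6} = 12 ∧ (∀ H : Subgroup (Equiv.Perm (Fin 6)), H.index = 6 → Nonempty (H ≃* Equiv.Perm (Fin 5))) ∧ ∃ H : Subgroup (Equiv.Perm (Fin 6)), H.index = 6 ∧ ∀ a : Fin 6, H ≠ MulAction.stabilizer (Equiv.Perm (Fin 6)) a := by
  have h6 : Fintype.card (Fin 6) = 6 := Fintype.card_fin 6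
  obtain ⟨H₂, hH₂, htr⟩ := exists_transitive_index_six h6
  have hnotstab := not_stab_of_transitive h6 htr
  obtain ⟨α₂, hα₂⟩ := exists_mulEquiv_comap_stabilizer (by omega) H₂ (by rw [hH₂, h6]) (0 : Fin 6)
  have hps₂ : ¬ PS α₂ := by
    intro hps₂
    obtain ⟨x, hx⟩ := eq_stabilizer_of_comap (by omega) α₂ hps₂.symm 0 H₂
      (by rw [hH₂, h6]) hα₂
    exact hnotstab x hx
  refine ⟨?_, ?_, ⟨H₂, hH₂, hnotstab⟩⟩
  · -- the count
    have hidxS : ∀ a : Fin 6, (MulAction.stabilizer (Equiv.Perm (Fin 6)) a).index = 6 := by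
      intro a
      rw [MulAction.index_stabilizer_of_transitive (X := Fin 6) (Equiv.Perm (Fin 6)) a,
        Nat.card_eq_fintype_card, h6]
    let f : Fin 6 ⊕ Fin 6 → {H : Subgroup (Equiv.Perm (Fin 6)) // H.index = 6} := fun t =>
      match t with
      | Sum.inl a => ⟨MulAction.stabilizer (Equiv.Perm (Fin 6)) a, hidxS a⟩
      | Sum.inr a => ⟨(MulAction.stabilizer (Equiv.Perm (Fin 6)) a).comap α₂.toMonoidHom, by
          rw [Subgroup.index_comap_of_surjective _ α₂.surjective]; exact hidxS a⟩
    have hmixed : ∀ a b : Fin 6, MulAction.stabilizer (Equiv.Perm (Fin 6)) a ≠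
        (MulAction.stabilizer (Equiv.Perm (Fin 6)) b).comap α₂.toMonoidHom := by
      intro a b h
      have hdec : ∀ b : Fin 6, ∃ c d : Fin 6, c ≠ d ∧ c ≠ b ∧ d ≠ b := by decide
      obtain ⟨c, d, hcd, hcb, hdb⟩ := hdec b
      have hs : (Equiv.swap c d).IsSwap := ⟨c, d, hcd, rfl⟩
      have hu := cycleType_of_not_PS h6 (not_PS_symm hps₂) hs
      have hmem : α₂.symm (Equiv.swap c d) ∈
          (MulAction.stabilizer (Equiv.Perm (Fin 6)) b).comap α₂.toMonoidHom := by
        rw [Subgroup.mem_comap]
        simp only [MulEquiv.toMonoidHom_eq_coe, MonoidHom.coe_coe, MulEquiv.apply_symm_apply]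
        exact Equiv.swap_apply_of_ne_of_ne (Ne.symm hcb) (Ne.symm hdb)
      rw [← h] at hmem
      exact no_fixed_of_type h6 hu a hmem
    have hf : Function.Bijective f := by
      constructor
      · rintro (a | a) (b | b) hab
        · have : MulAction.stabilizer (Equiv.Perm (Fin 6)) a =
              MulAction.stabilizer (Equiv.Perm (Fin 6)) b := congrArg Subtype.val hab
          rw [stabilizer_injective (by omega) this]
        · exact absurd (congrArg Subtype.val hab) (hmixed a b)
        · exact absurd (congrArg Subtype.val hab).symm (hmixed b a)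
        · have : (MulAction.stabilizer (Equiv.Perm (Fin 6)) a).comap α₂.toMonoidHom =
              (MulAction.stabilizer (Equiv.Perm (Fin 6)) b).comap α₂.toMonoidHom :=
            congrArg Subtype.val hab
          have := Subgroup.comap_injective (f := α₂.toMonoidHom) α₂.surjective this
          rw [stabilizer_injective (by omega) this]
      · rintro ⟨H, hH⟩
        obtain ⟨α, hα⟩ := exists_mulEquiv_comap_stabilizer (by omega) H (by rw [hH, h6]) (0 : Fin 6)
        by_cases hps : PS α
        · obtain ⟨x, hx⟩ := eq_stabilizer_of_comap (by omega) α hps.symm 0 H (by rw [hH, h6]) hα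
          exact ⟨Sum.inl x, Subtype.ext hx.symm⟩
        · have hKidx : (H.map α₂.toMonoidHom).index = Fintype.card (Fin 6) := by
            exact (Subgroup.index_map_equiv H α₂).trans (hH.trans h6.symm)
          have hKmem : ∀ g, g ∈ H.map α₂.toMonoidHom ↔ (α₂.symm.trans α) g 0 = 0 := by
            intro g
            rw [Subgroup.mem_map]
            constructor
            · rintro ⟨h, hh, rfl⟩
              simp only [MulEquiv.toMonoidHom_eq_coe, MonoidHom.coe_coe, MulEquiv.trans_apply,
                MulEquiv.symm_apply_apply]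
              exact (hα h).mp hh
            · intro hg
              refine ⟨α₂.symm g, (hα _).mpr hg, ?_⟩
              simp
          have hγ : ∀ g : Equiv.Perm (Fin 6), g.IsSwap → ((α₂.symm.trans α).symm g).IsSwap := by
            intro g hg
            have := PS_trans_of_not h6 (not_PS_symm hps) hps₂ g hg
            simpa [MulEquiv.symm_trans_apply] using this
          obtain ⟨a, ha⟩ := eq_stabilizer_of_comap (by omega) (α₂.symm.trans α) hγ 0 _ hKidx hKmem
          refine ⟨Sum.inr a, Subtype.ext ?_⟩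
          show (MulAction.stabilizer (Equiv.Perm (Fin 6)) a).comap α₂.toMonoidHom = H
          rw [← ha]
          exact Subgroup.comap_map_eq_self_of_injective α₂.injective H
    rw [← Nat.card_eq_of_bijective f hf, Nat.card_eq_fintype_card]
    simp
  · -- isomorphism type
    intro H hH
    obtain ⟨α, hα⟩ := exists_mulEquiv_comap_stabilizer (by omega) H (by rw [hH, h6]) (0 : Fin 6)
    have hmap : H.map α.toMonoidHom = MulAction.stabilizer (Equiv.Perm (Fin 6)) (0 : Fin 6) := by
      ext g
      rw [Subgroup.mem_map]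
      constructor
      · rintro ⟨h, hh, rfl⟩
        exact (hα h).mp hh
      · intro hg
        exact ⟨α.symm g, (hα _).mpr (by simpa using hg), by simp⟩
    exact ⟨((α.subgroupMap H).trans (MulEquiv.subgroupCongr hmap)).trans (stabEquiv h6 0)⟩

end Cfsg.Agent.S5945
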