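import Cfsg.Statements.S5946

set_option autoImplicit false
open Cfsg

namespace Cfsg.Agent.S5946

/-- Let F ⊆ K be finite fields with [K : F] = n ≥ 2 and regard K as an n-dimensional F-vector space. The Singer group M ≤ GL_F(K) of multiplications by the non-zero elements of K is self-centralizing: every F-linear automorphism of K commuting with all of M lies in M. -/
theorem result {F K : Type*} [Field F] [Fintype F] [Field K] [Fintype K] [Algebra F K] (n : ℕ) (hn : 2 ≤ n) (hdim : Module.finrank F K = n) :
    Subgroup.centralizer (((Units.map ((Algebra.lmul F K : K →ₐ[F] Module.End F K) : K →* Module.End F K)).range : Subgroup (Module.End F K)ˣ) : Set (Module.End F K)ˣ) = (Units.map ((Algebra.lmul F K : K →ₐ[F] Module.End F K) : K →* Module.End F K)).range := by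
  set f : Kˣ →* (Module.End F K)ˣ :=
    Units.map ((Algebra.lmul F K : K →ₐ[F] Module.End F K) : K →* Module.End F K) with hf
  have hfapp : ∀ (k : Kˣ) (x : K), ((f k : (Module.End F K)ˣ) : Module.End F K) x = (k : K) * x := by
    intro k x
    simp [hf]
  apply le_antisymm
  · intro φ hφ
    rw [Subgroup.mem_centralizer_iff] at hφ
    have hcomm : ∀ (k : Kˣ) (x : K), (k : K) * (φ : Module.End F K) x = (φ : Module.End F K) ((k : K) * x) := by
      intro k x
      have h1 := hφ (f k) ⟨k, rfl⟩
      have h2 := congrArg (fun g : (Module.End F K)ˣ => (g : Module.End F K) x) h1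
      simp only [Units.val_mul, Module.End.mul_apply] at h2
      rw [hfapp, hfapp] at h2
      exact h2
    set c : K := (φ : Module.End F K) 1 with hc
    have hφc : ∀ x : K, (φ : Module.End F K) x = c * x := by
      intro x
      by_cases hx : x = 0
      · subst hx; simp
      · have := hcomm (Units.mk0 x hx) 1
        simp only [Units.val_mk0, mul_one] at this
        rw [← this, mul_comm]
    have hc0 : c ≠ 0 := by
      intro h0
      have h1 : (φ : Module.End F K) 1 = (φ : Module.End F K) 0 := by
        rw [map_zero]; exact h0
      have hinj : Function.Injective (φ : Module.End F K) := by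
        intro a b hab
        have := congrArg ((φ⁻¹ : (Module.End F K)ˣ) : Module.End F K) hab
        rw [← Module.End.mul_apply, ← Module.End.mul_apply, ← Units.val_mul, inv_mul_cancel] at this
        simpa using this
      exact one_ne_zero (hinj h1)
    refine ⟨Units.mk0 c hc0, ?_⟩
    apply Units.ext
    apply LinearMap.ext
    intro x
    rw [hfapp, hφc]
    simp
  · rintro _ ⟨k, rfl⟩
    rw [Subgroup.mem_centralizer_iff]
    rintro _ ⟨k', rfl⟩
    rw [← map_mul, ← map_mul, mul_comm]

end Cfsg.Agent.S5946
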