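import Cfsg.Statements.S5947
import Mathlib
import Cfsg.Agent.Lib.Helper51.Singer3

set_option autoImplicit false
open Cfsg

namespace Cfsg.Agent.S5947

open Cfsg.Agent.Lib.Helper51

/-- Let F ⊆ K be finite fields with |F| = q and [K : F] = n ≥ 2, regard K as an n-dimensional F-vector space, and let M ≤ GL_F(K) be the Singer group of multiplications by non-zero elements of K (cyclic of order q^n − 1). Assume (n, q) ≠ (6, 2), and that it is not the case that n = 2 with q a prime such that q + 1 is a power of 2. Then every abelian subgroup of GL_F(K) of order q^n − 1 is conjugate to M. -/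
theorem result {F K : Type*} [Field F] [Fintype F] [Field K] [Fintype K] [Algebra F K] (n : ℕ) (hn : 2 ≤ n) (hdim : Module.finrank F K = n)
    (hex1 : ¬ (n = 6 ∧ Fintype.card F = 2))
    (hex2 : ¬ (n = 2 ∧ (Fintype.card F).Prime ∧ ∃ a : ℕ, Fintype.card F + 1 = 2 ^ a))
    (U : Subgroup (Module.End F K)ˣ) (hU : IsMulCommutative U) (hcard : Nat.card U = Fintype.card K - 1) :
    ∃ g : (Module.End F K)ˣ, U.map (MulAut.conj g).toMonoidHom = (Units.map ((Algebra.lmul F K : K →ₐ[F] Module.End F K) : K →* Module.End F K)).range := by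
  classical
  obtain ⟨r, hr, hrdvd, hord⟩ := exists_ppd_field (F := F) n hn hex1 hex2
  haveI : Fact r.Prime := ⟨hr⟩
  haveI : Module.Finite F K := Module.Finite.of_finite
  have hcardK : Fintype.card K = Fintype.card F ^ n := by
    rw [Module.card_eq_pow_finrank (K := F) (V := K), hdim]
  haveI : Finite (Module.End F K) :=
    Finite.of_injective (fun f : Module.End F K => (f : K → K)) DFunLike.coe_injective
  -- Cauchy
  have hdvdU : r ∣ Nat.card U := by rw [hcard, hcardK]; exact hrdvd
  obtain ⟨x, hx⟩ := exists_prime_orderOf_dvd_card' r hdvdU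
  set x₀ : Module.End F K := ((x : (Module.End F K)ˣ) : Module.End F K) with hx₀
  have hx₀r : x₀ ^ r = 1 := by
    have h1 : x ^ r = 1 := by rw [← hx]; exact pow_orderOf_eq_one x
    have h2 := congrArg (fun g : U => (((g : (Module.End F K)ˣ)) : Module.End F K)) h1
    simpa using h2
  have hx₀1 : x₀ ≠ 1 := by
    intro h
    have h1 : x = 1 := Subtype.ext (Units.ext h)
    rw [h1, orderOf_one] at hx
    exact hr.one_lt.ne hx
  let b := Module.finBasisOfFinrankEq F K hdim
  let Φ : Module.End F K ≃ₐ[F] Matrix (Fin n) (Fin n) F := LinearMap.toMatrixAlgEquiv b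
  have hX : (Φ x₀) ^ r = 1 := by rw [← map_pow, hx₀r, map_one]
  have hX1 : Φ x₀ ≠ 1 := fun h => hx₀1 (Φ.injective (by rw [h, map_one]))
  have hunit : ∀ d : Module.End F K, d * x₀ = x₀ * d → d ≠ 0 → IsUnit d := by
    intro d hd hd0
    have h1 := isUnit_of_commute rfl (Φ x₀) r hX hX1 (by omega) hord (Φ d)
      (by rw [← map_mul, hd, map_mul]) (fun h => hd0 (Φ.injective (by rw [h, map_zero])))
    have h2 := h1.map Φ.symm
    simpa using h2
  set D := Subalgebra.centralizer F ({x₀} : Set (Module.End F K)) with hD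
  have hmemD : ∀ m : Module.End F K, m ∈ D ↔ m * x₀ = x₀ * m := by
    intro m
    rw [hD, Subalgebra.mem_centralizer_iff]
    constructor
    · intro h; exact (h x₀ rfl).symm
    · intro h g hg
      rw [Set.mem_singleton_iff.1 hg]; exact h.symm
  have hcardD : Nat.card D = Fintype.card F ^ n := by
    rw [← card_commutant rfl (Φ x₀) r hX hX1 (by omega) hord]
    refine Nat.card_congr (Equiv.subtypeEquiv Φ.toEquiv ?_)
    intro a
    show a ∈ D ↔ Φ a ∈ Subalgebra.centralizer F ({Φ x₀} : Set (Matrix (Fin n) (Fin n) F))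
    rw [hmemD, Subalgebra.mem_centralizer_iff]
    constructor
    · intro h g hg
      rw [Set.mem_singleton_iff.1 hg, ← map_mul, ← map_mul, h]
    · intro h
      have := h (Φ x₀) rfl
      rw [← map_mul, ← map_mul] at this
      exact (Φ.injective this).symm
  have hunitD : ∀ a : D, IsUnit a ∨ a = 0 := by
    intro a
    by_cases ha : a = 0
    · right; exact ha
    · left
      obtain ⟨u, hu⟩ := hunit a ((hmemD _).1 a.2) (fun h => ha (Subtype.ext h))
      have huD : (u : Module.End F K) ∈ D := by rw [hu]; exact a.2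
      have hinvD : ((u⁻¹ : (Module.End F K)ˣ) : Module.End F K) ∈ D := by
        rw [hmemD]
        have h1 := (hmemD _).1 huD
        calc ((u⁻¹ : (Module.End F K)ˣ) : Module.End F K) * x₀
            = ((u⁻¹ : (Module.End F K)ˣ) : Module.End F K) * (x₀ * u) * ((u⁻¹ : (Module.End F K)ˣ) : Module.End F K) := by
              rw [mul_assoc, mul_assoc, Units.mul_inv, mul_one]
          _ = ((u⁻¹ : (Module.End F K)ˣ) : Module.End F K) * (u * x₀) * ((u⁻¹ : (Module.End F K)ˣ) : Module.End F K) := by rw [h1]
          _ = x₀ * ((u⁻¹ : (Module.End F K)ˣ) : Module.End F K) := by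
              rw [← mul_assoc, Units.inv_mul, one_mul]
      refine ⟨⟨⟨u, huD⟩, ⟨_, hinvD⟩, ?_, ?_⟩, ?_⟩
      · apply Subtype.ext
        simp
      · apply Subtype.ext
        simp
      · apply Subtype.ext
        exact hu
  haveI : Nontrivial D := ⟨⟨0, 1, fun h => by
    have := congrArg Subtype.val h
    simp at this⟩⟩
  have hcardKD : Nat.card K = Nat.card D := by
    rw [hcardD, Nat.card_eq_fintype_card, hcardK]
  obtain ⟨σ⟩ := nonempty_algEquiv_of_card_eq (F := F) (K := K) (A := D) hunitD hcardKD
  -- the intertwiner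
  let g₀ : K →ₗ[F] K :=
    { toFun := fun k => ((σ k : D) : Module.End F K) 1
      map_add' := fun a c => by simp
      map_smul' := fun c a => by simp }
  have hg₀ : ∀ k, g₀ k = ((σ k : D) : Module.End F K) 1 := fun k => rfl
  have hg₀inj : Function.Injective g₀ := by
    rw [← LinearMap.ker_eq_bot, LinearMap.ker_eq_bot']
    intro k hk
    by_contra hk0
    have h1 : σ k ≠ 0 := fun h => hk0 (by simpa using h)
    obtain ⟨u, hu⟩ := hunit (σ k) ((hmemD _).1 (σ k).2) (fun h => h1 (Subtype.ext h))
    rw [hg₀, ← hu] at hk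
    have h2 : ((u⁻¹ : (Module.End F K)ˣ) : Module.End F K) ((u : Module.End F K) 1) = 0 := by
      rw [hk, map_zero]
    rw [← Module.End.mul_apply, Units.inv_mul, Module.End.one_apply] at h2
    exact one_ne_zero h2
  let ge : K ≃ₗ[F] K := LinearEquiv.ofInjectiveEndo g₀ hg₀inj
  have hge : ∀ k, ge k = g₀ k := fun k => by simp [ge]
  let g : (Module.End F K)ˣ := LinearMap.GeneralLinearGroup.ofLinearEquiv ge
  have hg : ∀ k, (g : Module.End F K) k = g₀ k := fun k => by
    rw [← hge]
    rfl
  -- intertwining relation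
  have hinter : ∀ k k' : K, g₀ (k * k') = ((σ k : D) : Module.End F K) (g₀ k') := by
    intro k k'
    rw [hg₀, hg₀, map_mul]
    rfl
  refine ⟨g⁻¹, ?_⟩
  have hfinM : Finite (Module.End F K)ˣ := inferInstance
  -- first inclusion
  have hle : U.map (MulAut.conj g⁻¹).toMonoidHom ≤
      (Units.map ((Algebra.lmul F K : K →ₐ[F] Module.End F K) : K →* Module.End F K)).range := by
    rintro w ⟨u, huU, rfl⟩
    -- u commutes with x
    have hux : (u : Module.End F K) * x₀ = x₀ * (u : Module.End F K) := by
      have h1 : (⟨u, huU⟩ : U) * x = x * ⟨u, huU⟩ := hU.is_comm.comm _ _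
      have h2 := congrArg (fun g : U => (((g : (Module.End F K)ˣ)) : Module.End F K)) h1
      simpa using h2
    obtain ⟨k, hk⟩ := σ.surjective ⟨(u : Module.End F K), (hmemD _).2 hux⟩
    have hk' : ((σ k : D) : Module.End F K) = u := by rw [hk]
    have hk0 : k ≠ 0 := by
      rintro rfl
      rw [map_zero] at hk'
      have : (u : Module.End F K) = 0 := hk'.symm
      exact u.ne_zero this
    refine ⟨Units.mk0 k hk0, ?_⟩
    apply Units.ext
    apply LinearMap.ext
    intro k'
    -- g (lmul k k') = u (g k')
    have h1 : (g : Module.End F K) (k * k') = (u : Module.End F K) ((g : Module.End F K) k') := by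
      rw [hg, hg, hinter, hk']
    have h2 : k * k' = ((g⁻¹ : (Module.End F K)ˣ) : Module.End F K) ((u : Module.End F K) ((g : Module.End F K) k')) := by
      rw [← h1, ← Module.End.mul_apply, Units.inv_mul, Module.End.one_apply]
    simpa [Module.End.mul_apply] using h2
  -- cardinalities
  have hcardM : Nat.card (Units.map ((Algebra.lmul F K : K →ₐ[F] Module.End F K) : K →* Module.End F K)).range = Fintype.card K - 1 := by
    have hinj : Function.Injective (Units.map ((Algebra.lmul F K : K →ₐ[F] Module.End F K) : K →* Module.End F K)) := by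
      intro a c h
      apply Units.ext
      have h1 := congrArg (fun w : (Module.End F K)ˣ => (w : Module.End F K) 1) h
      simpa using h1
    rw [Nat.card_congr (MonoidHom.ofInjective hinj).symm.toEquiv, Nat.card_eq_fintype_card, Fintype.card_units]
  have hcardU' : Nat.card (U.map (MulAut.conj g⁻¹).toMonoidHom) = Fintype.card K - 1 := by
    rw [← hcard]
    exact Nat.card_congr (U.equivMapOfInjective _ (MulAut.conj g⁻¹).injective).symm.toEquiv
  exact Subgroup.eq_of_le_of_card_ge hle (by rw [hcardM, hcardU'])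

end Cfsg.Agent.S5947
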