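import Cfsg.Statements.S5949
import Cfsg.Agent.Lib.Helper98.Elus1
import Cfsg.Agent.Lib.Helper98.Elus5
import Cfsg.Agent.Lib.Helper98.Elus6

set_option autoImplicit false
set_option linter.style.haveILetI false
open scoped MatrixGroups
open Cfsg

namespace Cfsg.Agent.S5949

/-- Elements of prime order of PSL_n(q) with no fixed `m`-space. Here `T = PSL_n(F)` for a field `F` with `q = p^f` elements (`n ≥ 2`, `(n, q) ≠ (2, 2), (2, 3)`); an element of `T` of prime order `r` is represented by a matrix `x` of determinant 1 with `x^r` scalar and `x` not scalar; `i` denotes the multiplicative order of `q` modulo `r` (when `r ≠ p`), and `(a)_r` the `r`-part of `a`. Let `1 ≤ m ≤ n/2` and let `r` be a prime dividing the number of `m`-dimensional subspaces of `F^n`. Then every element of `T` of order `r` fixes some `m`-dimensional subspace (the action on `m`-spaces is `r`-elusive) if and only if `r ≠ p` and either (i) `i = 1` and (`r ∣ m`, or `(q−1)_r ≥ (n)_r` where in addition `q ≡ 1 (mod 4)` is required when `r = 2` and `n` is even),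 or (ii) `2 ≤ i ≤ m` and `n mod i ≥ m mod i`. -/
theorem result {F : Type*} [Field F] [Fintype F] {p : ℕ} [Fact p.Prime] [CharP F p] {q : ℕ} (hq : Fintype.card F = q)
    (n m : ℕ) (hn : 2 ≤ n) (hT : (n, q) ≠ (2, 2) ∧ (n, q) ≠ (2, 3)) (hm : 1 ≤ m) (hmn : 2 * m ≤ n)
    (r : ℕ) [Fact r.Prime] (hrΩ : r ∣ Nat.card {W : Submodule F (Fin n → F) // Module.finrank F ↥W = m}) :
    (∀ x : Matrix.SpecialLinearGroup (Fin n) F,
      (∃ c : F, ((x ^ r : Matrix.SpecialLinearGroup (Fin n) F) : Matrix (Fin n) (Fin n) F) = c • (1 : Matrix (Fin n) (Fin n) F)) →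
      (∀ c : F, (x : Matrix (Fin n) (Fin n) F) ≠ c • (1 : Matrix (Fin n) (Fin n) F)) →
      ∃ W : Submodule F (Fin n → F), Module.finrank F ↥W = m ∧ W.map (Matrix.toLin' (x : Matrix (Fin n) (Fin n) F)) ≤ W) ↔
    (r ≠ p ∧
      ((orderOf (q : ZMod r) = 1 ∧ (r ∣ m ∨ (padicValNat r n ≤ padicValNat r (q - 1) ∧ (r = 2 → Even n → q % 4 = 1)))) ∨
       (2 ≤ orderOf (q : ZMod r) ∧ orderOf (q : ZMod r) ≤ m ∧ m % orderOf (q : ZMod r) ≤ n % orderOf (q : ZMod r)))) := by
  classical
  subst hq
  have hr : r.Prime := Fact.out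
  have hp : p.Prime := Fact.out
  obtain ⟨f, _, hF⟩ := FiniteField.card F p
  have hmn' : m ≤ n := by omega
  have hrp : r ≠ p := by
    rintro rfl
    exact Lib.Helper98.Elus.not_dvd_card_subspaces (F := F) (p := r) n m hmn' hrΩ
  have hrF : (r : F) ≠ 0 := by
    intro h
    rw [CharP.cast_eq_zero_iff F p] at h
    exact hrp ((Nat.prime_dvd_prime_iff_eq hp hr).mp h).symm
  set i := orderOf ((Fintype.card F : ℕ) : ZMod r) with hi
  have hi1 : 1 ≤ i := Lib.Helper98.Elus.orderOf_card_pos p f hF r (Ne.symm hrp)
  have hone : i = 1 ↔ r ∣ Fintype.card F - 1 := Lib.Helper98.Elus.orderOf_eq_one_iff_dvd r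
  have hfin : Module.finrank F (Fin n → F) = n := Module.finrank_fin_fun F
  constructor
  · -- every element fixes an `m`-space ⇒ the arithmetic condition
    intro hL
    refine ⟨hrp, ?_⟩
    by_contra hR
    rcases Nat.lt_or_ge i 2 with hi2 | hi2
    · -- `i = 1`
      have hi_one : i = 1 := by omega
      have hr1 : r ∣ Fintype.card F - 1 := hone.mp hi_one
      have hnm : ¬ r ∣ m := fun h => hR (Or.inl ⟨hi_one, Or.inl h⟩)
      have hnok : ¬ (padicValNat r n ≤ padicValNat r (Fintype.card F - 1) ∧
          (r = 2 → Even n → Fintype.card F % 4 = 1)) := fun h => hR (Or.inl ⟨hi_one, Or.inr h⟩)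
      obtain ⟨c, hc, hrn, hc1⟩ := Lib.Helper98.Elus.exists_c (F := F) r hr1 n (by omega) hnok
      have hmon : (Polynomial.X ^ r - Polynomial.C c : Polynomial F).Monic :=
        Polynomial.monic_X_pow_sub_C c hr.ne_zero
      haveI := hmon.finite_adjoinRoot
      have hV : Module.finrank F (Lib.Helper98.Elus.VA c r (n / r)) = n := by
        rw [Lib.Helper98.Elus.finrank_VA c r (n / r) hr.ne_zero, Nat.div_mul_cancel hrn]
      have hfr := Lib.Helper98.Elus.fA_pow_r c r (n / r)
      have hdet : LinearMap.det (Lib.Helper98.Elus.fA c r (n / r)) = 1 := by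
        rw [Lib.Helper98.Elus.det_formula r c hc _ hfr, hV, hc1]
      haveI : Nontrivial (Lib.Helper98.Elus.VA c r (n / r)) :=
        Module.nontrivial_of_finrank_pos (R := F) (by rw [hV]; omega)
      have hns : ∀ d : F, Lib.Helper98.Elus.fA c r (n / r) ≠ d • 1 := by
        intro d hd
        have h1 : Lib.Helper98.Elus.fA c r (n / r) ^ r = d ^ r • 1 := by
          rw [hd, smul_pow, one_pow]
        rw [hfr] at h1
        obtain ⟨v, hv⟩ := exists_ne (0 : Lib.Helper98.Elus.VA c r (n / r))
        have h2 := congrArg (fun g => g v) h1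
        simp only [LinearMap.smul_apply, Module.End.one_apply] at h2
        have h3 : (c - d ^ r) • v = 0 := by rw [sub_smul, h2, sub_self]
        rcases smul_eq_zero.mp h3 with h4 | h4
        · exact hc d (sub_eq_zero.mp h4).symm
        · exact hv h4
      have hno : ∀ W : Submodule F (Lib.Helper98.Elus.VA c r (n / r)),
          Lib.Helper98.Elus.Inv (Lib.Helper98.Elus.fA c r (n / r)) W → Module.finrank F W ≠ m := by
        intro W hW hWm
        apply hnm
        rw [← hWm]
        exact Lib.Helper98.Elus.dvd_finrank_of_not_pow r c hc _ hfr W hW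
      obtain ⟨x, hx1, hx2, hx3⟩ := Lib.Helper98.Elus.transport n hV _ hdet r c hfr hns m hno
      obtain ⟨W, hWd, hW⟩ := hL x ⟨c, hx1⟩ hx2
      exact hx3 ⟨W, hWd, hW⟩
    · -- `i ≥ 2`
      have hnB : ¬ (i ≤ m ∧ m % i ≤ n % i) := fun h => hR (Or.inr ⟨hi2, h.1, h.2⟩)
      have hnr1 : ¬ r ∣ Fintype.card F - 1 := fun h => by
        have := hone.mpr h
        omega
      have hcop : Nat.Coprime (Fintype.card F - 1) r :=
        ((Nat.Prime.coprime_iff_not_dvd hr).mpr hnr1).symm
      obtain ⟨j, hjm, hj⟩ := Lib.Helper98.Elus.exists_dvd_of_dvd_card_subspaces (F := F) (p := p)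
        n m hmn' r hrp hrΩ
      rw [← hi] at hj
      obtain ⟨fs, hmonic, hdeg, hprod⟩ :=
        Lib.Helper98.Elus.cyclo_factors (F := F) p f hF r (Ne.symm hrp)
      have hfs : fs ≠ [] := by
        intro h
        rw [h, List.prod_nil] at hprod
        have h1 := congrArg Polynomial.natDegree hprod
        rw [Polynomial.natDegree_one, Polynomial.natDegree_cyclotomic, Nat.totient_prime hr] at h1
        have := hr.two_le
        omega
      obtain ⟨P, hPfs⟩ := List.exists_mem_of_ne_nil fs hfs
      have hPm := hmonic P hPfs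
      have hPd : P.natDegree = i := hdeg P hPfs
      have hP : P ∣ Polynomial.cyclotomic r F := by
        rw [← hprod]; exact List.dvd_prod hPfs
      have hin : i ≤ n := by
        rcases Nat.lt_or_ge m i with h | h
        · obtain ⟨k', hk'⟩ := hj
          have hk0 : k' ≠ 0 := by
            rintro rfl
            omega
          have : i ≤ i * k' := Nat.le_mul_of_pos_right i (Nat.pos_of_ne_zero hk0)
          omega
        · omega
      have ht : 1 ≤ n / i := Nat.div_pos hin (by omega)
      haveI := hPm.finite_adjoinRoot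
      have hV : Module.finrank F (Lib.Helper98.Elus.VB P (n % i) (n / i)) = n := by
        rw [Lib.Helper98.Elus.finrank_VB (n % i) (n / i) r hP hPm, hPd]
        exact Nat.mod_add_div' n i
      obtain ⟨hns, hdims⟩ := Lib.Helper98.Elus.constr_ge_two (n % i) (n / i) r hP hrF hPm hPd hi2 ht
      have hyr := Lib.Helper98.Elus.yB_pow_r (n % i) (n / i) r hP
      have hdet : LinearMap.det (Lib.Helper98.Elus.yB P (n % i) (n / i)) = 1 := by
        apply Lib.Helper98.Elus.eq_one_of_pow_eq_one_of_coprime r hr.ne_zero hcop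
        rw [← map_pow, hyr, map_one]
      have hno : ∀ W : Submodule F (Lib.Helper98.Elus.VB P (n % i) (n / i)),
          Lib.Helper98.Elus.Inv (Lib.Helper98.Elus.yB P (n % i) (n / i)) W →
            Module.finrank F W ≠ m := by
        intro W hW hWm
        obtain ⟨a, b, hab, hae⟩ := hdims W hW
        rw [hWm, ← hi] at hab
        have hmodlt : n % i < i := Nat.mod_lt n (by omega)
        rcases Nat.lt_or_ge m i with h | h
        · have hb0 : b = 0 := by
            by_contra hb
            have : i ≤ i * b := Nat.le_mul_of_pos_right i (Nat.pos_of_ne_zero hb)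
            omega
          subst hb0
          obtain ⟨k', hk'⟩ := hj
          have hnj : n = j + i * k' := by omega
          have hmod : n % i = j := by
            rw [hnj, Nat.add_mul_mod_self_left, Nat.mod_eq_of_lt (by omega)]
          omega
        · apply hnB
          refine ⟨h, ?_⟩
          rw [hab, Nat.add_mul_mod_self_left, Nat.mod_eq_of_lt (by omega)]
          exact hae
      obtain ⟨x, hx1, hx2, hx3⟩ := Lib.Helper98.Elus.transport n hV _ hdet r 1
        (by rw [hyr, one_smul]) hns m hno
      obtain ⟨W, hWd, hW⟩ := hL x ⟨1, hx1⟩ hx2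
      exact hx3 ⟨W, hWd, hW⟩
  · -- the arithmetic condition ⇒ every element fixes an `m`-space
    rintro ⟨-, hR⟩ x ⟨c, hc⟩ -
    set f0 : (Fin n → F) →ₗ[F] (Fin n → F) :=
      Matrix.toLin' (x : Matrix (Fin n) (Fin n) F) with hf0
    have hf : f0 ^ r = c • 1 := by
      rw [hf0, ← Matrix.toLin'_pow, ← Matrix.SpecialLinearGroup.coe_pow, hc, map_smul,
        Matrix.toLin'_one]
      rfl
    have hdet0 : LinearMap.det f0 = 1 := by
      rw [hf0, LinearMap.det_toLin']
      exact x.2
    by_cases hpow : ∃ d : F, d ^ r = c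
    · obtain ⟨d, hd⟩ := hpow
      have hc0 : c ≠ 0 := by
        intro h0
        have h1 := congrArg LinearMap.det hf
        rw [map_pow, hdet0, one_pow, LinearMap.det_smul, map_one, mul_one, hfin, h0,
          zero_pow (by omega)] at h1
        exact one_ne_zero h1
      have hd0 : d ≠ 0 := by
        intro h0
        rw [h0, zero_pow hr.ne_zero] at hd
        exact hc0 hd.symm
      have hy : (d⁻¹ • f0) ^ r = 1 := by
        rw [smul_pow, hf, smul_smul, inv_pow, hd, inv_mul_cancel₀ hc0, one_smul]
      have hmod : m % i ≤ n % i := by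
        rcases hR with ⟨h1, _⟩ | ⟨_, _, h3⟩
        · rw [h1, Nat.mod_one]
          exact Nat.zero_le _
        · exact h3
      obtain ⟨W, hW, hWd⟩ := Lib.Helper98.Elus.exists_inv_of_pow_eq_one p f hF r (Ne.symm hrp) hrF
        (d⁻¹ • f0) hy m (by rw [hfin]; exact hmn') (by rw [hfin]; exact hmod)
      refine ⟨W, hWd, ?_⟩
      rintro _ ⟨w, hw, rfl⟩
      have h1 := W.smul_mem d (hW w hw)
      rw [LinearMap.smul_apply, smul_smul, mul_inv_cancel₀ hd0, one_smul] at h1
      exact h1
    · push Not at hpow
      have hr1 : r ∣ Fintype.card F - 1 := by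
        by_contra h
        have hcop : Nat.Coprime (Fintype.card F - 1) r :=
          ((Nat.Prime.coprime_iff_not_dvd hr).mpr h).symm
        have hc0 : c ≠ 0 := by
          intro h0
          exact hpow 0 (by rw [h0, zero_pow hr.ne_zero])
        obtain ⟨d, hd⟩ := Lib.Helper98.Elus.exists_pow_eq_of_coprime r hcop c hc0
        exact hpow d hd
      have hi_one : i = 1 := hone.mpr hr1
      rcases hR with ⟨_, h⟩ | ⟨h2, _, _⟩
      · rcases h with hrm | hok
        · obtain ⟨W, hW, hWd⟩ := Lib.Helper98.Elus.exists_inv_of_not_pow r c hpow f0 hf m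
            (by rw [hfin]; exact hmn') hrm
          refine ⟨W, hWd, ?_⟩
          rintro _ ⟨w, hw, rfl⟩
          exact hW w hw
        · exfalso
          have hrn : r ∣ n := by
            have := Lib.Helper98.Elus.dvd_finrank_of_not_pow r c hpow f0 hf ⊤
              (fun _ _ => Submodule.mem_top)
            rwa [finrank_top, hfin] at this
          have h1 := Lib.Helper98.Elus.det_formula r c hpow f0 hf
          rw [hdet0, hfin] at h1
          exact Lib.Helper98.Elus.no_c r hr1 n (by omega) hok c hpow hrn h1.symm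
      · omega

end Cfsg.Agent.S5949
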