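import Cfsg.Statements.S5950
import Cfsg.Agent.Lib.Helper98.Elus1
import Cfsg.Agent.Lib.Helper98.Elus5
import Cfsg.Agent.Lib.Helper98.Elus6
import Cfsg.Agent.Lib.Helper98.Elus13

set_option autoImplicit false
set_option linter.style.haveILetI false
open scoped MatrixGroups
open Cfsg

namespace Cfsg.Agent.S5950

/-- Elements of prime order of PSL_n(q) fixing no decomposition `F^n = U ⊕ W` with `dim U = m`. Here `T = PSL_n(F)` for a field `F` with `q = p^f` elements (`n ≥ 2`, `(n, q) ≠ (2, 2), (2, 3)`); an element of `T` of prime order `r` is represented by a matrix `x` of determinant 1 with `x^r` scalar and `x` not scalar; `i` denotes the multiplicative order of `q` modulo `r` (when `r ≠ p`), and `(a)_r` the `r`-part of `a`. Let `n ≥ 3`, `1 ≤ m < n/2`, and let `r` be a prime dividing the number of such decompositions (unordered pairs `{U, W}` of complementary subspaces with `dim U = m`; since `m ≠ n − m` these are the ordered pairs with `dim U = m`). Then every element of `T` of order `r` fixes such a pair (fixes both `U` and `W` for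 some complementary `U, W` with `dim U = m`) if and only if one of: (i) `r = p > 2` and every partition of `n` into parts of size at most `p` contains, as a sub-multiset, a partition of `m`; (ii) `r = p = 2` and `n` is odd or `m` is even; (iii) `r ≠ p`, `i = 1`, and `r ∣ m` or `(q−1)_r ≥ (n)_r` (with `q ≡ 1 (mod 4)` required when `r = 2` and `n` is even); (iv) `r ≠ p`, `2 ≤ i ≤ m` and `n mod i ≥ m mod i`. -/
theorem result {F : Type*} [Field F] [Fintype F] {p : ℕ} [Fact p.Prime] [CharP F p] {q : ℕ} (hq : Fintype.card F = q)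
    (n m : ℕ) (hn : 3 ≤ n) (hm : 1 ≤ m) (hmn : 2 * m < n)
    (r : ℕ) [Fact r.Prime]
    (hrΩ : r ∣ Nat.card {P : Submodule F (Fin n → F) × Submodule F (Fin n → F) // IsCompl P.1 P.2 ∧ Module.finrank F ↥P.1 = m}) :
    (∀ x : Matrix.SpecialLinearGroup (Fin n) F,
      (∃ c : F, ((x ^ r : Matrix.SpecialLinearGroup (Fin n) F) : Matrix (Fin n) (Fin n) F) = c • (1 : Matrix (Fin n) (Fin n) F)) →
      (∀ c : F, (x : Matrix (Fin n) (Fin n) F) ≠ c • (1 : Matrix (Fin n) (Fin n) F)) →
      ∃ U W : Submodule F (Fin n → F), IsCompl U W ∧ Module.finrank F ↥U = m ∧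
        U.map (Matrix.toLin' (x : Matrix (Fin n) (Fin n) F)) ≤ U ∧ W.map (Matrix.toLin' (x : Matrix (Fin n) (Fin n) F)) ≤ W) ↔
    ((r = p ∧ 2 < p ∧ (∀ μ : Multiset ℕ, (∀ a ∈ μ, 0 < a ∧ a ≤ p) → μ.sum = n → ∃ ν : Multiset ℕ, ν ≤ μ ∧ ν.sum = m)) ∨
     (r = p ∧ p = 2 ∧ (Odd n ∨ Even m)) ∨
     (r ≠ p ∧
      ((orderOf (q : ZMod r) = 1 ∧ (r ∣ m ∨ (padicValNat r n ≤ padicValNat r (q - 1) ∧ (r = 2 → Even n → q % 4 = 1)))) ∨
       (2 ≤ orderOf (q : ZMod r) ∧ orderOf (q : ZMod r) ≤ m ∧ m % orderOf (q : ZMod r) ≤ n % orderOf (q : ZMod r))))) := by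
  classical
  subst hq
  have hr : r.Prime := Fact.out
  have hp : p.Prime := Fact.out
  obtain ⟨f, _, hF⟩ := FiniteField.card F p
  have hmn' : m ≤ n := by omega
  have hfin : Module.finrank F (Fin n → F) = n := Module.finrank_fin_fun F
  have hroot : ∀ c : F, ∃ d : F, d ^ p = c := by
    intro c
    refine ⟨c ^ (p ^ ((f : ℕ) - 1)), ?_⟩
    rw [← pow_mul, ← pow_succ, Nat.sub_add_cancel f.pos, ← hF, FiniteField.pow_card]
  have hrΩ' : r ≠ p →
      r ∣ Nat.card {W : Submodule F (Fin n → F) // Module.finrank F ↥W = m} := by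
    intro hrp
    have h1 := Lib.Helper98.Elus.card_decomps (F := F) (V := Fin n → F) (m := m)
    have h2 : r ∣ Nat.card {W : Submodule F (Fin n → F) // Module.finrank F ↥W = m} *
        Fintype.card F ^ ((Module.finrank F (Fin n → F) - m) * m) := h1 ▸ hrΩ
    rcases (Nat.Prime.dvd_mul hr).mp h2 with h | h
    · exact h
    · exfalso
      have h3 := hr.dvd_of_dvd_pow h
      rw [hF] at h3
      have h4 := hr.dvd_of_dvd_pow h3
      exact hrp ((Nat.prime_dvd_prime_iff_eq hr hp).mp h4)
  set i := orderOf ((Fintype.card F : ℕ) : ZMod r) with hi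
  have hone : i = 1 ↔ r ∣ Fintype.card F - 1 := Lib.Helper98.Elus.orderOf_eq_one_iff_dvd r
  constructor
  · -- every element fixes a decomposition ⇒ the arithmetic condition
    intro hL
    by_cases hrp : r = p
    · subst hrp
      have H : ∀ μ : Multiset ℕ, (∀ a ∈ μ, 0 < a ∧ a ≤ r) → μ.sum = n →
          ∃ ν : Multiset ℕ, ν ≤ μ ∧ ν.sum = m :=
        fun μ hμ hs => Lib.Helper98.Elus.unipotent_forward r n m hmn' hL μ hμ hs
      rcases Nat.lt_or_ge 2 r with h2 | h2
      · exact Or.inl ⟨rfl, h2, H⟩
      · have hr2 : r = 2 := le_antisymm h2 hr.two_le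
        refine Or.inr (Or.inl ⟨rfl, hr2, ?_⟩)
        rw [hr2] at H
        exact Lib.Helper98.Elus.two_parts_conv n m H
    · refine Or.inr (Or.inr ⟨hrp, ?_⟩)
      have hrF : (r : F) ≠ 0 := by
        intro h
        rw [CharP.cast_eq_zero_iff F p] at h
        exact hrp ((Nat.prime_dvd_prime_iff_eq hp hr).mp h).symm
      have hi1 : 1 ≤ i := Lib.Helper98.Elus.orderOf_card_pos p f hF r (Ne.symm hrp)
      have hrΩ2 := hrΩ' hrp
      by_contra hR
      rcases Nat.lt_or_ge i 2 with hi2 | hi2
      · -- `i = 1`
        have hi_one : i = 1 := by omega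
        have hr1 : r ∣ Fintype.card F - 1 := hone.mp hi_one
        have hnm : ¬ r ∣ m := fun h => hR (Or.inl ⟨hi_one, Or.inl h⟩)
        have hnok : ¬ (padicValNat r n ≤ padicValNat r (Fintype.card F - 1) ∧
            (r = 2 → Even n → Fintype.card F % 4 = 1)) := fun h => hR (Or.inl ⟨hi_one, Or.inr h⟩)
        obtain ⟨c, hc, hrn, hc1⟩ := Lib.Helper98.Elus.exists_c (F := F) r hr1 n (by omega) hnok
        have hmon : (Polynomial.X ^ r - Polynomial.C c : Polynomial F).Monic :=
          Polynomial.monic_X_pow_sub_C c hr.ne_zero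
        haveI := hmon.finite_adjoinRoot
        have hV : Module.finrank F (Lib.Helper98.Elus.VA c r (n / r)) = n := by
          rw [Lib.Helper98.Elus.finrank_VA c r (n / r) hr.ne_zero, Nat.div_mul_cancel hrn]
        have hfr := Lib.Helper98.Elus.fA_pow_r c r (n / r)
        have hdet : LinearMap.det (Lib.Helper98.Elus.fA c r (n / r)) = 1 := by
          rw [Lib.Helper98.Elus.det_formula r c hc _ hfr, hV, hc1]
        haveI : Nontrivial (Lib.Helper98.Elus.VA c r (n / r)) :=
          Module.nontrivial_of_finrank_pos (R := F) (by rw [hV]; omega)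
        have hns : ∀ d : F, Lib.Helper98.Elus.fA c r (n / r) ≠ d • 1 := by
          intro d hd
          have h1 : Lib.Helper98.Elus.fA c r (n / r) ^ r = d ^ r • 1 := by
            rw [hd, smul_pow, one_pow]
          rw [hfr] at h1
          obtain ⟨v, hv⟩ := exists_ne (0 : Lib.Helper98.Elus.VA c r (n / r))
          have h2 := congrArg (fun g => g v) h1
          simp only [LinearMap.smul_apply, Module.End.one_apply] at h2
          have h3 : (c - d ^ r) • v = 0 := by rw [sub_smul, h2, sub_self]
          rcases smul_eq_zero.mp h3 with h4 | h4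
          · exact hc d (sub_eq_zero.mp h4).symm
          · exact hv h4
        have hno : ∀ W : Submodule F (Lib.Helper98.Elus.VA c r (n / r)),
            Lib.Helper98.Elus.Inv (Lib.Helper98.Elus.fA c r (n / r)) W →
              Module.finrank F W ≠ m := by
          intro W hW hWm
          apply hnm
          rw [← hWm]
          exact Lib.Helper98.Elus.dvd_finrank_of_not_pow r c hc _ hfr W hW
        obtain ⟨x, hx1, hx2, hx3⟩ := Lib.Helper98.Elus.transport n hV _ hdet r c hfr hns m hno
        obtain ⟨U, W, -, hUm, hUx, -⟩ := hL x ⟨c, hx1⟩ hx2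
        exact hx3 ⟨U, hUm, hUx⟩
      · -- `i ≥ 2`
        have hnB : ¬ (i ≤ m ∧ m % i ≤ n % i) := fun h => hR (Or.inr ⟨hi2, h.1, h.2⟩)
        have hnr1 : ¬ r ∣ Fintype.card F - 1 := fun h => by
          have := hone.mpr h
          omega
        have hcop : Nat.Coprime (Fintype.card F - 1) r :=
          ((Nat.Prime.coprime_iff_not_dvd hr).mpr hnr1).symm
        obtain ⟨j, hjm, hj⟩ := Lib.Helper98.Elus.exists_dvd_of_dvd_card_subspaces (F := F) (p := p)
          n m hmn' r hrp hrΩ2
        rw [← hi] at hj
        obtain ⟨fs, hmonic, hdeg, hprod⟩ :=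
          Lib.Helper98.Elus.cyclo_factors (F := F) p f hF r (Ne.symm hrp)
        have hfs : fs ≠ [] := by
          intro h
          rw [h, List.prod_nil] at hprod
          have h1 := congrArg Polynomial.natDegree hprod
          rw [Polynomial.natDegree_one, Polynomial.natDegree_cyclotomic,
            Nat.totient_prime hr] at h1
          have := hr.two_le
          omega
        obtain ⟨P, hPfs⟩ := List.exists_mem_of_ne_nil fs hfs
        have hPm := hmonic P hPfs
        have hPd : P.natDegree = i := hdeg P hPfs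
        have hP : P ∣ Polynomial.cyclotomic r F := by
          rw [← hprod]; exact List.dvd_prod hPfs
        have hin : i ≤ n := by
          rcases Nat.lt_or_ge m i with h | h
          · obtain ⟨k', hk'⟩ := hj
            have hk0 : k' ≠ 0 := by
              rintro rfl
              omega
            have : i ≤ i * k' := Nat.le_mul_of_pos_right i (Nat.pos_of_ne_zero hk0)
            omega
          · omega
        have ht : 1 ≤ n / i := Nat.div_pos hin (by omega)
        haveI := hPm.finite_adjoinRoot
        have hV : Module.finrank F (Lib.Helper98.Elus.VB P (n % i) (n / i)) = n := by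
          rw [Lib.Helper98.Elus.finrank_VB (n % i) (n / i) r hP hPm, hPd]
          exact Nat.mod_add_div' n i
        obtain ⟨hns, hdims⟩ :=
          Lib.Helper98.Elus.constr_ge_two (n % i) (n / i) r hP hrF hPm hPd hi2 ht
        have hyr := Lib.Helper98.Elus.yB_pow_r (n % i) (n / i) r hP
        have hdet : LinearMap.det (Lib.Helper98.Elus.yB P (n % i) (n / i)) = 1 := by
          apply Lib.Helper98.Elus.eq_one_of_pow_eq_one_of_coprime r hr.ne_zero hcop
          rw [← map_pow, hyr, map_one]
        have hno : ∀ W : Submodule F (Lib.Helper98.Elus.VB P (n % i) (n / i)),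
            Lib.Helper98.Elus.Inv (Lib.Helper98.Elus.yB P (n % i) (n / i)) W →
              Module.finrank F W ≠ m := by
          intro W hW hWm
          obtain ⟨a, b, hab, hae⟩ := hdims W hW
          rw [hWm, ← hi] at hab
          have hmodlt : n % i < i := Nat.mod_lt n (by omega)
          rcases Nat.lt_or_ge m i with h | h
          · have hb0 : b = 0 := by
              by_contra hb
              have : i ≤ i * b := Nat.le_mul_of_pos_right i (Nat.pos_of_ne_zero hb)
              omega
            subst hb0
            obtain ⟨k', hk'⟩ := hj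
            have hnj : n = j + i * k' := by omega
            have hmod : n % i = j := by
              rw [hnj, Nat.add_mul_mod_self_left, Nat.mod_eq_of_lt (by omega)]
            omega
          · apply hnB
            refine ⟨h, ?_⟩
            rw [hab, Nat.add_mul_mod_self_left, Nat.mod_eq_of_lt (by omega)]
            exact hae
        obtain ⟨x, hx1, hx2, hx3⟩ := Lib.Helper98.Elus.transport n hV _ hdet r 1
          (by rw [hyr, one_smul]) hns m hno
        obtain ⟨U, W, -, hUm, hUx, -⟩ := hL x ⟨1, hx1⟩ hx2
        exact hx3 ⟨U, hUm, hUx⟩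
  · -- the arithmetic condition ⇒ every element fixes a decomposition
    rintro (⟨hrp, hp2, H⟩ | ⟨hrp, hp2, hpar⟩ | ⟨hrp, hR⟩)
    · rintro x ⟨c, hc⟩ -
      subst hrp
      obtain ⟨d, hd⟩ := hroot c
      exact Lib.Helper98.Elus.unipotent_backward r n m (by omega) x c d hd hc H
    · rintro x ⟨c, hc⟩ -
      subst hrp
      obtain ⟨d, hd⟩ := hroot c
      refine Lib.Helper98.Elus.unipotent_backward r n m (by omega) x c d hd hc ?_
      intro μ hμ hs
      rw [hp2] at hμ
      exact Lib.Helper98.Elus.two_parts n m hmn' hpar μ hμ hs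
    · rintro x ⟨c, hc⟩ -
      have hrF : (r : F) ≠ 0 := by
        intro h
        rw [CharP.cast_eq_zero_iff F p] at h
        exact hrp ((Nat.prime_dvd_prime_iff_eq hp hr).mp h).symm
      set f0 : (Fin n → F) →ₗ[F] (Fin n → F) :=
        Matrix.toLin' (x : Matrix (Fin n) (Fin n) F) with hf0
      have hf : f0 ^ r = c • 1 := by
        rw [hf0, ← Matrix.toLin'_pow, ← Matrix.SpecialLinearGroup.coe_pow, hc, map_smul,
          Matrix.toLin'_one]
        rfl
      have hdet0 : LinearMap.det f0 = 1 := by
        rw [hf0, LinearMap.det_toLin']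
        exact x.2
      have hc0 : c ≠ 0 := by
        intro h0
        have h1 := congrArg LinearMap.det hf
        rw [map_pow, hdet0, one_pow, LinearMap.det_smul, map_one, mul_one, hfin, h0,
          zero_pow (by omega)] at h1
        exact one_ne_zero h1
      by_cases hpow : ∃ d : F, d ^ r = c
      · obtain ⟨d, hd⟩ := hpow
        have hd0 : d ≠ 0 := by
          intro h0
          rw [h0, zero_pow hr.ne_zero] at hd
          exact hc0 hd.symm
        have hy : (d⁻¹ • f0) ^ r = 1 := by
          rw [smul_pow, hf, smul_smul, inv_pow, hd, inv_mul_cancel₀ hc0, one_smul]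
        have hmod : m % i ≤ n % i := by
          rcases hR with ⟨h1, _⟩ | ⟨_, _, h3⟩
          · rw [h1, Nat.mod_one]
            exact Nat.zero_le _
          · exact h3
        obtain ⟨U, hU, hUd⟩ := Lib.Helper98.Elus.exists_inv_of_pow_eq_one p f hF r (Ne.symm hrp)
          hrF (d⁻¹ • f0) hy m (by rw [hfin]; exact hmn') (by rw [hfin]; exact hmod)
        obtain ⟨W, hW, hUW⟩ := Lib.Helper98.Elus.exists_inv_compl r hrF 1 one_ne_zero (d⁻¹ • f0)
          (by rw [hy, one_smul]) U hU
        have hinv : ∀ X : Submodule F (Fin n → F), Lib.Helper98.Elus.Inv (d⁻¹ • f0) X →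
            X.map f0 ≤ X := by
          rintro X hX _ ⟨w, hw, rfl⟩
          have h1 := X.smul_mem d (hX w hw)
          rw [LinearMap.smul_apply, smul_smul, mul_inv_cancel₀ hd0, one_smul] at h1
          exact h1
        exact ⟨U, W, hUW, hUd, hinv U hU, hinv W hW⟩
      · push Not at hpow
        have hr1 : r ∣ Fintype.card F - 1 := by
          by_contra h
          have hcop : Nat.Coprime (Fintype.card F - 1) r :=
            ((Nat.Prime.coprime_iff_not_dvd hr).mpr h).symm
          obtain ⟨d, hd⟩ := Lib.Helper98.Elus.exists_pow_eq_of_coprime r hcop c hc0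
          exact hpow d hd
        have hi_one : i = 1 := hone.mpr hr1
        have hinv : ∀ X : Submodule F (Fin n → F), Lib.Helper98.Elus.Inv f0 X →
            X.map f0 ≤ X := by
          rintro X hX _ ⟨w, hw, rfl⟩
          exact hX w hw
        rcases hR with ⟨_, h⟩ | ⟨h2, _, _⟩
        · rcases h with hrm | hok
          · obtain ⟨U, hU, hUd⟩ := Lib.Helper98.Elus.exists_inv_of_not_pow r c hpow f0 hf m
              (by rw [hfin]; exact hmn') hrm
            obtain ⟨W, hW, hUW⟩ := Lib.Helper98.Elus.exists_inv_compl r hrF c hc0 f0 hf U hU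
            exact ⟨U, W, hUW, hUd, hinv U hU, hinv W hW⟩
          · exfalso
            have hrn : r ∣ n := by
              have := Lib.Helper98.Elus.dvd_finrank_of_not_pow r c hpow f0 hf ⊤
                (fun _ _ => Submodule.mem_top)
              rwa [finrank_top, hfin] at this
            have h1 := Lib.Helper98.Elus.det_formula r c hpow f0 hf
            rw [hdet0, hfin] at h1
            exact Lib.Helper98.Elus.no_c r hr1 n (by omega) hok c hpow hrn h1.symm
        · omega

end Cfsg.Agent.S5950
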