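import Cfsg.Statements.S5951
import Cfsg.Agent.Lib.Helper98.Elus6
import Cfsg.Agent.Lib.Helper98.Elus7
import Cfsg.Agent.Lib.Helper98.Elus8

set_option autoImplicit false
set_option linter.style.haveILetI false
open scoped MatrixGroups
open Cfsg

namespace Cfsg.Agent.S5951

/-- Elements of prime order of PSL_n(q) fixing no pair of subspaces `U < W` with `dim U = m`, `dim W = n − m`. Here `T = PSL_n(F)` for a field `F` with `q = p^f` elements (`n ≥ 2`, `(n, q) ≠ (2, 2), (2, 3)`); an element of `T` of prime order `r` is represented by a matrix `x` of determinant 1 with `x^r` scalar and `x` not scalar; `i` denotes the multiplicative order of `q` modulo `r` (when `r ≠ p`), and `(a)_r` the `r`-part of `a`. Let `1 ≤ m < n/2` and let `r` be a prime dividing the number of such pairs. Then every element of `T` of order `r` fixes such a pair (both `U` and `W`) if and only if `r ≠ p` and either (i) `i = 1` and (`r ∣ m`, or `(q−1)_r ≥ (n)_r` with `q ≡ 1 (mod 4)` required when `r = 2` and `n` is even), or (ii) `2 ≤ i ≤ m` and `n mod i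 ≥ 2 (m mod i)`. -/
theorem result {F : Type*} [Field F] [Fintype F] {p : ℕ} [Fact p.Prime] [CharP F p] {q : ℕ} (hq : Fintype.card F = q)
    (n m : ℕ) (hn : 2 ≤ n) (hT : (n, q) ≠ (2, 2) ∧ (n, q) ≠ (2, 3)) (hm : 1 ≤ m) (hmn : 2 * m < n)
    (r : ℕ) [Fact r.Prime]
    (hrΩ : r ∣ Nat.card {P : Submodule F (Fin n → F) × Submodule F (Fin n → F) //
        P.1 ≤ P.2 ∧ Module.finrank F ↥P.1 = m ∧ Module.finrank F ↥P.2 = n - m}) :
    (∀ x : Matrix.SpecialLinearGroup (Fin n) F,
      (∃ c : F, ((x ^ r : Matrix.SpecialLinearGroup (Fin n) F) : Matrix (Fin n) (Fin n) F) = c • (1 : Matrix (Fin n) (Fin n) F)) →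
      (∀ c : F, (x : Matrix (Fin n) (Fin n) F) ≠ c • (1 : Matrix (Fin n) (Fin n) F)) →
      ∃ U W : Submodule F (Fin n → F), U ≤ W ∧ Module.finrank F ↥U = m ∧ Module.finrank F ↥W = n - m ∧
        U.map (Matrix.toLin' (x : Matrix (Fin n) (Fin n) F)) ≤ U ∧ W.map (Matrix.toLin' (x : Matrix (Fin n) (Fin n) F)) ≤ W) ↔
    (r ≠ p ∧
      ((orderOf (q : ZMod r) = 1 ∧ (r ∣ m ∨ (padicValNat r n ≤ padicValNat r (q - 1) ∧ (r = 2 → Even n → q % 4 = 1)))) ∨
       (2 ≤ orderOf (q : ZMod r) ∧ orderOf (q : ZMod r) ≤ m ∧ 2 * (m % orderOf (q : ZMod r)) ≤ n % orderOf (q : ZMod r)))) := by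
  classical
  subst hq
  have hr : r.Prime := Fact.out
  have hp : p.Prime := Fact.out
  obtain ⟨f, _, hF⟩ := FiniteField.card F p
  have hmn' : m ≤ n := by omega
  have hfin : Module.finrank F (Fin n → F) = n := Module.finrank_fin_fun F
  have hrp : r ≠ p := by
    rintro rfl
    have h1 := Lib.Helper98.Elus.card_flags_cast_eq_one (F := F) (V := Fin n → F) (m := m)
      (k := n - m) (p := r) (by omega) (by rw [hfin]; omega)
    have h2 := (ZMod.natCast_eq_zero_iff _ _).mpr hrΩ
    rw [h2] at h1
    exact zero_ne_one h1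
  have hrF : (r : F) ≠ 0 := by
    intro h
    rw [CharP.cast_eq_zero_iff F p] at h
    exact hrp ((Nat.prime_dvd_prime_iff_eq hp hr).mp h).symm
  set i := orderOf ((Fintype.card F : ℕ) : ZMod r) with hi
  have hi1 : 1 ≤ i := Lib.Helper98.Elus.orderOf_card_pos p f hF r (Ne.symm hrp)
  have hone : i = 1 ↔ r ∣ Fintype.card F - 1 := Lib.Helper98.Elus.orderOf_eq_one_iff_dvd r
  constructor
  · intro hL
    refine ⟨hrp, ?_⟩
    by_contra hR
    rcases Nat.lt_or_ge i 2 with hi2 | hi2
    · -- `i = 1`
      have hi_one : i = 1 := by omega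
      have hr1 : r ∣ Fintype.card F - 1 := hone.mp hi_one
      have hnm : ¬ r ∣ m := fun h => hR (Or.inl ⟨hi_one, Or.inl h⟩)
      have hnok : ¬ (padicValNat r n ≤ padicValNat r (Fintype.card F - 1) ∧
          (r = 2 → Even n → Fintype.card F % 4 = 1)) := fun h => hR (Or.inl ⟨hi_one, Or.inr h⟩)
      obtain ⟨c, hc, hrn, hc1⟩ := Lib.Helper98.Elus.exists_c (F := F) r hr1 n (by omega) hnok
      have hmon : (Polynomial.X ^ r - Polynomial.C c : Polynomial F).Monic :=
        Polynomial.monic_X_pow_sub_C c hr.ne_zero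
      haveI := hmon.finite_adjoinRoot
      have hV : Module.finrank F (Lib.Helper98.Elus.VA c r (n / r)) = n := by
        rw [Lib.Helper98.Elus.finrank_VA c r (n / r) hr.ne_zero, Nat.div_mul_cancel hrn]
      have hfr := Lib.Helper98.Elus.fA_pow_r c r (n / r)
      have hdet : LinearMap.det (Lib.Helper98.Elus.fA c r (n / r)) = 1 := by
        rw [Lib.Helper98.Elus.det_formula r c hc _ hfr, hV, hc1]
      haveI : Nontrivial (Lib.Helper98.Elus.VA c r (n / r)) :=
        Module.nontrivial_of_finrank_pos (R := F) (by rw [hV]; omega)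
      have hns : ∀ d : F, Lib.Helper98.Elus.fA c r (n / r) ≠ d • 1 := by
        intro d hd
        have h1 : Lib.Helper98.Elus.fA c r (n / r) ^ r = d ^ r • 1 := by
          rw [hd, smul_pow, one_pow]
        rw [hfr] at h1
        obtain ⟨v, hv⟩ := exists_ne (0 : Lib.Helper98.Elus.VA c r (n / r))
        have h2 := congrArg (fun g => g v) h1
        simp only [LinearMap.smul_apply, Module.End.one_apply] at h2
        have h3 : (c - d ^ r) • v = 0 := by rw [sub_smul, h2, sub_self]
        rcases smul_eq_zero.mp h3 with h4 | h4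
        · exact hc d (sub_eq_zero.mp h4).symm
        · exact hv h4
      have hno : ∀ W : Submodule F (Lib.Helper98.Elus.VA c r (n / r)),
          Lib.Helper98.Elus.Inv (Lib.Helper98.Elus.fA c r (n / r)) W → Module.finrank F W ≠ m := by
        intro W hW hWm
        apply hnm
        rw [← hWm]
        exact Lib.Helper98.Elus.dvd_finrank_of_not_pow r c hc _ hfr W hW
      obtain ⟨x, hx1, hx2, hx3⟩ := Lib.Helper98.Elus.transport n hV _ hdet r c hfr hns m hno
      obtain ⟨U, W, _, hUd, _, hU, _⟩ := hL x ⟨c, hx1⟩ hx2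
      exact hx3 ⟨U, hUd, hU⟩
    · -- `i ≥ 2`
      have hnB : ¬ (i ≤ m ∧ 2 * (m % i) ≤ n % i) := fun h => hR (Or.inr ⟨hi2, h.1, h.2⟩)
      have hnr1 : ¬ r ∣ Fintype.card F - 1 := fun h => by
        have := hone.mpr h
        omega
      have hcop : Nat.Coprime (Fintype.card F - 1) r :=
        ((Nat.Prime.coprime_iff_not_dvd hr).mpr hnr1).symm
      have hcases := Lib.Helper98.Elus.flags_dvd_cases (F := F) (p := p) n m hmn r hrp hrΩ
      rw [← hi] at hcases
      obtain ⟨fs, hmonic, hdeg, hprod⟩ :=
        Lib.Helper98.Elus.cyclo_factors (F := F) p f hF r (Ne.symm hrp)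
      have hfs : fs ≠ [] := by
        intro h
        rw [h, List.prod_nil] at hprod
        have h1 := congrArg Polynomial.natDegree hprod
        rw [Polynomial.natDegree_one, Polynomial.natDegree_cyclotomic, Nat.totient_prime hr] at h1
        have := hr.two_le
        omega
      obtain ⟨P, hPfs⟩ := List.exists_mem_of_ne_nil fs hfs
      have hPm := hmonic P hPfs
      have hPd : P.natDegree = i := hdeg P hPfs
      have hP : P ∣ Polynomial.cyclotomic r F := by
        rw [← hprod]; exact List.dvd_prod hPfs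
      have hin : i ≤ n := by
        rcases Nat.lt_or_ge m i with h | h
        · rcases hcases with ⟨j, hjm, k', hk'⟩ | ⟨j, hjm, k', hk'⟩
          · have hk0 : k' ≠ 0 := by
              rintro rfl
              omega
            have : i ≤ i * k' := Nat.le_mul_of_pos_right i (Nat.pos_of_ne_zero hk0)
            omega
          · have hk0 : k' ≠ 0 := by
              rintro rfl
              omega
            have : i ≤ i * k' := Nat.le_mul_of_pos_right i (Nat.pos_of_ne_zero hk0)
            omega
        · omega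
      have ht : 1 ≤ n / i := Nat.div_pos hin (by omega)
      haveI := hPm.finite_adjoinRoot
      have hV : Module.finrank F (Lib.Helper98.Elus.VB P (n % i) (n / i)) = n := by
        rw [Lib.Helper98.Elus.finrank_VB (n % i) (n / i) r hP hPm, hPd]
        exact Nat.mod_add_div' n i
      obtain ⟨hns, -⟩ := Lib.Helper98.Elus.constr_ge_two (n % i) (n / i) r hP hrF hPm hPd hi2 ht
      have hdims := Lib.Helper98.Elus.constr_ge_two_mono (n % i) (n / i) r hP hrF hPm
      have hyr := Lib.Helper98.Elus.yB_pow_r (n % i) (n / i) r hP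
      have hdet : LinearMap.det (Lib.Helper98.Elus.yB P (n % i) (n / i)) = 1 := by
        apply Lib.Helper98.Elus.eq_one_of_pow_eq_one_of_coprime r hr.ne_zero hcop
        rw [← map_pow, hyr, map_one]
      obtain ⟨x, hx1, hx2, e, hx3⟩ := Lib.Helper98.Elus.transport' n hV _ hdet r 1
        (by rw [hyr, one_smul]) hns
      obtain ⟨U, W, hUW, hUd, hWd, hU, hW⟩ := hL x ⟨1, hx1⟩ hx2
      have hU' := hx3 U hU
      have hW' := hx3 W hW
      obtain ⟨⟨b, hb⟩, hae⟩ := hdims _ hU'
      obtain ⟨⟨b', hb'⟩, hae'⟩ := hdims _ hW'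
      rw [LinearEquiv.finrank_map_eq, hUd, ← hi] at hb
      rw [LinearEquiv.finrank_map_eq, hWd, ← hi] at hb'
      have hmono : Module.finrank F ↥((U.map (e : (Fin n → F) →ₗ[F] _)).map
          (Lib.Helper98.Elus.gsum r (Lib.Helper98.Elus.yB P (n % i) (n / i)))) ≤
          Module.finrank F ↥((W.map (e : (Fin n → F) →ₗ[F] _)).map
          (Lib.Helper98.Elus.gsum r (Lib.Helper98.Elus.yB P (n % i) (n / i)))) :=
        Submodule.finrank_mono (Submodule.map_mono (Submodule.map_mono hUW))
      set a := Module.finrank F ↥((U.map (e : (Fin n → F) →ₗ[F] _)).map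
          (Lib.Helper98.Elus.gsum r (Lib.Helper98.Elus.yB P (n % i) (n / i)))) with ha
      set a' := Module.finrank F ↥((W.map (e : (Fin n → F) →ₗ[F] _)).map
          (Lib.Helper98.Elus.gsum r (Lib.Helper98.Elus.yB P (n % i) (n / i)))) with ha'
      have hmodlt : n % i < i := Nat.mod_lt n (by omega)
      rcases Nat.lt_or_ge m i with h | h
      · have hb0 : b = 0 := by
          by_contra hb0
          have : i ≤ i * b := Nat.le_mul_of_pos_right i (Nat.pos_of_ne_zero hb0)
          omega
        subst hb0
        rcases hcases with ⟨j, hjm, k', hk'⟩ | ⟨j, hjm, k', hk'⟩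
        · have hnj : n = j + i * k' := by omega
          have hmod : n % i = j := by
            rw [hnj, Nat.add_mul_mod_self_left, Nat.mod_eq_of_lt (by omega)]
          omega
        · have hnj : n - m = j + i * k' := by omega
          have hmod : (n - m) % i = j := by
            rw [hnj, Nat.add_mul_mod_self_left, Nat.mod_eq_of_lt (by omega)]
          have hmod' : (n - m) % i = a' := by
            rw [hb', Nat.add_mul_mod_self_left, Nat.mod_eq_of_lt (by omega)]
          omega
      · apply hnB
        refine ⟨h, ?_⟩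
        have hml : m % i = a := by
          rw [hb, Nat.add_mul_mod_self_left, Nat.mod_eq_of_lt (by omega)]
        have hn' : n = (a + a') + i * (b + b') := by
          have : i * (b + b') = i * b + i * b' := Nat.mul_add _ _ _
          omega
        have hk : n % i = (a + a') % i := by
          conv_lhs => rw [hn', Nat.add_mul_mod_self_left]
        rw [hml]
        rcases Nat.lt_or_ge (a + a') i with h2 | h2
        · rw [Nat.mod_eq_of_lt h2] at hk
          omega
        · exfalso
          have h3 : (a + a') % i = a + a' - i := by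
            rw [Nat.mod_eq_sub_mod h2, Nat.mod_eq_of_lt (by omega)]
          omega
  · rintro ⟨-, hR⟩ x ⟨c, hc⟩ -
    set f0 : (Fin n → F) →ₗ[F] (Fin n → F) :=
      Matrix.toLin' (x : Matrix (Fin n) (Fin n) F) with hf0
    have hf : f0 ^ r = c • 1 := by
      rw [hf0, ← Matrix.toLin'_pow, ← Matrix.SpecialLinearGroup.coe_pow, hc, map_smul,
        Matrix.toLin'_one]
      rfl
    have hdet0 : LinearMap.det f0 = 1 := by
      rw [hf0, LinearMap.det_toLin']
      exact x.2
    by_cases hpow : ∃ d : F, d ^ r = c
    · obtain ⟨d, hd⟩ := hpow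
      have hc0 : c ≠ 0 := by
        intro h0
        have h1 := congrArg LinearMap.det hf
        rw [map_pow, hdet0, one_pow, LinearMap.det_smul, map_one, mul_one, hfin, h0,
          zero_pow (by omega)] at h1
        exact one_ne_zero h1
      have hd0 : d ≠ 0 := by
        intro h0
        rw [h0, zero_pow hr.ne_zero] at hd
        exact hc0 hd.symm
      have hy : (d⁻¹ • f0) ^ r = 1 := by
        rw [smul_pow, hf, smul_smul, inv_pow, hd, inv_mul_cancel₀ hc0, one_smul]
      have hmods : m % i ≤ n % i ∧ (n - 2 * m) % i ≤ (n - m) % i := by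
        rcases hR with ⟨h1, _⟩ | ⟨_, _, h3⟩
        · rw [h1, Nat.mod_one, Nat.mod_one, Nat.mod_one, Nat.mod_one]
          exact ⟨le_rfl, le_rfl⟩
        · have hl : m % i ≤ n % i := by omega
          have e1 := Lib.Helper98.Elus.mod_sub_of_le i n m (by omega) hmn' hl
          have e2 := Lib.Helper98.Elus.mod_sub_of_le i (n - m) m (by omega) (by omega)
            (by rw [e1]; omega)
          have e3 : n - 2 * m = n - m - m := by omega
          refine ⟨hl, ?_⟩
          rw [e3, e2, e1]
          omega
      obtain ⟨U, W, hUW, hU, hW, hUd, hWd⟩ := Lib.Helper98.Elus.exists_flag_of_pow_eq_one p f hF r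
        (Ne.symm hrp) hrF (d⁻¹ • f0) hy n m hfin (by omega) hmods.1 hmods.2
      have hconv : ∀ S : Submodule F (Fin n → F), Lib.Helper98.Elus.Inv (d⁻¹ • f0) S →
          S.map f0 ≤ S := by
        intro S hS
        rintro _ ⟨w, hw, rfl⟩
        have h1 := S.smul_mem d (hS w hw)
        rw [LinearMap.smul_apply, smul_smul, mul_inv_cancel₀ hd0, one_smul] at h1
        exact h1
      exact ⟨U, W, hUW, hUd, hWd, hconv U hU, hconv W hW⟩
    · push Not at hpow
      have hr1 : r ∣ Fintype.card F - 1 := by
        by_contra h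
        have hcop : Nat.Coprime (Fintype.card F - 1) r :=
          ((Nat.Prime.coprime_iff_not_dvd hr).mpr h).symm
        have hc0 : c ≠ 0 := by
          intro h0
          exact hpow 0 (by rw [h0, zero_pow hr.ne_zero])
        obtain ⟨d, hd⟩ := Lib.Helper98.Elus.exists_pow_eq_of_coprime r hcop c hc0
        exact hpow d hd
      have hi_one : i = 1 := hone.mpr hr1
      have hrn : r ∣ n := by
        have := Lib.Helper98.Elus.dvd_finrank_of_not_pow r c hpow f0 hf ⊤
          (fun _ _ => Submodule.mem_top)
        rwa [finrank_top, hfin] at this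
      rcases hR with ⟨_, h⟩ | ⟨h2, _, _⟩
      · rcases h with hrm | hok
        · obtain ⟨U, W, hUW, hU, hW, hUd, hWd⟩ := Lib.Helper98.Elus.exists_flag_of_not_pow r c hpow
            f0 hf n m hfin (by omega) hrm hrn
          have hconv : ∀ S : Submodule F (Fin n → F), Lib.Helper98.Elus.Inv f0 S →
              S.map f0 ≤ S := by
            intro S hS
            rintro _ ⟨w, hw, rfl⟩
            exact hS w hw
          exact ⟨U, W, hUW, hUd, hWd, hconv U hU, hconv W hW⟩
        · exfalso
          have h1 := Lib.Helper98.Elus.det_formula r c hpow f0 hf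
          rw [hdet0, hfin] at h1
          exact Lib.Helper98.Elus.no_c r hr1 n (by omega) hok c hpow hrn h1.symm
      · omega

end Cfsg.Agent.S5951
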