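import Cfsg.Statements.S5952

set_option autoImplicit false
open Cfsg

namespace Cfsg.Agent.S5952

open Module Submodule

section aux

variable {F V : Type*} [Field F] [AddCommGroup V] [Module F V] [FiniteDimensional F V]

lemma exists_le_finrank_eq (E : Submodule F V) {m : ℕ} (hm : m ≤ finrank F E) :
    ∃ W : Submodule F V, W ≤ E ∧ finrank F W = m := by
  obtain ⟨g, hg⟩ := exists_linearIndependent_of_le_finrank hm
  refine ⟨(span F (Set.range g)).map E.subtype, Submodule.map_subtype_le E _, ?_⟩
  rw [Submodule.finrank_map_subtype_eq, finrank_span_eq_card hg, Fintype.card_fin]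

lemma map_sup_le_of_le (f : V →ₗ[F] V) {A B : Submodule F V} (hA : A.map f ≤ A) (hB : B.map f ≤ B) :
    (A ⊔ B).map f ≤ A ⊔ B := by
  rw [Submodule.map_sup]
  exact sup_le_sup hA hB

lemma map_inf_le_of_le (f : V →ₗ[F] V) {A B : Submodule F V} (hA : A.map f ≤ A) (hB : B.map f ≤ B) :
    (A ⊓ B).map f ≤ A ⊓ B :=
  le_inf ((Submodule.map_mono inf_le_left).trans hA) ((Submodule.map_mono inf_le_right).trans hB)

lemma step (f : V →ₗ[F] V) {a : ℕ} (U Y X : Submodule F V)
    (hUinv : U.map f ≤ U) (hUdim : finrank F U = a)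
    (hUirr : ∀ W : Submodule F V, W ≤ U → W.map f ≤ W → W = ⊥ ∨ W = U)
    (hYinv : Y.map f ≤ Y) (hdisj : Disjoint U Y)
    (hY : ∀ Z : Submodule F V, Z ≤ Y → Z.map f ≤ Z → a ∣ finrank F Z)
    (hXinv : X.map f ≤ X) (hX : X ≤ U ⊔ Y) : a ∣ finrank F X := by
  set P := U ⊓ (X ⊔ Y) with hP
  have hPinv : P.map f ≤ P := map_inf_le_of_le f hUinv (map_sup_le_of_le f hXinv hYinv)
  have hPdvd : a ∣ finrank F P := by
    rcases hUirr P inf_le_left hPinv with h | h
    · rw [h, finrank_bot]; exact dvd_zero a
    · rw [h, hUdim]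
  have hXY : X ⊔ Y = Y ⊔ P := by
    have h1 : (Y ⊔ U) ⊓ (X ⊔ Y) = Y ⊔ U ⊓ (X ⊔ Y) := sup_inf_assoc_of_le U le_sup_right
    have h2 : (Y ⊔ U) ⊓ (X ⊔ Y) = X ⊔ Y := by
      apply inf_eq_right.mpr
      exact sup_le (hX.trans (by rw [sup_comm])) le_sup_left
    rw [← h2, h1]
  have hYP : Y ⊓ P = ⊥ := by
    have : Y ⊓ P ≤ U ⊓ Y := le_inf (inf_le_right.trans inf_le_left) inf_le_left
    exact le_bot_iff.mp (this.trans hdisj.le_bot)
  have e1 := Submodule.finrank_sup_add_finrank_inf_eq X Y
  have e2 := Submodule.finrank_sup_add_finrank_inf_eq Y P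
  rw [hYP, finrank_bot, add_zero, ← hXY] at e2
  have hXYdvd : a ∣ finrank F ↥(X ⊓ Y) := hY _ inf_le_right (map_inf_le_of_le f hXinv hYinv)
  have : finrank F X = finrank F P + finrank F ↥(X ⊓ Y) := by omega
  rw [this]
  exact dvd_add hPdvd hXYdvd

lemma dvd_of_le_biSup {ι : Type*} [DecidableEq ι] (f : V →ₗ[F] V) {a : ℕ} (U : ι → Submodule F V)
    (hind : iSupIndep U)
    (hUinv : ∀ j, (U j).map f ≤ U j) (hUdim : ∀ j, finrank F (U j) = a)
    (hUirr : ∀ j, ∀ W : Submodule F V, W ≤ U j → W.map f ≤ W → W = ⊥ ∨ W = U j)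
    (S : Finset ι) : ∀ X : Submodule F V, X ≤ ⨆ j ∈ S, U j → X.map f ≤ X → a ∣ finrank F X := by
  induction S using Finset.induction_on with
  | empty =>
    intro X hX _
    simp only [Finset.notMem_empty, iSup_false, iSup_bot, le_bot_iff] at hX
    rw [hX, finrank_bot]; exact dvd_zero a
  | insert j S hj ih =>
    intro X hX hXinv
    rw [Finset.iSup_insert] at hX
    have hYinv : (⨆ i ∈ S, U i).map f ≤ ⨆ i ∈ S, U i := by
      simp only [Submodule.map_iSup]
      exact iSup₂_mono fun i _ => hUinv i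
    have hdisj : Disjoint (U j) (⨆ i ∈ S, U i) := hind.disjoint_biSup (y := (S : Set ι)) (by simpa using hj)
    exact step f (U j) (⨆ i ∈ S, U i) X (hUinv j) (hUdim j) (hUirr j) hYinv hdisj ih hXinv hX

lemma finrank_biSup {ι : Type*} [DecidableEq ι] {a : ℕ} (U : ι → Submodule F V)
    (hind : iSupIndep U) (hUdim : ∀ j, finrank F (U j) = a)
    (S : Finset ι) : finrank F ↥(⨆ j ∈ S, U j) = S.card * a := by
  induction S using Finset.induction_on with
  | empty => simp
  | insert j S hj ih =>
    rw [Finset.iSup_insert, Finset.card_insert_of_notMem hj]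
    have hdisj : Disjoint (U j) (⨆ i ∈ S, U i) := hind.disjoint_biSup (y := (S : Set ι)) (by simpa using hj)
    have e := Submodule.finrank_sup_add_finrank_inf_eq (U j) (⨆ i ∈ S, U i)
    rw [hdisj.eq_bot, finrank_bot, add_zero, hUdim, ih] at e
    rw [e]; ring

end aux

/-- Which dimensions of invariant subspaces a semisimple linear map has. Let `V` be a finite-dimensional vector space over a field `F` and `f` an invertible semisimple linear map of `V`. Suppose `V` is the internal direct sum of the fixed space `C_V(f)` (the eigenspace for 1) and subspaces `U_1, …, U_s`, each `f`-invariant of dimension `a ≥ 1` on which `f` acts irreducibly (no `f`-invariant subspaces other than 0 and `U_j`). Let `0 < m < dim V` and `ℓ = m mod a`. Then `f` leaves some `m`-dimensional subspace invariant if and only if `dim C_V(f) ≥ m`, or `a ≤ m` and `dim C_V(f) ≥ ℓ`. -/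
theorem result {F V : Type*} [Field F] [AddCommGroup V] [Module F V]
    [FiniteDimensional F V] (f : V →ₗ[F] V) (hf : Function.Bijective f) (hss : Module.End.IsSemisimple f)
    {s a : ℕ} (ha : 1 ≤ a) (U : Fin s → Submodule F V)
    (hUinv : ∀ j, (U j).map f ≤ U j) (hUdim : ∀ j, Module.finrank F ↥(U j) = a)
    (hUirr : ∀ j, ∀ W : Submodule F V, W ≤ U j → W.map f ≤ W → W = ⊥ ∨ W = U j)
    (hdec : DirectSum.IsInternal (fun o : Option (Fin s) => o.elim (Module.End.eigenspace f 1) U))
    (m : ℕ) (hm : 0 < m) (hmV : m < Module.finrank F V) :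
    (∃ W : Submodule F V, Module.finrank F ↥W = m ∧ W.map f ≤ W) ↔
    (m ≤ Module.finrank F ↥(Module.End.eigenspace f 1) ∨
      (a ≤ m ∧ m % a ≤ Module.finrank F ↥(Module.End.eigenspace f 1))) := by
  classical
  set E := Module.End.eigenspace f 1 with hE
  set A : Option (Fin s) → Submodule F V := fun o => o.elim E U with hA
  have hindA : iSupIndep A := hdec.submodule_iSupIndep
  have htopA : iSup A = ⊤ := hdec.submodule_iSup_eq_top
  have hindU : iSupIndep U := hindA.comp (Option.some_injective _)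
  have htop : E ⊔ ⨆ j ∈ (Finset.univ : Finset (Fin s)), U j = ⊤ := by
    rw [← htopA, iSup_option]
    simp [hA]
  have hdisjE : Disjoint E (⨆ j ∈ (Finset.univ : Finset (Fin s)), U j) := by
    have h := hindA.disjoint_biSup (x := none) (y := Set.range some) (by simp)
    rw [iSup_range] at h
    simpa [hA] using h
  have hVdim : finrank F V = finrank F E + s * a := by
    have e := Submodule.finrank_sup_add_finrank_inf_eq E (⨆ j ∈ (Finset.univ : Finset (Fin s)), U j)
    rw [hdisjE.eq_bot, finrank_bot, add_zero, htop, finrank_top, finrank_biSup U hindU hUdim] at e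
    simpa using e
  have hEfix : ∀ w ∈ E, f w = w := fun w hw => by
    have := Module.End.mem_eigenspace_iff.mp hw
    simpa using this
  constructor
  · rintro ⟨W, hWdim, hWinv⟩
    set g : V →ₗ[F] V := f - LinearMap.id with hg
    have hgE : ∀ w ∈ E, g w = 0 := fun w hw => by simp [hg, hEfix w hw]
    have hgU : ∀ j, (U j).map g ≤ U j := by
      intro j v hv
      obtain ⟨u, hu, rfl⟩ := Submodule.mem_map.mp hv
      have : f u ∈ U j := hUinv j (Submodule.mem_map_of_mem hu)
      simpa [hg] using (U j).sub_mem this hu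
    have hgsup : (⨆ j ∈ (Finset.univ : Finset (Fin s)), U j).map g ≤
        ⨆ j ∈ (Finset.univ : Finset (Fin s)), U j := by
      simp only [Submodule.map_iSup]
      exact iSup₂_mono fun i _ => hgU i
    have hW2le : W.map g ≤ ⨆ j ∈ (Finset.univ : Finset (Fin s)), U j := by
      intro v hv
      obtain ⟨w, _, rfl⟩ := Submodule.mem_map.mp hv
      have hw : w ∈ E ⊔ ⨆ j ∈ (Finset.univ : Finset (Fin s)), U j := by rw [htop]; trivial
      obtain ⟨e, he, u, hu, rfl⟩ := Submodule.mem_sup.mp hw
      rw [map_add, hgE e he, zero_add]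
      exact hgsup (Submodule.mem_map_of_mem hu)
    have hW2inv : (W.map g).map f ≤ W.map g := by
      intro v hv
      obtain ⟨v', hv', rfl⟩ := Submodule.mem_map.mp hv
      obtain ⟨w, hw, rfl⟩ := Submodule.mem_map.mp hv'
      refine Submodule.mem_map.mpr ⟨f w, hWinv (Submodule.mem_map_of_mem hw), ?_⟩
      simp [hg]
    have hdvd : a ∣ finrank F ↥(W.map g) :=
      dvd_of_le_biSup f U hindU hUinv hUdim hUirr Finset.univ _ hW2le hW2inv
    have hrn := LinearMap.finrank_range_add_finrank_ker (g.domRestrict W)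
    rw [LinearMap.range_domRestrict] at hrn
    have hker : finrank F ↥(LinearMap.ker (g.domRestrict W)) ≤ finrank F E := by
      rw [← Submodule.finrank_map_subtype_eq W (LinearMap.ker (g.domRestrict W))]
      apply Submodule.finrank_mono
      intro v hv
      obtain ⟨w, hw, rfl⟩ := Submodule.mem_map.mp hv
      have hw' : g (w : V) = 0 := by simpa using hw
      apply Module.End.mem_eigenspace_iff.mpr
      have : f (w : V) - (w : V) = 0 := by simpa [hg] using hw'
      simpa using sub_eq_zero.mp this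
    obtain ⟨u, hu⟩ := hdvd
    set t := finrank F ↥(LinearMap.ker (g.domRestrict W)) with ht
    have hmeq : m = a * u + t := by omega
    rcases Nat.eq_zero_or_pos u with h0 | hpos
    · left; subst h0; omega
    · right
      refine ⟨?_, ?_⟩
      · have : a * 1 ≤ a * u := Nat.mul_le_mul_left a hpos
        omega
      · rw [hmeq, Nat.mul_add_mod]
        exact (Nat.mod_le t a).trans hker
  · intro h
    have key : ∃ k' : ℕ, k' ≤ s ∧ k' * a ≤ m ∧ m - k' * a ≤ finrank F E := by
      rcases h with h | ⟨h1, h2⟩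
      · exact ⟨0, Nat.zero_le _, by simp, by simpa using h⟩
      · by_cases hk : m / a ≤ s
        · refine ⟨m / a, hk, Nat.div_mul_le_self m a, ?_⟩
          have := Nat.div_add_mod m a
          have h3 : m - m / a * a = m % a := by
            rw [mul_comm]; omega
          rw [h3]; exact h2
        · refine ⟨s, le_rfl, ?_, ?_⟩
          · rw [not_le] at hk
            calc s * a ≤ m / a * a := Nat.mul_le_mul_right a hk.le
              _ ≤ m := Nat.div_mul_le_self m a
          · omega
    obtain ⟨k', hk's, hk'm, hk'e⟩ := key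
    obtain ⟨T, _, hT⟩ := Finset.exists_subset_card_eq (s := (Finset.univ : Finset (Fin s))) (n := k')
      (by simpa using hk's)
    obtain ⟨W₀, hW₀E, hW₀dim⟩ := exists_le_finrank_eq E hk'e
    set W₁ := ⨆ j ∈ T, U j with hW₁
    have hW₁dim : finrank F W₁ = k' * a := by rw [hW₁, finrank_biSup U hindU hUdim, hT]
    have hW₁le : W₁ ≤ ⨆ j ∈ (Finset.univ : Finset (Fin s)), U j :=
      iSup₂_le fun j _ => le_iSup₂_of_le j (Finset.mem_univ j) le_rfl
    have hdisj : Disjoint W₀ W₁ := hdisjE.mono hW₀E hW₁le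
    refine ⟨W₀ ⊔ W₁, ?_, ?_⟩
    · have e := Submodule.finrank_sup_add_finrank_inf_eq W₀ W₁
      rw [hdisj.eq_bot, finrank_bot, add_zero, hW₀dim, hW₁dim] at e
      omega
    · apply map_sup_le_of_le
      · intro v hv
        obtain ⟨w, hw, rfl⟩ := Submodule.mem_map.mp hv
        rw [hEfix w (hW₀E hw)]; exact hw
      · simp only [hW₁, Submodule.map_iSup]
        exact iSup₂_mono fun i _ => hUinv i

end Cfsg.Agent.S5952
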