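import Cfsg.Statements.S5953
import Cfsg.Agent.Lib.Helper46.UTiHub2
import Cfsg.Agent.Lib.Helper46.UTiE1
import Cfsg.Agent.Lib.Helper46.UTiN2a
import Cfsg.Agent.Lib.Helper21.UTiA3
import Cfsg.Agent.Lib.Helper51.UTiN1
import Cfsg.Agent.Lib.Helper59.UTiN3
import Cfsg.Agent.Lib.Helper09.UTiN2b

set_option autoImplicit false
open scoped MatrixGroups
open Cfsg

namespace Cfsg.Agent.S5953

/-- Elements of prime order of PSU_n(q) with no fixed totally isotropic `m`-space. Here `T = PSU_n(q)` (`n ≥ 3`, `(n, q) ≠ (3, 2)`), realised through the matrices of determinant 1 over the field `F` with `q²` elements preserving the Hermitian form `h(u, v) = Σ u_i v_i^q`; an element of `T` of prime order `r` is such a matrix `x` with `x^r` scalar and `x` not scalar. For `r ≠ p` let `i` be the multiplicative order of `q` modulo `r`, `b = i/2` for `i` even and `b = i` for `i` odd, `c = i, i/2, 2i` according as `i ≡ 0, 2 (mod 4)` or `i` odd, and write `k = n mod c`, `ℓ = m mod b`, `ℓ' = m mod c`, `n' = ⌊n/b⌋`, `m' = ⌊m/b⌋`,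 `s = (r−1)/b`; `(a)_r` is the `r`-part of `a`. Let `1 ≤ m ≤ n/2` and let `r` be a prime dividing the number of totally isotropic `m`-spaces. Then every element of `T` of order `r` fixes a totally isotropic `m`-space if and only if either (i) `r = 2`, `p ≠ 2`, and (`m < n/2` or `(q+1)_2 ≤ (n)_2`); or (ii) `r ≠ p`, `r > 2`, `b ≤ m`, `k ≥ 2ℓ`, and either `i ≢ 2 (mod 4)`, or `i ≡ 2 (mod 4)`, `n' − 2m' ≥ s` and (`i > 2`, or `i = 2` and (`r ∣ m` or `(q+1)_r ≥ (n)_r`)). -/
theorem result {F : Type*} [Field F] [Fintype F] {p : ℕ} [Fact p.Prime] [CharP F p] {q : ℕ} (hq : Fintype.card F = q ^ 2)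
    (n m : ℕ) (hn : 3 ≤ n) (hT : (n, q) ≠ (3, 2)) (hm : 1 ≤ m) (hmn : 2 * m ≤ n)
    (r : ℕ) [Fact r.Prime]
    (hrΩ : r ∣ Nat.card {W : Submodule F (Fin n → F) // Module.finrank F ↥W = m ∧ (∀ u ∈ W, ∀ v ∈ W, Cfsg.hermForm n F q u v = 0)})
    (i b c : ℕ) (hi : i = orderOf (q : ZMod r)) (hb : b = if Even i then i / 2 else i)
    (hc : c = if i % 4 = 0 then i else if i % 4 = 2 then i / 2 else 2 * i) :
    (∀ x : Matrix.SpecialLinearGroup (Fin n) F, x ∈ Cfsg.SU n F q →
      (∃ z : F, ((x ^ r : Matrix.SpecialLinearGroup (Fin n) F) : Matrix (Fin n) (Fin n) F) = z • (1 : Matrix (Fin n) (Fin n) F)) →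
      (∀ z : F, (x : Matrix (Fin n) (Fin n) F) ≠ z • (1 : Matrix (Fin n) (Fin n) F)) →
      ∃ W : Submodule F (Fin n → F), Module.finrank F ↥W = m ∧ (∀ u ∈ W, ∀ v ∈ W, Cfsg.hermForm n F q u v = 0) ∧
        W.map (Matrix.toLin' (x : Matrix (Fin n) (Fin n) F)) ≤ W) ↔
    ((r = 2 ∧ p ≠ 2 ∧ (2 * m < n ∨ padicValNat 2 (q + 1) ≤ padicValNat 2 n)) ∨
     (r ≠ p ∧ 2 < r ∧ b ≤ m ∧ 2 * (m % b) ≤ n % c ∧
       (i % 4 ≠ 2 ∨ (i % 4 = 2 ∧ (r - 1) / b + 2 * (m / b) ≤ n / b ∧
         (2 < i ∨ (i = 2 ∧ (r ∣ m ∨ padicValNat r n ≤ padicValNat r (q + 1)))))))) := by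
  classical
  have hr : r.Prime := Fact.out
  have hp : p.Prime := Fact.out
  have hH := Lib.Helper46.UTi.isHerm_hermForm hq n
  have hV := Lib.Helper46.UTi.nonDeg_hermForm hq n
  have hfin : Module.finrank F (Fin n → F) = n := by simp
  have hrΩ' : r ∣ Nat.card (Lib.Helper46.UTi.TISub F n m q) := hrΩ
  show Lib.Helper46.UTi.AllFix F n m q r ↔ _
  -- the characteristic does not divide the number of totally isotropic subspaces
  have hrp : r ≠ p := by
    rintro rfl
    exact Lib.Helper46.UTiH.not_char_dvd_card_ti hq n m hm hmn hrΩ'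
  by_cases hr2 : r = 2
  · -- involutions
    subst hr2
    have hp2 : p ≠ 2 := fun h => hrp h.symm
    constructor
    · intro hL
      left
      refine ⟨rfl, hp2, ?_⟩
      by_contra hcon
      push Not at hcon
      obtain ⟨h1, h2⟩ := hcon
      exact Lib.Helper46.UTiH.not_allFix_two hq hp2 n m hn (by omega) h2 hL
    · rintro (⟨-, -, hcond⟩ | ⟨-, h22, -⟩)
      swap
      · omega
      intro x hx ⟨z, hz⟩ _
      exact Lib.Helper46.UTiH.fixesTI_two hq hp2 n m hn hm hmn hcond x hx z hz
  · -- odd primes different from the characteristic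
    have hr3 : 2 < r := by
      have := hr.two_le
      omega
    have hrq : ¬ r ∣ q := by
      intro hdvd
      obtain ⟨f, _, hF⟩ := FiniteField.card F p
      have h1 : r ∣ p ^ (f : ℕ) := by
        rw [← hF, hq]
        exact dvd_pow hdvd (by norm_num)
      exact hrp ((Nat.prime_dvd_prime_iff_eq hr hp).mp (hr.dvd_of_dvd_pow h1))
    obtain ⟨hb1, -, hcb, hc2b, hi2iff⟩ := Lib.Helper46.UTiH.c_eq r hr2 q hrq i b c hi hb hc
    constructor
    · intro hL
      right
      obtain ⟨j, hj, hdvd⟩ := Lib.Helper46.UTiH.exists_of_dvd_card_ti hq n m hm hmn r hrp hrΩ'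
      have hcd : c ∣ n - j :=
        (Lib.Helper46.UTiH.dvd_iff_c_dvd r hr2 q hrq i c hi hc (n - j)).mp hdvd
      have hcn : c ≤ n := (Nat.le_of_dvd (by omega) hcd).trans (Nat.sub_le _ _)
      have hklt : n % c < 2 * m := by
        obtain ⟨e, he⟩ := hcd
        have h1 : n = j + c * e := by omega
        rw [h1, Nat.add_mul_mod_self_left]
        exact lt_of_le_of_lt (Nat.mod_le _ _) hj
      have hkey1 := Lib.Helper51.UTi.bound_block hq n m hn hm hmn r hrp hr2 i b c hi hb hc hcn hL
      have hbm : b ≤ m := by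
        by_contra hlt
        have : m % b = m := Nat.mod_eq_of_lt (by omega)
        omega
      refine ⟨hrp, hr3, hbm, hkey1, ?_⟩
      by_cases hi4 : i % 4 = 2
      · right
        refine ⟨hi4, ?_, ?_⟩
        · by_cases hi2 : i = 2
          · have hrq1 := hi2iff.mp hi2
            have hb1' : b = 1 := by
              rw [hb, hi2]
              simp
            have h1 := Lib.Helper46.UTi.bound_multfree_two hq n m hn hm hmn r hrp hr2 hrq1 hL
            rw [hb1', Nat.div_one, Nat.div_one, Nat.div_one]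
            exact h1
          · exact Lib.Helper09.UTi.bound_multfree_odd hq n m hn hm hmn r hrp hr2 i b hi hb hi4
              (by omega) hbm hL
        · by_cases hi2 : i = 2
          · right
            exact ⟨hi2, Lib.Helper59.UTi.bound_irred hq n m hn hm hmn r hrp hr2
              (hi2iff.mp hi2) hL⟩
          · left
            omega
      · left
        exact hi4
    · rintro (⟨h2, -, -⟩ | ⟨-, -, hbm, hk, hcase⟩)
      · exact absurd h2 hr2
      intro x hx ⟨z, hz⟩ _
      set A : Matrix (Fin n) (Fin n) F := (x : Matrix (Fin n) (Fin n) F) with hA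
      set f0 : (Fin n → F) →ₗ[F] (Fin n → F) := Matrix.toLin' A with hf0
      have hiso0 : Lib.Helper46.UTi.Iso (Cfsg.hermForm n F q) f0 :=
        Lib.Helper46.UTi.iso_toLin' n A hx
      have hf : f0 ^ r = z • 1 := by
        rw [hf0, ← Matrix.toLin'_pow, hA, ← Matrix.SpecialLinearGroup.coe_pow, hz, map_smul,
          Matrix.toLin'_one]
        rfl
      -- `z` has norm one
      have hzn : z ^ (q + 1) = 1 := by
        have h1 := Lib.Helper46.UTi.iso_pow f0 hiso0 r (Pi.single ⟨0, by omega⟩ 1)
          (Pi.single ⟨0, by omega⟩ 1)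
        rw [hf] at h1
        simp only [LinearMap.smul_apply, Module.End.one_apply] at h1
        rw [hH.smul_left, hH.smul_right] at h1
        have h2 : Cfsg.hermForm n F q (Pi.single ⟨0, by omega⟩ 1) (Pi.single ⟨0, by omega⟩ 1) = 1 := by
          unfold Cfsg.hermForm
          rw [Finset.sum_eq_single (⟨0, by omega⟩ : Fin n)]
          · simp
          · intro k _ hk
            rw [Pi.single_eq_of_ne hk, zero_mul]
          · intro hk
            exact absurd (Finset.mem_univ _) hk
        rw [pow_succ, mul_comm]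
        simpa [h2] using h1
      have hz0 : z ≠ 0 := by
        intro h0
        rw [h0, zero_pow (by omega)] at hzn
        exact zero_ne_one hzn
      have hmapinv : ∀ (W : Submodule F (Fin n → F)), Lib.Helper98.Elus.Inv f0 W → W.map f0 ≤ W := by
        intro W h
        rintro _ ⟨v, hv, rfl⟩
        exact h v hv
      by_cases hl : ∃ l : F, l ^ r = z
      · obtain ⟨w, hw1, hwr⟩ := Lib.Helper46.UTiH.exists_normOne_root hq r hr2 z hzn hl
        have hw0 : w ≠ 0 := by
          intro h0
          rw [h0, zero_pow (by omega)] at hw1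
          exact zero_ne_one hw1
        set y : (Fin n → F) →ₗ[F] (Fin n → F) := w⁻¹ • f0 with hy0
        have hy : y ^ r = 1 := by
          rw [hy0, smul_pow, hf, smul_smul, inv_pow, hwr, inv_mul_cancel₀ hz0, one_smul]
        have hisoy : Lib.Helper46.UTi.Iso (Cfsg.hermForm n F q) y := by
          intro u v
          rw [hy0]
          simp only [LinearMap.smul_apply]
          rw [hH.smul_left, hH.smul_right, hiso0 u v, ← mul_assoc, ← pow_succ', inv_pow, hw1,
            inv_one, one_mul]
        have hcase' : i % 4 ≠ 2 ∨ (r - 1) / b + 2 * (m / b) ≤ n / b := by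
          rcases hcase with h | ⟨_, h, _⟩
          · exact Or.inl h
          · exact Or.inr h
        obtain ⟨W, hWinv, hWti, hWd⟩ := Lib.Helper46.UTi.exists_fixed_ti hq hH hV p r hrp hr2
          y hy hisoy n m hfin hmn i b c hi hb hc hk hcase'
        refine ⟨W, hWd, hWti, hmapinv W ?_⟩
        intro v hv
        have h1 : f0 v = w • y v := by
          rw [hy0, LinearMap.smul_apply, smul_smul, mul_inv_cancel₀ hw0, one_smul]
        rw [h1]
        exact Submodule.smul_mem _ _ (hWinv v hv)
      · push Not at hl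
        have hrq1 : r ∣ q + 1 := by
          by_contra hno
          obtain ⟨w, -, hwr⟩ := Lib.Helper46.UTiH.exists_normOne_root' hq r z hzn hno
          exact hl w hwr
        have hi2 : i = 2 := hi2iff.mpr hrq1
        have hvlt := Lib.Helper21.UTi.padicVal_lt_of_not_pow hq n (by omega) r hr2 hrq1 x z hz hl
        have hrm : r ∣ m := by
          rcases hcase with h | ⟨_, _, h | ⟨_, h | h⟩⟩
          · omega
          · omega
          · exact h
          · omega
        obtain ⟨W, hWinv, hWti, hWd⟩ := Lib.Helper46.UTiH.exists_fixed_ti_irred hq hH hV p r hrp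
          f0 z hf hl hiso0 m hrm (by rw [hfin]; exact hmn)
        exact ⟨W, hWd, hWti, hmapinv W hWinv⟩

end Cfsg.Agent.S5953
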