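import Cfsg.Statements.S5954
import Cfsg.Agent.Lib.Helper73.UNdHub
import Cfsg.Agent.Lib.Helper98.Elus13

set_option autoImplicit false
set_option linter.style.haveILetI false
set_option maxHeartbeats 1600000
open scoped MatrixGroups
open Cfsg

namespace Cfsg.Agent.S5954

open Cfsg.Agent.Lib.Helper73.UNd Cfsg.Agent.Lib.Helper99.HermONB Cfsg.Agent.Lib.Helper98.Elus
open Cfsg.Agent.Lib.Helper73

/-- Elements of prime order of PSU_n(q) with no fixed nondegenerate `m`-space. Here `T = PSU_n(q)` (`n ≥ 3`, `(n, q) ≠ (3, 2)`), realised through the matrices of determinant 1 over the field `F` with `q²` elements preserving the Hermitian form `h(u, v) = Σ u_i v_i^q`; an element of `T` of prime order `r` is such a matrix `x` with `x^r` scalar and `x` not scalar. For `r ≠ p` let `i` be the multiplicative order of `q` modulo `r`, `b = i/2` for `i` even and `b = i` for `i` odd, `c = i, i/2, 2i` according as `i ≡ 0, 2 (mod 4)` or `i` odd, and write `k = n mod c`, `ℓ = m mod b`, `ℓ' = m mod c`, `n' = ⌊n/b⌋`, `m' = ⌊m/b⌋`, `s = (r−1)/b`; `(a)_r` is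 the `r`-part of `a`. Let `1 ≤ m < n/2` and let `r` be a prime dividing the number of nondegenerate `m`-spaces. Then every element of `T` of order `r` fixes a nondegenerate `m`-space if and only if one of: (i) `r = p > 2` and every partition of `n` into parts of size at most `p` contains (as a sub-multiset) a partition of `m`; (ii) `r = p = 2` and (`n` is odd or `m` is even); (iii) `r = 2 ≠ p` and (`n` is odd, or `m` is even, or `(q+1)_2 ≥ (n)_2` and `q ≡ 3 (mod 4)`); (iv) `r ≠ p`, `r > 2`, and either `i ≠ 2`, `c ≤ m` and `k ≥ ℓ'`, or `i = 2` and (`r ∣ m` or `(q+1)_r ≥ (n)_r`). -/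
theorem result {F : Type*} [Field F] [Fintype F] {p : ℕ} [Fact p.Prime] [CharP F p] {q : ℕ} (hq : Fintype.card F = q ^ 2)
    (n m : ℕ) (hn : 3 ≤ n) (hT : (n, q) ≠ (3, 2)) (hm : 1 ≤ m) (hmn : 2 * m < n)
    (r : ℕ) [Fact r.Prime]
    (hrΩ : r ∣ Nat.card {W : Submodule F (Fin n → F) // Module.finrank F ↥W = m ∧ (∀ u ∈ W, u ≠ 0 → ∃ v ∈ W, Cfsg.hermForm n F q u v ≠ 0)})
    (i b c : ℕ) (hi : i = orderOf (q : ZMod r)) (hb : b = if Even i then i / 2 else i)
    (hc : c = if i % 4 = 0 then i else if i % 4 = 2 then i / 2 else 2 * i) :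
    (∀ x : Matrix.SpecialLinearGroup (Fin n) F, x ∈ Cfsg.SU n F q →
      (∃ z : F, ((x ^ r : Matrix.SpecialLinearGroup (Fin n) F) : Matrix (Fin n) (Fin n) F) = z • (1 : Matrix (Fin n) (Fin n) F)) →
      (∀ z : F, (x : Matrix (Fin n) (Fin n) F) ≠ z • (1 : Matrix (Fin n) (Fin n) F)) →
      ∃ W : Submodule F (Fin n → F), Module.finrank F ↥W = m ∧ (∀ u ∈ W, u ≠ 0 → ∃ v ∈ W, Cfsg.hermForm n F q u v ≠ 0) ∧
        W.map (Matrix.toLin' (x : Matrix (Fin n) (Fin n) F)) ≤ W) ↔
    ((r = p ∧ 2 < p ∧ (∀ μ : Multiset ℕ, (∀ a ∈ μ, 0 < a ∧ a ≤ p) → μ.sum = n → ∃ ν : Multiset ℕ, ν ≤ μ ∧ ν.sum = m)) ∨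
     (r = p ∧ p = 2 ∧ (Odd n ∨ Even m)) ∨
     (r = 2 ∧ p ≠ 2 ∧ (Odd n ∨ Even m ∨ (padicValNat 2 n ≤ padicValNat 2 (q + 1) ∧ q % 4 = 3))) ∨
     (r ≠ p ∧ 2 < r ∧ ((i ≠ 2 ∧ c ≤ m ∧ m % c ≤ n % c) ∨ (i = 2 ∧ (r ∣ m ∨ padicValNat r n ≤ padicValNat r (q + 1)))))) := by
  classical
  have hr : r.Prime := Fact.out
  have hp : p.Prime := Fact.out
  obtain ⟨f, _, hFp⟩ := FiniteField.card F p
  have hcc : c = cU i := by rw [hc]; rfl
  subst hi
  have hhH : HForm q (Cfsg.hermForm n F q) := stdH_hform hq n
  have hfin : Module.finrank F (Fin n → F) = n := by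
    rw [Module.finrank_pi, Fintype.card_fin]
  have hq2 : 2 ≤ q := Cfsg.Agent.Lib.Helper99.herm_q_ge_two hq
  have hpq : p ∣ q := by
    have h1 : p ∣ Fintype.card F := by
      rw [hFp]
      exact dvd_pow_self p f.ne_zero
    rw [hq] at h1
    exact hp.dvd_of_dvd_pow h1
  have hrq_of : r ≠ p → ¬ r ∣ q := by
    intro hne hd
    have h1 : r ∣ p ^ (f : ℕ) := by
      rw [← hFp, hq]
      exact dvd_pow hd (by norm_num)
    exact hne ((Nat.prime_dvd_prime_iff_eq hr hp).mp (hr.dvd_of_dvd_pow h1))
  have hntV : Nontrivial (Fin n → F) := by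
    haveI : Nonempty (Fin n) := ⟨⟨0, by omega⟩⟩
    infer_instance
  have hconvW : ∀ W : Submodule F (Fin n → F),
      (∀ u ∈ W, u ≠ 0 → ∃ v ∈ W, Cfsg.hermForm n F q u v ≠ 0) ↔ ND (Cfsg.hermForm n F q) W := by
    intro W
    constructor
    · intro h u hu hall
      by_contra hu0
      obtain ⟨v, hv, hne⟩ := h u hu hu0
      exact hne (hall v hv)
    · intro h u hu hu0
      by_contra hcon
      push Not at hcon
      exact hu0 (h u hu hcon)
  have hmapinv : ∀ (g : (Fin n → F) →ₗ[F] (Fin n → F)) (W : Submodule F (Fin n → F)),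
      W.map g ≤ W ↔ Inv g W :=
    fun g W => ⟨fun h v hv => h ⟨v, hv, rfl⟩, fun h => by
      rintro _ ⟨v, hv, rfl⟩
      exact h v hv⟩
  have hLconv : (∀ x : Matrix.SpecialLinearGroup (Fin n) F, x ∈ Cfsg.SU n F q →
      (∃ z : F, ((x ^ r : Matrix.SpecialLinearGroup (Fin n) F) : Matrix (Fin n) (Fin n) F) = z • (1 : Matrix (Fin n) (Fin n) F)) →
      (∀ z : F, (x : Matrix (Fin n) (Fin n) F) ≠ z • (1 : Matrix (Fin n) (Fin n) F)) →
      ∃ W : Submodule F (Fin n → F), Module.finrank F ↥W = m ∧ (∀ u ∈ W, u ≠ 0 → ∃ v ∈ W, Cfsg.hermForm n F q u v ≠ 0) ∧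
        W.map (Matrix.toLin' (x : Matrix (Fin n) (Fin n) F)) ≤ W) ↔
      (∀ x : Matrix.SpecialLinearGroup (Fin n) F, x ∈ Cfsg.SU n F q →
      (∃ z : F, ((x ^ r : Matrix.SpecialLinearGroup (Fin n) F) : Matrix (Fin n) (Fin n) F) = z • (1 : Matrix (Fin n) (Fin n) F)) →
      (∀ z : F, (x : Matrix (Fin n) (Fin n) F) ≠ z • (1 : Matrix (Fin n) (Fin n) F)) →
      ∃ W : Submodule F (Fin n → F), Module.finrank F W = m ∧ ND (Cfsg.hermForm n F q) W ∧
        Inv (Matrix.toLin' (x : Matrix (Fin n) (Fin n) F)) W) := by
    constructor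
    · intro h x hxS hx1 hx2
      obtain ⟨W, h1, h2, h3⟩ := h x hxS hx1 hx2
      exact ⟨W, h1, (hconvW W).mp h2, (hmapinv _ W).mp h3⟩
    · intro h x hxS hx1 hx2
      obtain ⟨W, h1, h2, h3⟩ := h x hxS hx1 hx2
      exact ⟨W, h1, (hconvW W).mpr h2, (hmapinv _ W).mpr h3⟩
  rw [hLconv]
  -- data attached to an element of `SU`
  have hdata : ∀ x : Matrix.SpecialLinearGroup (Fin n) F, x ∈ Cfsg.SU n F q → ∀ z : F,
      ((x ^ r : Matrix.SpecialLinearGroup (Fin n) F) : Matrix (Fin n) (Fin n) F) = z • (1 : Matrix (Fin n) (Fin n) F) →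
      Isom (Cfsg.hermForm n F q) (Matrix.toLin' (x : Matrix (Fin n) (Fin n) F)) ∧
      (Matrix.toLin' (x : Matrix (Fin n) (Fin n) F)) ^ r = z • 1 ∧ z ^ (q + 1) = 1 ∧
      LinearMap.det (Matrix.toLin' (x : Matrix (Fin n) (Fin n) F)) = 1 := by
    intro x hxS z hz
    have hiso0 := UNdSpec.isom_of_mem_SU n x hxS
    have hf : (Matrix.toLin' (x : Matrix (Fin n) (Fin n) F)) ^ r = z • 1 := by
      rw [← Matrix.toLin'_pow, ← Matrix.SpecialLinearGroup.coe_pow, hz, map_smul, Matrix.toLin'_one]
      rfl
    refine ⟨hiso0, hf, ?_, ?_⟩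
    · apply UNdSpec.scalar_norm hq hhH z
      rw [← hf]
      exact UNdSpec.isom_pow _ hiso0 r
    · rw [LinearMap.det_toLin']
      exact x.2
  -- rescaling
  have hscale : ∀ (f0 : (Fin n → F) →ₗ[F] (Fin n → F)) (l : F), l ≠ 0 →
      Fixes (Cfsg.hermForm n F q) (l⁻¹ • f0) m →
      ∃ W : Submodule F (Fin n → F), Module.finrank F W = m ∧ ND (Cfsg.hermForm n F q) W ∧
        Inv f0 W := by
    intro f0 l hl ⟨W, hWinv, hWnd, hWd⟩
    exact ⟨W, hWd, hWnd, (UNdSpec.inv_smul_iff f0 l⁻¹ (inv_ne_zero hl) W).mp hWinv⟩
  have hmn' : m ≤ n := by omega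
  by_cases hrp : r = p
  · subst hrp
    have hrpos : 0 < r := hr.pos
    have hcop : Nat.Coprime r (q + 1) := by
      rw [Nat.Prime.coprime_iff_not_dvd hr]
      intro hd
      have h1 : r ∣ 1 := (Nat.dvd_add_right hpq).mp hd
      have := hr.one_lt
      have := Nat.le_of_dvd one_pos h1
      omega
    have hLP : (∀ x : Matrix.SpecialLinearGroup (Fin n) F, x ∈ Cfsg.SU n F q →
        (∃ z : F, ((x ^ r : Matrix.SpecialLinearGroup (Fin n) F) : Matrix (Fin n) (Fin n) F) = z • (1 : Matrix (Fin n) (Fin n) F)) →
        (∀ z : F, (x : Matrix (Fin n) (Fin n) F) ≠ z • (1 : Matrix (Fin n) (Fin n) F)) →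
        ∃ W : Submodule F (Fin n → F), Module.finrank F W = m ∧ ND (Cfsg.hermForm n F q) W ∧
          Inv (Matrix.toLin' (x : Matrix (Fin n) (Fin n) F)) W) ↔
        (∀ μ : Multiset ℕ, (∀ a ∈ μ, 0 < a ∧ a ≤ r) → μ.sum = n →
          ∃ ν : Multiset ℕ, ν ≤ μ ∧ ν.sum = m) := by
      constructor
      · intro hL μ hμ1 hμs
        by_cases hall1 : ∀ a ∈ μ, a = 1
        · exact all_ones μ hall1 m (by rw [hμs]; exact hmn')
        · push Not at hall1
          obtain ⟨a0, ha0μ, ha01⟩ := hall1
          have ha02 : 2 ≤ a0 := by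
            have := (hμ1 a0 ha0μ).1
            omega
          have hcardlt : Multiset.card μ < μ.sum := by
            have h1 : μ = a0 ::ₘ μ.erase a0 := (Multiset.cons_erase ha0μ).symm
            have h2 : Multiset.card (μ.erase a0) • 1 ≤ (μ.erase a0).sum :=
              Multiset.card_nsmul_le_sum (fun a ha => (hμ1 a (Multiset.mem_of_mem_erase ha)).1)
            rw [h1, Multiset.card_cons, Multiset.sum_cons]
            simp only [smul_eq_mul, mul_one] at h2
            omega
          obtain ⟨V', i1, i2, i3, h', u', hh', hiso', hu'p, hker⟩ :=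
            UNdSpec.exists_unip_model (F := F) (p := r) hq μ hμ1
          have hNp' : (u' - 1) ^ r = 0 := Cfsg.Agent.Lib.Helper98.Nd.sub_one_pow_char u' hu'p
          have hdim' : Module.finrank F V' = n := by
            have h1 := hker r
            rw [hNp', LinearMap.ker_zero, finrank_top] at h1
            rw [h1, ← hμs]
            congr 1
            conv_rhs => rw [← Multiset.map_id μ]
            apply Multiset.map_congr rfl
            intro a ha
            simp only [id]
            exact min_eq_left (hμ1 a ha).2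
          have hk1 : Module.finrank F (LinearMap.ker (u' - 1)) = Multiset.card μ := by
            have h1 := hker 1
            rw [pow_one] at h1
            rw [h1]
            have : μ.map (fun a => min a 1) = μ.map (fun _ => 1) := by
              apply Multiset.map_congr rfl
              intro a ha
              exact min_eq_right (hμ1 a ha).1
            rw [this, Multiset.map_const', Multiset.sum_replicate]
            simp
          have hns' : ∀ z : F, u' ≠ z • 1 := by
            intro z hz
            by_cases hz1 : z = 1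
            · have : LinearMap.ker (u' - 1) = ⊤ := by
                rw [LinearMap.ker_eq_top, hz, hz1, one_smul, sub_self]
              rw [this, finrank_top, hdim'] at hk1
              omega
            · have : LinearMap.ker (u' - 1) = ⊥ := by
                rw [LinearMap.ker_eq_bot']
                intro v hv
                rw [hz, LinearMap.sub_apply, LinearMap.smul_apply, Module.End.one_apply] at hv
                have h' : (z - 1) • v = 0 := by rw [sub_smul, one_smul]; exact hv
                rcases smul_eq_zero.mp h' with h | h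
                · exact absurd (sub_eq_zero.mp h) hz1
                · exact h
              rw [this, finrank_bot] at hk1
              have hcpos : 0 < Multiset.card μ := Multiset.card_pos_iff_exists_mem.mpr ⟨a0, ha0μ⟩
              omega
          have hdet' : LinearMap.det u' = 1 := by
            apply eq_one_of_pow_char_eq_one r
            rw [← map_pow, hu'p, map_one]
          obtain ⟨W', hW'inv, hW'nd, hW'd⟩ := UNdSpec.transport_fixed hq n m r (by omega) hL h' hh'
            hdim' u' hiso' hdet' 1 (by rw [hu'p, one_smul]) hns'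
          obtain ⟨ν, hν1, hν2⟩ := UNdSpec.exists_sub_type_u hq hh' r hrpos u' hu'p hNp' hiso' μ
            (fun a ha => (hμ1 a ha).1) hker W' hW'inv hW'nd
          exact ⟨ν, hν1, by rw [hν2, hW'd]⟩
      · intro hpart x hxS ⟨z, hz⟩ _
        obtain ⟨hiso0, hf, hz1, -⟩ := hdata x hxS z hz
        obtain ⟨l, hl, hl1⟩ := UNdSpec.exists_root_of_coprime r hcop z hz1
        have hl0 : l ≠ 0 := by
          rintro rfl
          rw [zero_pow (by omega)] at hl1
          exact zero_ne_one hl1
        apply hscale _ l hl0
        have hu : (l⁻¹ • Matrix.toLin' (x : Matrix (Fin n) (Fin n) F)) ^ r = 1 := by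
          rw [smul_pow, hf, smul_smul, inv_pow, hl, ← hl, inv_mul_cancel₀ (pow_ne_zero r hl0), one_smul]
        have hisou : Isom (Cfsg.hermForm n F q) (l⁻¹ • Matrix.toLin' (x : Matrix (Fin n) (Fin n) F)) :=
          UNdSpec.isom_smul hhH _ hiso0 l⁻¹ (by rw [inv_pow, hl1, inv_one])
        exact UNdSpec.exists_fixed_unip_u hq hhH r hrpos _ hu
          (Cfsg.Agent.Lib.Helper98.Nd.sub_one_pow_char _ hu) hisou n m hfin hpart
    rw [hLP]
    constructor
    · intro hpart
      by_cases hr2 : r = 2
      · right; left
        refine ⟨rfl, hr2, two_parts_conv n m ?_⟩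
        rw [hr2] at hpart
        exact hpart
      · left
        refine ⟨rfl, ?_, hpart⟩
        have := hr.two_le
        omega
    · rintro (⟨-, -, hpart⟩ | ⟨-, h22, hcond⟩ | ⟨h2', hne, -⟩ | ⟨hne, -⟩)
      · exact hpart
      · intro μ hμ hs
        rw [h22] at hμ
        exact two_parts n m hmn' hcond μ hμ hs
      · exact absurd h2' hne
      · exact absurd rfl hne
  · have hrF : (r : F) ≠ 0 := by
      intro h
      rw [CharP.cast_eq_zero_iff F p] at h
      exact hrp ((Nat.prime_dvd_prime_iff_eq hp hr).mp h).symm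
    have hrq : ¬ r ∣ q := hrq_of hrp
    by_cases hr2 : r = 2
    · -- involutions in odd characteristic
      subst hr2
      have hp2 : p ≠ 2 := fun h => hrp h.symm
      have h2F : (2 : F) ≠ 0 := by exact_mod_cast hrF
      have hqodd : q % 2 = 1 := by
        by_contra hcon
        have : 2 ∣ q := by omega
        exact hrq this
      constructor
      · intro hL
        right; right; left
        refine ⟨rfl, hp2, ?_⟩
        by_contra hcon
        push Not at hcon
        obtain ⟨hnodd, hmev, hcond⟩ := hcon
        have hneven : Even n := Nat.not_odd_iff_even.mp hnodd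
        obtain ⟨k, hk⟩ := hneven
        have hcond' : q % 4 = 1 ∨ padicValNat 2 (q + 1) < padicValNat 2 n := by
          by_cases h4 : q % 4 = 1
          · left; exact h4
          · right
            have h3 : q % 4 = 3 := by omega
            by_contra hle
            push Not at hle
            exact hcond hle h3
        obtain ⟨μ, hμ1, hμn⟩ := UNdSpec.exists_mu hq h2F n ⟨k, hk⟩ hcond'
        obtain ⟨V', i1, i2, i3, h', g', hh', hdim', hg'2, hanti', hns'⟩ :=
          UNdSpec.exists_anti_model (F := F) hq h2F k (by omega)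
        have hμ0 : μ ≠ 0 := by
          rintro rfl
          rw [zero_pow (by omega)] at hμ1
          exact one_ne_zero (neg_eq_zero.mp hμ1.symm)
        have hisoy : Isom h' (μ • g') := by
          intro u v
          rw [LinearMap.smul_apply, LinearMap.smul_apply, hh'.smul_left, hh'.smul_right, hanti']
          have : μ * (μ ^ q * -h' u v) = -(μ ^ (q + 1)) * h' u v := by ring
          rw [this, hμ1, neg_neg, one_mul]
        have hy2 : (μ • g') ^ 2 = (μ ^ 2) • (1 : V' →ₗ[F] V') := by rw [smul_pow, hg'2]
        have hV1 : Module.finrank F (V1 2 g') = k := by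
          have := UNdSpec.anti_invol_even hq hh' h2F g' hg'2 hanti' ⊤
            (Cfsg.Agent.Lib.Helper98.Nd.inv_top g') (UNdSpec.nd_top hh')
          rw [top_inf_eq, finrank_top, hdim'] at this
          omega
        have hn2 : n / 2 = k := by omega
        have hdet' : LinearMap.det (μ • g') = 1 := by
          rw [LinearMap.det_smul, hdim', UNdSpec.det_invol h2F g' hg'2, hV1]
          have : 2 * k = n := by omega
          rw [this, hμn, hn2, ← mul_pow]
          simp
        have hnsy : ∀ c : F, μ • g' ≠ c • 1 := by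
          intro c hc
          apply hns' (μ⁻¹ * c)
          rw [← smul_smul, ← hc, smul_smul, inv_mul_cancel₀ hμ0, one_smul]
        obtain ⟨W', hW'inv, hW'nd, hW'd⟩ := UNdSpec.transport_fixed hq n m 2 (by omega) hL h' hh'
          (by rw [hdim']; omega) (μ • g') hisoy hdet' (μ ^ 2) hy2 hnsy
        have hW'g : Inv g' W' := (UNdSpec.inv_smul_iff g' μ hμ0 W').mp hW'inv
        have := UNdSpec.anti_invol_even hq hh' h2F g' hg'2 hanti' W' hW'g hW'nd
        rw [hW'd] at this
        exact hmev ⟨Module.finrank F ↥(W' ⊓ V1 2 g'), by omega⟩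
      · rintro (⟨h, -⟩ | ⟨h, -⟩ | ⟨-, -, hcond⟩ | ⟨-, h3, -⟩)
        · exact absurd h hrp
        · exact absurd h hrp
        · intro x hxS ⟨z, hz⟩ _
          obtain ⟨hiso0, hf, hz1, hdet0⟩ := hdata x hxS z hz
          rcases UNdSpec.sq_cases hq h2F z hz1 with ⟨l, hl, hl1⟩ | ⟨μ, hμ, hμ1⟩
          · have hl0 : l ≠ 0 := by
              rintro rfl
              rw [zero_pow (by omega)] at hl1
              exact zero_ne_one hl1
            apply hscale _ l hl0
            have hg : (l⁻¹ • Matrix.toLin' (x : Matrix (Fin n) (Fin n) F)) ^ 2 = 1 := by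
              rw [smul_pow, hf, smul_smul, inv_pow, hl, ← hl, inv_mul_cancel₀ (pow_ne_zero 2 hl0),
                one_smul]
            exact UNdSpec.exists_fixed_invol_pos hq hhH h2F _ hg
              (UNdSpec.isom_smul hhH _ hiso0 l⁻¹ (by rw [inv_pow, hl1, inv_one])) m
              (by rw [hfin]; exact hmn')
          · have hμ0 : μ ≠ 0 := by
              rintro rfl
              rw [zero_pow (by omega)] at hμ1
              exact one_ne_zero (neg_eq_zero.mp hμ1.symm)
            have hg : (μ⁻¹ • Matrix.toLin' (x : Matrix (Fin n) (Fin n) F)) ^ 2 = 1 := by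
              rw [smul_pow, hf, smul_smul, inv_pow, hμ, ← hμ, inv_mul_cancel₀ (pow_ne_zero 2 hμ0),
                one_smul]
            have hanti : ∀ u v, Cfsg.hermForm n F q
                ((μ⁻¹ • Matrix.toLin' (x : Matrix (Fin n) (Fin n) F)) u)
                ((μ⁻¹ • Matrix.toLin' (x : Matrix (Fin n) (Fin n) F)) v) =
                - Cfsg.hermForm n F q u v := by
              intro u v
              rw [LinearMap.smul_apply, LinearMap.smul_apply, hhH.smul_left, hhH.smul_right,
                hiso0 u v]
              have : μ⁻¹ * (μ⁻¹ ^ q * Cfsg.hermForm n F q u v) =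
                  (μ ^ (q + 1))⁻¹ * Cfsg.hermForm n F q u v := by
                rw [pow_succ, mul_inv, inv_pow]
                ring
              rw [this, hμ1, inv_neg_one, neg_one_mul]
            have hV1 := UNdSpec.anti_invol_even hq hhH h2F _ hg hanti ⊤
              (Cfsg.Agent.Lib.Helper98.Nd.inv_top _) (UNdSpec.nd_top hhH)
            rw [top_inf_eq, finrank_top, hfin] at hV1
            apply hscale _ μ hμ0
            rcases hcond with hodd | hme | ⟨hv, hq3⟩
            · exfalso
              obtain ⟨t, ht⟩ := hodd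
              omega
            · exact UNdSpec.exists_fixed_anti hq hhH h2F _ hg hanti m hme (by rw [hfin]; exact hmn')
            · exfalso
              have hdetg := UNdSpec.det_invol h2F _ hg
              rw [LinearMap.det_smul, hfin, hdet0, mul_one] at hdetg
              have hk : Module.finrank F
                  (V1 2 (μ⁻¹ • Matrix.toLin' (x : Matrix (Fin n) (Fin n) F))) = n / 2 := by omega
              have hμn : μ ^ n = (-1) ^ (n / 2) := by
                rw [hk, inv_pow] at hdetg
                have h1 : μ ^ n = ((-1 : F) ^ (n / 2))⁻¹ := by rw [← hdetg, inv_inv]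
                rw [h1, ← inv_pow, inv_neg_one]
              exact UNdSpec.no_mu hq h2F n ⟨n / 2, by omega⟩ (by omega) hq3 hv μ hμ1 hμn
        · omega
    · -- odd primes different from the characteristic
      have hr3 : 2 < r := by
        have := hr.two_le
        omega
      have hrodd : Odd r := hr.odd_of_ne_two hr2
      have hi1 : 1 ≤ orderOf (q : ZMod r) := by
        apply orderOf_pos_iff.mpr
        rw [isOfFinOrder_iff_pow_eq_one]
        refine ⟨r - 1, by omega, ?_⟩
        apply ZMod.pow_card_sub_one_eq_one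
        rw [Ne, ZMod.natCast_eq_zero_iff]
        exact hrq
      have hc1 : 1 ≤ c := by
        rw [hcc]
        exact UNdSpec.cU_pos _ hi1
      have hneg1 : (-1 : F) ^ (r + 1) = 1 := Even.neg_one_pow hrodd.add_one
      by_cases hi2 : orderOf (q : ZMod r) = 2
      · have hrq1 : r ∣ q + 1 := (UNdSpec.orderOf_eq_two_iff r hr2).mp hi2
        constructor
        · intro hL
          right; right; right
          refine ⟨hrp, hr3, Or.inr ⟨hi2, ?_⟩⟩
          by_contra hcon
          push Not at hcon
          obtain ⟨hrm, hv⟩ := hcon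
          obtain ⟨z, hz1, hznp, hzn⟩ := UNdSpec.exists_nonpower hq r hr2 hrq1 n hv
          have hrn : r ∣ n := by
            apply dvd_of_one_le_padicValNat
            omega
          obtain ⟨V', i1, i2, i3, h', y', hh', hdim', hiso', hy'⟩ :=
            UNdSpec.exists_typeII_model (F := F) hq r z hz1 (n / r)
          have hdim'' : Module.finrank F V' = n := by rw [hdim', Nat.div_mul_cancel hrn]
          have hdet' : LinearMap.det y' = 1 := by
            rw [det_formula r z hznp y' hy', hdim'', hneg1, one_mul, hzn]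
          have hnt' : Nontrivial V' :=
            Module.nontrivial_of_finrank_pos (R := F) (by rw [hdim'']; omega)
          have hns' : ∀ c : F, y' ≠ c • 1 := by
            intro c' hc'
            apply hznp c'
            have h1 : (c' ^ r) • (1 : V' →ₗ[F] V') = z • 1 := by
              rw [← hy', hc', smul_pow, one_pow]
            obtain ⟨v, hv⟩ := exists_ne (0 : V')
            have h2 := congrArg (fun g => g v) h1
            simp only [LinearMap.smul_apply, Module.End.one_apply] at h2
            exact smul_left_injective F hv h2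
          obtain ⟨W', hW'inv, hW'nd, hW'd⟩ := UNdSpec.transport_fixed hq n m r (by omega) hL h' hh'
            hdim'' y' hiso' hdet' z hy' hns'
          have := dvd_finrank_of_not_pow r z hznp y' hy' W' hW'inv
          rw [hW'd] at this
          exact hrm this
        · rintro (⟨h, -⟩ | ⟨h, -⟩ | ⟨h, -⟩ | ⟨-, -, hcase⟩)
          · exact absurd h hrp
          · exact absurd h hrp
          · exact absurd h hr2
          rcases hcase with ⟨hne, -⟩ | ⟨-, hcond⟩
          · exact absurd hi2 hne
          intro x hxS ⟨z, hz⟩ _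
          obtain ⟨hiso0, hf, hz1, hdet0⟩ := hdata x hxS z hz
          rcases UNdSpec.root_cases hq r hr2 hrq1 z hz1 with ⟨l, hl, hl1⟩ | hznp
          · have hl0 : l ≠ 0 := by
              rintro rfl
              rw [zero_pow (by omega)] at hl1
              exact zero_ne_one hl1
            apply hscale _ l hl0
            have hu : (l⁻¹ • Matrix.toLin' (x : Matrix (Fin n) (Fin n) F)) ^ r = 1 := by
              rw [smul_pow, hf, smul_smul, inv_pow, hl, ← hl, inv_mul_cancel₀ (pow_ne_zero r hl0),
                one_smul]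
            have hisou := UNdSpec.isom_smul hhH _ hiso0 l⁻¹ (by rw [inv_pow, hl1, inv_one])
            refine UNdSpec.exists_fixed_nd_u hq hhH p f hFp r (Ne.symm hrp) hr2 hrF _ hu hisou n m
              hfin hmn' ?_
            rw [hi2]
            have : cU 2 = 1 := by decide
            rw [this, Nat.mod_one, Nat.mod_one]
          · have hrn : r ∣ n := by
              have := dvd_finrank_of_not_pow r z hznp _ hf ⊤
                (Cfsg.Agent.Lib.Helper98.Nd.inv_top _)
              rwa [finrank_top, hfin] at this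
            rcases hcond with hrm | hv
            · obtain ⟨W, hWinv, hWnd, hWd⟩ := UNdSpec.exists_fixed_typeII hq hhH r z hznp _ hf hiso0
                m (by rw [hfin]; exact hmn') hrm
              exact ⟨W, hWd, hWnd, hWinv⟩
            · exfalso
              have hdz : z ^ (n / r) = 1 := by
                have := det_formula r z hznp _ hf
                rw [hdet0, hfin, hneg1, one_mul] at this
                exact this.symm
              obtain ⟨l, hl, -⟩ := UNdSpec.power_of_val_le hq r hrq1 n (by omega) hrn hv z hz1 hdz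
              exact hznp l hl
      · have hnd : ¬ r ∣ q + 1 := fun hd => hi2 ((UNdSpec.orderOf_eq_two_iff r hr2).mpr hd)
        have hcop : Nat.Coprime r (q + 1) := (Nat.Prime.coprime_iff_not_dvd hr).mpr hnd
        constructor
        · intro hL
          right; right; right
          have hΩ' : r ∣ Nat.card {W : Submodule F (Fin n → F) //
              Module.finrank F W = m ∧ ND (Cfsg.hermForm n F q) W} := by
            have h1 : Nat.card {W : Submodule F (Fin n → F) // Module.finrank F ↥W = m ∧
                (∀ u ∈ W, u ≠ 0 → ∃ v ∈ W, Cfsg.hermForm n F q u v ≠ 0)} =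
                Nat.card {W : Submodule F (Fin n → F) //
                  Module.finrank F W = m ∧ ND (Cfsg.hermForm n F q) W} :=
              Nat.card_congr (Equiv.subtypeEquivRight fun W => and_congr Iff.rfl (hconvW W))
            rw [← h1]
            exact hrΩ
          obtain ⟨j0, hj0, hj0d⟩ := UNdSpec.exists_of_dvd_card_nd_u hq hhH n m hfin hmn' r hΩ'
          have hd1 := UNdSpec.dvd_of_dvd_hAZ hq2 r hrq (n - j0) hj0d
          have hcdvd : c ∣ n - j0 := by
            rw [hcc]
            exact (UNdSpec.cU_dvd_iff r hr2 hrq (n - j0)).mp hd1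
          have hcn : c ≤ n := by
            have := Nat.le_of_dvd (by omega) hcdvd
            omega
          obtain ⟨y0, h0iso, h0r, h0ne, h0G⟩ :=
            UNdSpec.exists_block_u (F := F) hq p f hFp r (Ne.symm hrp) hr2 hrF c hcc
          obtain ⟨V', i1, i2, i3, h', y', hh', hdim', hiso', hy', hns', hV0⟩ :=
            UNdSpec.exists_ss_model (F := F) hq r hrF hcop c (n / c) (n % c) hc1
              (Nat.div_pos hcn (by omega)) y0 h0iso h0r h0ne h0G
          have hdim'' : Module.finrank F V' = n := by
            rw [hdim']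
            exact Nat.div_add_mod' n c
          have hdet' := UNdSpec.det_eq_one_of_coprime hq hh' y' hiso' r hy' hcop
          obtain ⟨W', hW'inv, hW'nd, hW'd⟩ := UNdSpec.transport_fixed hq n m r (by omega) hL h' hh'
            hdim'' y' hiso' hdet' 1 (by rw [hy', one_smul]) hns'
          have hb := UNdSpec.mod_le_of_inv_nd_u hq hh' p f hFp r (Ne.symm hrp) hr2 hrF y' hy' hiso'
            W' hW'inv hW'nd (by rw [hV0, ← hcc]; exact Nat.mod_lt _ (by omega))
          rw [hW'd, hV0, ← hcc] at hb
          refine ⟨hrp, hr3, Or.inl ⟨hi2, ?_, hb⟩⟩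
          by_contra hlt
          push Not at hlt
          obtain ⟨e, he⟩ := hcdvd
          have h1 : n = j0 + c * e := by omega
          have h2 : n % c = j0 := by
            rw [h1, Nat.add_mul_mod_self_left]
            exact Nat.mod_eq_of_lt (by omega)
          have h3 : m % c = m := Nat.mod_eq_of_lt hlt
          omega
        · rintro (⟨h, -⟩ | ⟨h, -⟩ | ⟨h, -⟩ | ⟨-, -, hcase⟩)
          · exact absurd h hrp
          · exact absurd h hrp
          · exact absurd h hr2
          rcases hcase with ⟨-, hcm, hk⟩ | ⟨h2', -⟩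
          swap
          · exact absurd h2' hi2
          intro x hxS ⟨z, hz⟩ _
          obtain ⟨hiso0, hf, hz1, hdet0⟩ := hdata x hxS z hz
          obtain ⟨l, hl, hl1⟩ := UNdSpec.exists_root_of_coprime r hcop z hz1
          have hl0 : l ≠ 0 := by
            rintro rfl
            rw [zero_pow (by omega)] at hl1
            exact zero_ne_one hl1
          apply hscale _ l hl0
          have hu : (l⁻¹ • Matrix.toLin' (x : Matrix (Fin n) (Fin n) F)) ^ r = 1 := by
            rw [smul_pow, hf, smul_smul, inv_pow, hl, ← hl, inv_mul_cancel₀ (pow_ne_zero r hl0),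
              one_smul]
          have hisou := UNdSpec.isom_smul hhH _ hiso0 l⁻¹ (by rw [inv_pow, hl1, inv_one])
          refine UNdSpec.exists_fixed_nd_u hq hhH p f hFp r (Ne.symm hrp) hr2 hrF _ hu hisou n m
            hfin hmn' ?_
          rw [← hcc]
          exact hk

end Cfsg.Agent.S5954
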