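import Cfsg.Statements.S5955
import Cfsg.Agent.Lib.Helper98.Sy8
import Cfsg.Agent.Lib.Helper98.Ti7
import Cfsg.Agent.Lib.Helper98.Ti8
import Cfsg.Agent.Lib.Helper98.Ti9
import Cfsg.Agent.Lib.Helper49.PrimeOrderSp
import Cfsg.Agent.Lib.Helper49.PrimeOrderSpCount
import Cfsg.Agent.S2568

set_option autoImplicit false
set_option linter.style.haveILetI false
set_option maxHeartbeats 1600000
open scoped MatrixGroups
open Cfsg

namespace Cfsg.Agent.S5955

/-- Elements of prime order of PSp_n(q) with no fixed totally isotropic `m`-space. Here `T = PSp_n(q)` with `n = 2d ≥ 4`, `(n, q) ≠ (4, 2)`, realised through the symplectic matrices over the field `F` with `q` elements (preserving the standard alternating form); an element of `T` of prime order `r` is such a matrix `x` with `x^r` scalar and `x` not scalar. For `r ≠ p` let `i` be the multiplicative order of `q` modulo `r`, `c = i` for `i` even and `c = 2i` for `i` odd, and write `k = n mod c`, `ℓ = m mod i`, `ℓ' = m mod c`, `n' = ⌊n/i⌋`, `m' = ⌊m/i⌋`, `t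 = (r−1)/i`. Let `1 ≤ m ≤ n/2` and let `r` be a prime dividing the number of totally isotropic `m`-spaces. Then every element of `T` of order `r` fixes a totally isotropic `m`-space if and only if either (i) `r = 2 ≠ p` and (`m` is even or `q ≡ 1 (mod 4)`); or (ii) `r ≠ p`, `r > 2`, `i ≤ m`, `k ≥ 2ℓ`, and (`i` is odd or `n' − 2m' ≥ t`). -/
theorem result {F : Type*} [Field F] [Fintype F] {p : ℕ} [Fact p.Prime] [CharP F p] {q : ℕ} (hq : Fintype.card F = q)
    (d m : ℕ) (hd : 2 ≤ d) (hT : (d, q) ≠ (2, 2)) (hm : 1 ≤ m) (hmd : m ≤ d)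
    (r : ℕ) [Fact r.Prime]
    (hrΩ : r ∣ Nat.card {W : Submodule F (Fin d ⊕ Fin d → F) // Module.finrank F ↥W = m ∧ (∀ u ∈ W, ∀ v ∈ W, Cfsg.sympForm d F u v = 0)})
    (i c : ℕ) (hi : i = orderOf (q : ZMod r)) (hc : c = if Even i then i else 2 * i) :
    (∀ x : ↥(Matrix.symplecticGroup (Fin d) F),
      (∃ z : F, ((x ^ r : ↥(Matrix.symplecticGroup (Fin d) F)) : Matrix (Fin d ⊕ Fin d) (Fin d ⊕ Fin d) F) = z • (1 : Matrix (Fin d ⊕ Fin d) (Fin d ⊕ Fin d) F)) →
      (∀ z : F, (x : Matrix (Fin d ⊕ Fin d) (Fin d ⊕ Fin d) F) ≠ z • (1 : Matrix (Fin d ⊕ Fin d) (Fin d ⊕ Fin d) F)) →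
      ∃ W : Submodule F (Fin d ⊕ Fin d → F), Module.finrank F ↥W = m ∧ (∀ u ∈ W, ∀ v ∈ W, Cfsg.sympForm d F u v = 0) ∧
        W.map (Matrix.toLin' (x : Matrix (Fin d ⊕ Fin d) (Fin d ⊕ Fin d) F)) ≤ W) ↔
    ((r = 2 ∧ p ≠ 2 ∧ (Even m ∨ q % 4 = 1)) ∨
     (r ≠ p ∧ 2 < r ∧ i ≤ m ∧ 2 * (m % i) ≤ (2 * d) % c ∧ (Odd i ∨ (r - 1) / i + 2 * (m / i) ≤ (2 * d) / i))) := by
  classical
  subst hq
  subst hi
  have hr : r.Prime := Fact.out
  have hp : p.Prime := Fact.out
  obtain ⟨f, _, hF⟩ := FiniteField.card F p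
  have hfin : Module.finrank F (Fin d ⊕ Fin d → F) = 2 * d := by
    rw [Module.finrank_pi, Fintype.card_sum, Fintype.card_fin, two_mul]
  have hA := Lib.Helper98.Sy.stdForm_alt (F := F) d
  have hV := Lib.Helper98.Sy.stdForm_nonDeg (F := F) d
  have hform : ∀ u v : Fin d ⊕ Fin d → F,
      Cfsg.sympForm d F u v = Lib.Helper98.Sy.stdForm d u v :=
    fun u v => (Lib.Helper98.Sy.stdForm_apply d u v).symm
  have hcc : c = Lib.Helper98.Sy.cOf (orderOf ((Fintype.card F : ℕ) : ZMod r)) := by
    rw [hc]; rfl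
  have hconvW : ∀ W : Submodule F (Fin d ⊕ Fin d → F),
      (∀ u ∈ W, ∀ v ∈ W, Cfsg.sympForm d F u v = 0) ↔
        Lib.Helper98.Sy.Ort (Lib.Helper98.Sy.stdForm d) W W :=
    fun W => ⟨fun h u hu v hv => by rw [← hform]; exact h u hu v hv,
      fun h u hu v hv => by rw [hform]; exact h u hu v hv⟩
  have hmapinv : ∀ (g : (Fin d ⊕ Fin d → F) →ₗ[F] (Fin d ⊕ Fin d → F))
      (W : Submodule F (Fin d ⊕ Fin d → F)), W.map g ≤ W ↔ Lib.Helper98.Elus.Inv g W :=
    fun g W => ⟨fun h v hv => h ⟨v, hv, rfl⟩, fun h => by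
      rintro _ ⟨v, hv, rfl⟩
      exact h v hv⟩
  have hΩ' : r ∣ Nat.card {W : Submodule F (Fin d ⊕ Fin d → F) //
      Module.finrank F W = m ∧ Lib.Helper98.Sy.Ort (Lib.Helper98.Sy.stdForm d) W W} := by
    have h1 : Nat.card {W : Submodule F (Fin d ⊕ Fin d → F) // Module.finrank F ↥W = m ∧
        (∀ u ∈ W, ∀ v ∈ W, Cfsg.sympForm d F u v = 0)} =
        Nat.card {W : Submodule F (Fin d ⊕ Fin d → F) //
          Module.finrank F W = m ∧ Lib.Helper98.Sy.Ort (Lib.Helper98.Sy.stdForm d) W W} :=
      Nat.card_congr (Equiv.subtypeEquivRight fun W => and_congr Iff.rfl (hconvW W))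
    rw [← h1]
    exact hrΩ
  -- the characteristic does not divide the number of totally isotropic subspaces
  by_cases hrp : r = p
  · exfalso
    subst hrp
    exact Lib.Helper98.Ti.not_char_dvd_card_ti hA hV r f hF f.pos d m hfin hmd hΩ'
  have hrF : (r : F) ≠ 0 := by
    intro h
    rw [CharP.cast_eq_zero_iff F p] at h
    exact hrp ((Nat.prime_dvd_prime_iff_eq hp hr).mp h).symm
  -- `z ^ 2 = 1` for scalars of isometries
  have hzz_of : ∀ (g : (Fin d ⊕ Fin d → F) →ₗ[F] (Fin d ⊕ Fin d → F)) (z : F),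
      Lib.Helper98.Sy.Iso (Lib.Helper98.Sy.stdForm d) g → g = z • 1 → z * z = 1 := by
    intro g z hg hgz
    obtain ⟨u, hu0⟩ : ∃ u : Fin d ⊕ Fin d → F, u ≠ 0 := by
      refine ⟨fun _ => 1, fun h => ?_⟩
      have := congrFun h (Sum.inl ⟨0, by omega⟩)
      simp at this
    have : ∃ v, Lib.Helper98.Sy.stdForm d u v ≠ 0 := by
      by_contra hall
      push Not at hall
      exact hu0 (hV u Submodule.mem_top (fun v _ => hall v))
    obtain ⟨v, hv⟩ := this
    have h1 := hg u v
    rw [hgz] at h1
    simp only [LinearMap.smul_apply, Module.End.one_apply, map_smul, smul_eq_mul] at h1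
    have h2 : (z * z - 1) * Lib.Helper98.Sy.stdForm d u v = 0 := by
      rw [sub_mul, one_mul, sub_eq_zero, mul_assoc]
      exact h1
    rcases mul_eq_zero.mp h2 with h3 | h3
    · exact sub_eq_zero.mp h3
    · exact absurd h3 hv
  by_cases hr2 : r = 2
  · -- involutions
    subst hr2
    have hp2 : p ≠ 2 := fun h => hrp h.symm
    have h2F : (2 : F) ≠ 0 := by
      have := hrF
      rwa [Nat.cast_ofNat] at this
    have hqodd : Fintype.card F % 2 = 1 := by
      apply FiniteField.odd_card_of_char_ne_two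
      rw [ringChar.eq F p]
      exact hp2
    constructor
    · intro hL
      left
      refine ⟨rfl, hp2, ?_⟩
      by_contra hcon
      push Not at hcon
      obtain ⟨hmodd, hq4⟩ := hcon
      have hq3 : Fintype.card F % 4 = 3 := by omega
      have hns : ¬ IsSquare (-1 : F) := by
        rw [FiniteField.isSquare_neg_one_iff]
        push Not
        exact hq3
      let x : ↥(Matrix.symplecticGroup (Fin d) F) := ⟨Matrix.J (Fin d) F, SymplecticGroup.J_mem (Fin d) F⟩
      have hx2 : ((x ^ 2 : ↥(Matrix.symplecticGroup (Fin d) F)) :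
          Matrix (Fin d ⊕ Fin d) (Fin d ⊕ Fin d) F) =
          (-1 : F) • (1 : Matrix (Fin d ⊕ Fin d) (Fin d ⊕ Fin d) F) := by
        rw [SubmonoidClass.coe_pow, pow_two]
        show Matrix.J (Fin d) F * Matrix.J (Fin d) F = _
        rw [Matrix.J_squared, neg_one_smul]
      have hxns : ∀ z : F, (x : Matrix (Fin d ⊕ Fin d) (Fin d ⊕ Fin d) F) ≠
          z • (1 : Matrix (Fin d ⊕ Fin d) (Fin d ⊕ Fin d) F) := by
        intro z hz
        have h1 := congrFun (congrFun hz (Sum.inl ⟨0, by omega⟩)) (Sum.inr ⟨0, by omega⟩)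
        have h1' : (Matrix.J (Fin d) F) (Sum.inl ⟨0, by omega⟩) (Sum.inr ⟨0, by omega⟩) =
            (z • (1 : Matrix (Fin d ⊕ Fin d) (Fin d ⊕ Fin d) F)) (Sum.inl ⟨0, by omega⟩)
              (Sum.inr ⟨0, by omega⟩) := h1
        simp [Matrix.J] at h1'
      obtain ⟨W, hWd, hWti, hWinv⟩ := hL x ⟨-1, hx2⟩ hxns
      have hg : (Matrix.toLin' (x : Matrix (Fin d ⊕ Fin d) (Fin d ⊕ Fin d) F)) ^ 2 =
          (-1 : F) • 1 := by
        rw [← Matrix.toLin'_pow, ← SubmonoidClass.coe_pow, hx2, map_smul, Matrix.toLin'_one]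
        rfl
      have := Lib.Helper98.Ti.even_finrank_of_inv _ hg hns W ((hmapinv _ W).mp hWinv)
      rw [hWd] at this
      exact hmodd this
    · rintro (⟨-, -, hcond⟩ | ⟨-, h22, -⟩)
      swap
      · omega
      intro x ⟨z, hz⟩ _
      set f0 : (Fin d ⊕ Fin d → F) →ₗ[F] (Fin d ⊕ Fin d → F) :=
        Matrix.toLin' (x : Matrix (Fin d ⊕ Fin d) (Fin d ⊕ Fin d) F) with hf0
      have hf : f0 ^ 2 = z • 1 := by
        rw [hf0, ← Matrix.toLin'_pow, ← SubmonoidClass.coe_pow, hz, map_smul,
          Matrix.toLin'_one]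
        rfl
      have hiso0 : Lib.Helper98.Sy.Iso (Lib.Helper98.Sy.stdForm d) f0 :=
        Lib.Helper98.Sy.iso_of_mem d _ x.2
      have hzz : z * z = 1 :=
        hzz_of (f0 ^ 2) z (Lib.Helper98.Sy.iso_pow f0 hiso0 2) hf
      suffices hmain : ∃ W : Submodule F (Fin d ⊕ Fin d → F), Lib.Helper98.Elus.Inv f0 W ∧
          Lib.Helper98.Sy.Ort (Lib.Helper98.Sy.stdForm d) W W ∧ Module.finrank F W = m by
        obtain ⟨W, h1, h2, h3⟩ := hmain
        exact ⟨W, h3, (hconvW W).mpr h2, (hmapinv f0 W).mpr h1⟩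
      rcases mul_self_eq_one_iff.mp hzz with hz1 | hz1
      · rw [hz1, one_smul] at hf
        exact Lib.Helper98.Ti.exists_fixed_ti_invol hA hV h2F f0 hf hiso0 d m hfin hmd
      · rw [hz1] at hf
        by_cases hsq : IsSquare (-1 : F)
        · obtain ⟨ω, hω⟩ := hsq
          exact Lib.Helper98.Ti.exists_fixed_ti_sqrt hA hV h2F f0 hf hiso0 ω hω.symm d m hfin hmd
        · have hq3 : Fintype.card F % 4 = 3 := by
            by_contra h
            exact hsq (FiniteField.isSquare_neg_one_iff.mpr h)
          have hme : Even m := by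
            rcases hcond with h | h
            · exact h
            · omega
          obtain ⟨b, hb⟩ := hme
          obtain ⟨Z, -, hZinv, hZti, hZd⟩ := Lib.Helper98.Ti.exists_fixed_ti_neg_one hA hV h2F f0 hf
            hiso0 hsq b ⊤ (fun _ _ => Submodule.mem_top) hV (by rw [finrank_top, hfin]; omega)
          exact ⟨Z, hZinv, hZti, by rw [hZd]; omega⟩
  · -- odd primes different from the characteristic
    have hr3 : 2 < r := by
      have := hr.two_le
      omega
    have hrodd : Odd r := hr.odd_of_ne_two hr2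
    have hi1 : 1 ≤ orderOf ((Fintype.card F : ℕ) : ZMod r) :=
      Lib.Helper98.Elus.orderOf_card_pos p f hF r (Ne.symm hrp)
    set i := orderOf ((Fintype.card F : ℕ) : ZMod r) with hi
    constructor
    · intro hL
      right
      -- consequences of the divisibility hypothesis
      obtain ⟨j0, hj0m, hj0⟩ := Lib.Helper98.Ti.exists_of_dvd_card_ti hA hV d m hfin hmd r hΩ'
      rw [← hi] at hj0
      have hcdvd : c ∣ 2 * (d - j0) := by
        rw [hcc]
        exact Lib.Helper98.Sy.cOf_dvd i _ hj0 (even_two_mul _)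
      have hc1 : 1 ≤ c := by
        rw [hcc]
        exact Lib.Helper98.Sy.cOf_pos _ hi1
      have hcn : c ≤ 2 * d := by
        have := Nat.le_of_dvd (by omega) hcdvd
        omega
      have hklt : (2 * d) % c < 2 * m := by
        obtain ⟨e, he⟩ := hcdvd
        have h1 : 2 * d = 2 * j0 + c * e := by omega
        rw [h1, Nat.add_mul_mod_self_left]
        have := Nat.mod_le (2 * j0) c
        omega
      obtain ⟨c', hc'⟩ := Lib.Helper98.Sy.cOf_even i
      have hcc' : Lib.Helper98.Sy.cOf i = 2 * c' := by omega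
      have hc2c : c = 2 * c' := by rw [hcc, hcc']
      have hc'1 : 1 ≤ c' := by omega
      have hc'd : c' ≤ d := by omega
      -- model 1
      have hkey1 : 2 * (m % i) ≤ (2 * d) % c := by
        obtain ⟨y0, h0iso, h0r, h0ne, h0G⟩ :=
          Lib.Helper98.Sy.exists_block (F := F) p f hF r (Ne.symm hrp) hr2 hrF c' hcc'
        have hmod : (2 * d) % c = 2 * (d % c') := by
          rw [hc2c, Nat.mul_mod_mul_left]
        have hdm : c' * (d / c') + d % c' = d := Nat.div_add_mod d c'
        have hjpos : 1 ≤ d / c' := Nat.div_pos hc'd (by omega)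
        have hej : d / c' * (2 * c') + 2 * (d % c') = 2 * d := by
          have : d / c' * (2 * c') = 2 * (c' * (d / c')) := by ring
          omega
        have hVd : Module.finrank F (Lib.Helper98.Sy.VS (F := F) c' (d % c') (d / c')) = 2 * d := by
          rw [Lib.Helper98.Sy.finrank_VS]
          exact hej
        have hns := Lib.Helper98.Sy.yS_not_scalar (e' := d % c') (j := d / c') r hrodd hjpos hc'1
          y0 h0iso h0r h0ne
        have hyr := Lib.Helper98.Sy.yS_pow_eq_one (e' := d % c') (j := d / c') r y0 h0r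
        have hyiso := Lib.Helper98.Sy.yS_iso (e' := d % c') (j := d / c') y0 h0iso
        obtain ⟨x, hx1, hx2, E, hE1, hE2⟩ := Lib.Helper98.Sy.transport_symp
          (Lib.Helper98.Sy.BS (F := F) c' (d % c') (d / c')) Lib.Helper98.Sy.BS_alt
          Lib.Helper98.Sy.BS_nonDeg d hVd (Lib.Helper98.Sy.yS y0) hyiso r hyr hns
        obtain ⟨W, hWd, hWti, hWinv⟩ := hL x ⟨1, hx1⟩ hx2
        have hWti' := (hconvW W).mp hWti
        have hWinv' := (hmapinv _ W).mp hWinv
        set W' : Submodule F (Lib.Helper98.Sy.VS (F := F) c' (d % c') (d / c')) :=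
          W.map (E : (Fin d ⊕ Fin d → F) →ₗ[F] Lib.Helper98.Sy.VS (F := F) c' (d % c') (d / c'))
          with hW'
        have hW'd : Module.finrank F W' = m := by
          rw [hW', LinearEquiv.finrank_map_eq]
          exact hWd
        have hW'ti : Lib.Helper98.Sy.Ort
            (Lib.Helper98.Sy.BS (F := F) c' (d % c') (d / c')) W' W' := by
          rintro _ ⟨u, hu, rfl⟩ _ ⟨v, hv, rfl⟩
          show Lib.Helper98.Sy.BS c' (d % c') (d / c') (E u) (E v) = 0
          rw [hE2]
          exact hWti' u hu v hv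
        have hW'inv : Lib.Helper98.Elus.Inv (Lib.Helper98.Sy.yS y0) W' := by
          rintro _ ⟨u, hu, rfl⟩
          show Lib.Helper98.Sy.yS y0 (E u) ∈ W'
          rw [← hE1]
          exact ⟨_, hWinv' u hu, rfl⟩
        have hb := Lib.Helper98.Ti.ti_bound_V0 Lib.Helper98.Sy.BS_alt Lib.Helper98.Sy.BS_nonDeg r hrF
          (Lib.Helper98.Sy.yS y0) hyr hyiso W' hW'inv hW'ti
        rw [hW'd, ← hi] at hb
        have hs := Lib.Helper98.Elus.finrank_V0_add_V1 r hrF
          (Lib.Helper98.Sy.yS (e' := d % c') (j := d / c') y0) hyr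
        have hV1 : Module.finrank F (Lib.Helper98.Elus.V1 r
            (Lib.Helper98.Sy.yS (e' := d % c') (j := d / c') y0)) = d / c' * (2 * c') :=
          Lib.Helper98.Sy.finrank_ker_gsum_yS r hrF y0 h0G
        rw [hV1, hVd] at hs
        omega
      have him : i ≤ m := by
        by_contra hlt
        have : m % i = m := Nat.mod_eq_of_lt (by omega)
        omega
      refine ⟨hrp, hr3, him, hkey1, ?_⟩
      by_cases hodd : Odd i
      · left; exact hodd
      right
      have heven : Even i := Nat.not_odd_iff_even.mp hodd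
      have hci : c = i := by
        rw [hc, if_pos heven]
      -- model 2
      have hK : Fintype.card F = p ^ (f : ℕ) := hF
      have hi' : i = orderOf ((p ^ (f : ℕ) : ℕ) : ZMod r) := by rw [hi, hF]
      have D := Cfsg.Agent.S2568.factorData hK r i hrp hi'
      set PP := (UniqueFactorizationMonoid.normalizedFactors
        (Polynomial.cyclotomic r F)).toFinset with hPP
      have hmon : ∀ P ∈ PP, P.Monic := by
        intro P hP
        have hP1 := Multiset.mem_toFinset.mp hP
        rw [← UniqueFactorizationMonoid.normalize_normalized_factor P hP1]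
        exact Polynomial.monic_normalize
          (UniqueFactorizationMonoid.irreducible_of_normalized_factor P hP1).ne_zero
      -- the number of factors
      have hcardPP : i * PP.card = r - 1 := by
        have h1 := congrArg Polynomial.natDegree D.prod
        have e1 : (Polynomial.X - 1 : Polynomial F).natDegree = 1 := by
          rw [← Polynomial.C_1]; exact Polynomial.natDegree_X_sub_C 1
        have e2 : (Polynomial.X ^ r - 1 : Polynomial F).natDegree = r := by
          rw [← Polynomial.C_1]; exact Polynomial.natDegree_X_pow_sub_C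
        have e3 : (Polynomial.X - 1 : Polynomial F).Monic := by
          rw [← Polynomial.C_1]; exact Polynomial.monic_X_sub_C 1
        rw [e3.natDegree_mul (Polynomial.monic_prod_of_monic _ _ hmon), e1, e2,
          Polynomial.natDegree_prod_of_monic _ _ hmon,
          Finset.sum_congr rfl (fun P hP => D.deg P hP), Finset.sum_const, smul_eq_mul] at h1
        rw [mul_comm]
        omega
      have ht : (r - 1) / i = PP.card := by
        rw [← hcardPP, Nat.mul_div_cancel_left _ (by omega)]
      set n' := (2 * d) / i with hn'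
      have hn : i * n' + (2 * d) % i = 2 * d := Nat.div_add_mod (2 * d) i
      have hn'1 : 1 ≤ n' := by
        rw [hn']
        exact Nat.div_pos (by omega) (by omega)
      have hPPpos : 1 ≤ PP.card := by
        rcases Nat.eq_zero_or_pos PP.card with h0 | h0
        · rw [h0, mul_zero] at hcardPP
          omega
        · exact h0
      set o := min PP.card n' with ho
      have ho1 : 1 ≤ o := le_min hPPpos hn'1
      obtain ⟨S, -, hScard⟩ := Finset.exists_subset_card_eq
        (s := (Finset.univ : Finset PP)) (n := o)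
        (by rw [Finset.card_univ, Fintype.card_coe]; exact min_le_left _ _)
      let a : PP → ℕ := fun P => if P ∈ S then 1 else 0
      have ha1 : ∀ P, a P ≤ 1 := by
        intro P
        show (if P ∈ S then 1 else 0) ≤ 1
        split_ifs <;> omega
      have hsuma : ∑ P, a P = o := by
        show ∑ P, (if P ∈ S then 1 else 0) = o
        rw [Finset.sum_boole, Finset.filter_mem_eq_inter, Finset.univ_inter, hScard]
        rfl
      have hio : i * o ≤ i * n' := Nat.mul_le_mul_left i (min_le_right _ _)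
      have hale : i * ∑ P, a P ≤ 2 * d := by
        rw [hsuma]
        omega
      have hPrev : ∀ P : PP, (P : Polynomial F).reverse = (P : Polynomial F) := by
        intro P
        haveI : Fact (Irreducible P.1) := ⟨D.irr P.1 P.2⟩
        apply Cfsg.Agent.Lib.Helper49.reverse_eq_self_of_starP_eq (hmon P.1 P.2)
          (Cfsg.Agent.Lib.Helper49.starP_eq_self_of_even (hmon P.1 P.2) hi (by omega) heven
            (D.dvd_of_mem P.2)) hr.pos (D.dvd_of_mem P.2) (D.X_sub_one_not_dvd P.2)
      have hpal : ((Polynomial.X - 1 : Polynomial F) ^ (2 * d - i * ∑ P, a P) *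
          ∏ P : PP, (P : Polynomial F) ^ a P).reverse =
          (Polynomial.X - 1 : Polynomial F) ^ (2 * d - i * ∑ P, a P) *
          ∏ P : PP, (P : Polynomial F) ^ a P := by
        apply Cfsg.Agent.Lib.Helper49.palin_mul
        · apply Cfsg.Agent.Lib.Helper49.palin_X_sub_one_even
          rw [hsuma]
          obtain ⟨l, hl⟩ := heven
          refine ⟨d - l * o, ?_⟩
          have : i * o = 2 * (l * o) := by rw [hl]; ring
          omega
        · apply Cfsg.Agent.Lib.Helper49.palin_prod
          intro P _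
          exact Cfsg.Agent.Lib.Helper49.palin_pow (hPrev P) _
      obtain ⟨x, hx, hκ⟩ := D.exists_sp_realize p hmon hrF d a hale hpal
      set f0 : (Fin d ⊕ Fin d → F) →ₗ[F] (Fin d ⊕ Fin d → F) :=
        Matrix.toLin' (x : Matrix (Fin d ⊕ Fin d) (Fin d ⊕ Fin d) F) with hf0
      have hiso0 : Lib.Helper98.Sy.Iso (Lib.Helper98.Sy.stdForm d) f0 :=
        Lib.Helper98.Sy.iso_of_mem d _ x.2
      have hxr : ((x ^ r : ↥(Matrix.symplecticGroup (Fin d) F)) :
          Matrix (Fin d ⊕ Fin d) (Fin d ⊕ Fin d) F) = 1 := by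
        rw [hx]; rfl
      have hf : f0 ^ r = 1 := by
        rw [hf0, ← Matrix.toLin'_pow, ← SubmonoidClass.coe_pow, hxr, Matrix.toLin'_one]
        rfl
      have hxns : ∀ z : F, (x : Matrix (Fin d ⊕ Fin d) (Fin d ⊕ Fin d) F) ≠
          z • (1 : Matrix (Fin d ⊕ Fin d) (Fin d ⊕ Fin d) F) := by
        intro z hz
        have hfz : f0 = z • 1 := by
          rw [hf0, hz, map_smul, Matrix.toLin'_one]
          rfl
        have hzz := hzz_of f0 z hiso0 hfz
        have hzr : z ^ r = 1 := by
          have h1 := hf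
          rw [hfz, smul_pow, one_pow] at h1
          have h2 := congrArg (fun g : (Fin d ⊕ Fin d → F) →ₗ[F] (Fin d ⊕ Fin d → F) =>
            g (fun _ => 1) (Sum.inl ⟨0, by omega⟩)) h1
          simpa using h2
        have hz1 : z = 1 := by
          obtain ⟨k, hk⟩ := hrodd
          rw [hk, pow_succ, pow_mul, pow_two, hzz, one_pow, one_mul] at hzr
          exact hzr
        rw [hz1, one_smul] at hfz
        have hφ : Polynomial.aeval f0 (Polynomial.X ^ r - 1 : Polynomial F) = 0 := by
          rw [map_sub, map_pow, Polynomial.aeval_X, hf, map_one, sub_self]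
        have h0 := (D.eq_one_iff f0 hφ).mp hfz
        obtain ⟨P, hPS⟩ : ∃ P, P ∈ S := by
          apply Finset.card_pos.mp
          omega
        have h1 := hκ P
        rw [show a P = 1 from if_pos hPS, mul_one] at h1
        have h2 := h0 P.1 P.2
        rw [h2] at h1
        omega
      obtain ⟨W, hWd, hWti, hWinv⟩ := hL x ⟨1, by rw [hxr, one_smul]⟩ hxns
      have hWti' := (hconvW W).mp hWti
      have hWinv' := (hmapinv _ W).mp hWinv
      obtain ⟨hV1d, hbound⟩ := Lib.Helper98.Ti.finrank_le_of_ti_mult_free hA hV p f hF r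
        (Ne.symm hrp) hr2 hrF f0 hf hiso0 heven PP D a ha1 hκ
      rw [← hi] at hV1d
      have hb := hbound W hWinv' hWti'
      rw [hWd] at hb
      have hs := Lib.Helper98.Elus.finrank_V0_add_V1 r hrF f0 hf
      rw [hfin, hV1d, hsuma] at hs
      -- arithmetic
      rw [ht]
      have hm := Nat.div_add_mod m i
      have hklt' : (2 * d) % i < i := Nat.mod_lt _ (by omega)
      rcases le_total PP.card n' with hle | hle
      · have hoo : o = PP.card := min_eq_left hle
        rw [hoo] at hs
        have h1 : i * (PP.card + 2 * (m / i)) = i * PP.card + 2 * (i * (m / i)) := by ring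
        have h2 : i * (PP.card + 2 * (m / i)) < i * (n' + 1) := by
          have : i * (n' + 1) = i * n' + i := by ring
          omega
        have h3 := Nat.lt_of_mul_lt_mul_left h2
        omega
      · have hoo : o = n' := min_eq_right hle
        rw [hoo] at hs
        rw [hci] at hklt
        omega
    · rintro (⟨h2, -, -⟩ | ⟨-, -, him, hk, hcase⟩)
      · exact absurd h2 hr2
      intro x ⟨z, hz⟩ _
      set f0 : (Fin d ⊕ Fin d → F) →ₗ[F] (Fin d ⊕ Fin d → F) :=
        Matrix.toLin' (x : Matrix (Fin d ⊕ Fin d) (Fin d ⊕ Fin d) F) with hf0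
      have hf : f0 ^ r = z • 1 := by
        rw [hf0, ← Matrix.toLin'_pow, ← SubmonoidClass.coe_pow, hz, map_smul,
          Matrix.toLin'_one]
        rfl
      have hiso0 : Lib.Helper98.Sy.Iso (Lib.Helper98.Sy.stdForm d) f0 :=
        Lib.Helper98.Sy.iso_of_mem d _ x.2
      have hzz : z * z = 1 :=
        hzz_of (f0 ^ r) z (Lib.Helper98.Sy.iso_pow f0 hiso0 r) hf
      have hz0 : z ≠ 0 := by
        intro h0
        rw [h0, mul_zero] at hzz
        exact zero_ne_one hzz
      set y : (Fin d ⊕ Fin d → F) →ₗ[F] (Fin d ⊕ Fin d → F) := z • f0 with hy0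
      have hy : y ^ r = 1 := by
        obtain ⟨k, hk⟩ := hrodd
        rw [hy0, smul_pow, hf, smul_smul, ← pow_succ]
        have : r + 1 = 2 * (k + 1) := by omega
        rw [this, pow_mul, pow_two, hzz, one_pow, one_smul]
      have hiso : Lib.Helper98.Sy.Iso (Lib.Helper98.Sy.stdForm d) y := by
        intro u v
        rw [hy0]
        simp only [LinearMap.smul_apply, map_smul, smul_eq_mul]
        rw [← mul_assoc, hzz, one_mul]
        exact hiso0 u v
      rw [hcc] at hk
      obtain ⟨W, hWinv, hWti, hWd⟩ := Lib.Helper98.Ti.exists_fixed_ti hA hV p f hF r (Ne.symm hrp)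
        hr2 hrF y hy hiso d m hfin hmd hk hcase
      refine ⟨W, hWd, (hconvW W).mpr hWti, (hmapinv f0 W).mpr ?_⟩
      intro v hv
      have h1 : f0 v = z • y v := by
        rw [hy0, LinearMap.smul_apply, smul_smul, hzz, one_smul]
      rw [h1]
      exact Submodule.smul_mem _ _ (hWinv v hv)

end Cfsg.Agent.S5955
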