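import Cfsg.Statements.S5956
import Cfsg.Agent.Lib.Helper98.Nd7
import Cfsg.Agent.Lib.Helper72.NdA
import Cfsg.Agent.Lib.Helper02.NdB
import Cfsg.Agent.Lib.Helper80.NdE
import Cfsg.Agent.Lib.Helper85.NdI
import Cfsg.Agent.Lib.Helper75.NdD
import Cfsg.Agent.Lib.Helper50.NdF
import Cfsg.Agent.Lib.Helper50.NdH
import Cfsg.Agent.Lib.Helper66.NdG

set_option autoImplicit false
set_option linter.style.haveILetI false
set_option maxHeartbeats 1600000
open scoped MatrixGroups
open Cfsg

namespace Cfsg.Agent.S5956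

/-- Elements of prime order of PSp_n(q) with no fixed nondegenerate `m`-space. Here `T = PSp_n(q)` with `n = 2d ≥ 4`, `(n, q) ≠ (4, 2)`, realised through the symplectic matrices over the field `F` with `q` elements (preserving the standard alternating form); an element of `T` of prime order `r` is such a matrix `x` with `x^r` scalar and `x` not scalar. For `r ≠ p` let `i` be the multiplicative order of `q` modulo `r`, `c = i` for `i` even and `c = 2i` for `i` odd, and write `k = n mod c`, `ℓ = m mod i`, `ℓ' = m mod c`, `n' = ⌊n/i⌋`, `m' = ⌊m/i⌋`, `t = (r−1)/i`. Let `m` be even with `2 ≤ m < n/2` and let `r` be a prime dividing the number of nondegenerate `m`-spaces. Then every element of `T` of order `r` fixes a nondegenerate `m`-space if and only if one of: (i) `r = p > 2` and every partition of `n` into parts of size at most `p` in which every odd part has even multiplicity contains (as a sub-multiset) a partition of `m` in which every odd part has even multiplicity; (ii) `r = p = 2` and (`n ≡ 2 (mod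 4)` or `m ≡ 0 (mod 4)`); (iii) `r = 2 ≠ p`; (iv) `r ≠ p`, `r > 2`, `c ≤ m` and `k ≥ ℓ'`. -/
theorem result {F : Type*} [Field F] [Fintype F] {p : ℕ} [Fact p.Prime] [CharP F p] {q : ℕ} (hq : Fintype.card F = q)
    (d m : ℕ) (hd : 2 ≤ d) (hT : (d, q) ≠ (2, 2)) (hm : 2 ≤ m) (hme : Even m) (hmd : m < d)
    (r : ℕ) [Fact r.Prime]
    (hrΩ : r ∣ Nat.card {W : Submodule F (Fin d ⊕ Fin d → F) // Module.finrank F ↥W = m ∧ (∀ u ∈ W, u ≠ 0 → ∃ v ∈ W, Cfsg.sympForm d F u v ≠ 0)})
    (i c : ℕ) (hi : i = orderOf (q : ZMod r)) (hc : c = if Even i then i else 2 * i) :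
    (∀ x : ↥(Matrix.symplecticGroup (Fin d) F),
      (∃ z : F, ((x ^ r : ↥(Matrix.symplecticGroup (Fin d) F)) : Matrix (Fin d ⊕ Fin d) (Fin d ⊕ Fin d) F) = z • (1 : Matrix (Fin d ⊕ Fin d) (Fin d ⊕ Fin d) F)) →
      (∀ z : F, (x : Matrix (Fin d ⊕ Fin d) (Fin d ⊕ Fin d) F) ≠ z • (1 : Matrix (Fin d ⊕ Fin d) (Fin d ⊕ Fin d) F)) →
      ∃ W : Submodule F (Fin d ⊕ Fin d → F), Module.finrank F ↥W = m ∧ (∀ u ∈ W, u ≠ 0 → ∃ v ∈ W, Cfsg.sympForm d F u v ≠ 0) ∧
        W.map (Matrix.toLin' (x : Matrix (Fin d ⊕ Fin d) (Fin d ⊕ Fin d) F)) ≤ W) ↔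
    ((r = p ∧ 2 < p ∧ (∀ μ : Multiset ℕ, (∀ a ∈ μ, 0 < a ∧ a ≤ p) → (∀ a : ℕ, Odd a → Even (μ.count a)) → μ.sum = 2 * d →
        ∃ ν : Multiset ℕ, ν ≤ μ ∧ ν.sum = m ∧ ∀ a : ℕ, Odd a → Even (ν.count a))) ∨
     (r = p ∧ p = 2 ∧ ((2 * d) % 4 = 2 ∨ m % 4 = 0)) ∨
     (r = 2 ∧ p ≠ 2) ∨
     (r ≠ p ∧ 2 < r ∧ c ≤ m ∧ m % c ≤ (2 * d) % c)) := by
  classical
  subst hq
  subst hi
  have hr : r.Prime := Fact.out
  have hp : p.Prime := Fact.out
  obtain ⟨f, _, hF⟩ := FiniteField.card F p
  have hfin : Module.finrank F (Fin d ⊕ Fin d → F) = 2 * d := by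
    rw [Module.finrank_pi, Fintype.card_sum, Fintype.card_fin, two_mul]
  have hA := Lib.Helper98.Sy.stdForm_alt (F := F) d
  have hV := Lib.Helper98.Sy.stdForm_nonDeg (F := F) d
  have hform : ∀ u v : Fin d ⊕ Fin d → F,
      Cfsg.sympForm d F u v = Lib.Helper98.Sy.stdForm d u v :=
    fun u v => (Lib.Helper98.Sy.stdForm_apply d u v).symm
  have hcc : c = Lib.Helper98.Sy.cOf (orderOf ((Fintype.card F : ℕ) : ZMod r)) := by
    rw [hc]; rfl
  have hconvW : ∀ W : Submodule F (Fin d ⊕ Fin d → F),
      (∀ u ∈ W, u ≠ 0 → ∃ v ∈ W, Cfsg.sympForm d F u v ≠ 0) ↔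
        Lib.Helper98.Sy.NonDeg (Lib.Helper98.Sy.stdForm d) W := by
    intro W
    constructor
    · intro h u hu hall
      by_contra hu0
      obtain ⟨v, hv, hne⟩ := h u hu hu0
      rw [hform] at hne
      exact hne (hall v hv)
    · intro h u hu hu0
      by_contra hcon
      push Not at hcon
      apply hu0
      apply h u hu
      intro v hv
      rw [← hform]
      exact hcon v hv
  have hmapinv : ∀ (g : (Fin d ⊕ Fin d → F) →ₗ[F] (Fin d ⊕ Fin d → F))
      (W : Submodule F (Fin d ⊕ Fin d → F)), W.map g ≤ W ↔ Lib.Helper98.Elus.Inv g W :=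
    fun g W => ⟨fun h v hv => h ⟨v, hv, rfl⟩, fun h => by
      rintro _ ⟨v, hv, rfl⟩
      exact h v hv⟩
  have hme2 : ∃ s, m = 2 * s := by
    obtain ⟨s, hs⟩ := hme
    exact ⟨s, by omega⟩
  obtain ⟨s, hs⟩ := hme2
  -- `z ^ 2 = 1` for scalars of isometries
  have hzz_of : ∀ (g : (Fin d ⊕ Fin d → F) →ₗ[F] (Fin d ⊕ Fin d → F)) (z : F),
      Lib.Helper98.Sy.Iso (Lib.Helper98.Sy.stdForm d) g → g = z • 1 → z * z = 1 := by
    intro g z hg hgz
    obtain ⟨u, hu0⟩ : ∃ u : Fin d ⊕ Fin d → F, u ≠ 0 := by
      refine ⟨fun _ => 1, fun h => ?_⟩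
      have := congrFun h (Sum.inl ⟨0, by omega⟩)
      simp at this
    have : ∃ v, Lib.Helper98.Sy.stdForm d u v ≠ 0 := by
      by_contra hall
      push Not at hall
      exact hu0 (hV u Submodule.mem_top (fun v _ => hall v))
    obtain ⟨v, hv⟩ := this
    have h1 := hg u v
    rw [hgz] at h1
    simp only [LinearMap.smul_apply, Module.End.one_apply, map_smul, smul_eq_mul] at h1
    have h2 : (z * z - 1) * Lib.Helper98.Sy.stdForm d u v = 0 := by
      rw [sub_mul, one_mul, sub_eq_zero, mul_assoc]
      exact h1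
    rcases mul_eq_zero.mp h2 with h3 | h3
    · exact sub_eq_zero.mp h3
    · exact absurd h3 hv
  -- reformulation of the left-hand side
  have hLconv : (∀ x : ↥(Matrix.symplecticGroup (Fin d) F),
      (∃ z : F, ((x ^ r : ↥(Matrix.symplecticGroup (Fin d) F)) : Matrix (Fin d ⊕ Fin d) (Fin d ⊕ Fin d) F) = z • (1 : Matrix (Fin d ⊕ Fin d) (Fin d ⊕ Fin d) F)) →
      (∀ z : F, (x : Matrix (Fin d ⊕ Fin d) (Fin d ⊕ Fin d) F) ≠ z • (1 : Matrix (Fin d ⊕ Fin d) (Fin d ⊕ Fin d) F)) →
      ∃ W : Submodule F (Fin d ⊕ Fin d → F), Module.finrank F ↥W = m ∧ (∀ u ∈ W, u ≠ 0 → ∃ v ∈ W, Cfsg.sympForm d F u v ≠ 0) ∧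
        W.map (Matrix.toLin' (x : Matrix (Fin d ⊕ Fin d) (Fin d ⊕ Fin d) F)) ≤ W) ↔
      (∀ x : ↥(Matrix.symplecticGroup (Fin d) F),
      (∃ z : F, ((x ^ r : ↥(Matrix.symplecticGroup (Fin d) F)) : Matrix (Fin d ⊕ Fin d) (Fin d ⊕ Fin d) F) = z • (1 : Matrix (Fin d ⊕ Fin d) (Fin d ⊕ Fin d) F)) →
      (∀ z : F, (x : Matrix (Fin d ⊕ Fin d) (Fin d ⊕ Fin d) F) ≠ z • (1 : Matrix (Fin d ⊕ Fin d) (Fin d ⊕ Fin d) F)) →
      ∃ W : Submodule F (Fin d ⊕ Fin d → F), Module.finrank F W = m ∧
        Lib.Helper98.Sy.NonDeg (Lib.Helper98.Sy.stdForm d) W ∧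
        Lib.Helper98.Elus.Inv (Matrix.toLin' (x : Matrix (Fin d ⊕ Fin d) (Fin d ⊕ Fin d) F)) W) := by
    constructor
    · intro h x hx1 hx2
      obtain ⟨W, h1, h2, h3⟩ := h x hx1 hx2
      exact ⟨W, h1, (hconvW W).mp h2, (hmapinv _ W).mp h3⟩
    · intro h x hx1 hx2
      obtain ⟨W, h1, h2, h3⟩ := h x hx1 hx2
      exact ⟨W, h1, (hconvW W).mpr h2, (hmapinv _ W).mpr h3⟩
  rw [hLconv]
  -- the existence direction: reduce to an isometry `y` with `y ^ r = 1` (odd `r`)
  have hexists_odd : Odd r → (∀ (y : (Fin d ⊕ Fin d → F) →ₗ[F] (Fin d ⊕ Fin d → F)), y ^ r = 1 →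
      Lib.Helper98.Sy.Iso (Lib.Helper98.Sy.stdForm d) y →
      ∃ W : Submodule F (Fin d ⊕ Fin d → F), Lib.Helper98.Elus.Inv y W ∧
        Lib.Helper98.Sy.NonDeg (Lib.Helper98.Sy.stdForm d) W ∧ Module.finrank F W = m) →
      ∀ x : ↥(Matrix.symplecticGroup (Fin d) F),
      (∃ z : F, ((x ^ r : ↥(Matrix.symplecticGroup (Fin d) F)) : Matrix (Fin d ⊕ Fin d) (Fin d ⊕ Fin d) F) = z • (1 : Matrix (Fin d ⊕ Fin d) (Fin d ⊕ Fin d) F)) →
      (∀ z : F, (x : Matrix (Fin d ⊕ Fin d) (Fin d ⊕ Fin d) F) ≠ z • (1 : Matrix (Fin d ⊕ Fin d) (Fin d ⊕ Fin d) F)) →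
      ∃ W : Submodule F (Fin d ⊕ Fin d → F), Module.finrank F W = m ∧
        Lib.Helper98.Sy.NonDeg (Lib.Helper98.Sy.stdForm d) W ∧
        Lib.Helper98.Elus.Inv (Matrix.toLin' (x : Matrix (Fin d ⊕ Fin d) (Fin d ⊕ Fin d) F)) W := by
    intro hrodd hmain x ⟨z, hz⟩ _
    set f0 : (Fin d ⊕ Fin d → F) →ₗ[F] (Fin d ⊕ Fin d → F) :=
      Matrix.toLin' (x : Matrix (Fin d ⊕ Fin d) (Fin d ⊕ Fin d) F) with hf0
    have hf : f0 ^ r = z • 1 := by
      rw [hf0, ← Matrix.toLin'_pow, ← SubmonoidClass.coe_pow, hz, map_smul,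
        Matrix.toLin'_one]
      rfl
    have hiso0 : Lib.Helper98.Sy.Iso (Lib.Helper98.Sy.stdForm d) f0 :=
      Lib.Helper98.Sy.iso_of_mem d _ x.2
    have hzz : z * z = 1 :=
      hzz_of (f0 ^ r) z (Lib.Helper98.Sy.iso_pow f0 hiso0 r) hf
    set y : (Fin d ⊕ Fin d → F) →ₗ[F] (Fin d ⊕ Fin d → F) := z • f0 with hy0
    have hy : y ^ r = 1 := by
      obtain ⟨k, hk⟩ := hrodd
      rw [hy0, smul_pow, hf, smul_smul, ← pow_succ]
      have : r + 1 = 2 * (k + 1) := by omega
      rw [this, pow_mul, pow_two, hzz, one_pow, one_smul]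
    have hiso : Lib.Helper98.Sy.Iso (Lib.Helper98.Sy.stdForm d) y := by
      intro u v
      rw [hy0]
      simp only [LinearMap.smul_apply, map_smul, smul_eq_mul]
      rw [← mul_assoc, hzz, one_mul]
      exact hiso0 u v
    obtain ⟨W, hWinv, hWnd, hWd⟩ := hmain y hy hiso
    refine ⟨W, hWd, hWnd, ?_⟩
    intro v hv
    have h1 : f0 v = z • y v := by
      rw [hy0, LinearMap.smul_apply, smul_smul, hzz, one_smul]
    rw [h1]
    exact Submodule.smul_mem _ _ (hWinv v hv)
  -- the existence direction for `r = 2`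
  have hexists_two : r = 2 → (∀ (g : (Fin d ⊕ Fin d → F) →ₗ[F] (Fin d ⊕ Fin d → F)) (z : F),
      z * z = 1 → g ^ 2 = z • 1 →
      Lib.Helper98.Sy.Iso (Lib.Helper98.Sy.stdForm d) g →
      ∃ W : Submodule F (Fin d ⊕ Fin d → F), Lib.Helper98.Elus.Inv g W ∧
        Lib.Helper98.Sy.NonDeg (Lib.Helper98.Sy.stdForm d) W ∧ Module.finrank F W = m) →
      ∀ x : ↥(Matrix.symplecticGroup (Fin d) F),
      (∃ z : F, ((x ^ r : ↥(Matrix.symplecticGroup (Fin d) F)) : Matrix (Fin d ⊕ Fin d) (Fin d ⊕ Fin d) F) = z • (1 : Matrix (Fin d ⊕ Fin d) (Fin d ⊕ Fin d) F)) →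
      (∀ z : F, (x : Matrix (Fin d ⊕ Fin d) (Fin d ⊕ Fin d) F) ≠ z • (1 : Matrix (Fin d ⊕ Fin d) (Fin d ⊕ Fin d) F)) →
      ∃ W : Submodule F (Fin d ⊕ Fin d → F), Module.finrank F W = m ∧
        Lib.Helper98.Sy.NonDeg (Lib.Helper98.Sy.stdForm d) W ∧
        Lib.Helper98.Elus.Inv (Matrix.toLin' (x : Matrix (Fin d ⊕ Fin d) (Fin d ⊕ Fin d) F)) W := by
    intro hr2 hmain x ⟨z, hz⟩ _
    set f0 : (Fin d ⊕ Fin d → F) →ₗ[F] (Fin d ⊕ Fin d → F) :=
      Matrix.toLin' (x : Matrix (Fin d ⊕ Fin d) (Fin d ⊕ Fin d) F) with hf0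
    have hf : f0 ^ r = z • 1 := by
      rw [hf0, ← Matrix.toLin'_pow, ← SubmonoidClass.coe_pow, hz, map_smul,
        Matrix.toLin'_one]
      rfl
    have hiso0 : Lib.Helper98.Sy.Iso (Lib.Helper98.Sy.stdForm d) f0 :=
      Lib.Helper98.Sy.iso_of_mem d _ x.2
    have hzz : z * z = 1 :=
      hzz_of (f0 ^ r) z (Lib.Helper98.Sy.iso_pow f0 hiso0 r) hf
    rw [hr2] at hf
    obtain ⟨W, hWinv, hWnd, hWd⟩ := hmain f0 z hzz hf hiso0
    exact ⟨W, hWd, hWnd, hWinv⟩
  have hm2d : m ≤ 2 * d := by omega
  by_cases hrp : r = p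
  · subst hrp
    by_cases hr2 : r = 2
    · -- characteristic 2
      have h2F : (2 : F) = 0 := by
        have := CharP.cast_eq_zero F r
        rw [hr2] at this
        exact_mod_cast this
      constructor
      · intro hL
        right; left
        refine ⟨rfl, hr2, ?_⟩
        by_contra hcon
        push Not at hcon
        obtain ⟨hd4, hm4⟩ := hcon
        obtain ⟨d', hd'⟩ : ∃ d', d = 2 * d' := ⟨d / 2, by omega⟩
        obtain ⟨V', i1, i2, i3, B', u', hA', hnd', hdim', hiso', hu'2, hns', hall⟩ :=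
          Lib.Helper66.Nd.exists_bad_invol_model (F := F) h2F d' (by omega)
        rw [hr2] at hL
        obtain ⟨W', hW'inv, hW'nd, hW'd⟩ := Lib.Helper98.Nd.transport_fixed d m 2 hL B' hA' hnd'
          (by omega) u' hiso' hu'2 hns'
        have := hall W' hW'inv hW'nd
        rw [hW'd] at this
        omega
      · rintro (⟨-, h22, -⟩ | ⟨-, -, hcond⟩ | ⟨-, hne⟩ | ⟨hne, -⟩)
        · omega
        · apply hexists_two hr2
          intro g z hzz hg hgiso
          have hz1 : z = 1 := by
            have h0 : (z - 1) * (z - 1) = 0 := by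
              have : (z - 1) * (z - 1) = z * z - 2 * z + 1 := by ring
              rw [this, hzz, h2F]
              have h11 : (1 : F) + 1 = 0 := by rw [← two_mul, h2F, zero_mul]
              linear_combination h11
            have := mul_self_eq_zero.mp h0
            exact sub_eq_zero.mp this
          rw [hz1, one_smul] at hg
          exact Lib.Helper50.Nd.exists_inv_nonDeg_char_two h2F hA hV g hg hgiso d m hfin hme hm2d
            (by
              rcases hcond with h | h
              · left
                rw [Nat.odd_iff]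
                omega
              · right; exact h)
        · exact absurd hr2 hne
        · exact absurd rfl hne
    · -- odd characteristic
      have hr3 : 2 < r := by
        have := hr.two_le
        omega
      have hrodd : Odd r := hr.odd_of_ne_two hr2
      have h2F : (2 : F) ≠ 0 := by
        intro h
        have h' : ((2 : ℕ) : F) = 0 := by exact_mod_cast h
        rw [CharP.cast_eq_zero_iff F r] at h'
        have := Nat.le_of_dvd (by omega) h'
        omega
      have huniq : Lib.Helper98.Nd.UniqStatement := fun μ μ' h1 h2 h3 =>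
        Lib.Helper02.Nd.eq_of_sum_min_eq μ μ' h1 h2 h3
      constructor
      · intro hL
        left
        refine ⟨rfl, hr3, ?_⟩
        intro μ hμ1 hμ2 hμs
        by_cases hall1 : ∀ a ∈ μ, a = 1
        · have hμ : μ = Multiset.replicate (Multiset.card μ) 1 := Multiset.eq_replicate_card.mpr hall1
          have hcard : Multiset.card μ = 2 * d := by
            rw [hμ, Multiset.sum_replicate] at hμs
            simpa using hμs
          refine ⟨Multiset.replicate m 1, ?_, ?_, ?_⟩
          · rw [hμ, hcard, Multiset.replicate_le_replicate]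
            exact hm2d
          · rw [Multiset.sum_replicate]
            simp
          · intro a _
            rw [Multiset.count_replicate]
            split_ifs
            · exact hme
            · exact Even.zero
        · push Not at hall1
          obtain ⟨a0, ha0μ, ha01⟩ := hall1
          have ha02 : 2 ≤ a0 := by
            have := (hμ1 a0 ha0μ).1
            omega
          have hcardlt : Multiset.card μ < μ.sum := by
            have h1 : μ = a0 ::ₘ μ.erase a0 := (Multiset.cons_erase ha0μ).symm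
            have h2 : Multiset.card (μ.erase a0) • 1 ≤ (μ.erase a0).sum :=
              Multiset.card_nsmul_le_sum (fun a ha => (hμ1 a (Multiset.mem_of_mem_erase ha)).1)
            rw [h1, Multiset.card_cons, Multiset.sum_cons]
            simp only [smul_eq_mul, mul_one] at h2
            omega
          obtain ⟨V', i1, i2, i3, B', M, hA', hnd', hskew, hMp, hkerM⟩ :=
            Lib.Helper75.Nd.exists_skew_model (F := F) (p := r) h2F μ hμ1 hμ2
          obtain ⟨u', hiso', hu'p, hkeru⟩ := Lib.Helper80.Nd.exists_cayley hr2 B' M hskew hMp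
          have hker : ∀ k, Module.finrank F (LinearMap.ker ((u' - 1) ^ k)) =
              (μ.map (fun a => min a k)).sum := by
            intro k
            rw [hkeru k]
            exact hkerM k
          have hNp' : (u' - 1) ^ r = 0 := by
            rw [← LinearMap.ker_eq_top, hkeru r, hMp]
            exact LinearMap.ker_zero
          have hdim' : Module.finrank F V' = 2 * d := by
            have h1 := hkerM r
            rw [hMp, LinearMap.ker_zero, finrank_top] at h1
            rw [h1, ← hμs]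
            congr 1
            conv_rhs => rw [← Multiset.map_id μ]
            apply Multiset.map_congr rfl
            intro a ha
            simp only [id]
            exact min_eq_left (hμ1 a ha).2
          have hk1 : Module.finrank F (LinearMap.ker (u' - 1)) = Multiset.card μ := by
            have h1 := hker 1
            rw [pow_one] at h1
            rw [h1]
            have : μ.map (fun a => min a 1) = μ.map (fun _ => 1) := by
              apply Multiset.map_congr rfl
              intro a ha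
              exact min_eq_right (hμ1 a ha).1
            rw [this, Multiset.map_const', Multiset.sum_replicate]
            simp
          have hns' : ∀ z : F, u' ≠ z • 1 := by
            intro z hz
            by_cases hz1 : z = 1
            · have : LinearMap.ker (u' - 1) = ⊤ := by
                rw [LinearMap.ker_eq_top, hz, hz1, one_smul, sub_self]
              rw [this, finrank_top, hdim'] at hk1
              omega
            · have : LinearMap.ker (u' - 1) = ⊥ := by
                rw [LinearMap.ker_eq_bot']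
                intro v hv
                rw [hz, LinearMap.sub_apply, LinearMap.smul_apply, Module.End.one_apply] at hv
                have h' : (z - 1) • v = 0 := by rw [sub_smul, one_smul]; exact hv
                rcases smul_eq_zero.mp h' with h | h
                · exact absurd (sub_eq_zero.mp h) hz1
                · exact h
              rw [this, finrank_bot] at hk1
              have hcpos : 0 < Multiset.card μ := Multiset.card_pos_iff_exists_mem.mpr ⟨a0, ha0μ⟩
              omega
          obtain ⟨W', hW'inv, hW'nd, hW'd⟩ := Lib.Helper98.Nd.transport_fixed d m r hL B' hA' hnd'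
            hdim' u' hiso' hu'p hns'
          have hchain' : Lib.Helper98.Nd.ChainStatement F V' := fun N e a v hN hli k =>
            Lib.Helper85.Nd.finrank_inf_ker_of_chains N e a v hN hli k
          obtain ⟨ν, hν1, hν2, hν3⟩ := Lib.Helper98.Nd.exists_sub_type hchain' huniq hA' hnd' h2F r
            hr.pos u' hu'p hNp' hiso' μ (fun a ha => (hμ1 a ha).1) hker W' hW'inv hW'nd
          exact ⟨ν, hν1, by rw [hν2, hW'd], hν3⟩
      · rintro (⟨-, -, hpart⟩ | ⟨-, h22, -⟩ | ⟨h2', -⟩ | ⟨hne, -⟩)
        · apply hexists_odd hrodd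
          intro y hy hiso
          have hchain : Lib.Helper98.Nd.ChainStatement F (Fin d ⊕ Fin d → F) :=
            fun N e a v hN hli k => Lib.Helper85.Nd.finrank_inf_ker_of_chains N e a v hN hli k
          exact Lib.Helper98.Nd.exists_fixed_unip hchain hA hV h2F r hr.pos y hy
            (Lib.Helper98.Nd.sub_one_pow_char y hy) hiso d m hfin hpart
        · exact absurd h22 hr2
        · exact absurd h2' hr2
        · exact absurd rfl hne
  · have hrF : (r : F) ≠ 0 := by
      intro h
      rw [CharP.cast_eq_zero_iff F p] at h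
      exact hrp ((Nat.prime_dvd_prime_iff_eq hp hr).mp h).symm
    by_cases hr2 : r = 2
    · -- involutions in odd characteristic
      have hp2 : p ≠ 2 := fun h => hrp (hr2.trans h.symm)
      have h2F : (2 : F) ≠ 0 := by
        have := hrF
        rw [hr2] at this
        exact_mod_cast this
      constructor
      · intro _
        right; right; left
        exact ⟨hr2, hp2⟩
      · intro _
        apply hexists_two hr2
        intro g z hzz hg hgiso
        exact Lib.Helper50.Nd.exists_inv_nonDeg_invol h2F hA hV g z (mul_self_eq_one_iff.mp hzz) hg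
          hgiso d m hfin hme hm2d
    · -- odd primes different from the characteristic
      have hr3 : 2 < r := by
        have := hr.two_le
        omega
      have hrodd : Odd r := hr.odd_of_ne_two hr2
      have hi1 : 1 ≤ orderOf ((Fintype.card F : ℕ) : ZMod r) :=
        Lib.Helper98.Elus.orderOf_card_pos p f hF r (Ne.symm hrp)
      set i := orderOf ((Fintype.card F : ℕ) : ZMod r) with hi
      have hc1 : 1 ≤ c := by
        rw [hcc]
        exact Lib.Helper98.Sy.cOf_pos _ hi1
      constructor
      · intro hL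
        right; right; right
        -- consequences of the divisibility hypothesis
        have hΩ' : r ∣ Nat.card {W : Submodule F (Fin d ⊕ Fin d → F) //
            Module.finrank F W = 2 * s ∧ Lib.Helper98.Sy.NonDeg (Lib.Helper98.Sy.stdForm d) W} := by
          have h1 : Nat.card {W : Submodule F (Fin d ⊕ Fin d → F) // Module.finrank F ↥W = m ∧
              (∀ u ∈ W, u ≠ 0 → ∃ v ∈ W, Cfsg.sympForm d F u v ≠ 0)} =
              Nat.card {W : Submodule F (Fin d ⊕ Fin d → F) //
                Module.finrank F W = 2 * s ∧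
                  Lib.Helper98.Sy.NonDeg (Lib.Helper98.Sy.stdForm d) W} :=
            Nat.card_congr (Equiv.subtypeEquivRight fun W => and_congr (by rw [hs]) (hconvW W))
          rw [← h1]
          exact hrΩ
        obtain ⟨j0, hj0s, hj0⟩ := Lib.Helper72.Nd.exists_of_dvd_card_nd hA hV d s hfin (by omega)
          r hrF hΩ'
        rw [← hi] at hj0
        have hcdvd : c ∣ 2 * (d - j0) := by
          rw [hcc]
          exact Lib.Helper98.Sy.cOf_dvd i _ hj0 (even_two_mul _)
        obtain ⟨c', hc'⟩ := Lib.Helper98.Sy.cOf_even i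
        have hcc' : Lib.Helper98.Sy.cOf i = 2 * c' := by omega
        have hc2c : c = 2 * c' := by rw [hcc, hcc']
        have hc'1 : 1 ≤ c' := by omega
        have hcn : c ≤ 2 * d := by
          have := Nat.le_of_dvd (by omega) hcdvd
          omega
        have hc'd : c' ≤ d := by omega
        -- the model
        have hkey1 : m % c ≤ (2 * d) % c := by
          obtain ⟨y0, h0iso, h0r, h0ne, h0G⟩ :=
            Lib.Helper98.Sy.exists_block (F := F) p f hF r (Ne.symm hrp) hr2 hrF c' hcc'
          have hmod : (2 * d) % c = 2 * (d % c') := by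
            rw [hc2c, Nat.mul_mod_mul_left]
          have hdm : c' * (d / c') + d % c' = d := Nat.div_add_mod d c'
          have hjpos : 1 ≤ d / c' := Nat.div_pos hc'd (by omega)
          have hej : d / c' * (2 * c') + 2 * (d % c') = 2 * d := by
            have : d / c' * (2 * c') = 2 * (c' * (d / c')) := by ring
            omega
          have hVd : Module.finrank F (Lib.Helper98.Sy.VS (F := F) c' (d % c') (d / c')) = 2 * d := by
            rw [Lib.Helper98.Sy.finrank_VS]
            exact hej
          have hns := Lib.Helper98.Sy.yS_not_scalar (e' := d % c') (j := d / c') r hrodd hjpos hc'1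
            y0 h0iso h0r h0ne
          have hyr := Lib.Helper98.Sy.yS_pow_eq_one (e' := d % c') (j := d / c') r y0 h0r
          have hyiso := Lib.Helper98.Sy.yS_iso (e' := d % c') (j := d / c') y0 h0iso
          obtain ⟨W', hW'inv, hW'nd, hW'd⟩ := Lib.Helper98.Nd.transport_fixed d m r hL
            (Lib.Helper98.Sy.BS (F := F) c' (d % c') (d / c')) Lib.Helper98.Sy.BS_alt
            Lib.Helper98.Sy.BS_nonDeg hVd (Lib.Helper98.Sy.yS y0) hyiso hyr hns
          have hs' := Lib.Helper98.Elus.finrank_V0_add_V1 r hrF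
            (Lib.Helper98.Sy.yS (e' := d % c') (j := d / c') y0) hyr
          have hV1 : Module.finrank F (Lib.Helper98.Elus.V1 r
              (Lib.Helper98.Sy.yS (e' := d % c') (j := d / c') y0)) = d / c' * (2 * c') :=
            Lib.Helper98.Sy.finrank_ker_gsum_yS r hrF y0 h0G
          rw [hV1, hVd] at hs'
          have hV0 : Module.finrank F (Lib.Helper98.Elus.V0
              (Lib.Helper98.Sy.yS (e' := d % c') (j := d / c') y0)) = 2 * (d % c') := by omega
          have hlt : d % c' < c' := Nat.mod_lt _ (by omega)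
          have hb := Lib.Helper98.Nd.mod_le_of_inv_nonDeg Lib.Helper98.Sy.BS_alt
            Lib.Helper98.Sy.BS_nonDeg p f hF r (Ne.symm hrp) hr2 hrF (Lib.Helper98.Sy.yS y0) hyr hyiso
            W' hW'inv hW'nd (by rw [hV0, ← hi, hcc']; omega)
          rw [hW'd, hV0, ← hi, ← hcc] at hb
          rw [hmod]
          exact hb
        refine ⟨hrp, hr3, ?_, hkey1⟩
        by_contra hlt
        push Not at hlt
        obtain ⟨e, he⟩ := hcdvd
        have h1 : 2 * d = 2 * j0 + c * e := by omega
        have h2 : (2 * d) % c = 2 * j0 := by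
          rw [h1, Nat.add_mul_mod_self_left]
          exact Nat.mod_eq_of_lt (by omega)
        have h3 : m % c = m := Nat.mod_eq_of_lt hlt
        omega
      · rintro (⟨h, -, -⟩ | ⟨h, -, -⟩ | ⟨h, -⟩ | ⟨-, -, hcm, hk⟩)
        · exact absurd h hrp
        · exact absurd h hrp
        · exact absurd h hr2
        apply hexists_odd hrodd
        intro y hy hiso
        rw [hcc] at hk
        exact Lib.Helper98.Nd.exists_fixed_nd hA hV p f hF r (Ne.symm hrp) hr2 hrF y hy hiso d m hfin
          hme hm2d hk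

end Cfsg.Agent.S5956
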