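import Cfsg.Statements.S5958
import Cfsg.Agent.Lib.Helper98.Elus6
import Cfsg.Agent.Lib.Helper98.Elus16
import Cfsg.Agent.Lib.Helper98.Elus17
import Cfsg.Agent.Lib.Helper98.Elus19
import Cfsg.Agent.Lib.Helper98.Elus20

set_option autoImplicit false
set_option linter.style.haveILetI false
set_option maxHeartbeats 800000
open scoped MatrixGroups
open Cfsg

namespace Cfsg.Agent.S5958

/-- Elements of odd prime order of PSL_n(q) and imprimitive subgroups. Here `T = PSL_n(F)` for a field `F` with `q = p^f` elements (`n ≥ 2`, `(n, q) ≠ (2, 2), (2, 3)`), `n = a·t` with `t ≥ 2`, and Ω is the set of direct-sum decompositions of `F^n` into `t` subspaces of dimension `a` (unordered; their number is the number of ordered ones divided by `t!`), whose stabilizers are the imprimitive subgroups of type GL_a(q) ≀ S_t (maximal except in some small cases; maximality is not assumed); an element of `T` of prime order `r` (a matrix `x` of determinant 1 with `x^r` scalar, `x` not scalar) fixes a point of Ω when it permutes the summands of some such decomposition.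 Let `r ≠ p` be an odd prime dividing the number of such decompositions, let `c` be the multiplicative order of `q` modulo `r`, and write `k = n mod c`, `ℓ = a mod c`. Then every element of `T` of order `r` stabilizes such a decomposition if and only if either `a = 1`, `c = r − 1 > 1` and `n ≤ k·r`, or `c ≤ a` and `k = t·ℓ`. -/
theorem result {F : Type*} [Field F] [Fintype F] {p : ℕ} [Fact p.Prime] [CharP F p] {q : ℕ} (hq : Fintype.card F = q)
    (n a t : ℕ) (hn : 2 ≤ n) (hT : (n, q) ≠ (2, 2) ∧ (n, q) ≠ (2, 3)) (hat : n = a * t) (ha : 1 ≤ a) (ht : 2 ≤ t)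
    (r : ℕ) [Fact r.Prime] (hr2 : r ≠ 2) (hrp : r ≠ p) (hΩ : r ∣ Nat.card {D : Fin t → Submodule F (Fin n → F) // Cfsg.Geo.IsMDecomposition a D} / Nat.factorial t)
    (c : ℕ) (hc : c = orderOf (q : ZMod r)) :
    (∀ x : Matrix.SpecialLinearGroup (Fin n) F,
      (∃ z : F, ((x ^ r : Matrix.SpecialLinearGroup (Fin n) F) : Matrix (Fin n) (Fin n) F) = z • (1 : Matrix (Fin n) (Fin n) F)) →
      (∀ z : F, (x : Matrix (Fin n) (Fin n) F) ≠ z • (1 : Matrix (Fin n) (Fin n) F)) →
      ∃ D : Fin t → Submodule F (Fin n → F), Cfsg.Geo.IsMDecomposition a D ∧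
        ∃ σ : Equiv.Perm (Fin t), ∀ j, (D j).map (Matrix.toLin' (x : Matrix (Fin n) (Fin n) F)) = D (σ j)) ↔
    ((a = 1 ∧ 1 < c ∧ c = r - 1 ∧ n ≤ (n % c) * r) ∨ (c ≤ a ∧ n % c = t * (a % c))) := by
  classical
  subst hq
  have hr : r.Prime := Fact.out
  have hp : p.Prime := Fact.out
  obtain ⟨f, _, hF⟩ := FiniteField.card F p
  have hfin : Module.finrank F (Fin n → F) = n := Module.finrank_fin_fun F
  have hrF : (r : F) ≠ 0 := by
    intro h
    rw [CharP.cast_eq_zero_iff F p] at h
    exact hrp ((Nat.prime_dvd_prime_iff_eq hp hr).mp h).symm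
  have hc1 : 1 ≤ c := by
    rw [hc]
    exact Lib.Helper98.Elus.orderOf_card_pos p f hF r (Ne.symm hrp)
  have hone : c = 1 ↔ r ∣ Fintype.card F - 1 := by
    rw [hc]
    exact Lib.Helper98.Elus.orderOf_eq_one_iff_dvd r
  have hr2' : 2 ≤ r := hr.two_le
  have hqne : ((Fintype.card F : ℕ) : ZMod r) ≠ 0 := by
    rw [Ne, ZMod.natCast_eq_zero_iff, hF]
    intro h
    have := hr.dvd_of_dvd_pow h
    rw [Nat.prime_dvd_prime_iff_eq hr hp] at this
    exact hrp this
  have hcr : c ≤ r - 1 := by
    rw [hc]
    apply Nat.le_of_dvd (by omega)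
    apply orderOf_dvd_of_pow_eq_one
    exact ZMod.pow_card_sub_one_eq_one hqne
  have hconv : ∀ D : Fin t → Submodule F (Fin n → F),
      Cfsg.Geo.IsMDecomposition a D ↔ Lib.Helper98.Elus.IsDec a D :=
    fun D => ⟨fun h => ⟨h.finrank_eq, h.indep, h.iSup_eq_top⟩,
      fun h => ⟨ht, ha, h.1, h.2.1, h.2.2⟩⟩
  constructor
  · -- every element permutes a decomposition ⇒ the arithmetic condition
    intro hL
    have hcn : c ≤ n := by
      rw [hc]
      apply Lib.Helper98.Elus.le_of_dvd_card_isDec (p := p) n a t hat ha (by omega) r hrp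
      have h1 : Nat.card {D : Fin t → Submodule F (Fin n → F) // Cfsg.Geo.IsMDecomposition a D} =
          Nat.card {D : Fin t → Submodule F (Fin n → F) // Lib.Helper98.Elus.IsDec a D} :=
        Nat.card_congr (Equiv.subtypeEquivRight hconv)
      rw [← h1]
      exact hΩ
    by_contra hR
    have hc2 : 2 ≤ c := by
      by_contra h
      have hc_one : c = 1 := by omega
      apply hR
      right
      refine ⟨by omega, ?_⟩
      rw [hc_one, Nat.mod_one, Nat.mod_one, mul_zero]
    have hnr1 : ¬ r ∣ Fintype.card F - 1 := fun h => by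
      have := hone.mpr h
      omega
    have hcop : Nat.Coprime (Fintype.card F - 1) r :=
      ((Nat.Prime.coprime_iff_not_dvd hr).mpr hnr1).symm
    obtain ⟨fs, hmonic, hdeg, hprod⟩ :=
      Lib.Helper98.Elus.cyclo_factors (F := F) p f hF r (Ne.symm hrp)
    have hfs : fs ≠ [] := by
      intro h
      rw [h, List.prod_nil] at hprod
      have h1 := congrArg Polynomial.natDegree hprod
      rw [Polynomial.natDegree_one, Polynomial.natDegree_cyclotomic,
        Nat.totient_prime hr] at h1
      omega
    obtain ⟨P, hPfs⟩ := List.exists_mem_of_ne_nil fs hfs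
    have hPm := hmonic P hPfs
    have hPd : P.natDegree = orderOf ((Fintype.card F : ℕ) : ZMod r) := hdeg P hPfs
    have hP : P ∣ Polynomial.cyclotomic r F := by
      rw [← hprod]; exact List.dvd_prod hPfs
    haveI := hPm.finite_adjoinRoot
    -- numerical data of a permuted decomposition for the model element
    have key : ∀ e j : ℕ, 1 ≤ j → e + j * c = n → ∃ σ : Equiv.Perm (Fin t),
        (∀ s, σ s ≠ s → a ≤ e ∧ r * a ≤ j * c + a) ∧
        ((∀ s, σ s = s) → ∃ gs : Fin t → ℕ, (∀ s, ∃ b, a = gs s + c * b) ∧ ∑ s, gs s = e) ∧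
        (a = 1 → t ≤ r * e) := by
      intro e j hj hej
      have hV : Module.finrank F (Lib.Helper98.Elus.VB P e j) = n := by
        rw [Lib.Helper98.Elus.finrank_VB e j r hP hPm, hPd, ← hc]
        exact hej
      obtain ⟨hns, -⟩ :=
        Lib.Helper98.Elus.constr_ge_two e j r hP hrF hPm hPd (hc ▸ hc2) hj
      have hyr := Lib.Helper98.Elus.yB_pow_r (e := e) (t := j) r hP
      have hdet : LinearMap.det (Lib.Helper98.Elus.yB P e j) = 1 := by
        apply Lib.Helper98.Elus.eq_one_of_pow_eq_one_of_coprime r hr.ne_zero hcop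
        rw [← map_pow, hyr, map_one]
      obtain ⟨x, hx1, hx2, e', he'⟩ := Lib.Helper98.Elus.transport2 n hV _ hdet r 1
        (by rw [hyr, one_smul]) hns
      obtain ⟨D, hD, σ, hσ⟩ := hL x ⟨1, hx1⟩ hx2
      let D' : Fin t → Submodule F (Lib.Helper98.Elus.VB P e j) :=
        fun s => (D s).map (e' : (Fin n → F) →ₗ[F] Lib.Helper98.Elus.VB P e j)
      have hD'd : ∀ s, Module.finrank F (D' s) = a := by
        intro s
        show Module.finrank F ↥((D s).map (e' : (Fin n → F) →ₗ[F] Lib.Helper98.Elus.VB P e j)) = a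
        rw [LinearEquiv.finrank_map_eq]
        exact hD.finrank_eq s
      have hD'ind : iSupIndep D' := hD.indep.map_orderIso (Submodule.orderIsoMapComap e')
      have hD'sup : iSup D' = ⊤ := by
        show (⨆ s, (D s).map (e' : (Fin n → F) →ₗ[F] Lib.Helper98.Elus.VB P e j)) = ⊤
        rw [← Submodule.map_iSup]
        have h3 : (⨆ s, D s) = ⊤ := hD.iSup_eq_top
        rw [h3, Submodule.map_top, LinearEquiv.range]
      have hσ' : ∀ s, (D' s).map (Lib.Helper98.Elus.yB P e j) = D' (σ s) := by
        intro s
        show ((D s).map (e' : (Fin n → F) →ₗ[F] Lib.Helper98.Elus.VB P e j)).map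
          (Lib.Helper98.Elus.yB P e j) =
          (D (σ s)).map (e' : (Fin n → F) →ₗ[F] Lib.Helper98.Elus.VB P e j)
        rw [← hσ s, ← Submodule.map_comp, ← Submodule.map_comp]
        congr 1
        apply LinearMap.ext
        intro w
        simp only [LinearMap.coe_comp, Function.comp_apply, LinearEquiv.coe_coe]
        exact (he' w).symm
      have hnum := Lib.Helper98.Elus.perm_dec_numeric r hrF (Lib.Helper98.Elus.yB P e j) hyr D'
        hD'd ha hD'ind hD'sup σ hσ'
      rw [Lib.Helper98.Elus.finrank_range_gsum_yB e j r hP hrF,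
        Lib.Helper98.Elus.finrank_ker_gsum_yB e j r hP hrF hPm, hPd, ← hc] at hnum
      exact ⟨σ, hnum.1, hnum.2.1, fun h => hnum.2.2 h hc2⟩
    have hdm : n % c + n / c * c = n := Nat.mod_add_div' n c
    have hjpos : 1 ≤ n / c := Nat.div_pos hcn (by omega)
    have hklt : n % c < c := Nat.mod_lt n (by omega)
    by_cases hca : c ≤ a
    · -- case (B)
      have hk : n % c ≠ t * (a % c) := fun h => hR (Or.inr ⟨hca, h⟩)
      have htl : c ≤ t * (a % c) := by
        by_contra hlt
        apply hk
        have e1 : a = c * (a / c) + a % c := (Nat.div_add_mod a c).symm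
        have e2 : n = (t * (a / c)) * c + t * (a % c) := by
          rw [hat]
          conv_lhs => rw [e1]
          ring
        rw [e2, Nat.mul_add_mod_self_right, Nat.mod_eq_of_lt (by omega)]
      obtain ⟨σ, h1, h2, -⟩ := key (n % c) (n / c) hjpos hdm
      by_cases hfix : ∀ s, σ s = s
      · obtain ⟨gs, hgs, hsum⟩ := h2 hfix
        have hge : ∀ s, a % c ≤ gs s := by
          intro s
          obtain ⟨b, hb⟩ := hgs s
          have : a % c = gs s % c := by
            conv_lhs => rw [hb, Nat.add_mul_mod_self_left]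
          rw [this]
          exact Nat.mod_le _ _
        have h3 : ∑ _s : Fin t, (a % c) ≤ ∑ s, gs s := Finset.sum_le_sum fun s _ => hge s
        rw [Finset.sum_const, Finset.card_univ, Fintype.card_fin, smul_eq_mul, hsum] at h3
        omega
      · push Not at hfix
        obtain ⟨s, hs⟩ := hfix
        have := (h1 s hs).1
        omega
    · by_cases hA1 : a = 1 ∧ c = r - 1
      · -- case (A1)
        have hnk : ¬ n ≤ (n % c) * r := fun h => hR (Or.inl ⟨hA1.1, by omega, hA1.2, h⟩)
        obtain ⟨σ, -, -, h3⟩ := key (n % c) (n / c) hjpos hdm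
        have h4 := h3 hA1.1
        apply hnk
        have htn : n = t := by rw [hat, hA1.1, one_mul]
        have h5 : r * (n % c) = (n % c) * r := mul_comm _ _
        omega
      · -- case (A23)
        obtain ⟨σ, h1, h2, -⟩ := key (n - c) 1 le_rfl (by omega)
        by_cases hfix : ∀ s, σ s = s
        · obtain ⟨gs, hgs, hsum⟩ := h2 hfix
          have hga : ∀ s, gs s = a := by
            intro s
            obtain ⟨b, hb⟩ := hgs s
            have hb0 : b = 0 := by
              by_contra h
              have h1 : 1 ≤ b := Nat.one_le_iff_ne_zero.mpr h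
              have := Nat.mul_le_mul_left c h1
              omega
            rw [hb0, mul_zero, add_zero] at hb
            exact hb.symm
          simp only [hga, Finset.sum_const, Finset.card_univ, Fintype.card_fin, smul_eq_mul] at hsum
          rw [mul_comm] at hsum
          omega
        · push Not at hfix
          obtain ⟨s, hs⟩ := hfix
          have h5 := (h1 s hs).2
          rw [one_mul] at h5
          have h6 : (r - 1) * a + a = r * a := by
            have : r = (r - 1) + 1 := by omega
            conv_rhs => rw [this]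
            ring
          rcases Nat.lt_or_ge a 2 with ha2 | ha2
          · have ha1 : a = 1 := by omega
            apply hA1
            refine ⟨ha1, ?_⟩
            rw [ha1] at h5
            omega
          · have h7 : (r - 1) * 2 ≤ (r - 1) * a := Nat.mul_le_mul_left _ ha2
            omega
  · -- the arithmetic condition ⇒ every element permutes a decomposition
    rintro hR x ⟨z, hz⟩ -
    set f0 : (Fin n → F) →ₗ[F] (Fin n → F) :=
      Matrix.toLin' (x : Matrix (Fin n) (Fin n) F) with hf0
    have hf : f0 ^ r = z • 1 := by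
      rw [hf0, ← Matrix.toLin'_pow, ← Matrix.SpecialLinearGroup.coe_pow, hz, map_smul,
        Matrix.toLin'_one]
      rfl
    have hdet0 : LinearMap.det f0 = 1 := by
      rw [hf0, LinearMap.det_toLin']
      exact x.2
    have hz0 : z ≠ 0 := by
      intro h0
      have h1 := congrArg LinearMap.det hf
      rw [map_pow, hdet0, one_pow, LinearMap.det_smul, map_one, mul_one, hfin, h0,
        zero_pow (by omega)] at h1
      exact one_ne_zero h1
    by_cases hpow : ∃ d : F, d ^ r = z
    · obtain ⟨d, hd⟩ := hpow
      have hd0 : d ≠ 0 := by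
        intro h0
        rw [h0, zero_pow hr.ne_zero] at hd
        exact hz0 hd.symm
      have hy : (d⁻¹ • f0) ^ r = 1 := by
        rw [smul_pow, hf, smul_smul, inv_pow, hd, inv_mul_cancel₀ hz0, one_smul]
      have hmapy : ∀ W : Submodule F (Fin n → F), W.map f0 = W.map (d⁻¹ • f0) := fun W =>
        (Submodule.map_smul f0 W d⁻¹ (inv_ne_zero hd0)).symm
      obtain ⟨j, hj⟩ := Lib.Helper98.Elus.dvd_finrank_of_le_V1 r hrF (d⁻¹ • f0) hy
        (Lib.Helper98.Elus.V1 r (d⁻¹ • f0)) (Lib.Helper98.Elus.inv_V1 r _) le_rfl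
      have hsum := Lib.Helper98.Elus.finrank_V0_add_V1 r hrF (d⁻¹ • f0) hy
      rw [hfin] at hsum
      rw [← hc] at hj
      have hjn : j ≤ n / c := by
        rw [Nat.le_div_iff_mul_le (by omega)]
        rw [mul_comm]
        omega
      have hjc : c * j ≤ c * (n / c) := Nat.mul_le_mul_left c hjn
      have hdiv := Nat.div_add_mod n c
      rcases hR with ⟨ha1, hc1', hcr', hnk⟩ | ⟨hca, hk⟩
      · -- lines permuted
        have hcr1 : c + 1 = r := by omega
        have hnck : n / c ≤ n % c := by
          have h1 : (n % c) * r = c * (n % c) + n % c := by rw [← hcr1]; ring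
          have h2 : c * (n / c) ≤ c * (n % c) := by omega
          exact Nat.le_of_mul_le_mul_left h2 (by omega)
        have hj0 : j ≤ Module.finrank F (Lib.Helper98.Elus.V0 (d⁻¹ • f0)) := by omega
        have htn : t = n := by rw [hat, ha1, one_mul]
        subst htn
        obtain ⟨D, h1, h2, h3, σ, h4⟩ := Lib.Helper98.Elus.perm_lines p f hF r (Ne.symm hrp) hrF
          (d⁻¹ • f0) hy (hc ▸ hcr1) t hfin j (hc ▸ hj) hj0
        refine ⟨D, ⟨ht, ha, fun s => by rw [h1 s, ha1], h2, h3⟩, σ, fun s => ?_⟩
        rw [hmapy]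
        exact h4 s
      · -- invariant summands
        have e1 : a = c * (a / c) + a % c := (Nat.div_add_mod a c).symm
        have hbound : Module.finrank F ↥((⊤ : Submodule F (Fin n → F)) ⊓
            Lib.Helper98.Elus.V1 r (d⁻¹ • f0)) ≤ t * (orderOf ((Fintype.card F : ℕ) : ZMod r) *
              (a / orderOf ((Fintype.card F : ℕ) : ZMod r))) := by
          rw [top_inf_eq, ← hc, hj]
          have h1 : (c * (a / c) + a % c) * t = c * (a / c) * t + a % c * t := by ring
          have h2 : t * (a % c) = a % c * t := mul_comm _ _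
          have h3 : t * (c * (a / c)) = c * (a / c) * t := mul_comm _ _
          have h4 : n = (c * (a / c) + a % c) * t := by rw [← e1]; exact hat
          omega
        obtain ⟨D, hinv, hd', hind, hsup⟩ := Lib.Helper98.Elus.inv_decomp p f hF r (Ne.symm hrp)
          hrF (d⁻¹ • f0) hy a t ⊤ (fun _ _ => Submodule.mem_top)
          (by rw [finrank_top, hfin, hat, mul_comm]) hbound
        refine ⟨D, ⟨ht, ha, hd', hind, hsup⟩, 1, fun s => ?_⟩
        rw [hmapy, Lib.Helper98.Elus.map_eq_of_inv r hr.ne_zero 1 one_ne_zero (d⁻¹ • f0)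
          (by rw [hy, one_smul]) (D s) (hinv s)]
        rfl
    · push Not at hpow
      have hrn : r ∣ n := by
        have := Lib.Helper98.Elus.dvd_finrank_of_not_pow r z hpow f0 hf ⊤
          (fun _ _ => Submodule.mem_top)
        rwa [finrank_top, hfin] at this
      have hcase : r ∣ a ∨ r ∣ t := by
        rw [hat] at hrn
        exact (Nat.Prime.dvd_mul hr).mp hrn
      obtain ⟨D, h1, h2, h3, σ, h4⟩ := Lib.Helper98.Elus.typeII_decomp r z hpow f0 hf a t
        (by rw [hfin, hat]) hcase
      exact ⟨D, ⟨ht, ha, h1, h2, h3⟩, σ, h4⟩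

end Cfsg.Agent.S5958
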