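import Mathlib
import Cfsg.Statements.S5960
import Cfsg.Agent.Lib.Helper18.InvolPlanes
import Cfsg.Agent.Lib.Helper18.SympWitt

set_option autoImplicit false
open scoped MatrixGroups
open Cfsg

namespace Cfsg.Agent.S5960

/-- Involutions of PSp_n(q) and imprimitive subgroups. Here `T = PSp_n(q)`, `n = 2d ≥ 4`, `(n, q) ≠ (4, 2)`, realised through the symplectic matrices over the field `F` with `q` elements and the standard alternating form; `n = a·t` with `a` even and `t ≥ 2`, and Ω is the (nonempty) set of orthogonal decompositions of `F^n` into `t` nondegenerate subspaces of dimension `a` (unordered; counted as ordered ones divided by `t!`), whose stabilizers are the imprimitive subgroups of type Sp_a(q) ≀ S_t (maximality is not assumed); an element of `T` of prime order `r` (a symplectic matrix `x` with `x^r` scalar, `x` not scalar) fixes a point of Ω when it permutes the summands of some such decomposition. If the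 number of such decompositions is even, then every involution of `T` stabilizes one of them (the action is 2-elusive). -/
theorem result {F : Type*} [Field F] [Fintype F] {p : ℕ} [Fact p.Prime] [CharP F p] {q : ℕ} (hq : Fintype.card F = q)
    (d : ℕ) (hd : 2 ≤ d) (hT : (d, q) ≠ (2, 2))
    (a t : ℕ) (hat : 2 * d = a * t) (ha : 2 ≤ a) (hae : Even a) (ht : 2 ≤ t) (hΩ : 2 ∣ Nat.card {D : Fin t → Submodule F (Fin d ⊕ Fin d → F) // (Cfsg.Geo.IsMDecomposition a D ∧ (∀ j, ∀ u ∈ D j, u ≠ 0 → ∃ v ∈ D j, Cfsg.sympForm d F u v ≠ 0) ∧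
          (∀ j j', j ≠ j' → ∀ u ∈ D j, ∀ v ∈ D j', Cfsg.sympForm d F u v = 0))} / Nat.factorial t)
    (x : ↥(Matrix.symplecticGroup (Fin d) F))
    (hx1 : ∃ z : F, ((x ^ 2 : ↥(Matrix.symplecticGroup (Fin d) F)) : Matrix (Fin d ⊕ Fin d) (Fin d ⊕ Fin d) F) = z • (1 : Matrix (Fin d ⊕ Fin d) (Fin d ⊕ Fin d) F))
    (hx2 : ∀ z : F, (x : Matrix (Fin d ⊕ Fin d) (Fin d ⊕ Fin d) F) ≠ z • (1 : Matrix (Fin d ⊕ Fin d) (Fin d ⊕ Fin d) F)) :
    ∃ D : Fin t → Submodule F (Fin d ⊕ Fin d → F), (Cfsg.Geo.IsMDecomposition a D ∧ (∀ j, ∀ u ∈ D j, u ≠ 0 → ∃ v ∈ D j, Cfsg.sympForm d F u v ≠ 0) ∧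
          (∀ j j', j ≠ j' → ∀ u ∈ D j, ∀ v ∈ D j', Cfsg.sympForm d F u v = 0)) ∧
        ∃ σ : Equiv.Perm (Fin t), ∀ j, (D j).map (Matrix.toLin' (x : Matrix (Fin d ⊕ Fin d) (Fin d ⊕ Fin d) F)) = D (σ j) := by
  classical
  obtain ⟨z, hz⟩ := hx1
  set M : Matrix (Fin d ⊕ Fin d) (Fin d ⊕ Fin d) F := (x : Matrix (Fin d ⊕ Fin d) (Fin d ⊕ Fin d) F) with hM
  have hMmem : M ∈ Matrix.symplecticGroup (Fin d) F := x.2
  have hMM : M * M = z • (1 : Matrix (Fin d ⊕ Fin d) (Fin d ⊕ Fin d) F) := by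
    rw [← hz, pow_two]
    rfl
  set X : (Fin d ⊕ Fin d → F) →ₗ[F] (Fin d ⊕ Fin d → F) := Matrix.toLin' M with hX
  have hxx : ∀ v, X (X v) = z • v := by
    intro v
    rw [hX, ← LinearMap.comp_apply, ← Matrix.toLin'_mul, hMM]
    simp
  have hisom : ∀ u v, Cfsg.Agent.Lib.Helper18.sB d F (X u) (X v) = Cfsg.Agent.Lib.Helper18.sB d F u v := by
    intro u v
    rw [Cfsg.Agent.Lib.Helper18.sB_apply, Cfsg.Agent.Lib.Helper18.sB_apply, hX, Matrix.toLin'_apply,
      Matrix.toLin'_apply]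
    exact Cfsg.Agent.Lib.Helper18.sf_mulVec_of_mem d M hMmem u v
  have hnd : ∀ v : Fin d ⊕ Fin d → F, (∀ w, Cfsg.Agent.Lib.Helper18.sB d F v w = 0) → v = 0 := by
    intro v hv
    by_contra hv0
    obtain ⟨y, hy⟩ := Cfsg.Agent.Lib.Helper18.sf_nondeg_top d v hv0
    apply hy
    rw [← Cfsg.Agent.Lib.Helper18.sB_apply]
    exact hv y
  have hz0 : z ≠ 0 := by
    rintro rfl
    have hu0 : (Pi.single (Sum.inl (⟨0, by omega⟩ : Fin d)) (1 : F) : Fin d ⊕ Fin d → F) ≠ 0 := by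
      intro h0
      have := congrFun h0 (Sum.inl (⟨0, by omega⟩ : Fin d))
      simp at this
    obtain ⟨y, hy⟩ : ∃ y, Cfsg.Agent.Lib.Helper18.sB d F
        (Pi.single (Sum.inl (⟨0, by omega⟩ : Fin d)) (1 : F)) y ≠ 0 := by
      by_contra hcon
      push Not at hcon
      exact hu0 (hnd _ hcon)
    have h1 := hisom (X (Pi.single (Sum.inl (⟨0, by omega⟩ : Fin d)) (1 : F))) (X y)
    rw [hxx, hxx, hisom] at h1
    simp only [zero_smul, map_zero] at h1
    exact hy h1.symm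
  have hhyp : Cfsg.Agent.Lib.Helper18.InvolPlanes.Hyp (Cfsg.Agent.Lib.Helper18.sB d F) X z :=
    ⟨Cfsg.Agent.Lib.Helper18.sB_isAlt, hisom, hxx, hz0⟩
  obtain ⟨m, hm⟩ := hae
  have hm1 : 1 ≤ m := by omega
  have hdim : Module.finrank F (Fin d ⊕ Fin d → F) = 2 * m * t := by
    rw [Module.finrank_fintype_fun_eq_card, Fintype.card_sum, Fintype.card_fin]
    rw [hm] at hat
    nlinarith
  obtain ⟨D, hfin, hind, hsup, hndD, horth, σ, hσ⟩ :=
    Cfsg.Agent.Lib.Helper18.InvolPlanes.exists_orth_decomposition hhyp hnd m t hm1 hdim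
  refine ⟨D, ⟨⟨ht, by omega, ?_, hind, hsup⟩, ?_, ?_⟩, σ, hσ⟩
  · intro j
    rw [hfin, hm]; ring
  · intro j u hu hu0
    obtain ⟨v, hv, hne⟩ := hndD j u hu hu0
    refine ⟨v, hv, ?_⟩
    rwa [← Cfsg.Agent.Lib.Helper18.sB_apply]
  · intro j j' hjj' u hu v hv
    rw [← Cfsg.Agent.Lib.Helper18.sB_apply]
    exact horth j j' hjj' u hu v hv

end Cfsg.Agent.S5960
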