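import Cfsg.Statements.S5961
import Cfsg.Agent.Lib.Helper98.Sy8

set_option autoImplicit false
set_option linter.style.haveILetI false
set_option maxHeartbeats 800000
open scoped MatrixGroups
open Cfsg

namespace Cfsg.Agent.S5961

/-- Elements of odd prime order of PSp_n(q) and imprimitive subgroups. Here `T = PSp_n(q)`, `n = 2d ≥ 4`, `(n, q) ≠ (4, 2)`, realised through the symplectic matrices over the field `F` with `q` elements and the standard alternating form; `n = a·t` with `a` even and `t ≥ 2`, and Ω is the (nonempty) set of orthogonal decompositions of `F^n` into `t` nondegenerate subspaces of dimension `a` (unordered; counted as ordered ones divided by `t!`), whose stabilizers are the imprimitive subgroups of type Sp_a(q) ≀ S_t (maximality is not assumed); an element of `T` of prime order `r` (a symplectic matrix `x` with `x^r` scalar, `x` not scalar) fixes a point of Ω when it permutes the summands of some such decomposition. Let `r ≠ p` be an odd prime dividing the number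 of such decompositions, let `i` be the multiplicative order of `q` modulo `r`, `c = i` if `i` is even and `c = 2i` if `i` is odd, and write `k = n mod c`, `ℓ = a mod c`. Then every element of `T` of order `r` stabilizes such a decomposition if and only if `c ≤ a` and `k = t·ℓ`. -/
theorem result {F : Type*} [Field F] [Fintype F] {p : ℕ} [Fact p.Prime] [CharP F p] {q : ℕ} (hq : Fintype.card F = q)
    (d : ℕ) (hd : 2 ≤ d) (hT : (d, q) ≠ (2, 2))
    (a t : ℕ) (hat : 2 * d = a * t) (ha : 2 ≤ a) (hae : Even a) (ht : 2 ≤ t)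
    (r : ℕ) [Fact r.Prime] (hr2 : r ≠ 2) (hrp : r ≠ p) (hΩ : r ∣ Nat.card {D : Fin t → Submodule F (Fin d ⊕ Fin d → F) // (Cfsg.Geo.IsMDecomposition a D ∧ (∀ j, ∀ u ∈ D j, u ≠ 0 → ∃ v ∈ D j, Cfsg.sympForm d F u v ≠ 0) ∧
          (∀ j j', j ≠ j' → ∀ u ∈ D j, ∀ v ∈ D j', Cfsg.sympForm d F u v = 0))} / Nat.factorial t)
    (i c : ℕ) (hi : i = orderOf (q : ZMod r)) (hc : c = if Even i then i else 2 * i) :
    (∀ x : ↥(Matrix.symplecticGroup (Fin d) F),
      (∃ z : F, ((x ^ r : ↥(Matrix.symplecticGroup (Fin d) F)) : Matrix (Fin d ⊕ Fin d) (Fin d ⊕ Fin d) F) = z • (1 : Matrix (Fin d ⊕ Fin d) (Fin d ⊕ Fin d) F)) →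
      (∀ z : F, (x : Matrix (Fin d ⊕ Fin d) (Fin d ⊕ Fin d) F) ≠ z • (1 : Matrix (Fin d ⊕ Fin d) (Fin d ⊕ Fin d) F)) →
      ∃ D : Fin t → Submodule F (Fin d ⊕ Fin d → F), (Cfsg.Geo.IsMDecomposition a D ∧ (∀ j, ∀ u ∈ D j, u ≠ 0 → ∃ v ∈ D j, Cfsg.sympForm d F u v ≠ 0) ∧
          (∀ j j', j ≠ j' → ∀ u ∈ D j, ∀ v ∈ D j', Cfsg.sympForm d F u v = 0)) ∧
        ∃ σ : Equiv.Perm (Fin t), ∀ j, (D j).map (Matrix.toLin' (x : Matrix (Fin d ⊕ Fin d) (Fin d ⊕ Fin d) F)) = D (σ j)) ↔
    (c ≤ a ∧ (2 * d) % c = t * (a % c)) := by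
  classical
  subst hq
  subst hi
  have hr : r.Prime := Fact.out
  have hp : p.Prime := Fact.out
  obtain ⟨f, _, hF⟩ := FiniteField.card F p
  have hfin : Module.finrank F (Fin d ⊕ Fin d → F) = 2 * d := by
    rw [Module.finrank_pi, Fintype.card_sum, Fintype.card_fin, two_mul]
  have hrF : (r : F) ≠ 0 := by
    intro h
    rw [CharP.cast_eq_zero_iff F p] at h
    exact hrp ((Nat.prime_dvd_prime_iff_eq hp hr).mp h).symm
  have hr3 : 3 ≤ r := by
    have := hr.two_le
    omega
  have hrodd : Odd r := hr.odd_of_ne_two hr2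
  have hcc : c = Lib.Helper98.Sy.cOf (orderOf ((Fintype.card F : ℕ) : ZMod r)) := by
    rw [hc]; rfl
  have hi1 : 1 ≤ orderOf ((Fintype.card F : ℕ) : ZMod r) :=
    Lib.Helper98.Elus.orderOf_card_pos p f hF r (Ne.symm hrp)
  obtain ⟨c', hc'⟩ := Lib.Helper98.Sy.cOf_even (orderOf ((Fintype.card F : ℕ) : ZMod r))
  have hcc' : Lib.Helper98.Sy.cOf (orderOf ((Fintype.card F : ℕ) : ZMod r)) = 2 * c' := by omega
  have hc2c : c = 2 * c' := by rw [hcc, hcc']
  have hc1 : 1 ≤ c := by
    rw [hcc]
    exact Lib.Helper98.Sy.cOf_pos _ hi1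
  have hc'1 : 1 ≤ c' := by omega
  have hqne : ((Fintype.card F : ℕ) : ZMod r) ≠ 0 := by
    rw [Ne, ZMod.natCast_eq_zero_iff, hF]
    intro h
    have := hr.dvd_of_dvd_pow h
    rw [Nat.prime_dvd_prime_iff_eq hr hp] at this
    exact hrp this
  have hcr : c ≤ r - 1 := by
    rw [hcc]
    apply Nat.le_of_dvd (by omega)
    apply Lib.Helper98.Sy.cOf_dvd
    · apply orderOf_dvd_of_pow_eq_one
      exact ZMod.pow_card_sub_one_eq_one hqne
    · obtain ⟨m, hm⟩ := hrodd
      exact ⟨m, by omega⟩
  obtain ⟨a', ha'⟩ := hae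
  have ha2 : a = 2 * a' := by omega
  clear ha'
  subst ha2
  have hform : ∀ u v : Fin d ⊕ Fin d → F,
      Cfsg.sympForm d F u v = Lib.Helper98.Sy.stdForm d u v :=
    fun u v => (Lib.Helper98.Sy.stdForm_apply d u v).symm
  have hconv : ∀ D : Fin t → Submodule F (Fin d ⊕ Fin d → F),
      (Cfsg.Geo.IsMDecomposition (2 * a') D ∧
        (∀ j, ∀ u ∈ D j, u ≠ 0 → ∃ v ∈ D j, Cfsg.sympForm d F u v ≠ 0) ∧
        (∀ j j', j ≠ j' → ∀ u ∈ D j, ∀ v ∈ D j', Cfsg.sympForm d F u v = 0)) ↔
      Lib.Helper98.Sy.IsSDec (Lib.Helper98.Sy.stdForm d) (2 * a') D := by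
    intro D
    constructor
    · rintro ⟨h1, h2, h3⟩
      refine ⟨⟨h1.finrank_eq, h1.indep, h1.iSup_eq_top⟩, ?_, ?_⟩
      · intro j u hu hall
        by_contra hne
        obtain ⟨v, hv, hvne⟩ := h2 j u hu hne
        apply hvne
        rw [hform]
        exact hall v hv
      · intro j j' hjj' u hu v hv
        rw [← hform]
        exact h3 j j' hjj' u hu v hv
    · rintro ⟨h1, h2, h3⟩
      refine ⟨⟨ht, by omega, h1.1, h1.2.1, h1.2.2⟩, ?_, ?_⟩
      · intro j u hu hne
        by_contra hall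
        push Not at hall
        apply hne
        apply h2 j u hu
        intro v hv
        rw [← hform]
        exact hall v hv
      · intro j j' hjj' u hu v hv
        rw [hform]
        exact h3 j j' hjj' u hu v hv
  constructor
  · -- every element permutes a decomposition ⇒ the arithmetic condition
    intro hL
    have hcn : c ≤ 2 * d := by
      rw [hcc]
      apply Lib.Helper98.Sy.le_of_dvd_card_isSDec (p := p) f hF d a' t (by rw [hat]) (by omega)
        (by omega) r hrp
      have h1 : Nat.card {D : Fin t → Submodule F (Fin d ⊕ Fin d → F) //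
          (Cfsg.Geo.IsMDecomposition (2 * a') D ∧
            (∀ j, ∀ u ∈ D j, u ≠ 0 → ∃ v ∈ D j, Cfsg.sympForm d F u v ≠ 0) ∧
            (∀ j j', j ≠ j' → ∀ u ∈ D j, ∀ v ∈ D j', Cfsg.sympForm d F u v = 0))} =
          Nat.card {D : Fin t → Submodule F (Fin d ⊕ Fin d → F) //
            Lib.Helper98.Sy.IsSDec (Lib.Helper98.Sy.stdForm d) (2 * a') D} :=
        Nat.card_congr (Equiv.subtypeEquivRight hconv)
      rw [← h1]
      exact hΩ
    have hc'd : c' ≤ d := by omega
    obtain ⟨y0, h0iso, h0r, h0ne, h0G⟩ :=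
      Lib.Helper98.Sy.exists_block (F := F) p f hF r (Ne.symm hrp) hr2 hrF c' hcc'
    -- numerical data of a permuted decomposition for the model element
    have key : ∀ e' j : ℕ, 1 ≤ j → j * (2 * c') + 2 * e' = 2 * d → ∃ σ : Equiv.Perm (Fin t),
        (∀ s, σ s ≠ s → 2 * a' ≤ 2 * e' ∧ r * (2 * a') ≤ j * (2 * c') + 2 * a') ∧
        ((∀ s, σ s = s) → ∃ gs : Fin t → ℕ, (∀ s, ∃ b, 2 * a' = gs s + c * b) ∧
          ∑ s, gs s = 2 * e') := by
      intro e' j hj hej
      have hV : Module.finrank F (Lib.Helper98.Sy.VS (F := F) c' e' j) = 2 * d := by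
        rw [Lib.Helper98.Sy.finrank_VS]
        exact hej
      have hns := Lib.Helper98.Sy.yS_not_scalar (e' := e') (j := j) r hrodd hj hc'1 y0 h0iso h0r h0ne
      have hyr := Lib.Helper98.Sy.yS_pow_eq_one (e' := e') (j := j) r y0 h0r
      have hyiso := Lib.Helper98.Sy.yS_iso (e' := e') (j := j) y0 h0iso
      obtain ⟨x, hx1, hx2, E, hE1, hE2⟩ := Lib.Helper98.Sy.transport_symp
        (Lib.Helper98.Sy.BS (F := F) c' e' j) Lib.Helper98.Sy.BS_alt Lib.Helper98.Sy.BS_nonDeg d hV
        (Lib.Helper98.Sy.yS y0) hyiso r hyr hns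
      obtain ⟨D, hD, σ, hσ⟩ := hL x ⟨1, hx1⟩ hx2
      have hDs := (hconv D).mp hD
      let D' : Fin t → Submodule F (Lib.Helper98.Sy.VS (F := F) c' e' j) :=
        fun s => (D s).map (E : (Fin d ⊕ Fin d → F) →ₗ[F] Lib.Helper98.Sy.VS (F := F) c' e' j)
      have hD'd : ∀ s, Module.finrank F (D' s) = 2 * a' := by
        intro s
        show Module.finrank F ↥((D s).map
          (E : (Fin d ⊕ Fin d → F) →ₗ[F] Lib.Helper98.Sy.VS (F := F) c' e' j)) = 2 * a'
        rw [LinearEquiv.finrank_map_eq]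
        exact hDs.1.1 s
      have hD'ind : iSupIndep D' := hDs.1.2.1.map_orderIso (Submodule.orderIsoMapComap E)
      have hD'sup : iSup D' = ⊤ := by
        show (⨆ s, (D s).map
          (E : (Fin d ⊕ Fin d → F) →ₗ[F] Lib.Helper98.Sy.VS (F := F) c' e' j)) = ⊤
        rw [← Submodule.map_iSup]
        have h3 : (⨆ s, D s) = ⊤ := hDs.1.2.2
        rw [h3, Submodule.map_top, LinearEquiv.range]
      have hD'nd : ∀ s, Lib.Helper98.Sy.NonDeg (Lib.Helper98.Sy.BS (F := F) c' e' j) (D' s) := by
        intro s u hu hall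
        obtain ⟨w, hw, rfl⟩ := hu
        have hw0 : w = 0 := by
          apply hDs.2.1 s w hw
          intro v hv
          rw [← hE2]
          exact hall (E v) ⟨v, hv, rfl⟩
        rw [hw0]
        exact map_zero _
      have hσ' : ∀ s, (D' s).map (Lib.Helper98.Sy.yS y0) = D' (σ s) := by
        intro s
        show ((D s).map (E : (Fin d ⊕ Fin d → F) →ₗ[F] Lib.Helper98.Sy.VS (F := F) c' e' j)).map
          (Lib.Helper98.Sy.yS y0) =
          (D (σ s)).map (E : (Fin d ⊕ Fin d → F) →ₗ[F] Lib.Helper98.Sy.VS (F := F) c' e' j)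
        rw [← hσ s, ← Submodule.map_comp, ← Submodule.map_comp]
        congr 1
        apply LinearMap.ext
        intro w
        simp only [LinearMap.coe_comp, Function.comp_apply, LinearEquiv.coe_coe]
        exact (hE1 w).symm
      have hnum := Lib.Helper98.Sy.perm_dec_numeric_symp Lib.Helper98.Sy.BS_alt
        Lib.Helper98.Sy.BS_nonDeg p f hF r (Ne.symm hrp) hr2 hrF (Lib.Helper98.Sy.yS y0) hyr hyiso
        D' hD'd (by omega) hD'ind hD'sup hD'nd σ hσ'
      rw [Lib.Helper98.Sy.finrank_range_gsum_yS r hrF y0 h0G,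
        Lib.Helper98.Sy.finrank_ker_gsum_yS r hrF y0 h0G, ← hcc] at hnum
      exact ⟨σ, hnum.1, hnum.2⟩
    by_contra hR
    have hmod : (2 * d) % c = 2 * (d % c') := by
      rw [hc2c, Nat.mul_mod_mul_left]
    have hdm : c' * (d / c') + d % c' = d := Nat.div_add_mod d c'
    have hjpos : 1 ≤ d / c' := Nat.div_pos hc'd (by omega)
    have hklt : d % c' < c' := Nat.mod_lt d (by omega)
    by_cases hca : c ≤ 2 * a'
    · -- case (B)
      have hk : (2 * d) % c ≠ t * ((2 * a') % c) := fun h => hR ⟨hca, h⟩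
      have htl : c ≤ t * ((2 * a') % c) := by
        by_contra hlt
        apply hk
        have e1 : 2 * a' = c * ((2 * a') / c) + (2 * a') % c := (Nat.div_add_mod (2 * a') c).symm
        have e2 : 2 * d = (t * ((2 * a') / c)) * c + t * ((2 * a') % c) := by
          rw [hat]
          conv_lhs => rw [e1]
          ring
        rw [e2, Nat.mul_add_mod_self_right, Nat.mod_eq_of_lt (by omega)]
      have hej : d / c' * (2 * c') + 2 * (d % c') = 2 * d := by
        have : d / c' * (2 * c') = 2 * (c' * (d / c')) := by ring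
        omega
      obtain ⟨σ, h1, h2⟩ := key (d % c') (d / c') hjpos hej
      by_cases hfix : ∀ s, σ s = s
      · obtain ⟨gs, hgs, hsum⟩ := h2 hfix
        have hge : ∀ s, (2 * a') % c ≤ gs s := by
          intro s
          obtain ⟨b, hb⟩ := hgs s
          have : (2 * a') % c = gs s % c := by
            conv_lhs => rw [hb, Nat.add_mul_mod_self_left]
          rw [this]
          exact Nat.mod_le _ _
        have h3 : ∑ _s : Fin t, ((2 * a') % c) ≤ ∑ s, gs s := Finset.sum_le_sum fun s _ => hge s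
        rw [Finset.sum_const, Finset.card_univ, Fintype.card_fin, smul_eq_mul, hsum] at h3
        omega
      · push Not at hfix
        obtain ⟨s, hs⟩ := hfix
        have := (h1 s hs).1
        omega
    · -- case (A)
      obtain ⟨σ, h1, h2⟩ := key (d - c') 1 le_rfl (by omega)
      by_cases hfix : ∀ s, σ s = s
      · obtain ⟨gs, hgs, hsum⟩ := h2 hfix
        have hga : ∀ s, gs s = 2 * a' := by
          intro s
          obtain ⟨b, hb⟩ := hgs s
          have hb0 : b = 0 := by
            by_contra h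
            have h1 : 1 ≤ b := Nat.one_le_iff_ne_zero.mpr h
            have := Nat.mul_le_mul_left c h1
            omega
          rw [hb0, mul_zero, add_zero] at hb
          exact hb.symm
        simp only [hga, Finset.sum_const, Finset.card_univ, Fintype.card_fin, smul_eq_mul] at hsum
        rw [mul_comm] at hsum
        omega
      · push Not at hfix
        obtain ⟨s, hs⟩ := hfix
        have h5 := (h1 s hs).2
        rw [one_mul] at h5
        have h6 : (r - 1) * (2 * a') + 2 * a' = r * (2 * a') := by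
          have : r = (r - 1) + 1 := by omega
          conv_rhs => rw [this]
          ring
        have h7 : (r - 1) * 2 ≤ (r - 1) * (2 * a') := Nat.mul_le_mul_left _ ha
        omega
  · -- the arithmetic condition ⇒ every element permutes a decomposition
    rintro ⟨hca, hk⟩ x ⟨z, hz⟩ -
    set f0 : (Fin d ⊕ Fin d → F) →ₗ[F] (Fin d ⊕ Fin d → F) :=
      Matrix.toLin' (x : Matrix (Fin d ⊕ Fin d) (Fin d ⊕ Fin d) F) with hf0
    have hf : f0 ^ r = z • 1 := by
      rw [hf0, ← Matrix.toLin'_pow, ← SubmonoidClass.coe_pow, hz, map_smul,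
        Matrix.toLin'_one]
      rfl
    have hiso0 : Lib.Helper98.Sy.Iso (Lib.Helper98.Sy.stdForm d) f0 :=
      Lib.Helper98.Sy.iso_of_mem d _ x.2
    have hA := Lib.Helper98.Sy.stdForm_alt (F := F) d
    have hV := Lib.Helper98.Sy.stdForm_nonDeg (F := F) d
    -- `z ^ 2 = 1`
    have hzz : z * z = 1 := by
      obtain ⟨u, hu0⟩ : ∃ u : Fin d ⊕ Fin d → F, u ≠ 0 := by
        refine ⟨fun _ => 1, fun h => ?_⟩
        have := congrFun h (Sum.inl ⟨0, by omega⟩)
        simp at this
      have : ∃ v, Lib.Helper98.Sy.stdForm d u v ≠ 0 := by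
        by_contra hall
        push Not at hall
        exact hu0 (hV u Submodule.mem_top (fun v _ => hall v))
      obtain ⟨v, hv⟩ := this
      have h1 := Lib.Helper98.Sy.iso_pow f0 hiso0 r u v
      rw [hf] at h1
      simp only [LinearMap.smul_apply, Module.End.one_apply, map_smul, smul_eq_mul] at h1
      have h2 : (z * z - 1) * Lib.Helper98.Sy.stdForm d u v = 0 := by
        rw [sub_mul, one_mul, sub_eq_zero, mul_assoc]
        exact h1
      rcases mul_eq_zero.mp h2 with h3 | h3
      · exact sub_eq_zero.mp h3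
      · exact absurd h3 hv
    have hz0 : z ≠ 0 := by
      intro h0
      rw [h0, mul_zero] at hzz
      exact zero_ne_one hzz
    set y : (Fin d ⊕ Fin d → F) →ₗ[F] (Fin d ⊕ Fin d → F) := z • f0 with hy0
    have hy : y ^ r = 1 := by
      obtain ⟨m, hm⟩ := hrodd
      rw [hy0, smul_pow, hf, smul_smul, ← pow_succ]
      have : r + 1 = 2 * (m + 1) := by omega
      rw [this, pow_mul, pow_two, hzz, one_pow, one_smul]
    have hiso : Lib.Helper98.Sy.Iso (Lib.Helper98.Sy.stdForm d) y := by
      intro u v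
      rw [hy0]
      simp only [LinearMap.smul_apply, map_smul, smul_eq_mul]
      rw [← mul_assoc, hzz, one_mul]
      exact hiso0 u v
    have hmapy : ∀ W : Submodule F (Fin d ⊕ Fin d → F), W.map f0 = W.map y := fun W =>
      (Submodule.map_smul f0 W z hz0).symm
    have hV1nd := (Lib.Helper98.Sy.nonDeg_inf_parts hA r hrF y hy hiso ⊤ hV
      (fun _ _ => Submodule.mem_top)).2
    rw [top_inf_eq] at hV1nd
    obtain ⟨j, hj⟩ := Lib.Helper98.Sy.cOf_dvd_finrank hA hV p f hF r (Ne.symm hrp) hr2 hrF y hy hiso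
      (Lib.Helper98.Elus.V1 r y) le_rfl (Lib.Helper98.Elus.inv_V1 r y) hV1nd
    have hsum := Lib.Helper98.Elus.finrank_V0_add_V1 r hrF y hy
    rw [hfin] at hsum
    rw [← hcc] at hj
    have hjn : j ≤ (2 * d) / c := by
      rw [Nat.le_div_iff_mul_le (by omega)]
      rw [mul_comm]
      omega
    have hjc : c * j ≤ c * ((2 * d) / c) := Nat.mul_le_mul_left c hjn
    have hdiv := Nat.div_add_mod (2 * d) c
    have e1 : 2 * a' = c * ((2 * a') / c) + (2 * a') % c := (Nat.div_add_mod (2 * a') c).symm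
    have hbound : Module.finrank F ↥((⊤ : Submodule F (Fin d ⊕ Fin d → F)) ⊓
        Lib.Helper98.Elus.V1 r y) ≤ t *
          (Lib.Helper98.Sy.cOf (orderOf ((Fintype.card F : ℕ) : ZMod r)) *
          ((2 * a') / Lib.Helper98.Sy.cOf (orderOf ((Fintype.card F : ℕ) : ZMod r)))) := by
      rw [top_inf_eq, ← hcc, hj]
      have h1 : (c * ((2 * a') / c) + (2 * a') % c) * t =
          c * ((2 * a') / c) * t + (2 * a') % c * t := by ring
      have h2 : t * ((2 * a') % c) = (2 * a') % c * t := mul_comm _ _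
      have h3 : t * (c * ((2 * a') / c)) = c * ((2 * a') / c) * t := mul_comm _ _
      have h4 : 2 * d = (c * ((2 * a') / c) + (2 * a') % c) * t := by rw [← e1]; exact hat
      omega
    obtain ⟨D, hinv, hnd, hdim, hind, hsup, hort⟩ := Lib.Helper98.Sy.symp_decomp hA hV p f hF r
      (Ne.symm hrp) hr2 hrF y hy hiso (2 * a') (even_two_mul a') t ⊤
      (fun _ _ => Submodule.mem_top) hV (by rw [finrank_top, hfin, hat, mul_comm]) hbound
    refine ⟨D, (hconv D).mpr ⟨⟨hdim, hind, hsup⟩, hnd, hort⟩, 1, fun s => ?_⟩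
    rw [hmapy, Lib.Helper98.Elus.map_eq_of_inv r hr.ne_zero 1 one_ne_zero y
      (by rw [hy, one_smul]) (D s) (hinv s)]
    rfl

end Cfsg.Agent.S5961
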