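import Mathlib
import Cfsg.Statements.S5962
import Cfsg.Agent.Lib.Helper18.InvolLagrange
import Cfsg.Agent.Lib.Helper18.SympWitt
-- import your own Cfsg.Agent.* helpers here

set_option autoImplicit false
open scoped MatrixGroups
open Cfsg

namespace Cfsg.Agent.S5962

/-- Involutions of PSp_n(q), q odd, and the subgroups GL_{n/2}(q).2. Here `T = PSp_n(q)`, `n = 2d ≥ 4`, `q` odd, realised through the symplectic matrices over the field `F` with `q` elements; Ω is the set of unordered pairs `{U, W}` of complementary totally isotropic `d`-spaces (`F^n = U ⊕ W`), whose stabilizers are the subgroups of type GL_d(q).2 (maximal except in some small cases; maximality is not assumed); an element of `T` of prime order `r` (a symplectic matrix `x` with `x^r` scalar, `x` not scalar) fixes such a pair when it fixes or interchanges `U` and `W`. If the number of such pairs is even, every involution of `T` fixes one of them (the action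 is 2-elusive). -/
theorem result {F : Type*} [Field F] [Fintype F] {p : ℕ} [Fact p.Prime] [CharP F p] {q : ℕ} (hq : Fintype.card F = q)
    (d : ℕ) (hd : 2 ≤ d) (hT : (d, q) ≠ (2, 2)) (hodd : Odd q)
    (hΩ : 2 ∣ Nat.card {P : Submodule F (Fin d ⊕ Fin d → F) × Submodule F (Fin d ⊕ Fin d → F) // IsCompl P.1 P.2 ∧ (∀ u ∈ P.1, ∀ v ∈ P.1, Cfsg.sympForm d F u v = 0) ∧ (∀ u ∈ P.2, ∀ v ∈ P.2, Cfsg.sympForm d F u v = 0)} / 2)
    (x : ↥(Matrix.symplecticGroup (Fin d) F))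
    (hx1 : ∃ z : F, ((x ^ 2 : ↥(Matrix.symplecticGroup (Fin d) F)) : Matrix (Fin d ⊕ Fin d) (Fin d ⊕ Fin d) F) = z • (1 : Matrix (Fin d ⊕ Fin d) (Fin d ⊕ Fin d) F))
    (hx2 : ∀ z : F, (x : Matrix (Fin d ⊕ Fin d) (Fin d ⊕ Fin d) F) ≠ z • (1 : Matrix (Fin d ⊕ Fin d) (Fin d ⊕ Fin d) F)) :
    ∃ U W : Submodule F (Fin d ⊕ Fin d → F), IsCompl U W ∧ (∀ u ∈ U, ∀ v ∈ U, Cfsg.sympForm d F u v = 0) ∧ (∀ u ∈ W, ∀ v ∈ W, Cfsg.sympForm d F u v = 0) ∧
        ((U.map (Matrix.toLin' (x : Matrix (Fin d ⊕ Fin d) (Fin d ⊕ Fin d) F)) = U ∧ W.map (Matrix.toLin' (x : Matrix (Fin d ⊕ Fin d) (Fin d ⊕ Fin d) F)) = W) ∨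
         (U.map (Matrix.toLin' (x : Matrix (Fin d ⊕ Fin d) (Fin d ⊕ Fin d) F)) = W ∧ W.map (Matrix.toLin' (x : Matrix (Fin d ⊕ Fin d) (Fin d ⊕ Fin d) F)) = U)) := by
  classical
  obtain ⟨z, hz⟩ := hx1
  set M : Matrix (Fin d ⊕ Fin d) (Fin d ⊕ Fin d) F := (x : Matrix (Fin d ⊕ Fin d) (Fin d ⊕ Fin d) F) with hM
  have hMmem : M ∈ Matrix.symplecticGroup (Fin d) F := x.2
  have hMM : M * M = z • (1 : Matrix (Fin d ⊕ Fin d) (Fin d ⊕ Fin d) F) := by
    rw [← hz, pow_two]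
    rfl
  set X : (Fin d ⊕ Fin d → F) →ₗ[F] (Fin d ⊕ Fin d → F) := Matrix.toLin' M with hX
  have hxx : ∀ v, X (X v) = z • v := by
    intro v
    rw [hX, ← LinearMap.comp_apply, ← Matrix.toLin'_mul, hMM]
    simp
  have hisom : ∀ u v, Cfsg.Agent.Lib.Helper18.sB d F (X u) (X v) = Cfsg.Agent.Lib.Helper18.sB d F u v := by
    intro u v
    rw [Cfsg.Agent.Lib.Helper18.sB_apply, Cfsg.Agent.Lib.Helper18.sB_apply, hX, Matrix.toLin'_apply,
      Matrix.toLin'_apply]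
    exact Cfsg.Agent.Lib.Helper18.sf_mulVec_of_mem d M hMmem u v
  have htwo : (2 : F) ≠ 0 := by
    apply Ring.two_ne_zero
    intro h2
    have := FiniteField.even_card_of_char_two h2
    rw [hq] at this
    rw [Nat.odd_iff] at hodd
    omega
  have hnd : ∀ v : Fin d ⊕ Fin d → F, (∀ w, Cfsg.Agent.Lib.Helper18.sB d F v w = 0) → v = 0 := by
    intro v hv
    by_contra hv0
    obtain ⟨y, hy⟩ := Cfsg.Agent.Lib.Helper18.sf_nondeg_top d v hv0
    apply hy
    rw [← Cfsg.Agent.Lib.Helper18.sB_apply]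
    exact hv y
  have hz2 : z = 1 ∨ z = -1 := by
    have hu0 : (Pi.single (Sum.inl (⟨0, by omega⟩ : Fin d)) (1 : F) : Fin d ⊕ Fin d → F) ≠ 0 := by
      intro h0
      have := congrFun h0 (Sum.inl (⟨0, by omega⟩ : Fin d))
      simp at this
    obtain ⟨y, hy⟩ : ∃ y, Cfsg.Agent.Lib.Helper18.sB d F
        (Pi.single (Sum.inl (⟨0, by omega⟩ : Fin d)) (1 : F)) y ≠ 0 := by
      by_contra hcon
      push Not at hcon
      exact hu0 (hnd _ hcon)
    have h1 := hisom (X (Pi.single (Sum.inl (⟨0, by omega⟩ : Fin d)) (1 : F))) (X y)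
    rw [hxx, hxx, hisom] at h1
    simp only [map_smul, LinearMap.smul_apply, smul_eq_mul] at h1
    rw [← mul_assoc] at h1
    have h2 : z * z = 1 := by
      have h3 : (z * z - 1) * Cfsg.Agent.Lib.Helper18.sB d F
          (Pi.single (Sum.inl (⟨0, by omega⟩ : Fin d)) (1 : F)) y = 0 := by
        rw [sub_mul, h1, one_mul, sub_self]
      rcases mul_eq_zero.1 h3 with h4 | h4
      · exact sub_eq_zero.1 h4
      · exact absurd h4 hy
    exact mul_self_eq_one_iff.1 h2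
  have hz0 : z ≠ 0 := by
    rcases hz2 with rfl | rfl <;> simp
  have hsetup : Cfsg.Agent.Lib.Helper18.InvolLagrange.Setup (Cfsg.Agent.Lib.Helper18.sB d F) X z :=
    ⟨Cfsg.Agent.Lib.Helper18.sB_isAlt, hisom, hxx, htwo, hz2⟩
  obtain ⟨U, W, hinf, hsup, hU, hW, hcases⟩ :=
    Cfsg.Agent.Lib.Helper18.InvolLagrange.exists_lagrangian_pair hsetup _ ⊤ rfl
      (fun v _ => Submodule.mem_top) (fun v _ hv => hnd v (fun w => hv w Submodule.mem_top))
  have hback : ∀ v, v = X (X (z⁻¹ • v)) := by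
    intro v
    rw [hxx, smul_smul, mul_inv_cancel₀ hz0, one_smul]
  have hmapeq : ∀ A C : Submodule F (Fin d ⊕ Fin d → F), (∀ u ∈ A, X u ∈ C) → (∀ w ∈ C, X w ∈ A) →
      A.map X = C := by
    intro A C h1 h2
    apply le_antisymm
    · rintro _ ⟨u, hu, rfl⟩
      exact h1 u hu
    · intro w hw
      refine ⟨X (z⁻¹ • w), h2 _ (C.smul_mem _ hw), (hback w).symm⟩
  refine ⟨U, W, IsCompl.of_eq hinf hsup, ?_, ?_, ?_⟩
  · intro u hu v hv
    rw [← Cfsg.Agent.Lib.Helper18.sB_apply]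
    exact hU u hu v hv
  · intro u hu v hv
    rw [← Cfsg.Agent.Lib.Helper18.sB_apply]
    exact hW u hu v hv
  · rcases hcases with ⟨_, h1, h2⟩ | ⟨_, h1, h2⟩
    · exact Or.inl ⟨hmapeq U U h1 h1, hmapeq W W h2 h2⟩
    · exact Or.inr ⟨hmapeq U W h1 h2, hmapeq W U h2 h1⟩

end Cfsg.Agent.S5962
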