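import Cfsg.Statements.S5963
import Cfsg.Agent.Lib.Helper49.LagrFix
import Cfsg.Agent.Lib.Helper07.SpCardD
import Cfsg.Agent.S2568

set_option autoImplicit false
open scoped MatrixGroups
open Cfsg

namespace Cfsg.Agent.S5963

open Polynomial in
theorem count_arith (q d N : ℕ) (hq2 : 2 ≤ q)
    (hN : N * ∏ i : Fin d, (q ^ d - q ^ (i : ℕ)) =
      q ^ (d ^ 2) * ∏ i ∈ Finset.range d, (q ^ (2 * (i + 1)) - 1)) :
    N * ∏ i ∈ Finset.range d, q ^ i =
      q ^ (d ^ 2) * ∏ i ∈ Finset.range d, (q ^ (i + 1) + 1) := by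
  have hq1 : 1 ≤ q := by omega
  have h1 : ∏ i : Fin d, (q ^ d - q ^ (i : ℕ)) =
      (∏ i ∈ Finset.range d, q ^ i) * ∏ i ∈ Finset.range d, (q ^ (i + 1) - 1) := by
    rw [Fin.prod_univ_eq_prod_range (fun i => q ^ d - q ^ i) d,
      ← Finset.prod_range_reflect (fun i => q ^ (i + 1) - 1) d, ← Finset.prod_mul_distrib]
    apply Finset.prod_congr rfl
    intro i hi
    rw [Finset.mem_range] at hi
    have h0 : d - 1 - i + 1 = d - i := by omega
    rw [h0, Nat.mul_sub, mul_one, ← pow_add]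
    congr 2
    omega
  have h2 : ∏ i ∈ Finset.range d, (q ^ (2 * (i + 1)) - 1) =
      (∏ i ∈ Finset.range d, (q ^ (i + 1) - 1)) * ∏ i ∈ Finset.range d, (q ^ (i + 1) + 1) := by
    rw [← Finset.prod_mul_distrib]
    apply Finset.prod_congr rfl
    intro i _
    have h0 : q ^ (2 * (i + 1)) = q ^ (i + 1) * q ^ (i + 1) := by rw [← pow_add]; congr 1; omega
    have ha : 1 ≤ q ^ (i + 1) := Nat.one_le_pow _ _ hq1
    rw [h0]
    obtain ⟨a, ha'⟩ : ∃ a, q ^ (i + 1) = a + 1 := ⟨q ^ (i + 1) - 1, by omega⟩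
    rw [ha', Nat.add_sub_cancel]
    have : (a + 1) * (a + 1) = a * (a + 1 + 1) + 1 := by ring
    rw [this, Nat.add_sub_cancel]
  have hG : 0 < ∏ i ∈ Finset.range d, (q ^ (i + 1) - 1) := by
    apply Finset.prod_pos
    intro i _
    have : 2 ≤ q ^ (i + 1) := le_trans hq2 (Nat.le_self_pow (by omega) q)
    omega
  rw [h1, h2] at hN
  apply Nat.eq_of_mul_eq_mul_right hG
  calc N * (∏ i ∈ Finset.range d, q ^ i) * ∏ i ∈ Finset.range d, (q ^ (i + 1) - 1)
      = N * ((∏ i ∈ Finset.range d, q ^ i) * ∏ i ∈ Finset.range d, (q ^ (i + 1) - 1)) := by ring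
    _ = q ^ (d ^ 2) * ((∏ i ∈ Finset.range d, (q ^ (i + 1) - 1)) *
          ∏ i ∈ Finset.range d, (q ^ (i + 1) + 1)) := hN
    _ = q ^ (d ^ 2) * (∏ i ∈ Finset.range d, (q ^ (i + 1) + 1)) *
          ∏ i ∈ Finset.range d, (q ^ (i + 1) - 1) := by ring

theorem exists_dvd_pow_add_one (q d N r : ℕ) (hq2 : 2 ≤ q) (hodd : Odd q) (hd : 1 ≤ d)
    (hr : r.Prime) (hrq : ¬ r ∣ q)
    (hN : N * ∏ i : Fin d, (q ^ d - q ^ (i : ℕ)) =
      q ^ (d ^ 2) * ∏ i ∈ Finset.range d, (q ^ (2 * (i + 1)) - 1))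
    (hdiv : r ∣ N / 2) : ∃ j, 1 ≤ j ∧ j ≤ d ∧ r ∣ q ^ j + 1 := by
  have key := count_arith q d N hq2 hN
  have hQodd : Odd (∏ i ∈ Finset.range d, q ^ i) := by
    apply Finset.prod_induction _ Odd
    · intro a b ha hb; exact ha.mul hb
    · exact odd_one
    · intro i _; exact hodd.pow
  have hHeven : 2 ∣ ∏ i ∈ Finset.range d, (q ^ (i + 1) + 1) := by
    have h0 : 0 ∈ Finset.range d := Finset.mem_range.mpr (by omega)
    apply dvd_trans _ (Finset.dvd_prod_of_mem _ h0)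
    rw [zero_add, pow_one]
    obtain ⟨k, hk⟩ := hodd
    exact ⟨k + 1, by omega⟩
  have h2N : 2 ∣ N := by
    have h1 : 2 ∣ N * ∏ i ∈ Finset.range d, q ^ i := by
      rw [key]; exact dvd_mul_of_dvd_right hHeven _
    have hcop : Nat.Coprime 2 (∏ i ∈ Finset.range d, q ^ i) := by
      rw [Nat.coprime_two_left]; exact hQodd
    exact hcop.dvd_of_dvd_mul_right h1
  have hrN : r ∣ N := by
    obtain ⟨k, hk⟩ := h2N
    rw [hk, Nat.mul_div_cancel_left _ (by omega : 0 < 2)] at hdiv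
    rw [hk]
    exact dvd_mul_of_dvd_right hdiv _
  have h3 : r ∣ q ^ (d ^ 2) * ∏ i ∈ Finset.range d, (q ^ (i + 1) + 1) := by
    rw [← key]; exact dvd_mul_of_dvd_left hrN _
  rcases (Nat.Prime.dvd_mul hr).mp h3 with h | h
  · exact absurd (hr.dvd_of_dvd_pow h) hrq
  · obtain ⟨i, hi, hri⟩ := (Prime.dvd_finset_prod_iff hr.prime _).mp h
    rw [Finset.mem_range] at hi
    exact ⟨i + 1, by omega, by omega, hri⟩

theorem order_even_of_dvd (q r j : ℕ) [Fact r.Prime] (hr2 : r ≠ 2) (hj : 1 ≤ j)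
    (h : r ∣ q ^ j + 1) :
    Even (orderOf (q : ZMod r)) ∧ orderOf (q : ZMod r) ≤ 2 * j := by
  have hr : r.Prime := Fact.out
  have h1 : (q : ZMod r) ^ j = -1 := by
    have := (ZMod.natCast_eq_zero_iff (q ^ j + 1) r).mpr h
    push_cast at this
    exact eq_neg_of_add_eq_zero_left this
  have h2 : (q : ZMod r) ^ (2 * j) = 1 := by
    rw [mul_comm, pow_mul, h1]; norm_num
  have h3 := orderOf_dvd_of_pow_eq_one h2
  refine ⟨?_, Nat.le_of_dvd (by omega) h3⟩
  by_contra hne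
  rw [Nat.not_even_iff_odd] at hne
  have hcop : Nat.Coprime (orderOf (q : ZMod r)) 2 := by
    rw [Nat.coprime_comm, Nat.coprime_two_left]; exact hne
  have h4 : orderOf (q : ZMod r) ∣ j := hcop.dvd_of_dvd_mul_left h3
  have h5 : (q : ZMod r) ^ j = 1 := orderOf_dvd_iff_pow_eq_one.mp h4
  rw [h1] at h5
  have h6 : ((2 : ℕ) : ZMod r) = 0 := by
    have : (2 : ZMod r) = 1 + 1 := by norm_num
    push_cast
    rw [this]
    nth_rewrite 1 [← h5]
    ring
  rw [ZMod.natCast_eq_zero_iff] at h6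
  exact hr2 ((Nat.prime_dvd_prime_iff_eq hr Nat.prime_two).mp h6)

/-- Derangements of odd prime order of PSp_n(q), q odd, on pairs of complementary totally isotropic subspaces. Here `T = PSp_n(q)`, `n = 2d ≥ 4`, `q` odd, realised through the symplectic matrices over the field `F` with `q` elements; Ω is the set of unordered pairs `{U, W}` of complementary totally isotropic `d`-spaces (`F^n = U ⊕ W`), whose stabilizers are the subgroups of type GL_d(q).2 (maximal except in some small cases; maximality is not assumed); an element of `T` of prime order `r` (a symplectic matrix `x` with `x^r` scalar, `x` not scalar) fixes such a pair when it fixes or interchanges `U` and `W`. For every odd prime `r ≠ p` dividing the number of such pairs, some element of `T` of order `r` fixes no such pair (the action is never `r`-elusive for odd `r ≠ p`). -/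
theorem result {F : Type*} [Field F] [Fintype F] {p : ℕ} [Fact p.Prime] [CharP F p] {q : ℕ} (hq : Fintype.card F = q)
    (d : ℕ) (hd : 2 ≤ d) (hT : (d, q) ≠ (2, 2)) (hodd : Odd q)
    (r : ℕ) [Fact r.Prime] (hr2 : r ≠ 2) (hrp : r ≠ p) (hΩ : r ∣ Nat.card {P : Submodule F (Fin d ⊕ Fin d → F) × Submodule F (Fin d ⊕ Fin d → F) // IsCompl P.1 P.2 ∧ (∀ u ∈ P.1, ∀ v ∈ P.1, Cfsg.sympForm d F u v = 0) ∧ (∀ u ∈ P.2, ∀ v ∈ P.2, Cfsg.sympForm d F u v = 0)} / 2) :
    ∃ x : ↥(Matrix.symplecticGroup (Fin d) F),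
      (∃ z : F, ((x ^ r : ↥(Matrix.symplecticGroup (Fin d) F)) : Matrix (Fin d ⊕ Fin d) (Fin d ⊕ Fin d) F) = z • (1 : Matrix (Fin d ⊕ Fin d) (Fin d ⊕ Fin d) F)) ∧
      (∀ z : F, (x : Matrix (Fin d ⊕ Fin d) (Fin d ⊕ Fin d) F) ≠ z • (1 : Matrix (Fin d ⊕ Fin d) (Fin d ⊕ Fin d) F)) ∧
      ¬ (∃ U W : Submodule F (Fin d ⊕ Fin d → F), IsCompl U W ∧ (∀ u ∈ U, ∀ v ∈ U, Cfsg.sympForm d F u v = 0) ∧ (∀ u ∈ W, ∀ v ∈ W, Cfsg.sympForm d F u v = 0) ∧
        ((U.map (Matrix.toLin' (x : Matrix (Fin d ⊕ Fin d) (Fin d ⊕ Fin d) F)) = U ∧ W.map (Matrix.toLin' (x : Matrix (Fin d ⊕ Fin d) (Fin d ⊕ Fin d) F)) = W) ∨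
         (U.map (Matrix.toLin' (x : Matrix (Fin d ⊕ Fin d) (Fin d ⊕ Fin d) F)) = W ∧ W.map (Matrix.toLin' (x : Matrix (Fin d ⊕ Fin d) (Fin d ⊕ Fin d) F)) = U))) := by
  classical
  have hr : r.Prime := Fact.out
  have hp : p.Prime := Fact.out
  obtain ⟨f, _, hqf⟩ := FiniteField.card F p
  rw [hq] at hqf
  have hK : Fintype.card F = p ^ (f : ℕ) := by rw [hq, hqf]
  obtain ⟨i, hi⟩ : ∃ i, i = orderOf ((q : ℕ) : ZMod r) := ⟨_, rfl⟩
  have hi' : i = orderOf ((p ^ (f : ℕ) : ℕ) : ZMod r) := by rw [hi, hqf]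
  have D := Cfsg.Agent.S2568.factorData hK r i hrp hi'
  have hn : p.Coprime r := (Nat.coprime_primes hp hr).mpr (Ne.symm hrp)
  have hrF : (r : F) ≠ 0 := by
    intro h0
    rw [CharP.cast_eq_zero_iff F p] at h0
    exact hrp ((Nat.prime_dvd_prime_iff_eq hp hr).mp h0).symm
  have hmon : ∀ P ∈ (UniqueFactorizationMonoid.normalizedFactors
      (Polynomial.cyclotomic r F)).toFinset, P.Monic := by
    intro P hP
    have hP1 := Multiset.mem_toFinset.mp hP
    rw [← UniqueFactorizationMonoid.normalize_normalized_factor P hP1]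
    exact Polynomial.monic_normalize
      (UniqueFactorizationMonoid.irreducible_of_normalized_factor P hP1).ne_zero
  have hi2 : i = orderOf ((Fintype.card F : ℕ) : ZMod r) := by rw [hi, hq]
  -- the count and its consequence
  have hq2 : 2 ≤ q := by
    rw [← hq]; exact Fintype.one_lt_card
  have hrq : ¬ r ∣ q := by
    intro h
    rw [hqf] at h
    exact hrp ((Nat.prime_dvd_prime_iff_eq hr hp).mp (hr.dvd_of_dvd_pow h))
  have hcount := Cfsg.Agent.Lib.Helper49.card_lagr_pairs (F := F) d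
  rw [Matrix.card_GL_field, Cfsg.Agent.Lib.Helper07.card_symplecticGroup hq d, hq] at hcount
  obtain ⟨j, hj1, hjd, hrj⟩ :=
    exists_dvd_pow_add_one q d _ r hq2 hodd (by omega) hr hrq hcount hΩ
  obtain ⟨hev, hile⟩ := order_even_of_dvd q r j hr2 hj1 hrj
  rw [← hi] at hev hile
  have hi1 : 1 ≤ i := D.hi
  have hi2d : i ≤ 2 * d := by omega
  -- a factor
  have hne : (UniqueFactorizationMonoid.normalizedFactors
      (Polynomial.cyclotomic r F)).toFinset.Nonempty := by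
    rw [Finset.nonempty_iff_ne_empty]
    intro hempty
    have h1 := D.prod
    rw [hempty, Finset.prod_empty, mul_one] at h1
    have h2 := congrArg Polynomial.natDegree h1
    have e1 : (Polynomial.X - 1 : Polynomial F).natDegree = 1 := by
      rw [← Polynomial.C_1]; exact Polynomial.natDegree_X_sub_C 1
    have e2 : (Polynomial.X ^ r - 1 : Polynomial F).natDegree = r := by
      rw [← Polynomial.C_1]; exact Polynomial.natDegree_X_pow_sub_C
    rw [e1, e2] at h2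
    have := hr.two_le
    omega
  obtain ⟨P₀, hP₀⟩ := hne
  let a : ↥(UniqueFactorizationMonoid.normalizedFactors
      (Polynomial.cyclotomic r F)).toFinset → ℕ := fun P => if P = ⟨P₀, hP₀⟩ then 1 else 0
  have hsum : ∑ P, a P = 1 := by
    rw [Finset.sum_ite_eq' Finset.univ (⟨P₀, hP₀⟩ : ↥(UniqueFactorizationMonoid.normalizedFactors
      (Polynomial.cyclotomic r F)).toFinset) (fun _ => 1)]
    simp
  have ha1 : i * ∑ P, a P ≤ 2 * d := by rw [hsum, mul_one]; exact hi2d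
  have hPrev : ∀ P : ↥(UniqueFactorizationMonoid.normalizedFactors
      (Polynomial.cyclotomic r F)).toFinset, (P : Polynomial F).reverse = (P : Polynomial F) := by
    intro P
    haveI : Fact (Irreducible P.1) := ⟨D.irr P.1 P.2⟩
    apply Cfsg.Agent.Lib.Helper49.reverse_eq_self_of_starP_eq (hmon P.1 P.2)
      (Cfsg.Agent.Lib.Helper49.starP_eq_self_of_even (hmon P.1 P.2) hi2 (by omega) hev
        (D.dvd_of_mem P.2)) hr.pos (D.dvd_of_mem P.2) (D.X_sub_one_not_dvd P.2)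
  have hpal : ((Polynomial.X - 1 : Polynomial F) ^ (2 * d - i * ∑ P, a P) *
      ∏ P : ↥(UniqueFactorizationMonoid.normalizedFactors
      (Polynomial.cyclotomic r F)).toFinset, (P : Polynomial F) ^ a P).reverse =
      (Polynomial.X - 1 : Polynomial F) ^ (2 * d - i * ∑ P, a P) *
      ∏ P : ↥(UniqueFactorizationMonoid.normalizedFactors
      (Polynomial.cyclotomic r F)).toFinset, (P : Polynomial F) ^ a P := by
    apply Cfsg.Agent.Lib.Helper49.palin_mul
    · apply Cfsg.Agent.Lib.Helper49.palin_X_sub_one_even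
      rw [hsum, mul_one]
      obtain ⟨l, hl⟩ := hev
      exact ⟨d - l, by omega⟩
    · apply Cfsg.Agent.Lib.Helper49.palin_prod
      intro P _
      exact Cfsg.Agent.Lib.Helper49.palin_pow (hPrev P) _
  obtain ⟨x, hx, hκ⟩ := D.exists_sp_realize p hmon hrF d a ha1 hpal
  have hκ₀ : Cfsg.Agent.Lib.Helper49.kdim (Matrix.toLin' (x : Matrix (Fin d ⊕ Fin d) (Fin d ⊕ Fin d) F))
      P₀ = i := by
    have := hκ ⟨P₀, hP₀⟩
    simp only [a, if_true, mul_one] at this
    exact this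
  -- the derangement property
  have hder : ¬ (∃ U W : Submodule F (Fin d ⊕ Fin d → F), IsCompl U W ∧
      (∀ u ∈ U, ∀ v ∈ U, Cfsg.sympForm d F u v = 0) ∧
      (∀ u ∈ W, ∀ v ∈ W, Cfsg.sympForm d F u v = 0) ∧
      ((U.map (Matrix.toLin' (x : Matrix (Fin d ⊕ Fin d) (Fin d ⊕ Fin d) F)) = U ∧
        W.map (Matrix.toLin' (x : Matrix (Fin d ⊕ Fin d) (Fin d ⊕ Fin d) F)) = W) ∨
       (U.map (Matrix.toLin' (x : Matrix (Fin d ⊕ Fin d) (Fin d ⊕ Fin d) F)) = W ∧
        W.map (Matrix.toLin' (x : Matrix (Fin d ⊕ Fin d) (Fin d ⊕ Fin d) F)) = U))) := by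
    rintro ⟨U, W, hc, hU, hW, hfix⟩
    have hfix' : U.map (Matrix.toLin' (x : Matrix (Fin d ⊕ Fin d) (Fin d ⊕ Fin d) F)) = U ∧
        W.map (Matrix.toLin' (x : Matrix (Fin d ⊕ Fin d) (Fin d ⊕ Fin d) F)) = W := by
      rcases hfix with h | h
      · exact h
      · exact Cfsg.Agent.Lib.Helper49.fix_of_swap d x (hr.odd_of_ne_two hr2) hx U W h.1 h.2
    obtain ⟨h, hh⟩ := D.kdim_of_fix_pair d hmon hr.two_le x hx U W hc hU hW hfix'.1 hfix'.2
    have h1 := hh ⟨P₀, hP₀⟩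
    haveI : Fact (Irreducible P₀) := ⟨D.irr P₀ hP₀⟩
    have hstar : ((D.star hmon ⟨P₀, hP₀⟩ : ↥(UniqueFactorizationMonoid.normalizedFactors
        (Polynomial.cyclotomic r F)).toFinset) : Polynomial F) = P₀ := by
      rw [D.star_val]
      exact Cfsg.Agent.Lib.Helper49.starP_eq_self_of_even (hmon P₀ hP₀) hi2 (by omega) hev
        (D.dvd_of_mem hP₀)
    rw [hstar] at h1
    change Cfsg.Agent.Lib.Helper49.kdim _ P₀ = _ at h1
    rw [hκ₀] at h1
    obtain ⟨c, hc'⟩ := D.dvd_kdim (Matrix.toLin' (h : Matrix (Fin d) (Fin d) F)) hP₀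
    rw [hc'] at h1
    have h2 : i * 1 = i * (2 * c) := by rw [mul_one]; nth_rewrite 1 [h1]; ring
    have h3 := Nat.eq_of_mul_eq_mul_left (by omega : 0 < i) h2
    omega
  refine ⟨x, ⟨1, ?_⟩, ?_, hder⟩
  · rw [hx, one_smul]
    rfl
  · intro z hz
    apply hder
    have hz0 : z ≠ 0 := by
      intro h0
      have hdet := SymplecticGroup.symplectic_det x.2
      haveI : Nonempty (Fin d ⊕ Fin d) := ⟨Sum.inl ⟨0, by omega⟩⟩
      rw [hz, h0, zero_smul, Matrix.det_zero] at hdet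
      exact not_isUnit_zero hdet
    have hmap : ∀ U : Submodule F (Fin d ⊕ Fin d → F),
        U.map (Matrix.toLin' (x : Matrix (Fin d ⊕ Fin d) (Fin d ⊕ Fin d) F)) = U := by
      intro U
      rw [hz, map_smul, Matrix.toLin'_one, Submodule.map_smul _ _ z hz0, Submodule.map_id]
    exact ⟨Cfsg.Agent.Lib.Helper49.stdU F d, Cfsg.Agent.Lib.Helper49.stdW F d,
      Cfsg.Agent.Lib.Helper49.std_isCompl d,
      fun u hu v hv => Cfsg.Agent.Lib.Helper49.stdU_isotropic d u v hu hv,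
      fun u hu v hv => Cfsg.Agent.Lib.Helper49.stdW_isotropic d u v hu hv,
      Or.inl ⟨hmap _, hmap _⟩⟩

end Cfsg.Agent.S5963
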