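import Cfsg.Statements.S5964
import Cfsg.Agent.Lib.Helper49.SubfieldInvol
import Cfsg.Agent.Lib.Helper49.SubfieldIndex

set_option autoImplicit false
open scoped MatrixGroups
open Cfsg

namespace Cfsg.Agent.S5964

/-- Involutions of PSL_n(q) and subfield subgroups. Here `T = PSL_n(F)` for a field `F` with `q = p^f` elements (`n ≥ 2`, `(n, q) ≠ (2, 2), (2, 3)`), `F₀` is the subfield with `q₀` elements where `q = q₀^k` for a prime `k`, and `H` is the subgroup of matrices of determinant 1 lying in the subfield group of `F₀` (invertible matrices over `F₀` times scalars) — a maximal subgroup of type GL_n(q₀) (the case `n = 2`, `q₀ = 2` is excluded); Ω is the set of `T`-conjugates of `H` (cosets of `H`), so an element of `T` of prime order `r` (a matrix `x` of determinant 1 with `x^r` scalar, `x` not scalar) fixes a point of Ω when some conjugate of `x` by a matrix of determinant 1 lies in `H`. Suppose the index of `H` is even. Then every involution of `T` is conjugate in `T` into `H` if and only if either `q` is even, or `k = 2` and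 `(n)_2 ≤ (q − 1)_2`. (For `q` odd and `k` odd the index of `H` is odd, so that case does not arise.) -/
theorem result {F : Type*} [Field F] [Fintype F] {p : ℕ} [Fact p.Prime] [CharP F p] {q : ℕ} (hq : Fintype.card F = q)
    (n : ℕ) (hn : 2 ≤ n) (hT : (n, q) ≠ (2, 2) ∧ (n, q) ≠ (2, 3))
    (F₀ : Subfield F) (k q₀ : ℕ) (hk : k.Prime) (hF₀ : Nat.card ↥F₀ = q₀) (hqk : q = q₀ ^ k) (hC5 : ¬ (n = 2 ∧ q₀ = 2)) (hΩ : 2 ∣ ((Cfsg.Geo.subfieldSubgroup F₀ 1).comap (Matrix.SpecialLinearGroup.toGL : Matrix.SpecialLinearGroup (Fin n) F →* GL (Fin n) F)).index) :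
    (∀ x : Matrix.SpecialLinearGroup (Fin n) F,
      (∃ z : F, ((x ^ 2 : Matrix.SpecialLinearGroup (Fin n) F) : Matrix (Fin n) (Fin n) F) = z • (1 : Matrix (Fin n) (Fin n) F)) →
      (∀ z : F, (x : Matrix (Fin n) (Fin n) F) ≠ z • (1 : Matrix (Fin n) (Fin n) F)) →
      ∃ P : Matrix.SpecialLinearGroup (Fin n) F, P⁻¹ * x * P ∈ ((Cfsg.Geo.subfieldSubgroup F₀ 1).comap (Matrix.SpecialLinearGroup.toGL : Matrix.SpecialLinearGroup (Fin n) F →* GL (Fin n) F))) ↔
    (Odd q → (k = 2 ∧ padicValNat 2 n ≤ padicValNat 2 (q - 1))) := by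
  classical
  have hcard : Fintype.card F = q₀ ^ k := by rw [hq, hqk]
  have hn0 : 0 < n := by omega
  by_cases hqodd : Odd q
  · -- q odd
    have hF2 : ringChar F ≠ 2 := by
      intro h
      have h1 := FiniteField.even_card_iff_char_two.mp h
      rw [hq] at h1
      have := Nat.odd_iff.mp hqodd
      omega
    have h2F : (2 : F) ≠ 0 := Ring.two_ne_zero hF2
    have hq₀odd : Odd q₀ := (Nat.odd_pow_iff hk.ne_zero).mp (hqk ▸ hqodd)
    by_cases hk2 : k = 2
    · subst hk2
      have hsq : ∀ a ∈ F₀, IsSquare a := fun a ha =>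
        Cfsg.Agent.Lib.Helper49.subfield_isSquare hF2 F₀ hF₀ hcard ha
      have hm1 : IsSquare (-1 : F) := hsq _ (F₀.neg_mem F₀.one_mem)
      constructor
      · intro hall _
        refine ⟨rfl, ?_⟩
        by_contra hcon
        push Not at hcon
        have hneven : 2 ∣ n := dvd_of_one_le_padicValNat (by omega)
        obtain ⟨m, hm⟩ := hneven
        have hm0 : 0 < m := by omega
        have hnm : n = m + m := by omega
        have hv : padicValNat 2 (Fintype.card F - 1) ≤ padicValNat 2 m := by
          rw [hm, padicValNat.mul (by norm_num) hm0.ne', padicValNat_self] at hcon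
          rw [hq]; omega
        obtain ⟨z, hzns, hzm⟩ :=
          Cfsg.Agent.Lib.Helper49.exists_nonsquare_neg_pow_eq_one hF2 hm1 m hm0.ne' hv
        obtain ⟨x, hx2, hxns⟩ := Cfsg.Agent.Lib.Helper49.exists_sq_eq (n := n) hnm hm0 z hzm
        obtain ⟨P, hP⟩ := hall x ⟨z, hx2⟩ hxns
        exact Cfsg.Agent.Lib.Helper49.not_conj_of_nonsquare F₀ hn0 hsq x z hzns hx2 P hP
      · intro hR x hx hxns
        obtain ⟨z, hz⟩ := hx
        obtain ⟨-, hv⟩ := hR hqodd
        have hzsq : IsSquare z := by
          by_contra hzns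
          have hz' := hz
          rw [Matrix.SpecialLinearGroup.coe_pow, pow_two] at hz'
          obtain ⟨m, hm, hdet⟩ := Cfsg.Agent.Lib.Helper49.det_of_sq_eq_nonsquare
            (x : Matrix (Fin n) (Fin n) F) z hzns hz'
          rw [x.det_coe] at hdet
          have hm0 : m ≠ 0 := by omega
          have hwns : ¬ IsSquare (-z) := by
            intro h
            apply hzns
            have := hm1.mul h
            simpa using this
          have hvm : padicValNat 2 m < padicValNat 2 (Fintype.card F - 1) := by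
            have hnm : n = 2 * m := by omega
            rw [hnm, padicValNat.mul (by norm_num) hm0, padicValNat_self] at hv
            rw [hq]; omega
          exact Cfsg.Agent.Lib.Helper49.not_nonsquare_pow_eq_one hF2 m hm0 hvm (-z) hwns hdet.symm
        obtain ⟨l, hl⟩ := hzsq
        exact Cfsg.Agent.Lib.Helper49.conj_into_subfield_of_sq h2F F₀ hn0 x l
          (by rw [hz, hl, pow_two])
    · exfalso
      have hkodd : Odd k := hk.odd_of_ne_two hk2
      have hodd := Cfsg.Agent.Lib.Helper49.odd_index_subfieldSL (n := n) F₀ hF₀ hcard hq₀odd hkodd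
      exact (Nat.not_even_iff_odd.mpr hodd) (even_iff_two_dvd.mpr hΩ)
  · -- q even
    have hchar : ringChar F = 2 := by
      apply FiniteField.even_card_iff_char_two.mpr
      rw [hq]
      have := Nat.not_odd_iff_even.mp hqodd
      exact Nat.even_iff.mp this
    haveI : CharP F 2 := ringChar.of_eq hchar
    constructor
    · intro _ h
      exact absurd h hqodd
    · intro _ x hx hxns
      obtain ⟨z, hz⟩ := hx
      exact Cfsg.Agent.Lib.Helper49.conj_into_subfield_two F₀ hn x z hz hxns

end Cfsg.Agent.S5964
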