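import Cfsg.Statements.S5967
import Cfsg.Agent.Lib.Helper49.SimInvolDer

set_option autoImplicit false
open scoped MatrixGroups
open Cfsg

namespace Cfsg.Agent.S5967

/-- Involutions of PSL_n(q) and the symplectic-type subgroups. Here `T = PSL_n(F)` for a field `F` with `q` elements, `n ≥ 4` even, `f` is a nondegenerate alternating form on `F^n`, and `H` is the subgroup of matrices of determinant 1 preserving `f` up to a scalar — a maximal subgroup of type Sp_n(q); Ω is the set of `T`-conjugates of `H` (cosets of `H`), so an element of `T` of prime order `r` (a matrix `x` of determinant 1 with `x^r` scalar, `x` not scalar) fixes a point of Ω when some conjugate of `x` by a matrix of determinant 1 preserves `f` up to a scalar. Suppose the index of `H` is even. Then every involution of `T` is conjugate in `T` into `H` if and only if `(q − 1)_2 ≤ (n)_2`. -/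
theorem result {F : Type*} [Field F] [Fintype F] {p : ℕ} [Fact p.Prime] [CharP F p] {q : ℕ} (hq : Fintype.card F = q)
    (n : ℕ) (hn : 4 ≤ n) (he : Even n) (f : (Fin n → F) → (Fin n → F) → F) (hf : Cfsg.Geo.IsSymplecticForm f)
    (hΩ : 2 ∣ ((Cfsg.Geo.similarityGroup f).comap (Matrix.SpecialLinearGroup.toGL : Matrix.SpecialLinearGroup (Fin n) F →* GL (Fin n) F)).index) :
    (∀ x : Matrix.SpecialLinearGroup (Fin n) F,
      (∃ z : F, ((x ^ 2 : Matrix.SpecialLinearGroup (Fin n) F) : Matrix (Fin n) (Fin n) F) = z • (1 : Matrix (Fin n) (Fin n) F)) →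
      (∀ z : F, (x : Matrix (Fin n) (Fin n) F) ≠ z • (1 : Matrix (Fin n) (Fin n) F)) →
      ∃ P : Matrix.SpecialLinearGroup (Fin n) F, P⁻¹ * x * P ∈ ((Cfsg.Geo.similarityGroup f).comap (Matrix.SpecialLinearGroup.toGL : Matrix.SpecialLinearGroup (Fin n) F →* GL (Fin n) F))) ↔
    padicValNat 2 (q - 1) ≤ padicValNat 2 n := by
  classical
  obtain ⟨m, hm⟩ := he
  have hn2 : n = 2 * m := by omega
  have hn0 : 0 < n := by omega
  by_cases hqodd : Odd q
  · have hF2 : ringChar F ≠ 2 := by
      intro h
      have h1 := FiniteField.even_card_iff_char_two.mp h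
      rw [hq] at h1
      have := Nat.odd_iff.mp hqodd
      omega
    have h2F : (2 : F) ≠ 0 := Ring.two_ne_zero hF2
    constructor
    · intro hall
      by_contra hcon
      push Not at hcon
      obtain ⟨a, ha⟩ := Cfsg.Agent.Lib.Helper49.exists_pow_eq_neg_one hF2 n (by omega)
        (by rw [hq]; exact hcon)
      obtain ⟨x, hx2, hxns, hder⟩ :=
        Cfsg.Agent.Lib.Helper49.exists_sim_derangement h2F f hf (by omega) a ha
      obtain ⟨P, hP⟩ := hall x ⟨_, hx2⟩ hxns
      exact hder P hP
    · intro hv x hx hxns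
      obtain ⟨z, hz⟩ := hx
      by_cases hzsq : IsSquare z
      · obtain ⟨l, hl⟩ := hzsq
        exact Cfsg.Agent.Lib.Helper49.conj_sim_of_sq h2F f hf m hn2 hn0 x l
          (by rw [hz, hl, pow_two])
          (Cfsg.Agent.Lib.Helper49.pow_ne_neg_one hF2 n (by omega) (by rw [hq]; exact hv))
      · exact Cfsg.Agent.Lib.Helper49.conj_sim_of_nonsquare hF2 f hf m hn2 hn0 x z hzsq hz
  · have hqeven : Even q := Nat.not_odd_iff_even.mp hqodd
    have hchar : ringChar F = 2 := by
      apply FiniteField.even_card_iff_char_two.mpr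
      rw [hq]
      exact Nat.even_iff.mp hqeven
    haveI : CharP F 2 := ringChar.of_eq hchar
    constructor
    · intro _
      have hq1 : 1 < q := by rw [← hq]; exact Fintype.one_lt_card
      have : padicValNat 2 (q - 1) = 0 := by
        apply padicValNat.eq_zero_of_not_dvd
        obtain ⟨r, hr⟩ := hqeven
        omega
      omega
    · intro _ x hx _
      obtain ⟨z, hz⟩ := hx
      exact Cfsg.Agent.Lib.Helper49.conj_sim_char_two f hf m hn2 hn0 x z hz

end Cfsg.Agent.S5967
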