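import Cfsg.Statements.S5968
import Cfsg.Agent.Lib.Helper49.SimDerange
import Cfsg.Agent.S2568

set_option autoImplicit false
open scoped MatrixGroups
open Cfsg

namespace Cfsg.Agent.S5968

/-- Derangements of odd prime order of PSL_n(q) on the cosets of a symplectic-type subgroup. Here `T = PSL_n(F)` for a field `F` with `q` elements, `n ≥ 4` even, `f` is a nondegenerate alternating form on `F^n`, and `H` is the subgroup of matrices of determinant 1 preserving `f` up to a scalar — a maximal subgroup of type Sp_n(q); Ω is the set of `T`-conjugates of `H` (cosets of `H`), so an element of `T` of prime order `r` (a matrix `x` of determinant 1 with `x^r` scalar, `x` not scalar) fixes a point of Ω when some conjugate of `x` by a matrix of determinant 1 preserves `f` up to a scalar. For every odd prime `r` dividing the index of `H`, with `(n, r) ≠ (6, 3)`, there is an element of `T` of order `r` with no conjugate in `H`. (For `n = 6`, `r = 3` this can fail: when `(q − 1)_3 = 3` every element of order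 3 is conjugate into `H`.) -/
theorem result {F : Type*} [Field F] [Fintype F] {p : ℕ} [Fact p.Prime] [CharP F p] {q : ℕ} (hq : Fintype.card F = q)
    (n : ℕ) (hn : 4 ≤ n) (he : Even n) (f : (Fin n → F) → (Fin n → F) → F) (hf : Cfsg.Geo.IsSymplecticForm f)
    (r : ℕ) [Fact r.Prime] (hr2 : r ≠ 2) (hgap : ¬ (n = 6 ∧ r = 3)) (hΩ : r ∣ ((Cfsg.Geo.similarityGroup f).comap (Matrix.SpecialLinearGroup.toGL : Matrix.SpecialLinearGroup (Fin n) F →* GL (Fin n) F)).index) :
    ∃ x : Matrix.SpecialLinearGroup (Fin n) F,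
      (∃ z : F, ((x ^ r : Matrix.SpecialLinearGroup (Fin n) F) : Matrix (Fin n) (Fin n) F) = z • (1 : Matrix (Fin n) (Fin n) F)) ∧
      (∀ z : F, (x : Matrix (Fin n) (Fin n) F) ≠ z • (1 : Matrix (Fin n) (Fin n) F)) ∧
      ∀ P : Matrix.SpecialLinearGroup (Fin n) F, P⁻¹ * x * P ∉ ((Cfsg.Geo.similarityGroup f).comap (Matrix.SpecialLinearGroup.toGL : Matrix.SpecialLinearGroup (Fin n) F →* GL (Fin n) F)) := by
  classical
  have hr : r.Prime := Fact.out
  have hp : p.Prime := Fact.out
  suffices h : ∃ x : Matrix.SpecialLinearGroup (Fin n) F, x ^ r = 1 ∧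
      (∀ z : F, (x : Matrix (Fin n) (Fin n) F) ≠ z • (1 : Matrix (Fin n) (Fin n) F)) ∧
      ∀ P : Matrix.SpecialLinearGroup (Fin n) F, P⁻¹ * x * P ∉
        ((Cfsg.Geo.similarityGroup f).comap (Matrix.SpecialLinearGroup.toGL :
          Matrix.SpecialLinearGroup (Fin n) F →* GL (Fin n) F)) by
    obtain ⟨x, hx, h2, h3⟩ := h
    exact ⟨x, ⟨1, by rw [hx, one_smul]; rfl⟩, h2, h3⟩
  by_cases hrp : r = p
  · subst hrp
    exact Cfsg.Agent.Lib.Helper49.derange_unip r hr2 hn f hf
  · obtain ⟨f', _, hqf⟩ := FiniteField.card F p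
    rw [hq] at hqf
    have hK : Fintype.card F = p ^ (f' : ℕ) := by rw [hq, hqf]
    obtain ⟨i, hi⟩ : ∃ i, i = orderOf ((q : ℕ) : ZMod r) := ⟨_, rfl⟩
    have hi' : i = orderOf ((p ^ (f' : ℕ) : ℕ) : ZMod r) := by rw [hi, hqf]
    have D := Cfsg.Agent.S2568.factorData hK r i hrp hi'
    have hmon : ∀ P ∈ (UniqueFactorizationMonoid.normalizedFactors
        (Polynomial.cyclotomic r F)).toFinset, P.Monic := by
      intro P hP
      have hP1 := Multiset.mem_toFinset.mp hP
      rw [← UniqueFactorizationMonoid.normalize_normalized_factor P hP1]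
      exact Polynomial.monic_normalize
        (UniqueFactorizationMonoid.irreducible_of_normalized_factor P hP1).ne_zero
    have hne : (UniqueFactorizationMonoid.normalizedFactors
        (Polynomial.cyclotomic r F)).toFinset.Nonempty := by
      rw [Finset.nonempty_iff_ne_empty]
      intro hempty
      have h1 := D.prod
      rw [hempty, Finset.prod_empty, mul_one] at h1
      have h2 := congrArg Polynomial.natDegree h1
      have e1 : (Polynomial.X - 1 : Polynomial F).natDegree = 1 := by
        rw [← Polynomial.C_1]; exact Polynomial.natDegree_X_sub_C 1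
      have e2 : (Polynomial.X ^ r - 1 : Polynomial F).natDegree = r := by
        rw [← Polynomial.C_1]; exact Polynomial.natDegree_X_pow_sub_C
      rw [e1, e2] at h2
      have := hr.two_le
      omega
    have hq2 : 2 ≤ q := by
      rw [← hq]; exact Fintype.one_lt_card
    have hrq : ¬ r ∣ q := by
      intro h
      rw [hqf] at h
      exact hrp ((Nat.prime_dvd_prime_iff_eq hr hp).mp (hr.dvd_of_dvd_pow h))
    obtain ⟨m, hm⟩ := he
    have hn2 : n = 2 * m := by omega
    subst hn2
    obtain ⟨I, hI1, hI2⟩ := Cfsg.Agent.Lib.Helper49.sim_index_dvd f hf m rfl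
    have hrI : r ∣ I := dvd_trans hΩ hI1
    rw [Cfsg.Agent.Lib.Helper07.card_symplecticGroup hq m] at hI2
    haveI : Nonempty (Fin (2 * m)) := ⟨⟨0, by omega⟩⟩
    have hSL := Cfsg.Agent.Lib.Helper45.card_SL_mul (n := Fin (2 * m)) (F := F)
    rw [Matrix.card_GL_field, hq] at hSL
    obtain ⟨j, hjm, hrj⟩ := Cfsg.Agent.Lib.Helper49.sl_sp_arith q m I r _ hq2 hI2 hSL hr hrq hrI
    obtain ⟨hiodd, hile⟩ := Cfsg.Agent.Lib.Helper49.order_odd_of_dvd q r (2 * j + 1) (by omega)
      ⟨j, rfl⟩ hrj
    rw [← hi] at hiodd hile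
    have hcast : r ∣ Fintype.card F - 1 ↔ i = 1 := by
      rw [hq, hi, orderOf_eq_one_iff, ← ZMod.natCast_eq_zero_iff,
        Nat.cast_sub (by omega : 1 ≤ q), Nat.cast_one, sub_eq_zero]
    by_cases hi1 : i = 1
    · exact Cfsg.Agent.Lib.Helper49.derange_split hr hr2 (hcast.mpr hi1) hn ⟨m, hm⟩ hgap f hf
    · exact D.derange_odd hmon hr hr2 hiodd (by omega) (fun h => hi1 (hcast.mp h)) hne (by omega)
        f hf

end Cfsg.Agent.S5968
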