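import Cfsg.Statements.S5969
import Cfsg.Agent.Lib.Helper49.FieldExtDer
import Cfsg.Agent.Lib.Helper49.FieldExtInvol

set_option autoImplicit false
open scoped MatrixGroups
open Cfsg

namespace Cfsg.Agent.S5969

/-- Involutions of PSL_n(q) and extension-field subgroups of degree 2. Here `T = PSL_n(F)` for a field `F` with `q = p^f` elements (`n ≥ 2`, `(n, q) ≠ (2, 2), (2, 3)`), `k` is a prime dividing `n`, `K` is a subalgebra of the `n × n` matrices that is a field of degree `k` over `F` (an extension-field structure F_{q^k} on `F^n`), and `H` is the subgroup of matrices of determinant 1 normalizing `K` — a subgroup of type GL_{n/k}(q^k) (maximal except in some small cases; maximality is not assumed); Ω is the set of cosets of `H` in `T`, so an element of `T` of prime order `r` (a matrix `x` of determinant 1 with `x^r` scalar, `x` not scalar) fixes a point of Ω when some conjugate of `x` by a matrix of determinant 1 normalizes `K`. Take `k = 2` and suppose the index of `H` is even. Then every involution of `T`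 is conjugate in `T` into `H` if and only if `n = 2`, or `q` is odd and `(q − 1)_2 ≤ (n)_2`. -/
theorem result {F : Type*} [Field F] [Fintype F] {p : ℕ} [Fact p.Prime] [CharP F p] {q : ℕ} (hq : Fintype.card F = q)
    (n : ℕ) (hn : 2 ≤ n) (hT : (n, q) ≠ (2, 2) ∧ (n, q) ≠ (2, 3))
    (k : ℕ) (hk : k.Prime) (hkn : k ∣ n) (K : Subalgebra F (Matrix (Fin n) (Fin n) F)) (hK : Cfsg.Geo.IsFieldSubalgebra k K) (hk2 : k = 2) (hΩ : 2 ∣ ((Cfsg.Geo.subalgebraNormalizer K).comap (Matrix.SpecialLinearGroup.toGL : Matrix.SpecialLinearGroup (Fin n) F →* GL (Fin n) F)).index) :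
    (∀ x : Matrix.SpecialLinearGroup (Fin n) F,
      (∃ z : F, ((x ^ 2 : Matrix.SpecialLinearGroup (Fin n) F) : Matrix (Fin n) (Fin n) F) = z • (1 : Matrix (Fin n) (Fin n) F)) →
      (∀ z : F, (x : Matrix (Fin n) (Fin n) F) ≠ z • (1 : Matrix (Fin n) (Fin n) F)) →
      ∃ P : Matrix.SpecialLinearGroup (Fin n) F, P⁻¹ * x * P ∈ ((Cfsg.Geo.subalgebraNormalizer K).comap (Matrix.SpecialLinearGroup.toGL : Matrix.SpecialLinearGroup (Fin n) F →* GL (Fin n) F))) ↔
    (n = 2 ∨ (Odd q ∧ padicValNat 2 (q - 1) ≤ padicValNat 2 n)) := by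
  classical
  subst hk2
  obtain ⟨m, hm⟩ := hkn
  have hn0 : 0 < n := by omega
  obtain ⟨θ, s, d, hQ⟩ := Cfsg.Agent.Lib.Helper49.exists_quadGen hn0 K hK
  by_cases hqodd : Odd q
  · have hF2 : ringChar F ≠ 2 := by
      intro h
      have h1 := FiniteField.even_card_iff_char_two.mp h
      rw [hq] at h1
      have := Nat.odd_iff.mp hqodd
      omega
    have h2F : (2 : F) ≠ 0 := Ring.two_ne_zero hF2
    constructor
    · intro hall
      by_contra hcon
      push Not at hcon
      obtain ⟨hn2, hv⟩ := hcon
      have hv' := hv hqodd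
      have hn3 : 3 ≤ n := by omega
      obtain ⟨a, ha⟩ := Cfsg.Agent.Lib.Helper49.exists_pow_eq_neg_one hF2 n (by omega)
        (by rw [hq]; exact hv')
      obtain ⟨x, hx2, hxns, hder⟩ := hQ.exists_derangement_odd h2F hn3 a ha
      obtain ⟨P, hP⟩ := hall x ⟨_, hx2⟩ hxns
      exact hder P hP
    · intro hrhs x hx hxns
      obtain ⟨z, hz⟩ := hx
      by_cases hzsq : IsSquare z
      · obtain ⟨l, hl⟩ := hzsq
        apply Cfsg.Agent.Lib.Helper49.conj_norm_of_sq h2F hQ m hm hn0 x l
          (by rw [hz, hl, pow_two]) hxns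
        rcases hrhs with h | ⟨_, hv⟩
        · left; exact h
        · right
          exact Cfsg.Agent.Lib.Helper49.pow_ne_neg_one hF2 n (by omega) (by rw [hq]; exact hv)
      · exact Cfsg.Agent.Lib.Helper49.conj_norm_of_nonsquare hF2 hQ m hm hn0 x z hzsq hz
  · have hqeven : Even q := Nat.not_odd_iff_even.mp hqodd
    have hchar : ringChar F = 2 := by
      apply FiniteField.even_card_iff_char_two.mpr
      rw [hq]
      exact Nat.even_iff.mp hqeven
    haveI : CharP F 2 := ringChar.of_eq hchar
    constructor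
    · intro hall
      by_contra hcon
      push Not at hcon
      obtain ⟨hn2, _⟩ := hcon
      have hn3 : 3 ≤ n := by omega
      obtain ⟨x, hx2, hxns, hder⟩ := hQ.exists_derangement_two hn3
      obtain ⟨P, hP⟩ := hall x ⟨_, hx2⟩ hxns
      exact hder P hP
    · intro hrhs x hx hxns
      obtain ⟨z, hz⟩ := hx
      rcases hrhs with h | ⟨ho, _⟩
      · subst h
        exact Cfsg.Agent.Lib.Helper49.conj_norm_char_two hQ x z hz hxns
      · exact absurd ho hqodd

end Cfsg.Agent.S5969
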