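import Mathlib
import Cfsg.Statements.S5970
import Cfsg.Agent.Lib.Helper99.FieldSub
import Cfsg.Agent.Lib.Helper99.CyclicN

set_option autoImplicit false
open scoped MatrixGroups
open Cfsg

namespace Cfsg.Agent.S5970

open Matrix Polynomial
open Cfsg.Agent.Lib.Helper99

section setup

variable {F : Type*} [Field F] [Fintype F] (p : ℕ) [Fact p.Prime] [CharP F p] {n : ℕ} [NeZero n]
variable (K : Subalgebra F (Matrix (Fin n) (Fin n) F)) (hK : Cfsg.Geo.IsFieldSubalgebra n K)

/-- the Frobenius element -/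
noncomputable def G : Matrix (Fin n) (Fin n) F := FieldSub.frobMat K hK p

theorem G_pow : G p K hK ^ n = 1 := FieldSub.frobMat_pow K hK p

theorem G_mul_inv : G p K hK * G p K hK ^ (n - 1) = 1 := by
  rw [← pow_succ', Nat.sub_add_cancel (Nat.pos_of_ne_zero (NeZero.ne n)), G_pow]

theorem G_inv_mul : G p K hK ^ (n - 1) * G p K hK = 1 := by
  rw [← pow_succ, Nat.sub_add_cancel (Nat.pos_of_ne_zero (NeZero.ne n)), G_pow]

theorem G_conj {b : Matrix (Fin n) (Fin n) F} (hb : b ∈ K) :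
    G p K hK * b * G p K hK ^ (n - 1) = b ^ Fintype.card F := by
  have h1 : G p K hK * b = b ^ Fintype.card F * G p K hK := FieldSub.frobMat_mul K hK p hb
  rw [h1, mul_assoc, G_mul_inv, mul_one]

theorem G_normalizes {b : Matrix (Fin n) (Fin n) F} (hb : b ∈ K) :
    G p K hK * b * G p K hK ^ (n - 1) ∈ K := by
  rw [G_conj p K hK hb]
  exact K.pow_mem hb _

theorem G_normalizes_pow (j : ℕ) {b : Matrix (Fin n) (Fin n) F} (hb : b ∈ K) :
    G p K hK ^ j * b * (G p K hK ^ (n - 1)) ^ j ∈ K := by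
  induction j with
  | zero => simpa using hb
  | succ j ih =>
    have := G_normalizes p K hK ih
    have e : G p K hK * (G p K hK ^ j * b * (G p K hK ^ (n - 1)) ^ j) * G p K hK ^ (n - 1) =
        G p K hK ^ (j + 1) * b * (G p K hK ^ (n - 1)) ^ (j + 1) := by
      rw [pow_succ' (G p K hK) j, pow_succ ((G p K hK) ^ (n - 1)) j]
      simp only [mul_assoc]
    rw [← e]
    exact this

theorem G_fixed : G p K hK *ᵥ FieldSub.v0 F n = FieldSub.v0 F n := by
  have := FieldSub.frobMat_mulVec K hK p K.one_mem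
  rw [one_mulVec, one_pow, one_mulVec] at this
  exact this

theorem G_ne_one (hn2 : 2 ≤ n) : G p K hK ≠ 1 := by
  intro h
  obtain ⟨θ, hθ, hne⟩ := FieldSub.exists_pow_card_ne K hK hn2
  apply hne
  have := G_conj p K hK hθ
  rw [h, one_mul, one_pow, mul_one] at this
  exact this.symm

/-- the Frobenius element in the general linear group -/
noncomputable def GGL : GL (Fin n) F :=
  ⟨G p K hK, G p K hK ^ (n - 1), G_mul_inv p K hK, G_inv_mul p K hK⟩

theorem GGL_mem : GGL p K hK ∈ Cfsg.Geo.subalgebraNormalizer K := by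
  intro k
  show k ∈ K ↔ G p K hK * k * G p K hK ^ (n - 1) ∈ K
  constructor
  · intro hk
    exact G_normalizes p K hK hk
  · intro hc
    have h1 := G_normalizes_pow p K hK (n - 1) hc
    have e : G p K hK ^ (n - 1) * (G p K hK * k * G p K hK ^ (n - 1)) *
        (G p K hK ^ (n - 1)) ^ (n - 1) = k := by
      have a1 : G p K hK ^ (n - 1) * (G p K hK * k * G p K hK ^ (n - 1)) =
          (G p K hK ^ (n - 1) * G p K hK) * k * G p K hK ^ (n - 1) := by
        simp only [mul_assoc]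
      rw [a1, G_inv_mul, one_mul, mul_assoc, ← pow_succ', ← pow_mul]
      have a2 : (n - 1) * (n - 1 + 1) = n * (n - 1) := by
        rw [Nat.sub_add_cancel (Nat.pos_of_ne_zero (NeZero.ne n)), mul_comm]
      rw [a2, pow_mul, G_pow, one_pow, mul_one]
    rw [e] at h1
    exact h1

end setup

section main

variable {F : Type*} [Field F] {n : ℕ}

/-- every non-scalar element of order `n` is conjugate into the normaliser -/
theorem conj_into [Fintype F] (p : ℕ) [Fact p.Prime] [CharP F p] [hn : Fact n.Prime]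
    (K : Subalgebra F (Matrix (Fin n) (Fin n) F)) (hK : Cfsg.Geo.IsFieldSubalgebra n K)
    (hnF : (n : F) ≠ 0) (hirr : Irreducible (cyclotomic n F))
    (hq1 : (Fintype.card F : ZMod n) ≠ 1) (hcop : Nat.Coprime n (Fintype.card F - 1))
    (x : Matrix.SpecialLinearGroup (Fin n) F)
    (hx : ((x ^ n : Matrix.SpecialLinearGroup (Fin n) F) : Matrix (Fin n) (Fin n) F) = 1)
    (hns : ∀ z : F, (x : Matrix (Fin n) (Fin n) F) ≠ z • (1 : Matrix (Fin n) (Fin n) F)) :
    ∃ P : Matrix.SpecialLinearGroup (Fin n) F, P⁻¹ * x * P ∈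
      (Cfsg.Geo.subalgebraNormalizer K).comap
        (Matrix.SpecialLinearGroup.toGL : Matrix.SpecialLinearGroup (Fin n) F →* GL (Fin n) F) := by
  haveI : NeZero n := ⟨hn.out.ne_zero⟩
  obtain ⟨M, hMdef⟩ : ∃ M : Matrix (Fin n) (Fin n) F, M = (x : Matrix (Fin n) (Fin n) F) :=
    ⟨_, rfl⟩
  have hMn : M ^ n = 1 := by
    rw [hMdef, ← Matrix.SpecialLinearGroup.coe_pow]; exact hx
  have hM1 : M ≠ 1 := by
    intro h
    apply hns 1
    rw [← hMdef, h, one_smul]
  -- cyclic vector for `M`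
  obtain ⟨u, hu0, hMu⟩ := CyclicN.exists_fixed hMn hq1
  obtain ⟨w, hw0, hMw⟩ := CyclicN.exists_w hMn hM1
  have hcycM := CyclicN.cyclic_of hnF hirr hu0 hMu hw0 hMw
  -- cyclic vector for the Frobenius element
  have hGn := G_pow p K hK
  have hG1 := G_ne_one p K hK hn.out.two_le
  obtain ⟨w', hw'0, hGw'⟩ := CyclicN.exists_w hGn hG1
  have hcycG := CyclicN.cyclic_of hnF hirr (FieldSub.v0_ne) (G_fixed p K hK) hw'0 hGw'
  obtain ⟨P₀, hP₀det, hMP₀⟩ := CyclicN.conj_of_cyclic hMn hGn hcycM hcycG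
  obtain ⟨c, hc⟩ := CyclicN.exists_root hcop (inv_ne_zero hP₀det)
  obtain ⟨P₁, hP₁⟩ : ∃ P₁, P₁ = c • P₀ := ⟨_, rfl⟩
  have hP₁det : P₁.det = 1 := by
    rw [hP₁, Matrix.det_smul, Fintype.card_fin, hc, inv_mul_cancel₀ hP₀det]
  have hMP₁ : M * P₁ = P₁ * G p K hK := by
    rw [hP₁, mul_smul_comm, hMP₀, smul_mul_assoc]
  obtain ⟨Ps, hPs⟩ : ∃ Ps : Matrix.SpecialLinearGroup (Fin n) F,
      (Ps : Matrix (Fin n) (Fin n) F) = P₁ := ⟨⟨P₁, hP₁det⟩, rfl⟩
  refine ⟨Ps, ?_⟩
  rw [Subgroup.mem_comap]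
  have hval : Matrix.SpecialLinearGroup.toGL (Ps⁻¹ * x * Ps) = GGL p K hK := by
    apply Units.ext
    show ((Ps⁻¹ * x * Ps : Matrix.SpecialLinearGroup (Fin n) F) : Matrix (Fin n) (Fin n) F) =
      G p K hK
    rw [Matrix.SpecialLinearGroup.coe_mul, Matrix.SpecialLinearGroup.coe_mul, ← hMdef, hPs,
      mul_assoc, hMP₁, ← mul_assoc, ← hPs, ← Matrix.SpecialLinearGroup.coe_mul, inv_mul_cancel,
      Matrix.SpecialLinearGroup.coe_one, one_mul]
  rw [hval]
  exact GGL_mem p K hK

/-- an element with a two-dimensional eigenspace is not conjugate into the normaliser -/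
theorem not_conj_of_two_fixed [NeZero n] (hn : n.Prime)
    (K : Subalgebra F (Matrix (Fin n) (Fin n) F)) (hK : Cfsg.Geo.IsFieldSubalgebra n K)
    (x : Matrix.SpecialLinearGroup (Fin n) F)
    (hns : ∀ z : F, (x : Matrix (Fin n) (Fin n) F) ≠ z • (1 : Matrix (Fin n) (Fin n) F))
    {c : F} {v w : Fin n → F} (hv0 : v ≠ 0)
    (hv : (x : Matrix (Fin n) (Fin n) F) *ᵥ v = c • v)
    (hw : (x : Matrix (Fin n) (Fin n) F) *ᵥ w = c • w) (hvw : ∀ a : F, w ≠ a • v)
    (P : Matrix.SpecialLinearGroup (Fin n) F) :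
    P⁻¹ * x * P ∉ (Cfsg.Geo.subalgebraNormalizer K).comap
        (Matrix.SpecialLinearGroup.toGL : Matrix.SpecialLinearGroup (Fin n) F →* GL (Fin n) F) := by
  intro hmem
  rw [Subgroup.mem_comap] at hmem
  obtain ⟨y, hy⟩ : ∃ y, y = P⁻¹ * x * P := ⟨_, rfl⟩
  rw [← hy] at hmem
  obtain ⟨Pi, hPi⟩ : ∃ Pi : Matrix (Fin n) (Fin n) F,
      Pi = ((P⁻¹ : Matrix.SpecialLinearGroup (Fin n) F) : Matrix (Fin n) (Fin n) F) := ⟨_, rfl⟩
  obtain ⟨Pm, hPm⟩ : ∃ Pm : Matrix (Fin n) (Fin n) F,
      Pm = (P : Matrix (Fin n) (Fin n) F) := ⟨_, rfl⟩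
  obtain ⟨xm, hxm⟩ : ∃ xm : Matrix (Fin n) (Fin n) F,
      xm = (x : Matrix (Fin n) (Fin n) F) := ⟨_, rfl⟩
  obtain ⟨ym, hym⟩ : ∃ ym : Matrix (Fin n) (Fin n) F,
      ym = (y : Matrix (Fin n) (Fin n) F) := ⟨_, rfl⟩
  have hPP : Pi * Pm = 1 := by
    rw [hPi, hPm, ← Matrix.SpecialLinearGroup.coe_mul, inv_mul_cancel]; rfl
  have hPP' : Pm * Pi = 1 := by
    rw [hPi, hPm, ← Matrix.SpecialLinearGroup.coe_mul, mul_inv_cancel]; rfl
  have hyv : ym = Pi * xm * Pm := by
    rw [hym, hy, hPi, hPm, hxm, Matrix.SpecialLinearGroup.coe_mul,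
      Matrix.SpecialLinearGroup.coe_mul]
  rw [← hxm] at hv hw hns
  have hYv : ((Matrix.SpecialLinearGroup.toGL y : GL (Fin n) F) : Matrix (Fin n) (Fin n) F) = ym := by
    rw [hym]; rfl
  have h1 : ym * (((Matrix.SpecialLinearGroup.toGL y)⁻¹ : GL (Fin n) F) :
      Matrix (Fin n) (Fin n) F) = 1 := by
    rw [← hYv, ← Units.val_mul, mul_inv_cancel, Units.val_one]
  have hN : ∀ b ∈ K, ym * b * (((Matrix.SpecialLinearGroup.toGL y)⁻¹ : GL (Fin n) F) :
      Matrix (Fin n) (Fin n) F) ∈ K := by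
    intro b hb
    rw [← hYv]
    exact (hmem b).mp hb
  have hyns : ∀ a : F, ym ≠ a • (1 : Matrix (Fin n) (Fin n) F) := by
    intro a h
    apply hns a
    calc xm = (Pm * Pi) * xm * (Pm * Pi) := by rw [hPP', one_mul, mul_one]
      _ = Pm * (Pi * xm * Pm) * Pi := by simp only [mul_assoc]
      _ = a • (1 : Matrix (Fin n) (Fin n) F) := by
          rw [← hyv, h, mul_smul_comm, mul_one, smul_mul_assoc, hPP']
  have hv' : ym *ᵥ (Pi *ᵥ v) = c • (Pi *ᵥ v) := by
    rw [hyv, mulVec_mulVec, mul_assoc, mul_assoc, hPP', mul_one, ← mulVec_mulVec, hv, mulVec_smul]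
  have hw' : ym *ᵥ (Pi *ᵥ w) = c • (Pi *ᵥ w) := by
    rw [hyv, mulVec_mulVec, mul_assoc, mul_assoc, hPP', mul_one, ← mulVec_mulVec, hw, mulVec_smul]
  have hv'0 : Pi *ᵥ v ≠ 0 := by
    intro h
    apply hv0
    calc v = (Pm * Pi) *ᵥ v := by rw [hPP', one_mulVec]
      _ = Pm *ᵥ (Pi *ᵥ v) := by rw [mulVec_mulVec]
      _ = 0 := by rw [h, mulVec_zero]
  obtain ⟨a, ha⟩ := FieldSub.eigenspace_le_one hn K hK h1 hN hyns hv'0 hv' hw'
  apply hvw a
  calc w = (Pm * Pi) *ᵥ w := by rw [hPP', one_mulVec]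
    _ = Pm *ᵥ (Pi *ᵥ w) := by rw [mulVec_mulVec]
    _ = a • v := by rw [ha, mulVec_smul, mulVec_mulVec, hPP', one_mulVec]

/-- a block-diagonal element of order `n` with a two-dimensional fixed space -/
theorem bad_of_block (d : ℕ) (hd : d + 2 ≤ n) (C : Matrix (Fin d) (Fin d) F) (hdet : C.det = 1)
    (hCn : C ^ n = 1) (hC1 : C ≠ 1) :
    ∃ x : Matrix.SpecialLinearGroup (Fin n) F,
      ((x ^ n : Matrix.SpecialLinearGroup (Fin n) F) : Matrix (Fin n) (Fin n) F) = 1 ∧
      (∀ a : F, (x : Matrix (Fin n) (Fin n) F) ≠ a • (1 : Matrix (Fin n) (Fin n) F)) ∧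
      ∃ v w : Fin n → F, v ≠ 0 ∧ (x : Matrix (Fin n) (Fin n) F) *ᵥ v = (1 : F) • v ∧
        (x : Matrix (Fin n) (Fin n) F) *ᵥ w = (1 : F) • w ∧ ∀ a : F, w ≠ a • v := by
  obtain ⟨m, hm⟩ : ∃ m, n = d + m := ⟨n - d, by omega⟩
  subst hm
  have hm2 : 2 ≤ m := by omega
  let ε : Fin d ⊕ Fin m ≃ Fin (d + m) := finSumFinEquiv
  obtain ⟨X₀, hX₀⟩ : ∃ X₀ : Matrix (Fin d ⊕ Fin m) (Fin d ⊕ Fin m) F,
      X₀ = Matrix.fromBlocks C 0 0 1 := ⟨_, rfl⟩
  obtain ⟨X, hX⟩ : ∃ X : Matrix (Fin (d + m)) (Fin (d + m)) F,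
      X = Matrix.reindexAlgEquiv F F ε X₀ := ⟨_, rfl⟩
  have hXdet : X.det = 1 := by
    rw [hX, Matrix.det_reindexAlgEquiv, hX₀, Matrix.det_fromBlocks_zero₂₁, hdet, Matrix.det_one,
      mul_one]
  have hXn : X ^ (d + m) = 1 := by
    rw [hX, ← map_pow, hX₀, Matrix.fromBlocks_diagonal_pow, hCn, one_pow, Matrix.fromBlocks_one,
      map_one]
  have hXapp : ∀ i k, X i k = X₀ (ε.symm i) (ε.symm k) := by
    intro i k
    rw [hX]
    simp [Matrix.reindexAlgEquiv_apply, Matrix.reindex_apply]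
  have hfix : ∀ j : Fin m, X *ᵥ (Pi.single (ε (Sum.inr j)) 1) = Pi.single (ε (Sum.inr j)) 1 := by
    intro j
    rw [Matrix.mulVec_single_one]
    funext i
    show X i (ε (Sum.inr j)) = _
    rw [hXapp, Equiv.symm_apply_apply, hX₀]
    rcases h : ε.symm i with a | j'
    · have hi : i ≠ ε (Sum.inr j) := by
        intro hi
        rw [hi, Equiv.symm_apply_apply] at h
        exact Sum.inr_ne_inl h
      simp [Pi.single_apply, hi]
    · by_cases hjj : j' = j
      · subst hjj
        have hi : i = ε (Sum.inr j') := by rw [← h, Equiv.apply_symm_apply]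
        simp [hi]
      · have hi : i ≠ ε (Sum.inr j) := by
          intro hi
          rw [hi, Equiv.symm_apply_apply] at h
          exact hjj (Sum.inr.inj h).symm
        simp [Pi.single_apply, hi, Matrix.one_apply, hjj]
  obtain ⟨j₀, j₁, hj⟩ : ∃ j₀ j₁ : Fin m, j₀ ≠ j₁ :=
    ⟨⟨0, by omega⟩, ⟨1, by omega⟩, by intro h; simpa using congrArg Fin.val h⟩
  have hne0 : (Pi.single (ε (Sum.inr j₀)) 1 : Fin (d + m) → F) ≠ 0 := by
    intro h
    have := congrFun h (ε (Sum.inr j₀))
    simp at this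
  obtain ⟨Xs, hXs⟩ : ∃ Xs : Matrix.SpecialLinearGroup (Fin (d + m)) F,
      (Xs : Matrix (Fin (d + m)) (Fin (d + m)) F) = X := ⟨⟨X, hXdet⟩, rfl⟩
  refine ⟨Xs, ?_, ?_, Pi.single (ε (Sum.inr j₀)) 1, Pi.single (ε (Sum.inr j₁)) 1, hne0, ?_, ?_, ?_⟩
  · rw [Matrix.SpecialLinearGroup.coe_pow, hXs]
    exact hXn
  · intro a h
    have h' : X = a • (1 : Matrix (Fin (d + m)) (Fin (d + m)) F) := by rw [← hXs]; exact h
    have h1 := hfix j₀
    rw [h', smul_mulVec, one_mulVec] at h1
    have h2 := congrFun h1 (ε (Sum.inr j₀))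
    simp at h2
    rw [h2, one_smul] at h'
    apply hC1
    have h3 : X₀ = 1 := by
      have : Matrix.reindexAlgEquiv F F ε X₀ = Matrix.reindexAlgEquiv F F ε 1 := by
        rw [← hX, h', map_one]
      exact (Matrix.reindexAlgEquiv F F ε).injective this
    rw [hX₀, ← Matrix.fromBlocks_one] at h3
    exact (Matrix.fromBlocks_inj.mp h3).1
  · rw [hXs, hfix, one_smul]
  · rw [hXs, hfix, one_smul]
  · intro a h
    have := congrFun h (ε (Sum.inr j₁))
    have hne : ε (Sum.inr j₁) ≠ ε (Sum.inr j₀) := by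
      intro h'
      exact hj (Sum.inr.inj (ε.injective h')).symm
    simp [Pi.single_apply, hne] at this

/-- a matrix block of order `n` from an irreducible factor of `X ^ n - 1` -/
theorem exists_block (f : F[X]) (hm : f.Monic) (hirr : Irreducible f)
    (hdvd : f ∣ X ^ n - 1) (hdeg : 2 ≤ f.natDegree) (hroots : ∀ a : F, a ^ n = 1 → a = 1) :
    ∃ d, d = f.natDegree ∧ ∃ C : Matrix (Fin d) (Fin d) F, C.det = 1 ∧ C ^ n = 1 ∧ C ≠ 1 := by
  haveI : Fact (Irreducible f) := ⟨hirr⟩
  have hf0 : f ≠ 0 := hirr.ne_zero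
  obtain ⟨pb, hpb⟩ : ∃ pb : PowerBasis F (AdjoinRoot f), pb = AdjoinRoot.powerBasis hf0 := ⟨_, rfl⟩
  have hdim : pb.dim = f.natDegree := by rw [hpb, AdjoinRoot.powerBasis_dim]
  obtain ⟨r, hr⟩ : ∃ r : AdjoinRoot f, r = AdjoinRoot.root f := ⟨_, rfl⟩
  have hrn : r ^ n = 1 := by
    obtain ⟨g, hg⟩ := hdvd
    have h1 : aeval r (X ^ n - 1 : F[X]) = 0 := by
      rw [hg, map_mul, hr, AdjoinRoot.aeval_eq, AdjoinRoot.mk_self, zero_mul]
    simpa [sub_eq_zero] using h1
  have hr1 : r ≠ 1 := by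
    intro h
    have h1 : aeval r (X - 1 : F[X]) = 0 := by simp [h]
    rw [hr, AdjoinRoot.aeval_eq, AdjoinRoot.mk_eq_zero] at h1
    have e : (X - 1 : F[X]) = X - C 1 := by simp
    rw [e] at h1
    have h2 := Polynomial.natDegree_le_of_dvd h1 (X_sub_C_ne_zero (1 : F))
    rw [natDegree_X_sub_C] at h2
    omega
  refine ⟨pb.dim, hdim, Algebra.leftMulMatrix pb.basis r, ?_, ?_, ?_⟩
  · rw [← Algebra.norm_eq_matrix_det pb.basis]
    apply hroots
    rw [← map_pow, hrn, map_one]
  · rw [← map_pow, hrn, map_one]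
  · intro h
    apply hr1
    apply Algebra.leftMulMatrix_injective pb.basis
    rw [h, map_one]

/-- Elements of order `n` of PSL_n(q), `n` prime, and the normalizer of a Singer cycle. Here `T = PSL_n(F)` for a field `F` with `q = p^f` elements (`n ≥ 2`, `(n, q) ≠ (2, 2), (2, 3)`), `k` is a prime dividing `n`, `K` is a subalgebra of the `n × n` matrices that is a field of degree `k` over `F` (an extension-field structure F_{q^k} on `F^n`), and `H` is the subgroup of matrices of determinant 1 normalizing `K` — a subgroup of type GL_{n/k}(q^k) (maximal except in some small cases; maximality is not assumed); Ω is the set of cosets of `H` in `T`, so an element of `T` of prime order `r` (a matrix `x` of determinant 1 with `x^r` scalar, `x` not scalar) fixes a point of Ω when some conjugate of `x` by a matrix of determinant 1 normalizes `K`. Take `k = n > 3` prime with `n ≠ p` (so `H` is the normalizer of a Singer cycle), and suppose `n` divides the index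 of `H`. Then every element of `T` of order `n` is conjugate in `T` into `H` if and only if the multiplicative order of `q` modulo `n` is `n − 1`. -/
theorem result {F : Type*} [Field F] [Fintype F] {p : ℕ} [Fact p.Prime] [CharP F p] {q : ℕ} (hq : Fintype.card F = q)
    (n : ℕ) (hn : 2 ≤ n) (hT : (n, q) ≠ (2, 2) ∧ (n, q) ≠ (2, 3))
    (k : ℕ) (hk : k.Prime) (hkn : k ∣ n) (K : Subalgebra F (Matrix (Fin n) (Fin n) F)) (hK : Cfsg.Geo.IsFieldSubalgebra k K) (hkn' : k = n) (hn3 : 3 < n) (hnp : n ≠ p) (hΩ : n ∣ ((Cfsg.Geo.subalgebraNormalizer K).comap (Matrix.SpecialLinearGroup.toGL : Matrix.SpecialLinearGroup (Fin n) F →* GL (Fin n) F)).index) :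
    (∀ x : Matrix.SpecialLinearGroup (Fin n) F,
      (∃ z : F, ((x ^ n : Matrix.SpecialLinearGroup (Fin n) F) : Matrix (Fin n) (Fin n) F) = z • (1 : Matrix (Fin n) (Fin n) F)) →
      (∀ z : F, (x : Matrix (Fin n) (Fin n) F) ≠ z • (1 : Matrix (Fin n) (Fin n) F)) →
      ∃ P : Matrix.SpecialLinearGroup (Fin n) F, P⁻¹ * x * P ∈ ((Cfsg.Geo.subalgebraNormalizer K).comap (Matrix.SpecialLinearGroup.toGL : Matrix.SpecialLinearGroup (Fin n) F →* GL (Fin n) F))) ↔
    orderOf (q : ZMod n) = n - 1 := by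
  subst hkn'
  subst hq
  haveI : Fact k.Prime := ⟨hk⟩
  haveI : NeZero k := ⟨hk.ne_zero⟩
  have hpP : p.Prime := Fact.out
  obtain ⟨f', _, hcard⟩ := FiniteField.card F p
  have hpn : p.Coprime k := (Nat.coprime_primes hpP hk).mpr (Ne.symm hnp)
  have hnF : (k : F) ≠ 0 := by
    intro h
    have := (CharP.cast_eq_zero_iff F p k).mp h
    exact hnp ((Nat.prime_dvd_prime_iff_eq hpP hk).mp this).symm
  obtain ⟨e, he⟩ : ∃ e, e = orderOf ((Fintype.card F : ℕ) : ZMod k) := ⟨_, rfl⟩
  rw [← he]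
  have hunit : orderOf (ZMod.unitOfCoprime (p ^ (f' : ℕ)) (hpn.pow_left f')) = e := by
    rw [← orderOf_units, ZMod.coe_unitOfCoprime, ← hcard, he]
  have hqne0 : ((Fintype.card F : ℕ) : ZMod k) ≠ 0 := by
    intro h
    rw [ZMod.natCast_eq_zero_iff, hcard] at h
    have h1 := hk.dvd_of_dvd_pow h
    exact hnp ((Nat.prime_dvd_prime_iff_eq hk hpP).mp h1)
  have he_dvd : e ∣ k - 1 := by
    rw [he]
    exact orderOf_dvd_of_pow_eq_one (ZMod.pow_card_sub_one_eq_one hqne0)
  have hq2 : 2 ≤ Fintype.card F := Fintype.one_lt_card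
  have hone_iff : ((Fintype.card F : ℕ) : ZMod k) = 1 ↔ k ∣ Fintype.card F - 1 := by
    rw [← Nat.cast_one, ZMod.natCast_eq_natCast_iff]
    rw [Nat.ModEq.comm, Nat.modEq_iff_dvd' (by omega)]
  have he1_iff : e = 1 ↔ ((Fintype.card F : ℕ) : ZMod k) = 1 := by
    rw [he, orderOf_eq_one_iff]
  constructor
  · intro hall
    by_contra hne
    have he_pos : 0 < e := by
      rcases Nat.eq_zero_or_pos e with h | h
      · rw [h] at he_dvd
        have := Nat.eq_zero_of_zero_dvd he_dvd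
        omega
      · exact h
    have he_le : e + 2 ≤ k := by
      obtain ⟨t, ht⟩ := he_dvd
      have ht0 : t ≠ 0 := by
        rintro rfl
        omega
      have ht1 : t ≠ 1 := by
        rintro rfl
        rw [mul_one] at ht
        exact hne ht.symm
      have : 2 ≤ t := by omega
      have : e * 2 ≤ e * t := Nat.mul_le_mul_left e this
      omega
    have hbad : ∃ x : Matrix.SpecialLinearGroup (Fin k) F,
      ((x ^ k : Matrix.SpecialLinearGroup (Fin k) F) : Matrix (Fin k) (Fin k) F) = 1 ∧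
      (∀ a : F, (x : Matrix (Fin k) (Fin k) F) ≠ a • (1 : Matrix (Fin k) (Fin k) F)) ∧
      ∃ v w : Fin k → F, v ≠ 0 ∧ (x : Matrix (Fin k) (Fin k) F) *ᵥ v = (1 : F) • v ∧
        (x : Matrix (Fin k) (Fin k) F) *ᵥ w = (1 : F) • w ∧ ∀ a : F, w ≠ a • v := by
      by_cases he1 : e = 1
      · -- a primitive root of unity in `F`
        have hdvd : k ∣ Fintype.card F - 1 := hone_iff.mp (he1_iff.mp he1)
        classical
        obtain ⟨g, hg⟩ := IsCyclic.exists_generator (α := Fˣ)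
        have hog : orderOf g = Fintype.card F - 1 := by
          rw [orderOf_eq_card_of_forall_mem_zpowers hg, Nat.card_eq_fintype_card,
            Fintype.card_units]
        have hoμ : orderOf (g ^ (orderOf g / k)) = k :=
          orderOf_pow_orderOf_div (by rw [hog]; omega) (by rw [hog]; exact hdvd)
        obtain ⟨μ, hμ⟩ : ∃ μ : Fˣ, μ = g ^ (orderOf g / k) := ⟨_, rfl⟩
        rw [← hμ] at hoμ
        obtain ⟨ζ, hζ⟩ : ∃ ζ : F, ζ = (μ : F) := ⟨_, rfl⟩
        have hζ0 : ζ ≠ 0 := by rw [hζ]; exact μ.ne_zero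
        have hζn : ζ ^ k = 1 := by
          rw [hζ, ← Units.val_pow_eq_pow_val, ← hoμ, pow_orderOf_eq_one, Units.val_one]
        have hζ1 : ζ ≠ 1 := by
          intro h
          have h' : μ = 1 := Units.ext (by rw [← hζ, h, Units.val_one])
          rw [h', orderOf_one] at hoμ
          omega
        apply bad_of_block 2 (by omega) (Matrix.diagonal ![ζ, ζ⁻¹])
        · rw [Matrix.det_diagonal]
          simp [Fin.prod_univ_two, hζ0]
        · rw [Matrix.diagonal_pow]
          have : (![ζ, ζ⁻¹] ^ k : Fin 2 → F) = 1 := by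
            funext i
            fin_cases i
            · simp [hζn]
            · simp [hζn]
          rw [this]
          exact Matrix.diagonal_one
        · intro h
          have := congrFun (congrFun h 0) 0
          simp at this
          exact hζ1 this
      · -- an irreducible factor of the cyclotomic polynomial
        have hnu : ¬ IsUnit (cyclotomic k F) := by
          intro h
          have := natDegree_eq_zero_of_isUnit h
          rw [natDegree_cyclotomic, Nat.totient_prime hk] at this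
          omega
        obtain ⟨f, hfm, hfirr, hfdvd⟩ := exists_monic_irreducible_factor (cyclotomic k F) hnu
        have hfdeg : f.natDegree = e := by
          rw [natDegree_of_dvd_cyclotomic_of_irreducible hcard hpn hfdvd hfirr, hunit]
        have hndvd : ¬ k ∣ Fintype.card F - 1 := fun h => he1 (he1_iff.mpr (hone_iff.mpr h))
        have hcop : Nat.Coprime k (Fintype.card F - 1) := (Nat.Prime.coprime_iff_not_dvd hk).mpr hndvd
        have hroots : ∀ a : F, a ^ k = 1 → a = 1 := by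
          intro a ha
          have ha0 : a ≠ 0 := by
            rintro rfl
            rw [zero_pow hk.ne_zero] at ha
            exact zero_ne_one ha
          have h1 := FiniteField.pow_card_sub_one_eq_one a ha0
          have h2 := pow_gcd_eq_one.mpr ⟨ha, h1⟩
          rw [hcop, pow_one] at h2
          exact h2
        have hfX : f ∣ X ^ k - 1 := by
          rw [← cyclotomic_prime_mul_X_sub_one F k]
          exact Dvd.dvd.mul_right hfdvd _
        obtain ⟨d, hd, C, hCdet, hCn, hC1⟩ := exists_block f hfm hfirr hfX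
          (by rw [hfdeg]; omega) hroots
        exact bad_of_block d (by rw [hd, hfdeg]; exact he_le) C hCdet hCn hC1
    obtain ⟨x, hxn, hns, v, w, hv0, hv, hw, hvw⟩ := hbad
    obtain ⟨P, hP⟩ := hall x ⟨1, by rw [hxn, one_smul]⟩ hns
    exact not_conj_of_two_fixed hk K hK x hns hv0 hv hw hvw P hP
  · intro hek x hz hns
    obtain ⟨z, hz⟩ := hz
    have hirr : Irreducible (cyclotomic k F) :=
      irreducible_of_dvd_cyclotomic_of_natDegree hcard hpn dvd_rfl
        (by rw [natDegree_cyclotomic, Nat.totient_prime hk, hunit, hek])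
    have hq1 : ((Fintype.card F : ℕ) : ZMod k) ≠ 1 := by
      intro h
      have := he1_iff.mpr h
      omega
    have hndvd : ¬ k ∣ Fintype.card F - 1 := fun h => hq1 (hone_iff.mpr h)
    have hcop : Nat.Coprime k (Fintype.card F - 1) := (Nat.Prime.coprime_iff_not_dvd hk).mpr hndvd
    have hz1 : z = 1 := by
      have hdet := congrArg Matrix.det hz
      rw [(x ^ k).2, Matrix.det_smul, Matrix.det_one, mul_one, Fintype.card_fin] at hdet
      have hz0 : z ≠ 0 := by
        rintro rfl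
        rw [zero_pow hk.ne_zero] at hdet
        exact one_ne_zero hdet
      have h1 := FiniteField.pow_card_sub_one_eq_one z hz0
      have h2 := pow_gcd_eq_one.mpr ⟨hdet.symm, h1⟩
      rw [hcop, pow_one] at h2
      exact h2
    rw [hz1, one_smul] at hz
    exact conj_into p K hK hnF hirr hq1 hcop x hz hns

end main

end Cfsg.Agent.S5970
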