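import Mathlib
import Cfsg.Statements.S5971
import Cfsg.Agent.Lib.Helper99.Cubic3
import Cfsg.Agent.Lib.Helper45.SLCard

set_option autoImplicit false
open scoped MatrixGroups
open Cfsg

namespace Cfsg.Agent.S5971

open Matrix Polynomial
open Cfsg.Agent.Lib.Helper99

section setup

variable {F : Type*} [Field F] [Fintype F] (p : ℕ) [Fact p.Prime] [CharP F p]
variable (K : Subalgebra F (Matrix (Fin 3) (Fin 3) F)) (hK : Cfsg.Geo.IsFieldSubalgebra 3 K)

/-- the Frobenius element -/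
noncomputable def G : Matrix (Fin 3) (Fin 3) F := FieldSub.frobMat K hK p

theorem G_pow : G p K hK ^ 3 = 1 := FieldSub.frobMat_pow K hK p

theorem G_mul_inv : G p K hK * G p K hK ^ 2 = 1 := by
  rw [← pow_succ', G_pow]

theorem G_conj {b : Matrix (Fin 3) (Fin 3) F} (hb : b ∈ K) :
    G p K hK * b * G p K hK ^ 2 = b ^ Fintype.card F := by
  unfold G
  rw [FieldSub.frobMat_mul K hK p hb, mul_assoc]
  have := G_mul_inv p K hK
  unfold G at this
  rw [this, mul_one]

theorem G_normalizes {b : Matrix (Fin 3) (Fin 3) F} (hb : b ∈ K) :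
    G p K hK * b * G p K hK ^ 2 ∈ K := by
  rw [G_conj p K hK hb]
  exact K.pow_mem hb _

theorem G_moves : ∃ θ ∈ K, G p K hK * θ * G p K hK ^ 2 ≠ θ := by
  obtain ⟨θ, hθ, hne⟩ := FieldSub.exists_pow_card_ne K hK (le_refl _ |>.trans (by norm_num : 2 ≤ 3))
  exact ⟨θ, hθ, by rw [G_conj p K hK hθ]; exact hne⟩

theorem G_charpoly : (G p K hK).charpoly = X ^ 3 - 1 ∧ (G p K hK).det = 1 := by
  obtain ⟨θ, hθ, hne⟩ := G_moves p K hK
  have hz : G p K hK ^ 3 = (1 : F) • (1 : Matrix (Fin 3) (Fin 3) F) := by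
    rw [one_smul, G_pow]
  have := Cubic3.charpoly_of_normalizes K hK (G_mul_inv p K hK)
    (fun b hb => G_normalizes p K hK hb) hz hθ hne
  simpa using this

/-- the Frobenius element in the general linear group -/
noncomputable def GGL : GL (Fin 3) F :=
  ⟨G p K hK, G p K hK ^ 2, G_mul_inv p K hK, by rw [← pow_succ, G_pow]⟩

theorem GGL_mem : GGL p K hK ∈ Cfsg.Geo.subalgebraNormalizer K := by
  intro k
  show k ∈ K ↔ G p K hK * k * G p K hK ^ 2 ∈ K
  constructor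
  · intro hk
    exact G_normalizes p K hK hk
  · intro hc
    have h1 := G_normalizes p K hK (G_normalizes p K hK hc)
    have h3 := G_pow p K hK
    have e : G p K hK * (G p K hK * (G p K hK * k * G p K hK ^ 2) * G p K hK ^ 2) * G p K hK ^ 2
        = G p K hK ^ 3 * k * (G p K hK ^ 3) ^ 2 := by
      noncomm_ring
    rw [e, h3, one_mul, one_pow, mul_one] at h1
    exact h1

/-- the Frobenius element in the special linear group -/
noncomputable def GSL : Matrix.SpecialLinearGroup (Fin 3) F :=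
  ⟨G p K hK, (G_charpoly p K hK).2⟩

theorem GSL_mem : GSL p K hK ∈ (Cfsg.Geo.subalgebraNormalizer K).comap
    (Matrix.SpecialLinearGroup.toGL : Matrix.SpecialLinearGroup (Fin 3) F →* GL (Fin 3) F) := by
  rw [Subgroup.mem_comap]
  have : Matrix.SpecialLinearGroup.toGL (GSL p K hK) = GGL p K hK := by
    apply Units.ext
    rfl
  rw [this]
  exact GGL_mem p K hK

end setup

section main

variable {F : Type*} [Field F]

/-- every non-scalar element with cube one is conjugate into the normaliser -/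
theorem conj_into [Fintype F] (p : ℕ) [Fact p.Prime] [CharP F p]
    (K : Subalgebra F (Matrix (Fin 3) (Fin 3) F)) (hK : Cfsg.Geo.IsFieldSubalgebra 3 K)
    (h3 : (3 : F) ≠ 0) (x : Matrix.SpecialLinearGroup (Fin 3) F)
    (hx3 : ((x ^ 3 : Matrix.SpecialLinearGroup (Fin 3) F) : Matrix (Fin 3) (Fin 3) F) = 1)
    (hns : ∀ z : F, (x : Matrix (Fin 3) (Fin 3) F) ≠ z • (1 : Matrix (Fin 3) (Fin 3) F)) :
    ∃ P : Matrix.SpecialLinearGroup (Fin 3) F, P⁻¹ * x * P ∈
      (Cfsg.Geo.subalgebraNormalizer K).comap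
        (Matrix.SpecialLinearGroup.toGL : Matrix.SpecialLinearGroup (Fin 3) F →* GL (Fin 3) F) := by
  have hχx : (x : Matrix (Fin 3) (Fin 3) F).charpoly = X ^ 3 - 1 := by
    apply Cubic3.charpoly_of_cube_eq_one _ x.2 _ hns
    rw [← Matrix.SpecialLinearGroup.coe_pow]
    exact hx3
  have hχG := (G_charpoly p K hK).1
  have hP : ∃ P : Matrix (Fin 3) (Fin 3) F, P.det = 1 ∧
      (x : Matrix (Fin 3) (Fin 3) F) * P = P * G p K hK := by
    by_cases hω : ∃ ω : F, ω ^ 2 + ω + 1 = 0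
    · obtain ⟨ω, hω⟩ := hω
      obtain ⟨B, hB, hMB⟩ := Cubic3.split_form hχx hω h3
      obtain ⟨B', hB', hMB'⟩ := Cubic3.split_form hχG hω h3
      exact Cubic3.conj_SL (fun d => Cubic3.diag_comm _ _ _ d) hB hB' hMB hMB'
    · push Not at hω
      obtain ⟨B, hB, hMB⟩ := Cubic3.nonsplit_form hχx hω h3
      obtain ⟨B', hB', hMB'⟩ := Cubic3.nonsplit_form hχG hω h3
      exact Cubic3.conj_SL (fun d => Cubic3.Emat_comm d) hB hB' hMB hMB'
  obtain ⟨P, hPdet, hxP⟩ := hP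
  obtain ⟨Ps, hPs⟩ : ∃ Ps : Matrix.SpecialLinearGroup (Fin 3) F,
      (Ps : Matrix (Fin 3) (Fin 3) F) = P := ⟨⟨P, hPdet⟩, rfl⟩
  refine ⟨Ps, ?_⟩
  have : Ps⁻¹ * x * Ps = GSL p K hK := by
    rw [mul_assoc, inv_mul_eq_iff_eq_mul]
    apply Subtype.ext
    simp only [Matrix.SpecialLinearGroup.coe_mul]
    rw [hPs]
    exact hxP
  rw [this]
  exact GSL_mem p K hK

/-- an element annihilated by a split quadratic is not conjugate into the normaliser -/
theorem not_conj_of_quadratic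
    (K : Subalgebra F (Matrix (Fin 3) (Fin 3) F)) (hK : Cfsg.Geo.IsFieldSubalgebra 3 K)
    (x : Matrix.SpecialLinearGroup (Fin 3) F) (z : F)
    (hx3 : ((x ^ 3 : Matrix.SpecialLinearGroup (Fin 3) F) : Matrix (Fin 3) (Fin 3) F) =
      z • (1 : Matrix (Fin 3) (Fin 3) F))
    (hns : ∀ z : F, (x : Matrix (Fin 3) (Fin 3) F) ≠ z • (1 : Matrix (Fin 3) (Fin 3) F))
    (a b : F) (hq : ((x : Matrix (Fin 3) (Fin 3) F) - a • (1 : Matrix (Fin 3) (Fin 3) F)) *
      ((x : Matrix (Fin 3) (Fin 3) F) - b • (1 : Matrix (Fin 3) (Fin 3) F)) = 0)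
    (P : Matrix.SpecialLinearGroup (Fin 3) F) :
    P⁻¹ * x * P ∉ (Cfsg.Geo.subalgebraNormalizer K).comap
        (Matrix.SpecialLinearGroup.toGL : Matrix.SpecialLinearGroup (Fin 3) F →* GL (Fin 3) F) := by
  intro hmem
  rw [Subgroup.mem_comap] at hmem
  obtain ⟨y, hy⟩ : ∃ y, y = P⁻¹ * x * P := ⟨_, rfl⟩
  rw [← hy] at hmem
  obtain ⟨Pi, hPi⟩ : ∃ Pi : Matrix (Fin 3) (Fin 3) F,
      Pi = ((P⁻¹ : Matrix.SpecialLinearGroup (Fin 3) F) : Matrix (Fin 3) (Fin 3) F) := ⟨_, rfl⟩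
  obtain ⟨Pm, hPm⟩ : ∃ Pm : Matrix (Fin 3) (Fin 3) F,
      Pm = (P : Matrix (Fin 3) (Fin 3) F) := ⟨_, rfl⟩
  obtain ⟨xm, hxm⟩ : ∃ xm : Matrix (Fin 3) (Fin 3) F,
      xm = (x : Matrix (Fin 3) (Fin 3) F) := ⟨_, rfl⟩
  obtain ⟨ym, hym⟩ : ∃ ym : Matrix (Fin 3) (Fin 3) F,
      ym = (y : Matrix (Fin 3) (Fin 3) F) := ⟨_, rfl⟩
  have hPP : Pi * Pm = 1 := by
    rw [hPi, hPm, ← Matrix.SpecialLinearGroup.coe_mul, inv_mul_cancel]; rfl
  have hPP' : Pm * Pi = 1 := by
    rw [hPi, hPm, ← Matrix.SpecialLinearGroup.coe_mul, mul_inv_cancel]; rfl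
  have hyv : ym = Pi * xm * Pm := by
    rw [hym, hy, hPi, hPm, hxm, Matrix.SpecialLinearGroup.coe_mul,
      Matrix.SpecialLinearGroup.coe_mul]
  have hy3 : ym ^ 3 = z • (1 : Matrix (Fin 3) (Fin 3) F) := by
    have e : y ^ 3 = P⁻¹ * x ^ 3 * P := by rw [hy]; simp [pow_succ, mul_assoc]
    rw [hym, ← Matrix.SpecialLinearGroup.coe_pow, e, Matrix.SpecialLinearGroup.coe_mul,
      Matrix.SpecialLinearGroup.coe_mul, hx3, ← hPi, ← hPm, mul_smul_comm, mul_one,
      smul_mul_assoc, hPP]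
  rw [← hxm] at hq hns
  have hYv : ((Matrix.SpecialLinearGroup.toGL y : GL (Fin 3) F) : Matrix (Fin 3) (Fin 3) F) = ym := by
    rw [hym]; rfl
  have h1 : ym * (((Matrix.SpecialLinearGroup.toGL y)⁻¹ : GL (Fin 3) F) :
      Matrix (Fin 3) (Fin 3) F) = 1 := by
    rw [← hYv, ← Units.val_mul, mul_inv_cancel, Units.val_one]
  have hN : ∀ c ∈ K, ym * c * (((Matrix.SpecialLinearGroup.toGL y)⁻¹ : GL (Fin 3) F) :
      Matrix (Fin 3) (Fin 3) F) ∈ K := by
    intro c hc
    rw [← hYv]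
    exact (hmem c).mp hc
  have hYq : (ym - a • (1 : Matrix (Fin 3) (Fin 3) F)) *
      (ym - b • (1 : Matrix (Fin 3) (Fin 3) F)) = 0 := by
    have e : ∀ c : F, ym - c • (1 : Matrix (Fin 3) (Fin 3) F) =
        Pi * (xm - c • (1 : Matrix (Fin 3) (Fin 3) F)) * Pm := by
      intro c
      rw [hyv, mul_sub, sub_mul, mul_smul_comm, mul_one, smul_mul_assoc, hPP]
    rw [e a, e b]
    calc Pi * (xm - a • (1 : Matrix (Fin 3) (Fin 3) F)) * Pm *
          (Pi * (xm - b • (1 : Matrix (Fin 3) (Fin 3) F)) * Pm)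
        = Pi * (xm - a • (1 : Matrix (Fin 3) (Fin 3) F)) * (Pm * Pi) *
          (xm - b • (1 : Matrix (Fin 3) (Fin 3) F)) * Pm := by simp only [mul_assoc]
      _ = Pi * ((xm - a • (1 : Matrix (Fin 3) (Fin 3) F)) *
          (xm - b • (1 : Matrix (Fin 3) (Fin 3) F))) * Pm := by
            rw [hPP', mul_one]; simp only [mul_assoc]
      _ = 0 := by rw [hq, mul_zero, zero_mul]
  obtain ⟨c, hc⟩ := Cubic3.scalar_of_quadratic K hK h1 hN hy3 a b hYq
  apply hns c
  calc xm = (Pm * Pi) * xm * (Pm * Pi) := by rw [hPP', one_mul, mul_one]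
    _ = Pm * (Pi * xm * Pm) * Pi := by simp only [mul_assoc]
    _ = c • (1 : Matrix (Fin 3) (Fin 3) F) := by
        rw [← hyv, hc, mul_smul_comm, mul_one, smul_mul_assoc, hPP']

/-- the cube of a non-scalar element is trivial unless `9 ∣ q - 1` -/
theorem z_eq_one [Fintype F] (h9 : ¬ 9 ∣ Fintype.card F - 1)
    (x : Matrix.SpecialLinearGroup (Fin 3) F) (z : F)
    (hx3 : ((x ^ 3 : Matrix.SpecialLinearGroup (Fin 3) F) : Matrix (Fin 3) (Fin 3) F) =
      z • (1 : Matrix (Fin 3) (Fin 3) F))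
    (hns : ∀ z : F, (x : Matrix (Fin 3) (Fin 3) F) ≠ z • (1 : Matrix (Fin 3) (Fin 3) F)) :
    z = 1 := by
  by_contra hz
  have hx3' : (x : Matrix (Fin 3) (Fin 3) F) ^ 3 = z • (1 : Matrix (Fin 3) (Fin 3) F) := by
    rw [← hx3, Matrix.SpecialLinearGroup.coe_pow]
  obtain ⟨c, hc⟩ := Cubic3.exists_cube_root _ x.2 z hx3' hz hns
  have hz3 : z ^ 3 = 1 := by
    have := congrArg Matrix.det hx3'
    rw [Matrix.det_pow, x.2, one_pow, Matrix.det_smul, Matrix.det_one, mul_one] at this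
    simpa using this.symm
  have hc9 : c ^ 3 ^ (1 + 1) = 1 := by
    rw [show 3 ^ (1 + 1) = 3 * 3 by norm_num, pow_mul, hc, hz3]
  have hc3 : ¬ c ^ 3 ^ 1 = 1 := by rw [pow_one, hc]; exact hz
  have ho : orderOf c = 3 ^ (1 + 1) := orderOf_eq_prime_pow hc3 hc9
  have hc0 : c ≠ 0 := by
    rintro rfl
    rw [zero_pow (by norm_num)] at hc
    rw [← hc, zero_pow (by norm_num)] at hz3
    exact zero_ne_one hz3
  have := orderOf_dvd_of_pow_eq_one (FiniteField.pow_card_sub_one_eq_one c hc0)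
  rw [ho] at this
  exact h9 (by simpa using this)

/-- a transvection -/
def xT (F : Type*) [Field F] : Matrix.SpecialLinearGroup (Fin 3) F :=
  ⟨!![1, 1, 0; 0, 1, 0; 0, 0, 1], by simp [Matrix.det_fin_three]⟩

theorem xT_not_conj (K : Subalgebra F (Matrix (Fin 3) (Fin 3) F))
    (hK : Cfsg.Geo.IsFieldSubalgebra 3 K) (h3 : (3 : F) = 0) :
    ¬ (∀ x : Matrix.SpecialLinearGroup (Fin 3) F,
      (∃ z : F, ((x ^ 3 : Matrix.SpecialLinearGroup (Fin 3) F) : Matrix (Fin 3) (Fin 3) F) =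
        z • (1 : Matrix (Fin 3) (Fin 3) F)) →
      (∀ z : F, (x : Matrix (Fin 3) (Fin 3) F) ≠ z • (1 : Matrix (Fin 3) (Fin 3) F)) →
      ∃ P : Matrix.SpecialLinearGroup (Fin 3) F, P⁻¹ * x * P ∈
        (Cfsg.Geo.subalgebraNormalizer K).comap (Matrix.SpecialLinearGroup.toGL :
          Matrix.SpecialLinearGroup (Fin 3) F →* GL (Fin 3) F)) := by
  intro hall
  have hv : ((xT F : Matrix.SpecialLinearGroup (Fin 3) F) : Matrix (Fin 3) (Fin 3) F) =
      !![1, 1, 0; 0, 1, 0; 0, 0, 1] := rfl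
  have h3' : ((xT F ^ 3 : Matrix.SpecialLinearGroup (Fin 3) F) : Matrix (Fin 3) (Fin 3) F) =
      (1 : F) • (1 : Matrix (Fin 3) (Fin 3) F) := by
    rw [Matrix.SpecialLinearGroup.coe_pow, hv, one_smul]
    ext i j
    fin_cases i <;> fin_cases j <;>
      simp [pow_succ, Matrix.mul_apply, Fin.sum_univ_three] <;> linear_combination h3
  have hns : ∀ z : F, ((xT F : Matrix.SpecialLinearGroup (Fin 3) F) :
      Matrix (Fin 3) (Fin 3) F) ≠ z • (1 : Matrix (Fin 3) (Fin 3) F) := by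
    intro z h
    have := congrFun (congrFun h 0) 1
    rw [hv] at this
    simp at this
  have hq : (((xT F : Matrix.SpecialLinearGroup (Fin 3) F) : Matrix (Fin 3) (Fin 3) F) -
      (1 : F) • (1 : Matrix (Fin 3) (Fin 3) F)) *
      (((xT F : Matrix.SpecialLinearGroup (Fin 3) F) : Matrix (Fin 3) (Fin 3) F) -
      (1 : F) • (1 : Matrix (Fin 3) (Fin 3) F)) = 0 := by
    rw [hv, one_smul]
    ext i j
    fin_cases i <;> fin_cases j <;> simp [Matrix.mul_apply, Fin.sum_univ_three]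
  obtain ⟨P, hP⟩ := hall (xT F) ⟨1, h3'⟩ hns
  exact not_conj_of_quadratic K hK (xT F) 1 h3' hns 1 1 hq P hP

/-- a diagonal element of order three modulo scalars with a repeated eigenvalue -/
theorem xD_not_conj [Fintype F] (K : Subalgebra F (Matrix (Fin 3) (Fin 3) F))
    (hK : Cfsg.Geo.IsFieldSubalgebra 3 K) (h9 : 9 ∣ Fintype.card F - 1) :
    ¬ (∀ x : Matrix.SpecialLinearGroup (Fin 3) F,
      (∃ z : F, ((x ^ 3 : Matrix.SpecialLinearGroup (Fin 3) F) : Matrix (Fin 3) (Fin 3) F) =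
        z • (1 : Matrix (Fin 3) (Fin 3) F)) →
      (∀ z : F, (x : Matrix (Fin 3) (Fin 3) F) ≠ z • (1 : Matrix (Fin 3) (Fin 3) F)) →
      ∃ P : Matrix.SpecialLinearGroup (Fin 3) F, P⁻¹ * x * P ∈
        (Cfsg.Geo.subalgebraNormalizer K).comap (Matrix.SpecialLinearGroup.toGL :
          Matrix.SpecialLinearGroup (Fin 3) F →* GL (Fin 3) F)) := by
  classical
  intro hall
  -- an element of order nine
  obtain ⟨ζ, hζ⟩ := IsCyclic.exists_generator (α := Fˣ)
  have hoζ : orderOf ζ = Fintype.card F - 1 := by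
    rw [orderOf_eq_card_of_forall_mem_zpowers hζ, Nat.card_eq_fintype_card, Fintype.card_units]
  have hq2 : 2 ≤ Fintype.card F := Fintype.one_lt_card
  have hoμ : orderOf (ζ ^ (orderOf ζ / 9)) = 9 :=
    orderOf_pow_orderOf_div (by rw [hoζ]; omega) (by rw [hoζ]; exact h9)
  obtain ⟨μ, hμ⟩ : ∃ μ : Fˣ, μ = ζ ^ (orderOf ζ / 9) := ⟨_, rfl⟩
  rw [← hμ] at hoμ
  obtain ⟨l, hl⟩ : ∃ l : F, l = (μ : F) := ⟨_, rfl⟩
  have hl0 : l ≠ 0 := by rw [hl]; exact μ.ne_zero
  have hl9 : l ^ 9 = 1 := by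
    rw [hl, ← Units.val_pow_eq_pow_val, ← hoμ, pow_orderOf_eq_one, Units.val_one]
  have hl3 : l ^ 3 ≠ 1 := by
    intro h
    have h' : μ ^ 3 = 1 := Units.ext (by rw [Units.val_pow_eq_pow_val, ← hl, h, Units.val_one])
    have := orderOf_dvd_of_pow_eq_one h'
    rw [hoμ] at this
    norm_num at this
  obtain ⟨x, hxv⟩ : ∃ x : Matrix.SpecialLinearGroup (Fin 3) F,
      (x : Matrix (Fin 3) (Fin 3) F) = Matrix.diagonal ![l, l, (l ^ 2)⁻¹] := by
    refine ⟨⟨Matrix.diagonal ![l, l, (l ^ 2)⁻¹], ?_⟩, rfl⟩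
    rw [Matrix.det_diagonal]
    simp [Fin.prod_univ_three]
    field_simp
  have hinv : (l ^ 2)⁻¹ = l ^ 7 := by
    rw [inv_eq_iff_eq_inv, eq_comm, inv_eq_of_mul_eq_one_left]
    rw [← pow_add, hl9]
  have h3' : ((x ^ 3 : Matrix.SpecialLinearGroup (Fin 3) F) : Matrix (Fin 3) (Fin 3) F) =
      (l ^ 3) • (1 : Matrix (Fin 3) (Fin 3) F) := by
    rw [Matrix.SpecialLinearGroup.coe_pow, hxv, Matrix.diagonal_pow, hinv]
    ext i j
    fin_cases i <;> fin_cases j <;> simp [Matrix.diagonal_apply]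
    rw [← pow_mul]
    calc l ^ (7 * 3) = (l ^ 9) ^ 2 * l ^ 3 := by ring
      _ = l ^ 3 := by rw [hl9, one_pow, one_mul]
  have hns : ∀ z : F, (x : Matrix (Fin 3) (Fin 3) F) ≠ z • (1 : Matrix (Fin 3) (Fin 3) F) := by
    intro z h
    rw [hxv] at h
    have e0 := congrFun (congrFun h 0) 0
    have e2 := congrFun (congrFun h 2) 2
    simp [Matrix.diagonal_apply] at e0 e2
    apply hl3
    have h' : (l ^ 2)⁻¹ = l := e2.trans e0.symm
    have : l * l ^ 2 = 1 := by
      calc l * l ^ 2 = (l ^ 2)⁻¹ * l ^ 2 := by rw [h']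
        _ = 1 := inv_mul_cancel₀ (pow_ne_zero 2 hl0)
    rw [← this]; ring
  have hq : ((x : Matrix (Fin 3) (Fin 3) F) - l • (1 : Matrix (Fin 3) (Fin 3) F)) *
      ((x : Matrix (Fin 3) (Fin 3) F) - (l ^ 2)⁻¹ • (1 : Matrix (Fin 3) (Fin 3) F)) = 0 := by
    rw [hxv]
    ext i j
    fin_cases i <;> fin_cases j <;>
      simp [Matrix.mul_apply, Fin.sum_univ_three, Matrix.diagonal_apply]
  obtain ⟨P, hP⟩ := hall x ⟨_, h3'⟩ hns
  exact not_conj_of_quadratic K hK x _ h3' hns _ _ hq P hP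

/-- the index of the normaliser is prime to three when `q ≡ 2, 5 (mod 9)` -/
theorem not_three_dvd_index [Fintype F] (p : ℕ) [Fact p.Prime] [CharP F p]
    (K : Subalgebra F (Matrix (Fin 3) (Fin 3) F)) (hK : Cfsg.Geo.IsFieldSubalgebra 3 K)
    (hq : Fintype.card F % 9 = 2 ∨ Fintype.card F % 9 = 5) :
    ¬ 3 ∣ ((Cfsg.Geo.subalgebraNormalizer K).comap (Matrix.SpecialLinearGroup.toGL :
      Matrix.SpecialLinearGroup (Fin 3) F →* GL (Fin 3) F)).index := by
  classical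
  intro hΩ
  obtain ⟨H, hH⟩ : ∃ H, H = (Cfsg.Geo.subalgebraNormalizer K).comap
      (Matrix.SpecialLinearGroup.toGL :
        Matrix.SpecialLinearGroup (Fin 3) F →* GL (Fin 3) F) := ⟨_, rfl⟩
  rw [← hH] at hΩ
  have hmem : GSL p K hK ∈ H := hH ▸ GSL_mem p K hK
  have ho : orderOf (GSL p K hK) = 3 := by
    apply orderOf_eq_prime
    · apply Subtype.ext
      rw [Matrix.SpecialLinearGroup.coe_pow]
      exact G_pow p K hK
    · intro h
      have h1 : G p K hK = 1 := congrArg Subtype.val h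
      obtain ⟨θ, _, hne⟩ := G_moves p K hK
      apply hne
      rw [h1, one_mul, one_pow, mul_one]
  have h3H : 3 ∣ Nat.card H := by
    have := orderOf_dvd_natCard (⟨GSL p K hK, hmem⟩ : H)
    rwa [Subgroup.orderOf_mk, ho] at this
  have h9 : 9 ∣ Nat.card (Matrix.SpecialLinearGroup (Fin 3) F) := by
    rw [← Subgroup.index_mul_card H]
    exact Nat.mul_dvd_mul hΩ h3H
  have hGL := Cfsg.Agent.Lib.Helper45.card_SL_mul (n := Fin 3) (F := F)
  rw [Matrix.card_GL_field] at hGL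
  simp only [Fin.prod_univ_three, Fin.val_zero, Fin.val_one, Fin.val_two, pow_zero, pow_one,
    Fintype.card_fin] at hGL
  have h9' : 9 ∣ (Fintype.card F ^ 3 - 1) * (Fintype.card F ^ 3 - Fintype.card F) *
      (Fintype.card F ^ 3 - Fintype.card F ^ 2) := by
    rw [← hGL]
    exact Dvd.dvd.mul_right h9 _
  obtain ⟨Q, hQ⟩ : ∃ Q, Q = Fintype.card F := ⟨_, rfl⟩
  rw [← hQ] at h9' hq
  have hQ2 : 2 ≤ Q := hQ ▸ Fintype.one_lt_card
  have hz := (ZMod.natCast_eq_zero_iff _ 9).mpr h9'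
  have e1 : 1 ≤ Q ^ 3 := Nat.one_le_pow _ _ (by omega)
  have e2 : Q ≤ Q ^ 3 := by nlinarith [Nat.one_le_pow 2 Q (by omega)]
  have e3 : Q ^ 2 ≤ Q ^ 3 := Nat.pow_le_pow_right (by omega) (by norm_num)
  rw [Nat.cast_mul, Nat.cast_mul, Nat.cast_sub e1, Nat.cast_sub e2, Nat.cast_sub e3] at hz
  have hQc : (Q : ZMod 9) = ((Q % 9 : ℕ) : ZMod 9) := by rw [ZMod.natCast_mod]
  simp only [Nat.cast_pow, Nat.cast_one] at hz
  rw [hQc] at hz
  rcases hq with h | h
  · rw [h] at hz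
    revert hz
    decide
  · rw [h] at hz
    revert hz
    decide

/-- Elements of order 3 of PSL_3(q) and the normalizer of a Singer cycle. Here `T = PSL_n(F)` for a field `F` with `q = p^f` elements (`n ≥ 2`, `(n, q) ≠ (2, 2), (2, 3)`), `k` is a prime dividing `n`, `K` is a subalgebra of the `n × n` matrices that is a field of degree `k` over `F` (an extension-field structure F_{q^k} on `F^n`), and `H` is the subgroup of matrices of determinant 1 normalizing `K` — a subgroup of type GL_{n/k}(q^k) (maximal except in some small cases; maximality is not assumed); Ω is the set of cosets of `H` in `T`, so an element of `T` of prime order `r` (a matrix `x` of determinant 1 with `x^r` scalar, `x` not scalar) fixes a point of Ω when some conjugate of `x` by a matrix of determinant 1 normalizes `K`. Take `n = k = 3` and suppose 3 divides the index of `H`. Then every element of `T` of order 3 is conjugate in `T` into `H` if and only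 if `q ≡ 4, 7` or `8 (mod 9)`. -/
theorem result {F : Type*} [Field F] [Fintype F] {p : ℕ} [Fact p.Prime] [CharP F p] {q : ℕ} (hq : Fintype.card F = q)
    (n : ℕ) (hn : n = 3) (k : ℕ) (hk : k.Prime) (hkn : k ∣ n) (K : Subalgebra F (Matrix (Fin n) (Fin n) F)) (hK : Cfsg.Geo.IsFieldSubalgebra k K) (hk3 : k = 3) (hΩ : 3 ∣ ((Cfsg.Geo.subalgebraNormalizer K).comap (Matrix.SpecialLinearGroup.toGL : Matrix.SpecialLinearGroup (Fin n) F →* GL (Fin n) F)).index) :
    (∀ x : Matrix.SpecialLinearGroup (Fin n) F,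
      (∃ z : F, ((x ^ 3 : Matrix.SpecialLinearGroup (Fin n) F) : Matrix (Fin n) (Fin n) F) = z • (1 : Matrix (Fin n) (Fin n) F)) →
      (∀ z : F, (x : Matrix (Fin n) (Fin n) F) ≠ z • (1 : Matrix (Fin n) (Fin n) F)) →
      ∃ P : Matrix.SpecialLinearGroup (Fin n) F, P⁻¹ * x * P ∈ ((Cfsg.Geo.subalgebraNormalizer K).comap (Matrix.SpecialLinearGroup.toGL : Matrix.SpecialLinearGroup (Fin n) F →* GL (Fin n) F))) ↔
    (q % 9 = 4 ∨ q % 9 = 7 ∨ q % 9 = 8) := by
  subst hn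
  subst hk3
  subst hq
  have hq2 : 2 ≤ Fintype.card F := Fintype.one_lt_card
  have hdiv : (3 : F) = 0 ↔ 3 ∣ Fintype.card F := by
    constructor
    · intro h
      have h' : ((3 : ℕ) : F) = 0 := by exact_mod_cast h
      have hp3 : p ∣ 3 := (CharP.cast_eq_zero_iff F p 3).mp h'
      have hp : p = 3 := (Nat.prime_dvd_prime_iff_eq (Fact.out) Nat.prime_three).mp hp3
      obtain ⟨f, _, hf⟩ := FiniteField.card F p
      rw [hf, hp]
      exact dvd_pow_self 3 f.ne_zero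
    · intro h
      obtain ⟨f, _, hf⟩ := FiniteField.card F p
      rw [hf] at h
      have hp3 : 3 ∣ p := Nat.Prime.dvd_of_dvd_pow Nat.prime_three h
      have hp : 3 = p := (Nat.prime_dvd_prime_iff_eq Nat.prime_three (Fact.out)).mp hp3
      have := CharP.cast_eq_zero F p
      rw [← hp] at this
      exact_mod_cast this
  constructor
  · intro hall
    by_cases h3 : (3 : F) = 0
    · exact absurd hall (xT_not_conj K hK h3)
    by_cases h9 : 9 ∣ Fintype.card F - 1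
    · exact absurd hall (xD_not_conj K hK h9)
    have h3' : ¬ 3 ∣ Fintype.card F := fun h => h3 (hdiv.mpr h)
    have hidx : ¬ (Fintype.card F % 9 = 2 ∨ Fintype.card F % 9 = 5) := fun h =>
      not_three_dvd_index p K hK h hΩ
    push Not at hidx
    omega
  · intro hmod x hz hns
    obtain ⟨z, hz⟩ := hz
    have h3 : (3 : F) ≠ 0 := by
      intro h
      have := hdiv.mp h
      omega
    have h9 : ¬ 9 ∣ Fintype.card F - 1 := by
      intro h
      omega
    have hz1 := z_eq_one h9 x z hz hns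
    rw [hz1, one_smul] at hz
    exact conj_into p K hK h3 x hz hns

end main

end Cfsg.Agent.S5971
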