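import Cfsg.Statements.S5972
import Cfsg.Agent.Lib.Helper08.OsElL2
import Cfsg.Agent.Lib.Helper49.OrthCount
import Cfsg.Agent.Lib.Helper41.OsU
import Cfsg.Agent.Lib.Helper23.OsElG
import Cfsg.Agent.Lib.Helper50.OsElI
import Cfsg.Agent.Lib.Helper60.OsElEFinal
import Cfsg.Agent.Lib.Helper23.OsElM
import Cfsg.Agent.Lib.Helper04.OsElJ
import Cfsg.Agent.Lib.Helper19.OsElN
import Cfsg.Agent.Lib.Helper82.OsElO0
import Cfsg.Agent.Lib.Helper05.OsElB
import Cfsg.Agent.Lib.Helper14.OsElC

set_option autoImplicit false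
set_option linter.style.haveILetI false
set_option maxHeartbeats 1600000
open scoped MatrixGroups
open Cfsg

namespace Cfsg.Agent.S5972

open Cfsg.Agent.Lib.Helper98 in
/-- Elements of prime order of Ω_n(q), n = 2d+1 ≥ 7, q odd, with no fixed totally singular `m`-space. Here `T = Ω_n(q)` is realised as the commutator subgroup of the isometry group of the quadratic form `x₀² + Σ xᵢyᵢ` over the field `F` with `q` elements (it has trivial centre, so its elements of prime order `r` are used directly); let `1 ≤ m ≤ d` and let `r` be a prime dividing the number of totally singular `m`-spaces. For `r ≠ p` let `i` be the multiplicative order of `q` modulo `r`, `c = i` for `i` even and `c = 2i` for `i` odd, and write `k = n mod c`, `ℓ = m mod i`, `n' = ⌊n/i⌋`, `m' = ⌊m/i⌋`, `t = (r−1)/i`. Then every element of `T` of order `r` fixes some totally singular `m`-space if and only if either (i) `r = 2` and (`m < (n−1)/2` or `q ≡ 1 (mod 4)`); or (ii) `r ≠ p` is odd, `i ≤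 m`, `k > 2ℓ`, and (`i` is odd or `n' − 2m' ≥ t`). -/
theorem result {F : Type*} [Field F] [Fintype F] {p : ℕ} [Fact p.Prime] [CharP F p] {q : ℕ} (hq : Fintype.card F = q) (hqodd : Odd q)
    (d m : ℕ) (hd : 3 ≤ d) (hm : 1 ≤ m) (hmd : m ≤ d)
    (r : ℕ) [Fact r.Prime]
    (hrΩ : r ∣ Nat.card {W : Submodule F (Unit ⊕ (Fin d ⊕ Fin d) → F) // Module.finrank F ↥W = m ∧ (∀ w ∈ W, Cfsg.quadFormOdd d F w = 0)})
    (i c : ℕ) (hi : i = orderOf (q : ZMod r)) (hc : c = if Even i then i else 2 * i) :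
    (∀ x : GL (Unit ⊕ (Fin d ⊕ Fin d)) F, x ∈ Cfsg.Geo.omegaGL (Cfsg.quadFormOdd d F) → orderOf x = r →
      ∃ W : Submodule F (Unit ⊕ (Fin d ⊕ Fin d) → F), Module.finrank F ↥W = m ∧ (∀ w ∈ W, Cfsg.quadFormOdd d F w = 0) ∧
        W.map (Matrix.toLin' (x : Matrix (Unit ⊕ (Fin d ⊕ Fin d)) (Unit ⊕ (Fin d ⊕ Fin d)) F)) ≤ W) ↔
    ((r = 2 ∧ (m < d ∨ q % 4 = 1)) ∨
     (r ≠ p ∧ 2 < r ∧ i ≤ m ∧ 2 * (m % i) < (2 * d + 1) % c ∧ (Odd i ∨ (r - 1) / i + 2 * (m / i) ≤ (2 * d + 1) / i))) := by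
  classical
  have h2 : (2 : F) ≠ 0 := Lib.Helper50.two_ne_zero_of_odd_card hq hqodd
  subst hq
  subst hi
  have hr : r.Prime := Fact.out
  have hp : p.Prime := Fact.out
  obtain ⟨f, _, hF⟩ := FiniteField.card F p
  have hp2 : p ≠ 2 := by
    rintro rfl
    apply h2
    have := CharP.cast_eq_zero F 2
    exact_mod_cast this
  have hfin : Module.finrank F (Unit ⊕ (Fin d ⊕ Fin d) → F) = 2 * d + 1 := by
    rw [Module.finrank_pi, Fintype.card_sum, Fintype.card_sum, Fintype.card_fin, Fintype.card_unit]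
    omega
  -- the polar form
  set QQ : QuadraticForm F (Unit ⊕ (Fin d ⊕ Fin d) → F) := Lib.Helper50.QOdd d F with hQQ
  have hQQc : ∀ v, QQ v = Cfsg.quadFormOdd d F v := fun v => rfl
  set Bq : LinearMap.BilinForm F (Unit ⊕ (Fin d ⊕ Fin d) → F) := QuadraticMap.polarBilin QQ with hBq
  have hBqa : ∀ u v, Bq u v = QuadraticMap.polar (Cfsg.quadFormOdd d F) u v := fun u v => rfl
  have hS : ∀ u v, Bq u v = Bq v u := fun u v => by
    rw [hBqa, hBqa, QuadraticMap.polar_comm]
  have hV : Sy.NonDeg Bq ⊤ := by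
    have hN := Lib.Helper49.QOdd_nondegenerate (F := F) d h2
    intro u _ h
    exact hN.1 u (fun v => h v Submodule.mem_top)
  have hself : ∀ w, Bq w w = 2 * Cfsg.quadFormOdd d F w := by
    intro w
    rw [hBqa]
    have h1 : QuadraticMap.polar (⇑QQ) w w = 2 • QQ w := QuadraticMap.polar_self QQ w
    rw [two_nsmul] at h1
    rw [two_mul]
    exact h1
  have hcc : c = Sy.cOf (orderOf ((Fintype.card F : ℕ) : ZMod r)) := by
    rw [hc]; rfl
  have hconvW : ∀ W : Submodule F (Unit ⊕ (Fin d ⊕ Fin d) → F),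
      (∀ w ∈ W, Cfsg.quadFormOdd d F w = 0) ↔ Sy.Ort Bq W W := by
    intro W
    constructor
    · intro h u hu v hv
      rw [hBqa]
      unfold QuadraticMap.polar
      rw [h _ (W.add_mem hu hv), h u hu, h v hv]
      ring
    · intro h w hw
      have h1 := h w hw w hw
      rw [hself] at h1
      rcases mul_eq_zero.mp h1 with h3 | h3
      · exact absurd h3 h2
      · exact h3
  have hmapinv : ∀ (g : (Unit ⊕ (Fin d ⊕ Fin d) → F) →ₗ[F] (Unit ⊕ (Fin d ⊕ Fin d) → F))
      (W : Submodule F (Unit ⊕ (Fin d ⊕ Fin d) → F)), W.map g ≤ W ↔ Elus.Inv g W :=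
    fun g W => ⟨fun h v hv => h ⟨v, hv, rfl⟩, fun h => by
      rintro _ ⟨v, hv, rfl⟩
      exact h v hv⟩
  have hΩ' : r ∣ Nat.card {W : Submodule F (Unit ⊕ (Fin d ⊕ Fin d) → F) //
      Module.finrank F W = m ∧ Sy.Ort Bq W W} := by
    have h1 : Nat.card {W : Submodule F (Unit ⊕ (Fin d ⊕ Fin d) → F) // Module.finrank F ↥W = m ∧
        (∀ w ∈ W, Cfsg.quadFormOdd d F w = 0)} =
        Nat.card {W : Submodule F (Unit ⊕ (Fin d ⊕ Fin d) → F) //
          Module.finrank F W = m ∧ Sy.Ort Bq W W} :=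
      Nat.card_congr (Equiv.subtypeEquivRight fun W => and_congr Iff.rfl (hconvW W))
    rw [← h1]
    exact hrΩ
  -- isometries
  have hisoOf : ∀ x : GL (Unit ⊕ (Fin d ⊕ Fin d)) F, x ∈ Cfsg.Geo.omegaGL (Cfsg.quadFormOdd d F) →
      Sy.Iso Bq (Matrix.toLin' (x : Matrix (Unit ⊕ (Fin d ⊕ Fin d)) (Unit ⊕ (Fin d ⊕ Fin d)) F)) := by
    intro x hx u v
    obtain ⟨hxi, -⟩ := (Lib.Helper50.mem_omegaGL_iff _ x).mp hx
    have hQ : ∀ w, Cfsg.quadFormOdd d F
        (Matrix.mulVec (x : Matrix (Unit ⊕ (Fin d ⊕ Fin d)) (Unit ⊕ (Fin d ⊕ Fin d)) F) w) =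
        Cfsg.quadFormOdd d F w := fun w => Lib.Helper50.O_isometry _ ⟨x, hxi⟩ w
    rw [hBqa, hBqa, Matrix.toLin'_apply, Matrix.toLin'_apply]
    unfold QuadraticMap.polar
    rw [← Matrix.mulVec_add, hQ, hQ, hQ]
  have hpowOf : ∀ (x : GL (Unit ⊕ (Fin d ⊕ Fin d)) F) (n : ℕ), x ^ n = 1 →
      (Matrix.toLin' (x : Matrix (Unit ⊕ (Fin d ⊕ Fin d)) (Unit ⊕ (Fin d ⊕ Fin d)) F)) ^ n = 1 := by
    intro x n hx
    rw [← Matrix.toLin'_pow, ← Units.val_pow_eq_pow_val, hx, Units.val_one, Matrix.toLin'_one]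
    rfl
  -- the characteristic does not divide the number of totally singular subspaces
  by_cases hrp : r = p
  · exfalso
    subst hrp
    exact Lib.Helper08.OsEl.not_char_dvd_card_ts hS h2 hV r f hF f.pos d m hfin hmd hΩ'
  have hrF : (r : F) ≠ 0 := by
    intro h
    rw [CharP.cast_eq_zero_iff F p] at h
    exact hrp ((Nat.prime_dvd_prime_iff_eq hp hr).mp h).symm
  by_cases hr2 : r = 2
  · -- involutions
    subst hr2
    have hq13 : Fintype.card F % 4 = 1 ∨ Fintype.card F % 4 = 3 := by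
      obtain ⟨s, hs⟩ := hqodd
      omega
    constructor
    · intro hL
      left
      refine ⟨rfl, ?_⟩
      by_contra hcon
      push Not at hcon
      obtain ⟨hmd', hq4⟩ := hcon
      have hq3 : Fintype.card F % 4 = 3 := by omega
      have hmd'' : m = d := by omega
      obtain ⟨x, hxΩ, hx2, hbad⟩ := Lib.Helper23.OsEl.exists_bad_involution (F := F) hq3 d (by omega)
      obtain ⟨W, hWd, hWts, hWinv⟩ := hL x hxΩ hx2
      exact hbad W (by rw [hWd, hmd'']) hWts hWinv
    · rintro (⟨-, hcond⟩ | ⟨-, h22, -⟩)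
      swap
      · omega
      intro x hxΩ hx2
      have hxx : x ^ 2 = 1 := by rw [← hx2]; exact pow_orderOf_eq_one x
      set f0 : (Unit ⊕ (Fin d ⊕ Fin d) → F) →ₗ[F] (Unit ⊕ (Fin d ⊕ Fin d) → F) :=
        Matrix.toLin' (x : Matrix (Unit ⊕ (Fin d ⊕ Fin d)) (Unit ⊕ (Fin d ⊕ Fin d)) F) with hf0
      have hf : f0 ^ 2 = 1 := hpowOf x 2 hxx
      have hiso0 : Sy.Iso Bq f0 := hisoOf x hxΩ
      obtain ⟨hev, hX⟩ := Lib.Helper19.OsEl.omega_involution_data (F := F) hqodd d hd x hxΩ (by rw [← pow_two]; exact hxx)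
      rw [← hf0] at hev hX
      have hcase : m < d ∨ ∃ X : Submodule F (Unit ⊕ (Fin d ⊕ Fin d) → F),
          X ≤ LinearMap.ker (f0 + 1) ∧ Sy.Ort Bq X X ∧
          2 * Module.finrank F X = Module.finrank F (LinearMap.ker (f0 + 1)) := by
        rcases hcond with h | h
        · left; exact h
        · right
          obtain ⟨X, hX1, hX2, hX3⟩ := hX h
          exact ⟨X, hX1, (hconvW X).mp hX2, hX3⟩
      have hR : Bq.IsRefl := Lib.Helper98.Os.isRefl_of_symm hS
      have hrF2 : ((2 : ℕ) : F) ≠ 0 := by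
        rw [Nat.cast_ofNat]
        exact h2
      have hnd01 : Sy.NonDeg Bq (Elus.V0 f0) ∧ Sy.NonDeg Bq (Elus.V1 2 f0) := by
        have := Lib.Helper05.OsEl.nonDeg_inf_parts hR 2 hrF2 f0 hf hiso0 ⊤ hV
          (fun _ _ => Submodule.mem_top)
        rwa [top_inf_eq, top_inf_eq] at this
      obtain ⟨W, hWinv, hWts, hWd⟩ := Lib.Helper82.OsEl.exists_fixed_ts_invol_of f0
        (fun L W hL hW hLW => Lib.Helper05.OsEl.ort_sup_self hR L W hL hW hLW)
        (Lib.Helper05.OsEl.ort_V0_V1 2 hrF2 f0 hf hiso0) hnd01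
        (fun s U hU hs => Lib.Helper14.OsEl.exists_ts_symm hS h2 s U hU hs)
        h2 hf d m hfin hmd hev hcase
      exact ⟨W, hWd, (hconvW W).mpr hWts, (hmapinv f0 W).mpr hWinv⟩
  · -- odd primes different from the characteristic
    have hr3 : 2 < r := by
      have := hr.two_le
      omega
    have hrodd : Odd r := hr.odd_of_ne_two hr2
    have hi1 : 1 ≤ orderOf ((Fintype.card F : ℕ) : ZMod r) :=
      Elus.orderOf_card_pos p f hF r (Ne.symm hrp)
    set i := orderOf ((Fintype.card F : ℕ) : ZMod r) with hi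
    -- transfer of the hypothesis to an abstract model
    have htransfer : ∀ (hL : ∀ x : GL (Unit ⊕ (Fin d ⊕ Fin d)) F,
        x ∈ Cfsg.Geo.omegaGL (Cfsg.quadFormOdd d F) → orderOf x = r →
        ∃ W : Submodule F (Unit ⊕ (Fin d ⊕ Fin d) → F), Module.finrank F ↥W = m ∧
          (∀ w ∈ W, Cfsg.quadFormOdd d F w = 0) ∧
          W.map (Matrix.toLin' (x : Matrix (Unit ⊕ (Fin d ⊕ Fin d)) (Unit ⊕ (Fin d ⊕ Fin d)) F)) ≤ W)
        (V' : Type _) [AddCommGroup V'] [Module F V'] [FiniteDimensional F V']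
        (B' : LinearMap.BilinForm F V') (y' : V' →ₗ[F] V'), (∀ u v, B' u v = B' v u) →
        Sy.NonDeg B' ⊤ → Sy.Iso B' y' → y' ^ r = 1 → y' ≠ 1 → Module.finrank F V' = 2 * d + 1 →
        ∃ W' : Submodule F V', Elus.Inv y' W' ∧ Sy.Ort B' W' W' ∧ Module.finrank F W' = m := by
      intro hL V' _ _ _ B' y' hS' hV' hiso' hy' hy1' hd'
      obtain ⟨x, hxΩ, hxr, c0, hc0, E, hE1, hE2⟩ :=
        Lib.Helper41.Os.transport_odd h2 r hrodd d B' hS' hV' hd' y' hiso' hy' hy1'
      obtain ⟨W, hWd, hWts, hWinv⟩ := hL x hxΩ hxr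
      have hWinv' := (hmapinv _ W).mp hWinv
      refine ⟨W.map (E : (Unit ⊕ (Fin d ⊕ Fin d) → F) →ₗ[F] V'), ?_, ?_, ?_⟩
      · rintro _ ⟨u, hu, rfl⟩
        show y' (E u) ∈ _
        rw [← hE1]
        exact ⟨_, hWinv' u hu, rfl⟩
      · rintro _ ⟨u, hu, rfl⟩ _ ⟨v, hv, rfl⟩
        show B' (E u) (E v) = 0
        rw [hE2]
        unfold QuadraticMap.polar
        rw [hWts _ (W.add_mem hu hv), hWts u hu, hWts v hv]
        ring
      · rw [LinearEquiv.finrank_map_eq]
        exact hWd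
    constructor
    · intro hL
      right
      -- consequences of the divisibility hypothesis
      obtain ⟨j0, hj0m, hj0⟩ := Lib.Helper08.OsEl.exists_of_dvd_card_ts hS h2 hV d m hfin hmd r hΩ'
      rw [← hi] at hj0
      have hcdvd : c ∣ 2 * (d - j0) := by
        rw [hcc]
        exact Sy.cOf_dvd i _ hj0 (even_two_mul _)
      have hc1 : 1 ≤ c := by
        rw [hcc]
        exact Sy.cOf_pos _ hi1
      have hcn : c ≤ 2 * d := by
        have := Nat.le_of_dvd (by omega) hcdvd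
        omega
      obtain ⟨c', hc'⟩ := Sy.cOf_even i
      have hc2c : c = 2 * c' := by rw [hcc]; omega
      have hklt : (2 * d + 1) % c < 2 * m := by
        obtain ⟨e, he⟩ := hcdvd
        have h1 : 2 * d + 1 = (2 * j0 + 1) + c * e := by omega
        rw [h1, Nat.add_mul_mod_self_left]
        have := Nat.mod_le (2 * j0 + 1) c
        omega
      have hkodd : (2 * d + 1) % c % 2 = 1 := by
        have h1 := Nat.div_add_mod (2 * d + 1) c
        rw [hc2c] at h1 ⊢
        have : 2 * c' * ((2 * d + 1) / (2 * c')) = 2 * (c' * ((2 * d + 1) / (2 * c'))) := by ring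
        omega
      -- model 1
      have hkey1 : 2 * (m % i) < (2 * d + 1) % c := by
        have hjpos : 1 ≤ (2 * d + 1) / c := Nat.div_pos (by omega) (by omega)
        obtain ⟨V', _, _, _, B', y', hS', hV', hiso', hy', hy1', hd', hV0'⟩ :=
          Lib.Helper50.OsEl.exists_model1 (F := F) p f hF r (Ne.symm hrp) hr2 hrF ((2 * d + 1) / c) ((2 * d + 1) % c) hjpos
        rw [← hi, ← hcc] at hd'
        have hd'' : Module.finrank F V' = 2 * d + 1 := by
          rw [hd', mul_comm]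
          exact Nat.div_add_mod (2 * d + 1) c
        obtain ⟨W', hW'inv, hW'ts, hW'd⟩ := htransfer hL V' B' y' hS' hV' hiso' hy' hy1' hd''
        have hb := Lib.Helper23.OsEl.ts_bound_V0 hS' hV' r hrF y' hy' hiso' W' hW'inv hW'ts
        rw [hW'd, ← hi, hV0'] at hb
        omega
      have him : i ≤ m := by
        by_contra hlt
        have : m % i = m := Nat.mod_eq_of_lt (by omega)
        omega
      refine ⟨hrp, hr3, him, hkey1, ?_⟩
      by_cases hodd : Odd i
      · left; exact hodd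
      right
      have heven : Even i := Nat.not_odd_iff_even.mp hodd
      have hci : c = i := by
        rw [hc, if_pos heven]
      -- model 2
      set T := (r - 1) / i with hT
      set n' := (2 * d + 1) / i with hn'
      have hn : i * n' + (2 * d + 1) % i = 2 * d + 1 := Nat.div_add_mod (2 * d + 1) i
      have hn'1 : 1 ≤ n' := Nat.div_pos (by omega) (by omega)
      have hT1 : 1 ≤ T := by
        apply Nat.div_pos _ (by omega)
        have hdvd : i ∣ r - 1 := by
          rw [hi]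
          have hq0 : ((Fintype.card F : ℕ) : ZMod r) ≠ 0 := by
            intro h0
            have := orderOf_pos_iff.mp (by omega : 0 < orderOf ((Fintype.card F : ℕ) : ZMod r))
            rw [h0] at this
            have h1 : (0 : ZMod r) ^ 1 = 1 := by
              obtain ⟨n, hn0, hn1⟩ := this.exists_pow_eq_one
              rw [zero_pow (by omega)] at hn1
              exact absurd hn1 zero_ne_one
            simp at h1
          exact ZMod.orderOf_dvd_card_sub_one hq0
        exact Nat.le_of_dvd (by omega) hdvd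
      set o := min T n' with ho
      have ho1 : 1 ≤ o := le_min hT1 hn'1
      have hio : i * o ≤ i * n' := Nat.mul_le_mul_left i (min_le_right _ _)
      obtain ⟨V', _, _, _, B', y', hS', hV', hiso', hy', hy1', hd', hbound⟩ :=
        Lib.Helper04.OsEl.exists_model2 (F := F) p f hF r (Ne.symm hrp) hr2 hrF (by rw [← hi]; exact heven) o
          (2 * d + 1 - i * o) ho1 (by rw [← hi, ← hT]; exact min_le_left _ _)
      rw [← hi] at hd'
      have hd'' : Module.finrank F V' = 2 * d + 1 := by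
        rw [hd']
        omega
      obtain ⟨W', hW'inv, hW'ts, hW'd⟩ := htransfer hL V' B' y' hS' hV' hiso' hy' hy1' hd''
      have hb := hbound W' hW'inv hW'ts
      rw [hW'd] at hb
      -- arithmetic
      have hm' := Nat.div_add_mod m i
      rcases le_total T n' with hle | hle
      · have hoo : o = T := min_eq_left hle
        rw [hoo] at hb
        have h1 : i * (T + 2 * (m / i)) = i * T + 2 * (i * (m / i)) := by ring
        have h2' : i * (T + 2 * (m / i)) ≤ 2 * d + 1 := by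
          rw [h1]
          omega
        exact (Nat.le_div_iff_mul_le (by omega)).mpr (by rw [mul_comm]; exact h2')
      · have hoo : o = n' := min_eq_right hle
        rw [hoo] at hb
        rw [hci] at hklt
        omega
    · rintro (⟨h2', -⟩ | ⟨-, -, him, hk, hcase⟩)
      · exact absurd h2' hr2
      intro x hxΩ hxr
      set f0 : (Unit ⊕ (Fin d ⊕ Fin d) → F) →ₗ[F] (Unit ⊕ (Fin d ⊕ Fin d) → F) :=
        Matrix.toLin' (x : Matrix (Unit ⊕ (Fin d ⊕ Fin d)) (Unit ⊕ (Fin d ⊕ Fin d)) F) with hf0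
      have hf : f0 ^ r = 1 := hpowOf x r (by rw [← hxr]; exact pow_orderOf_eq_one x)
      have hiso0 : Sy.Iso Bq f0 := hisoOf x hxΩ
      rw [hcc] at hk
      obtain ⟨W, hWinv, hWts, hWd⟩ := Lib.Helper60.OsEl.exists_fixed_ts hS h2 hV p f hF r (Ne.symm hrp) hr2 hrF f0 hf
        hiso0 d m hfin hmd hk hcase
      exact ⟨W, hWd, (hconvW W).mpr hWts, (hmapinv f0 W).mpr hWinv⟩

end Cfsg.Agent.S5972
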