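import Cfsg.Statements.S5976
import Cfsg.Agent.Lib.Helper79.SpUGlue
import Cfsg.Agent.Lib.Helper23.SpUK0F
import Cfsg.Agent.Lib.Helper13.SpUE
import Cfsg.Agent.Lib.Helper01.SpUH0
import Cfsg.Agent.Lib.Helper75.SpUB
import Cfsg.Agent.Lib.Helper59.SpUD
import Cfsg.Agent.Lib.Helper61.SpUM
import Cfsg.Agent.Lib.Helper91.SpUC
import Cfsg.Agent.Lib.Helper14.SpUA0
import Cfsg.Agent.Lib.Helper30.SpUG0
import Cfsg.Agent.Lib.Helper81.SpO2

set_option autoImplicit false
open scoped MatrixGroups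
open Cfsg

namespace Cfsg.Agent.S5976

open Cfsg.Agent.Lib.Helper79.SpU

/-- Elements of prime order of PSp_n(q), q odd, and the subgroups of type GU_{n/2}(q). Here `T = PSp_{2d}(F)` for a field `F` with `q` elements, `q` odd, `d ≥ 2`, realised through the matrices preserving the standard alternating form `f`; `K` is a subalgebra of the `2d × 2d` matrices that is a field of degree 2 over `F`, closed under taking adjoints for `f` but not consisting of self-adjoint elements (so `F^{2d}` becomes a `d`-dimensional space over `K ≅ F_{q²}` on which `f` is the trace of a multiple of a non-degenerate hermitian form); `H` is the subgroup of `T` normalizing `K` — the symplectic maps that are `K`-linear or `K`-semilinear, a subgroup of type GU_d(q) (maximality is not assumed). Ω is the set of cosets of `H` in `T`, so an element of `T` of prime order `r` (`x ∈ T` with `x^r` scalar, `x` not scalar) fixes a point of Ω exactly when some `T`-conjugate of `x` normalizes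 `K`. Let `r` be a prime dividing the index of `H`. Then every element of `T` of order `r` fixes a point of Ω if and only if `r = 2`. -/
theorem result {F : Type*} [Field F] [Fintype F] {p : ℕ} [Fact p.Prime] [CharP F p] {q : ℕ} (hq : Fintype.card F = q)
    (hodd : Odd q) (d : ℕ) (hd : 2 ≤ d)
    (K : Subalgebra F (Matrix (Fin d ⊕ Fin d) (Fin d ⊕ Fin d) F)) (hK : Cfsg.Geo.IsFieldSubalgebra 2 K)
    (hKf : Cfsg.Geo.IsAdjointClosedFor (Cfsg.sympForm d F) K) (hKns : ¬ Cfsg.Geo.IsSelfAdjointFor (Cfsg.sympForm d F) K)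
    (r : ℕ) [Fact r.Prime]
    (hΩ : r ∣ (Cfsg.Geo.subalgebraNormalizer K).relIndex (Cfsg.spGL d F)) :
    (∀ x ∈ Cfsg.spGL d F, (∃ z : F, ((x ^ r : GL (Fin d ⊕ Fin d) F) : Matrix (Fin d ⊕ Fin d) (Fin d ⊕ Fin d) F) = z • (1 : Matrix (Fin d ⊕ Fin d) (Fin d ⊕ Fin d) F)) →
      (∀ z : F, (x : Matrix (Fin d ⊕ Fin d) (Fin d ⊕ Fin d) F) ≠ z • (1 : Matrix (Fin d ⊕ Fin d) (Fin d ⊕ Fin d) F)) →
      ∃ g ∈ Cfsg.spGL d F, g⁻¹ * x * g ∈ Cfsg.Geo.subalgebraNormalizer K) ↔ r = 2 := by
  classical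
  have hp : p.Prime := Fact.out
  have hr : r.Prime := Fact.out
  have hd1 : 1 ≤ d := by omega
  have hoddF : Odd (Fintype.card F) := by rw [hq]; exact hodd
  have hKU : IsUType d K := ⟨hK, hKf, hKns⟩
  -- `q` is a power of `p`
  obtain ⟨f, _, hqf⟩ := FiniteField.card F p
  rw [hq] at hqf
  have hq2 : 2 ≤ q := by rw [← hq]; exact Fintype.one_lt_card
  have hp2 : p ≠ 2 := by
    intro h
    rw [hqf, h] at hodd
    exact (Nat.not_even_iff_odd.2 hodd) ((Nat.even_pow.2 ⟨even_two, f.ne_zero⟩))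
  have h2F : (2 : F) ≠ 0 := by
    intro h
    have : ((2 : ℕ) : F) = 0 := by exact_mod_cast h
    rw [CharP.cast_eq_zero_iff F p] at this
    exact hp2 ((Nat.prime_dvd_prime_iff_eq hp Nat.prime_two).1 this)
  -- a non-square and the standard model
  have hchar : ringChar F ≠ 2 := by
    intro h
    apply h2F
    have := ringChar.Nat.cast_ringChar (R := F)
    rw [h] at this
    exact_mod_cast this
  obtain ⟨δ, hδ⟩ := FiniteField.exists_nonsquare hchar
  have hK0 : IsUType d (K0 d δ) := Cfsg.Agent.Lib.Helper23.SpU.isUType_K0 h2F d hd1 δ hδ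
  obtain ⟨h, hhS, hh⟩ := Cfsg.Agent.Lib.Helper61.SpU.exists_conj hoddF d hd1 K (K0 d δ) hKU hK0
  constructor
  · -- only if
    intro H
    by_contra hr2
    have hrodd : Odd r := hr.odd_of_ne_two hr2
    by_cases hrp : r = p
    · obtain ⟨x, hx, hxp, hns, hder⟩ := Cfsg.Agent.Lib.Helper13.SpU.derange_unip (p := p) hoddF d hd1 K hK
      obtain ⟨g, hg, hgx⟩ := H x hx ⟨1, by rw [hrp, hxp, one_smul]⟩ hns
      exact hder g hg hgx
    · have hrq : ¬ r ∣ q := by
        intro hdvd
        rw [hqf] at hdvd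
        exact hrp ((Nat.prime_dvd_prime_iff_eq hr hp).1 (hr.dvd_of_dvd_pow hdvd))
      have hidx : (Cfsg.Geo.subalgebraNormalizer K).relIndex (Cfsg.spGL d F) =
          (Cfsg.Geo.subalgebraNormalizer (K0 d δ)).relIndex (Cfsg.spGL d F) :=
        relIndex_eq_of_conj K (K0 d δ) (Cfsg.spGL d F) h hhS hh
      have hA := Cfsg.Agent.Lib.Helper14.SpU.relIndex_mul_dvd hq hodd d hd1 δ hδ
      rw [← hidx, Cfsg.Agent.Lib.Helper81.SpO.card_spGL hq d] at hA
      have hB := Cfsg.Agent.Lib.Helper75.SpU.arith q d _ r hq2 hodd hd1 hr2 hrq hA hΩ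
      rcases hB with ⟨he, hed⟩ | ⟨h4, hed⟩
      · obtain ⟨x, hx, hxr, hns, hder⟩ :=
          Cfsg.Agent.Lib.Helper91.SpU.derange_odd (p := p) hq hodd d hd1 K hK r hr2 hrp he hed
        obtain ⟨g, hg, hgx⟩ := H x hx ⟨1, by rw [hxr, one_smul]⟩ hns
        exact hder g hg hgx
      · obtain ⟨x, hx, hxr, hns, hder⟩ :=
          Cfsg.Agent.Lib.Helper59.SpU.derange_four (p := p) hq hodd d hd1 K hKU r hr2 hrp h4 hed
        obtain ⟨g, hg, hgx⟩ := H x hx ⟨1, by rw [hxr, one_smul]⟩ hns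
        exact hder g hg hgx
  · -- if
    intro hr2 x hx hz hns
    subst hr2
    obtain ⟨z, hz⟩ := hz
    rw [Units.val_pow_eq_pow_val, pow_two] at hz
    -- transport from `K0` to `K`
    have htrans : (∃ g ∈ Cfsg.spGL d F, g⁻¹ * x * g ∈ Cfsg.Geo.subalgebraNormalizer (K0 d δ)) →
        ∃ g ∈ Cfsg.spGL d F, g⁻¹ * x * g ∈ Cfsg.Geo.subalgebraNormalizer K := by
      rintro ⟨g, hg, hgx⟩
      refine ⟨g * h, (Cfsg.spGL d F).mul_mem hg hhS, ?_⟩
      have := conj_mem_normalizer K (K0 d δ) h hh _ hgx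
      have e : (g * h)⁻¹ * x * (g * h) = h⁻¹ * (g⁻¹ * x * g) * h := by group
      rw [e]
      exact this
    apply htrans
    rcases sq_scalar_eq d hd1 x hx z hz with h1 | h1
    · rw [h1, one_smul] at hz
      apply Cfsg.Agent.Lib.Helper30.SpU.invol_pos hoddF d hd1 δ hδ x hx hz
      · intro h
        exact hns 1 (by rw [h, one_smul])
      · intro h
        exact hns (-1) (by rw [h, neg_smul, one_smul])
    · rw [h1, neg_smul, one_smul] at hz
      exact Cfsg.Agent.Lib.Helper01.SpU.invol_neg hoddF d hd1 δ hδ x hx hz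

end Cfsg.Agent.S5976
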