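import Cfsg.Statements.S5977
import Cfsg.Agent.Lib.Helper72.OQFGlue
import Cfsg.Agent.Lib.Helper50.PlusForm
import Cfsg.Agent.Lib.Helper50.PlusLangA
import Cfsg.Agent.Lib.Helper50.DiagPlus
import Cfsg.Agent.Lib.Helper08.GOPlus
import Cfsg.Agent.Lib.Helper14.SpUA0

set_option autoImplicit false
open scoped MatrixGroups
open Cfsg

namespace Cfsg.Agent.S5977

open Cfsg.Agent.Lib.Helper72 Cfsg.Agent.Lib.Helper72.OQF
open Cfsg.Agent.Lib.Helper79.SpU (K0)

/-- Elements of prime order of PΩ⁺_n(q), q odd, and the field-extension subgroups of degree 2 (orthogonal type over F_{q²}). Here `T = PΩ⁺_{2d}(F)` for a field `F` with `q` elements, `q` odd, `d ≥ 4`, realised through `Ω⁺_{2d}(q)`, the commutator subgroup of the isometry group of `Q = Σ xᵢyᵢ`, with polar form `B`; `K` is a subalgebra of the `2d × 2d` matrices that is a field of degree 2 over `F` whose elements are self-adjoint for `B` (so `F^{2d}` becomes a `d`-dimensional space over `K ≅ F_{q²}`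 on which `B` is the trace of a `K`-bilinear symmetric form); `H` is the subgroup of `Ω⁺_{2d}(q)` normalizing `K` — the elements of `Ω⁺_{2d}(q)` that are `K`-linear or `K`-semilinear, a subgroup of orthogonal type over the quadratic extension (maximality is not assumed). Ω is the set of cosets of `H`, so an element of `T` of prime order `r` (`x ∈ Ω⁺_{2d}(q)` with `x^r` scalar, `x` not scalar) fixes a point of Ω exactly when some `Ω⁺_{2d}(q)`-conjugate of `x` normalizes `K`. Let `r` be a prime dividing the index of `H`. Then every element of `T` of order `r` fixes a point of Ω if and only if `r = 2`. -/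
theorem result {F : Type*} [Field F] [Fintype F] {p : ℕ} [Fact p.Prime] [CharP F p] {q : ℕ} (hq : Fintype.card F = q)
    (hodd : Odd q) (d : ℕ) (hd : 4 ≤ d)
    (K : Subalgebra F (Matrix (Fin d ⊕ Fin d) (Fin d ⊕ Fin d) F)) (hK : Cfsg.Geo.IsFieldSubalgebra 2 K)
    (hKf : Cfsg.Geo.IsSelfAdjointFor (QuadraticMap.polar (Cfsg.quadFormPlus d F)) K)
    (r : ℕ) [Fact r.Prime]
    (hΩ : r ∣ (Cfsg.Geo.subalgebraNormalizer K).relIndex (Cfsg.Geo.omegaGL (Cfsg.quadFormPlus d F))) :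
    (∀ x ∈ Cfsg.Geo.omegaGL (Cfsg.quadFormPlus d F), (∃ z : F, ((x ^ r : GL (Fin d ⊕ Fin d) F) : Matrix (Fin d ⊕ Fin d) (Fin d ⊕ Fin d) F) = z • (1 : Matrix (Fin d ⊕ Fin d) (Fin d ⊕ Fin d) F)) →
      (∀ z : F, (x : Matrix (Fin d ⊕ Fin d) (Fin d ⊕ Fin d) F) ≠ z • (1 : Matrix (Fin d ⊕ Fin d) (Fin d ⊕ Fin d) F)) →
      ∃ g ∈ Cfsg.Geo.omegaGL (Cfsg.quadFormPlus d F), g⁻¹ * x * g ∈ Cfsg.Geo.subalgebraNormalizer K) ↔ r = 2 := by
  classical
  have hp : p.Prime := Fact.out
  have hr : r.Prime := Fact.out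
  have hd1 : 1 ≤ d := by omega
  have hd2 : 2 ≤ d := by omega
  have hoddF : Odd (Fintype.card F) := by rw [hq]; exact hodd
  obtain ⟨f, _, hqf⟩ := FiniteField.card F p
  rw [hq] at hqf
  have hq2 : 2 ≤ q := by rw [← hq]; exact Fintype.one_lt_card
  have hp2 : p ≠ 2 := by
    intro h
    rw [hqf, h] at hodd
    exact (Nat.not_even_iff_odd.2 hodd) ((Nat.even_pow.2 ⟨even_two, f.ne_zero⟩))
  have h2F : (2 : F) ≠ 0 := by
    intro h
    have : ((2 : ℕ) : F) = 0 := by exact_mod_cast h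
    rw [CharP.cast_eq_zero_iff F p] at this
    exact hp2 ((Nat.prime_dvd_prime_iff_eq hp Nat.prime_two).1 this)
  have hchar : ringChar F ≠ 2 := by
    intro h
    apply h2F
    have := ringChar.Nat.cast_ringChar (R := F)
    rw [h] at this
    exact_mod_cast this
  obtain ⟨δ, hδ⟩ := FiniteField.exists_nonsquare hchar
  -- the bundled form
  have hcoe : (⇑(Cfsg.Agent.Lib.Helper50.QPlus d F) : (Fin d ⊕ Fin d → F) → F) = Cfsg.quadFormPlus d F :=
    Cfsg.Agent.Lib.Helper50.QPlus_coe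
  have hQ : (QuadraticMap.polarBilin (Cfsg.Agent.Lib.Helper50.QPlus d F)).Nondegenerate :=
    Cfsg.Agent.Lib.Helper50.QPlus_nondegenerate
  have hcard : Fintype.card (Fin d ⊕ Fin d) = 2 * d := by
    rw [Fintype.card_sum, Fintype.card_fin]; ring
  have hKO : IsOType (⇑(Cfsg.Agent.Lib.Helper50.QPlus d F)) K := by
    rw [hcoe]; exact ⟨hK, hKf⟩
  constructor
  · -- only if
    intro H
    by_contra hr2
    by_cases hrp : r = p
    · -- a Siegel element
      let e0 : Fin d ⊕ Fin d → F := Sum.elim (Pi.single ⟨0, by omega⟩ 1) 0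
      let z0 : Fin d ⊕ Fin d → F := Sum.elim (Pi.single ⟨1, by omega⟩ 1) (Pi.single ⟨1, by omega⟩ 1)
      have he0 : e0 ≠ 0 := by
        intro h
        have := congrFun h (Sum.inl ⟨0, by omega⟩)
        simp [e0] at this
      have hQe : Cfsg.Agent.Lib.Helper50.QPlus d F e0 = 0 := by
        simp only [e0]
        rw [Cfsg.Agent.Lib.Helper50.QPlus_elim]
        simp
      have hQz : Cfsg.Agent.Lib.Helper50.QPlus d F z0 = 1 := by
        simp only [z0]
        rw [Cfsg.Agent.Lib.Helper50.QPlus_elim]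
        simp
      have hQez : Cfsg.Agent.Lib.Helper50.QPlus d F (e0 + z0) = 1 := by
        have : e0 + z0 = Sum.elim ((Pi.single ⟨0, by omega⟩ 1 : Fin d → F) + Pi.single ⟨1, by omega⟩ 1)
            (Pi.single ⟨1, by omega⟩ 1) := by
          funext k
          rcases k with i | i <;> simp [e0, z0, Pi.single_apply]
        rw [this, Cfsg.Agent.Lib.Helper50.QPlus_elim, add_dotProduct]
        simp
      have hpol : QuadraticMap.polar (⇑(Cfsg.Agent.Lib.Helper50.QPlus d F)) e0 z0 = 0 := by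
        unfold QuadraticMap.polar
        rw [hQez, hQe, hQz]; ring
      obtain ⟨x, hx, hxp, hns, hder⟩ := OQFL.derange_unip (p := p) hoddF (Cfsg.Agent.Lib.Helper50.QPlus d F) hQ
        (by rw [hcard]; omega) e0 z0 he0 hQe hpol (by rw [hQz]; exact one_ne_zero) K hK
      rw [hcoe] at hx
      obtain ⟨g, _, hgx⟩ := H x hx ⟨1, by rw [hrp, hxp, one_smul]⟩ hns
      exact hder g hgx
    · have hrq : ¬ r ∣ q := by
        intro hdvd
        rw [hqf] at hdvd
        exact hrp ((Nat.prime_dvd_prime_iff_eq hr hp).1 (hr.dvd_of_dvd_pow hdvd))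
      have hK0 : IsOType (⇑(Cfsg.Agent.Lib.Helper50.QPlus d F)) (K0 d δ) := by
        rw [hcoe]; exact OQFL.isOType_K0 h2F d hd1 δ hδ
      obtain ⟨h, hhQ, hh⟩ := OQFL.exists_conj hoddF (Cfsg.Agent.Lib.Helper50.QPlus d F) hQ K (K0 d δ) hKO hK0
      have hidx := relIndex_eq_of_conj_GO (⇑(Cfsg.Agent.Lib.Helper50.QPlus d F)) K (K0 d δ) h hhQ hh
      rw [hcoe] at hidx
      have hfact := Cfsg.Agent.Lib.Helper14.SpU.fact_of_not_isSquare δ hδ
      have hA := OQFL.relIndex_mul_dvd hoddF d hd1 δ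
      rw [← hidx, OQFL.card_dot hq hodd d hd2 δ, Cfsg.Agent.Lib.Helper08.card_GOplus hq d hd1] at hA
      have hB := OQFL.arith q d _ r hq2 hodd hd2 hr2 hrq hA hΩ
      rcases hB with ⟨he, hed⟩ | ⟨h4, hed⟩
      · obtain ⟨x, hx, hxr, hns, hder⟩ := OQFL.derange_odd (p := p) hq hodd d hd2 K hK r hr2 hrp he hed
        obtain ⟨g, hg, hgx⟩ := H x hx ⟨1, by rw [hxr, one_smul]⟩ hns
        exact hder g hg hgx
      · obtain ⟨x, hx, hxr, hns, hder⟩ :=
          OQFL.derange_two (p := p) hq hodd d hd2 K ⟨hK, hKf⟩ r hr2 hrp h4 hed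
        obtain ⟨g, hg, hgx⟩ := H x hx ⟨1, by rw [hxr, one_smul]⟩ hns
        exact hder g hg hgx
  · -- if
    intro hr2 x hx hz _
    subst hr2
    obtain ⟨z, hz⟩ := hz
    rw [Units.val_pow_eq_pow_val, pow_two] at hz
    have hxQ : x ∈ Cfsg.isometryGroup F (⇑(Cfsg.Agent.Lib.Helper50.QPlus d F)) := by
      rw [hcoe]; exact omegaGL_le _ hx
    have hv : Cfsg.Agent.Lib.Helper50.QPlus d F (Cfsg.Agent.Lib.Helper50.vStd d hd1) ≠ 0 := by
      rw [Cfsg.Agent.Lib.Helper50.QPlus_vStd]; exact one_ne_zero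
    have hx2 : (x : Matrix (Fin d ⊕ Fin d) (Fin d ⊕ Fin d) F) * (x : Matrix (Fin d ⊕ Fin d) (Fin d ⊕ Fin d) F) = 1 ∨
        (x : Matrix (Fin d ⊕ Fin d) (Fin d ⊕ Fin d) F) * (x : Matrix (Fin d ⊕ Fin d) (Fin d ⊕ Fin d) F) = -1 := by
      rcases sq_scalar_eq (Cfsg.Agent.Lib.Helper50.QPlus d F) _ hv x hxQ z hz with h1 | h1
      · left; rw [hz, h1, one_smul]
      · right; rw [hz, h1, neg_smul, one_smul]
    have := if_part hoddF (Cfsg.Agent.Lib.Helper50.QPlus d F) hQ (by rw [hcard]; omega) (by rw [hcard]; exact even_two_mul d)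
      K hKO x (by rw [hcoe]; exact hx) hx2
    rw [hcoe] at this
    exact this

end Cfsg.Agent.S5977
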