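import Cfsg.Statements.S5979
import Cfsg.Agent.Lib.Helper69.SLTMain
import Cfsg.Agent.Lib.Helper82.SLTC
import Cfsg.Agent.Lib.Helper02.SLO4

set_option autoImplicit false
open scoped MatrixGroups
open Cfsg

namespace Cfsg.Agent.S5979

open Cfsg.Agent.Lib.Helper69.SLT

/-- Elements of prime order of PSL_n(q) and the stabilizers of tensor decompositions with factors of different dimensions. Here `T = PSL_n(F)` for a field `F` with `q` elements and `n = a·b` with `2 ≤ a < b`; a tensor decomposition `F^n ≅ F^a ⊗ F^b` is given by a bijection `e` of index sets and a change of basis `P`, and `H` is the subgroup of matrices of determinant 1 in its stabilizer (the conjugate by `P` of the group of Kronecker products `g₁ ⊗ g₂`) — a subgroup of type GL_a(q) ⊗ GL_b(q) (maximality is not assumed); Ω is the set of cosets of `H` in `T`, so an element of `T` of prime order `r` (a matrix `x` of determinant 1 with `x^r` scalar, `x` not scalar) fixes a point of Ω exactly when some conjugate of `x` by a matrix of determinant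 1 lies in `H`. Let `r` be a prime dividing the index of `H`. Then every element of `T` of order `r` fixes a point of Ω if and only if `r = 2`, `a = 2`, `q` is odd and `(q − 1)_2 ≤ (n)_2` (2-parts). -/
theorem result {F : Type*} [Field F] [Fintype F] {p : ℕ} [Fact p.Prime] [CharP F p] {q : ℕ} (hq : Fintype.card F = q)
    (n a b : ℕ) (hab : n = a * b) (ha : 2 ≤ a) (hlt : a < b) (e : Fin n ≃ Fin a × Fin b) (P : GL (Fin n) F)
    (r : ℕ) [Fact r.Prime]
    (hΩ : r ∣ (Cfsg.Geo.tensorProductSubgroup a b e P).relIndex (Cfsg.Geo.specialLinear (Fin n) F)) :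
    (∀ x ∈ Cfsg.Geo.specialLinear (Fin n) F, (∃ z : F, ((x ^ r : GL (Fin n) F) : Matrix (Fin n) (Fin n) F) = z • (1 : Matrix (Fin n) (Fin n) F)) →
      (∀ z : F, (x : Matrix (Fin n) (Fin n) F) ≠ z • (1 : Matrix (Fin n) (Fin n) F)) →
      ∃ g ∈ Cfsg.Geo.specialLinear (Fin n) F, g⁻¹ * x * g ∈ Cfsg.Geo.tensorProductSubgroup a b e P) ↔
    (r = 2 ∧ a = 2 ∧ Odd q ∧ padicValNat 2 (q - 1) ≤ padicValNat 2 n) := by
  classical
  subst hq
  have hr : r.Prime := Fact.out
  have hn1 : 1 ≤ n := by rw [hab]; nlinarith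
  constructor
  · intro hall
    by_contra hR
    have hord : r ≠ p → orderOf ((Fintype.card F : ℕ) : ZMod r) ≤ a * b := by
      intro hrp
      have h1 : r ∣ Nat.card (Cfsg.Geo.specialLinear (Fin n) F) :=
        dvd_trans hΩ (Subgroup.index_dvd_card _)
      obtain ⟨k, -, hk⟩ := FiniteField.card F p
      have hrq : ¬ r ∣ Fintype.card F := by
        rw [hk]
        intro h
        exact hrp ((Nat.prime_dvd_prime_iff_eq hr Fact.out).mp (hr.dvd_of_dvd_pow h))
      have h2 := Cfsg.Agent.Lib.Helper02.SLO.order_le_of_dvd (Fintype.card F) r n _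
        Fintype.one_lt_card hr hrq hn1 (Cfsg.Agent.Lib.Helper82.SLT.card_specialLinear_mul n hn1) h1
      rw [← hab]
      exact h2
    obtain ⟨x', hdet, ⟨z, hz⟩, hns, hno⟩ := exists_derangement (F := F) (p := p) ha hlt r hr hord
      (by rw [← hab]; exact hR)
    have hxx : Cfsg.Geo.glReindex e (Cfsg.Geo.glReindex e.symm x') = x' := glReindex_symm_apply e x'
    have hx := hall (Cfsg.Geo.glReindex e.symm x') ?_ ⟨z, ?_⟩ ?_
    · rw [conj_mem_tensor_iff, hxx] at hx
      obtain ⟨h, -, hmem⟩ := hx
      exact hno h hmem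
    · show Matrix.GeneralLinearGroup.det (Cfsg.Geo.glReindex e.symm x') = 1
      rw [glReindex_det, hdet]
    · rw [← map_pow, glReindex_val_eq_smul_one_iff]
      exact hz
    · intro w hw
      rw [glReindex_val_eq_smul_one_iff] at hw
      exact hns w hw
  · rintro ⟨hr2, ha2, hodd, hv⟩
    subst hr2
    subst ha2
    intro x hx hz hns
    obtain ⟨z, hz⟩ := hz
    rw [conj_mem_tensor_iff]
    have hb1 : 1 ≤ b := by omega
    have hdet : Matrix.GeneralLinearGroup.det (Cfsg.Geo.glReindex e x) = 1 := by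
      rw [glReindex_det]; exact hx
    have hz' : (((Cfsg.Geo.glReindex e x) ^ 2 : GL (Fin 2 × Fin b) F) :
        Matrix (Fin 2 × Fin b) (Fin 2 × Fin b) F) =
        z • (1 : Matrix (Fin 2 × Fin b) (Fin 2 × Fin b) F) := by
      rw [← map_pow, glReindex_val_eq_smul_one_iff]
      exact hz
    have hns' : ∀ w : F, ((Cfsg.Geo.glReindex e x : GL (Fin 2 × Fin b) F) :
        Matrix (Fin 2 × Fin b) (Fin 2 × Fin b) F) ≠
        w • (1 : Matrix (Fin 2 × Fin b) (Fin 2 × Fin b) F) := by
      intro w hw
      rw [glReindex_val_eq_smul_one_iff] at hw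
      exact hns w hw
    exact allDetKronConj_of_two hodd b hb1 (by rw [← hab]; exact hv) _ hdet z hz' hns'
      (Matrix.GeneralLinearGroup.det P)

end Cfsg.Agent.S5979
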