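import Cfsg.Statements.S5984
import Cfsg.Agent.Lib.Helper49.UPairOdd2
import Cfsg.Agent.Lib.Helper49.UPairInvA
import Cfsg.Agent.Lib.Helper49.UPairInvB

set_option autoImplicit false
open scoped MatrixGroups
open Cfsg
open Cfsg.Agent.Lib.Helper49 Cfsg.Agent.Lib.Helper08

namespace Cfsg.Agent.S5984

/-- Elements of prime order of PSU_n(q) and the stabilizers of pairs of complementary totally singular subspaces. Here `T = PSU_n(q)` is realised through `SU_n(q)`, the matrices of determinant 1 over the field `F` with `q²` elements preserving the hermitian form `Σ uᵢ vᵢ^q`, with `n ≥ 4` even; `D` is a pair of complementary subspaces of dimension `n/2` on each of which the form vanishes identically, and `H` is the subgroup of `SU_n(q)` fixing or interchanging the two members — a subgroup of type GL_{n/2}(q²).2 (maximality is not assumed). Ω is the set of cosets of `H`, so an element of `T` of prime order `r` (`x ∈ SU_n(q)` with `x^r` scalar, `x` not scalar) fixes a point of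 Ω exactly when some `SU_n(q)`-conjugate of `x` lies in `H`. Let `r` be a prime dividing the index of `H`. Then every element of `T` of order `r` fixes a point of Ω if and only if `r = 2`, `q` is odd and `(q + 1)_2 ≤ (n)_2` (2-parts). -/
theorem result {F : Type*} [Field F] [Fintype F] {p : ℕ} [Fact p.Prime] [CharP F p] {q : ℕ} (hq : Fintype.card F = q ^ 2)
    (n : ℕ) (hn : 4 ≤ n) (he : Even n) (D : Fin 2 → Submodule F (Fin n → F)) (hD : Cfsg.Geo.IsMDecomposition (n / 2) D)
    (hDs : ∀ i, Cfsg.Geo.IsTotallySingularFor (Cfsg.hermForm n F q) (D i))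
    (r : ℕ) [Fact r.Prime]
    (hΩ : r ∣ (Cfsg.Geo.decompositionStabilizer D).relIndex (Cfsg.GU n F q ⊓ Cfsg.Geo.specialLinear (Fin n) F)) :
    (∀ x ∈ Cfsg.GU n F q ⊓ Cfsg.Geo.specialLinear (Fin n) F, (∃ z : F, ((x ^ r : GL (Fin n) F) : Matrix (Fin n) (Fin n) F) = z • (1 : Matrix (Fin n) (Fin n) F)) →
      (∀ z : F, (x : Matrix (Fin n) (Fin n) F) ≠ z • (1 : Matrix (Fin n) (Fin n) F)) →
      ∃ g ∈ Cfsg.GU n F q ⊓ Cfsg.Geo.specialLinear (Fin n) F, g⁻¹ * x * g ∈ Cfsg.Geo.decompositionStabilizer D) ↔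
    (r = 2 ∧ Odd q ∧ padicValNat 2 (q + 1) ≤ padicValNat 2 n) := by
  classical
  have hp : p.Prime := Fact.out
  have hr : r.Prime := Fact.out
  have hDs' : ∀ i, ∀ a ∈ D i, ∀ b ∈ D i, hform (Fin n) F q a b = 0 :=
    fun i a ha b hb => hDs i a ha b hb
  have hc := isCompl_of_decomp D hD
  obtain ⟨m, u, w, hnm, hu, hw, huw, hli, hD0, hD1⟩ :=
    exists_dual_frame_herm hq (D 0) (D 1) hc (hDs' 0) (hDs' 1)
  have hm2 : 2 ≤ m := by omega
  have hfr : HFrame q u w :=
    ⟨hnm, by omega, hli, fun a b => hDs' 0 _ (hu a) _ (hu b),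
      fun a b => hDs' 1 _ (hw a) _ (hw b), huw⟩
  have hdim : 2 ≤ Module.finrank F (D 0) := by
    rw [hD.finrank_eq 0]
    omega
  have hD0ne : D 0 ≠ ⊥ := by
    intro h
    rw [h, finrank_bot] at hdim
    omega
  have hne : D 0 ≠ D 1 := ne_of_isCompl _ _ hc hD0ne
  constructor
  · intro h
    by_contra hcon
    have hder : ∃ x ∈ Cfsg.GU n F q ⊓ Cfsg.Geo.specialLinear (Fin n) F,
        (∃ z : F, ((x ^ r : GL (Fin n) F) : Matrix (Fin n) (Fin n) F) =
          z • (1 : Matrix (Fin n) (Fin n) F)) ∧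
        ∀ g ∈ Cfsg.GU n F q, g⁻¹ * x * g ∉ Cfsg.Geo.decompositionStabilizer D := by
      by_cases hrp : r = p
      · obtain ⟨x, hxT, hxr, hxd⟩ := exists_transvection_derangement hq p D hc hDs' hdim
        refine ⟨x, hxT, ⟨1, ?_⟩, hxd⟩
        rw [hrp, hxr, Units.val_one, one_smul]
      · have hrq : ¬ r ∣ q := by
          intro hdvd
          obtain ⟨f, _, hqf⟩ := FiniteField.card F p
          have h1 : r ∣ p ^ (f : ℕ) := by
            rw [← hqf, hq]
            exact dvd_pow hdvd two_ne_zero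
          exact hrp ((Nat.prime_dvd_prime_iff_eq hr hp).mp (hr.dvd_of_dvd_pow h1))
        by_cases hr2 : r = 2
        · have hqodd : Odd q := by
            rw [← Nat.not_even_iff_odd, even_iff_two_dvd, ← hr2]
            exact hrq
          have hlt : padicValNat 2 n < padicValNat 2 (q + 1) := by
            by_contra hle
            push Not at hle
            exact hcon ⟨hr2, hqodd, hle⟩
          obtain ⟨l, hl1, hln⟩ := exists_normOne_pow_eq_neg_one hq hqodd n (by omega) hlt
          obtain ⟨x, hxT, hxz, hxd⟩ := exists_reflection_derangement hq (by omega) l hl1 hln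
            (two_ne_zero_of_odd_q hq hqodd) D hc hDs' hdim
          refine ⟨x, hxT, ?_, hxd⟩
          rw [hr2]
          exact hxz
        · have hodd : Odd r := hr.odd_of_ne_two hr2
          obtain ⟨j, hjm, hrj⟩ := hfr.exists_dvd_of_dvd_relIndex hq D hD0 hD1 r hr hrq hΩ
          obtain ⟨hi4, hile⟩ := orderOf_mod_four_of_dvd q j r hodd hrj
          by_cases hrq1 : r ∣ q + 1
          · obtain ⟨x, hxT, hxr, hxd⟩ :=
              hfr.exists_derangement_dvd hq D hD0 hD1 hne (by omega) r hodd hrq1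
            exact ⟨x, hxT, ⟨1, by rw [hxr, Units.val_one, one_smul]⟩, hxd⟩
          · obtain ⟨x, hxT, hxr, hxd⟩ :=
              hfr.exists_derangement_ndvd hq p D hD0 hD1 hne r hodd hrp hrq1 _ rfl hi4 (by omega)
            exact ⟨x, hxT, ⟨1, by rw [hxr, Units.val_one, one_smul]⟩, hxd⟩
    obtain ⟨x, hxT, hxz, hxd⟩ := hder
    have hns : ∀ z : F, (x : Matrix (Fin n) (Fin n) F) ≠ z • (1 : Matrix (Fin n) (Fin n) F) := by
      intro z hz
      apply hxd 1 (Subgroup.one_mem _)
      rw [inv_one, one_mul, mul_one]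
      exact scalar_mem_stab D x z hz
    obtain ⟨g, hgT, hg⟩ := h x hxT hxz hns
    exact hxd g (Subgroup.mem_inf.mp hgT).1 hg
  · rintro ⟨rfl, hqodd, hpad⟩
    rintro x hxT ⟨z, hz⟩ hns
    have h2 := two_ne_zero_of_odd_q hq hqodd
    obtain ⟨hxGU, hxSL⟩ := Subgroup.mem_inf.mp hxT
    have hxdet := (mem_specialLinear_iff' x).mp hxSL
    have hxx : (x : Matrix (Fin n) (Fin n) F) * (x : Matrix (Fin n) (Fin n) F) =
        z • (1 : Matrix (Fin n) (Fin n) F) := by
      rw [← pow_two, ← Units.val_pow_eq_pow_val]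
      exact hz
    have hiso : IsIsoMat q (x : Matrix (Fin n) (Fin n) F) := by
      rwa [GU_eq_GUi, mem_GUi_iff] at hxGU
    have hz1 : z ^ (q + 1) = 1 := by
      have h3 := (hiso.mul hiso) (Pi.single (⟨0, by omega⟩ : Fin n) 1)
        (Pi.single (⟨0, by omega⟩ : Fin n) 1)
      rw [hxx, Matrix.smul_mulVec, Matrix.one_mulVec, hform_smul_left, hform_smul_right,
        hform_single_right hq, Pi.single_eq_same, mul_one] at h3
      rw [pow_succ']
      exact h3
    obtain ⟨μ, hμ2, hμ⟩ := exists_sqrt_of_normOne hq hqodd z hz1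
    have hxx' : (x : Matrix (Fin n) (Fin n) F) * (x : Matrix (Fin n) (Fin n) F) =
        (μ * μ) • (1 : Matrix (Fin n) (Fin n) F) := by
      rw [hxx, ← hμ2, pow_two]
    rcases hμ with hμ | hμ
    · obtain ⟨g₀, hg₀, hg₀S⟩ :=
        hfr.conj_of_sq_one hq D hD0 hD1 h2 hqodd hpad x hxGU hxdet μ hμ hxx'
      exact hfr.exists_su_conj hq D hD0 hD1 x g₀ hg₀ hg₀S
    · obtain ⟨g₀, hg₀, hg₀S⟩ :=
        hfr.conj_of_sq_neg hq D hD0 hD1 h2 hqodd x hxGU μ hμ
          (fun v => by rw [Matrix.mulVec_mulVec, hxx', Matrix.smul_mulVec, Matrix.one_mulVec])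
      exact hfr.exists_su_conj hq D hD0 hD1 x g₀ hg₀ hg₀S

end Cfsg.Agent.S5984
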