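import Cfsg.Statements.S5985
import Cfsg.Agent.Lib.Helper50.ElusiveCount
import Cfsg.Agent.Lib.Helper50.ElusiveUnip
import Cfsg.Agent.Lib.Helper50.ElusiveOdd

set_option autoImplicit false
open scoped MatrixGroups
open Cfsg

namespace Cfsg.Agent.S5985

/-- Elements of prime order of Ω⁺_n(q), q even, with no fixed nonsingular 1-space. Here `T = PΩ⁺_n(F)`, `n = 2d ≥ 8`, realised through `Ω⁺_n(q)`, the commutator subgroup of the isometry group of `Q = Σ xᵢyᵢ` over the field `F` with `q` elements; an element of `T` of prime order `r` is an element `x` of `Ω⁺_n(q)` with `x^r` scalar and `x` not scalar; `q` is even (so the centre is trivial). Let Ω be the set of 1-dimensional subspaces spanned by a vector `v` with `Q(v) ≠ 0`, and let `r` be a prime dividing their number. Then every element of `T` of order `r` fixes some nonsingular 1-space if and only if `r = 2` and `n ≡ 2 (mod 4)` (that is, `d` is odd). -/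
theorem result {F : Type*} [Field F] [Fintype F] {p : ℕ} [Fact p.Prime] [CharP F p] {q : ℕ} (hq : Fintype.card F = q)
    (hp : p = 2) (d : ℕ) (hd : 4 ≤ d) (r : ℕ) [Fact r.Prime]
    (hrΩ : r ∣ Nat.card {W : Submodule F (Fin d ⊕ Fin d → F) // Module.finrank F ↥W = 1 ∧ ∃ v ∈ W, Cfsg.quadFormPlus d F v ≠ 0}) :
    (∀ x : GL (Fin d ⊕ Fin d) F, x ∈ Cfsg.Geo.omegaGL (Cfsg.quadFormPlus d F) →
      (∃ z : F, ((x ^ r : GL (Fin d ⊕ Fin d) F) : Matrix (Fin d ⊕ Fin d) (Fin d ⊕ Fin d) F) = z • (1 : Matrix (Fin d ⊕ Fin d) (Fin d ⊕ Fin d) F)) →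
      (∀ z : F, (x : Matrix (Fin d ⊕ Fin d) (Fin d ⊕ Fin d) F) ≠ z • (1 : Matrix (Fin d ⊕ Fin d) (Fin d ⊕ Fin d) F)) →
      ∃ W : Submodule F (Fin d ⊕ Fin d → F), (Module.finrank F ↥W = 1 ∧ ∃ v ∈ W, Cfsg.quadFormPlus d F v ≠ 0) ∧ W.map (Matrix.toLin' (x : Matrix (Fin d ⊕ Fin d) (Fin d ⊕ Fin d) F)) ≤ W) ↔ (r = 2 ∧ Odd d) := by
  open Cfsg.Agent.Lib.Helper50 Matrix in
  subst hp
  constructor
  · intro H
    have hns : ∃ v₁ : Fin d ⊕ Fin d → F, Cfsg.quadFormPlus d F v₁ ≠ 0 := by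
      have i₀ : Fin d := ⟨0, by omega⟩
      refine ⟨Sum.elim (Pi.single i₀ 1) (Pi.single i₀ 1), ?_⟩
      show QPlus d F _ ≠ 0
      rw [QPlus_elim]
      simp
    have key : ∀ x : GL (Fin d ⊕ Fin d) F, x ∈ Cfsg.Geo.omegaGL (Cfsg.quadFormPlus d F) →
        ((x ^ r : GL (Fin d ⊕ Fin d) F) : Matrix (Fin d ⊕ Fin d) (Fin d ⊕ Fin d) F) = 1 →
        (∀ (v : Fin d ⊕ Fin d → F) (c : F),
          (x : Matrix (Fin d ⊕ Fin d) (Fin d ⊕ Fin d) F) *ᵥ v = c • v →
            Cfsg.quadFormPlus d F v = 0) → False := by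
      intro x hx hxr heig
      have hns' : ∀ z : F, (x : Matrix (Fin d ⊕ Fin d) (Fin d ⊕ Fin d) F) ≠
          z • (1 : Matrix (Fin d ⊕ Fin d) (Fin d ⊕ Fin d) F) := by
        intro z hz
        obtain ⟨v₁, hv₁⟩ := hns
        exact hv₁ (heig v₁ z (by rw [hz, Matrix.smul_mulVec, Matrix.one_mulVec]))
      obtain ⟨W, ⟨hW1, v, hvW, hvQ⟩, hmap⟩ := H x hx ⟨1, by rw [hxr, one_smul]⟩ hns'
      have hv0 : v ≠ 0 := by
        rintro rfl
        apply hvQ
        simp [Cfsg.quadFormPlus]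
      have hxv : Matrix.toLin' (x : Matrix (Fin d ⊕ Fin d) (Fin d ⊕ Fin d) F) v ∈ W :=
        hmap (Submodule.mem_map_of_mem hvW)
      have hspan : Submodule.span F {v} = W := by
        apply Submodule.eq_of_le_of_finrank_eq
        · rw [Submodule.span_le]
          intro y hy
          rw [Set.mem_singleton_iff] at hy
          rw [hy]; exact hvW
        · rw [finrank_span_singleton hv0, hW1]
      rw [← hspan, Submodule.mem_span_singleton] at hxv
      obtain ⟨c, hc⟩ := hxv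
      exact hvQ (heig v c (by rw [hc, Matrix.toLin'_apply]))
    by_cases hr2 : r = 2
    · refine ⟨hr2, ?_⟩
      by_contra hodd
      rw [Nat.not_odd_iff_even] at hodd
      obtain ⟨x, hx, hx2, heig⟩ := exists_bad_involution_plus (F := F) hodd (by omega)
      exact key x hx (by rw [hr2]; exact hx2) heig
    · exfalso
      have hdiv := dvd_pow_sub_one_of_dvd_points d (by omega) r Fact.out hr2 hrΩ
      obtain ⟨x, hx, hxr, heig⟩ := exists_bad_odd_element_plus d (by omega) r Fact.out hr2 hdiv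
      exact key x hx hxr heig
  · rintro ⟨rfl, hodd⟩ x hx hx2 _
    exact exists_fixed_point_of_involution_plus d hodd (by omega) x hx hx2

end Cfsg.Agent.S5985
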