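import Cfsg.Statements.S5987
import Cfsg.Agent.Lib.Helper99.OTsO4
import Cfsg.Agent.Lib.Helper99.OTsE
import Cfsg.Agent.Lib.Helper54.OTsO5
import Cfsg.Agent.Lib.Helper83.OTsO16c
import Cfsg.Agent.Lib.Helper83.OTsO16d
import Cfsg.Agent.Lib.Helper54.OTsO16b
import Cfsg.Agent.Lib.Helper68.OTsO12
import Cfsg.Agent.Lib.Helper99.OTsC2
import Cfsg.Agent.Lib.Helper99.OTsDer
import Cfsg.Agent.Lib.Helper50.OTsT2

set_option autoImplicit false
set_option linter.style.haveILetI false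
set_option maxHeartbeats 1600000
open scoped MatrixGroups
open Cfsg

namespace Cfsg.Agent.S5987

open Cfsg.Agent.Lib.Helper98 Cfsg.Agent.Lib.Helper99.OTs in
/-- Elements of prime order of PΩ⁻_n(q) with no fixed totally singular `m`-space. Here `T = PΩ⁻_n(F)`, `n = 2d ≥ 8`, realised through `Ω⁻_n(q)`, the commutator subgroup of the isometry group of `Q = Σ_{i<d−1} xᵢyᵢ + z₁² + a z₁z₂ + b z₂²` with `z₁² + a z₁z₂ + b z₂²` anisotropic, over the field `F` with `q` elements; an element of `T` of prime order `r` is an element `x` of `Ω⁻_n(q)` with `x^r` scalar and `x` not scalar. Let `1 ≤ m ≤ d − 1` and let `r` be a prime dividing the number of totally singular `m`-spaces (subspaces of dimension `m` on which `Q` vanishes); for `r ≠ p` let `i` be the multiplicative order of `q` modulo `r`, `c = i` for `i` even and `c = 2i` for `i` odd, and write `k = n mod c`, `ℓ = m mod i`, `n' = ⌊n/i⌋`, `m' = ⌊m/i⌋`, `t = (r−1)/i`. Then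 every element of `T` of order `r` fixes some totally singular `m`-space if and only if one of: (i) `r = 2 ≠ p` and (`n ≡ 0 (mod 4)`, or `m` is even, or `q ≢ 7 (mod 8)`); (ii) `r ≠ p` odd, `i` odd, `i ≤ m` and (`k = 0` or `k > 2ℓ`); (iii) `r ≠ p` odd, `i` even, `i ≤ m`, `n' − 2m' ≥ t`, and one of: (a) `i ≥ 2ℓ`, `k = 0`, `n/i` even and `n' − 2m' > t` (all four); (b) `k ≥ 2ℓ` and `n'` odd; (c) `k > 2ℓ` and `n'` even. -/
theorem result {F : Type*} [Field F] [Fintype F] {p : ℕ} [Fact p.Prime] [CharP F p] {q : ℕ} (hq : Fintype.card F = q)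
    (d m : ℕ) (hd : 4 ≤ d) (hm : 1 ≤ m) (hmd : m + 1 ≤ d) (a b : F) (hab : ∀ x y : F, x ^ 2 + a * x * y + b * y ^ 2 = 0 → x = 0 ∧ y = 0)
    (r : ℕ) [Fact r.Prime]
    (hrΩ : r ∣ Nat.card {W : Submodule F ((Fin (d - 1) ⊕ Fin (d - 1)) ⊕ Fin 2 → F) // Module.finrank F ↥W = m ∧ Cfsg.Geo.IsTotallySingularQuad (Cfsg.quadFormMinus (d - 1) F a b) W})
    (i c : ℕ) (hi : i = orderOf (q : ZMod r)) (hc : c = if Even i then i else 2 * i) :
    (∀ x : GL ((Fin (d - 1) ⊕ Fin (d - 1)) ⊕ Fin 2) F, x ∈ Cfsg.Geo.omegaGL (Cfsg.quadFormMinus (d - 1) F a b) →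
      (∃ z : F, ((x ^ r : GL ((Fin (d - 1) ⊕ Fin (d - 1)) ⊕ Fin 2) F) : Matrix ((Fin (d - 1) ⊕ Fin (d - 1)) ⊕ Fin 2) ((Fin (d - 1) ⊕ Fin (d - 1)) ⊕ Fin 2) F) = z • (1 : Matrix ((Fin (d - 1) ⊕ Fin (d - 1)) ⊕ Fin 2) ((Fin (d - 1) ⊕ Fin (d - 1)) ⊕ Fin 2) F)) →
      (∀ z : F, (x : Matrix ((Fin (d - 1) ⊕ Fin (d - 1)) ⊕ Fin 2) ((Fin (d - 1) ⊕ Fin (d - 1)) ⊕ Fin 2) F) ≠ z • (1 : Matrix ((Fin (d - 1) ⊕ Fin (d - 1)) ⊕ Fin 2) ((Fin (d - 1) ⊕ Fin (d - 1)) ⊕ Fin 2) F)) →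
      ∃ W : Submodule F ((Fin (d - 1) ⊕ Fin (d - 1)) ⊕ Fin 2 → F), (Module.finrank F ↥W = m ∧ Cfsg.Geo.IsTotallySingularQuad (Cfsg.quadFormMinus (d - 1) F a b) W) ∧ W.map (Matrix.toLin' (x : Matrix ((Fin (d - 1) ⊕ Fin (d - 1)) ⊕ Fin 2) ((Fin (d - 1) ⊕ Fin (d - 1)) ⊕ Fin 2) F)) ≤ W) ↔
    ((r = 2 ∧ p ≠ 2 ∧ (Even d ∨ Even m ∨ q % 8 ≠ 7)) ∨
     (r ≠ p ∧ 2 < r ∧ Odd i ∧ i ≤ m ∧ ((2 * d) % c = 0 ∨ 2 * (m % i) < (2 * d) % c)) ∨
     (r ≠ p ∧ 2 < r ∧ Even i ∧ i ≤ m ∧ (r - 1) / i + 2 * (m / i) ≤ (2 * d) / i ∧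
       ((2 * (m % i) ≤ i ∧ (2 * d) % c = 0 ∧ Even ((2 * d) / i) ∧ (r - 1) / i + 2 * (m / i) < (2 * d) / i) ∨
        (2 * (m % i) ≤ (2 * d) % c ∧ Odd ((2 * d) / i)) ∨
        (2 * (m % i) < (2 * d) % c ∧ Even ((2 * d) / i))))) := by
  classical
  subst hq
  subst hi
  have hr : r.Prime := Fact.out
  have hp : p.Prime := Fact.out
  obtain ⟨f, _, hF⟩ := FiniteField.card F p
  have hfin : Module.finrank F ((Fin (d - 1) ⊕ Fin (d - 1)) ⊕ Fin 2 → F) = 2 * d := by
    rw [Module.finrank_pi, Fintype.card_sum, Fintype.card_sum, Fintype.card_fin, Fintype.card_fin]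
    omega
  set QQ : QuadraticForm F ((Fin (d - 1) ⊕ Fin (d - 1)) ⊕ Fin 2 → F) := Lib.Helper50.QMinus (d - 1) F a b with hQQ
  have hQQc : ∀ v, QQ v = Cfsg.quadFormMinus (d - 1) F a b v := fun v => rfl
  have hV : Sy.NonDeg (QuadraticMap.polarBilin QQ) ⊤ := nonDeg_QMinus (d - 1) a b hab
  have hminus : ¬ PlusOn QQ ⊤ := not_plusOn_QMinus (d - 1) a b hab
  have hmd' : m < d := by omega
  -- the count
  have hC := card_ts_minus (F := F) d m hd hm hmd a b hab
  rw [hF] at hC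
  obtain ⟨hrp, hP⟩ := count_consequences_minus p f hp f.pos d m _ r hmd' hC hrΩ
  rw [← hF] at hP
  by_cases hr2 : r = 2
  · -- involutions
    subst hr2
    have hp2 : p ≠ 2 := fun h => hrp h.symm
    rw [Lib.Helper50.OTs.case_two_minus hp2 d m hd hm hmd a b hab]
    constructor
    · intro h
      left
      exact ⟨rfl, hp2, h⟩
    · rintro (⟨-, -, h⟩ | ⟨-, h, -⟩ | ⟨-, h, -⟩)
      · exact h
      · omega
      · omega
  · -- odd primes different from the characteristic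
    have hr3 : 2 < r := by
      have := hr.two_le
      omega
    have hrodd : Odd r := hr.odd_of_ne_two hr2
    have hpr : p ≠ r := Ne.symm hrp
    have hrF : (r : F) ≠ 0 := cast_ne_zero_of_ne r hrp
    have hi1 : 1 ≤ orderOf ((Fintype.card F : ℕ) : ZMod r) := Elus.orderOf_card_pos p f hF r hpr
    have ht1 := one_le_t (Fintype.card F) r hi1
    set i := orderOf ((Fintype.card F : ℕ) : ZMod r) with hi
    set t := (r - 1) / i with ht
    -- the criterion in the form of the arithmetic leaves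
    have hcritiff : ((r = 2 ∧ p ≠ 2 ∧ (Even d ∨ Even m ∨ Fintype.card F % 8 ≠ 7)) ∨
      (r ≠ p ∧ 2 < r ∧ Odd i ∧ i ≤ m ∧ ((2 * d) % c = 0 ∨ 2 * (m % i) < (2 * d) % c)) ∨
      (r ≠ p ∧ 2 < r ∧ Even i ∧ i ≤ m ∧ t + 2 * (m / i) ≤ (2 * d) / i ∧
        ((2 * (m % i) ≤ i ∧ (2 * d) % c = 0 ∧ Even ((2 * d) / i) ∧ t + 2 * (m / i) < (2 * d) / i) ∨
         (2 * (m % i) ≤ (2 * d) % c ∧ Odd ((2 * d) / i)) ∨
         (2 * (m % i) < (2 * d) % c ∧ Even ((2 * d) / i))))) ↔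
      ((Odd i ∧ i ≤ m ∧ ((2 * d) % (2 * i) = 0 ∨ 2 * (m % i) < (2 * d) % (2 * i))) ∨
      (Even i ∧ i ≤ m ∧ t + 2 * (m / i) ≤ (2 * d) / i ∧
        ((2 * (m % i) ≤ i ∧ (2 * d) % i = 0 ∧ Even ((2 * d) / i) ∧ t + 2 * (m / i) < (2 * d) / i) ∨
         (2 * (m % i) ≤ (2 * d) % i ∧ Odd ((2 * d) / i)) ∨
         (2 * (m % i) < (2 * d) % i ∧ Even ((2 * d) / i))))) := by
      rcases Nat.even_or_odd i with hie | hio
      · have hci : c = i := by rw [hc, if_pos hie]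
        have hno : ¬ Odd i := Nat.not_odd_iff_even.mpr hie
        rw [hci]
        constructor
        · rintro (⟨h, -⟩ | ⟨-, -, h, -⟩ | ⟨-, -, h⟩)
          · exact absurd h hr2
          · exact absurd h hno
          · exact Or.inr h
        · rintro (⟨h, -⟩ | h)
          · exact absurd h hno
          · exact Or.inr (Or.inr ⟨hrp, hr3, h⟩)
      · have hci : c = 2 * i := by rw [hc, if_neg (Nat.not_even_iff_odd.mpr hio)]
        have hne : ¬ Even i := Nat.not_even_iff_odd.mpr hio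
        rw [hci]
        constructor
        · rintro (⟨h, -⟩ | ⟨-, -, h⟩ | ⟨-, -, h, -⟩)
          · exact absurd h hr2
          · exact Or.inl h
          · exact absurd h hne
        · rintro (h | ⟨h, -⟩)
          · exact Or.inr (Or.inl ⟨hrp, hr3, h⟩)
          · exact absurd h hne
    rw [hcritiff]
    constructor
    · -- derangements
      intro hL
      by_contra hcrit
      have hder := Lib.Helper83.OTs.arith_der_minus d m i t hi1 ht1 hd hm hmd (hP hr2) hcrit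
      obtain ⟨V', _, _, _, Q', y', hV', hd', hτ', hiso', hy', hns', hbad⟩ :
          ∃ (V' : Type _) (_ : AddCommGroup V') (_ : Module F V') (_ : FiniteDimensional F V')
            (Q' : QuadraticForm F V') (y' : V' →ₗ[F] V'),
            Sy.NonDeg (QuadraticMap.polarBilin Q') ⊤ ∧ Module.finrank F V' = 2 * d ∧ (PlusOn Q' ⊤ ↔ False) ∧
            QIso Q' y' ∧ y' ^ r = 1 ∧ (∀ z : F, y' ≠ z • 1) ∧
            ∀ W : Submodule F V', Elus.Inv y' W → TS Q' W → Module.finrank F W ≠ m := by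
        rcases hder with ⟨hio, j, hj1, hj2, hj3⟩ | ⟨hie, j, hj1, hj2, hj3, hj4, hj5⟩ |
          ⟨hie, j, hj1, hjt, hj2, hj3, hj4, hj5⟩
        · exact exists_derangement_odd p f hF r hpr hr2 hrF hio False d m j hj1
            (show 2 * (i * j) ≤ 2 * d by omega)
            (fun _ => hj2) (fun h => h.elim) (fun _ => hj3)
        · have hevenj : ¬ (False ↔ Even j) → Even j := fun h => by
            by_contra hne
            exact h ⟨fun hf => hf.elim, fun he => absurd he hne⟩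
          have hoddj : (False ↔ Even j) → Odd j := fun h =>
            Nat.not_even_iff_odd.mp (fun he => h.mpr he)
          exact exists_derangement_D p f hF r hpr hr2 hrF hie False d m j hj1 hj2
            (fun h => hj3 (hevenj h)) (fun h => hj4 (hoddj h)) (fun h => hj5 (hevenj h))
        · have hevenj : ¬ (False ↔ Even j) → Even j := fun h => by
            by_contra hne
            exact h ⟨fun hf => hf.elim, fun he => absurd he hne⟩
          have hoddj : (False ↔ Even j) → Odd j := fun h =>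
            Nat.not_even_iff_odd.mp (fun he => h.mpr he)
          exact exists_derangement_B p f hF r hpr hr2 hrF hie False d m j hj1 hjt hj2
            (fun h => hj3 (hevenj h)) (fun h => hj4 (hoddj h)) (fun h => hj5 (hevenj h))
      have hminus' : ¬ PlusOn Q' ⊤ := fun h => hτ'.mp h
      obtain ⟨x, hxΩ, hxr, hxns, E, hE1, hE2⟩ :=
        Lib.Helper68.OTs.transport_minus_q r hrodd d (by omega) a b hab Q' hV' hd' hminus' y' hiso' hy' hns'
      obtain ⟨W, ⟨hWd, hWts⟩, hWinv⟩ := hL x hxΩ ⟨1, hxr⟩ hxns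
      obtain ⟨g1, g2, g3⟩ := transfer_map QQ Q' _ y' E hE1 (fun w => by rw [hE2]; rfl) W
        ((map_le_iff_inv _ W).mp hWinv) (fun w hw => hWts w hw)
      exact hbad _ g1 g2 (by rw [g3, hWd])
    · -- existence
      intro hcrit x hxΩ hxz hxns
      obtain ⟨z, hxz⟩ := hxz
      have harith := Lib.Helper54.OTs.arith_fix_minus d m i t hi1 ht1 hm hmd hcrit
      have hiso0 : QIso QQ (Matrix.toLin' (x : Matrix ((Fin (d - 1) ⊕ Fin (d - 1)) ⊕ Fin 2)
          ((Fin (d - 1) ⊕ Fin (d - 1)) ⊕ Fin 2) F)) :=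
        qiso_of_mem_omegaGL QQ x hxΩ
      obtain ⟨y, hyiso, hyr, hyinv⟩ := scalar_adjust QQ
        (exists_ne_zero_of_nonDeg QQ hV (by rw [hfin]; omega)) r hrodd _ hiso0 z
        (toLin'_pow_of_scalar x r z hxz)
      have htype := plusOn_V0_iff QQ hV d hfin p f hF r hpr hr2 hrF y hyr hyiso
      have hnd0 := nonDeg_V0 QQ hV r hrF y hyr hyiso
      obtain ⟨W, hW1, hW2, hW3⟩ := exists_fixed_ts_of QQ hV d hfin p f hF r hpr hr2 hrF y hyr hyiso m hmd'
        htype (fun s hs => Lib.Helper54.OTs.exists_ts_of_lt QQ (Elus.V0 y) hnd0 s hs)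
        (fun hio j hj1 hj2 hj3 => by
          obtain ⟨b, s, h1, h2, h3⟩ := harith.1 hio j hj1 (hj3 hminus)
          exact ⟨b, s, h1, h2, (show 2 * s ≤ 2 * d - 2 * (i * j) by omega), fun _ => h3⟩)
        (fun hie j hj1 hj2 hj3 => by
          obtain ⟨b, s, h1, h2, h3, h4⟩ := harith.2 hie j hj1 hj2
            (fun hje => hj3 (fun h => hminus (h.mpr hje)))
          exact ⟨b, s, h1, h2, h3, fun hcon => h4 (by
            by_contra hne
            exact hcon ⟨fun h => absurd h hminus, fun h => absurd h hne⟩)⟩)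
      exact ⟨W, ⟨hW3, fun w hw => hW2 w hw⟩, (map_le_iff_inv _ W).mpr (hyinv W hW1)⟩

end Cfsg.Agent.S5987
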