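import Cfsg.Statements.S5991
import Cfsg.Agent.Lib.Helper32.OMbHub
import Cfsg.Agent.Lib.Helper98.Sy6
import Cfsg.Agent.Lib.Helper50.GeoBridge
-- import your own Cfsg.Agent.* helpers here

set_option autoImplicit false
set_option maxHeartbeats 1600000
open scoped MatrixGroups
open Cfsg

namespace Cfsg.Agent.S5991

/-- Elements of prime order of PΩ⁻_n(q), q odd, with no fixed nondegenerate `m`-space of odd dimension. Here `T = PΩ⁻_n(F)`, `n = 2d ≥ 8`, realised through `Ω⁻_n(q)`, the commutator subgroup of the isometry group of `Q = Σ_{i<d−1} xᵢyᵢ + z₁² + a z₁z₂ + b z₂²` with `z₁² + a z₁z₂ + b z₂²` anisotropic, over the field `F` with `q` elements; an element of `T` of prime order `r` is an element `x` of `Ω⁻_n(q)` with `x^r` scalar and `x` not scalar; `q` and `m` are odd, `1 ≤ m < n/2`. The nondegenerate `m`-spaces fall into two isometry classes, each an orbit of `T`, with equivalent actions; fix one such space `W₀` and let Ω be the set of nondegenerate `m`-spaces isometric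 to `W₀`. Let `r` be a prime dividing the size of Ω; for `r ≠ p` let `i` be the multiplicative order of `q` modulo `r`, `c = i` for `i` even and `c = 2i` for `i` odd, and write `k = n mod c`, `ℓ = m mod i`, `ℓ' = m mod c`, `n' = ⌊n/i⌋`, `m' = ⌊m/i⌋`, `t = (r−1)/i`. Then every element of `T` of order `r` fixes a member of Ω if and only if one of: (i) `r = 2` and (`n ≡ 0 (mod 4)` or `q ≢ 7 (mod 8)`); (ii) `r ≠ p` odd, `i` odd, and `k = 0` or (`c ≤ m` and `k > ℓ' > 0`); (iii) `r ≠ p` odd, `i` even, and either `k = 0` and `n/i` even, or `k > 0`, `i ≤ m` and `k > ℓ' > 0`. (For `r = p` there is always an element of order `p` fixing no member of Ω.) -/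
theorem result {F : Type*} [Field F] [Fintype F] {p : ℕ} [Fact p.Prime] [CharP F p] {q : ℕ} (hq : Fintype.card F = q)
    (hodd : Odd q) (d m : ℕ) (hd : 4 ≤ d) (hm : Odd m) (hmd : m < d) (a b : F) (hab : ∀ x y : F, x ^ 2 + a * x * y + b * y ^ 2 = 0 → x = 0 ∧ y = 0)
    (W₀ : Submodule F ((Fin (d - 1) ⊕ Fin (d - 1)) ⊕ Fin 2 → F)) (hW₀ : Module.finrank F ↥W₀ = m ∧ Cfsg.Geo.IsNondegenerateOn (QuadraticMap.polar (Cfsg.quadFormMinus (d - 1) F a b)) W₀)
    (r : ℕ) [Fact r.Prime]
    (hrΩ : r ∣ Nat.card {W : Submodule F ((Fin (d - 1) ⊕ Fin (d - 1)) ⊕ Fin 2 → F) // Module.finrank F ↥W = m ∧ Cfsg.Geo.IsNondegenerateOn (QuadraticMap.polar (Cfsg.quadFormMinus (d - 1) F a b)) W ∧ Cfsg.Geo.AreIsometricFor (Cfsg.quadFormMinus (d - 1) F a b) W W₀})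
    (i c : ℕ) (hi : i = orderOf (q : ZMod r)) (hc : c = if Even i then i else 2 * i) :
    (∀ x : GL ((Fin (d - 1) ⊕ Fin (d - 1)) ⊕ Fin 2) F, x ∈ Cfsg.Geo.omegaGL (Cfsg.quadFormMinus (d - 1) F a b) →
      (∃ z : F, ((x ^ r : GL ((Fin (d - 1) ⊕ Fin (d - 1)) ⊕ Fin 2) F) : Matrix ((Fin (d - 1) ⊕ Fin (d - 1)) ⊕ Fin 2) ((Fin (d - 1) ⊕ Fin (d - 1)) ⊕ Fin 2) F) = z • (1 : Matrix ((Fin (d - 1) ⊕ Fin (d - 1)) ⊕ Fin 2) ((Fin (d - 1) ⊕ Fin (d - 1)) ⊕ Fin 2) F)) →
      (∀ z : F, (x : Matrix ((Fin (d - 1) ⊕ Fin (d - 1)) ⊕ Fin 2) ((Fin (d - 1) ⊕ Fin (d - 1)) ⊕ Fin 2) F) ≠ z • (1 : Matrix ((Fin (d - 1) ⊕ Fin (d - 1)) ⊕ Fin 2) ((Fin (d - 1) ⊕ Fin (d - 1)) ⊕ Fin 2) F)) →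
      ∃ W : Submodule F ((Fin (d - 1) ⊕ Fin (d - 1)) ⊕ Fin 2 → F), (Module.finrank F ↥W = m ∧ Cfsg.Geo.IsNondegenerateOn (QuadraticMap.polar (Cfsg.quadFormMinus (d - 1) F a b)) W ∧ Cfsg.Geo.AreIsometricFor (Cfsg.quadFormMinus (d - 1) F a b) W W₀) ∧ W.map (Matrix.toLin' (x : Matrix ((Fin (d - 1) ⊕ Fin (d - 1)) ⊕ Fin 2) ((Fin (d - 1) ⊕ Fin (d - 1)) ⊕ Fin 2) F)) ≤ W) ↔
    ((r = 2 ∧ (Even d ∨ q % 8 ≠ 7)) ∨
     (r ≠ p ∧ 2 < r ∧ Odd i ∧ ((2 * d) % c = 0 ∨ (c ≤ m ∧ 0 < m % c ∧ m % c < (2 * d) % c))) ∨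
     (r ≠ p ∧ 2 < r ∧ Even i ∧ (((2 * d) % c = 0 ∧ Even ((2 * d) / i)) ∨ (0 < (2 * d) % c ∧ i ≤ m ∧ 0 < m % c ∧ m % c < (2 * d) % c)))) := by
  classical
  subst hq
  have hpr : p.Prime := Fact.out
  have hrpr : r.Prime := Fact.out
  have h2F : (2 : F) ≠ 0 := Lib.Helper50.two_ne_zero_of_odd_card rfl hodd
  have hp2 : p ≠ 2 := by
    intro h
    apply h2F
    have := CharP.cast_eq_zero F p
    rw [h] at this
    exact_mod_cast this
  -- the arithmetic data
  have hcc : c = Lib.Helper98.Sy.cOf (orderOf ((Fintype.card F : ℕ) : ZMod r)) := by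
    rw [hc, hi]; rfl
  have hce : Even c := by rw [hcc]; exact Lib.Helper98.Sy.cOf_even _
  rcases Nat.lt_or_ge 2 r with hr2 | hr2
  · -- odd `r`
    have hr2' : r ≠ 2 := by omega
    by_cases hrp : r = p
    · -- `r = p`: a derangement
      subst hrp
      constructor
      · intro hL
        exfalso
        rcases Nat.even_or_odd d with hde | hdo
        · obtain ⟨x, hxΩ, hxp, hxns, hxW⟩ :=
            Lib.Helper32.OMbHub.case_p_minus_even (F := F) (p := r) hodd d m hd hde hm hmd a b hab W₀ hW₀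
          obtain ⟨W, ⟨hWd, hWnd, hWiso⟩, hWinv⟩ := hL x hxΩ ⟨1, hxp⟩ hxns
          exact hxW W hWd hWnd hWiso hWinv
        · obtain ⟨x, hxΩ, hxp, hxns, hxW⟩ :=
            Lib.Helper32.OMbHub.case_p_minus_odd (F := F) (p := r) hodd d m hd hdo hm hmd a b hab
          obtain ⟨W, ⟨hWd, hWnd, -⟩, hWinv⟩ := hL x hxΩ ⟨1, hxp⟩ hxns
          exact hxW W hWd hWnd hWinv
      · rintro (⟨h, -⟩ | ⟨h, -⟩ | ⟨h, -⟩)
        · omega
        · exact absurd rfl h
        · exact absurd rfl h
    · -- `r ≠ p`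
      have hmodd : m % c % 2 = 1 := by
        obtain ⟨c', hc'⟩ := hce
        obtain ⟨m', hm'⟩ := hm
        have h1 := Nat.div_add_mod m c
        have h2 : c * (m / c) = 2 * (c' * (m / c)) := by rw [hc']; ring
        omega
      have hkev : (2 * d) % c % 2 = 0 := by
        obtain ⟨c', hc'⟩ := hce
        have h1 := Nat.div_add_mod (2 * d) c
        have h2 : c * ((2 * d) / c) = 2 * (c' * ((2 * d) / c)) := by rw [hc']; ring
        omega
      have hieven : Even i → c = i := by
        intro h; rw [hc, if_pos h]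
      constructor
      · -- all fix => RHS
        intro hL
        by_contra hR
        push Not at hR
        obtain ⟨-, hR2, hR3⟩ := hR
        rcases Nat.lt_or_ge (m % c) ((2 * d) % c) with hlt | hge
        · -- `m % c < k`: then `c ≤ m` fails, contradiction with the count
          have hmc : m < c := by
            by_contra hcm
            push Not at hcm
            by_cases hie : Even i
            · have hci := hieven hie
              exact ((hR3 hrp hr2 hie).2 (by omega) (by omega) (by omega)).not_gt hlt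
            · exact ((hR2 hrp hr2 (Nat.not_even_iff_odd.mp hie)).2 hcm (by omega)).not_gt hlt
          have hZ := Lib.Helper69.OMb.case_card_minus (F := F) (p := p) hodd d m (by omega) hm a b hab
            W₀ hW₀ r hrp hr2 (by rw [← hcc]; exact hmc) hrΩ
          rw [← hcc] at hZ
          have : m % c = m := Nat.mod_eq_of_lt hmc
          omega
        · -- `k < m % c`: the derangement
          have hlt : (2 * d) % c < m % c := by omega
          have hN : c ≤ 2 * d := by
            by_contra hcn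
            push Not at hcn
            have h1 : (2 * d) % c = 2 * d := Nat.mod_eq_of_lt hcn
            have h2 : m % c ≤ m := Nat.mod_le m c
            omega
          have hreal : 0 < (2 * d) % c ∨ (Even i ∧ Odd ((2 * d) / c)) := by
            by_contra hcon
            push Not at hcon
            obtain ⟨hk0, hio⟩ := hcon
            have hk0' : (2 * d) % c = 0 := by omega
            by_cases hie : Even i
            · have hci := hieven hie
              refine (hR3 hrp hr2 hie).1 hk0' ?_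
              rw [← hci]
              exact Nat.not_odd_iff_even.mp (hio hie)
            · exact (hR2 hrp hr2 (Nat.not_even_iff_odd.mp hie)).1 hk0'
          obtain ⟨x, hxΩ, hxr, hxns, hxW⟩ :=
            Lib.Helper69.OMb.case_derangement_minus (F := F) (p := p) hodd d m (by omega) a b hab r
              hrp hr2 (by rw [← hcc]; exact hN) (by rw [← hcc, ← hi]; exact hreal)
              (by rw [← hcc]; exact hlt)
          obtain ⟨W, ⟨hWd, hWnd, -⟩, hWinv⟩ := hL x hxΩ ⟨1, hxr⟩ hxns
          exact hxW W hWd hWnd hWinv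
      · -- RHS => all fix
        intro hR x hxΩ hxr hxns
        have hcond : m % c < (2 * d) % c ∨ ((2 * d) % c = 0 ∧ (Odd i ∨ Even ((2 * d) / c))) := by
          rcases hR with ⟨h, -⟩ | ⟨-, -, hio, h⟩ | ⟨-, -, hie, h⟩
          · omega
          · rcases h with hk0 | ⟨-, -, h⟩
            · exact Or.inr ⟨hk0, Or.inl hio⟩
            · exact Or.inl h
          · rcases h with ⟨hk0, hNe⟩ | ⟨-, -, -, h⟩
            · have hci := hieven hie
              exact Or.inr ⟨hk0, Or.inr (by rw [hci]; exact hNe)⟩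
            · exact Or.inl h
        exact Lib.Helper40.OMb.case_fix_minus (F := F) (p := p) hodd d m (by omega) hm hmd a b hab
          W₀ hW₀ r hrp hr2 (by rw [← hcc, ← hi]; exact hcond) x hxΩ hxr hxns
  · -- `r = 2`
    have hr2' : r = 2 := by have := hrpr.two_le; omega
    subst hr2'
    have hcase := Lib.Helper32.OMbHub.case_two_minus (F := F) hodd d m hd hm hmd a b hab W₀ hW₀
    rw [hcase]
    constructor
    · intro h
      exact Or.inl ⟨rfl, h⟩
    · rintro (⟨-, h⟩ | ⟨-, h, -⟩ | ⟨-, h, -⟩)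
      · exact h
      · omega
      · omega

end Cfsg.Agent.S5991
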