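import Cfsg.Statements.S5992
import Cfsg.Agent.Lib.Helper98.Oh2
import Cfsg.Agent.Lib.Helper98.Oh3
import Cfsg.Agent.Lib.Helper41.OsU
import Cfsg.Agent.Lib.Helper23.OhD
import Cfsg.Agent.Lib.Helper20.OhF
import Cfsg.Agent.Lib.Helper80.OhE

set_option autoImplicit false
set_option linter.style.haveILetI false
set_option maxHeartbeats 1600000
open scoped MatrixGroups
open Cfsg

namespace Cfsg.Agent.S5992

/-- Elements of prime order r ≠ p of Ω_n(q), nq odd, with no fixed hyperbolic `m`-space. Here `T = Ω_n(F)`, `n = 2d+1 ≥ 7`, `q` odd, realised as the commutator subgroup of the isometry group of `Q = x₀² + Σ xᵢyᵢ` over the field `F` with `q` elements (trivial centre, so its elements of prime order `r` are used directly); a nondegenerate `m`-space (even `m`) is a subspace on which the polar form of `Q` is nondegenerate; it is hyperbolic if it contains an `m/2`-dimensional subspace on which `Q` vanishes, elliptic otherwise. Let `m` be even with `2 ≤ m ≤ n − 1` (no restriction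 `m < n/2`) and let `r ≠ p` be a prime dividing the number of hyperbolic `m`-spaces; for `r ≠ p` let `i` be the multiplicative order of `q` modulo `r`, `c = i` for `i` even and `c = 2i` for `i` odd, and write `k = n mod c`, `ℓ' = m mod c`. Then every element of `T` of order `r` fixes some hyperbolic `m`-space if and only if `r = 2`, or `r` is odd and one of: (i) `i` odd, `c ≤ m` and either `k > ℓ' > 0` or `ℓ' = 0`; (ii) `i` even, `i ≤ m`, `k > ℓ'`, and `m/i` even whenever `ℓ' = 0`. (`r = p` is not covered by this statement.) -/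
theorem result {F : Type*} [Field F] [Fintype F] {p : ℕ} [Fact p.Prime] [CharP F p] {q : ℕ} (hq : Fintype.card F = q) (hqodd : Odd q)
    (d m : ℕ) (hd : 3 ≤ d) (hm : 2 ≤ m) (hme : Even m) (hmn : m ≤ 2 * d)
    (r : ℕ) [Fact r.Prime] (hrp : r ≠ p)
    (hrΩ : r ∣ Nat.card {W : Submodule F (Unit ⊕ (Fin d ⊕ Fin d) → F) // Module.finrank F ↥W = m ∧ Cfsg.Geo.IsNondegenerateOn (QuadraticMap.polar (Cfsg.quadFormOdd d F)) W ∧ Cfsg.Geo.IsPlusTypeOn (Cfsg.quadFormOdd d F) W})
    (i c : ℕ) (hi : i = orderOf (q : ZMod r)) (hc : c = if Even i then i else 2 * i) :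
    (∀ x : GL (Unit ⊕ (Fin d ⊕ Fin d)) F, x ∈ Cfsg.Geo.omegaGL (Cfsg.quadFormOdd d F) → orderOf x = r →
      ∃ W : Submodule F (Unit ⊕ (Fin d ⊕ Fin d) → F), (Module.finrank F ↥W = m ∧ Cfsg.Geo.IsNondegenerateOn (QuadraticMap.polar (Cfsg.quadFormOdd d F)) W ∧ Cfsg.Geo.IsPlusTypeOn (Cfsg.quadFormOdd d F) W) ∧ W.map (Matrix.toLin' (x : Matrix (Unit ⊕ (Fin d ⊕ Fin d)) (Unit ⊕ (Fin d ⊕ Fin d)) F)) ≤ W) ↔
    (r = 2 ∨
     (2 < r ∧ Odd i ∧ c ≤ m ∧ (m % c = 0 ∨ (0 < m % c ∧ m % c < (2 * d + 1) % c))) ∨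
     (2 < r ∧ Even i ∧ i ≤ m ∧ m % c < (2 * d + 1) % c ∧ (0 < m % c ∨ Even (m / i)))) := by
  classical
  subst hq
  subst hi
  have hr : r.Prime := Fact.out
  have hp : p.Prime := Fact.out
  obtain ⟨f, _, hF⟩ := FiniteField.card F p
  have h2F : (2 : F) ≠ 0 := by
    intro h
    have h' : ((2 : ℕ) : F) = 0 := by exact_mod_cast h
    rw [CharP.cast_eq_zero_iff F p] at h'
    have hp2 : p = 2 := (Nat.prime_dvd_prime_iff_eq hp Nat.prime_two).mp h'
    rw [hF, hp2] at hqodd
    have : Even (2 ^ (f : ℕ)) := (Nat.even_pow' f.pos.ne').mpr even_two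
    exact (Nat.not_even_iff_odd.mpr hqodd) this
  have hrF : (r : F) ≠ 0 := by
    intro h
    rw [CharP.cast_eq_zero_iff F p] at h
    exact hrp ((Nat.prime_dvd_prime_iff_eq hp hr).mp h).symm
  have hpr : p ≠ r := Ne.symm hrp
  have hcc : c = Lib.Helper98.Sy.cOf (orderOf ((Fintype.card F : ℕ) : ZMod r)) := by
    rw [hc]; rfl
  have hS := Lib.Helper98.Oh.B0_symm (F := F) d
  have hV := Lib.Helper98.Oh.B0_nonDeg (F := F) d h2F
  have hfin := Lib.Helper98.Oh.finrank_odd_space (F := F) d
  have hnodd : Odd (2 * d + 1) := ⟨d, rfl⟩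
  -- back to the concrete formulation
  have hback : ∀ (x : GL (Unit ⊕ (Fin d ⊕ Fin d)) F),
      (∃ W : Submodule F (Unit ⊕ (Fin d ⊕ Fin d) → F),
        Lib.Helper98.Elus.Inv (Matrix.toLin' (x : Matrix (Unit ⊕ (Fin d ⊕ Fin d)) (Unit ⊕ (Fin d ⊕ Fin d)) F)) W ∧
        Lib.Helper98.Sy.NonDeg (Lib.Helper98.Oh.B0 d) W ∧ Module.finrank F W = m ∧
        (Lib.Helper98.Oh.Plus (Lib.Helper98.Oh.B0 d) W ↔ True)) →
      ∃ W : Submodule F (Unit ⊕ (Fin d ⊕ Fin d) → F), (Module.finrank F ↥W = m ∧ Cfsg.Geo.IsNondegenerateOn (QuadraticMap.polar (Cfsg.quadFormOdd d F)) W ∧ Cfsg.Geo.IsPlusTypeOn (Cfsg.quadFormOdd d F) W) ∧ W.map (Matrix.toLin' (x : Matrix (Unit ⊕ (Fin d ⊕ Fin d)) (Unit ⊕ (Fin d ⊕ Fin d)) F)) ≤ W := by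
    rintro x ⟨W, hWinv, hWnd, hWd, hWt⟩
    exact ⟨W, ⟨hWd, (Lib.Helper98.Oh.nonDegOn_iff d W).mpr hWnd,
      (Lib.Helper98.Oh.plusOn_iff d h2F W).mpr (hWt.mpr trivial)⟩,
      (Lib.Helper98.Oh.map_le_iff_inv _ W).mpr hWinv⟩
  have hpow : ∀ (x : GL (Unit ⊕ (Fin d ⊕ Fin d)) F) (k : ℕ), x ^ k = 1 →
      (Matrix.toLin' (x : Matrix (Unit ⊕ (Fin d ⊕ Fin d)) (Unit ⊕ (Fin d ⊕ Fin d)) F)) ^ k = 1 := by
    intro x k hx
    rw [← Matrix.toLin'_pow, ← Units.val_pow_eq_pow_val, hx, Units.val_one, Matrix.toLin'_one]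
    rfl
  have hcodd : ¬ c ∣ 2 * d + 1 := by
    intro h
    have hce : Even c := by rw [hcc]; exact Lib.Helper98.Sy.cOf_even _
    have : Even (2 * d + 1) := (even_iff_two_dvd.mpr (dvd_trans (even_iff_two_dvd.mp hce) h))
    exact (Nat.not_even_iff_odd.mpr hnodd) this
  by_cases hr2 : r = 2
  · constructor
    · intro _
      left; exact hr2
    · intro _ x hxΩ hxo
      apply hback
      have hx2 : x ^ 2 = 1 := by
        rw [← hr2, ← hxo]
        exact pow_orderOf_eq_one x
      have hg := hpow x 2 hx2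
      rw [pow_two] at hg
      exact Lib.Helper20.Oh.exists_fixed_invol h2F (Lib.Helper98.Oh.B0 d) hS hV
        (by rw [hfin]; exact hnodd) _ hg (Lib.Helper98.Oh.iso_of_mem_omegaGL d x hxΩ) m hme hm
        (by rw [hfin]; omega) True
  · have hr3 : 2 < r := by
      have := hr.two_le
      omega
    have hrodd : Odd r := hr.odd_of_ne_two hr2
    have hi1 : 1 ≤ orderOf ((Fintype.card F : ℕ) : ZMod r) :=
      Lib.Helper98.Elus.orderOf_card_pos p f hF r hpr
    set i := orderOf ((Fintype.card F : ℕ) : ZMod r) with hi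
    have hc1 : 1 ≤ c := by
      rw [hcc]
      exact Lib.Helper98.Sy.cOf_pos _ hi1
    have hce : Even c := by rw [hcc]; exact Lib.Helper98.Sy.cOf_even _
    have hcie : Even i → c = i := by
      intro h
      rw [hc, if_pos h]
    have hn0 : 0 < (2 * d + 1) % c := by
      rcases Nat.eq_zero_or_pos ((2 * d + 1) % c) with h | h
      · exact absurd (Nat.dvd_of_mod_eq_zero h) hcodd
      · exact h
    constructor
    · intro hL
      right
      -- the count
      obtain ⟨e, he⟩ : ∃ e, m = 2 * e := by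
        obtain ⟨e, he⟩ := hme
        exact ⟨e, by omega⟩
      have hΩ' : r ∣ Nat.card {W : Submodule F (Unit ⊕ (Fin d ⊕ Fin d) → F) //
          Module.finrank F ↥W = 2 * e ∧
          Cfsg.Geo.IsNondegenerateOn (QuadraticMap.polar (Cfsg.quadFormOdd d F)) W ∧
          Cfsg.Geo.IsPlusTypeOn (Cfsg.quadFormOdd d F) W} := by
        rw [← he]
        exact hrΩ
      obtain ⟨j, hj1, hj2, hj3⟩ := Lib.Helper80.Oh.exists_of_dvd_card_hyp h2F d e (by omega)
        (by omega) r hrF hΩ'
      have hij : i ∣ 2 * j := by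
        rw [hi]
        apply orderOf_dvd_of_pow_eq_one
        have h1 : 1 ≤ Fintype.card F ^ (2 * j) := Nat.one_le_pow _ _ Fintype.card_pos
        have h2 : ((Fintype.card F ^ (2 * j) - 1 : ℕ) : ZMod r) = 0 :=
          (ZMod.natCast_eq_zero_iff _ _).mpr hj3
        rw [Nat.cast_sub h1, Nat.cast_pow, Nat.cast_one, sub_eq_zero] at h2
        exact h2
      have hcj : c ∣ 2 * j := by
        rw [hcc]
        exact Lib.Helper98.Sy.cOf_dvd i _ hij (even_two_mul j)
      have hj0 : 0 < j := by omega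
      have hc2j : c ≤ 2 * j := Nat.le_of_dvd (by omega) hcj
      -- the parameters of the model
      have hdm : c * (2 * d / c) + 2 * d % c = 2 * d := Nat.div_add_mod (2 * d) c
      have hT1 : 1 ≤ 2 * d / c := Nat.div_pos (by omega) (by omega)
      have hmodeven : Even (2 * d % c) := by
        obtain ⟨c', hc'⟩ := hce
        have : 2 * d % c = 2 * (d % c') := by
          rw [hc', ← two_mul, Nat.mul_mod_mul_left]
        rw [this]
        exact even_two_mul _
      have hmodlt : 2 * d % c < c := Nat.mod_lt _ (by omega)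
      have hmodle : 2 * d % c + 2 ≤ c := by
        obtain ⟨a, ha⟩ := hmodeven
        obtain ⟨b, hb⟩ := hce
        omega
      set k := 2 * d % c + 1 with hk
      have hkodd : Odd k := by
        obtain ⟨a, ha⟩ := hmodeven
        exact ⟨a, by omega⟩
      have hkc : k < c := by omega
      have hmod_le : 2 * d % c ≤ 2 * d - 2 * j := by
        obtain ⟨D', hD'⟩ : ∃ D', 2 * d = D' + 2 * j := ⟨2 * d - 2 * j, by omega⟩
        obtain ⟨a, ha⟩ := hcj
        have h2 : 2 * d % c = D' % c := by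
          rw [hD', ha, Nat.add_mul_mod_self_left]
        have h3 : D' % c ≤ D' := Nat.mod_le _ _
        omega
      have hkm : k ≤ m := by omega
      have hnk : (2 * d + 1) % c = k := by
        have : 2 * d + 1 = c * (2 * d / c) + k := by omega
        rw [this, Nat.mul_add_mod]
        exact Nat.mod_eq_of_lt hkc
      -- the model
      obtain ⟨V', i1, i2, i3, B', y', hS', hnd', hiso', hy'r, hy'ne, hdim', hV0'⟩ :=
        Lib.Helper23.Oh.exists_model_symm (F := F) h2F p f hF r hpr hr2 hrF (2 * d / c) k hT1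
      rw [← hi, ← hcc] at hdim'
      have hdim'' : Module.finrank F V' = 2 * d + 1 := by
        rw [hdim']
        have : 2 * d / c * c = c * (2 * d / c) := Nat.mul_comm _ _
        omega
      obtain ⟨x, hxΩ, hxo, c0, hc0, E, hE1, hE2⟩ := Lib.Helper41.Os.transport_odd h2F r hrodd d
        B' hS' hnd' hdim'' y' hiso' hy'r hy'ne
      obtain ⟨W, ⟨hWd, hWnd, hWplus⟩, hWinv⟩ := hL x hxΩ hxo
      have hW'inv : Lib.Helper98.Elus.Inv y'
          (W.map (E : (Unit ⊕ (Fin d ⊕ Fin d) → F) →ₗ[F] V')) := by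
        rintro _ ⟨w, hw, rfl⟩
        show y' (E w) ∈ _
        rw [← hE1]
        exact ⟨_, hWinv ⟨w, hw, rfl⟩, rfl⟩
      have hW'nd : Lib.Helper98.Sy.NonDeg B'
          (W.map (E : (Unit ⊕ (Fin d ⊕ Fin d) → F) →ₗ[F] V')) := by
        rintro _ ⟨w, hw, rfl⟩ h
        by_contra hne
        have hw0 : w ≠ 0 := by
          rintro rfl
          exact hne (by simp)
        obtain ⟨-, ⟨y, hy, hy'⟩⟩ := hWnd w hw hw0
        apply hy'
        have h1 := h _ ⟨y, hy, rfl⟩
        change B' (E w) (E y) = 0 at h1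
        rw [hE2] at h1
        rcases mul_eq_zero.mp h1 with h2 | h2
        · exact absurd h2 hc0
        · exact h2
      have hW'd : Module.finrank F (W.map (E : (Unit ⊕ (Fin d ⊕ Fin d) → F) →ₗ[F] V')) = m := by
        rw [LinearEquiv.finrank_map_eq]
        exact hWd
      have hW'plus : Lib.Helper98.Oh.Plus B'
          (W.map (E : (Unit ⊕ (Fin d ⊕ Fin d) → F) →ₗ[F] V')) := by
        obtain ⟨U, hUW, hU, hUd⟩ := hWplus
        refine ⟨U.map (E : (Unit ⊕ (Fin d ⊕ Fin d) → F) →ₗ[F] V'), Submodule.map_mono hUW, ?_, ?_⟩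
        · rintro _ ⟨u, hu, rfl⟩
          change B' (E u) (E u) = 0
          rw [hE2, ← Lib.Helper98.Oh.B0_apply, Lib.Helper98.Oh.B0_self, hU u hu, mul_zero, mul_zero]
        · rw [LinearEquiv.finrank_map_eq, LinearEquiv.finrank_map_eq]
          exact hUd
      obtain ⟨hcm, hlk, hz⟩ := Lib.Helper98.Oh.cond_of_fixed h2F B' hS' hnd' p f hF r hpr hr2 hrF y'
        hy'r hiso' k hV0' hkodd (by rw [← hi, ← hcc]; exact hkc) m hme hkm True _ hW'inv hW'nd hW'd
        (iff_true_intro hW'plus)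
      rw [← hi, ← hcc] at hcm hlk hz
      by_cases hio : Odd i
      · left
        refine ⟨hr3, hio, hcm, ?_⟩
        rcases Nat.eq_zero_or_pos (m % c) with h | h
        · left; exact h
        · right; exact ⟨h, by rw [hnk]; exact hlk⟩
      · right
        have hie : Even i := Nat.not_odd_iff_even.mp hio
        have hci := hcie hie
        refine ⟨hr3, hie, by rw [← hci]; exact hcm, by rw [hnk]; exact hlk, ?_⟩
        rcases hz with h | h
        · left; exact h
        · right
          rcases h.mp trivial with h' | h'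
          · exact absurd h' hio
          · rw [← hci]; exact h'
    · intro hR
      have hcond : c ≤ m ∧ m % c < (2 * d + 1) % c ∧
          (0 < m % c ∨ (True ↔ (Odd i ∨ Even (m / c)))) := by
        rcases hR with h | ⟨-, hio, hcm, hl⟩ | ⟨-, hie, him, hlk, hz⟩
        · exact absurd h hr2
        · refine ⟨hcm, ?_, Or.inr (iff_of_true trivial (Or.inl hio))⟩
          rcases hl with h | ⟨-, h⟩
          · rw [h]; exact hn0
          · exact h
        · have hci := hcie hie
          refine ⟨by rw [hci]; exact him, hlk, ?_⟩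
          rcases hz with h | h
          · left; exact h
          · right
            rw [hci]
            exact iff_of_true trivial (Or.inr h)
      intro x hxΩ hxo
      apply hback
      have hxr : x ^ r = 1 := by
        rw [← hxo]
        exact pow_orderOf_eq_one x
      exact Lib.Helper98.Oh.exists_fixed_of_cond h2F (Lib.Helper98.Oh.B0 d) hS hV p f hF r hpr hr2 hrF _
        (hpow x r hxr) (Lib.Helper98.Oh.iso_of_mem_omegaGL d x hxΩ) (2 * d + 1) hfin hnodd m hme
        (by omega) True (by rw [← hi, ← hcc]; exact hcond)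

end Cfsg.Agent.S5992
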