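import Cfsg.Statements.S5993
import Cfsg.Agent.Lib.Helper98.Oh2
import Cfsg.Agent.Lib.Helper98.Oh3
import Cfsg.Agent.Lib.Helper98.Oh4
import Cfsg.Agent.Lib.Helper41.OsU
import Cfsg.Agent.Lib.Helper23.OhD
import Cfsg.Agent.Lib.Helper20.OhF
import Cfsg.Agent.Lib.Helper16.OhG
import Cfsg.Agent.Lib.Helper26.OsD
import Cfsg.Agent.Lib.Helper02.NdB
import Cfsg.Agent.Lib.Helper80.NdE
import Cfsg.Agent.Lib.Helper85.NdI

set_option autoImplicit false
set_option linter.style.haveILetI false
set_option maxHeartbeats 1600000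
open scoped MatrixGroups
open Cfsg

namespace Cfsg.Agent.S5993

/-- Elements of prime order of Ω_n(q), nq odd, with no fixed elliptic `m`-space. Here `T = Ω_n(F)`, `n = 2d+1 ≥ 7`, `q` odd, realised as the commutator subgroup of the isometry group of `Q = x₀² + Σ xᵢyᵢ` over the field `F` with `q` elements (trivial centre, so its elements of prime order `r` are used directly); a nondegenerate `m`-space (even `m`) is a subspace on which the polar form of `Q` is nondegenerate; it is hyperbolic if it contains an `m/2`-dimensional subspace on which `Q` vanishes, elliptic otherwise. Let `m` be even with `2 ≤ m ≤ n − 1` (no restriction `m < n/2`) and let `r` be a prime dividing the number of elliptic `m`-spaces; for `r ≠ p` let `i` be the multiplicative order of `q` modulo `r`, `c = i` for `i` even and `c = 2i` for `i` odd, and write `k = n mod c`, `ℓ' = m mod c`. Then every element of `T` of order `r` fixes some elliptic `m`-space if and only if `r = 2`, or `r ≠ p` is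 odd and one of: (i) `i` odd, `c ≤ m` and `k > ℓ' > 0`; (ii) `i` even, `i ≤ m`, `k > ℓ'`, and `m/i` odd whenever `ℓ' = 0`. (For `r = p` there is always an element of order `p` fixing no elliptic `m`-space.) -/
theorem result {F : Type*} [Field F] [Fintype F] {p : ℕ} [Fact p.Prime] [CharP F p] {q : ℕ} (hq : Fintype.card F = q) (hqodd : Odd q)
    (d m : ℕ) (hd : 3 ≤ d) (hm : 2 ≤ m) (hme : Even m) (hmn : m ≤ 2 * d)
    (r : ℕ) [Fact r.Prime]
    (hrΩ : r ∣ Nat.card {W : Submodule F (Unit ⊕ (Fin d ⊕ Fin d) → F) // Module.finrank F ↥W = m ∧ Cfsg.Geo.IsNondegenerateOn (QuadraticMap.polar (Cfsg.quadFormOdd d F)) W ∧ ¬ Cfsg.Geo.IsPlusTypeOn (Cfsg.quadFormOdd d F) W})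
    (i c : ℕ) (hi : i = orderOf (q : ZMod r)) (hc : c = if Even i then i else 2 * i) :
    (∀ x : GL (Unit ⊕ (Fin d ⊕ Fin d)) F, x ∈ Cfsg.Geo.omegaGL (Cfsg.quadFormOdd d F) → orderOf x = r →
      ∃ W : Submodule F (Unit ⊕ (Fin d ⊕ Fin d) → F), (Module.finrank F ↥W = m ∧ Cfsg.Geo.IsNondegenerateOn (QuadraticMap.polar (Cfsg.quadFormOdd d F)) W ∧ ¬ Cfsg.Geo.IsPlusTypeOn (Cfsg.quadFormOdd d F) W) ∧ W.map (Matrix.toLin' (x : Matrix (Unit ⊕ (Fin d ⊕ Fin d)) (Unit ⊕ (Fin d ⊕ Fin d)) F)) ≤ W) ↔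
    (r = 2 ∨
     (r ≠ p ∧ 2 < r ∧ Odd i ∧ c ≤ m ∧ 0 < m % c ∧ m % c < (2 * d + 1) % c) ∨
     (r ≠ p ∧ 2 < r ∧ Even i ∧ i ≤ m ∧ m % c < (2 * d + 1) % c ∧ (0 < m % c ∨ Odd (m / i)))) := by
  classical
  subst hq
  subst hi
  have hr : r.Prime := Fact.out
  have hp : p.Prime := Fact.out
  obtain ⟨f, _, hF⟩ := FiniteField.card F p
  have h2F : (2 : F) ≠ 0 := by
    intro h
    have h' : ((2 : ℕ) : F) = 0 := by exact_mod_cast h
    rw [CharP.cast_eq_zero_iff F p] at h'
    have hp2 : p = 2 := (Nat.prime_dvd_prime_iff_eq hp Nat.prime_two).mp h'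
    rw [hF, hp2] at hqodd
    have : Even (2 ^ (f : ℕ)) := (Nat.even_pow' f.pos.ne').mpr even_two
    exact (Nat.not_even_iff_odd.mpr hqodd) this
  have hp2 : p ≠ 2 := by
    intro h
    apply h2F
    have := CharP.cast_eq_zero F p
    rw [h] at this
    exact_mod_cast this
  have hcc : c = Lib.Helper98.Sy.cOf (orderOf ((Fintype.card F : ℕ) : ZMod r)) := by
    rw [hc]; rfl
  have hS := Lib.Helper98.Oh.B0_symm (F := F) d
  have hV := Lib.Helper98.Oh.B0_nonDeg (F := F) d h2F
  have hfin := Lib.Helper98.Oh.finrank_odd_space (F := F) d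
  have hnodd : Odd (2 * d + 1) := ⟨d, rfl⟩
  -- back to the concrete formulation
  have hback : ∀ (x : GL (Unit ⊕ (Fin d ⊕ Fin d)) F),
      (∃ W : Submodule F (Unit ⊕ (Fin d ⊕ Fin d) → F),
        Lib.Helper98.Elus.Inv (Matrix.toLin' (x : Matrix (Unit ⊕ (Fin d ⊕ Fin d)) (Unit ⊕ (Fin d ⊕ Fin d)) F)) W ∧
        Lib.Helper98.Sy.NonDeg (Lib.Helper98.Oh.B0 d) W ∧ Module.finrank F W = m ∧
        (Lib.Helper98.Oh.Plus (Lib.Helper98.Oh.B0 d) W ↔ False)) →
      ∃ W : Submodule F (Unit ⊕ (Fin d ⊕ Fin d) → F), (Module.finrank F ↥W = m ∧ Cfsg.Geo.IsNondegenerateOn (QuadraticMap.polar (Cfsg.quadFormOdd d F)) W ∧ ¬ Cfsg.Geo.IsPlusTypeOn (Cfsg.quadFormOdd d F) W) ∧ W.map (Matrix.toLin' (x : Matrix (Unit ⊕ (Fin d ⊕ Fin d)) (Unit ⊕ (Fin d ⊕ Fin d)) F)) ≤ W := by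
    rintro x ⟨W, hWinv, hWnd, hWd, hWt⟩
    exact ⟨W, ⟨hWd, (Lib.Helper98.Oh.nonDegOn_iff d W).mpr hWnd,
      fun h => hWt.mp ((Lib.Helper98.Oh.plusOn_iff d h2F W).mp h)⟩,
      (Lib.Helper98.Oh.map_le_iff_inv _ W).mpr hWinv⟩
  have hpow : ∀ (x : GL (Unit ⊕ (Fin d ⊕ Fin d)) F) (k : ℕ), x ^ k = 1 →
      (Matrix.toLin' (x : Matrix (Unit ⊕ (Fin d ⊕ Fin d)) (Unit ⊕ (Fin d ⊕ Fin d)) F)) ^ k = 1 := by
    intro x k hx
    rw [← Matrix.toLin'_pow, ← Units.val_pow_eq_pow_val, hx, Units.val_one, Matrix.toLin'_one]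
    rfl
  have hcodd : ¬ c ∣ 2 * d + 1 := by
    intro h
    have hce : Even c := by rw [hcc]; exact Lib.Helper98.Sy.cOf_even _
    have : Even (2 * d + 1) := (even_iff_two_dvd.mpr (dvd_trans (even_iff_two_dvd.mp hce) h))
    exact (Nat.not_even_iff_odd.mpr hnodd) this
  -- transfer of a fixed elliptic space to a model
  have htrans : ∀ {V' : Type _} [AddCommGroup V'] [Module F V'] [FiniteDimensional F V']
      (B' : LinearMap.BilinForm F V') (y' : V' →ₗ[F] V')
      (x : GL (Unit ⊕ (Fin d ⊕ Fin d)) F) (c0 : F) (hc0 : c0 ≠ 0)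
      (E : (Unit ⊕ (Fin d ⊕ Fin d) → F) ≃ₗ[F] V')
      (hE1 : ∀ w, E (Matrix.toLin' (x : Matrix (Unit ⊕ (Fin d ⊕ Fin d)) (Unit ⊕ (Fin d ⊕ Fin d)) F) w) = y' (E w))
      (hE2 : ∀ a b, B' (E a) (E b) = c0 * QuadraticMap.polar (Cfsg.quadFormOdd d F) a b)
      (W : Submodule F (Unit ⊕ (Fin d ⊕ Fin d) → F)) (hWd : Module.finrank F ↥W = m)
      (hWnd : Cfsg.Geo.IsNondegenerateOn (QuadraticMap.polar (Cfsg.quadFormOdd d F)) W)
      (hWell : ¬ Cfsg.Geo.IsPlusTypeOn (Cfsg.quadFormOdd d F) W)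
      (hWinv : W.map (Matrix.toLin' (x : Matrix (Unit ⊕ (Fin d ⊕ Fin d)) (Unit ⊕ (Fin d ⊕ Fin d)) F)) ≤ W),
      ∃ W' : Submodule F V', Lib.Helper98.Elus.Inv y' W' ∧ Lib.Helper98.Sy.NonDeg B' W' ∧
        Module.finrank F W' = m ∧ (Lib.Helper98.Oh.Plus B' W' ↔ False) := by
    intro V' _ _ _ B' y' x c0 hc0 E hE1 hE2 W hWd hWnd hWell hWinv
    refine ⟨W.map (E : (Unit ⊕ (Fin d ⊕ Fin d) → F) →ₗ[F] V'), ?_, ?_, ?_, ?_⟩
    · rintro _ ⟨w, hw, rfl⟩
      show y' (E w) ∈ _
      rw [← hE1]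
      exact ⟨_, hWinv ⟨w, hw, rfl⟩, rfl⟩
    · rintro _ ⟨w, hw, rfl⟩ h
      by_contra hne
      have hw0 : w ≠ 0 := by
        rintro rfl
        exact hne (by simp)
      obtain ⟨-, ⟨y, hy, hy'⟩⟩ := hWnd w hw hw0
      apply hy'
      have h1 := h _ ⟨y, hy, rfl⟩
      change B' (E w) (E y) = 0 at h1
      rw [hE2] at h1
      rcases mul_eq_zero.mp h1 with h2 | h2
      · exact absurd h2 hc0
      · exact h2
    · rw [LinearEquiv.finrank_map_eq]
      exact hWd
    · refine iff_false_intro (fun hplus => hWell ?_)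
      obtain ⟨U', hU'W, hU', hU'd⟩ := hplus
      refine ⟨U'.map (E.symm : V' →ₗ[F] (Unit ⊕ (Fin d ⊕ Fin d) → F)), ?_, ?_, ?_⟩
      · rintro _ ⟨u', hu', rfl⟩
        obtain ⟨w, hw, hwe⟩ := hU'W hu'
        have : E.symm u' = w := by
          rw [← hwe]
          exact E.symm_apply_apply w
        change E.symm u' ∈ W
        rw [this]
        exact hw
      · rintro _ ⟨u', hu', rfl⟩
        have h1 := hU' u' hu'
        have h2 := hE2 (E.symm u') (E.symm u')
        rw [E.apply_symm_apply, h1, ← Lib.Helper98.Oh.B0_apply, Lib.Helper98.Oh.B0_self] at h2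
        change Cfsg.quadFormOdd d F (E.symm u') = 0
        rcases mul_eq_zero.mp h2.symm with h3 | h3
        · exact absurd h3 hc0
        · rcases mul_eq_zero.mp h3 with h4 | h4
          · exact absurd h4 h2F
          · exact h4
      · rw [LinearEquiv.finrank_map_eq, hWd]
        rw [LinearEquiv.finrank_map_eq, hWd] at hU'd
        exact hU'd
  by_cases hr2 : r = 2
  · constructor
    · intro _
      left; exact hr2
    · intro _ x hxΩ hxo
      apply hback
      have hx2 : x ^ 2 = 1 := by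
        rw [← hr2, ← hxo]
        exact pow_orderOf_eq_one x
      have hg := hpow x 2 hx2
      rw [pow_two] at hg
      exact Lib.Helper20.Oh.exists_fixed_invol h2F (Lib.Helper98.Oh.B0 d) hS hV
        (by rw [hfin]; exact hnodd) _ hg (Lib.Helper98.Oh.iso_of_mem_omegaGL d x hxΩ) m hme hm
        (by rw [hfin]; omega) False
  have hr3 : 2 < r := by
    have := hr.two_le
    omega
  have hrodd : Odd r := hr.odd_of_ne_two hr2
  by_cases hrp : r = p
  · -- unipotent elements: the right-hand side is false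
    subst hrp
    constructor
    swap
    · rintro (h | ⟨h, -⟩ | ⟨h, -⟩)
      · exact absurd h hr2
      · exact absurd rfl h
      · exact absurd rfl h
    intro hL
    exfalso
    -- the Jordan type
    obtain ⟨o, a, ho, hoodd, hae, hsum⟩ : ∃ o a : ℕ, (o = 1 ∨ o = 3) ∧ Odd o ∧ Even a ∧
        o + 2 * a = 2 * d + 1 := by
      rcases Nat.even_or_odd d with hde | hdo
      · exact ⟨1, d, Or.inl rfl, odd_one, hde, by omega⟩
      · obtain ⟨d', hd'⟩ := hdo
        exact ⟨3, d - 1, Or.inr rfl, ⟨1, rfl⟩, ⟨d', by omega⟩, by omega⟩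
    set μ : Multiset ℕ := o ::ₘ Multiset.replicate a 2 with hμdef
    have hμ1 : ∀ e ∈ μ, 0 < e ∧ e ≤ r := by
      intro e he
      rw [hμdef, Multiset.mem_cons] at he
      rcases he with h | h
      · rcases ho with h' | h' <;> omega
      · rw [Multiset.eq_of_mem_replicate h]
        omega
    have ho2 : o ≠ 2 := by rcases ho with h | h <;> omega
    have hμ2 : ∀ e : ℕ, Even e → Even (μ.count e) := by
      intro e hee
      rw [hμdef, Multiset.count_cons, Multiset.count_replicate]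
      have heo : e ≠ o := by
        rintro rfl
        exact (Nat.not_even_iff_odd.mpr hoodd) hee
      rw [if_neg heo, add_zero]
      split_ifs
      · exact hae
      · exact Even.zero
    have hμs : μ.sum = 2 * d + 1 := by
      rw [hμdef, Multiset.sum_cons, Multiset.sum_replicate, smul_eq_mul]
      omega
    have huniq : Lib.Helper98.Nd.UniqStatement := fun μ μ' h1 h2 h3 =>
      Lib.Helper02.Nd.eq_of_sum_min_eq μ μ' h1 h2 h3
    obtain ⟨V', i1, i2, i3, B', M, X, hS', hnd', hskew, hMp, hkerM, hX, hXd⟩ :=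
      Lib.Helper26.Os.exists_skew_model_symm (F := F) (p := r) h2F μ hμ1 hμ2
    obtain ⟨u', hiso', hu'p, hkeru⟩ := Lib.Helper80.Nd.exists_cayley hr2 B' M hskew hMp
    have hker : ∀ k, Module.finrank F (LinearMap.ker ((u' - 1) ^ k)) =
        (μ.map (fun a => min a k)).sum := by
      intro k
      rw [hkeru k]
      exact hkerM k
    have hNp' : (u' - 1) ^ r = 0 := by
      rw [← LinearMap.ker_eq_top, hkeru r, hMp]
      exact LinearMap.ker_zero
    have hdim' : Module.finrank F V' = 2 * d + 1 := by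
      have h1 := hkerM r
      rw [hMp, LinearMap.ker_zero, finrank_top] at h1
      rw [h1, ← hμs]
      congr 1
      conv_rhs => rw [← Multiset.map_id μ]
      apply Multiset.map_congr rfl
      intro a ha
      simp only [id]
      exact min_eq_left (hμ1 a ha).2
    have hk1 : Module.finrank F (LinearMap.ker (u' - 1)) = Multiset.card μ := by
      have h1 := hker 1
      rw [pow_one] at h1
      rw [h1]
      have : μ.map (fun a => min a 1) = μ.map (fun _ => 1) := by
        apply Multiset.map_congr rfl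
        intro a ha
        exact min_eq_right (hμ1 a ha).1
      rw [this, Multiset.map_const', Multiset.sum_replicate]
      simp
    have hcardμ : Multiset.card μ = a + 1 := by
      rw [hμdef, Multiset.card_cons, Multiset.card_replicate]
    have hu1 : u' ≠ 1 := by
      intro hz
      have : LinearMap.ker (u' - 1) = ⊤ := by
        rw [LinearMap.ker_eq_top, hz, sub_self]
      rw [this, finrank_top, hdim', hcardμ] at hk1
      omega
    obtain ⟨x, hxΩ, hxp, c0, hc0, E, hE1, hE2⟩ := Lib.Helper41.Os.transport_odd h2F r hrodd d B'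
      hS' hnd' hdim' u' hiso' hu'p hu1
    obtain ⟨W, ⟨hWd, hWnd, hWell⟩, hWinv⟩ := hL x hxΩ hxp
    obtain ⟨W', hW'inv, hW'nd, hW'd, hW'ell⟩ := htrans B' u' x c0 hc0 E hE1 hE2 W hWd hWnd hWell hWinv
    have hchain' : Lib.Helper98.Nd.ChainStatement F V' := fun N e a v hN hli k =>
      Lib.Helper85.Nd.finrank_inf_ker_of_chains N e a v hN hli k
    obtain ⟨ν, hν1, hν2, hν3, hν4⟩ := Lib.Helper98.Oh.exists_sub_type_symm' hchain' huniq hS' hnd'
      h2F r hr.pos u' hu'p hNp' hiso' μ (fun a ha => (hμ1 a ha).1) hker W' hW'inv hW'nd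
    -- `ν` consists of `2`s only
    have hoν : o ∉ ν := by
      intro hoν
      have h1 : ν.erase o ≤ Multiset.replicate a 2 := by
        have := Multiset.erase_le_erase o hν1
        rwa [hμdef, Multiset.erase_cons_head] at this
      obtain ⟨b, -, hb⟩ := Multiset.le_replicate_iff.mp h1
      have h2 : ν.sum = o + (ν.erase o).sum := by
        rw [← Multiset.sum_cons, Multiset.cons_erase hoν]
      rw [hb, Multiset.sum_replicate, smul_eq_mul, hν2, hW'd] at h2
      obtain ⟨m', hm'⟩ := hme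
      obtain ⟨o', ho'⟩ := hoodd
      omega
    have hν2s : ν ≤ Multiset.replicate a 2 := by
      rw [hμdef] at hν1
      rcases (Multiset.le_cons_of_notMem hoν).mp hν1 with h
      exact h
    obtain ⟨b, -, hb⟩ := Multiset.le_replicate_iff.mp hν2s
    have hmb : m = 2 * b := by
      rw [← hW'd, ← hν2, hb, Multiset.sum_replicate, smul_eq_mul]
      ring
    have hk1W : Module.finrank F ↥(W' ⊓ LinearMap.ker (u' - 1)) = b := by
      have := hν4 1
      rw [pow_one, hb, Multiset.map_replicate, Multiset.sum_replicate, smul_eq_mul] at this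
      simpa using this
    have hk2W : Module.finrank F ↥(W' ⊓ LinearMap.ker ((u' - 1) ^ 2)) = 2 * b := by
      have := hν4 2
      rw [hb, Multiset.map_replicate, Multiset.sum_replicate, smul_eq_mul] at this
      simp only [min_self] at this
      omega
    have hsq : ∀ w ∈ W', (u' - 1) ((u' - 1) w) = 0 := by
      intro w hw
      have heq : W' ⊓ LinearMap.ker ((u' - 1) ^ 2) = W' := by
        apply Submodule.eq_of_le_of_finrank_eq inf_le_left
        rw [hk2W, hW'd, hmb]
      have : w ∈ W' ⊓ LinearMap.ker ((u' - 1) ^ 2) := by rw [heq]; exact hw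
      have := LinearMap.mem_ker.mp (Submodule.mem_inf.mp this).2
      rwa [pow_two, Module.End.mul_apply] at this
    exact hW'ell.mp (Lib.Helper98.Oh.plus_of_sq_zero u' hiso' W' hW'inv hsq b (by rw [hW'd, hmb]) hk1W)
  have hrF : (r : F) ≠ 0 := by
    intro h
    rw [CharP.cast_eq_zero_iff F p] at h
    exact hrp ((Nat.prime_dvd_prime_iff_eq hp hr).mp h).symm
  have hpr : p ≠ r := Ne.symm hrp
  have hi1 : 1 ≤ orderOf ((Fintype.card F : ℕ) : ZMod r) :=
    Lib.Helper98.Elus.orderOf_card_pos p f hF r hpr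
  set i := orderOf ((Fintype.card F : ℕ) : ZMod r) with hi
  have hc1 : 1 ≤ c := by
    rw [hcc]
    exact Lib.Helper98.Sy.cOf_pos _ hi1
  have hce : Even c := by rw [hcc]; exact Lib.Helper98.Sy.cOf_even _
  have hcie : Even i → c = i := by
    intro h
    rw [hc, if_pos h]
  have hn0 : 0 < (2 * d + 1) % c := by
    rcases Nat.eq_zero_or_pos ((2 * d + 1) % c) with h | h
    · exact absurd (Nat.dvd_of_mod_eq_zero h) hcodd
    · exact h
  constructor
  · intro hL
    right
    -- the count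
    obtain ⟨e, he⟩ : ∃ e, m = 2 * e := by
      obtain ⟨e, he⟩ := hme
      exact ⟨e, by omega⟩
    have hΩ' : r ∣ Nat.card {W : Submodule F (Unit ⊕ (Fin d ⊕ Fin d) → F) //
        Module.finrank F ↥W = 2 * e ∧
        Cfsg.Geo.IsNondegenerateOn (QuadraticMap.polar (Cfsg.quadFormOdd d F)) W ∧
        ¬ Cfsg.Geo.IsPlusTypeOn (Cfsg.quadFormOdd d F) W} := by
      rw [← he]
      exact hrΩ
    obtain ⟨j, hj1, hj2, hj3⟩ := Lib.Helper16.Oh.exists_of_dvd_card_ell h2F d e (by omega)
      (by omega) r hrF hΩ'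
    have hij : i ∣ 2 * j := by
      rw [hi]
      apply orderOf_dvd_of_pow_eq_one
      have h1 : 1 ≤ Fintype.card F ^ (2 * j) := Nat.one_le_pow _ _ Fintype.card_pos
      have h2 : ((Fintype.card F ^ (2 * j) - 1 : ℕ) : ZMod r) = 0 :=
        (ZMod.natCast_eq_zero_iff _ _).mpr hj3
      rw [Nat.cast_sub h1, Nat.cast_pow, Nat.cast_one, sub_eq_zero] at h2
      exact h2
    have hcj : c ∣ 2 * j := by
      rw [hcc]
      exact Lib.Helper98.Sy.cOf_dvd i _ hij (even_two_mul j)
    have hj0 : 0 < j := by omega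
    have hc2j : c ≤ 2 * j := Nat.le_of_dvd (by omega) hcj
    -- the parameters of the model
    have hdm : c * (2 * d / c) + 2 * d % c = 2 * d := Nat.div_add_mod (2 * d) c
    have hT1 : 1 ≤ 2 * d / c := Nat.div_pos (by omega) (by omega)
    have hmodeven : Even (2 * d % c) := by
      obtain ⟨c', hc'⟩ := hce
      have : 2 * d % c = 2 * (d % c') := by
        rw [hc', ← two_mul, Nat.mul_mod_mul_left]
      rw [this]
      exact even_two_mul _
    have hmodlt : 2 * d % c < c := Nat.mod_lt _ (by omega)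
    have hmodle : 2 * d % c + 2 ≤ c := by
      obtain ⟨a, ha⟩ := hmodeven
      obtain ⟨b, hb⟩ := hce
      omega
    set k := 2 * d % c + 1 with hk
    have hkodd : Odd k := by
      obtain ⟨a, ha⟩ := hmodeven
      exact ⟨a, by omega⟩
    have hkc : k < c := by omega
    have hmod_le : 2 * d % c ≤ 2 * d - 2 * j := by
      obtain ⟨D', hD'⟩ : ∃ D', 2 * d = D' + 2 * j := ⟨2 * d - 2 * j, by omega⟩
      obtain ⟨a, ha⟩ := hcj
      have h2 : 2 * d % c = D' % c := by
        rw [hD', ha, Nat.add_mul_mod_self_left]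
      have h3 : D' % c ≤ D' := Nat.mod_le _ _
      omega
    have hkm : k ≤ m := by omega
    have hnk : (2 * d + 1) % c = k := by
      have : 2 * d + 1 = c * (2 * d / c) + k := by omega
      rw [this, Nat.mul_add_mod]
      exact Nat.mod_eq_of_lt hkc
    -- the model
    obtain ⟨V', i1, i2, i3, B', y', hS', hnd', hiso', hy'r, hy'ne, hdim', hV0'⟩ :=
      Lib.Helper23.Oh.exists_model_symm (F := F) h2F p f hF r hpr hr2 hrF (2 * d / c) k hT1
    rw [← hi, ← hcc] at hdim'
    have hdim'' : Module.finrank F V' = 2 * d + 1 := by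
      rw [hdim']
      have : 2 * d / c * c = c * (2 * d / c) := Nat.mul_comm _ _
      omega
    obtain ⟨x, hxΩ, hxo, c0, hc0, E, hE1, hE2⟩ := Lib.Helper41.Os.transport_odd h2F r hrodd d
      B' hS' hnd' hdim'' y' hiso' hy'r hy'ne
    obtain ⟨W, ⟨hWd, hWnd, hWell⟩, hWinv⟩ := hL x hxΩ hxo
    obtain ⟨W', hW'inv, hW'nd, hW'd, hW'ell⟩ := htrans B' y' x c0 hc0 E hE1 hE2 W hWd hWnd hWell hWinv
    obtain ⟨hcm, hlk, hz⟩ := Lib.Helper98.Oh.cond_of_fixed h2F B' hS' hnd' p f hF r hpr hr2 hrF y'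
      hy'r hiso' k hV0' hkodd (by rw [← hi, ← hcc]; exact hkc) m hme hkm False W' hW'inv hW'nd hW'd
      hW'ell
    rw [← hi, ← hcc] at hcm hlk hz
    by_cases hio : Odd i
    · left
      refine ⟨hrp, hr3, hio, hcm, ?_, by rw [hnk]; exact hlk⟩
      rcases hz with h | h
      · exact h
      · exact absurd (Or.inl hio) (fun h' => h.mpr h')
    · right
      have hie : Even i := Nat.not_odd_iff_even.mp hio
      have hci := hcie hie
      refine ⟨hrp, hr3, hie, by rw [← hci]; exact hcm, by rw [hnk]; exact hlk, ?_⟩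
      rcases hz with h | h
      · left; exact h
      · right
        rw [← hci, ← Nat.not_even_iff_odd]
        exact fun h' => h.mpr (Or.inr h')
  · intro hR
    have hcond : c ≤ m ∧ m % c < (2 * d + 1) % c ∧
        (0 < m % c ∨ (False ↔ (Odd i ∨ Even (m / c)))) := by
      rcases hR with h | ⟨-, -, hio, hcm, hl0, hl⟩ | ⟨-, -, hie, him, hlk, hz⟩
      · exact absurd h hr2
      · exact ⟨hcm, hl, Or.inl hl0⟩
      · have hci := hcie hie
        refine ⟨by rw [hci]; exact him, hlk, ?_⟩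
        rcases hz with h | h
        · left; exact h
        · right
          rw [hci]
          refine iff_of_false (fun h => h) ?_
          rintro (h' | h')
          · exact (Nat.not_even_iff_odd.mpr h') hie
          · exact (Nat.not_even_iff_odd.mpr h) h'
    intro x hxΩ hxo
    apply hback
    have hxr : x ^ r = 1 := by
      rw [← hxo]
      exact pow_orderOf_eq_one x
    exact Lib.Helper98.Oh.exists_fixed_of_cond h2F (Lib.Helper98.Oh.B0 d) hS hV p f hF r hpr hr2 hrF _
      (hpow x r hxr) (Lib.Helper98.Oh.iso_of_mem_omegaGL d x hxΩ) (2 * d + 1) hfin hnodd m hme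
      (by omega) False (by rw [← hi, ← hcc]; exact hcond)

end Cfsg.Agent.S5993
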