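import Cfsg.Statements.S5994
import Cfsg.Agent.Lib.Helper98.Os3
import Cfsg.Agent.Lib.Helper26.OsD
import Cfsg.Agent.Lib.Helper32.OmT
import Cfsg.Agent.Lib.Helper02.NdB
import Cfsg.Agent.Lib.Helper80.NdE
import Cfsg.Agent.Lib.Helper85.NdI
import Cfsg.Agent.Lib.Helper32.OmC
import Cfsg.Agent.Lib.Helper14.OmS
import Cfsg.Agent.Lib.Helper26.OmE
import Cfsg.Agent.Lib.Helper56.OmN
import Cfsg.Agent.Lib.Helper16.OmP

set_option autoImplicit false
set_option linter.style.haveILetI false
set_option linter.unusedVariables false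
set_option maxHeartbeats 1600000
open scoped MatrixGroups
open Cfsg

namespace Cfsg.Agent.S5994

/-- A necessary condition for every element of order p of PΩ⁻_n(q), q odd, to fix an elliptic `m`-space. Here `T = PΩ⁻_n(F)`, `n = 2d ≥ 8`, realised through `Ω⁻_n(q)`, the commutator subgroup of the isometry group of `Q = Σ_{i<d−1} xᵢyᵢ + z₁² + a z₁z₂ + b z₂²` with `z₁² + a z₁z₂ + b z₂²` anisotropic, over the field `F` with `q` elements; an element of `T` of prime order `r` is an element `x` of `Ω⁻_n(q)` with `x^r` scalar and `x` not scalar; `q` is odd; a nondegenerate `m`-space (even `m`) is a subspace on which the polar form of `Q` is nondegenerate; it is hyperbolic if it contains an `m/2`-dimensional subspace on which `Q` vanishes, elliptic otherwise. Let `m` be even with `2 ≤ m ≤ n − 2` and suppose `p` divides the number of elliptic `m`-spaces. If every element of `T` of order `p` fixes some elliptic `m`-space, then `n ≡ m (mod 4)` and every partition of `n` into parts of size at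 most `p` in which every even part has even multiplicity contains (as a sub-multiset) a partition of `m` in which every even part has even multiplicity. -/
theorem result {F : Type*} [Field F] [Fintype F] {p : ℕ} [Fact p.Prime] [CharP F p] {q : ℕ} (hq : Fintype.card F = q) (hqodd : Odd q)
    (d m : ℕ) (hd : 4 ≤ d) (hm : 2 ≤ m) (hme : Even m) (hmn : m + 2 ≤ 2 * d) (a b : F) (hab : ∀ x y : F, x ^ 2 + a * x * y + b * y ^ 2 = 0 → x = 0 ∧ y = 0)
    (hpΩ : p ∣ Nat.card {W : Submodule F ((Fin (d - 1) ⊕ Fin (d - 1)) ⊕ Fin 2 → F) // Module.finrank F ↥W = m ∧ Cfsg.Geo.IsNondegenerateOn (QuadraticMap.polar (Cfsg.quadFormMinus (d - 1) F a b)) W ∧ ¬ Cfsg.Geo.IsPlusTypeOn (Cfsg.quadFormMinus (d - 1) F a b) W}) :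
    (∀ x : GL ((Fin (d - 1) ⊕ Fin (d - 1)) ⊕ Fin 2) F, x ∈ Cfsg.Geo.omegaGL (Cfsg.quadFormMinus (d - 1) F a b) →
      (∃ z : F, ((x ^ p : GL ((Fin (d - 1) ⊕ Fin (d - 1)) ⊕ Fin 2) F) : Matrix ((Fin (d - 1) ⊕ Fin (d - 1)) ⊕ Fin 2) ((Fin (d - 1) ⊕ Fin (d - 1)) ⊕ Fin 2) F) = z • (1 : Matrix ((Fin (d - 1) ⊕ Fin (d - 1)) ⊕ Fin 2) ((Fin (d - 1) ⊕ Fin (d - 1)) ⊕ Fin 2) F)) →
      (∀ z : F, (x : Matrix ((Fin (d - 1) ⊕ Fin (d - 1)) ⊕ Fin 2) ((Fin (d - 1) ⊕ Fin (d - 1)) ⊕ Fin 2) F) ≠ z • (1 : Matrix ((Fin (d - 1) ⊕ Fin (d - 1)) ⊕ Fin 2) ((Fin (d - 1) ⊕ Fin (d - 1)) ⊕ Fin 2) F)) →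
      ∃ W : Submodule F ((Fin (d - 1) ⊕ Fin (d - 1)) ⊕ Fin 2 → F), (Module.finrank F ↥W = m ∧ Cfsg.Geo.IsNondegenerateOn (QuadraticMap.polar (Cfsg.quadFormMinus (d - 1) F a b)) W ∧ ¬ Cfsg.Geo.IsPlusTypeOn (Cfsg.quadFormMinus (d - 1) F a b) W) ∧ W.map (Matrix.toLin' (x : Matrix ((Fin (d - 1) ⊕ Fin (d - 1)) ⊕ Fin 2) ((Fin (d - 1) ⊕ Fin (d - 1)) ⊕ Fin 2) F)) ≤ W) →
    ((2 * d) % 4 = m % 4 ∧ (∀ μ : Multiset ℕ, (∀ e ∈ μ, 0 < e ∧ e ≤ p) → (∀ e : ℕ, Even e → Even (μ.count e)) → μ.sum = 2 * d →
        ∃ ν : Multiset ℕ, ν ≤ μ ∧ ν.sum = m ∧ ∀ e : ℕ, Even e → Even (ν.count e))) := by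
  classical
  intro hL
  subst hq
  have hpr : p.Prime := Fact.out
  have h2F : (2 : F) ≠ 0 := by
    intro h
    have h' : ((2 : ℕ) : F) = 0 := by exact_mod_cast h
    rw [CharP.cast_eq_zero_iff F p] at h'
    have hp2 : p = 2 := (Nat.prime_dvd_prime_iff_eq hpr Nat.prime_two).mp h'
    obtain ⟨n, -, hn⟩ := FiniteField.card F p
    rw [hn, hp2] at hqodd
    have : Even (2 ^ (n : ℕ)) := (Nat.even_pow' n.pos.ne').mpr even_two
    exact (Nat.not_even_iff_odd.mpr hqodd) this
  have hp2 : p ≠ 2 := by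
    intro h
    apply h2F
    have := CharP.cast_eq_zero F p
    rw [h] at this
    exact_mod_cast this
  have hpodd : Odd p := hpr.odd_of_ne_two hp2
  have hp3 : 3 ≤ p := by
    have := hpr.two_le
    omega
  have hm2d : m ≤ 2 * d := by omega
  have huniq : Lib.Helper98.Nd.UniqStatement := fun μ μ' h1 h2 h3 =>
    Lib.Helper02.Nd.eq_of_sum_min_eq μ μ' h1 h2 h3
  -- the main step: realise `μ` in a space of minus type and restrict to the fixed elliptic space
  have key : ∀ μ : Multiset ℕ, (∀ e ∈ μ, 0 < e ∧ e ≤ p) → (∀ e : ℕ, Even e → Even (μ.count e)) →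
      μ.sum = 2 * d → (∃ e ∈ μ, Odd e) → (∃ e ∈ μ, e ≠ 1) →
      ∃ ν : Multiset ℕ, ν ≤ μ ∧ ν.sum = m ∧ (∀ e : ℕ, Even e → Even (ν.count e)) ∧
        ((∀ e ∈ μ, e ≤ 2) → 2 * Multiset.card ν ≠ m) := by
    rintro μ hμ1 hμ2 hμs ⟨a₁, ha₁μ, ha₁o⟩ ⟨a0, ha0μ, ha01⟩
    -- a second odd part
    have h1 : μ = a₁ ::ₘ μ.erase a₁ := (Multiset.cons_erase ha₁μ).symm
    have hsum1 : a₁ + (μ.erase a₁).sum = 2 * d := by
      rw [← Multiset.sum_cons, ← h1]
      exact hμs
    obtain ⟨a₂, ha₂μ, ha₂o⟩ : ∃ a₂ ∈ μ.erase a₁, Odd a₂ := by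
      by_contra hcon
      push Not at hcon
      have h2 : 2 ∣ (μ.erase a₁).sum :=
        Multiset.dvd_sum (fun e he => (Nat.not_odd_iff_even.mp (hcon e he)).two_dvd)
      obtain ⟨c, hc⟩ := ha₁o
      omega
    have h2 : μ.erase a₁ = a₂ ::ₘ (μ.erase a₁).erase a₂ := (Multiset.cons_erase ha₂μ).symm
    set μ' := (μ.erase a₁).erase a₂ with hμ'
    have hμeq : μ = a₁ ::ₘ a₂ ::ₘ μ' := by
      rw [← h2]
      exact h1
    obtain ⟨k, hk⟩ := ha₁o
    obtain ⟨k', hk'⟩ := ha₂o
    have hmem₁ : a₁ ∈ μ := ha₁μ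
    have hmem₂ : a₂ ∈ μ := Multiset.mem_of_mem_erase ha₂μ
    have hμ'1 : ∀ e ∈ μ', 0 < e ∧ e ≤ p := by
      intro e he
      apply hμ1 e
      rw [hμeq]
      exact Multiset.mem_cons_of_mem (Multiset.mem_cons_of_mem he)
    have hμ'2 : ∀ e : ℕ, Even e → Even (μ'.count e) := by
      intro e he
      have h3 := hμ2 e he
      have hne₁ : e ≠ a₁ := by
        rintro rfl
        obtain ⟨c, hc⟩ := he
        omega
      have hne₂ : e ≠ a₂ := by
        rintro rfl
        obtain ⟨c, hc⟩ := he
        omega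
      rw [hμeq, Multiset.count_cons_of_ne hne₁, Multiset.count_cons_of_ne hne₂] at h3
      exact h3
    have hμ's : μ'.sum + (2 * k + 1) + (2 * k' + 1) = 2 * d := by
      have h3 := hμs
      rw [hμeq, Multiset.sum_cons, Multiset.sum_cons] at h3
      omega
    -- the two models
    obtain ⟨V₁, i1, i2, i3, B₁, M₁, X₁, hS₁, hnd₁, hskew₁, hMp₁, hker₁, hX₁, hX₁d⟩ :=
      Lib.Helper26.Os.exists_skew_model_symm (F := F) (p := p) h2F μ' hμ'1 hμ'2
    obtain ⟨ζ, hζ⟩ := Lib.Helper50.exists_nonsquare_of_two_ne_zero h2F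
    obtain ⟨V₂, j1, j2, j3, B₂, M₂, X₂, hS₂, hnd₂, hskew₂, hMp₂, hker₂, hX₂, hX₂d, hX₂max⟩ :=
      Lib.Helper26.Om.exists_elliptic_pair_model (F := F) (p := p) ζ hζ k k'
        (by have := (hμ1 a₁ hmem₁).2; omega) (by have := (hμ1 a₂ hmem₂).2; omega)
    have hV₁ : Module.finrank F V₁ = μ'.sum := by
      have h3 := hker₁ p
      rw [hMp₁, LinearMap.ker_zero, finrank_top] at h3
      rw [h3]
      congr 1
      conv_rhs => rw [← Multiset.map_id μ']
      apply Multiset.map_congr rfl
      intro e he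
      simp only [id]
      exact min_eq_left (hμ'1 e he).2
    have hX₁d' : 2 * Module.finrank F X₁ = Module.finrank F V₁ := by
      rw [hV₁]
      omega
    -- the product model
    set B' : LinearMap.BilinForm F (V₁ × V₂) := Lib.Helper75.Nd.prodForm B₁ B₂ with hB'
    set M : (V₁ × V₂) →ₗ[F] (V₁ × V₂) := M₁.prodMap M₂ with hM
    have hS : ∀ x y, B' x y = B' y x := by
      intro x y
      rw [hB', Lib.Helper75.Nd.prodForm_apply, Lib.Helper75.Nd.prodForm_apply, hS₁, hS₂]
    have hnd' : Lib.Helper98.Sy.NonDeg B' ⊤ := by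
      intro x _ hx
      have h3 : x.1 = 0 := hnd₁ x.1 Submodule.mem_top (fun y _ => by
        have := hx (y, 0) Submodule.mem_top
        simpa [hB', Lib.Helper75.Nd.prodForm_apply] using this)
      have h4 : x.2 = 0 := hnd₂ x.2 Submodule.mem_top (fun y _ => by
        have := hx (0, y) Submodule.mem_top
        simpa [hB', Lib.Helper75.Nd.prodForm_apply] using this)
      exact Prod.ext h3 h4
    have hskew : ∀ x y, B' (M x) y = - B' x (M y) := by
      intro x y
      simp only [hB', hM, Lib.Helper75.Nd.prodForm_apply, LinearMap.prodMap_apply]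
      rw [hskew₁, hskew₂]
      ring
    have hMp : M ^ p = 0 := by
      rw [hM, Lib.Helper75.Nd.prodMap_pow', hMp₁, hMp₂, LinearMap.prodMap_zero]
    have hkerM : ∀ j : ℕ, Module.finrank F (LinearMap.ker (M ^ j)) =
        (μ.map (fun e => min e j)).sum := by
      intro j
      rw [hM, Lib.Helper75.Nd.prodMap_pow', Lib.Helper75.Nd.finrank_ker_prodMap, hker₁, hker₂, hμeq,
        Multiset.map_cons, Multiset.sum_cons, Multiset.map_cons, Multiset.sum_cons, hk, hk']
      ring
    have hminus : ∀ X : Submodule F (V₁ × V₂), (∀ x ∈ X, B' x x = 0) →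
        Module.finrank F X < d := by
      intro X hX
      have h3 := Lib.Helper14.Om.finrank_le_of_prod h2F B₁ B₂ hS₁ hS₂ hnd₁ hnd₂ X₁ hX₁ hX₁d' X₂
        hX₂ hX₂max X hX
      omega
    -- the Cayley transform
    obtain ⟨u', hiso', hu'p, hkeru⟩ := Lib.Helper80.Nd.exists_cayley hp2 B' M hskew hMp
    have hker : ∀ j, Module.finrank F (LinearMap.ker ((u' - 1) ^ j)) =
        (μ.map (fun e => min e j)).sum := by
      intro j
      rw [hkeru j]
      exact hkerM j
    have hNp' : (u' - 1) ^ p = 0 := by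
      rw [← LinearMap.ker_eq_top, hkeru p, hMp]
      exact LinearMap.ker_zero
    have hdim' : Module.finrank F (V₁ × V₂) = 2 * d := by
      have h3 := hkerM p
      rw [hMp, LinearMap.ker_zero, finrank_top] at h3
      rw [h3, ← hμs]
      congr 1
      conv_rhs => rw [← Multiset.map_id μ]
      apply Multiset.map_congr rfl
      intro e he
      simp only [id]
      exact min_eq_left (hμ1 e he).2
    have ha02 : 2 ≤ a0 := by
      have := (hμ1 a0 ha0μ).1
      omega
    have hcardlt : Multiset.card μ < μ.sum := by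
      have h3 : μ = a0 ::ₘ μ.erase a0 := (Multiset.cons_erase ha0μ).symm
      have h4 : Multiset.card (μ.erase a0) • 1 ≤ (μ.erase a0).sum :=
        Multiset.card_nsmul_le_sum (fun e he => (hμ1 e (Multiset.mem_of_mem_erase he)).1)
      rw [h3, Multiset.card_cons, Multiset.sum_cons]
      simp only [smul_eq_mul, mul_one] at h4
      omega
    have hk1 : Module.finrank F (LinearMap.ker (u' - 1)) = Multiset.card μ := by
      have h3 := hker 1
      rw [pow_one] at h3
      rw [h3]
      have : μ.map (fun e => min e 1) = μ.map (fun _ => 1) := by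
        apply Multiset.map_congr rfl
        intro e he
        exact min_eq_right (hμ1 e he).1
      rw [this, Multiset.map_const', Multiset.sum_replicate]
      simp
    have hns' : ∀ z : F, u' ≠ z • 1 := by
      intro z hz
      by_cases hz1 : z = 1
      · have : LinearMap.ker (u' - 1) = ⊤ := by
          rw [LinearMap.ker_eq_top, hz, hz1, one_smul, sub_self]
        rw [this, finrank_top, hdim'] at hk1
        omega
      · have : LinearMap.ker (u' - 1) = ⊥ := by
          rw [LinearMap.ker_eq_bot']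
          intro v hv
          rw [hz, LinearMap.sub_apply, LinearMap.smul_apply, Module.End.one_apply] at hv
          have h' : (z - 1) • v = 0 := by rw [sub_smul, one_smul]; exact hv
          rcases smul_eq_zero.mp h' with h | h
          · exact absurd (sub_eq_zero.mp h) hz1
          · exact h
        rw [this, finrank_bot] at hk1
        have hcpos : 0 < Multiset.card μ := Multiset.card_pos_iff_exists_mem.mpr ⟨a0, ha0μ⟩
        omega
    -- transport to `Ω⁻`
    obtain ⟨x, hxΩ, hxp, hxns, E, hE1, hE2⟩ := Lib.Helper32.Om.transport_minus h2F p hpodd d a b hab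
      B' hS hnd' hdim' hminus u' hiso' hu'p hns'
    obtain ⟨W, ⟨hWd, hWnd, hWnp⟩, hWinv⟩ := hL x hxΩ ⟨1, hxp⟩ hxns
    set W' : Submodule F (V₁ × V₂) :=
      W.map (E : ((Fin (d - 1) ⊕ Fin (d - 1)) ⊕ Fin 2 → F) →ₗ[F] (V₁ × V₂)) with hW'
    have hW'inv : Lib.Helper98.Elus.Inv u' W' := by
      rintro _ ⟨w, hw, rfl⟩
      show u' (E w) ∈ _
      rw [← hE1]
      exact ⟨_, hWinv ⟨w, hw, rfl⟩, rfl⟩
    have hW'nd : Lib.Helper98.Sy.NonDeg B' W' := by
      rintro _ ⟨w, hw, rfl⟩ h
      by_contra hne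
      have hw0 : w ≠ 0 := by
        rintro rfl
        exact hne (by simp)
      obtain ⟨-, ⟨y, hy, hy'⟩⟩ := hWnd w hw hw0
      apply hy'
      rw [← hE2]
      exact h _ ⟨y, hy, rfl⟩
    have hW'd : Module.finrank F W' = m := by
      rw [hW', LinearEquiv.finrank_map_eq]
      exact hWd
    -- `W'` contains no totally singular subspace of half its dimension
    have hW'np : ∀ X' : Submodule F (V₁ × V₂), X' ≤ W' → (∀ x ∈ X', B' x x = 0) →
        2 * Module.finrank F X' ≠ m := by
      intro X' hX'W hX' hdX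
      apply hWnp
      refine ⟨X'.comap (E : ((Fin (d - 1) ⊕ Fin (d - 1)) ⊕ Fin 2 → F) →ₗ[F] (V₁ × V₂)), ?_, ?_, ?_⟩
      · intro v hv
        obtain ⟨w, hw, hwe⟩ := hX'W (Submodule.mem_comap.mp hv)
        have : w = v := E.injective hwe
        rw [← this]
        exact hw
      · intro v hv
        have h3 := hX' _ (Submodule.mem_comap.mp hv)
        have h4 : (E : ((Fin (d - 1) ⊕ Fin (d - 1)) ⊕ Fin 2 → F) →ₗ[F] (V₁ × V₂)) v = E v := rfl
        rw [h4, hE2] at h3
        have h5 := QuadraticMap.polar_self (Lib.Helper50.QMinus (d - 1) F a b) v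
        have h6 : (⇑(Lib.Helper50.QMinus (d - 1) F a b) :
          ((Fin (d - 1) ⊕ Fin (d - 1)) ⊕ Fin 2 → F) → F) = Cfsg.quadFormMinus (d - 1) F a b := rfl
        rw [h6, h3, two_smul, ← two_mul] at h5
        rcases mul_eq_zero.mp h5.symm with h | h
        · exact absurd h h2F
        · exact h
      · have h3 : X'.comap (E : ((Fin (d - 1) ⊕ Fin (d - 1)) ⊕ Fin 2 → F) →ₗ[F] (V₁ × V₂)) =
            X'.map (E.symm : (V₁ × V₂) →ₗ[F] ((Fin (d - 1) ⊕ Fin (d - 1)) ⊕ Fin 2 → F)) :=
          (Submodule.map_equiv_eq_comap_symm E.symm X').symm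
        rw [h3, LinearEquiv.finrank_map_eq, hWd]
        exact hdX
    -- the Jordan types
    have hchain' : Lib.Helper98.Nd.ChainStatement F (V₁ × V₂) := fun N e a v hN hli k =>
      Lib.Helper85.Nd.finrank_inf_ker_of_chains N e a v hN hli k
    have hR := Lib.Helper98.Os.isRefl_of_symm hS
    obtain ⟨ν, n1, n2, n3, n4⟩ := Lib.Helper98.Os.exists_type_symm hchain' hS h2F p hpr.pos u' hu'p
      hNp' hiso' (Module.finrank F W') W' hW'inv hW'nd rfl
    obtain ⟨c1, c2, c3, c4⟩ := Lib.Helper98.Os.compl_props hR W' ⊤ hW'nd le_top hnd'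
    set W'' := B'.orthogonal W' ⊓ ⊤ with hW''
    have hW''inv : Lib.Helper98.Elus.Inv u' W'' :=
      (Lib.Helper98.Sy.inv_orth p hpr.pos u' hu'p hiso' W' hW'inv).inf (Lib.Helper98.Nd.inv_top u')
    obtain ⟨ν', n1', n2', n3', n4'⟩ := Lib.Helper98.Os.exists_type_symm hchain' hS h2F p hpr.pos u'
      hu'p hNp' hiso' (Module.finrank F W'') W'' hW''inv c3 rfl
    have hsum : ∀ j, (μ.map (fun e => min e j)).sum = ((ν + ν').map (fun e => min e j)).sum := by
      intro j
      have := Lib.Helper98.Nd.finrank_sup_inf_ker (u' - 1) W' W''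
        (Lib.Helper98.Nd.inv_sub_one u' W' hW'inv) (Lib.Helper98.Nd.inv_sub_one u' W'' hW''inv) c2 j
      rw [c1, top_inf_eq, hker j, n4 j, n4' j] at this
      rw [this, Multiset.map_add, Multiset.sum_add]
    have heq := huniq μ (ν + ν') (fun e he => (hμ1 e he).1) (by
      intro e he
      rcases Multiset.mem_add.mp he with h | h
      · exact (n1 e h).1
      · exact (n1' e h).1) hsum
    refine ⟨ν, ?_, by rw [n3, hW'd], n2, ?_⟩
    · rw [heq]
      exact Multiset.le_add_right ν ν'
    · intro hle2 hcard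
      have hN2 : (u' - 1) ^ 2 = 0 := by
        rw [← LinearMap.ker_eq_top]
        apply Submodule.eq_top_of_finrank_eq
        rw [hker 2, hdim', ← hμs]
        congr 1
        conv_rhs => rw [← Multiset.map_id μ]
        apply Multiset.map_congr rfl
        intro e he
        simp only [id]
        exact min_eq_left (hle2 e he)
      have hk1' : Module.finrank F ↥(W' ⊓ LinearMap.ker (u' - 1)) = Multiset.card ν := by
        have h3 := n4 1
        rw [pow_one] at h3
        rw [h3]
        have : ν.map (fun e => min e 1) = ν.map (fun _ => 1) := by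
          apply Multiset.map_congr rfl
          intro e he
          exact min_eq_right (n1 e he).1
        rw [this, Multiset.map_const', Multiset.sum_replicate]
        simp
      obtain ⟨X', hX'W, hX', hX'd⟩ := Lib.Helper16.Om.exists_ts_of_sq_zero B' u' hiso' hN2 W'
        hW'inv (by rw [hk1', hW'd]; exact hcard)
      exact hW'np X' hX'W hX' (by rw [hX'd, hW'd])
  -- partitions with an odd part
  have partOdd : ∀ μ : Multiset ℕ, (∀ e ∈ μ, 0 < e ∧ e ≤ p) →
      (∀ e : ℕ, Even e → Even (μ.count e)) → μ.sum = 2 * d → (∃ e ∈ μ, Odd e) →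
      ∃ ν : Multiset ℕ, ν ≤ μ ∧ ν.sum = m ∧ ∀ e : ℕ, Even e → Even (ν.count e) := by
    intro μ hμ1 hμ2 hμs hodd
    by_cases hall1 : ∀ e ∈ μ, e = 1
    · have hμ : μ = Multiset.replicate (Multiset.card μ) 1 := Multiset.eq_replicate_card.mpr hall1
      have hcard : Multiset.card μ = 2 * d := by
        rw [hμ, Multiset.sum_replicate] at hμs
        simpa using hμs
      refine ⟨Multiset.replicate m 1, ?_, ?_, ?_⟩
      · rw [hμ, hcard, Multiset.replicate_le_replicate]
        exact hm2d
      · rw [Multiset.sum_replicate]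
        simp
      · intro e he
        rw [Multiset.count_replicate]
        split_ifs with h1
        · exfalso
          rw [← h1] at he
          exact (Nat.not_even_iff_odd.mpr odd_one) he
        · exact Even.zero
    · push Not at hall1
      obtain ⟨ν, h1, h2, h3, -⟩ := key μ hμ1 hμ2 hμs hodd hall1
      exact ⟨ν, h1, h2, h3⟩
  refine ⟨?_, ?_⟩
  · -- the congruence modulo 4
    rcases Nat.even_or_odd d with hde | hdo
    · obtain ⟨c, hc⟩ := hde
      have hμ1 : ∀ e ∈ (3 ::ₘ 1 ::ₘ Multiset.replicate (d - 2) 2 : Multiset ℕ), 0 < e ∧ e ≤ p := by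
        intro e he
        rcases Multiset.mem_cons.mp he with h | he
        · omega
        rcases Multiset.mem_cons.mp he with h | he
        · omega
        · have := Multiset.eq_of_mem_replicate he
          omega
      have hμ2 : ∀ e : ℕ, Even e →
          Even ((3 ::ₘ 1 ::ₘ Multiset.replicate (d - 2) 2 : Multiset ℕ).count e) := by
        intro e he
        have hne₁ : e ≠ 3 := by
          rintro rfl
          obtain ⟨t, ht⟩ := he
          omega
        have hne₂ : e ≠ 1 := by
          rintro rfl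
          obtain ⟨t, ht⟩ := he
          omega
        rw [Multiset.count_cons_of_ne hne₁, Multiset.count_cons_of_ne hne₂, Multiset.count_replicate]
        split_ifs
        · exact ⟨c - 1, by omega⟩
        · exact Even.zero
      have hμs : (3 ::ₘ 1 ::ₘ Multiset.replicate (d - 2) 2 : Multiset ℕ).sum = 2 * d := by
        rw [Multiset.sum_cons, Multiset.sum_cons, Multiset.sum_replicate, smul_eq_mul]
        omega
      obtain ⟨ν, h1, h2, h3⟩ := partOdd _ hμ1 hμ2 hμs ⟨3, by simp, by decide⟩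
      have h4 := Lib.Helper56.Om.test_even (d - 2) m hme ν h1 h2 h3
      omega
    · obtain ⟨c, hc⟩ := hdo
      have hμ1 : ∀ e ∈ (1 ::ₘ 1 ::ₘ Multiset.replicate (d - 1) 2 : Multiset ℕ), 0 < e ∧ e ≤ p := by
        intro e he
        rcases Multiset.mem_cons.mp he with h | he
        · omega
        rcases Multiset.mem_cons.mp he with h | he
        · omega
        · have := Multiset.eq_of_mem_replicate he
          omega
      have hμ2 : ∀ e : ℕ, Even e →
          Even ((1 ::ₘ 1 ::ₘ Multiset.replicate (d - 1) 2 : Multiset ℕ).count e) := by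
        intro e he
        have hne₂ : e ≠ 1 := by
          rintro rfl
          obtain ⟨t, ht⟩ := he
          omega
        rw [Multiset.count_cons_of_ne hne₂, Multiset.count_cons_of_ne hne₂, Multiset.count_replicate]
        split_ifs
        · exact ⟨c, by omega⟩
        · exact Even.zero
      have hμs : (1 ::ₘ 1 ::ₘ Multiset.replicate (d - 1) 2 : Multiset ℕ).sum = 2 * d := by
        rw [Multiset.sum_cons, Multiset.sum_cons, Multiset.sum_replicate, smul_eq_mul]
        omega
      have h2mem : (2 : ℕ) ∈ (1 ::ₘ 1 ::ₘ Multiset.replicate (d - 1) 2 : Multiset ℕ) := by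
        apply Multiset.mem_cons_of_mem
        apply Multiset.mem_cons_of_mem
        rw [Multiset.mem_replicate]
        exact ⟨by omega, rfl⟩
      obtain ⟨ν, h1, h2, h3, h4⟩ := key _ hμ1 hμ2 hμs ⟨1, by simp, by decide⟩ ⟨2, h2mem, by decide⟩
      rcases Lib.Helper56.Om.test_odd (d - 1) m hme ν h1 h2 h3 with h | h
      · omega
      · exfalso
        apply h4
        · intro e he
          rcases Multiset.mem_cons.mp he with h | he
          · omega
          rcases Multiset.mem_cons.mp he with h | he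
          · omega
          · have := Multiset.eq_of_mem_replicate he
            omega
        · rw [h, Multiset.card_replicate]
          obtain ⟨t, ht⟩ := hme
          omega
  · -- the partition condition
    intro μ hμ1 hμ2 hμs
    by_cases hodd : ∃ e ∈ μ, Odd e
    · exact partOdd μ hμ1 hμ2 hμs hodd
    · push Not at hodd
      have hne : μ ≠ 0 := by
        rintro rfl
        simp at hμs
        omega
      apply Lib.Helper32.Om.sub_of_all_even p m hpodd hme μ hμ1 hμ2
        (fun e he => Nat.not_odd_iff_even.mp (hodd e he)) hne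
      intro μ' h1 h2 h3 h4
      exact partOdd μ' h1 h2 (by rw [h3, hμs]) h4

end Cfsg.Agent.S5994
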