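import Cfsg.Statements.S5995
import Cfsg.Agent.Lib.Helper98.Os3
import Cfsg.Agent.Lib.Helper26.OsD
import Cfsg.Agent.Lib.Helper41.OsU
import Cfsg.Agent.Lib.Helper90.OsM
import Cfsg.Agent.Lib.Helper02.NdB
import Cfsg.Agent.Lib.Helper80.NdE
import Cfsg.Agent.Lib.Helper85.NdI

set_option autoImplicit false
set_option linter.style.haveILetI false
set_option maxHeartbeats 1600000
open scoped MatrixGroups
open Cfsg

namespace Cfsg.Agent.S5995

/-- A necessary condition for every element of order p of Ω_n(q), nq odd, to fix a hyperbolic `m`-space. Here `T = Ω_n(F)`, `n = 2d+1 ≥ 7`, `q` odd, realised as the commutator subgroup of the isometry group of `Q = x₀² + Σ xᵢyᵢ` over the field `F` with `q` elements (trivial centre, so its elements of prime order `r` are used directly); a nondegenerate `m`-space (even `m`) is a subspace on which the polar form of `Q` is nondegenerate; it is hyperbolic if it contains an `m/2`-dimensional subspace on which `Q` vanishes, elliptic otherwise. Let `m` be even with `2 ≤ m ≤ n −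 1` and suppose `p` divides the number of hyperbolic `m`-spaces. If every element of `T` of order `p` fixes some hyperbolic `m`-space, then `m ≡ 0 (mod 4)` and every partition of `n` into parts of size at most `p` in which every even part has even multiplicity contains (as a sub-multiset) a partition of `m` in which every even part has even multiplicity. -/
theorem result {F : Type*} [Field F] [Fintype F] {p : ℕ} [Fact p.Prime] [CharP F p] {q : ℕ} (hq : Fintype.card F = q) (hqodd : Odd q)
    (d m : ℕ) (hd : 3 ≤ d) (hm : 2 ≤ m) (hme : Even m) (hmn : m ≤ 2 * d)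
    (hpΩ : p ∣ Nat.card {W : Submodule F (Unit ⊕ (Fin d ⊕ Fin d) → F) // Module.finrank F ↥W = m ∧ Cfsg.Geo.IsNondegenerateOn (QuadraticMap.polar (Cfsg.quadFormOdd d F)) W ∧ Cfsg.Geo.IsPlusTypeOn (Cfsg.quadFormOdd d F) W}) :
    (∀ x : GL (Unit ⊕ (Fin d ⊕ Fin d)) F, x ∈ Cfsg.Geo.omegaGL (Cfsg.quadFormOdd d F) → orderOf x = p →
      ∃ W : Submodule F (Unit ⊕ (Fin d ⊕ Fin d) → F), (Module.finrank F ↥W = m ∧ Cfsg.Geo.IsNondegenerateOn (QuadraticMap.polar (Cfsg.quadFormOdd d F)) W ∧ Cfsg.Geo.IsPlusTypeOn (Cfsg.quadFormOdd d F) W) ∧ W.map (Matrix.toLin' (x : Matrix (Unit ⊕ (Fin d ⊕ Fin d)) (Unit ⊕ (Fin d ⊕ Fin d)) F)) ≤ W) →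
    (m % 4 = 0 ∧ (∀ μ : Multiset ℕ, (∀ e ∈ μ, 0 < e ∧ e ≤ p) → (∀ e : ℕ, Even e → Even (μ.count e)) → μ.sum = 2 * d + 1 →
        ∃ ν : Multiset ℕ, ν ≤ μ ∧ ν.sum = m ∧ ∀ e : ℕ, Even e → Even (ν.count e))) := by
  classical
  intro hL
  subst hq
  have hpr : p.Prime := Fact.out
  have h2F : (2 : F) ≠ 0 := by
    intro h
    have h' : ((2 : ℕ) : F) = 0 := by exact_mod_cast h
    rw [CharP.cast_eq_zero_iff F p] at h'
    have hp2 : p = 2 := (Nat.prime_dvd_prime_iff_eq hpr Nat.prime_two).mp h'
    obtain ⟨n, -, hn⟩ := FiniteField.card F p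
    rw [hn, hp2] at hqodd
    have : Even (2 ^ (n : ℕ)) := (Nat.even_pow' n.pos.ne').mpr even_two
    exact (Nat.not_even_iff_odd.mpr hqodd) this
  have hp2 : p ≠ 2 := by
    intro h
    apply h2F
    have := CharP.cast_eq_zero F p
    rw [h] at this
    exact_mod_cast this
  have hpodd : Odd p := hpr.odd_of_ne_two hp2
  have hp3 : 3 ≤ p := by
    have := hpr.two_le
    omega
  have hm2d : m ≤ 2 * d + 1 := by omega
  have huniq : Lib.Helper98.Nd.UniqStatement := fun μ μ' h1 h2 h3 =>
    Lib.Helper02.Nd.eq_of_sum_min_eq μ μ' h1 h2 h3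
  have hcond : ∀ μ : Multiset ℕ, (∀ e ∈ μ, 0 < e ∧ e ≤ p) → (∀ e : ℕ, Even e → Even (μ.count e)) →
      μ.sum = 2 * d + 1 →
      ∃ ν : Multiset ℕ, ν ≤ μ ∧ ν.sum = m ∧ ∀ e : ℕ, Even e → Even (ν.count e) := by
    intro μ hμ1 hμ2 hμs
    by_cases hall1 : ∀ a ∈ μ, a = 1
    · have hμ : μ = Multiset.replicate (Multiset.card μ) 1 := Multiset.eq_replicate_card.mpr hall1
      have hcard : Multiset.card μ = 2 * d + 1 := by
        rw [hμ, Multiset.sum_replicate] at hμs
        simpa using hμs
      refine ⟨Multiset.replicate m 1, ?_, ?_, ?_⟩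
      · rw [hμ, hcard, Multiset.replicate_le_replicate]
        exact hm2d
      · rw [Multiset.sum_replicate]
        simp
      · intro a ha
        rw [Multiset.count_replicate]
        split_ifs with h1
        · exfalso
          rw [← h1] at ha
          exact (Nat.not_even_iff_odd.mpr odd_one) ha
        · exact Even.zero
    · push Not at hall1
      obtain ⟨a0, ha0μ, ha01⟩ := hall1
      have ha02 : 2 ≤ a0 := by
        have := (hμ1 a0 ha0μ).1
        omega
      have hcardlt : Multiset.card μ < μ.sum := by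
        have h1 : μ = a0 ::ₘ μ.erase a0 := (Multiset.cons_erase ha0μ).symm
        have h2 : Multiset.card (μ.erase a0) • 1 ≤ (μ.erase a0).sum :=
          Multiset.card_nsmul_le_sum (fun a ha => (hμ1 a (Multiset.mem_of_mem_erase ha)).1)
        rw [h1, Multiset.card_cons, Multiset.sum_cons]
        simp only [smul_eq_mul, mul_one] at h2
        omega
      obtain ⟨V', i1, i2, i3, B', M, X, hS, hnd', hskew, hMp, hkerM, hX, hXd⟩ :=
        Lib.Helper26.Os.exists_skew_model_symm (F := F) (p := p) h2F μ hμ1 hμ2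
      obtain ⟨u', hiso', hu'p, hkeru⟩ := Lib.Helper80.Nd.exists_cayley hp2 B' M hskew hMp
      have hker : ∀ k, Module.finrank F (LinearMap.ker ((u' - 1) ^ k)) =
          (μ.map (fun a => min a k)).sum := by
        intro k
        rw [hkeru k]
        exact hkerM k
      have hNp' : (u' - 1) ^ p = 0 := by
        rw [← LinearMap.ker_eq_top, hkeru p, hMp]
        exact LinearMap.ker_zero
      have hdim' : Module.finrank F V' = 2 * d + 1 := by
        have h1 := hkerM p
        rw [hMp, LinearMap.ker_zero, finrank_top] at h1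
        rw [h1, ← hμs]
        congr 1
        conv_rhs => rw [← Multiset.map_id μ]
        apply Multiset.map_congr rfl
        intro a ha
        simp only [id]
        exact min_eq_left (hμ1 a ha).2
      have hk1 : Module.finrank F (LinearMap.ker (u' - 1)) = Multiset.card μ := by
        have h1 := hker 1
        rw [pow_one] at h1
        rw [h1]
        have : μ.map (fun a => min a 1) = μ.map (fun _ => 1) := by
          apply Multiset.map_congr rfl
          intro a ha
          exact min_eq_right (hμ1 a ha).1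
        rw [this, Multiset.map_const', Multiset.sum_replicate]
        simp
      have hu1 : u' ≠ 1 := by
        intro hz
        have : LinearMap.ker (u' - 1) = ⊤ := by
          rw [LinearMap.ker_eq_top, hz, sub_self]
        rw [this, finrank_top, hdim'] at hk1
        omega
      obtain ⟨x, hxΩ, hxp, c, hc, E, hE1, hE2⟩ := Lib.Helper41.Os.transport_odd h2F p hpodd d B' hS
        hnd' hdim' u' hiso' hu'p hu1
      obtain ⟨W, ⟨hWd, hWnd, -⟩, hWinv⟩ := hL x hxΩ hxp
      have hW'inv : Lib.Helper98.Elus.Inv u'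
          (W.map (E : (Unit ⊕ (Fin d ⊕ Fin d) → F) →ₗ[F] V')) := by
        rintro _ ⟨w, hw, rfl⟩
        show u' (E w) ∈ _
        rw [← hE1]
        exact ⟨_, hWinv ⟨w, hw, rfl⟩, rfl⟩
      have hW'nd : Lib.Helper98.Sy.NonDeg B'
          (W.map (E : (Unit ⊕ (Fin d ⊕ Fin d) → F) →ₗ[F] V')) := by
        rintro _ ⟨w, hw, rfl⟩ h
        by_contra hne
        have hw0 : w ≠ 0 := by
          rintro rfl
          exact hne (by simp)
        obtain ⟨-, ⟨y, hy, hy'⟩⟩ := hWnd w hw hw0
        apply hy'
        have h1 := h _ ⟨y, hy, rfl⟩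
        change B' (E w) (E y) = 0 at h1
        rw [hE2] at h1
        rcases mul_eq_zero.mp h1 with h2 | h2
        · exact absurd h2 hc
        · exact h2
      have hW'd : Module.finrank F (W.map (E : (Unit ⊕ (Fin d ⊕ Fin d) → F) →ₗ[F] V')) = m := by
        rw [LinearEquiv.finrank_map_eq]
        exact hWd
      have hchain' : Lib.Helper98.Nd.ChainStatement F V' := fun N e a v hN hli k =>
        Lib.Helper85.Nd.finrank_inf_ker_of_chains N e a v hN hli k
      obtain ⟨ν, hν1, hν2, hν3⟩ := Lib.Helper98.Os.exists_sub_type_symm hchain' huniq hS hnd' h2F p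
        hpr.pos u' hu'p hNp' hiso' μ (fun a ha => (hμ1 a ha).1) hker _ hW'inv hW'nd
      exact ⟨ν, hν1, by rw [hν2, hW'd], hν3⟩
  exact ⟨Lib.Helper90.Os.four_dvd_of_partition_condition p d m hp3 hme hcond, hcond⟩

end Cfsg.Agent.S5995
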