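import Cfsg.Statements.S5996
import Cfsg.Agent.Lib.Helper98.Os3
import Cfsg.Agent.Lib.Helper26.OsD
import Cfsg.Agent.Lib.Helper34.OsT
import Cfsg.Agent.Lib.Helper02.NdB
import Cfsg.Agent.Lib.Helper80.NdE
import Cfsg.Agent.Lib.Helper85.NdI

set_option autoImplicit false
set_option linter.style.haveILetI false
set_option maxHeartbeats 1600000
open scoped MatrixGroups
open Cfsg

namespace Cfsg.Agent.S5996

/-- A necessary condition for every element of order p of PΩ⁺_n(q), q odd, to fix a hyperbolic `m`-space. Here `T = PΩ⁺_n(F)`, `n = 2d ≥ 8`, realised through `Ω⁺_n(q)`, the commutator subgroup of the isometry group of `Q = Σ xᵢyᵢ` over the field `F` with `q` elements; an element of `T` of prime order `r` is an element `x` of `Ω⁺_n(q)` with `x^r` scalar and `x` not scalar; `q` is odd; a nondegenerate `m`-space (even `m`) is a subspace on which the polar form of `Q` is nondegenerate; it is hyperbolic if it contains an `m/2`-dimensional subspace on which `Q` vanishes, elliptic otherwise. Let `m`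 be even with `2 ≤ m < n/2` and suppose `p` divides the number of hyperbolic `m`-spaces. If every element of `T` of order `p` fixes some hyperbolic `m`-space, then every partition of `n` into parts of size at most `p` in which every even part has even multiplicity contains (as a sub-multiset) a partition of `m` in which every even part has even multiplicity. -/
theorem result {F : Type*} [Field F] [Fintype F] {p : ℕ} [Fact p.Prime] [CharP F p] {q : ℕ} (hq : Fintype.card F = q) (hqodd : Odd q)
    (d m : ℕ) (hd : 4 ≤ d) (hm : 2 ≤ m) (hme : Even m) (hmd : m < d)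
    (hpΩ : p ∣ Nat.card {W : Submodule F (Fin d ⊕ Fin d → F) // Module.finrank F ↥W = m ∧ Cfsg.Geo.IsNondegenerateOn (QuadraticMap.polar (Cfsg.quadFormPlus d F)) W ∧ Cfsg.Geo.IsPlusTypeOn (Cfsg.quadFormPlus d F) W}) :
    (∀ x : GL (Fin d ⊕ Fin d) F, x ∈ Cfsg.Geo.omegaGL (Cfsg.quadFormPlus d F) →
      (∃ z : F, ((x ^ p : GL (Fin d ⊕ Fin d) F) : Matrix (Fin d ⊕ Fin d) (Fin d ⊕ Fin d) F) = z • (1 : Matrix (Fin d ⊕ Fin d) (Fin d ⊕ Fin d) F)) →
      (∀ z : F, (x : Matrix (Fin d ⊕ Fin d) (Fin d ⊕ Fin d) F) ≠ z • (1 : Matrix (Fin d ⊕ Fin d) (Fin d ⊕ Fin d) F)) →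
      ∃ W : Submodule F (Fin d ⊕ Fin d → F), (Module.finrank F ↥W = m ∧ Cfsg.Geo.IsNondegenerateOn (QuadraticMap.polar (Cfsg.quadFormPlus d F)) W ∧ Cfsg.Geo.IsPlusTypeOn (Cfsg.quadFormPlus d F) W) ∧ W.map (Matrix.toLin' (x : Matrix (Fin d ⊕ Fin d) (Fin d ⊕ Fin d) F)) ≤ W) →
    (∀ μ : Multiset ℕ, (∀ e ∈ μ, 0 < e ∧ e ≤ p) → (∀ e : ℕ, Even e → Even (μ.count e)) → μ.sum = 2 * d →
        ∃ ν : Multiset ℕ, ν ≤ μ ∧ ν.sum = m ∧ ∀ e : ℕ, Even e → Even (ν.count e)) := by
  classical
  intro hL μ hμ1 hμ2 hμs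
  subst hq
  have hpr : p.Prime := Fact.out
  have h2F : (2 : F) ≠ 0 := by
    intro h
    have h' : ((2 : ℕ) : F) = 0 := by exact_mod_cast h
    rw [CharP.cast_eq_zero_iff F p] at h'
    have hp2 : p = 2 := (Nat.prime_dvd_prime_iff_eq hpr Nat.prime_two).mp h'
    obtain ⟨n, -, hn⟩ := FiniteField.card F p
    rw [hn, hp2] at hqodd
    have : Even (2 ^ (n : ℕ)) := (Nat.even_pow' n.pos.ne').mpr even_two
    exact (Nat.not_even_iff_odd.mpr hqodd) this
  have hp2 : p ≠ 2 := by
    intro h
    apply h2F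
    have := CharP.cast_eq_zero F p
    rw [h] at this
    exact_mod_cast this
  have hpodd : Odd p := hpr.odd_of_ne_two hp2
  have hm2d : m ≤ 2 * d := by omega
  have huniq : Lib.Helper98.Nd.UniqStatement := fun μ μ' h1 h2 h3 =>
    Lib.Helper02.Nd.eq_of_sum_min_eq μ μ' h1 h2 h3
  by_cases hall1 : ∀ a ∈ μ, a = 1
  · have hμ : μ = Multiset.replicate (Multiset.card μ) 1 := Multiset.eq_replicate_card.mpr hall1
    have hcard : Multiset.card μ = 2 * d := by
      rw [hμ, Multiset.sum_replicate] at hμs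
      simpa using hμs
    refine ⟨Multiset.replicate m 1, ?_, ?_, ?_⟩
    · rw [hμ, hcard, Multiset.replicate_le_replicate]
      exact hm2d
    · rw [Multiset.sum_replicate]
      simp
    · intro a ha
      rw [Multiset.count_replicate]
      split_ifs with h1
      · exfalso
        rw [← h1] at ha
        exact (Nat.not_even_iff_odd.mpr odd_one) ha
      · exact Even.zero
  · push Not at hall1
    obtain ⟨a0, ha0μ, ha01⟩ := hall1
    have ha02 : 2 ≤ a0 := by
      have := (hμ1 a0 ha0μ).1
      omega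
    have hcardlt : Multiset.card μ < μ.sum := by
      have h1 : μ = a0 ::ₘ μ.erase a0 := (Multiset.cons_erase ha0μ).symm
      have h2 : Multiset.card (μ.erase a0) • 1 ≤ (μ.erase a0).sum :=
        Multiset.card_nsmul_le_sum (fun a ha => (hμ1 a (Multiset.mem_of_mem_erase ha)).1)
      rw [h1, Multiset.card_cons, Multiset.sum_cons]
      simp only [smul_eq_mul, mul_one] at h2
      omega
    obtain ⟨V', i1, i2, i3, B', M, X, hS, hnd', hskew, hMp, hkerM, hX, hXd⟩ :=
      Lib.Helper26.Os.exists_skew_model_symm (F := F) (p := p) h2F μ hμ1 hμ2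
    obtain ⟨u', hiso', hu'p, hkeru⟩ := Lib.Helper80.Nd.exists_cayley hp2 B' M hskew hMp
    have hker : ∀ k, Module.finrank F (LinearMap.ker ((u' - 1) ^ k)) =
        (μ.map (fun a => min a k)).sum := by
      intro k
      rw [hkeru k]
      exact hkerM k
    have hNp' : (u' - 1) ^ p = 0 := by
      rw [← LinearMap.ker_eq_top, hkeru p, hMp]
      exact LinearMap.ker_zero
    have hdim' : Module.finrank F V' = 2 * d := by
      have h1 := hkerM p
      rw [hMp, LinearMap.ker_zero, finrank_top] at h1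
      rw [h1, ← hμs]
      congr 1
      conv_rhs => rw [← Multiset.map_id μ]
      apply Multiset.map_congr rfl
      intro a ha
      simp only [id]
      exact min_eq_left (hμ1 a ha).2
    have hk1 : Module.finrank F (LinearMap.ker (u' - 1)) = Multiset.card μ := by
      have h1 := hker 1
      rw [pow_one] at h1
      rw [h1]
      have : μ.map (fun a => min a 1) = μ.map (fun _ => 1) := by
        apply Multiset.map_congr rfl
        intro a ha
        exact min_eq_right (hμ1 a ha).1
      rw [this, Multiset.map_const', Multiset.sum_replicate]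
      simp
    have hns' : ∀ z : F, u' ≠ z • 1 := by
      intro z hz
      by_cases hz1 : z = 1
      · have : LinearMap.ker (u' - 1) = ⊤ := by
          rw [LinearMap.ker_eq_top, hz, hz1, one_smul, sub_self]
        rw [this, finrank_top, hdim'] at hk1
        omega
      · have : LinearMap.ker (u' - 1) = ⊥ := by
          rw [LinearMap.ker_eq_bot']
          intro v hv
          rw [hz, LinearMap.sub_apply, LinearMap.smul_apply, Module.End.one_apply] at hv
          have h' : (z - 1) • v = 0 := by rw [sub_smul, one_smul]; exact hv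
          rcases smul_eq_zero.mp h' with h | h
          · exact absurd (sub_eq_zero.mp h) hz1
          · exact h
        rw [this, finrank_bot] at hk1
        have hcpos : 0 < Multiset.card μ := Multiset.card_pos_iff_exists_mem.mpr ⟨a0, ha0μ⟩
        omega
    have hXd' : Module.finrank F X = d := by
      rw [hμs] at hXd
      omega
    obtain ⟨x, hxΩ, hxp, hxns, E, hE1, hE2⟩ := Lib.Helper34.Os.transport_plus h2F p hpodd d B' hS
      hnd' hdim' X hX hXd' u' hiso' hu'p hns'
    obtain ⟨W, ⟨hWd, hWnd, -⟩, hWinv⟩ := hL x hxΩ ⟨1, hxp⟩ hxns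
    have hW'inv : Lib.Helper98.Elus.Inv u' (W.map (E : (Fin d ⊕ Fin d → F) →ₗ[F] V')) := by
      rintro _ ⟨w, hw, rfl⟩
      show u' (E w) ∈ _
      rw [← hE1]
      exact ⟨_, hWinv ⟨w, hw, rfl⟩, rfl⟩
    have hW'nd : Lib.Helper98.Sy.NonDeg B' (W.map (E : (Fin d ⊕ Fin d → F) →ₗ[F] V')) := by
      rintro _ ⟨w, hw, rfl⟩ h
      by_contra hne
      have hw0 : w ≠ 0 := by
        rintro rfl
        exact hne (by simp)
      obtain ⟨-, ⟨y, hy, hy'⟩⟩ := hWnd w hw hw0
      apply hy'
      rw [← hE2]
      exact h _ ⟨y, hy, rfl⟩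
    have hW'd : Module.finrank F (W.map (E : (Fin d ⊕ Fin d → F) →ₗ[F] V')) = m := by
      rw [LinearEquiv.finrank_map_eq]
      exact hWd
    have hchain' : Lib.Helper98.Nd.ChainStatement F V' := fun N e a v hN hli k =>
      Lib.Helper85.Nd.finrank_inf_ker_of_chains N e a v hN hli k
    obtain ⟨ν, hν1, hν2, hν3⟩ := Lib.Helper98.Os.exists_sub_type_symm hchain' huniq hS hnd' h2F p
      hpr.pos u' hu'p hNp' hiso' μ (fun a ha => (hμ1 a ha).1) hker _ hW'inv hW'nd
    exact ⟨ν, hν1, by rw [hν2, hW'd], hν3⟩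

end Cfsg.Agent.S5996
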