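import Mathlib
import Cfsg.Statements.S5997
import Cfsg.Agent.Lib.Helper99.Q8GL2
import Cfsg.Agent.Lib.Helper99.PGroupCount

set_option autoImplicit false
open Cfsg

namespace Cfsg.Agent.S5997

open Matrix Cfsg.Agent.Lib.Helper99

section aux
variable {F : Type*} [Field F]

lemma mem_SL_iff (x : GL (Fin 2) F) :
    x ∈ Cfsg.Geo.specialLinear (Fin 2) F ↔ (x : Matrix (Fin 2) (Fin 2) F).det = 1 := by
  unfold Cfsg.Geo.specialLinear
  rw [MonoidHom.mem_ker, Units.ext_iff, Matrix.GeneralLinearGroup.val_det_apply, Units.val_one]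

/-- scalar if a nonzero multiple is scalar -/
lemma scalar_of_smul {x : Matrix (Fin 2) (Fin 2) F} {t c : F} (ht : t ≠ 0)
    (h : t • x = c • (1 : Matrix (Fin 2) (Fin 2) F)) : x = (c / t) • (1 : Matrix (Fin 2) (Fin 2) F) := by
  calc x = t⁻¹ • (t • x) := by rw [smul_smul, inv_mul_cancel₀ ht, one_smul]
    _ = (c / t) • (1 : Matrix (Fin 2) (Fin 2) F) := by rw [h, smul_smul]; congr 1; field_simp

/-- build a `GL` element conjugating `x` to `y` from a matrix-level conjugation -/
lemma conj_of_matrix {x y : GL (Fin 2) F} {g : Matrix (Fin 2) (Fin 2) F} (hg : g.det = 1)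
    (h : (x : Matrix (Fin 2) (Fin 2) F) * g = g * (y : Matrix (Fin 2) (Fin 2) F)) :
    ∃ G ∈ Cfsg.Geo.specialLinear (Fin 2) F, G⁻¹ * x * G = y := by
  refine ⟨Matrix.GeneralLinearGroup.mkOfDetNeZero g (by rw [hg]; exact one_ne_zero), ?_, ?_⟩
  · rw [mem_SL_iff]; exact hg
  · have e : x * Matrix.GeneralLinearGroup.mkOfDetNeZero g (by rw [hg]; exact one_ne_zero) =
        Matrix.GeneralLinearGroup.mkOfDetNeZero g (by rw [hg]; exact one_ne_zero) * y := by
      apply Units.ext
      simp only [Units.val_mul]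
      exact h
    rw [mul_assoc, e, inv_mul_cancel_left]

end aux

theorem result {F : Type*} [Field F] [Fintype F] {p : ℕ} [Fact p.Prime] [CharP F p] (hF : Fintype.card F = p) (hp : 5 ≤ p)
    (R : Subgroup (GL (Fin 2) F)) (hR : Nonempty (↥R ≃* QuaternionGroup 2))
    (r : ℕ) [Fact r.Prime]
    (hΩ : r ∣ (Cfsg.Geo.subgroupNormalizer R).relIndex (Cfsg.Geo.specialLinear (Fin 2) F)) :
    (∀ x ∈ Cfsg.Geo.specialLinear (Fin 2) F, (∃ z : F, ((x ^ r : GL (Fin 2) F) : Matrix (Fin 2) (Fin 2) F) = z • (1 : Matrix (Fin 2) (Fin 2) F)) →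
      (∀ z : F, (x : Matrix (Fin 2) (Fin 2) F) ≠ z • (1 : Matrix (Fin 2) (Fin 2) F)) →
      ∃ g ∈ Cfsg.Geo.specialLinear (Fin 2) F, g⁻¹ * x * g ∈ Cfsg.Geo.subgroupNormalizer R) ↔ (r = 2 ∨ r = 3) := by
  classical
  have hpp : p.Prime := Fact.out
  have hrp : r.Prime := Fact.out
  obtain ⟨e⟩ := hR
  have h2 : (2 : F) ≠ 0 := by
    have := (CharP.cast_eq_zero_iff F p 2).not.mpr (fun h => by
      have := Nat.le_of_dvd (by norm_num) h; omega)
    exact_mod_cast this
  have h3 : (3 : F) ≠ 0 := by
    have := (CharP.cast_eq_zero_iff F p 3).not.mpr (fun h => by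
      have := Nat.le_of_dvd (by norm_num) h; omega)
    exact_mod_cast this
  have h4 : (4 : F) ≠ 0 := by
    have : (4 : F) = 2 * 2 := by norm_num
    rw [this]; exact mul_ne_zero h2 h2
  have hodd : Fintype.card F % 2 = 1 := by
    rw [hF]
    rcases hpp.eq_two_or_odd with h | h
    · omega
    · exact h
  obtain ⟨I, J, hI, hJ, hq, hgen⟩ := exists_quatPair R e
  have hItd := trace_det_of_sq_eq_neg_one hq.sq_val hq.I_nonscalar
  have hJtd := trace_det_of_sq_eq_neg_one hq.sqJ_val hq.J_nonscalar
  have hKtd := trace_det_of_sq_eq_neg_one hq.sqK_val hq.K_nonscalar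
  have hRN : R ≤ Cfsg.Geo.subgroupNormalizer R := Subgroup.le_normalizer
  have hI2v : ((I ^ 2 : GL (Fin 2) F) : Matrix (Fin 2) (Fin 2) F) = -1 := by
    rw [pow_two, Units.val_mul, hq.sq_val]
  have hI2central : ∀ a : GL (Fin 2) F, I ^ 2 * a = a * I ^ 2 := by
    intro a
    apply Units.ext
    rw [Units.val_mul, Units.val_mul, hI2v]
    simp
  constructor
  · -- (⇒)
    intro H
    by_contra hne
    push Not at hne
    have hr5 : 5 ≤ r := by
      by_contra hlt
      push Not at hlt
      have := hrp.two_le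
      interval_cases r
      · exact hne.1 rfl
      · exact hne.2 rfl
      · exact absurd hrp (by decide)
    -- an element of order r in SL
    have hdvd : r ∣ Nat.card (Cfsg.Geo.specialLinear (Fin 2) F) := by
      refine dvd_trans hΩ ?_
      rw [Subgroup.relIndex]
      exact Subgroup.index_dvd_card _
    obtain ⟨x', hx'⟩ := exists_prime_orderOf_dvd_card' r hdvd
    have hxo : orderOf (x' : GL (Fin 2) F) = r := by rw [Subgroup.orderOf_coe, hx']
    set x : GL (Fin 2) F := (x' : GL (Fin 2) F) with hxdef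
    have hxr : x ^ r = 1 := by rw [← hxo]; exact pow_orderOf_eq_one x
    have hxSL : x ∈ Cfsg.Geo.specialLinear (Fin 2) F := x'.2
    have hxdet := (mem_SL_iff x).mp hxSL
    have hns : ∀ z : F, (x : Matrix (Fin 2) (Fin 2) F) ≠ z • (1 : Matrix (Fin 2) (Fin 2) F) := by
      intro c hc
      rw [hc] at hxdet
      have hcc : c * c = 1 := by
        rw [Matrix.det_smul, Matrix.det_one, Fintype.card_fin, mul_one] at hxdet
        rw [← pow_two]; exact hxdet
      have hx2 : x ^ 2 = 1 := by
        apply Units.ext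
        rw [pow_two, Units.val_mul, hc]
        simp [smul_smul, hcc]
      have := orderOf_dvd_of_pow_eq_one hx2
      rw [hxo] at this
      have := Nat.le_of_dvd (by norm_num) this
      omega
    obtain ⟨g, hgSL, hy⟩ := H x hxSL ⟨1, by rw [hxr]; simp⟩ hns
    set y := g⁻¹ * x * g with hydef
    have hyr : y ^ r = 1 := by
      rw [hydef, show g⁻¹ * x * g = g⁻¹ * x * g⁻¹⁻¹ by rw [inv_inv], conj_pow, hxr]; simp
    -- y centralises R
    have hyk : ∀ k : ℤ, y ^ k ∈ Cfsg.Geo.subgroupNormalizer R := fun k => Subgroup.zpow_mem _ hy k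
    have hPG : IsPGroup r (Subgroup.zpowers y) := by
      intro w
      obtain ⟨w, hw⟩ := w
      obtain ⟨k, rfl⟩ := Subgroup.mem_zpowers_iff.mp hw
      refine ⟨1, ?_⟩
      apply Subtype.ext
      simp only [pow_one, Subgroup.coe_pow, Subgroup.coe_one]
      rw [← zpow_natCast, ← _root_.zpow_mul, mul_comm, _root_.zpow_mul, zpow_natCast, hyr, _root_.one_zpow]
    let _inst : MulAction (Subgroup.zpowers y) (GL (Fin 2) F) :=
      MulAction.compHom (GL (Fin 2) F) ((MulAut.conj).comp (Subgroup.zpowers y).subtype)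
    have hsmul : ∀ (w : Subgroup.zpowers y) (a : GL (Fin 2) F), w • a = (w : GL (Fin 2) F) * a * (w : GL (Fin 2) F)⁻¹ :=
      fun w a => rfl
    have hRfin : (R : Set (GL (Fin 2) F)).Finite := Set.toFinite _
    let O : Finset (GL (Fin 2) F) := hRfin.toFinset
    have hOmem : ∀ a, a ∈ O ↔ a ∈ R := fun a => by simp [O]
    have hinv : ∀ w : Subgroup.zpowers y, ∀ a ∈ O, w • a ∈ O := by
      intro w a ha
      rw [hOmem] at ha ⊢
      rw [hsmul]
      obtain ⟨w, hw⟩ := w
      obtain ⟨k, rfl⟩ := Subgroup.mem_zpowers_iff.mp hw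
      exact (Subgroup.mem_normalizer_iff.mp (hyk k) a).mp ha
    have hmod := card_invariant_modEq hPG O hinv
    have hOcard : O.card = 8 := by
      have h1 : O.card = Nat.card R := by
        show _ = Nat.card (R : Set (GL (Fin 2) F))
        rw [Nat.card_coe_set_eq, Set.ncard_eq_toFinset_card _ hRfin]
      rw [h1, Nat.card_congr e.toEquiv, Nat.card_eq_fintype_card, QuaternionGroup.card]
    have hfix : {a : GL (Fin 2) F | a ∈ O ∧ ∀ w : Subgroup.zpowers y, w • a = a} =
        ((R ⊓ Subgroup.centralizer {y} : Subgroup (GL (Fin 2) F)) : Set (GL (Fin 2) F)) := by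
      ext a
      simp only [Set.mem_ofPred_eq, hOmem, Subgroup.coe_inf, Set.mem_inter_iff, SetLike.mem_coe,
        Subgroup.mem_centralizer_singleton_iff]
      constructor
      · rintro ⟨haR, hfix⟩
        refine ⟨haR, ?_⟩
        have := hfix ⟨y, Subgroup.mem_zpowers y⟩
        rw [hsmul] at this
        simp only at this
        rw [mul_inv_eq_iff_eq_mul] at this
        exact this.symm
      · rintro ⟨haR, hcomm⟩
        refine ⟨haR, ?_⟩
        rintro ⟨w, hw⟩
        obtain ⟨k, rfl⟩ := Subgroup.mem_zpowers_iff.mp hw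
        rw [hsmul]
        simp only
        rw [mul_inv_eq_iff_eq_mul]
        have hc : Commute a y := hcomm
        exact ((hc.zpow_right k).eq).symm
    rw [hfix, hOcard] at hmod
    set C : Subgroup (GL (Fin 2) F) := R ⊓ Subgroup.centralizer {y} with hCdef
    have hCcard : (C : Set (GL (Fin 2) F)).ncard = Nat.card C := (Nat.card_coe_set_eq _).symm
    rw [hCcard] at hmod
    have hR8 : Nat.card R = 8 := by
      rw [Nat.card_congr e.toEquiv, Nat.card_eq_fintype_card, QuaternionGroup.card]
    have hCdvd : Nat.card C ∣ 8 := by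
      rw [← hR8]; exact Subgroup.card_dvd_of_le inf_le_left
    have hI2C : I ^ 2 ∈ C := by
      refine Subgroup.mem_inf.mpr ⟨R.pow_mem hI 2, ?_⟩
      rw [Subgroup.mem_centralizer_singleton_iff]
      exact hI2central y
    have hCne : Nat.card C ≠ 1 := by
      intro h1
      have := (Subgroup.card_eq_one.mp h1)
      rw [this, Subgroup.mem_bot] at hI2C
      exact hq.hI2 hI2C
    have hC8 : Nat.card C = 8 := by
      have hmem : Nat.card C ∈ Nat.divisors 8 := Nat.mem_divisors.mpr ⟨hCdvd, by norm_num⟩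
      have hdiv : Nat.divisors 8 = {1, 2, 4, 8} := by decide
      rw [hdiv] at hmem
      simp only [Finset.mem_insert, Finset.mem_singleton] at hmem
      rcases hmem with h | h | h | h
      · exact absurd h hCne
      · rw [h] at hmod
        have hd : r ∣ 2 * 3 := (Nat.modEq_iff_dvd' (by norm_num : 2 ≤ 8)).mp hmod.symm
        rcases (Nat.Prime.dvd_mul hrp).mp hd with h' | h'
        · have := Nat.le_of_dvd (by norm_num) h'; omega
        · have := Nat.le_of_dvd (by norm_num) h'; omega
      · rw [h] at hmod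
        have := (Nat.modEq_iff_dvd' (by norm_num : 4 ≤ 8)).mp hmod.symm
        have := Nat.le_of_dvd (by norm_num) this
        omega
      · exact h
    have hCR : C = R := by
      apply Subgroup.eq_of_le_of_card_ge inf_le_left
      rw [hC8, hR8]
    have hcent : R ≤ Subgroup.centralizer {y} := by
      rw [← hCR]; exact inf_le_right
    have hyI : (I : Matrix (Fin 2) (Fin 2) F) * (y : Matrix (Fin 2) (Fin 2) F) =
        (y : Matrix (Fin 2) (Fin 2) F) * (I : Matrix (Fin 2) (Fin 2) F) := by
      have := Subgroup.mem_centralizer_singleton_iff.mp (hcent hI)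
      rw [← Units.val_mul, ← Units.val_mul, this]
    have hyJ : (J : Matrix (Fin 2) (Fin 2) F) * (y : Matrix (Fin 2) (Fin 2) F) =
        (y : Matrix (Fin 2) (Fin 2) F) * (J : Matrix (Fin 2) (Fin 2) F) := by
      have := Subgroup.mem_centralizer_singleton_iff.mp (hcent hJ)
      rw [← Units.val_mul, ← Units.val_mul, this]
    obtain ⟨α, β, hαβ⟩ := exists_eq_add_smul_of_commute hq.I_nonscalar hyI.symm
    have hβ : β = 0 := by
      rw [hαβ] at hyJ
      simp only [Matrix.mul_add, Matrix.add_mul, Matrix.mul_smul, Matrix.smul_mul, Matrix.mul_one,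
        Matrix.one_mul, hq.anti] at hyJ
      have h5 : (2 * β) • ((I : Matrix (Fin 2) (Fin 2) F) * (J : Matrix (Fin 2) (Fin 2) F)) = 0 := by
        have := add_left_cancel hyJ
        rw [smul_neg] at this
        rw [mul_smul, two_smul]
        exact (eq_neg_iff_add_eq_zero.mp this.symm)
      have h6 := congrArg (fun M => M * (((I * J)⁻¹ : GL (Fin 2) F) : Matrix (Fin 2) (Fin 2) F)) h5
      simp only [Matrix.smul_mul, Matrix.zero_mul] at h6
      rw [← Units.val_mul, ← Units.val_mul, mul_inv_cancel] at h6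
      have h7 := congrFun (congrFun h6 0) 0
      simp at h7
      rcases h7 with h7 | h7
      · exact absurd h7 h2
      · exact h7
    rw [hβ, zero_smul, add_zero] at hαβ
    -- then x is scalar
    apply hns α
    have hx_eq : x = g * y * g⁻¹ := by rw [hydef]; group
    rw [hx_eq, Units.val_mul, Units.val_mul, hαβ]
    simp only [Matrix.mul_smul, Matrix.smul_mul, Matrix.mul_one]
    rw [← Units.val_mul, mul_inv_cancel]
    rfl
  · -- (⇐)
    rintro (rfl | rfl)
    · intro x hx ⟨z, hz⟩ hns
      rw [mem_SL_iff] at hx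
      have hch := sq_eq_trace_smul_sub_det (x : Matrix (Fin 2) (Fin 2) F)
      rw [hx, one_smul] at hch
      rw [pow_two, Units.val_mul] at hz
      have htr : (x : Matrix (Fin 2) (Fin 2) F).trace = 0 := by
        by_contra ht
        apply hns ((z + 1) / (x : Matrix (Fin 2) (Fin 2) F).trace)
        apply scalar_of_smul ht
        rw [add_smul, one_smul, ← hz, hch]; abel
      obtain ⟨g, hg, hgx⟩ := exists_conj_of_trace_eq hodd h2 (x : Matrix (Fin 2) (Fin 2) F)
        (I : Matrix (Fin 2) (Fin 2) F) hx hItd.2 (by rw [htr, hItd.1])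
        (by rw [htr]; simpa using h4)
      obtain ⟨G, hG, hGx⟩ := conj_of_matrix hg hgx
      exact ⟨G, hG, by rw [hGx]; exact hRN hI⟩
    · intro x hx ⟨z, hz⟩ hns
      rw [mem_SL_iff] at hx
      have hch := sq_eq_trace_smul_sub_det (x : Matrix (Fin 2) (Fin 2) F)
      rw [hx, one_smul] at hch
      set X := (x : Matrix (Fin 2) (Fin 2) F) with hXdef
      set t := X.trace with htdef
      have hz' : X * (X * X) = z • (1 : Matrix (Fin 2) (Fin 2) F) := by
        rw [← hz, show (3 : ℕ) = 1 + 2 from rfl, pow_add, pow_one, pow_two, Units.val_mul, Units.val_mul]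
      have hcube : X * (X * X) = (t ^ 2 - 1) • X - t • (1 : Matrix (Fin 2) (Fin 2) F) := by
        rw [hch, Matrix.mul_sub, Matrix.mul_smul, Matrix.mul_one, hch]
        module
      have ht2 : t ^ 2 - 1 = 0 := by
        by_contra hne
        apply hns ((z + t) / (t ^ 2 - 1))
        apply scalar_of_smul hne
        have : (t ^ 2 - 1) • X = X * (X * X) + t • (1 : Matrix (Fin 2) (Fin 2) F) := by
          rw [hcube]; abel
        rw [this, hz', add_smul]
      have ht : t = 1 ∨ t = -1 := by
        have : (t - 1) * (t + 1) = 0 := by linear_combination ht2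
        rcases mul_eq_zero.mp this with h | h
        · left; exact sub_eq_zero.mp h
        · right; exact eq_neg_of_add_eq_zero_left h
      -- the element ω
      have hWdet := W_det h2 hq.sq_val hq.sqJ_val hq.anti hItd.1 hJtd.1 hKtd.1
      have hWtr := W_trace h2 hItd.1 hJtd.1 hKtd.1
      let Wg : GL (Fin 2) F := Matrix.GeneralLinearGroup.mkOfDetNeZero
        (Wmat (I : Matrix (Fin 2) (Fin 2) F) (J : Matrix (Fin 2) (Fin 2) F)) (by rw [hWdet]; exact one_ne_zero)
      have hWgN : Wg ∈ Cfsg.Geo.subgroupNormalizer R :=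
        quat_W_mem_normalizer R hq hI hJ hgen Wg rfl (isOfFinOrder_of_finite Wg)
      rcases ht with ht | ht
      · -- trace 1 : conjugate to -ω = I² ω
        have hI2N : I ^ 2 ∈ Cfsg.Geo.subgroupNormalizer R := hRN (R.pow_mem hI 2)
        have hval : ((I ^ 2 * Wg : GL (Fin 2) F) : Matrix (Fin 2) (Fin 2) F) =
            -(Wmat (I : Matrix (Fin 2) (Fin 2) F) (J : Matrix (Fin 2) (Fin 2) F)) := by
          rw [Units.val_mul, pow_two, Units.val_mul, hq.sq_val]
          simp [Wg]
        obtain ⟨g, hg, hgx⟩ := exists_conj_of_trace_eq hodd h2 X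
          ((I ^ 2 * Wg : GL (Fin 2) F) : Matrix (Fin 2) (Fin 2) F) hx
          (by rw [hval, Matrix.det_neg, hWdet]; simp)
          (by rw [hval, Matrix.trace_neg, hWtr, ← htdef, ht]; simp)
          (by rw [← htdef, ht]; intro h; apply h3; linear_combination (-1 : F) * h)
        obtain ⟨G, hG, hGx⟩ := conj_of_matrix hg hgx
        exact ⟨G, hG, by rw [hGx]; exact Subgroup.mul_mem _ hI2N hWgN⟩
      · obtain ⟨g, hg, hgx⟩ := exists_conj_of_trace_eq hodd h2 X
          (Wg : Matrix (Fin 2) (Fin 2) F) hx hWdet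
          (by rw [← htdef, ht]; exact hWtr.symm)
          (by rw [← htdef, ht]; intro h; apply h3; linear_combination (-1 : F) * h)
        obtain ⟨G, hG, hGx⟩ := conj_of_matrix hg hgx
        exact ⟨G, hG, by rw [hGx]; exact hWgN⟩

end Cfsg.Agent.S5997
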