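import Mathlib
import Cfsg.Statements.S5998
import Cfsg.Agent.Lib.Helper99.Extra27
import Cfsg.Agent.Lib.Helper99.PGroupCount

set_option autoImplicit false
set_option linter.style.haveILetI false
set_option linter.unusedSimpArgs false
open scoped MatrixGroups
open Cfsg

namespace Cfsg.Agent.S5998

open Matrix Polynomial Cfsg.Agent.Lib.Helper99 Cfsg.Agent.Lib.Helper99.Cubic3
  Cfsg.Agent.Lib.Helper99.Extra27

section aux
variable {F : Type*} [Field F]

lemma mem_SL_iff (x : GL (Fin 3) F) :
    x ∈ Cfsg.Geo.specialLinear (Fin 3) F ↔ (x : Matrix (Fin 3) (Fin 3) F).det = 1 := by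
  unfold Cfsg.Geo.specialLinear
  rw [MonoidHom.mem_ker, Units.ext_iff, Matrix.GeneralLinearGroup.val_det_apply, Units.val_one]

/-- build a `GL` element conjugating `x` to `y` from a matrix-level conjugation -/
lemma conj_of_matrix {x y : GL (Fin 3) F} {g : Matrix (Fin 3) (Fin 3) F} (hg : g.det = 1)
    (h : (x : Matrix (Fin 3) (Fin 3) F) * g = g * (y : Matrix (Fin 3) (Fin 3) F)) :
    ∃ G ∈ Cfsg.Geo.specialLinear (Fin 3) F, G⁻¹ * x * G = y := by
  refine ⟨Matrix.GeneralLinearGroup.mkOfDetNeZero g (by rw [hg]; exact one_ne_zero), ?_, ?_⟩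
  · rw [mem_SL_iff]; exact hg
  · have e : x * Matrix.GeneralLinearGroup.mkOfDetNeZero g (by rw [hg]; exact one_ne_zero) =
        Matrix.GeneralLinearGroup.mkOfDetNeZero g (by rw [hg]; exact one_ne_zero) * y := by
      apply Units.ext
      simp only [Units.val_mul]
      exact h
    rw [mul_assoc, e, inv_mul_cancel_left]

lemma card_SL_mul [Fintype F] [DecidableEq F] :
    Nat.card (Cfsg.Geo.specialLinear (Fin 3) F) * (Fintype.card F - 1) =
      Nat.card (GL (Fin 3) F) := by
  unfold Cfsg.Geo.specialLinear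
  have h1 := Subgroup.card_mul_index (Matrix.GeneralLinearGroup.det : GL (Fin 3) F →* Fˣ).ker
  rw [Subgroup.index_ker] at h1
  have hsurj : Function.Surjective (Matrix.GeneralLinearGroup.det : GL (Fin 3) F →* Fˣ) := by
    intro u
    have hd : (Matrix.diagonal ![(u : F), 1, 1]).det = (u : F) := by
      rw [Matrix.det_diagonal]
      simp [Fin.prod_univ_three]
    refine ⟨Matrix.GeneralLinearGroup.mkOfDetNeZero (Matrix.diagonal ![(u : F), 1, 1])
      (by rw [hd]; exact u.ne_zero), ?_⟩
    apply Units.ext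
    rw [Matrix.GeneralLinearGroup.val_det_apply]
    exact hd
  have hrange : Nat.card (Matrix.GeneralLinearGroup.det : GL (Fin 3) F →* Fˣ).range =
      Fintype.card F - 1 := by
    rw [MonoidHom.range_eq_top.mpr hsurj, Subgroup.card_top, Nat.card_eq_fintype_card,
      Fintype.card_units]
  rw [← h1, hrange]

/-- if `M - μ` is invertible and `M ^ 3 = 1`, the other two factors multiply to zero -/
lemma quad_of_inv {M : Matrix (Fin 3) (Fin 3) F} (hM3 : M ^ 3 = 1) {μ lam : F} (hμ : μ ^ 3 = 1)
    (hlam : lam ^ 2 + lam + 1 = 0)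
    (hdet : (M - μ • (1 : Matrix (Fin 3) (Fin 3) F)).det ≠ 0) :
    (M - (μ * lam) • (1 : Matrix (Fin 3) (Fin 3) F)) *
      (M - (μ * lam ^ 2) • (1 : Matrix (Fin 3) (Fin 3) F)) = 0 := by
  have hl3 := lam_cube hlam
  have e1 : (M - (μ * lam) • (1 : Matrix (Fin 3) (Fin 3) F)) *
      (M - (μ * lam ^ 2) • (1 : Matrix (Fin 3) (Fin 3) F)) =
      M ^ 2 + μ • M + μ ^ 2 • (1 : Matrix (Fin 3) (Fin 3) F) := by
    simp only [sub_mul, mul_sub, smul_mul_assoc, mul_smul_comm, one_mul, mul_one, smul_sub,
      smul_smul, pow_two]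
    have h1 : μ * (lam * lam) * (μ * lam) = μ * μ := by
      have : lam * (lam * lam) = 1 := by rw [← hl3]; ring
      calc μ * (lam * lam) * (μ * lam) = μ * μ * (lam * (lam * lam)) := by ring
        _ = μ * μ := by rw [this, mul_one]
    have h2 : μ * (lam * lam) = -(μ * lam) - μ := by linear_combination μ * hlam
    rw [h1, h2]
    module
  have e2 : (M - μ • (1 : Matrix (Fin 3) (Fin 3) F)) *
      (M ^ 2 + μ • M + μ ^ 2 • (1 : Matrix (Fin 3) (Fin 3) F)) = 0 := by
    have : (M - μ • (1 : Matrix (Fin 3) (Fin 3) F)) *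
        (M ^ 2 + μ • M + μ ^ 2 • (1 : Matrix (Fin 3) (Fin 3) F)) =
        M ^ 3 - (μ ^ 3) • (1 : Matrix (Fin 3) (Fin 3) F) := by
      have hMM : M * M = M ^ 2 := (pow_two M).symm
      have hMM2 : M * M ^ 2 = M ^ 3 := (pow_succ' M 2).symm
      simp only [sub_mul, mul_add, smul_mul_assoc, mul_smul_comm, one_mul, mul_one, smul_add,
        smul_smul, hMM, hMM2]
      module
    rw [this, hM3, hμ, one_smul, sub_self]
  rw [e1]
  have hu : IsUnit (M - μ • (1 : Matrix (Fin 3) (Fin 3) F)).det := isUnit_iff_ne_zero.mpr hdet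
  calc M ^ 2 + μ • M + μ ^ 2 • (1 : Matrix (Fin 3) (Fin 3) F)
      = ((M - μ • (1 : Matrix (Fin 3) (Fin 3) F))⁻¹ * (M - μ • (1 : Matrix (Fin 3) (Fin 3) F))) *
          (M ^ 2 + μ • M + μ ^ 2 • (1 : Matrix (Fin 3) (Fin 3) F)) := by
        rw [Matrix.nonsing_inv_mul _ hu, one_mul]
    _ = 0 := by rw [mul_assoc, e2, mul_zero]

/-- if all of `M - 1`, `M - λ`, `M - λ²` are singular, then `det M = 1` -/
lemma det_eq_one_of_sing {M : Matrix (Fin 3) (Fin 3) F} {lam : F} (hlam : lam ^ 2 + lam + 1 = 0)
    (h3F : (3 : F) ≠ 0)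
    (h1 : (M - (1 : F) • (1 : Matrix (Fin 3) (Fin 3) F)).det = 0)
    (h2 : (M - lam • (1 : Matrix (Fin 3) (Fin 3) F)).det = 0)
    (h3 : (M - (lam ^ 2) • (1 : Matrix (Fin 3) (Fin 3) F)).det = 0) : M.det = 1 := by
  obtain ⟨a, b, hχ, -⟩ := cayley3 M
  have key : ∀ t : F, (M - t • (1 : Matrix (Fin 3) (Fin 3) F)).det = 0 →
      t ^ 3 + a * t ^ 2 + b * t - M.det = 0 := by
    intro t ht
    have h := Matrix.eval_charpoly M t
    rw [hχ] at h
    have e : Matrix.scalar (Fin 3) t - M = -(M - t • (1 : Matrix (Fin 3) (Fin 3) F)) := by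
      rw [neg_sub]
      congr 1
      ext i j
      simp [Matrix.scalar_apply, Matrix.diagonal_apply, Matrix.one_apply]
    rw [e, Matrix.det_neg, ht, mul_zero] at h
    simpa using h
  have k1 := key 1 h1
  have k2 := key lam h2
  have k3 := key (lam ^ 2) h3
  have hl3 := lam_cube hlam
  have : (3 : F) * (1 - M.det) = 0 := by
    linear_combination k1 + k2 + k3 - ((lam - 1) + (lam - 1) * (lam ^ 3 + 1) + a * (lam ^ 2 - lam + 1) + b) * hlam
  rcases mul_eq_zero.mp this with h | h
  · exact absurd h h3F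
  · exact (sub_eq_zero.mp h).symm


/-- an element of `SL` diagonalisable with eigenvalue ratios cube roots of unity is conjugate into
the normaliser -/
lemma conj_to_diag {R : Subgroup (GL (Fin 3) F)} [Finite R] {lam : F}
    {P Pi : Matrix (Fin 3) (Fin 3) F} {a b c : GL (Fin 3) F} (fr : Frame R lam P Pi a b c)
    (x : GL (Fin 3) F) (hx : (x : Matrix (Fin 3) (Fin 3) F).det = 1)
    {B : Matrix (Fin 3) (Fin 3) F} (hB : B.det ≠ 0) {d₀ d₁ d₂ : F}
    (hxB : (x : Matrix (Fin 3) (Fin 3) F) * B = B * Matrix.diagonal ![d₀, d₁, d₂])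
    (h10 : (d₁ / d₀) ^ 3 = 1) (h21 : (d₂ / d₁) ^ 3 = 1) :
    ∃ g ∈ Cfsg.Geo.specialLinear (Fin 3) F, g⁻¹ * x * g ∈ Cfsg.Geo.subgroupNormalizer R := by
  have hprod : d₀ * d₁ * d₂ = 1 := by
    have := congrArg Matrix.det hxB
    rw [Matrix.det_mul, Matrix.det_mul, hx, one_mul, Matrix.det_diagonal] at this
    simp only [Fin.prod_univ_three, Matrix.cons_val_zero, Matrix.cons_val_one,
      Matrix.cons_val_two, Matrix.cons_val] at this
    have h2 : B.det * (d₀ * d₁ * d₂ - 1) = 0 := by
      simp at this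
      linear_combination -this
    rcases mul_eq_zero.mp h2 with h | h
    · exact absurd h hB
    · exact sub_eq_zero.mp h
  have hd₀ : d₀ ≠ 0 := by rintro rfl; simp at hprod
  have hd₁ : d₁ ≠ 0 := by rintro rfl; simp at hprod
  have hd₂ : d₂ ≠ 0 := by rintro rfl; simp at hprod
  obtain ⟨y, hy⟩ := exists_ofRep fr.hPPi fr.hPiP (Matrix.diagonal ![d₀, d₁, d₂]) (by
    rw [Matrix.det_diagonal]
    simp only [Fin.prod_univ_three, Matrix.cons_val_zero, Matrix.cons_val_one,
      Matrix.cons_val_two, Matrix.cons_val]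
    simp
    exact ⟨⟨hd₀, hd₁⟩, hd₂⟩)
  have hyN : y ∈ Cfsg.Geo.subgroupNormalizer R := fr.diag_mem_normalizer hy hd₀ hd₁ hd₂ h10 h21
  have hyP := mul_of_rep fr.hPPi hy
  have hPdet : P.det ≠ 0 := by
    intro h
    have := congrArg Matrix.det fr.hPPi
    rw [Matrix.det_mul, h, zero_mul, Matrix.det_one] at this
    exact zero_ne_one this
  obtain ⟨Pm, hPm, hconj⟩ := conj_SL (diag_comm d₀ d₁ d₂) hB hPdet hxB hyP
  obtain ⟨G, hG, hGx⟩ := conj_of_matrix hPm hconj
  exact ⟨G, hG, by rw [hGx]; exact hyN⟩

end aux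

/-- Elements of prime order of PSL_3(p), p ≡ 1 (mod 3), and the normalizer of an extraspecial subgroup of order 27. Here `T = PSL_3(F)` for the field `F` with `p` elements, `p` a prime with `p ≡ 1 (mod 3)`; `R` is a non-abelian subgroup of GL_3(F) of order 27 and exponent 3 (an extraspecial group 3^{1+2}, acting absolutely irreducibly), and `H` is the subgroup of matrices of determinant 1 normalizing `R` — a subgroup of type 3^{1+2}.Sp₂(3) (maximality is not assumed). Ω is the set of cosets of `H` in `T`, so an element of `T` of prime order `r` (a matrix `x` of determinant 1 with `x^r` scalar, `x` not scalar) fixes a point of Ω exactly when some conjugate of `x` by a matrix of determinant 1 normalizes `R`. Let `r` be a prime dividing the index of `H`. Then every element of `T` of order `r` fixes a point of Ω if and only if `r = 2`, or `r = 3` and `p ≡ 1 (mod 9)`. -/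
theorem result {F : Type*} [Field F] [Fintype F] {p : ℕ} [Fact p.Prime] [CharP F p] (hF : Fintype.card F = p) (hp3 : p % 3 = 1)
    (R : Subgroup (GL (Fin 3) F)) (hR : Nat.card R = 27) (hRe : Monoid.exponent R = 3) (hRna : ¬ IsMulCommutative R)
    (r : ℕ) [Fact r.Prime]
    (hΩ : r ∣ (Cfsg.Geo.subgroupNormalizer R).relIndex (Cfsg.Geo.specialLinear (Fin 3) F)) :
    (∀ x ∈ Cfsg.Geo.specialLinear (Fin 3) F, (∃ z : F, ((x ^ r : GL (Fin 3) F) : Matrix (Fin 3) (Fin 3) F) = z • (1 : Matrix (Fin 3) (Fin 3) F)) →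
      (∀ z : F, (x : Matrix (Fin 3) (Fin 3) F) ≠ z • (1 : Matrix (Fin 3) (Fin 3) F)) →
      ∃ g ∈ Cfsg.Geo.specialLinear (Fin 3) F, g⁻¹ * x * g ∈ Cfsg.Geo.subgroupNormalizer R) ↔ (r = 2 ∨ (r = 3 ∧ p % 9 = 1)) := by
  classical
  have hpp : p.Prime := Fact.out
  have hrp : r.Prime := Fact.out
  have hp7 : 7 ≤ p := by
    have := hpp.two_le
    by_contra h
    push Not at h
    interval_cases p <;> first | omega | exact absurd hpp (by decide)
  have h2F : (2 : F) ≠ 0 := by
    have := (CharP.cast_eq_zero_iff F p 2).not.mpr (fun h => by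
      have := Nat.le_of_dvd (by norm_num) h; omega)
    exact_mod_cast this
  have h3F : (3 : F) ≠ 0 := by
    have := (CharP.cast_eq_zero_iff F p 3).not.mpr (fun h => by
      have := Nat.le_of_dvd (by norm_num) h; omega)
    exact_mod_cast this
  -- a primitive cube root of unity
  obtain ⟨ω, hω⟩ : ∃ ω : F, ω ^ 2 + ω + 1 = 0 := by
    have h3 : 3 ∣ Nat.card Fˣ := by
      rw [Nat.card_eq_fintype_card, Fintype.card_units, hF]
      omega
    haveI : Fact (Nat.Prime 3) := ⟨Nat.prime_three⟩
    obtain ⟨u, hu⟩ := exists_prime_orderOf_dvd_card' 3 h3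
    have hu3 : (u : F) ^ 3 = 1 := by
      have := pow_orderOf_eq_one u
      rw [hu] at this
      have h' := congrArg Units.val this
      simpa using h'
    have hu1 : (u : F) ≠ 1 := by
      intro h
      have : u = 1 := Units.ext h
      rw [this, orderOf_one] at hu
      norm_num at hu
    refine ⟨(u : F), ?_⟩
    have : ((u : F) - 1) * ((u : F) ^ 2 + (u : F) + 1) = 0 := by linear_combination hu3
    rcases mul_eq_zero.mp this with h | h
    · exact absurd (sub_eq_zero.mp h) hu1
    · exact h
  obtain ⟨lam, P, Pi, a, b, c, fr⟩ := exists_frame R hR hRe hRna hω h3F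
  haveI : Finite R := Nat.finite_of_card_ne_zero (by rw [hR]; norm_num)
  have hRN : R ≤ Cfsg.Geo.subgroupNormalizer R := Subgroup.le_normalizer
  have hl3 := lam_cube fr.hlam
  have hl1 := lam_ne_one fr.hlam fr.h3F
  have hl0 := lam_ne_zero fr.hlam
  constructor
  · intro H
    by_cases hr2 : r = 2
    · left; exact hr2
    by_cases hr3 : r = 3
    · right
      refine ⟨hr3, ?_⟩
      subst hr3
      by_contra h9
      have hmod : p % 9 = 4 ∨ p % 9 = 7 := by omega
      have hRSL : R ≤ Cfsg.Geo.specialLinear (Fin 3) F := fr.le_SL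
      have h27 : 27 ∣ Nat.card ((Cfsg.Geo.subgroupNormalizer R).subgroupOf
          (Cfsg.Geo.specialLinear (Fin 3) F)) := by
        have h1 : Nat.card (R.subgroupOf (Cfsg.Geo.specialLinear (Fin 3) F)) = 27 := by
          rw [Nat.card_congr (Subgroup.subgroupOfEquivOfLe hRSL).toEquiv, hR]
        rw [← h1]
        exact Subgroup.card_dvd_of_le (Subgroup.comap_mono hRN)
      have h81 : 81 ∣ Nat.card (Cfsg.Geo.specialLinear (Fin 3) F) := by
        have := Subgroup.card_mul_index ((Cfsg.Geo.subgroupNormalizer R).subgroupOf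
          (Cfsg.Geo.specialLinear (Fin 3) F))
        rw [← this]
        exact Nat.mul_dvd_mul h27 hΩ
      have hcard := card_SL_mul (F := F)
      rw [Matrix.card_GL_field] at hcard
      simp only [Fin.prod_univ_three, Fin.val_zero, Fin.val_one, Fin.val_two, pow_zero, pow_one,
        Fintype.card_fin, hF] at hcard
      obtain ⟨m, hm⟩ : ∃ m, p = m + 1 := ⟨p - 1, by omega⟩
      rw [hm] at hcard
      have e1 : (m + 1) ^ 3 - 1 = m * (m ^ 2 + 3 * m + 3) :=
        Nat.sub_eq_of_eq_add (by ring)
      have e2 : (m + 1) ^ 3 - (m + 1) = m * ((m + 1) * (m + 2)) :=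
        Nat.sub_eq_of_eq_add (by ring)
      have e3 : (m + 1) ^ 3 - (m + 1) ^ 2 = m * (m + 1) ^ 2 :=
        Nat.sub_eq_of_eq_add (by ring)
      rw [e1, e2, e3, Nat.add_sub_cancel] at hcard
      have hm0 : 0 < m := by omega
      have hSLcard : Nat.card (Cfsg.Geo.specialLinear (Fin 3) F) =
          m ^ 2 * (m ^ 2 + 3 * m + 3) * (m + 1) ^ 3 * (m + 2) := by
        apply Nat.eq_of_mul_eq_mul_right hm0
        rw [hcard]; ring
      obtain ⟨t, ht⟩ : ∃ t, m = 3 * t := ⟨m / 3, by omega⟩
      have ht3 : t % 3 = 1 ∨ t % 3 = 2 := by omega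
      rw [hSLcard, ht] at h81
      have e4 : (3 * t) ^ 2 * ((3 * t) ^ 2 + 3 * (3 * t) + 3) * (3 * t + 1) ^ 3 * (3 * t + 2) =
          27 * (t ^ 2 * (3 * t ^ 2 + 3 * t + 1) * (3 * t + 1) ^ 3 * (3 * t + 2)) := by ring
      rw [e4, show (81 : ℕ) = 27 * 3 by norm_num] at h81
      have h3 : 3 ∣ t ^ 2 * (3 * t ^ 2 + 3 * t + 1) * (3 * t + 1) ^ 3 * (3 * t + 2) :=
        Nat.dvd_of_mul_dvd_mul_left (by norm_num) h81
      rcases (Nat.Prime.dvd_mul Nat.prime_three).mp h3 with h | h
      · rcases (Nat.Prime.dvd_mul Nat.prime_three).mp h with h | h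
        · rcases (Nat.Prime.dvd_mul Nat.prime_three).mp h with h | h
          · have := Nat.Prime.dvd_of_dvd_pow Nat.prime_three h
            omega
          · generalize t ^ 2 = s at h
            omega
        · have := Nat.Prime.dvd_of_dvd_pow Nat.prime_three h
          omega
      · omega
    · exfalso
      have hr5 : 5 ≤ r := by
        by_contra hlt
        push Not at hlt
        have := hrp.two_le
        interval_cases r
        · exact hr2 rfl
        · exact hr3 rfl
        · exact absurd hrp (by decide)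
      have hdvd : r ∣ Nat.card (Cfsg.Geo.specialLinear (Fin 3) F) := by
        refine dvd_trans hΩ ?_
        rw [Subgroup.relIndex]
        exact Subgroup.index_dvd_card _
      obtain ⟨x', hx'⟩ := exists_prime_orderOf_dvd_card' r hdvd
      have hxo : orderOf (x' : GL (Fin 3) F) = r := by rw [Subgroup.orderOf_coe, hx']
      obtain ⟨x, hxdef⟩ : ∃ x : GL (Fin 3) F, x = (x' : GL (Fin 3) F) := ⟨_, rfl⟩
      rw [← hxdef] at hxo
      have hxr : x ^ r = 1 := by rw [← hxo]; exact pow_orderOf_eq_one x
      have hxSL : x ∈ Cfsg.Geo.specialLinear (Fin 3) F := by rw [hxdef]; exact x'.2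
      have hxdet := (mem_SL_iff x).mp hxSL
      have hns : ∀ z : F, (x : Matrix (Fin 3) (Fin 3) F) ≠ z • (1 : Matrix (Fin 3) (Fin 3) F) := by
        intro t ht
        rw [ht] at hxdet
        have ht3 : t ^ 3 = 1 := by
          rw [Matrix.det_smul, Matrix.det_one, Fintype.card_fin, mul_one] at hxdet
          exact hxdet
        have hx3 : x ^ 3 = 1 := by
          apply Units.ext
          rw [Units.val_pow_eq_pow_val, ht, _root_.smul_pow, one_pow, ht3, one_smul]
          rfl
        have := orderOf_dvd_of_pow_eq_one hx3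
        rw [hxo] at this
        have := Nat.le_of_dvd (by norm_num) this
        omega
      obtain ⟨g, hgSL, hy⟩ := H x hxSL ⟨1, by rw [hxr]; simp⟩ hns
      obtain ⟨y, hydef⟩ : ∃ y, y = g⁻¹ * x * g := ⟨_, rfl⟩
      rw [← hydef] at hy
      have hyr : y ^ r = 1 := by
        rw [hydef, show g⁻¹ * x * g = g⁻¹ * x * g⁻¹⁻¹ by rw [inv_inv], conj_pow, hxr]; simp
      have hyk : ∀ k : ℤ, y ^ k ∈ Cfsg.Geo.subgroupNormalizer R := fun k => Subgroup.zpow_mem _ hy k
      have hPG : IsPGroup r (Subgroup.zpowers y) := by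
        intro w
        obtain ⟨w, hw⟩ := w
        obtain ⟨k, rfl⟩ := Subgroup.mem_zpowers_iff.mp hw
        refine ⟨1, ?_⟩
        apply Subtype.ext
        simp only [pow_one, Subgroup.coe_pow, Subgroup.coe_one]
        rw [← zpow_natCast, ← _root_.zpow_mul, mul_comm, _root_.zpow_mul, zpow_natCast, hyr,
          _root_.one_zpow]
      let _inst : MulAction (Subgroup.zpowers y) (GL (Fin 3) F) :=
        MulAction.compHom (GL (Fin 3) F) ((MulAut.conj).comp (Subgroup.zpowers y).subtype)
      have hsmul : ∀ (w : Subgroup.zpowers y) (a : GL (Fin 3) F),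
          w • a = (w : GL (Fin 3) F) * a * (w : GL (Fin 3) F)⁻¹ := fun w a => rfl
      have hRfin : (R : Set (GL (Fin 3) F)).Finite := Set.toFinite _
      let O : Finset (GL (Fin 3) F) := hRfin.toFinset
      have hOmem : ∀ a, a ∈ O ↔ a ∈ R := fun a => by simp [O]
      have hinv : ∀ w : Subgroup.zpowers y, ∀ a ∈ O, w • a ∈ O := by
        intro w a ha
        rw [hOmem] at ha ⊢
        rw [hsmul]
        obtain ⟨w, hw⟩ := w
        obtain ⟨k, rfl⟩ := Subgroup.mem_zpowers_iff.mp hw
        exact (Subgroup.mem_normalizer_iff.mp (hyk k) a).mp ha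
      have hmod := card_invariant_modEq hPG O hinv
      have hOcard : O.card = 27 := by
        have h1 : O.card = Nat.card R := by
          show _ = Nat.card (R : Set (GL (Fin 3) F))
          rw [Nat.card_coe_set_eq, Set.ncard_eq_toFinset_card _ hRfin]
        rw [h1, hR]
      have hfix : {a : GL (Fin 3) F | a ∈ O ∧ ∀ w : Subgroup.zpowers y, w • a = a} =
          ((R ⊓ Subgroup.centralizer {y} : Subgroup (GL (Fin 3) F)) : Set (GL (Fin 3) F)) := by
        ext a
        simp only [Set.mem_ofPred_eq, hOmem, Subgroup.coe_inf, Set.mem_inter_iff, SetLike.mem_coe,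
          Subgroup.mem_centralizer_singleton_iff]
        constructor
        · rintro ⟨haR, hfix⟩
          refine ⟨haR, ?_⟩
          have := hfix ⟨y, Subgroup.mem_zpowers y⟩
          rw [hsmul] at this
          simp only at this
          rw [mul_inv_eq_iff_eq_mul] at this
          exact this.symm
        · rintro ⟨haR, hcomm⟩
          refine ⟨haR, ?_⟩
          rintro ⟨w, hw⟩
          obtain ⟨k, rfl⟩ := Subgroup.mem_zpowers_iff.mp hw
          rw [hsmul]
          simp only
          rw [mul_inv_eq_iff_eq_mul]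
          have hc : Commute a y := hcomm
          exact ((hc.zpow_right k).eq).symm
      rw [hfix, hOcard] at hmod
      obtain ⟨C, hCdef⟩ : ∃ C : Subgroup (GL (Fin 3) F), C = R ⊓ Subgroup.centralizer {y} :=
        ⟨_, rfl⟩
      rw [← hCdef] at hmod
      have hCcard : (C : Set (GL (Fin 3) F)).ncard = Nat.card C := (Nat.card_coe_set_eq _).symm
      rw [hCcard] at hmod
      have hCR : C ≤ R := by rw [hCdef]; exact inf_le_left
      have hCdvd : Nat.card C ∣ 27 := by
        rw [← hR]; exact Subgroup.card_dvd_of_le hCR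
      have hcC : c ∈ C := by
        rw [hCdef]
        refine Subgroup.mem_inf.mpr ⟨fr.hc, ?_⟩
        rw [Subgroup.mem_centralizer_singleton_iff]
        apply Units.ext
        rw [Units.val_mul, Units.val_mul, fr.rc]
        simp
      have hc1 : c ≠ 1 := by
        intro h
        have := fr.rc
        rw [h] at this
        have h00 := congrFun (congrFun this 0) 0
        simp at h00
        exact hl1 h00.symm
      have hCne : Nat.card C ≠ 1 := by
        intro h1
        have := (Subgroup.card_eq_one.mp h1)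
        rw [this, Subgroup.mem_bot] at hcC
        exact hc1 hcC
      have hC27 : Nat.card C = 27 := by
        have hmem : Nat.card C ∈ Nat.divisors 27 := Nat.mem_divisors.mpr ⟨hCdvd, by norm_num⟩
        have hdiv : Nat.divisors 27 = {1, 3, 9, 27} := by decide
        rw [hdiv] at hmem
        simp only [Finset.mem_insert, Finset.mem_singleton] at hmem
        rcases hmem with h | h | h | h
        · exact absurd h hCne
        · rw [h] at hmod
          have hd : r ∣ 2 ^ 3 * 3 := (Nat.modEq_iff_dvd' (by norm_num : 3 ≤ 27)).mp hmod.symm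
          rcases (Nat.Prime.dvd_mul hrp).mp hd with h' | h'
          · have := Nat.Prime.dvd_of_dvd_pow hrp h'
            have := Nat.le_of_dvd (by norm_num) this; omega
          · have := Nat.le_of_dvd (by norm_num) h'; omega
        · rw [h] at hmod
          have hd : r ∣ 2 * 3 ^ 2 := (Nat.modEq_iff_dvd' (by norm_num : 9 ≤ 27)).mp hmod.symm
          rcases (Nat.Prime.dvd_mul hrp).mp hd with h' | h'
          · have := Nat.le_of_dvd (by norm_num) h'; omega
          · have := Nat.Prime.dvd_of_dvd_pow hrp h'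
            have := Nat.le_of_dvd (by norm_num) this; omega
        · exact h
      have hCeq : C = R := by
        apply Subgroup.eq_of_le_of_card_ge hCR
        rw [hC27, hR]
      have hcent : R ≤ Subgroup.centralizer {y} := by
        rw [← hCeq, hCdef]; exact inf_le_right
      have hya : (y : Matrix (Fin 3) (Fin 3) F) * (a : Matrix (Fin 3) (Fin 3) F) =
          (a : Matrix (Fin 3) (Fin 3) F) * (y : Matrix (Fin 3) (Fin 3) F) := by
        have := Subgroup.mem_centralizer_singleton_iff.mp (hcent fr.ha)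
        rw [← Units.val_mul, ← Units.val_mul, this]
      have hyb : (y : Matrix (Fin 3) (Fin 3) F) * (b : Matrix (Fin 3) (Fin 3) F) =
          (b : Matrix (Fin 3) (Fin 3) F) * (y : Matrix (Fin 3) (Fin 3) F) := by
        have := Subgroup.mem_centralizer_singleton_iff.mp (hcent fr.hb)
        rw [← Units.val_mul, ← Units.val_mul, this]
      obtain ⟨t, ht⟩ := fr.scalar_of_commute hya hyb
      apply hns t
      have hx_eq : x = g * y * g⁻¹ := by rw [hydef]; group
      rw [hx_eq, Units.val_mul, Units.val_mul, ht]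
      simp only [Matrix.mul_smul, Matrix.smul_mul, Matrix.mul_one]
      rw [← Units.val_mul, mul_inv_cancel]
      rfl
  · rintro (rfl | ⟨rfl, -⟩)
    · intro x hx ⟨z, hz⟩ hns
      rw [mem_SL_iff] at hx
      obtain ⟨X, hXdef⟩ : ∃ X, X = (x : Matrix (Fin 3) (Fin 3) F) := ⟨_, rfl⟩
      rw [← hXdef] at hx hns
      have hz' : X * X = z • (1 : Matrix (Fin 3) (Fin 3) F) := by
        rw [← hz, pow_two, Units.val_mul, hXdef]
      have hz3 : z ^ 3 = 1 := by
        have := congrArg Matrix.det hz'
        rw [Matrix.det_mul, hx, one_mul, Matrix.det_smul, Matrix.det_one, mul_one,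
          Fintype.card_fin] at this
        exact this.symm
      obtain ⟨s, hs⟩ : ∃ s, s = z ^ 2 := ⟨_, rfl⟩
      have hs2 : s ^ 2 = z := by
        rw [hs, ← pow_mul]
        calc z ^ (2 * 2) = z ^ 3 * z := by ring
          _ = z := by rw [hz3, one_mul]
      have hs3 : s ^ 3 = 1 := by rw [hs, ← pow_mul, mul_comm, pow_mul, hz3, one_pow]
      have hs0 : s ≠ 0 := by rintro rfl; simp at hs3
      obtain ⟨X1, hX1⟩ : ∃ X1, X1 = s⁻¹ • X := ⟨_, rfl⟩
      have hXX1 : X = s • X1 := by rw [hX1, smul_smul, mul_inv_cancel₀ hs0, one_smul]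
      have hX1sq : X1 * X1 = 1 := by
        rw [hX1, smul_mul_assoc, mul_smul_comm, smul_smul, hz', smul_smul, ← hs2]
        have : s⁻¹ * s⁻¹ * s ^ 2 = 1 := by field_simp
        rw [this, one_smul]
      have hX1det : X1.det = 1 := by
        rw [hX1, Matrix.det_smul, hx, mul_one, Fintype.card_fin, inv_pow, hs3, inv_one]
      have hX1ns : ∀ t : F, X1 ≠ t • (1 : Matrix (Fin 3) (Fin 3) F) := by
        intro t ht
        apply hns (s * t)
        rw [hXX1, ht, smul_smul]
      have hne : (-1 : F) ≠ 1 := by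
        intro h
        apply h2F
        linear_combination -h
      have h0 : (X1 - (-1 : F) • (1 : Matrix (Fin 3) (Fin 3) F)) *
          (X1 - (1 : F) • (1 : Matrix (Fin 3) (Fin 3) F)) = 0 := by
        simp only [neg_smul, one_smul, sub_neg_eq_add, add_mul, mul_sub, mul_one, one_mul, hX1sq]
        abel
      obtain ⟨B, hBdet, hB | hB⟩ := two_eig_form hne h0 (hX1ns _) (hX1ns _)
      · -- the good case
        have hXB : X * B = B * Matrix.diagonal ![-s, -s, s] := by
          rw [hXX1, smul_mul_assoc, hB, ← mul_smul_comm]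
          congr 1
          ext i j
          fin_cases i <;> fin_cases j <;> simp [Matrix.diagonal_apply]
        obtain ⟨y, hy⟩ := exists_ofRep fr.hPPi fr.hPiP ((-s) • T0 F) (by
          rw [Matrix.det_smul, T0, Matrix.det_fin_three]
          simp
          exact hs0)
        have hyN : y ∈ Cfsg.Geo.subgroupNormalizer R := fr.T_mem_normalizer hy
        have hyP := mul_of_rep fr.hPPi hy
        have hPdet : P.det ≠ 0 := by
          intro h
          have := congrArg Matrix.det fr.hPPi
          rw [Matrix.det_mul, h, zero_mul, Matrix.det_one] at this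
          exact zero_ne_one this
        obtain ⟨B', hB'⟩ : ∃ B' : Matrix (Fin 3) (Fin 3) F, B' = !![1, 0, 0; 0, 1, 1; 0, 1, -1] :=
          ⟨_, rfl⟩
        have hB'det : B'.det ≠ 0 := by
          rw [hB', Matrix.det_fin_three]
          simp
          intro h
          apply h2F
          linear_combination -h
        have hTB : ((-s) • T0 F) * B' = B' * Matrix.diagonal ![-s, -s, s] := by
          rw [hB']
          ext i j
          fin_cases i <;> fin_cases j <;>
            simp [T0, mul_apply, Fin.sum_univ_three, Matrix.diagonal_apply]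
        have hyPB : (y : Matrix (Fin 3) (Fin 3) F) * (P * B') =
            (P * B') * Matrix.diagonal ![-s, -s, s] := by
          rw [← mul_assoc, hyP, mul_assoc, hTB, mul_assoc]
        have hPBdet : (P * B').det ≠ 0 := by
          rw [Matrix.det_mul]; exact mul_ne_zero hPdet hB'det
        obtain ⟨Pm, hPm, hconj⟩ := conj_SL (diag_comm (-s) (-s) s) hBdet hPBdet hXB hyPB
        rw [hXdef] at hconj
        obtain ⟨G, hG, hGx⟩ := conj_of_matrix hPm hconj
        exact ⟨G, hG, by rw [hGx]; exact hyN⟩
      · exfalso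
        have := congrArg Matrix.det hB
        have e : (∏ i : Fin 3, (![(1 : F), 1, -1] : Fin 3 → F) i) = -1 := by
          simp [Fin.prod_univ_three]
        rw [Matrix.det_mul, Matrix.det_mul, hX1det, one_mul, Matrix.det_diagonal, e] at this
        have h2 : (2 : F) * B.det = 0 := by linear_combination this
        rcases mul_eq_zero.mp h2 with h | h
        · exact h2F h
        · exact hBdet h
    · intro x hx ⟨z, hz⟩ hns
      rw [mem_SL_iff] at hx
      obtain ⟨X, hXdef⟩ : ∃ X, X = (x : Matrix (Fin 3) (Fin 3) F) := ⟨_, rfl⟩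
      have hz' : X ^ 3 = z • (1 : Matrix (Fin 3) (Fin 3) F) := by
        rw [← hz, Units.val_pow_eq_pow_val, hXdef]
      have hx' : X.det = 1 := by rw [hXdef]; exact hx
      have hns' : ∀ t : F, X ≠ t • (1 : Matrix (Fin 3) (Fin 3) F) := by rw [hXdef]; exact hns
      by_cases hz1 : z = 1
      · rw [hz1, one_smul] at hz'
        have hχ := charpoly_of_cube_eq_one X hx' hz' hns'
        obtain ⟨B, hBdet, hXB⟩ := split_form hχ fr.hlam fr.h3F
        rw [hXdef] at hXB
        refine conj_to_diag fr x hx hBdet hXB ?_ ?_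
        · rw [div_one]; exact hl3
        · have : lam ^ 2 / lam = lam := by field_simp
          rw [this]; exact hl3
      · obtain ⟨s, hs⟩ := exists_cube_root X hx' z hz' hz1 hns'
        have hz3 : z ^ 3 = 1 := by
          have := congrArg Matrix.det hz'
          rw [Matrix.det_pow, hx', one_pow, Matrix.det_smul, Matrix.det_one, mul_one,
            Fintype.card_fin] at this
          exact this.symm
        have hz0 : z ≠ 0 := by rintro rfl; simp at hz3
        have hs0 : s ≠ 0 := by
          rintro rfl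
          rw [zero_pow (by norm_num)] at hs
          exact hz0 hs.symm
        obtain ⟨X1, hX1⟩ : ∃ X1, X1 = s⁻¹ • X := ⟨_, rfl⟩
        have hXX1 : X = s • X1 := by rw [hX1, smul_smul, mul_inv_cancel₀ hs0, one_smul]
        have hX1cube : X1 ^ 3 = 1 := by
          rw [hX1, _root_.smul_pow, hz', smul_smul, inv_pow, hs, inv_mul_cancel₀ hz0, one_smul]
        have hX1det : X1.det ≠ 1 := by
          rw [hX1, Matrix.det_smul, hx', mul_one, Fintype.card_fin, inv_pow, hs]
          intro h
          apply hz1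
          rw [inv_eq_one] at h
          exact h
        have hX1ns : ∀ t : F, X1 ≠ t • (1 : Matrix (Fin 3) (Fin 3) F) := by
          intro t ht
          apply hns' (s * t)
          rw [hXX1, ht, smul_smul]
        obtain ⟨μ, hμ3, hμdet⟩ : ∃ μ : F, μ ^ 3 = 1 ∧
            (X1 - μ • (1 : Matrix (Fin 3) (Fin 3) F)).det ≠ 0 := by
          by_contra hcon
          push Not at hcon
          exact hX1det (det_eq_one_of_sing fr.hlam fr.h3F (hcon 1 (one_pow 3)) (hcon lam hl3)
            (hcon (lam ^ 2) (lam2_cube fr.hlam)))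
        have hq := quad_of_inv hX1cube hμ3 fr.hlam hμdet
        have hμ0 : μ ≠ 0 := by rintro rfl; simp at hμ3
        have hαβ : μ * lam ≠ μ * lam ^ 2 := by
          intro h
          have h1 := mul_left_cancel₀ hμ0 h
          apply hl1
          have : lam * (lam - 1) = 0 := by linear_combination -h1
          rcases mul_eq_zero.mp this with h' | h'
          · exact absurd h' hl0
          · exact sub_eq_zero.mp h'
        have hα3 : (μ * lam) ^ 3 = 1 := by rw [mul_pow, hμ3, hl3, one_mul]
        have hβ3 : (μ * lam ^ 2) ^ 3 = 1 := by rw [mul_pow, hμ3, lam2_cube fr.hlam, one_mul]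
        have hα0 : μ * lam ≠ 0 := mul_ne_zero hμ0 hl0
        have hβ0 : μ * lam ^ 2 ≠ 0 := mul_ne_zero hμ0 (pow_ne_zero 2 hl0)
        have hsm : ∀ (e₀ e₁ e₂ : F), s • Matrix.diagonal ![e₀, e₁, e₂] =
            Matrix.diagonal ![s * e₀, s * e₁, s * e₂] := by
          intro e₀ e₁ e₂
          ext i j
          fin_cases i <;> fin_cases j <;> simp [Matrix.diagonal_apply]
        have hratio : ∀ e e' : F, e ^ 3 = 1 → e' ^ 3 = 1 → (s * e' / (s * e)) ^ 3 = 1 := by
          intro e e' he he'
          rw [div_pow, mul_pow, mul_pow, he, he', div_self]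
          rw [mul_one]; exact pow_ne_zero 3 hs0
        obtain ⟨B, hBdet, hB | hB⟩ := two_eig_form hαβ hq (hX1ns _) (hX1ns _)
        · have hXB : (x : Matrix (Fin 3) (Fin 3) F) * B =
              B * Matrix.diagonal ![s * (μ * lam), s * (μ * lam), s * (μ * lam ^ 2)] := by
            rw [← hXdef, hXX1, smul_mul_assoc, hB, ← mul_smul_comm, hsm]
          exact conj_to_diag fr x hx hBdet hXB (hratio _ _ hα3 hα3) (hratio _ _ hα3 hβ3)
        · have hXB : (x : Matrix (Fin 3) (Fin 3) F) * B =
              B * Matrix.diagonal ![s * (μ * lam ^ 2), s * (μ * lam ^ 2), s * (μ * lam)] := by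
            rw [← hXdef, hXX1, smul_mul_assoc, hB, ← mul_smul_comm, hsm]
          exact conj_to_diag fr x hx hBdet hXB (hratio _ _ hβ3 hβ3) (hratio _ _ hβ3 hα3)

end Cfsg.Agent.S5998
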