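import Mathlib
import Cfsg.Statements.S5999
import Cfsg.Agent.S5998
import Cfsg.Agent.S0277
import Cfsg.Agent.Lib.Helper99.Extra27U
import Cfsg.Agent.Lib.Helper99.PGroupCount

set_option autoImplicit false
set_option linter.style.haveILetI false
set_option linter.unusedSimpArgs false
set_option linter.unusedSectionVars false
open scoped MatrixGroups
open Cfsg

namespace Cfsg.Agent.S5999

open Matrix Polynomial Cfsg.Agent.Lib.Helper99 Cfsg.Agent.Lib.Helper99.Cubic3
  Cfsg.Agent.Lib.Helper99.Extra27 Cfsg.Agent.Lib.Helper99.Extra27U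
open Cfsg.Agent.Lib.Helper08 (hform IsIsoMat)
open Cfsg.Agent.S5998 (mem_SL_iff quad_of_inv det_eq_one_of_sing)

section aux
variable {F : Type*} [Field F] [Fintype F] {q : ℕ}

/-- `GL` element from an isometry matrix -/
lemma exists_GU_of_isIso (hF : Fintype.card F = q ^ 2) {B : Matrix (Fin 3) (Fin 3) F}
    (hB : IsIsoMat q B) :
    ∃ Bg : GL (Fin 3) F, Bg ∈ Cfsg.GU 3 F q ∧ (Bg : Matrix (Fin 3) (Fin 3) F) = B := by
  obtain ⟨u, hu⟩ := hB.isUnit hF
  refine ⟨u, ?_, hu⟩
  apply mem_GU_of_isIso
  rw [hu]; exact hB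

lemma det_ne_zero_of_isIso (hF : Fintype.card F = q ^ 2) {B : Matrix (Fin 3) (Fin 3) F}
    (hB : IsIsoMat q B) : B.det ≠ 0 := by
  have := (Matrix.isUnit_iff_isUnit_det B).mp (hB.isUnit hF)
  exact this.ne_zero

/-- an element of `SU` unitarily diagonalisable with eigenvalue ratios cube roots of unity is
conjugate into the normaliser -/
lemma conj_to_diag_U (hF : Fintype.card F = q ^ 2) {R : Subgroup (GL (Fin 3) F)} [Finite R]
    {lam : F} {P Pi : Matrix (Fin 3) (Fin 3) F} {a b c : GL (Fin 3) F}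
    (fr : Frame R lam P Pi a b c) (hP : IsIsoMat q P)
    (x : GL (Fin 3) F) (hx : (x : Matrix (Fin 3) (Fin 3) F).det = 1)
    {B : Matrix (Fin 3) (Fin 3) F} (hB : IsIsoMat q B) {d₀ d₁ d₂ : F}
    (hxB : (x : Matrix (Fin 3) (Fin 3) F) * B = B * Matrix.diagonal ![d₀, d₁, d₂])
    (h10 : (d₁ / d₀) ^ 3 = 1) (h21 : (d₂ / d₁) ^ 3 = 1) :
    ∃ g ∈ Cfsg.GU 3 F q ⊓ Cfsg.Geo.specialLinear (Fin 3) F,
      g⁻¹ * x * g ∈ Cfsg.Geo.subgroupNormalizer R := by
  have hBdet := det_ne_zero_of_isIso hF hB
  have hprod : d₀ * d₁ * d₂ = 1 := by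
    have := congrArg Matrix.det hxB
    rw [Matrix.det_mul, Matrix.det_mul, hx, one_mul, Matrix.det_diagonal] at this
    simp only [Fin.prod_univ_three, Matrix.cons_val_zero, Matrix.cons_val_one,
      Matrix.cons_val_two, Matrix.cons_val] at this
    have h2 : B.det * (d₀ * d₁ * d₂ - 1) = 0 := by
      simp at this
      linear_combination -this
    rcases mul_eq_zero.mp h2 with h | h
    · exact absurd h hBdet
    · exact sub_eq_zero.mp h
  have hd₀ : d₀ ≠ 0 := by rintro rfl; simp at hprod
  have hd₁ : d₁ ≠ 0 := by rintro rfl; simp at hprod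
  have hd₂ : d₂ ≠ 0 := by rintro rfl; simp at hprod
  obtain ⟨y, hy⟩ := exists_ofRep fr.hPPi fr.hPiP (Matrix.diagonal ![d₀, d₁, d₂]) (by
    rw [Matrix.det_diagonal]
    simp only [Fin.prod_univ_three, Matrix.cons_val_zero, Matrix.cons_val_one,
      Matrix.cons_val_two, Matrix.cons_val]
    simp
    exact ⟨⟨hd₀, hd₁⟩, hd₂⟩)
  have hyN : y ∈ Cfsg.Geo.subgroupNormalizer R := fr.diag_mem_normalizer hy hd₀ hd₁ hd₂ h10 h21
  have hyP := mul_of_rep fr.hPPi hy
  obtain ⟨Bg, hBgU, hBg⟩ := exists_GU_of_isIso hF hB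
  obtain ⟨Pg, hPgU, hPg⟩ := exists_GU_of_isIso hF hP
  rw [← hBg] at hxB
  rw [← hPg] at hyP
  obtain ⟨G, hG, hGx⟩ := conj_SU hF hBgU hPgU hxB hyP
  exact ⟨G, hG, by rw [hGx]; exact hyN⟩

/-- unitary diagonal form of an element of `GU` whose square is scalar -/
lemma invol_diag (hF : Fintype.card F = q ^ 2) (h2F : (2 : F) ≠ 0) (hodd : Odd q)
    (h3 : 3 ∣ q + 1) {X : Matrix (Fin 3) (Fin 3) F} (hXU : IsIsoMat q X) (hdet : X.det = 1)
    {z : F} (hz' : X * X = z • (1 : Matrix (Fin 3) (Fin 3) F))
    (hns : ∀ t : F, X ≠ t • (1 : Matrix (Fin 3) (Fin 3) F)) :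
    ∃ B : Matrix (Fin 3) (Fin 3) F, IsIsoMat q B ∧
      X * B = B * Matrix.diagonal ![-(z ^ 2), -(z ^ 2), z ^ 2] := by
  have hz3 : z ^ 3 = 1 := by
    have := congrArg Matrix.det hz'
    rw [Matrix.det_mul, hdet, one_mul, Matrix.det_smul, Matrix.det_one, mul_one,
      Fintype.card_fin] at this
    exact this.symm
  obtain ⟨s, hs⟩ : ∃ s, s = z ^ 2 := ⟨_, rfl⟩
  rw [← hs]
  have hs2 : s ^ 2 = z := by
    rw [hs, ← pow_mul]
    calc z ^ (2 * 2) = z ^ 3 * z := by ring
      _ = z := by rw [hz3, one_mul]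
  have hs3 : s ^ 3 = 1 := by rw [hs, ← pow_mul, mul_comm, pow_mul, hz3, one_pow]
  have hs0 : s ≠ 0 := by rintro rfl; simp at hs3
  have hsq : s ^ (q + 1) = 1 := by
    obtain ⟨k, hk⟩ := h3
    rw [hk, pow_mul, hs3, one_pow]
  have hsiq : (s⁻¹) ^ (q + 1) = 1 := by rw [inv_pow, hsq, inv_one]
  obtain ⟨X1, hX1⟩ : ∃ X1, X1 = s⁻¹ • X := ⟨_, rfl⟩
  have hX1U : IsIsoMat q X1 := by rw [hX1]; exact isIso_smul hsiq hXU
  have hXX1 : X = s • X1 := by rw [hX1, smul_smul, mul_inv_cancel₀ hs0, one_smul]
  have hX1sq : X1 * X1 = 1 := by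
    rw [hX1, smul_mul_assoc, mul_smul_comm, smul_smul, hz', smul_smul, ← hs2]
    have : s⁻¹ * s⁻¹ * s ^ 2 = 1 := by field_simp
    rw [this, one_smul]
  have hX1det : X1.det = 1 := by
    rw [hX1, Matrix.det_smul, hdet, mul_one, Fintype.card_fin, inv_pow, hs3, inv_one]
  have hX1ns : ∀ t : F, X1 ≠ t • (1 : Matrix (Fin 3) (Fin 3) F) := by
    intro t ht
    apply hns (s * t)
    rw [hXX1, ht, smul_smul]
  have hne : (-1 : F) ≠ 1 := by
    intro h
    apply h2F
    linear_combination -h
  have h0 : (X1 - (-1 : F) • (1 : Matrix (Fin 3) (Fin 3) F)) *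
      (X1 - (1 : F) • (1 : Matrix (Fin 3) (Fin 3) F)) = 0 := by
    simp only [neg_smul, one_smul, sub_neg_eq_add, add_mul, mul_sub, mul_one, one_mul, hX1sq]
    abel
  have hm1 : (-1 : F) ^ (q + 1) = 1 := by
    have : Even (q + 1) := by
      rcases hodd with ⟨k, hk⟩
      exact ⟨k + 1, by omega⟩
    exact this.neg_one_pow
  have hsm : ∀ (e₀ e₁ e₂ : F), s • Matrix.diagonal ![e₀, e₁, e₂] =
      Matrix.diagonal ![s * e₀, s * e₁, s * e₂] := by
    intro e₀ e₁ e₂
    ext i j
    fin_cases i <;> fin_cases j <;> simp [Matrix.diagonal_apply]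
  obtain ⟨B, hBU, hB | hB⟩ := unitary_diag_two hF h2F hX1U hne hm1 (one_pow _) h0 (hX1ns _)
    (hX1ns _)
  · refine ⟨B, hBU, ?_⟩
    rw [hXX1, smul_mul_assoc, hB, ← mul_smul_comm, hsm]
    simp
  · exfalso
    have hBdet := det_ne_zero_of_isIso hF hBU
    have := congrArg Matrix.det hB
    have e : (∏ i : Fin 3, (![(1 : F), 1, -1] : Fin 3 → F) i) = -1 := by
      simp [Fin.prod_univ_three]
    rw [Matrix.det_mul, Matrix.det_mul, hX1det, one_mul, Matrix.det_diagonal, e] at this
    have h2 : (2 : F) * B.det = 0 := by linear_combination this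
    rcases mul_eq_zero.mp h2 with h | h
    · exact h2F h
    · exact hBdet h

end aux

/-- Elements of prime order of PSU_3(p), p ≡ 2 (mod 3), and the normalizer of an extraspecial subgroup of order 27. Here `T = PSU_3(p)` for a prime `p ≥ 5` with `p ≡ 2 (mod 3)`, realised through `SU_3(p)`, the matrices of determinant 1 over the field `F` with `p²` elements preserving the hermitian form `Σ uᵢvᵢ^p`; `R` is a non-abelian subgroup of order 27 and exponent 3 of the full unitary group of that form (an extraspecial group 3^{1+2}, acting absolutely irreducibly), and `H` is the subgroup of `SU_3(p)` normalizing `R` — a subgroup of type 3^{1+2}.Sp₂(3) (maximality is not assumed). Ω is the set of cosets of `H`, so an element of `T` of prime order `r` (`x ∈ SU_3(p)` with `x^r` scalar, `x` not scalar) fixes a point of Ω exactly when some `SU_3(p)`-conjugate of `x` normalizes `R`. Let `r` be a prime dividing the index of `H`. Then every element of `T` of order `r` fixes a point of Ω if and only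 if `r = 2`, or `r = 3` and `p ≡ 8 (mod 9)`. -/
theorem result {F : Type*} [Field F] [Fintype F] {p : ℕ} [Fact p.Prime] [CharP F p] (hF : Fintype.card F = p ^ 2) (hp : 5 ≤ p) (hp3 : p % 3 = 2)
    (R : Subgroup (GL (Fin 3) F)) (hRU : R ≤ Cfsg.GU 3 F p) (hR : Nat.card R = 27) (hRe : Monoid.exponent R = 3) (hRna : ¬ IsMulCommutative R)
    (r : ℕ) [Fact r.Prime]
    (hΩ : r ∣ (Cfsg.Geo.subgroupNormalizer R).relIndex (Cfsg.GU 3 F p ⊓ Cfsg.Geo.specialLinear (Fin 3) F)) :
    (∀ x ∈ Cfsg.GU 3 F p ⊓ Cfsg.Geo.specialLinear (Fin 3) F, (∃ z : F, ((x ^ r : GL (Fin 3) F) : Matrix (Fin 3) (Fin 3) F) = z • (1 : Matrix (Fin 3) (Fin 3) F)) →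
      (∀ z : F, (x : Matrix (Fin 3) (Fin 3) F) ≠ z • (1 : Matrix (Fin 3) (Fin 3) F)) →
      ∃ g ∈ Cfsg.GU 3 F p ⊓ Cfsg.Geo.specialLinear (Fin 3) F, g⁻¹ * x * g ∈ Cfsg.Geo.subgroupNormalizer R) ↔ (r = 2 ∨ (r = 3 ∧ p % 9 = 8)) := by
  classical
  have hpp : p.Prime := Fact.out
  have hrp : r.Prime := Fact.out
  have h2F : (2 : F) ≠ 0 := by
    have := (CharP.cast_eq_zero_iff F p 2).not.mpr (fun h => by
      have := Nat.le_of_dvd (by norm_num) h; omega)
    exact_mod_cast this
  have h3F : (3 : F) ≠ 0 := by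
    have := (CharP.cast_eq_zero_iff F p 3).not.mpr (fun h => by
      have := Nat.le_of_dvd (by norm_num) h; omega)
    exact_mod_cast this
  obtain ⟨j, hj⟩ : ∃ j, p = 3 * j + 2 := ⟨p / 3, by omega⟩
  have h3p1 : 3 ∣ p + 1 := ⟨j + 1, by omega⟩
  have hodd : Odd p := by
    rcases hpp.eq_two_or_odd' with h | h
    · omega
    · exact h
  -- a primitive cube root of unity
  obtain ⟨ω, hω⟩ : ∃ ω : F, ω ^ 2 + ω + 1 = 0 := by
    have h3 : 3 ∣ Nat.card Fˣ := by
      rw [Nat.card_eq_fintype_card, Fintype.card_units, hF, hj]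
      have : (3 * j + 2) ^ 2 - 1 = 3 * (3 * j ^ 2 + 4 * j + 1) :=
        Nat.sub_eq_of_eq_add (by ring)
      rw [this]
      exact Dvd.intro _ rfl
    haveI : Fact (Nat.Prime 3) := ⟨Nat.prime_three⟩
    obtain ⟨u, hu⟩ := exists_prime_orderOf_dvd_card' 3 h3
    have hu3 : (u : F) ^ 3 = 1 := by
      have := pow_orderOf_eq_one u
      rw [hu] at this
      have h' := congrArg Units.val this
      simpa using h'
    have hu1 : (u : F) ≠ 1 := by
      intro h
      have : u = 1 := Units.ext h
      rw [this, orderOf_one] at hu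
      norm_num at hu
    refine ⟨(u : F), ?_⟩
    have : ((u : F) - 1) * ((u : F) ^ 2 + (u : F) + 1) = 0 := by linear_combination hu3
    rcases mul_eq_zero.mp this with h | h
    · exact absurd (sub_eq_zero.mp h) hu1
    · exact h
  obtain ⟨lam, P₀, Pi₀, a, b, c, fr₀⟩ := exists_frame R hR hRe hRna hω h3F
  have hl3 := lam_cube fr₀.hlam
  have hcube_q : ∀ t : F, t ^ 3 = 1 → t ^ (p + 1) = 1 := by
    intro t ht
    obtain ⟨k, hk⟩ := h3p1
    rw [hk, pow_mul, ht, one_pow]
  obtain ⟨P, Pi, fr, hPU⟩ := exists_unitary_frame hF hRU fr₀ (hcube_q lam hl3)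
  haveI : Finite R := Nat.finite_of_card_ne_zero (by rw [hR]; norm_num)
  have hRN : R ≤ Cfsg.Geo.subgroupNormalizer R := Subgroup.le_normalizer
  have hl1 := lam_ne_one fr.hlam fr.h3F
  have hl0 := lam_ne_zero fr.hlam
  constructor
  · intro H
    by_cases hr2 : r = 2
    · left; exact hr2
    by_cases hr3 : r = 3
    · right
      refine ⟨hr3, ?_⟩
      subst hr3
      by_contra h9
      have hRSL : R ≤ Cfsg.GU 3 F p ⊓ Cfsg.Geo.specialLinear (Fin 3) F := le_inf hRU fr.le_SL
      have h27 : 27 ∣ Nat.card ((Cfsg.Geo.subgroupNormalizer R).subgroupOf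
          (Cfsg.GU 3 F p ⊓ Cfsg.Geo.specialLinear (Fin 3) F)) := by
        have h1 : Nat.card (R.subgroupOf (Cfsg.GU 3 F p ⊓ Cfsg.Geo.specialLinear (Fin 3) F)) =
            27 := by
          rw [Nat.card_congr (Subgroup.subgroupOfEquivOfLe hRSL).toEquiv, hR]
        rw [← h1]
        exact Subgroup.card_dvd_of_le (Subgroup.comap_mono hRN)
      have h81 : 81 ∣ Nat.card ↥(Cfsg.GU 3 F p ⊓ Cfsg.Geo.specialLinear (Fin 3) F) := by
        have := Subgroup.card_mul_index ((Cfsg.Geo.subgroupNormalizer R).subgroupOf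
          (Cfsg.GU 3 F p ⊓ Cfsg.Geo.specialLinear (Fin 3) F))
        rw [← this]
        exact Nat.mul_dvd_mul h27 hΩ
      have hcard := card_GU_inf_SL hF
      rw [Cfsg.Agent.S0277.result hF 3] at hcard
      obtain ⟨N, hN⟩ : ∃ N, N = Nat.card ↥(Cfsg.GU 3 F p ⊓ Cfsg.Geo.specialLinear (Fin 3) F) :=
        ⟨_, rfl⟩
      rw [← hN] at hcard h81
      have hprod : (∏ i ∈ Finset.range 3, (if Even i then p ^ (i + 1) + 1 else p ^ (i + 1) - 1)) =
          (p + 1) * (p ^ 2 - 1) * (p ^ 3 + 1) := by
        rw [Finset.prod_range_succ, Finset.prod_range_succ, Finset.prod_range_one]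
        have h1 : ¬ Even 1 := by decide
        have h0 : Even 0 := by decide
        have h2 : Even 2 := by decide
        rw [if_pos h0, if_neg h1, if_pos h2]
        norm_num
      rw [hprod, show 3 * (3 - 1) / 2 = 3 by norm_num] at hcard
      have hj3 : (j + 1) % 3 = 1 ∨ (j + 1) % 3 = 2 := by omega
      rw [hj] at hcard
      have e1 : (3 * j + 2) ^ 2 - 1 = 3 * ((3 * j + 1) * (j + 1)) :=
        Nat.sub_eq_of_eq_add (by ring)
      have e2 : (3 * j + 2) ^ 3 + 1 = 9 * ((j + 1) * (3 * j ^ 2 + 3 * j + 1)) := by ring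
      have hSLcard : N =
          27 * ((3 * j + 2) ^ 3 * (3 * j + 1) * (j + 1) ^ 2 * (3 * j ^ 2 + 3 * j + 1)) := by
        apply Nat.eq_of_mul_eq_mul_right (show 0 < 3 * j + 2 + 1 by omega)
        rw [hcard, e1, e2]
        ring
      rw [hSLcard, show (81 : ℕ) = 27 * 3 by norm_num] at h81
      have h3 : 3 ∣ (3 * j + 2) ^ 3 * (3 * j + 1) * (j + 1) ^ 2 * (3 * j ^ 2 + 3 * j + 1) :=
        Nat.dvd_of_mul_dvd_mul_left (by norm_num) h81
      rcases (Nat.Prime.dvd_mul Nat.prime_three).mp h3 with h | h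
      · rcases (Nat.Prime.dvd_mul Nat.prime_three).mp h with h | h
        · rcases (Nat.Prime.dvd_mul Nat.prime_three).mp h with h | h
          · have := Nat.Prime.dvd_of_dvd_pow Nat.prime_three h
            omega
          · omega
        · have := Nat.Prime.dvd_of_dvd_pow Nat.prime_three h
          omega
      · generalize j ^ 2 = s at h
        omega
    · exfalso
      have hr5 : 5 ≤ r := by
        by_contra hlt
        push Not at hlt
        have := hrp.two_le
        interval_cases r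
        · exact hr2 rfl
        · exact hr3 rfl
        · exact absurd hrp (by decide)
      have hdvd : r ∣ Nat.card ↥(Cfsg.GU 3 F p ⊓ Cfsg.Geo.specialLinear (Fin 3) F) := by
        refine dvd_trans hΩ ?_
        rw [Subgroup.relIndex]
        exact Subgroup.index_dvd_card _
      obtain ⟨x', hx'⟩ := exists_prime_orderOf_dvd_card' r hdvd
      have hxo : orderOf (x' : GL (Fin 3) F) = r := by rw [Subgroup.orderOf_coe, hx']
      obtain ⟨x, hxdef⟩ : ∃ x : GL (Fin 3) F, x = (x' : GL (Fin 3) F) := ⟨_, rfl⟩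
      rw [← hxdef] at hxo
      have hxr : x ^ r = 1 := by rw [← hxo]; exact pow_orderOf_eq_one x
      have hxSL : x ∈ Cfsg.GU 3 F p ⊓ Cfsg.Geo.specialLinear (Fin 3) F := by
        rw [hxdef]; exact x'.2
      have hxdet := (mem_SL_iff x).mp (Subgroup.mem_inf.mp hxSL).2
      have hns : ∀ z : F, (x : Matrix (Fin 3) (Fin 3) F) ≠ z • (1 : Matrix (Fin 3) (Fin 3) F) := by
        intro t ht
        rw [ht] at hxdet
        have ht3 : t ^ 3 = 1 := by
          rw [Matrix.det_smul, Matrix.det_one, Fintype.card_fin, mul_one] at hxdet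
          exact hxdet
        have hx3 : x ^ 3 = 1 := by
          apply Units.ext
          rw [Units.val_pow_eq_pow_val, ht, _root_.smul_pow, one_pow, ht3, one_smul]
          rfl
        have := orderOf_dvd_of_pow_eq_one hx3
        rw [hxo] at this
        have := Nat.le_of_dvd (by norm_num) this
        omega
      obtain ⟨g, hgSL, hy⟩ := H x hxSL ⟨1, by rw [hxr]; simp⟩ hns
      obtain ⟨y, hydef⟩ : ∃ y, y = g⁻¹ * x * g := ⟨_, rfl⟩
      rw [← hydef] at hy
      have hyr : y ^ r = 1 := by
        rw [hydef, show g⁻¹ * x * g = g⁻¹ * x * g⁻¹⁻¹ by rw [inv_inv], conj_pow, hxr]; simp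
      have hyk : ∀ k : ℤ, y ^ k ∈ Cfsg.Geo.subgroupNormalizer R := fun k => Subgroup.zpow_mem _ hy k
      have hPG : IsPGroup r (Subgroup.zpowers y) := by
        intro w
        obtain ⟨w, hw⟩ := w
        obtain ⟨k, rfl⟩ := Subgroup.mem_zpowers_iff.mp hw
        refine ⟨1, ?_⟩
        apply Subtype.ext
        simp only [pow_one, Subgroup.coe_pow, Subgroup.coe_one]
        rw [← zpow_natCast, ← _root_.zpow_mul, mul_comm, _root_.zpow_mul, zpow_natCast, hyr,
          _root_.one_zpow]
      let _inst : MulAction (Subgroup.zpowers y) (GL (Fin 3) F) :=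
        MulAction.compHom (GL (Fin 3) F) ((MulAut.conj).comp (Subgroup.zpowers y).subtype)
      have hsmul : ∀ (w : Subgroup.zpowers y) (a : GL (Fin 3) F),
          w • a = (w : GL (Fin 3) F) * a * (w : GL (Fin 3) F)⁻¹ := fun w a => rfl
      have hRfin : (R : Set (GL (Fin 3) F)).Finite := Set.toFinite _
      let O : Finset (GL (Fin 3) F) := hRfin.toFinset
      have hOmem : ∀ a, a ∈ O ↔ a ∈ R := fun a => by simp [O]
      have hinv : ∀ w : Subgroup.zpowers y, ∀ a ∈ O, w • a ∈ O := by
        intro w a ha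
        rw [hOmem] at ha ⊢
        rw [hsmul]
        obtain ⟨w, hw⟩ := w
        obtain ⟨k, rfl⟩ := Subgroup.mem_zpowers_iff.mp hw
        exact (Subgroup.mem_normalizer_iff.mp (hyk k) a).mp ha
      have hmod := card_invariant_modEq hPG O hinv
      have hOcard : O.card = 27 := by
        have h1 : O.card = Nat.card R := by
          show _ = Nat.card (R : Set (GL (Fin 3) F))
          rw [Nat.card_coe_set_eq, Set.ncard_eq_toFinset_card _ hRfin]
        rw [h1, hR]
      have hfix : {a : GL (Fin 3) F | a ∈ O ∧ ∀ w : Subgroup.zpowers y, w • a = a} =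
          ((R ⊓ Subgroup.centralizer {y} : Subgroup (GL (Fin 3) F)) : Set (GL (Fin 3) F)) := by
        ext a
        simp only [Set.mem_ofPred_eq, hOmem, Subgroup.coe_inf, Set.mem_inter_iff, SetLike.mem_coe,
          Subgroup.mem_centralizer_singleton_iff]
        constructor
        · rintro ⟨haR, hfix⟩
          refine ⟨haR, ?_⟩
          have := hfix ⟨y, Subgroup.mem_zpowers y⟩
          rw [hsmul] at this
          simp only at this
          rw [mul_inv_eq_iff_eq_mul] at this
          exact this.symm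
        · rintro ⟨haR, hcomm⟩
          refine ⟨haR, ?_⟩
          rintro ⟨w, hw⟩
          obtain ⟨k, rfl⟩ := Subgroup.mem_zpowers_iff.mp hw
          rw [hsmul]
          simp only
          rw [mul_inv_eq_iff_eq_mul]
          have hc : Commute a y := hcomm
          exact ((hc.zpow_right k).eq).symm
      rw [hfix, hOcard] at hmod
      obtain ⟨C, hCdef⟩ : ∃ C : Subgroup (GL (Fin 3) F), C = R ⊓ Subgroup.centralizer {y} :=
        ⟨_, rfl⟩
      rw [← hCdef] at hmod
      have hCcard : (C : Set (GL (Fin 3) F)).ncard = Nat.card C := (Nat.card_coe_set_eq _).symm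
      rw [hCcard] at hmod
      have hCR : C ≤ R := by rw [hCdef]; exact inf_le_left
      have hCdvd : Nat.card C ∣ 27 := by
        rw [← hR]; exact Subgroup.card_dvd_of_le hCR
      have hcC : c ∈ C := by
        rw [hCdef]
        refine Subgroup.mem_inf.mpr ⟨fr.hc, ?_⟩
        rw [Subgroup.mem_centralizer_singleton_iff]
        apply Units.ext
        rw [Units.val_mul, Units.val_mul, fr.rc]
        simp
      have hc1 : c ≠ 1 := by
        intro h
        have := fr.rc
        rw [h] at this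
        have h00 := congrFun (congrFun this 0) 0
        simp at h00
        exact hl1 h00.symm
      have hCne : Nat.card C ≠ 1 := by
        intro h1
        have := (Subgroup.card_eq_one.mp h1)
        rw [this, Subgroup.mem_bot] at hcC
        exact hc1 hcC
      have hC27 : Nat.card C = 27 := by
        have hmem : Nat.card C ∈ Nat.divisors 27 := Nat.mem_divisors.mpr ⟨hCdvd, by norm_num⟩
        have hdiv : Nat.divisors 27 = {1, 3, 9, 27} := by decide
        rw [hdiv] at hmem
        simp only [Finset.mem_insert, Finset.mem_singleton] at hmem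
        rcases hmem with h | h | h | h
        · exact absurd h hCne
        · rw [h] at hmod
          have hd : r ∣ 2 ^ 3 * 3 := (Nat.modEq_iff_dvd' (by norm_num : 3 ≤ 27)).mp hmod.symm
          rcases (Nat.Prime.dvd_mul hrp).mp hd with h' | h'
          · have := Nat.Prime.dvd_of_dvd_pow hrp h'
            have := Nat.le_of_dvd (by norm_num) this; omega
          · have := Nat.le_of_dvd (by norm_num) h'; omega
        · rw [h] at hmod
          have hd : r ∣ 2 * 3 ^ 2 := (Nat.modEq_iff_dvd' (by norm_num : 9 ≤ 27)).mp hmod.symm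
          rcases (Nat.Prime.dvd_mul hrp).mp hd with h' | h'
          · have := Nat.le_of_dvd (by norm_num) h'; omega
          · have := Nat.Prime.dvd_of_dvd_pow hrp h'
            have := Nat.le_of_dvd (by norm_num) this; omega
        · exact h
      have hCeq : C = R := by
        apply Subgroup.eq_of_le_of_card_ge hCR
        rw [hC27, hR]
      have hcent : R ≤ Subgroup.centralizer {y} := by
        rw [← hCeq, hCdef]; exact inf_le_right
      have hya : (y : Matrix (Fin 3) (Fin 3) F) * (a : Matrix (Fin 3) (Fin 3) F) =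
          (a : Matrix (Fin 3) (Fin 3) F) * (y : Matrix (Fin 3) (Fin 3) F) := by
        have := Subgroup.mem_centralizer_singleton_iff.mp (hcent fr.ha)
        rw [← Units.val_mul, ← Units.val_mul, this]
      have hyb : (y : Matrix (Fin 3) (Fin 3) F) * (b : Matrix (Fin 3) (Fin 3) F) =
          (b : Matrix (Fin 3) (Fin 3) F) * (y : Matrix (Fin 3) (Fin 3) F) := by
        have := Subgroup.mem_centralizer_singleton_iff.mp (hcent fr.hb)
        rw [← Units.val_mul, ← Units.val_mul, this]
      obtain ⟨t, ht⟩ := fr.scalar_of_commute hya hyb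
      apply hns t
      have hx_eq : x = g * y * g⁻¹ := by rw [hydef]; group
      rw [hx_eq, Units.val_mul, Units.val_mul, ht]
      simp only [Matrix.mul_smul, Matrix.smul_mul, Matrix.mul_one]
      rw [← Units.val_mul, mul_inv_cancel]
      rfl
  · rintro (rfl | ⟨rfl, -⟩)
    · intro x hx ⟨z, hz⟩ hns
      obtain ⟨hxU, hxS⟩ := Subgroup.mem_inf.mp hx
      rw [mem_SL_iff] at hxS
      have hXU : IsIsoMat p (x : Matrix (Fin 3) (Fin 3) F) := isIso_of_mem_GU hxU
      have hz' : (x : Matrix (Fin 3) (Fin 3) F) * (x : Matrix (Fin 3) (Fin 3) F) =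
          z • (1 : Matrix (Fin 3) (Fin 3) F) := by
        rw [← hz, pow_two, Units.val_mul]
      have hz3 : z ^ 3 = 1 := by
        have := congrArg Matrix.det hz'
        rw [Matrix.det_mul, hxS, one_mul, Matrix.det_smul, Matrix.det_one, mul_one,
          Fintype.card_fin] at this
        exact this.symm
      obtain ⟨B, hBU, hXB⟩ := invol_diag hF h2F hodd h3p1 hXU hxS hz' hns
      -- the target element
      obtain ⟨s, hs⟩ : ∃ s, s = z ^ 2 := ⟨_, rfl⟩
      have hs2 : s ^ 2 = z := by
        rw [hs, ← pow_mul]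
        calc z ^ (2 * 2) = z ^ 3 * z := by ring
          _ = z := by rw [hz3, one_mul]
      have hs3 : s ^ 3 = 1 := by rw [hs, ← pow_mul, mul_comm, pow_mul, hz3, one_pow]
      have hs0 : s ≠ 0 := by rintro rfl; simp at hs3
      obtain ⟨y, hy⟩ := exists_ofRep fr.hPPi fr.hPiP ((-s) • T0 F) (by
        rw [Matrix.det_smul, T0, Matrix.det_fin_three]
        simp
        exact hs0)
      have hyN : y ∈ Cfsg.Geo.subgroupNormalizer R := fr.T_mem_normalizer hy
      have hyval := val_of_rep fr.hPPi hy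
      have hnsq : (-s) ^ (p + 1) = 1 := by
        have : Even (p + 1) := by
          rcases hodd with ⟨k, hk⟩
          exact ⟨k + 1, by omega⟩
        rw [this.neg_pow]
        exact hcube_q s hs3
      have hYU : IsIsoMat p (y : Matrix (Fin 3) (Fin 3) F) := by
        rw [hyval]
        exact ((hPU.mul (isIso_smul hnsq isIso_T0)).mul (isIso_inv_of hPU fr.hPPi))
      have hYdet : (y : Matrix (Fin 3) (Fin 3) F).det = 1 := by
        rw [← det_rep fr.hPiP, hy, Matrix.det_smul, T0, Matrix.det_fin_three]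
        simp
        have : (-s) ^ 3 = -1 := by rw [Odd.neg_pow (by decide), hs3]
        rw [this]; ring
      have hYsq : (y : Matrix (Fin 3) (Fin 3) F) * (y : Matrix (Fin 3) (Fin 3) F) =
          z • (1 : Matrix (Fin 3) (Fin 3) F) := by
        have hTT : T0 F * T0 F = 1 := by
          ext i j
          fin_cases i <;> fin_cases j <;> simp [T0, mul_apply, Fin.sum_univ_three]
        have hY0 : ((-s) • T0 F) * ((-s) • T0 F) = z • (1 : Matrix (Fin 3) (Fin 3) F) := by
          rw [smul_mul_assoc, mul_smul_comm, smul_smul, hTT]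
          congr 1
          rw [← hs2]; ring
        rw [hyval]
        calc P * (-s • T0 F) * Pi * (P * (-s • T0 F) * Pi)
            = P * ((-s • T0 F) * (Pi * P) * (-s • T0 F)) * Pi := by simp only [mul_assoc]
          _ = P * (z • (1 : Matrix (Fin 3) (Fin 3) F)) * Pi := by
              rw [fr.hPiP, mul_one, hY0]
          _ = z • (1 : Matrix (Fin 3) (Fin 3) F) := by
              rw [mul_smul_comm, mul_one, smul_mul_assoc, fr.hPPi]
      have hYns : ∀ t : F, (y : Matrix (Fin 3) (Fin 3) F) ≠ t • (1 : Matrix (Fin 3) (Fin 3) F) := by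
        intro t ht
        have h1 : rep P Pi y = t • (1 : Matrix (Fin 3) (Fin 3) F) := rep_scalar fr.hPiP ht
        rw [hy] at h1
        have h01 := congrFun (congrFun h1 1) 2
        simp [T0] at h01
        exact hs0 h01
      obtain ⟨B', hB'U, hYB'⟩ := invol_diag hF h2F hodd h3p1 hYU hYdet hYsq hYns
      obtain ⟨Bg, hBgU, hBg⟩ := exists_GU_of_isIso hF hBU
      obtain ⟨Bg', hBg'U, hBg'⟩ := exists_GU_of_isIso hF hB'U
      rw [← hBg] at hXB
      rw [← hBg'] at hYB'
      obtain ⟨G, hG, hGx⟩ := conj_SU hF hBgU hBg'U hXB hYB'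
      exact ⟨G, hG, by rw [hGx]; exact hyN⟩
    · intro x hx ⟨z, hz⟩ hns
      obtain ⟨hxU, hxS⟩ := Subgroup.mem_inf.mp hx
      rw [mem_SL_iff] at hxS
      obtain ⟨X, hXdef⟩ : ∃ X, X = (x : Matrix (Fin 3) (Fin 3) F) := ⟨_, rfl⟩
      have hXU : IsIsoMat p X := by rw [hXdef]; exact isIso_of_mem_GU hxU
      have hz' : X ^ 3 = z • (1 : Matrix (Fin 3) (Fin 3) F) := by
        rw [← hz, Units.val_pow_eq_pow_val, hXdef]
      have hx' : X.det = 1 := by rw [hXdef]; exact hxS
      have hns' : ∀ t : F, X ≠ t • (1 : Matrix (Fin 3) (Fin 3) F) := by rw [hXdef]; exact hns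
      have hl12 : lam ≠ lam ^ 2 := by
        intro h
        apply hl1
        have : lam * (lam - 1) = 0 := by linear_combination -h
        rcases mul_eq_zero.mp this with h' | h'
        · exact absurd h' hl0
        · exact sub_eq_zero.mp h'
      by_cases hz1 : z = 1
      · rw [hz1, one_smul] at hz'
        have hχ := charpoly_of_cube_eq_one X hx' hz' hns'
        obtain ⟨B₀, hB₀det, hXB₀⟩ := split_form hχ fr.hlam fr.h3F
        obtain ⟨B, hBU, hXB⟩ := unitary_diag_distinct hF hXU (Ne.symm hl1)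
          (Ne.symm (lam_sq_ne_one fr.hlam fr.h3F)) hl12 (hcube_q lam hl3)
          (hcube_q _ (lam2_cube fr.hlam)) hB₀det hXB₀
        rw [hXdef] at hXB
        refine conj_to_diag_U hF fr hPU x hxS hBU hXB ?_ ?_
        · rw [div_one]; exact hl3
        · have : lam ^ 2 / lam = lam := by field_simp
          rw [this]; exact hl3
      · obtain ⟨s, hs⟩ := exists_cube_root X hx' z hz' hz1 hns'
        have hz3 : z ^ 3 = 1 := by
          have := congrArg Matrix.det hz'
          rw [Matrix.det_pow, hx', one_pow, Matrix.det_smul, Matrix.det_one, mul_one,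
            Fintype.card_fin] at this
          exact this.symm
        have hz0 : z ≠ 0 := by rintro rfl; simp at hz3
        have hs0 : s ≠ 0 := by
          rintro rfl
          rw [zero_pow (by norm_num)] at hs
          exact hz0 hs.symm
        -- `s` has norm one
        have hsq : s ^ (p + 1) = 1 := by
          obtain ⟨w, hw⟩ : ∃ w, w = s ^ (p + 1) := ⟨_, rfl⟩
          rw [← hw]
          have hw3 : w ^ 3 = 1 := by
            rw [hw, ← pow_mul, mul_comm, pow_mul, hs]
            exact hcube_q z hz3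
          have hwp : w ^ (p - 1) = 1 := by
            rw [hw, ← pow_mul]
            have : (p + 1) * (p - 1) = Fintype.card F - 1 := by
              rw [hF]
              obtain ⟨m, rfl⟩ : ∃ m, p = m + 1 := ⟨p - 1, by omega⟩
              simp only [Nat.add_sub_cancel]
              have : (m + 1) ^ 2 = (m + 1 + 1) * m + 1 := by ring
              rw [this, Nat.add_sub_cancel]
            rw [this]
            exact FiniteField.pow_card_sub_one_eq_one s hs0
          have hp1 : p - 1 = 3 * j + 1 := by omega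
          rw [hp1, pow_succ, pow_mul, hw3, one_pow, one_mul] at hwp
          exact hwp
        have hsiq : (s⁻¹) ^ (p + 1) = 1 := by rw [inv_pow, hsq, inv_one]
        obtain ⟨X1, hX1⟩ : ∃ X1, X1 = s⁻¹ • X := ⟨_, rfl⟩
        have hX1U : IsIsoMat p X1 := by rw [hX1]; exact isIso_smul hsiq hXU
        have hXX1 : X = s • X1 := by rw [hX1, smul_smul, mul_inv_cancel₀ hs0, one_smul]
        have hX1cube : X1 ^ 3 = 1 := by
          rw [hX1, _root_.smul_pow, hz', smul_smul, inv_pow, hs, inv_mul_cancel₀ hz0, one_smul]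
        have hX1det : X1.det ≠ 1 := by
          rw [hX1, Matrix.det_smul, hx', mul_one, Fintype.card_fin, inv_pow, hs]
          intro h
          apply hz1
          rw [inv_eq_one] at h
          exact h
        have hX1ns : ∀ t : F, X1 ≠ t • (1 : Matrix (Fin 3) (Fin 3) F) := by
          intro t ht
          apply hns' (s * t)
          rw [hXX1, ht, smul_smul]
        obtain ⟨μ, hμ3, hμdet⟩ : ∃ μ : F, μ ^ 3 = 1 ∧
            (X1 - μ • (1 : Matrix (Fin 3) (Fin 3) F)).det ≠ 0 := by
          by_contra hcon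
          push Not at hcon
          exact hX1det (det_eq_one_of_sing fr.hlam fr.h3F (hcon 1 (one_pow 3)) (hcon lam hl3)
            (hcon (lam ^ 2) (lam2_cube fr.hlam)))
        have hq := quad_of_inv hX1cube hμ3 fr.hlam hμdet
        have hμ0 : μ ≠ 0 := by rintro rfl; simp at hμ3
        have hαβ : μ * lam ≠ μ * lam ^ 2 := by
          intro h
          exact hl12 (mul_left_cancel₀ hμ0 h)
        have hα3 : (μ * lam) ^ 3 = 1 := by rw [mul_pow, hμ3, hl3, one_mul]
        have hβ3 : (μ * lam ^ 2) ^ 3 = 1 := by rw [mul_pow, hμ3, lam2_cube fr.hlam, one_mul]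
        have hsm : ∀ (e₀ e₁ e₂ : F), s • Matrix.diagonal ![e₀, e₁, e₂] =
            Matrix.diagonal ![s * e₀, s * e₁, s * e₂] := by
          intro e₀ e₁ e₂
          ext i j
          fin_cases i <;> fin_cases j <;> simp [Matrix.diagonal_apply]
        have hratio : ∀ e e' : F, e ^ 3 = 1 → e' ^ 3 = 1 → (s * e' / (s * e)) ^ 3 = 1 := by
          intro e e' he he'
          rw [div_pow, mul_pow, mul_pow, he, he', div_self]
          rw [mul_one]; exact pow_ne_zero 3 hs0
        obtain ⟨B, hBU, hB | hB⟩ := unitary_diag_two hF h2F hX1U hαβ (hcube_q _ hα3)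
          (hcube_q _ hβ3) hq (hX1ns _) (hX1ns _)
        · have hXB : (x : Matrix (Fin 3) (Fin 3) F) * B =
              B * Matrix.diagonal ![s * (μ * lam), s * (μ * lam), s * (μ * lam ^ 2)] := by
            rw [← hXdef, hXX1, smul_mul_assoc, hB, ← mul_smul_comm, hsm]
          exact conj_to_diag_U hF fr hPU x hxS hBU hXB (hratio _ _ hα3 hα3) (hratio _ _ hα3 hβ3)
        · have hXB : (x : Matrix (Fin 3) (Fin 3) F) * B =
              B * Matrix.diagonal ![s * (μ * lam ^ 2), s * (μ * lam ^ 2), s * (μ * lam)] := by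
            rw [← hXdef, hXX1, smul_mul_assoc, hB, ← mul_smul_comm, hsm]
          exact conj_to_diag_U hF fr hPU x hxS hBU hXB (hratio _ _ hβ3 hβ3) (hratio _ _ hβ3 hα3)

end Cfsg.Agent.S5999
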