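import Mathlib
import Cfsg.Statements.S6000
import Cfsg.Agent.Lib.Helper99.Symp4B
import Cfsg.Agent.Lib.Helper99.Symp4K
import Cfsg.Agent.Lib.Helper99.Symp4M

set_option autoImplicit false
open scoped MatrixGroups
open Cfsg

namespace Cfsg.Agent.S6000

open scoped Matrix
open Cfsg.Agent.Lib.Helper99.Symp4B Cfsg.Agent.Lib.Helper99.Symp4C Cfsg.Agent.Lib.Helper99.Symp4F
open Cfsg.Agent.Lib.Helper99.Symp4J Cfsg.Agent.Lib.Helper99.Symp4K Cfsg.Agent.Lib.Helper99.Symp4M

theorem natCast_ne_zero {F : Type*} [Field F] {p : ℕ} [Fact p.Prime] [CharP F p] (k : ℕ) (hk : ¬ p ∣ k) :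
    (k : F) ≠ 0 := by
  intro h
  exact hk ((CharP.cast_eq_zero_iff F p k).mp h)

theorem no_root_three {F : Type*} [Field F] [Fintype F] {p : ℕ} [Fact p.Prime] [CharP F p]
    (hF : Fintype.card F = p) (hp3 : p % 3 = 2) (h3 : (3 : F) ≠ 0) :
    ∀ t : F, t * t ≠ (-1) * t + (-1) := by
  classical
  intro t ht
  have ht3 : t ^ 3 = 1 := by linear_combination (t - 1) * ht
  have ht0 : t ≠ 0 := by
    intro h0; rw [h0] at ht3; norm_num at ht3
  have ht1 : t ≠ 1 := by
    intro h1; rw [h1] at ht; apply h3; linear_combination ht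
  have : Fact (Nat.Prime 3) := ⟨by norm_num⟩
  have hord : orderOf (Units.mk0 t ht0) = 3 := by
    apply orderOf_eq_prime
    · apply Units.ext; simpa using ht3
    · intro h1; apply ht1; simpa using congrArg Units.val h1
  have hdvd : 3 ∣ Fintype.card Fˣ := by rw [← hord]; exact orderOf_dvd_card
  rw [Fintype.card_units, hF] at hdvd
  have hp := (Fact.out : p.Prime).two_le
  omega

theorem irreducible_cyclotomic_five {F : Type*} [Field F] [Fintype F] {p : ℕ} [Fact p.Prime] [CharP F p]
    (hF : Fintype.card F = p) (hord : orderOf (p : ZMod 5) = 4) :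
    Irreducible (Polynomial.cyclotomic 5 F) := by
  have : Fact (Nat.Prime 5) := ⟨by norm_num⟩
  have hp5 : p.Coprime 5 := by
    rw [Nat.coprime_comm, Nat.Prime.coprime_iff_not_dvd (by norm_num)]
    intro hdvd
    have : (p : ZMod 5) = 0 := (ZMod.natCast_eq_zero_iff p 5).mpr hdvd
    rw [this, orderOf_zero] at hord
    exact absurd hord (by norm_num)
  have hK : Fintype.card F = p ^ 1 := by rw [pow_one]; exact hF
  apply Polynomial.irreducible_of_dvd_cyclotomic_of_natDegree hK hp5 dvd_rfl
  rw [Polynomial.natDegree_cyclotomic]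
  have h1 : orderOf (ZMod.unitOfCoprime (p ^ 1) (hp5.pow_left 1)) =
      orderOf ((ZMod.unitOfCoprime (p ^ 1) (hp5.pow_left 1) : (ZMod 5)ˣ) : ZMod 5) := (orderOf_units).symm
  rw [h1, ZMod.coe_unitOfCoprime, pow_one, hord]
  decide

/-- Elements of prime order of PSL_4(p), p ≡ 1 (mod 4), and the normalizer of a 2-group of symplectic type of order 2⁶. Here `T = PSL_4(F)` for the field `F` with `p` elements, `p` a prime with `p ≡ 1 (mod 4)`; `R` is an absolutely irreducible subgroup of GL_4(F) of order 2⁶ that is a 2-group of symplectic type of exponent 4 with centre of order 4 (the central product of the scalars of order 4 with an extraspecial group 2^{1+4}), and `H` is the subgroup of matrices of determinant 1 normalizing `R` — a subgroup of type 2⁴.Sp₄(2) (maximality is not assumed). Ω is the set of cosets of `H` in `T`, so an element of `T` of prime order `r` (a matrix `x` of determinant 1 with `x^r` scalar, `x` not scalar) fixes a point of Ω exactly when some conjugate of `x` by a matrix of determinant 1 normalizes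 `R`. Let `r` be a prime dividing the index of `H`. Then every element of `T` of order `r` fixes a point of Ω if and only if `r = 2`, or `r = 3` and `p ≡ 2 (mod 3)`, or `r = 5` and `p ≡ ±2 (mod 5)` (`p` has multiplicative order 4 modulo 5). -/
theorem order_two_mod_five : orderOf (2 : ZMod 5) = 2 ^ (1 + 1) := by
  have a : ¬ (2 : ZMod 5) ^ 2 ^ 1 = 1 := by decide
  have b : (2 : ZMod 5) ^ 2 ^ (1 + 1) = 1 := by decide
  exact orderOf_eq_prime_pow a b

theorem order_three_mod_five : orderOf (3 : ZMod 5) = 2 ^ (1 + 1) := by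
  have a : ¬ (3 : ZMod 5) ^ 2 ^ 1 = 1 := by decide
  have b : (3 : ZMod 5) ^ 2 ^ (1 + 1) = 1 := by decide
  exact orderOf_eq_prime_pow a b

theorem isSquare_one_mod_five : IsSquare (((1 : ℕ)) : ZMod 5) := ⟨1, by decide⟩

theorem isSquare_four_mod_five : IsSquare (((4 : ℕ)) : ZMod 5) := ⟨2, by decide⟩

theorem result {F : Type*} [Field F] [Fintype F] {p : ℕ} [Fact p.Prime] [CharP F p] (hF : Fintype.card F = p) (hp4 : p % 4 = 1)
    (R : Subgroup (GL (Fin 4) F)) (hR : Cfsg.Geo.IsLinearSymplecticTypeData 2 R) (hR6 : Nat.card R = 2 ^ 6)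
    (r : ℕ) [Fact r.Prime]
    (hΩ : r ∣ (Cfsg.Geo.subgroupNormalizer R).relIndex (Cfsg.Geo.specialLinear (Fin 4) F)) :
    (∀ x ∈ Cfsg.Geo.specialLinear (Fin 4) F, (∃ z : F, ((x ^ r : GL (Fin 4) F) : Matrix (Fin 4) (Fin 4) F) = z • (1 : Matrix (Fin 4) (Fin 4) F)) →
      (∀ z : F, (x : Matrix (Fin 4) (Fin 4) F) ≠ z • (1 : Matrix (Fin 4) (Fin 4) F)) →
      ∃ g ∈ Cfsg.Geo.specialLinear (Fin 4) F, g⁻¹ * x * g ∈ Cfsg.Geo.subgroupNormalizer R) ↔ (r = 2 ∨ (r = 3 ∧ p % 3 = 2) ∨ (r = 5 ∧ orderOf (p : ZMod 5) = 4)) := by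
  classical
  have hpp : p.Prime := Fact.out
  have hp5le : 5 ≤ p := by
    have h2 := hpp.two_le
    by_contra hlt
    push Not at hlt
    interval_cases p <;> simp_all
  have hndvd : ∀ k : ℕ, 0 < k → k < 5 → ¬ p ∣ k := by
    intro k hk0 hk5 hd
    have := Nat.le_of_dvd hk0 hd
    omega
  have h2 : (2 : F) ≠ 0 := by
    have := natCast_ne_zero (F := F) (p := p) 2 (hndvd 2 (by norm_num) (by norm_num))
    simpa using this
  have h3 : (3 : F) ≠ 0 := by
    have := natCast_ne_zero (F := F) (p := p) 3 (hndvd 3 (by norm_num) (by norm_num))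
    simpa using this
  have h4 : (4 : F) ≠ 0 := by
    have := natCast_ne_zero (F := F) (p := p) 4 (hndvd 4 (by norm_num) (by norm_num))
    simpa using this
  have H : Hyp R := hyp_of_data hR hR6 h2
  obtain ⟨i, P, hi, hP⟩ := structure_thm H
  have hN := normalizer_transfer hP
  obtain ⟨h, h2e⟩ : ∃ h : F, 2 * h = 1 := ⟨2⁻¹, mul_inv_cancel₀ h2⟩
  have conjP : ∀ x g : GL (Fin 4) F, P⁻¹ * (g⁻¹ * x * g) * P = (g * P)⁻¹ * x * (g * P) := by
    intro x g; group
  constructor
  · -- every element fixes a point implies the arithmetic condition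
    intro hall
    by_contra hnot
    push Not at hnot
    obtain ⟨hr2, hr3, hr5⟩ := hnot
    have hrp : r.Prime := Fact.out
    -- a general consequence of the hypothesis
    have use : ∀ x : GL (Fin 4) F, (x : Matrix (Fin 4) (Fin 4) F).det = 1 →
        (∃ z : F, ((x ^ r : GL (Fin 4) F) : Matrix (Fin 4) (Fin 4) F) = z • (1 : Matrix (Fin 4) (Fin 4) F)) →
        (∀ z : F, (x : Matrix (Fin 4) (Fin 4) F) ≠ z • (1 : Matrix (Fin 4) (Fin 4) F)) →
        ∃ q : GL (Fin 4) F, q⁻¹ * x * q ∈ Subgroup.normalizer (R0 F : Set (GL (Fin 4) F)) := by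
      intro x hdet hz hns
      obtain ⟨g, _, hg⟩ := hall x (mem_SL_iff.mpr hdet) hz hns
      refine ⟨g * P, ?_⟩
      rw [← conjP]
      exact (hN _).mp hg
    by_cases hr3' : r = 3
    · subst hr3'
      have hp3 : p % 3 = 1 := by
        have h1 := hr3 rfl
        have h0 : p % 3 ≠ 0 := by
          intro h0
          have : 3 ∣ p := Nat.dvd_of_mod_eq_zero h0
          have := (Nat.prime_dvd_prime_iff_eq (by norm_num) hpp).mp this
          omega
        omega
      have hdvd : 3 ∣ Nat.card Fˣ := by
        rw [Nat.card_eq_fintype_card, Fintype.card_units, hF]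
        omega
      obtain ⟨u, hu⟩ := exists_prime_orderOf_dvd_card' 3 hdvd
      set ω : F := (u : F) with hωdef
      have hω3 : ω ^ 3 = 1 := by
        have := pow_orderOf_eq_one u
        rw [hu] at this
        have := congrArg Units.val this
        simpa using this
      have hω1 : ω ≠ 1 := by
        intro h1
        have : u = 1 := Units.ext h1
        rw [this, orderOf_one] at hu
        norm_num at hu
      have hω : ω * ω + ω + 1 = 0 := by
        have : (ω - 1) * (ω * ω + ω + 1) = 0 := by linear_combination hω3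
        rcases mul_eq_zero.mp this with h | h
        · exact absurd (sub_eq_zero.mp h) hω1
        · exact h
      have hdetM : (Matrix.diagonal ![ω, ω, ω, 1] : Matrix (Fin 4) (Fin 4) F).det = 1 := by
        rw [Matrix.det_diagonal, Fin.prod_univ_four]
        simp
        linear_combination hω3
      set x : GL (Fin 4) F := Matrix.GeneralLinearGroup.mkOfDetNeZero
        (Matrix.diagonal ![ω, ω, ω, 1]) (by rw [hdetM]; exact one_ne_zero) with hxdef
      have hxv : (x : Matrix (Fin 4) (Fin 4) F) = Matrix.diagonal ![ω, ω, ω, 1] := rfl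
      have hx3 : ((x ^ 3 : GL (Fin 4) F) : Matrix (Fin 4) (Fin 4) F) = (1 : F) • (1 : Matrix (Fin 4) (Fin 4) F) := by
        rw [Units.val_pow_eq_pow_val, hxv, Matrix.diagonal_pow, one_smul]
        ext k l
        fin_cases k <;> fin_cases l <;> simp [Matrix.one_apply, hω3]
      have hns : ∀ z : F, (x : Matrix (Fin 4) (Fin 4) F) ≠ z • (1 : Matrix (Fin 4) (Fin 4) F) := by
        intro z hz
        rw [hxv] at hz
        have e0 := congrFun (congrFun hz 0) 0
        have e3 := congrFun (congrFun hz 3) 3
        simp at e0 e3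
        exact hω1 (e0.trans e3.symm)
      obtain ⟨q, hq⟩ := use x (by rw [hxv]; exact hdetM) ⟨1, hx3⟩ hns
      exact witness_three h2 h3 hω hxv hq
    by_cases hr5' : r = 5
    · subst hr5'
      have hord := hr5 rfl
      by_cases hp5 : p = 5
      · -- characteristic five
        have h5 : (5 : F) = 0 := by
          have := CharP.cast_eq_zero F p
          rw [hp5] at this
          simpa using this
        set x : GL (Fin 4) F := Matrix.GeneralLinearGroup.mkOfDetNeZero
          (1 + N0 F) (by rw [N0_det]; exact one_ne_zero) with hxdef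
        have hxv : (x : Matrix (Fin 4) (Fin 4) F) = 1 + N0 F := rfl
        have hx5 : ((x ^ 5 : GL (Fin 4) F) : Matrix (Fin 4) (Fin 4) F) = (1 : F) • (1 : Matrix (Fin 4) (Fin 4) F) := by
          rw [val_pow_of_sq_zero hxv N0_sq 5]
          push_cast
          rw [h5, zero_smul, add_zero, one_smul]
        have hns : ∀ z : F, (x : Matrix (Fin 4) (Fin 4) F) ≠ z • (1 : Matrix (Fin 4) (Fin 4) F) := by
          intro z; rw [hxv]; exact N0_not_scalar z
        obtain ⟨q, hq⟩ := use x (by rw [hxv]; exact N0_det) ⟨1, hx5⟩ hns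
        exact witness_trans h4 h5 hxv hq
      · -- five is a square
        have : Fact (Nat.Prime 5) := ⟨by norm_num⟩
        have h5 : (5 : F) ≠ 0 := by
          have := natCast_ne_zero (F := F) (p := p) 5 (by
            intro hd
            exact hp5 ((Nat.prime_dvd_prime_iff_eq hpp (by norm_num)).mp hd))
          simpa using this
        have hcast : (p : ZMod 5) = ((p % 5 : ℕ) : ZMod 5) := by
          rw [ZMod.natCast_mod]
        have hmod : p % 5 = 1 ∨ p % 5 = 4 := by
          have hlt : p % 5 < 5 := Nat.mod_lt _ (by norm_num)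
          have h0 : p % 5 ≠ 0 := by
            intro h0
            have : 5 ∣ p := Nat.dvd_of_mod_eq_zero h0
            exact hp5 ((Nat.prime_dvd_prime_iff_eq (by norm_num) hpp).mp this).symm
          have o2 : orderOf (2 : ZMod 5) = 2 ^ (1 + 1) := order_two_mod_five
          have o3 : orderOf (3 : ZMod 5) = 2 ^ (1 + 1) := order_three_mod_five
          interval_cases hpm : p % 5
          · exact absurd rfl h0
          · left; rfl
          · exfalso; apply hord; rw [hcast]; simpa using o2
          · exfalso; apply hord; rw [hcast]; simpa using o3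
          · right; rfl
        have hsq5 : IsSquare ((p : ℕ) : ZMod 5) := by
          rw [hcast]
          have sq1 : IsSquare (((1 : ℕ)) : ZMod 5) := isSquare_one_mod_five
          have sq4 : IsSquare (((4 : ℕ)) : ZMod 5) := isSquare_four_mod_five
          rcases hmod with h1 | h1 <;> rw [h1]
          · exact sq1
          · exact sq4
        have hsqp : IsSquare ((5 : ℕ) : ZMod p) :=
          (ZMod.exists_sq_eq_prime_iff_of_mod_four_eq_one hp4 (by norm_num)).mpr hsq5
        obtain ⟨s, hs⟩ := hsqp
        set s' : F := ZMod.castHom (dvd_refl p) F s with hs'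
        have hs5 : s' * s' = 5 := by
          rw [hs', ← map_mul, ← hs, map_natCast]
          norm_num
        set t : F := (s' - 1) * h with htdef
        have ht : t * t + t - 1 = 0 := by
          rw [htdef]; grind
        set x : GL (Fin 4) F := Matrix.GeneralLinearGroup.mkOfDetNeZero
          (X5 t) (by rw [X5_det]; exact one_ne_zero) with hxdef
        have hxv : (x : Matrix (Fin 4) (Fin 4) F) = X5 t := rfl
        have hx5 : ((x ^ 5 : GL (Fin 4) F) : Matrix (Fin 4) (Fin 4) F) = (1 : F) • (1 : Matrix (Fin 4) (Fin 4) F) := by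
          rw [Units.val_pow_eq_pow_val, hxv, X5_pow ht, one_smul]
        have hns : ∀ z : F, (x : Matrix (Fin 4) (Fin 4) F) ≠ z • (1 : Matrix (Fin 4) (Fin 4) F) := by
          intro z; rw [hxv]; exact X5_not_scalar t z
        obtain ⟨q, hq⟩ := use x (by rw [hxv]; exact X5_det t) ⟨1, hx5⟩ hns
        exact witness_five h2 h5 ht hxv hq
    · -- r is at least seven
      have hr7 : 7 ≤ r := by
        have h2le := hrp.two_le
        by_contra hlt
        push Not at hlt
        interval_cases r <;> simp_all <;> norm_num at hrp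
      have hdvd : r ∣ Nat.card ↥(Cfsg.Geo.specialLinear (Fin 4) F) :=
        hΩ.trans (Subgroup.relIndex_dvd_card _ _)
      obtain ⟨x0, hx0⟩ := exists_prime_orderOf_dvd_card' r hdvd
      set x : GL (Fin 4) F := (x0 : GL (Fin 4) F) with hxdef
      have hxr : x ^ r = 1 := by
        have := pow_orderOf_eq_one x0
        rw [hx0] at this
        have := congrArg Subtype.val this
        simpa using this
      have hdet : (x : Matrix (Fin 4) (Fin 4) F).det = 1 := mem_SL_iff.mp x0.2
      have hz : ((x ^ r : GL (Fin 4) F) : Matrix (Fin 4) (Fin 4) F) = (1 : F) • (1 : Matrix (Fin 4) (Fin 4) F) := by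
        rw [hxr, one_smul, Units.val_one]
      have hns : ∀ z : F, (x : Matrix (Fin 4) (Fin 4) F) ≠ z • (1 : Matrix (Fin 4) (Fin 4) F) := by
        intro z hzs
        have hz4 : z ^ 4 = 1 := by
          have := congrArg Matrix.det hzs
          rw [hdet, Matrix.det_smul, Matrix.det_one] at this
          simpa using this.symm
        have hx4 : x ^ 4 = 1 := by
          apply Units.ext
          rw [Units.val_pow_eq_pow_val, hzs, smul_pow, one_pow, hz4, one_smul, Units.val_one]
        have hx04 : x0 ^ 4 = 1 := by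
          apply Subtype.ext
          simpa using hx4
        have := orderOf_dvd_of_pow_eq_one hx04
        rw [hx0] at this
        have := Nat.le_of_dvd (by norm_num) this
        omega
      obtain ⟨q, hq⟩ := use x hdet ⟨1, hz⟩ hns
      obtain ⟨z', hz'⟩ := witness_big h4 hr7 hz hq
      exact hns z' hz'
  · -- the arithmetic condition implies that every element fixes a point
    intro hcases x hxSL hz hns
    obtain ⟨z, hz⟩ := hz
    have hdet := mem_SL_iff.mp hxSL
    have fin : (∃ g : GL (Fin 4) F, (g : Matrix (Fin 4) (Fin 4) F).det = 1 ∧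
        P⁻¹ * (g⁻¹ * x * g) * P ∈ Subgroup.normalizer (R0 F : Set (GL (Fin 4) F))) →
        ∃ g ∈ Cfsg.Geo.specialLinear (Fin 4) F, g⁻¹ * x * g ∈ Cfsg.Geo.subgroupNormalizer R := by
      rintro ⟨g, hgdet, hg⟩
      exact ⟨g, mem_SL_iff.mpr hgdet, (hN _).mpr hg⟩
    apply fin
    rcases hcases with hr | ⟨hr, hp3⟩ | ⟨hr, hord⟩
    · subst hr
      exact case_two h4 hi h2e P hdet hns hz
    · subst hr
      exact case_three h2 h3 (no_root_three hF hp3 h3) hi h2e P hdet hns hz
    · subst hr
      exact case_five (p := p) (irreducible_cyclotomic_five hF hord) hi h2e P hdet hns hz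

end Cfsg.Agent.S6000
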