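import Mathlib
import Cfsg.Statements.S6001
import Cfsg.Agent.Lib.Helper99.Uni4B
import Cfsg.Agent.Lib.Helper99.Uni4C
import Cfsg.Agent.Lib.Helper99.Uni4F
import Cfsg.Agent.Lib.Helper99.Uni4G

set_option autoImplicit false
open scoped MatrixGroups
open Cfsg

namespace Cfsg.Agent.S6001

open scoped Matrix
open Cfsg.Agent.Lib.Helper19 (q_pos one_lt_q)
open Cfsg.Agent.Lib.Helper99.Symp4B Cfsg.Agent.Lib.Helper99.Symp4C Cfsg.Agent.Lib.Helper99.Symp4F
open Cfsg.Agent.Lib.Helper99.Symp4J Cfsg.Agent.Lib.Helper99.Symp4K Cfsg.Agent.Lib.Helper99.Symp4M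
open Cfsg.Agent.Lib.Helper99.Uni4A Cfsg.Agent.Lib.Helper99.Uni4B Cfsg.Agent.Lib.Helper99.Uni4C
open Cfsg.Agent.Lib.Helper99.Uni4F Cfsg.Agent.Lib.Helper99.Uni4G

theorem natCast_ne_zero' {F : Type*} [Field F] {p : ℕ} [Fact p.Prime] [CharP F p] (k : ℕ) (hk : ¬ p ∣ k) :
    (k : F) ≠ 0 := by
  intro h
  exact hk ((CharP.cast_eq_zero_iff F p k).mp h)

theorem order_two_mod_five' : orderOf (2 : ZMod 5) = 2 ^ (1 + 1) := by
  have a : ¬ (2 : ZMod 5) ^ 2 ^ 1 = 1 := by decide
  have b : (2 : ZMod 5) ^ 2 ^ (1 + 1) = 1 := by decide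
  exact orderOf_eq_prime_pow a b

theorem order_three_mod_five' : orderOf (3 : ZMod 5) = 2 ^ (1 + 1) := by
  have a : ¬ (3 : ZMod 5) ^ 2 ^ 1 = 1 := by decide
  have b : (3 : ZMod 5) ^ 2 ^ (1 + 1) = 1 := by decide
  exact orderOf_eq_prime_pow a b

theorem order_four_mod_five' : orderOf (4 : ZMod 5) = 2 := by
  have a : (4 : ZMod 5) ^ 2 = 1 := by decide
  have b : (4 : ZMod 5) ≠ 1 := by decide
  exact orderOf_eq_prime a b

theorem order_zero_mod_five' : orderOf (0 : ZMod 5) = 0 := by
  rw [orderOf_eq_zero_iff']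
  intro n hn
  rw [zero_pow (by omega)]
  decide

theorem mod_five_cases (p : ℕ) :
    (orderOf (p : ZMod 5) = 4 → p % 5 = 2 ∨ p % 5 = 3) ∧
    (orderOf (p : ZMod 5) ≠ 4 → p % 5 = 0 ∨ p % 5 = 1 ∨ p % 5 = 4) := by
  have hcast : (p : ZMod 5) = ((p % 5 : ℕ) : ZMod 5) := by
    rw [ZMod.natCast_mod]
  have hlt : p % 5 < 5 := Nat.mod_lt _ (by norm_num)
  rw [hcast]
  have o0 := order_zero_mod_five'
  have o2 := order_two_mod_five'
  have o3 := order_three_mod_five'
  have o4 := order_four_mod_five'
  interval_cases hpm : p % 5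
  · constructor
    · intro h; exfalso; simp [o0] at h
    · intro _; left; rfl
  · constructor
    · intro h; exfalso; simp at h
    · intro _; right; left; rfl
  · constructor
    · intro _; left; rfl
    · intro h; exfalso; apply h; simpa using o2
  · constructor
    · intro _; right; rfl
    · intro h; exfalso; apply h; simpa using o3
  · constructor
    · intro h; exfalso
      have : orderOf (((4 : ℕ) : ZMod 5)) = 2 := by simpa using o4
      rw [this] at h; norm_num at h
    · intro _; right; right; rfl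


/-- Elements of prime order of PSU_4(p), p ≡ 3 (mod 4), and the normalizer of a 2-group of symplectic type of order 2⁶. Here `T = PSU_4(p)` for a prime `p ≡ 3 (mod 4)`, realised through `SU_4(p)`, the matrices of determinant 1 over the field `F` with `p²` elements preserving the hermitian form `f = Σ uᵢvᵢ^p`; `R` is an absolutely irreducible subgroup of the full unitary group of `f` of order 2⁶ that is a 2-group of symplectic type of exponent 4 with centre of order 4, and `H` is the subgroup of `SU_4(p)` normalizing `R` — a subgroup of type 2⁴.Sp₄(2) (maximality is not assumed). Ω is the set of cosets of `H`, so an element of `T` of prime order `r` (`x ∈ SU_4(p)` with `x^r` scalar, `x` not scalar) fixes a point of Ω exactly when some `SU_4(p)`-conjugate of `x` normalizes `R`. Let `r` be a prime dividing the index of `H`. Then every element of `T` of order `r` fixes a point of Ω if and only if `r = 2`, or `r = 3` and `p ≡ 1 (mod 3)`, or `r = 5` and `p ≡ ±2 (mod 5)` (`p` has multiplicative order 4 modulo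 5). -/
theorem result {F : Type*} [Field F] [Fintype F] {p : ℕ} [Fact p.Prime] [CharP F p] (hF : Fintype.card F = p ^ 2) (hp4 : p % 4 = 3)
    (R : Subgroup (GL (Fin 4) F)) (hRs : Cfsg.Geo.IsSymplecticTypeGroup 2 R) (hRi : Cfsg.Geo.ActsAbsolutelyIrreducibly (Cfsg.Geo.matrixSet R))
    (hRU : R ≤ Cfsg.GU 4 F p) (hR6 : Nat.card R = 2 ^ 6) (hRZ : Nat.card (Subgroup.center R) = 4)
    (r : ℕ) [Fact r.Prime]
    (hΩ : r ∣ (Cfsg.Geo.subgroupNormalizer R).relIndex (Cfsg.GU 4 F p ⊓ Cfsg.Geo.specialLinear (Fin 4) F)) :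
    (∀ x ∈ Cfsg.GU 4 F p ⊓ Cfsg.Geo.specialLinear (Fin 4) F, (∃ z : F, ((x ^ r : GL (Fin 4) F) : Matrix (Fin 4) (Fin 4) F) = z • (1 : Matrix (Fin 4) (Fin 4) F)) →
      (∀ z : F, (x : Matrix (Fin 4) (Fin 4) F) ≠ z • (1 : Matrix (Fin 4) (Fin 4) F)) →
      ∃ g ∈ Cfsg.GU 4 F p ⊓ Cfsg.Geo.specialLinear (Fin 4) F, g⁻¹ * x * g ∈ Cfsg.Geo.subgroupNormalizer R) ↔ (r = 2 ∨ (r = 3 ∧ p % 3 = 1) ∨ (r = 5 ∧ orderOf (p : ZMod 5) = 4)) := by
  classical
  have hpp : p.Prime := Fact.out
  have hp3le : 3 ≤ p := by
    have h2 := hpp.two_le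
    omega
  have hp0 : p ≠ 0 := by omega
  have hodd : p % 2 = 1 := by omega
  have hpodd : Odd p := Nat.odd_iff.mpr hodd
  have h2 : (2 : F) ≠ 0 := by
    have := natCast_ne_zero' (F := F) (p := p) 2 (by
      intro hd
      have := Nat.le_of_dvd (by norm_num) hd
      omega)
    simpa using this
  have h4 : (4 : F) ≠ 0 := by
    have : (4 : F) = 2 * 2 := by norm_num
    rw [this]; exact mul_ne_zero h2 h2
  have H : Hyp R := hyp_of_unitary hRs hRi hR6 hRZ h2
  obtain ⟨i, P, hi, hPU, hP⟩ := structure_unitary hF H hRU hpodd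
  have hN := normalizer_transfer hP
  obtain ⟨h, h2e⟩ : ∃ h : F, 2 * h = 1 := ⟨2⁻¹, mul_inv_cancel₀ h2⟩
  have conjP : ∀ x g : GL (Fin 4) F, P⁻¹ * (g⁻¹ * x * g) * P = (g * P)⁻¹ * x * (g * P) := by
    intro x g; group
  constructor
  · -- every element fixes a point implies the arithmetic condition
    intro hall
    by_contra hnot
    push Not at hnot
    obtain ⟨hr2, hr3, hr5⟩ := hnot
    have hrp : r.Prime := Fact.out
    have use : ∀ x : GL (Fin 4) F, x ∈ Cfsg.GU 4 F p → (x : Matrix (Fin 4) (Fin 4) F).det = 1 →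
        (∃ z : F, ((x ^ r : GL (Fin 4) F) : Matrix (Fin 4) (Fin 4) F) = z • (1 : Matrix (Fin 4) (Fin 4) F)) →
        (∀ z : F, (x : Matrix (Fin 4) (Fin 4) F) ≠ z • (1 : Matrix (Fin 4) (Fin 4) F)) →
        ∃ q : GL (Fin 4) F, q⁻¹ * x * q ∈ Subgroup.normalizer (R0 F : Set (GL (Fin 4) F)) := by
      intro x hxU hdet hz hns
      obtain ⟨g, _, hg⟩ := hall x ⟨hxU, mem_SL_iff.mpr hdet⟩ hz hns
      refine ⟨g * P, ?_⟩
      rw [← conjP]
      exact (hN _).mp hg
    by_cases hr3' : r = 3
    · subst hr3'
      by_cases hp3 : p = 3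
      · -- characteristic three
        have h3 : (3 : F) = 0 := by
          have := CharP.cast_eq_zero F p
          rw [hp3] at this
          simpa using this
        obtain ⟨x, u, φ, hxU, hxdet, hxv, hφu, hN0⟩ := exists_unitary_transvection hF
        have hNN : Matrix.vecMulVec u φ * Matrix.vecMulVec u φ = 0 := by
          rw [Matrix.vecMulVec_mul_vecMulVec, hφu, zero_smul]
          ext k l
          simp [Matrix.vecMulVec_apply]
        have hx3 : ((x ^ 3 : GL (Fin 4) F) : Matrix (Fin 4) (Fin 4) F) =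
            (1 : F) • (1 : Matrix (Fin 4) (Fin 4) F) := by
          rw [val_pow_of_sq_zero hxv hNN 3]
          push_cast
          rw [h3, zero_smul, add_zero, one_smul]
        have hns : ∀ z : F, (x : Matrix (Fin 4) (Fin 4) F) ≠ z • (1 : Matrix (Fin 4) (Fin 4) F) := by
          intro z hzs
          have hNz : Matrix.vecMulVec u φ = (z - 1) • (1 : Matrix (Fin 4) (Fin 4) F) := by
            have : Matrix.vecMulVec u φ = (x : Matrix (Fin 4) (Fin 4) F) - 1 := by rw [hxv]; abel
            rw [this, hzs, sub_smul, one_smul]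
          have hsq := hNN
          rw [hNz, Matrix.smul_mul, Matrix.mul_smul, mul_one, smul_smul] at hsq
          have h00 := congrFun (congrFun hsq 0) 0
          simp at h00
          apply hN0
          rw [hNz, h00, zero_smul]
        obtain ⟨q, hq⟩ := use x hxU hxdet ⟨1, hx3⟩ hns
        obtain ⟨u', φ', hv, hφu', hN0'⟩ := conj_rank_one (q := q) hxv hφu hN0
        exact no_rank_one h4 h3 hq hv hφu' hN0'
      · -- p ≡ 2 (mod 3)
        have hp3' : p % 3 = 2 := by
          have h1 := hr3 rfl
          have h0 : p % 3 ≠ 0 := by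
            intro h0
            have : 3 ∣ p := Nat.dvd_of_mod_eq_zero h0
            have := (Nat.prime_dvd_prime_iff_eq (by norm_num) hpp).mp this
            omega
          omega
        have h3 : (3 : F) ≠ 0 := by
          have := natCast_ne_zero' (F := F) (p := p) 3 (by
            intro hd
            exact hp3 ((Nat.prime_dvd_prime_iff_eq hpp (by norm_num)).mp hd))
          simpa using this
        obtain ⟨ω, hω, hωn⟩ := omega_norm_one hF hp3'
        have hω3 : ω ^ 3 = 1 := by linear_combination (ω - 1) * hω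
        have hω1 : ω ≠ 1 := by
          intro h1; rw [h1] at hω; apply h3; linear_combination hω
        have hdetM : (Matrix.diagonal ![ω, ω, ω, 1] : Matrix (Fin 4) (Fin 4) F).det = 1 := by
          rw [Matrix.det_diagonal, Fin.prod_univ_four]
          simp
          linear_combination hω3
        set x : GL (Fin 4) F := Matrix.GeneralLinearGroup.mkOfDetNeZero
          (Matrix.diagonal ![ω, ω, ω, 1]) (by rw [hdetM]; exact one_ne_zero) with hxdef
        have hxv : (x : Matrix (Fin 4) (Fin 4) F) = Matrix.diagonal ![ω, ω, ω, 1] := rfl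
        have hxU : x ∈ Cfsg.GU 4 F p := by
          rw [mem_GU_iff_ct hF, hxv]
          ext j k
          fin_cases j <;> fin_cases k <;>
            simp [ct_apply, Matrix.mul_apply, Matrix.diagonal_apply, hp0, hωn]
        have hx3 : ((x ^ 3 : GL (Fin 4) F) : Matrix (Fin 4) (Fin 4) F) = (1 : F) • (1 : Matrix (Fin 4) (Fin 4) F) := by
          rw [Units.val_pow_eq_pow_val, hxv, Matrix.diagonal_pow, one_smul]
          ext k l
          fin_cases k <;> fin_cases l <;> simp [hω3]
        have hns : ∀ z : F, (x : Matrix (Fin 4) (Fin 4) F) ≠ z • (1 : Matrix (Fin 4) (Fin 4) F) := by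
          intro z hz
          rw [hxv] at hz
          have e0 := congrFun (congrFun hz 0) 0
          have e3 := congrFun (congrFun hz 3) 3
          simp at e0 e3
          exact hω1 (e0.trans e3.symm)
        obtain ⟨q, hq⟩ := use x hxU (by rw [hxv]; exact hdetM) ⟨1, hx3⟩ hns
        exact witness_three h2 h3 hω hxv hq
    by_cases hr5' : r = 5
    · subst hr5'
      have hord := hr5 rfl
      have hp5 : p ≠ 5 := by
        intro h5; rw [h5] at hp4; norm_num at hp4
      have h5 : (5 : F) ≠ 0 := by
        have := natCast_ne_zero' (F := F) (p := p) 5 (by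
          intro hd
          exact hp5 ((Nat.prime_dvd_prime_iff_eq hpp (by norm_num)).mp hd))
        simpa using this
      have hmod : p % 5 = 1 ∨ p % 5 = 4 := by
        rcases (mod_five_cases p).2 hord with h0 | h1
        · exfalso
          have : 5 ∣ p := Nat.dvd_of_mod_eq_zero h0
          exact hp5 ((Nat.prime_dvd_prime_iff_eq (by norm_num) hpp).mp this).symm
        · exact h1
      obtain ⟨t, ht, htp⟩ := golden_fixed hF hmod
      obtain ⟨x, hxU, hxdet, hx5, htr1, htr2, hns⟩ := exists_su2_witness hF h2 h5 ht htp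
      obtain ⟨q, hq⟩ := use x hxU hxdet ⟨1, hx5⟩ hns
      exact witness_five' h2 h5 ht hx5 htr1 htr2 hns hq
    · -- r is at least seven
      have hr7 : 7 ≤ r := by
        have h2le := hrp.two_le
        by_contra hlt
        push Not at hlt
        interval_cases r <;> simp_all <;> norm_num at hrp
      have hdvd : r ∣ Nat.card ↥(Cfsg.GU 4 F p ⊓ Cfsg.Geo.specialLinear (Fin 4) F) :=
        hΩ.trans (Subgroup.relIndex_dvd_card _ _)
      obtain ⟨x0, hx0⟩ := exists_prime_orderOf_dvd_card' r hdvd
      set x : GL (Fin 4) F := (x0 : GL (Fin 4) F) with hxdef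
      have hxr : x ^ r = 1 := by
        have := pow_orderOf_eq_one x0
        rw [hx0] at this
        have := congrArg Subtype.val this
        simpa using this
      have hxmem : x ∈ Cfsg.GU 4 F p ⊓ Cfsg.Geo.specialLinear (Fin 4) F := x0.2
      have hdet : (x : Matrix (Fin 4) (Fin 4) F).det = 1 := mem_SL_iff.mp hxmem.2
      have hz : ((x ^ r : GL (Fin 4) F) : Matrix (Fin 4) (Fin 4) F) = (1 : F) • (1 : Matrix (Fin 4) (Fin 4) F) := by
        rw [hxr, one_smul, Units.val_one]
      have hns : ∀ z : F, (x : Matrix (Fin 4) (Fin 4) F) ≠ z • (1 : Matrix (Fin 4) (Fin 4) F) := by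
        intro z hzs
        have hz4 : z ^ 4 = 1 := by
          have := congrArg Matrix.det hzs
          rw [hdet, Matrix.det_smul, Matrix.det_one] at this
          simpa using this.symm
        have hx4 : x ^ 4 = 1 := by
          apply Units.ext
          rw [Units.val_pow_eq_pow_val, hzs, smul_pow, one_pow, hz4, one_smul, Units.val_one]
        have hx04 : x0 ^ 4 = 1 := by
          apply Subtype.ext
          simpa using hx4
        have := orderOf_dvd_of_pow_eq_one hx04
        rw [hx0] at this
        have := Nat.le_of_dvd (by norm_num) this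
        omega
      obtain ⟨q, hq⟩ := use x hxmem.1 hdet ⟨1, hz⟩ hns
      obtain ⟨z', hz'⟩ := witness_big h4 hr7 hz hq
      exact hns z' hz'
  · -- the arithmetic condition implies that every element fixes a point
    intro hcases x hxmem hz hns
    obtain ⟨z, hz⟩ := hz
    have hxU : x ∈ Cfsg.GU 4 F p := hxmem.1
    have hdet := mem_SL_iff.mp hxmem.2
    rcases hcases with hr | ⟨hr, hp3⟩ | ⟨hr, hord⟩
    · subst hr
      exact case_twoU hF hp4 h4 hi h2e hPU hP hxU hdet hns hz
    · subst hr
      have h3 : (3 : F) ≠ 0 := by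
        have := natCast_ne_zero' (F := F) (p := p) 3 (by
          intro hd
          have := (Nat.prime_dvd_prime_iff_eq hpp (by norm_num)).mp hd
          omega)
        simpa using this
      obtain ⟨ω, hω, hωp⟩ := omega_fixed hF hp3
      exact case_threeU hF hp4 h2 h3 hi h2e hω hωp hPU hP hxU hdet hns hz
    · subst hr
      have hmod := (mod_five_cases p).1 hord
      have h5 : (5 : F) ≠ 0 := by
        have := natCast_ne_zero' (F := F) (p := p) 5 (by
          intro hd
          have := (Nat.prime_dvd_prime_iff_eq hpp (by norm_num)).mp hd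
          omega)
        simpa using this
      have hn5 : ¬ 5 ∣ p ^ 2 - 1 := by
        have h1 : p ^ 2 % 5 = 4 := by
          rcases hmod with h | h <;> rw [Nat.pow_mod, h]
        have h2' : 1 ≤ p ^ 2 := Nat.one_le_pow _ _ (by omega)
        omega
      obtain ⟨t, s, ht, hts, htp, hsp, hirr⟩ := golden_conj hF hodd h5 hn5
      exact case_fiveU hF hp4 h2 hi h2e ht hts htp hsp h5 hirr hPU hP hxU hdet hns hz

end Cfsg.Agent.S6001
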