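import Mathlib
import Cfsg.Statements.S6002
import Cfsg.Agent.Lib.Helper99.Sp4A
import Cfsg.Agent.Lib.Helper99.Sp4H
import Cfsg.Agent.Lib.Helper99.Sp4I
import Cfsg.Agent.Lib.Helper99.Sp4J
import Cfsg.Agent.Lib.Helper99.Sp4K

set_option autoImplicit false
open scoped MatrixGroups
open Cfsg

namespace Cfsg.Agent.S6002

open scoped Matrix
open Cfsg.Agent.Lib.Helper99.Symp4J Cfsg.Agent.Lib.Helper99.Symp4M
open Cfsg.Agent.Lib.Helper99.Sp4A Cfsg.Agent.Lib.Helper99.Sp4B Cfsg.Agent.Lib.Helper99.Sp4E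
open Cfsg.Agent.Lib.Helper99.Sp4H Cfsg.Agent.Lib.Helper99.Sp4I Cfsg.Agent.Lib.Helper99.Sp4J
open Cfsg.Agent.Lib.Helper99.Sp4K

theorem natCast_ne_zero2 {F : Type*} [Field F] {p : ℕ} [Fact p.Prime] [CharP F p] (k : ℕ) (hk : ¬ p ∣ k) :
    (k : F) ≠ 0 := by
  intro h
  exact hk ((CharP.cast_eq_zero_iff F p k).mp h)

theorem irreducible_cyclotomic_five2 {F : Type*} [Field F] [Fintype F] {p : ℕ} [Fact p.Prime] [CharP F p]
    (hF : Fintype.card F = p) (hord : orderOf (p : ZMod 5) = 4) :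
    Irreducible (Polynomial.cyclotomic 5 F) := by
  have : Fact (Nat.Prime 5) := ⟨by norm_num⟩
  have hp5 : p.Coprime 5 := by
    rw [Nat.coprime_comm, Nat.Prime.coprime_iff_not_dvd (by norm_num)]
    intro hdvd
    have : (p : ZMod 5) = 0 := (ZMod.natCast_eq_zero_iff p 5).mpr hdvd
    rw [this, orderOf_zero] at hord
    exact absurd hord (by norm_num)
  have hK : Fintype.card F = p ^ 1 := by rw [pow_one]; exact hF
  apply Polynomial.irreducible_of_dvd_cyclotomic_of_natDegree hK hp5 dvd_rfl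
  rw [Polynomial.natDegree_cyclotomic]
  have h1 : orderOf (ZMod.unitOfCoprime (p ^ 1) (hp5.pow_left 1)) =
      orderOf ((ZMod.unitOfCoprime (p ^ 1) (hp5.pow_left 1) : (ZMod 5)ˣ) : ZMod 5) := (orderOf_units).symm
  rw [h1, ZMod.coe_unitOfCoprime, pow_one, hord]
  decide

theorem order_two_mod_five2 : orderOf (2 : ZMod 5) = 2 ^ (1 + 1) := by
  have a : ¬ (2 : ZMod 5) ^ 2 ^ 1 = 1 := by decide
  have b : (2 : ZMod 5) ^ 2 ^ (1 + 1) = 1 := by decide
  exact orderOf_eq_prime_pow a b

theorem order_three_mod_five2 : orderOf (3 : ZMod 5) = 2 ^ (1 + 1) := by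
  have a : ¬ (3 : ZMod 5) ^ 2 ^ 1 = 1 := by decide
  have b : (3 : ZMod 5) ^ 2 ^ (1 + 1) = 1 := by decide
  exact orderOf_eq_prime_pow a b

theorem isSquare_one_mod_five2 : IsSquare (((1 : ℕ)) : ZMod 5) := ⟨1, by decide⟩

theorem isSquare_four_mod_five2 : IsSquare (((4 : ℕ)) : ZMod 5) := ⟨2, by decide⟩

/-- the golden ratio exists when `p` is a square modulo five -/
theorem exists_golden {F : Type*} [Field F] [Fintype F] {p : ℕ} [Fact p.Prime] [CharP F p]
    (hp2 : p ≠ 2) (hp5 : p ≠ 5) (hord : orderOf (p : ZMod 5) ≠ 4) (h2 : (2 : F) ≠ 0) :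
    ∃ t : F, t * t + t - 1 = 0 := by
  have hpp : p.Prime := Fact.out
  have : Fact (Nat.Prime 5) := ⟨by norm_num⟩
  have hcast : (p : ZMod 5) = ((p % 5 : ℕ) : ZMod 5) := by
    rw [ZMod.natCast_mod]
  have hmod : p % 5 = 1 ∨ p % 5 = 4 := by
    have hlt : p % 5 < 5 := Nat.mod_lt _ (by norm_num)
    have h0 : p % 5 ≠ 0 := by
      intro h0
      have : 5 ∣ p := Nat.dvd_of_mod_eq_zero h0
      exact hp5 ((Nat.prime_dvd_prime_iff_eq (by norm_num) hpp).mp this).symm
    have o2 : orderOf (2 : ZMod 5) = 2 ^ (1 + 1) := order_two_mod_five2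
    have o3 : orderOf (3 : ZMod 5) = 2 ^ (1 + 1) := order_three_mod_five2
    interval_cases hpm : p % 5
    · exact absurd rfl h0
    · left; rfl
    · exfalso; apply hord; rw [hcast]; simpa using o2
    · exfalso; apply hord; rw [hcast]; simpa using o3
    · right; rfl
  have hsq5 : IsSquare ((p : ℕ) : ZMod 5) := by
    rw [hcast]
    have sq1 : IsSquare (((1 : ℕ)) : ZMod 5) := isSquare_one_mod_five2
    have sq4 : IsSquare (((4 : ℕ)) : ZMod 5) := isSquare_four_mod_five2
    rcases hmod with h1 | h1 <;> rw [h1]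
    · exact sq1
    · exact sq4
  have hsqp : IsSquare ((5 : ℕ) : ZMod p) :=
    (ZMod.exists_sq_eq_prime_iff_of_mod_four_eq_one (p := 5) (q := p) (by norm_num) hp2).mp hsq5
  obtain ⟨s, hs⟩ := hsqp
  set s' : F := ZMod.castHom (dvd_refl p) F s with hs'
  have hs5 : s' * s' = 5 := by
    rw [hs', ← map_mul, ← hs, map_natCast]
    norm_num
  obtain ⟨h, h2e⟩ : ∃ h : F, 2 * h = 1 := ⟨2⁻¹, mul_inv_cancel₀ h2⟩
  refine ⟨(s' - 1) * h, ?_⟩
  grind


/-- Elements of prime order of PSp_4(p), p odd, and the normalizer of an extraspecial 2-group of order 2⁵ of minus type. Here `T = PSp_4(F)` for the field `F` with `p` elements, `p` an odd prime, realised through the matrices preserving the standard alternating form `f`; `R` is an absolutely irreducible subgroup of `T` (it preserves `f`) that is a 2-group of symplectic type of exponent 4, order 2⁵ and centre of order 2, of minus type (no elementary abelian subgroup of order 2³), and `H` is the subgroup of `T` normalizing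 `R` — a subgroup of type 2^{1+4}.O₄⁻(2) (maximality is not assumed). Ω is the set of cosets of `H` in `T`, so an element of `T` of prime order `r` (`x ∈ T` with `x^r` scalar, `x` not scalar) fixes a point of Ω exactly when some `T`-conjugate of `x` normalizes `R`. Let `r` be a prime dividing the index of `H`. Then every element of `T` of order `r` fixes a point of Ω if and only if `r = 2`, or `r = 5` and `p` has multiplicative order 4 modulo 5. -/
theorem result {F : Type*} [Field F] [Fintype F] {p : ℕ} [Fact p.Prime] [CharP F p] (hF : Fintype.card F = p) (hodd : Odd p)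
    (R : Subgroup (GL (Fin 2 ⊕ Fin 2) F)) (hRs : Cfsg.Geo.IsSymplecticTypeGroup 2 R) (hRi : Cfsg.Geo.ActsAbsolutelyIrreducibly (Cfsg.Geo.matrixSet R))
    (hRf : R ≤ Cfsg.spGL 2 F) (hR5 : Nat.card R = 2 ^ 5) (hRZ : Nat.card (Subgroup.center R) = 2) (hRm : Cfsg.Geo.IsOfMinusType 2 R)
    (r : ℕ) [Fact r.Prime]
    (hΩ : r ∣ (Cfsg.Geo.subgroupNormalizer R).relIndex (Cfsg.spGL 2 F)) :
    (∀ x ∈ Cfsg.spGL 2 F, (∃ z : F, ((x ^ r : GL (Fin 2 ⊕ Fin 2) F) : Matrix (Fin 2 ⊕ Fin 2) (Fin 2 ⊕ Fin 2) F) = z • (1 : Matrix (Fin 2 ⊕ Fin 2) (Fin 2 ⊕ Fin 2) F)) →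
      (∀ z : F, (x : Matrix (Fin 2 ⊕ Fin 2) (Fin 2 ⊕ Fin 2) F) ≠ z • (1 : Matrix (Fin 2 ⊕ Fin 2) (Fin 2 ⊕ Fin 2) F)) →
      ∃ g ∈ Cfsg.spGL 2 F, g⁻¹ * x * g ∈ Cfsg.Geo.subgroupNormalizer R) ↔ (r = 2 ∨ (r = 5 ∧ orderOf (p : ZMod 5) = 4)) := by
  classical
  have hpp : p.Prime := Fact.out
  have hp2 : p ≠ 2 := by
    intro h
    rw [h] at hodd
    exact absurd hodd (by decide)
  have h2 : (2 : F) ≠ 0 := by
    have := natCast_ne_zero2 (F := F) (p := p) 2 (by
      intro hd
      exact hp2 ((Nat.prime_dvd_prime_iff_eq hpp Nat.prime_two).mp hd))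
    simpa using this
  obtain ⟨H, habs⟩ := hyp2_of_data R hRs hRi hR5 hRZ h2
  have hminus := minus_of_data R H hR5 hRm
  obtain ⟨a1, b1, a2, b2, Q, α, β, G, Fr⟩ := exists_model H hminus
  have hRf4 : ∀ g ∈ R4 R,
      (g : Matrix (Fin 4) (Fin 4) F)ᵀ * J4 F * (g : Matrix (Fin 4) (Fin 4) F) = J4 F := by
    intro g hg
    obtain ⟨g0, hg0, rfl⟩ := exists_of_mem_R4 hg
    exact (mem_spGL_iff g0).mp (hRf hg0)
  -- translation of the scalar conditions
  have pow_scalar : ∀ (x : GL (Fin 2 ⊕ Fin 2) F) (k : ℕ) (z : F),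
      (((ρ F x) ^ k : GL (Fin 4) F) : Matrix (Fin 4) (Fin 4) F) = z • (1 : Matrix (Fin 4) (Fin 4) F) ↔
      ((x ^ k : GL (Fin 2 ⊕ Fin 2) F) : Matrix (Fin 2 ⊕ Fin 2) (Fin 2 ⊕ Fin 2) F) =
        z • (1 : Matrix (Fin 2 ⊕ Fin 2) (Fin 2 ⊕ Fin 2) F) := by
    intro x k z
    rw [← map_pow]
    exact ρ_scalar (x ^ k) z
  constructor
  · -- every element fixes a point implies the arithmetic condition
    intro hall
    by_contra hnot
    push Not at hnot
    obtain ⟨hr2, hr5⟩ := hnot
    have hrp : r.Prime := Fact.out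
    have use : ∀ x4 : GL (Fin 4) F,
        (x4 : Matrix (Fin 4) (Fin 4) F)ᵀ * J4 F * (x4 : Matrix (Fin 4) (Fin 4) F) = J4 F →
        (∃ z : F, ((x4 ^ r : GL (Fin 4) F) : Matrix (Fin 4) (Fin 4) F) =
          z • (1 : Matrix (Fin 4) (Fin 4) F)) →
        (∀ z : F, (x4 : Matrix (Fin 4) (Fin 4) F) ≠ z • (1 : Matrix (Fin 4) (Fin 4) F)) →
        ∃ g4 : GL (Fin 4) F,
          (g4 : Matrix (Fin 4) (Fin 4) F)ᵀ * J4 F * (g4 : Matrix (Fin 4) (Fin 4) F) = J4 F ∧
          g4⁻¹ * x4 * g4 ∈ Subgroup.normalizer (R4 R : Set (GL (Fin 4) F)) := by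
      intro x4 hx4 hz hns
      set x := (ρ F).symm x4 with hxdef
      have hρx : ρ F x = x4 := (ρ F).apply_symm_apply x4
      have hxmem : x ∈ Cfsg.spGL 2 F := by rw [mem_spGL_iff, hρx]; exact hx4
      obtain ⟨z, hz⟩ := hz
      obtain ⟨g, hg, hgn⟩ := hall x hxmem ⟨z, by rw [← pow_scalar, hρx]; exact hz⟩ (by
        intro z' hz'
        apply hns z'
        rw [← hρx]
        exact (ρ_scalar x z').mpr hz')
      refine ⟨ρ F g, (mem_spGL_iff g).mp hg, ?_⟩
      have := (mem_normalizer_iff R _).mp hgn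
      rw [map_mul, map_mul, map_inv, hρx] at this
      exact this
    by_cases hr3 : r = 3
    · subst hr3
      by_cases hp3 : p = 3
      · subst hp3
        have h3 : (3 : F) = 0 := by
          have := CharP.cast_eq_zero F 3
          simpa using this
        obtain ⟨g4, _, hq⟩ := use (TsG F) Ts_form ⟨1, TsG_pow (p := 3)⟩ TsG_not_scalar
        exact no_transvection_s H G Fr (Or.inl h3) hq
      · have h3 : (3 : F) ≠ 0 := by
          have := natCast_ne_zero2 (F := F) (p := p) 3 (by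
            intro hd
            exact hp3 ((Nat.prime_dvd_prime_iff_eq hpp (by norm_num)).mp hd))
          simpa using this
        obtain ⟨g4, hg4, hq⟩ := use (XsG (-1)) (Xs_form _) ⟨1, by
          rw [Units.val_pow_eq_pow_val, XsG_val, Xs_pow_three, one_smul]⟩ (fun z => Xs_not_scalar _ z)
        exact fwd_three H G Fr hRf4 h3 hg4 hq
    by_cases hr5' : r = 5
    · subst hr5'
      have hord := hr5 rfl
      by_cases hp5 : p = 5
      · subst hp5
        have h5 : (5 : F) = 0 := by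
          have := CharP.cast_eq_zero F 5
          simpa using this
        obtain ⟨g4, _, hq⟩ := use (TsG F) Ts_form ⟨1, TsG_pow (p := 5)⟩ TsG_not_scalar
        exact no_transvection_s H G Fr (Or.inr h5) hq
      · have h5 : (5 : F) ≠ 0 := by
          have := natCast_ne_zero2 (F := F) (p := p) 5 (by
            intro hd
            exact hp5 ((Nat.prime_dvd_prime_iff_eq hpp (by norm_num)).mp hd))
          simpa using this
        obtain ⟨t, ht⟩ := exists_golden (F := F) hp2 hp5 hord h2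
        obtain ⟨g4, _, hq⟩ := use (XsG t) (Xs_form t) ⟨1, by
          rw [Units.val_pow_eq_pow_val, XsG_val, Xs_pow_five ht, one_smul]⟩ (fun z => Xs_not_scalar t z)
        exact no_five H G Fr h5 ht hq
    · -- r is at least seven
      have hr7 : 7 ≤ r := by
        have h2le := hrp.two_le
        by_contra hlt
        push Not at hlt
        interval_cases r <;> simp_all <;> norm_num at hrp
      have hdvd : r ∣ Nat.card ↥(Cfsg.spGL 2 F) :=
        hΩ.trans (Subgroup.relIndex_dvd_card _ _)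
      obtain ⟨x0, hx0⟩ := exists_prime_orderOf_dvd_card' r hdvd
      set x : GL (Fin 2 ⊕ Fin 2) F := (x0 : GL (Fin 2 ⊕ Fin 2) F) with hxdef
      have hxr : x ^ r = 1 := by
        have := pow_orderOf_eq_one x0
        rw [hx0] at this
        have := congrArg Subtype.val this
        simpa using this
      have hxmem : x ∈ Cfsg.spGL 2 F := x0.2
      set x4 : GL (Fin 4) F := ρ F x with hx4def
      have hx4 : (x4 : Matrix (Fin 4) (Fin 4) F)ᵀ * J4 F * (x4 : Matrix (Fin 4) (Fin 4) F) = J4 F :=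
        (mem_spGL_iff x).mp hxmem
      have hz4 : ((x4 ^ r : GL (Fin 4) F) : Matrix (Fin 4) (Fin 4) F) =
          (1 : F) • (1 : Matrix (Fin 4) (Fin 4) F) := by
        rw [hx4def, ← map_pow, hxr, map_one, Units.val_one, one_smul]
      have hns4 : ∀ z : F, (x4 : Matrix (Fin 4) (Fin 4) F) ≠ z • (1 : Matrix (Fin 4) (Fin 4) F) := by
        intro z hzs
        have hzz : z * z = 1 := scalar_sq_of_form (by rw [← hzs]; exact hx4)
        have hx42 : x4 ^ 2 = 1 := by
          apply Units.ext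
          rw [Units.val_pow_eq_pow_val, hzs, pow_two, Matrix.smul_mul, Matrix.mul_smul, mul_one, smul_smul,
            hzz, one_smul, Units.val_one]
        have hx2 : x ^ 2 = 1 := by
          apply (ρ F).injective
          rw [map_pow, map_one]
          exact hx42
        have hx02 : x0 ^ 2 = 1 := by
          apply Subtype.ext
          simpa using hx2
        have := orderOf_dvd_of_pow_eq_one hx02
        rw [hx0] at this
        have := Nat.le_of_dvd (by norm_num) this
        omega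
      obtain ⟨g4, _, hq⟩ := use x4 hx4 ⟨1, hz4⟩ hns4
      obtain ⟨z', hz'⟩ := no_big H G Fr hr7 hz4 hq
      exact hns4 z' hz'
  · -- the arithmetic condition implies that every element fixes a point
    intro hcases x hxmem hz hns
    obtain ⟨z, hz⟩ := hz
    set x4 : GL (Fin 4) F := ρ F x with hx4def
    have hx4 : (x4 : Matrix (Fin 4) (Fin 4) F)ᵀ * J4 F * (x4 : Matrix (Fin 4) (Fin 4) F) = J4 F :=
      (mem_spGL_iff x).mp hxmem
    have hns4 : ∀ z' : F, (x4 : Matrix (Fin 4) (Fin 4) F) ≠ z' • (1 : Matrix (Fin 4) (Fin 4) F) :=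
      fun z' h => hns z' ((ρ_scalar x z').mp h)
    have back : (∃ g4 : GL (Fin 4) F,
        (g4 : Matrix (Fin 4) (Fin 4) F)ᵀ * J4 F * (g4 : Matrix (Fin 4) (Fin 4) F) = J4 F ∧
        g4⁻¹ * x4 * g4 ∈ Subgroup.normalizer (R4 R : Set (GL (Fin 4) F))) →
        ∃ g ∈ Cfsg.spGL 2 F, g⁻¹ * x * g ∈ Cfsg.Geo.subgroupNormalizer R := by
      rintro ⟨g4, hg4, hn⟩
      refine ⟨(ρ F).symm g4, ?_, ?_⟩
      · rw [mem_spGL_iff, MulEquiv.apply_symm_apply]; exact hg4
      · rw [mem_normalizer_iff, map_mul, map_mul, map_inv, MulEquiv.apply_symm_apply]; exact hn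
    apply back
    rcases hcases with hr | ⟨hr, hord⟩
    · subst hr
      exact case_twoS H G hRf4 hx4 hns4 ((pow_scalar x 2 z).mpr hz)
    · subst hr
      exact case_fiveS (p := p) (irreducible_cyclotomic_five2 hF hord) H G Fr hRf4 hx4 hns4
        ((pow_scalar x 5 z).mpr hz)

end Cfsg.Agent.S6002
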